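import Cfsg.Agent.Helper17.ONTC.Facts53

set_option autoImplicit false
set_option linter.all false

noncomputable section

namespace Cfsg.Agent.Helper17.ONTC

theorem F453890 : act 1 n209484 = n191990 := d18_8 F372063 F372059 (iv1 F154488) F75165 D47894 D103354 F352877 D209484 (iv5 D191990)
theorem F453891 : act 3 n209484 = n188011 := d20_3 F165087 D136524 D209484 (iv1 F372087) (iv3 F386677) (iv4 F414229) (iv1 D199936) F174128 (iv3 F340545) (iv1 F352883)
def n209485 : Q := act 4 n136526
theorem D209485 : act 4 n136526 = n209485 := rfl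
theorem F453892 : act 2 n209485 = n193749 := d1_1 D209485 (iv4 D193749) F352865
theorem F453893 : act 7 n209485 = n193751 := d11_2 F359413 D209485 (iv4 D193751)
theorem F453894 : act 5 n209485 = n194404 := d16_1 D209485 (iv4 D194404) (iv5 D103341) F75165 D47894 D103354 F382960 F382959 F352865
theorem F453895 : act 0 n193795 = n209485 := d17_2 (iv1 F372754) F391029 F453894 (iv4 D194404) (iv5 D103341) F154488 D192593 F387192 (iv4 F372753)
theorem F453896 : act 1 n193749 = n192261 := d15_0 (iv0 F390904) (iv7 F453893) F453892
def n209486 : Q := act 5 n136529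
theorem D209486 : act 5 n136529 = n209486 := rfl
theorem F453897 : act 3 n209486 = n152565 := d6_1 D209486 (iv5 D152565) (iv3 F388381)
theorem F453898 : act 0 n149195 = n209486 := d19_0 (iv5 D209486) (iv4 F421641) (iv3 D201743) F179149 F83801 F83793 D76290 (iv1 F161707) (iv5 D105381) (iv4 F77182) F77181 F114256 D159389 (iv4 F372775) (iv3 D188235) (iv1 F370928) F370925 (iv4 F391009) F391008
theorem F453899 : act 6 n136973 = n209486 := d21_5 (iv5 D64385) (iv1 D30319) D30320 (iv6 F100314) D136973 (iv5 D209486) (iv1 D136529) D136530 F219629 (iv1 F172081)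
theorem F453900 : act 1 n203069 = n209486 := d15_0 (iv0 F453898) (iv7 F391006) (iv2 F426870)
def n209487 : Q := act 0 n136530
theorem D209487 : act 0 n136530 = n209487 := rfl
def n209488 : Q := act 4 n136530
theorem D209488 : act 4 n136530 = n209488 := rfl
theorem F453901 : act 6 n209488 = n136535 := d10_2 (iv6 F219629) D209488 (iv4 D136535)
def n209489 : Q := act 7 n136530
theorem D209489 : act 7 n136530 = n209489 := rfl
theorem F453902 : act 5 n209489 = n136531 := d13_1 D209489 (iv7 D136531) D136530
def n209490 : Q := act 2 n136532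
theorem D209490 : act 2 n136532 = n209490 := rfl
theorem F453903 : act 4 n209490 = n192287 := d1_2 F329701 D209490 F386312
theorem F453904 : act 7 n209490 = n203047 := d4_2 (iv7 F365488) D209490 F426767
theorem F453905 : act 1 n209490 = n139156 := d15_0 (iv0 F365490) (iv7 F365488) D209490
theorem F453906 : act 1 n203054 = n209490 := d15_0 F453905 F353000 F426806
def n209491 : Q := act 1 n136534
theorem D209491 : act 1 n136534 = n209491 := rfl
theorem F453907 : act 7 n209491 = n205091 := d15_2 (iv0 F453650) D209491 (iv2 F453648)
def n209492 : Q := act 2 n136534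
theorem D209492 : act 2 n136534 = n209492 := rfl
theorem F453908 : act 3 n209492 = n203047 := d0_2 D136534 D209492 F426767 F184224 (iv2 F328845)
theorem F453909 : act 6 n209492 = n137422 := d3_2 (iv6 F219633) D209492 (iv2 D137422)
theorem F453910 : act 0 n209492 = n205091 := d21_4 (iv5 D203744) F355612 (iv5 F365528) (iv6 F453909) (iv6 D205091) (iv5 F412018) (iv1 F414315) (iv5 D136372) D136373 F429661
theorem F453911 : act 4 n205128 = n209492 := d17_9 F453910 F434940 F452770 (iv5 D209221) F218760 D196929 (iv0 F402337) (iv5 F366758) D205128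
theorem F453912 : act 2 n144300 = n205128 := d1_3 F453911 (iv2 D209492) (iv4 F227007)
theorem F453913 : act 3 n199124 = n205128 := d5_5 F453911 F453908 F426768 (iv3 F357354) (iv4 F410773)
theorem F453914 : act 6 n196672 = n205128 := d10_0 F453911 F453909 (iv4 F401434)
def n209493 : Q := act 3 n136535
theorem D209493 : act 3 n136535 = n209493 := rfl
def n209494 : Q := act 6 n136536
theorem D209494 : act 6 n136536 = n209494 := rfl
theorem F453915 : act 3 n209494 = n193752 := d7_1 D209494 (iv6 D193752) (iv3 F359414)
def n209495 : Q := act 5 n136539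
theorem D209495 : act 5 n136539 = n209495 := rfl
theorem F453916 : act 7 n209495 = n137473 := d13_2 (iv7 F219639) D209495 (iv5 D137473)
theorem F453917 : act 0 n209495 = n136837 := d17_2 F446957 D209495 (iv5 D136837) (iv4 F100290) (iv5 F329392) F329389 (iv5 F419004) F419007 D207909
theorem F453918 : act 1 n209495 = n136839 := d17_6 (iv1 F99128) (iv5 F97693) (iv1 F97696) (iv5 F99923) (iv4 F219638) D209495 (iv5 D136839) F218037 F218035
def n209496 : Q := act 5 n136540
theorem D209496 : act 5 n136540 = n209496 := rfl
theorem F453919 : act 3 n209496 = n136541 := d6_1 D209496 (iv5 D136541) D136540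
theorem F453920 : act 6 n209496 = n177930 := d12_2 (iv6 F219640) D209496 (iv5 F363016) (iv6 F343230) F329155
theorem F453921 : act 0 n209496 = n208858 := d21_7 F327510 F111645 (iv5 F330999) (iv6 F343205) F343229 (iv6 F219640) D209496 F451135 (iv6 F427896) (iv1 F218677)
theorem F453922 : act 6 n208853 = n204663 := d21_5 (iv5 F300527) (iv1 F350264) D204199 F431452 (iv1 F451124) (iv5 F452637) (iv1 F452638) D209496 F453920 (iv1 D177930)
def n209497 : Q := act 5 n136543
theorem D209497 : act 5 n136543 = n209497 := rfl
theorem F453923 : act 3 n209497 = n136545 := d6_1 D209497 (iv5 D136545) D136543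
theorem F453924 : act 4 n209497 = n175768 := d9_1 D209497 (iv5 D175768) (iv4 F130423) F342670 (iv4 F342669) F344860 (iv4 F219764) (iv5 F367947) (iv4 D186767) (iv5 D89109) (iv4 F128476) F342663 (iv4 F342662) F344841 (iv4 F219642)
theorem F453925 : act 6 n209497 = n194711 := d12_2 F338913 D209497 (iv5 D194711) F307397 D157626
theorem F453926 : act 0 n209497 = n136649 := d17_2 F435042 D209497 (iv5 F366635) F279694 (iv5 F250318) F311542 F346570 F279624 (iv4 F435041)
def n209498 : Q := act 0 n136544
theorem D209498 : act 0 n136544 = n209498 := rfl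
theorem F453927 : act 4 n209498 = n205090 := d20_2 D136544 D209498 (iv3 D205090) (iv1 D125470) (iv3 D58740) (iv4 D27929) D27927 F46393 D30246 D64193
theorem F453928 : act 3 n209498 = n192689 := d20_5 (iv4 F317013) (iv1 F352303) (iv4 F434554) F434553 D209498 (iv4 F387495) F358709 (iv4 F79280) (iv3 F79402) (iv1 F246649)
theorem F453929 : act 6 n209498 = n188950 := d21_5 F319708 (iv1 F338957) F338953 F338914 D209498 (iv5 D188950) (iv1 D92923) D92925 (iv6 F242857) (iv1 F242859)
theorem F453930 : act 1 n136549 = n209498 := d15_0 (iv0 D209498) (iv7 F434540) F434537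
theorem F453931 : act 5 n209498 = n193053 := d17_7 (iv1 F343910) (iv5 D136545) (iv1 F218615) D209173 F452571 F372016 F453930 (iv0 F388605) (iv4 D136666)
theorem F453932 : act 2 n208580 = n209498 := d3_3 F453929 F386844 (iv6 F449990)
theorem F453933 : act 7 n196474 = n209498 := d15_2 (iv0 F449989) (iv0 F404769) (iv2 F453932)
def n209499 : Q := act 1 n136544
theorem D209499 : act 1 n136544 = n209499 := rfl
theorem F453934 : act 1 n209499 = n136549 := d15_1 D209499 (iv7 F404767) (iv2 F404770)
theorem F453935 : act 7 n209499 = n208580 := d15_2 (iv0 D209498) D209499 F453932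
theorem F453936 : act 3 n156570 = n209499 := d19_19 (iv1 D209499) F219648 (iv4 D136556) F100011 D64198 F100013 (iv4 D62015) (iv3 F48397) (iv1 F48399) (iv5 D16488) (iv4 F11894) (iv3 D7657) (iv1 F11892) (iv5 F26072) (iv4 F53414) (iv3 F111034) (iv1 F349771) F349760 F246211
theorem F453937 : act 2 n209499 = n196474 := d0_1 F453936 (iv3 D196474) F358689 F277709 (iv2 F349752)
theorem F453938 : act 6 n209499 = n177799 := d7_2 (iv6 F349754) F453936 F277298
def n209500 : Q := act 6 n136550
theorem D209500 : act 6 n136550 = n209500 := rfl
theorem F453939 : act 3 n209500 = n188171 := d7_1 D209500 (iv6 F450091) F450090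
theorem F453940 : act 4 n209500 = n197651 := d10_1 D209500 (iv6 D197651) (iv4 F219645)
theorem F453941 : act 5 n209500 = n137672 := d12_1 D209500 (iv6 D137672) (iv5 D64717) (iv6 F338931) D136550
theorem F453942 : act 7 n209500 = n191739 := d14_2 (iv7 F338902) D209500 F384305 F308566 D184048
theorem F453943 : act 0 n209500 = n136686 := d21_4 (iv5 D209173) (iv1 F218617) D136550 D209500 F407343 (iv5 F410443) F410445 (iv5 F369487) (iv6 F404937) (iv1 F452573)
def n209501 : Q := act 5 n136553
theorem D209501 : act 5 n136553 = n209501 := rfl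
theorem F453944 : act 2 n209501 = n136560 := d2_1 D209501 (iv5 D136560) (iv2 F219647)
def n209502 : Q := act 3 n136554
theorem D209502 : act 3 n136554 = n209502 := rfl
theorem F453945 : act 4 n209502 = n175769 := d5_2 (iv4 F404935) D209502 (iv3 F275196) (iv4 F279969) (iv3 F404928)
theorem F453946 : act 5 n209502 = n209364 := d6_2 F448159 D209502 F453403
theorem F453947 : act 0 n209502 = n136630 := d19_4 (iv1 F221713) (iv5 F404929) (iv4 F404935) D209502 (iv5 D136630) (iv4 F314595) (iv3 D40248) F43243 (iv5 F54942) (iv4 D34701) (iv3 F54940) (iv1 F306172) (iv5 D73421) (iv4 F107951) F107950 F199686 F309996 D65057 D138527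
def n209503 : Q := act 4 n136559
theorem D209503 : act 4 n136559 = n209503 := rfl
theorem F453948 : act 7 n209503 = n193237 := d11_2 (iv7 F358541) D209503 F389275
def n209504 : Q := act 0 n136560
theorem D209504 : act 0 n136560 = n209504 := rfl
theorem F453949 : act 4 n209504 = n209127 := d18_3 F439770 (iv4 F418433) D209504 (iv5 D209127) (iv4 F441316) F441319 (iv4 F342938) (iv0 F419058) (iv5 F439769)
theorem F453950 : act 5 n209504 = n205853 := d21_8 F406414 (iv1 F219252) (iv5 D64717) (iv6 F338931) (iv1 D64194) D64197 D136560 D209504 (iv6 D205853) (iv1 F406416)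
theorem F453951 : act 6 n189574 = n209504 := d12_0 F453950 (iv6 D205853) F203887 (iv6 F398837) F398838
def n209505 : Q := act 1 n136560
theorem D209505 : act 1 n136560 = n209505 := rfl
def n209506 : Q := act 7 n136560
theorem D209506 : act 7 n136560 = n209506 := rfl
theorem F453952 : act 3 n209506 = n136570 := d8_1 D209506 (iv7 D136570) (iv3 F219650)
theorem F453953 : act 5 n209506 = n136561 := d13_1 D209506 (iv7 D136561) D136560
def n209507 : Q := act 7 n136566
theorem D209507 : act 7 n136566 = n209507 := rfl
theorem F453954 : act 3 n209507 = n206201 := d8_1 D209507 F439687 F358538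
theorem F453955 : act 4 n209507 = n206206 := d11_1 D209507 F439714 F420009
theorem F453956 : act 5 n209507 = n136567 := d13_1 D209507 (iv7 D136567) D136566
theorem F453957 : act 1 n202445 = n209507 := d15_1 F452561 (iv7 D209507) (iv2 F452559)
def n209508 : Q := act 3 n136568
theorem D209508 : act 3 n136568 = n209508 := rfl
theorem F453958 : act 2 n209508 = n201607 := d0_1 D209508 (iv3 F450873) F450872 F447583 F220024
theorem F453959 : act 4 n209508 = n187535 := d5_2 F453802 D209508 F370715 (iv4 F370721) (iv3 F453805)
theorem F453960 : act 5 n209508 = n198591 := d6_2 (iv5 F219658) D209508 F408423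
theorem F453961 : act 7 n209508 = n198590 := d8_2 (iv7 F219657) D209508 F408422
theorem F453962 : act 6 n187534 = n209508 := d14_5 F453961 (iv6 F450131) F450134 (iv6 D187866) (iv7 F370713)
theorem F453963 : act 1 n136623 = n209508 := d15_1 (iv0 F450870) F453961 (iv2 F450865)
theorem F453964 : act 0 n203375 = n209508 := d17_2 F359425 (iv5 F428090) F453960 F408424 (iv5 F222153) F334964 F183672 (iv0 F316928) (iv4 F359422)
def n209509 : Q := act 6 n136568
theorem D209509 : act 6 n136568 = n209509 := rfl
theorem F453965 : act 3 n209509 = n187534 := d7_1 D209509 F453962 (iv3 D209508)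
theorem F453966 : act 4 n209509 = n187536 := d10_1 D209509 F453803 F453802
theorem F453967 : act 5 n209509 = n209420 := d12_1 D209509 (iv6 D209420) (iv5 D136448) (iv6 F169565) (iv5 F219658)
theorem F453968 : act 7 n209509 = n187864 := d14_2 (iv7 F219657) D209509 F444162 F444158 F327502
theorem F453969 : act 1 n206220 = n209509 := d15_1 (iv0 F444173) F453968 (iv2 F444170)
def n209510 : Q := act 1 n136569
theorem D209510 : act 1 n136569 = n209510 := rfl
theorem F453970 : act 7 n209510 = n136868 := d15_2 F452707 D209510 (iv2 F452705)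
theorem F453971 : act 4 n209510 = n136869 := d18_7 (iv1 F218573) F218574 F166512 F92809 D64201 D136569 D209510 F220057 F219614
theorem F453972 : act 6 n206225 = n209510 := d21_3 F387672 (iv1 F420050) (iv5 F439801) (iv1 D209510) (iv6 F420011) F420010 F400197 F400194 (iv6 D192756) (iv1 F387674)
theorem F453973 : act 2 n209510 = n209465 := d3_1 F453972 (iv6 F453796) F439800
def n209511 : Q := act 5 n136569
theorem D209511 : act 5 n136569 = n209511 := rfl
theorem F453974 : act 2 n209511 = n198563 := d2_1 D209511 (iv5 F452567) F452566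
theorem F453975 : act 4 n209511 = n174694 := d16_2 D136569 D209511 (iv5 D174694) (iv4 F326926) (iv5 F167120) (iv4 F218607) (iv5 F220019) F220021 F218604
theorem F453976 : act 7 n209511 = n198461 := d16_8 (iv4 D199921) (iv5 D111994) (iv4 F93029) F93030 F92809 D64201 D136569 D209511 (iv2 F414160)
def n209512 : Q := act 7 n136569
theorem D209512 : act 7 n136569 = n209512 := rfl
theorem F453977 : act 3 n209512 = n196580 := d8_1 D209512 (iv7 F418436) F418434
theorem F453978 : act 4 n209512 = n136570 := d11_1 D209512 (iv7 D136570) D136569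
theorem F453979 : act 5 n209512 = n198461 := d13_1 D209512 (iv7 F453976) (iv5 D209511)
theorem F453980 : act 6 n209512 = n196579 := d14_1 D209512 (iv7 F436718) (iv6 F439713) F439714 F420011
theorem F453981 : act 1 n209465 = n209512 := d15_1 (iv0 F453795) (iv7 D209512) (iv2 F452566)
theorem F453982 : act 1 n209512 = n136868 := d15_1 F453981 (iv7 F453970) F453973
def n209513 : Q := act 6 n136570
theorem D209513 : act 6 n136570 = n209513 := rfl
theorem F453983 : act 4 n209513 = n196579 := d10_1 D209513 (iv6 F453980) F453978
def n209514 : Q := act 4 n136574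
theorem D209514 : act 4 n136574 = n209514 := rfl
theorem F453984 : act 3 n209514 = n195983 := d19_3 D64203 D136574 D209514 (iv1 D195983) (iv5 D106495) (iv4 F324327) (iv3 D49694) (iv1 F77795) (iv5 D49246) (iv4 D24033) (iv3 F26136) (iv1 F46442) F46440 (iv4 F79331) F79330 (iv1 D28226) F45105 F45108 D30249
def n209515 : Q := act 6 n136574
theorem D209515 : act 6 n136574 = n209515 := rfl
theorem F453985 : act 3 n209515 = n192648 := d7_1 D209515 (iv6 F391923) F391922
theorem F453986 : act 5 n209515 = n137774 := d12_1 D209515 (iv6 D137774) (iv5 D64753) F352948 D136574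
theorem F453987 : act 7 n209515 = n192633 := d14_2 (iv7 F444897) D209515 (iv6 D192633) F311797 D207435
def n209516 : Q := act 4 n136577
theorem D209516 : act 4 n136577 = n209516 := rfl
theorem F453988 : act 2 n209516 = n196461 := d1_1 D209516 (iv4 F435027) F435032
theorem F453989 : act 3 n209516 = n197364 := d5_1 D209516 (iv4 D197364) F219664 (iv4 D136578) D136577
theorem F453990 : act 7 n209516 = n196469 := d11_2 F435035 D209516 F453646
theorem F453991 : act 1 n209516 = n196470 := d18_8 F412016 F409358 F380403 D194986 (iv5 F395309) (iv4 F435052) F435055 D209516 F412017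
theorem F453992 : act 0 n209516 = n196473 := d20_1 D209516 (iv4 F400777) D205090 F434944 (iv3 D181759) (iv4 D86805) F309999 (iv4 D64216) D64215 (iv1 F366314)
theorem F453993 : act 5 n203899 = n209516 := d19_1 F430294 (iv4 D209516) (iv3 D136577) (iv1 D64204) D64206 D136585 (iv3 F441468) F443725 (iv5 D207191) F413981 F413978 F354550 (iv5 F354547) (iv4 F409421) F409418 F222461 (iv5 F202003) F202002 (iv3 F412691)
def n209517 : Q := act 5 n136577
theorem D209517 : act 5 n136577 = n209517 := rfl
theorem F453994 : act 2 n209517 = n192658 := d2_1 D209517 F435033 F435032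
theorem F453995 : act 3 n209517 = n136579 := d6_1 D209517 (iv5 D136579) D136577
theorem F453996 : act 0 n136645 = n209517 := d21_10 (iv5 D209517) (iv1 F435055) F435053 (iv6 D201548) (iv1 F239380) (iv6 F345131) (iv5 F291847) D188073 F372242 (iv6 F427863)
theorem F453997 : act 6 n209517 = n192651 := d21_5 (iv5 F291847) D188073 F372242 (iv6 F427863) F453996 (iv5 D192651) F364882 D191404 F383368 F371261
def n209518 : Q := act 6 n136577
theorem D209518 : act 6 n136577 = n209518 := rfl
theorem F453998 : act 2 n209518 = n192659 := d3_1 D209518 (iv6 F435031) F435032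
theorem F453999 : act 3 n209518 = n136580 := d7_1 D209518 (iv6 D136580) D136577
theorem F454000 : act 5 n209518 = n192652 := d12_1 D209518 (iv6 D192652) D192651 (iv6 F453997) (iv5 D209517)
theorem F454001 : act 7 n209518 = n137782 := d14_2 F435035 D209518 (iv6 D137782) (iv7 F219040) (iv6 F435038)
theorem F454002 : act 0 n138048 = n209518 := d17_2 F351746 (iv5 F363871) F454000 F387360 F364462 F257003 (iv5 F320200) (iv0 F340239) F268250
def n209519 : Q := act 6 n136578
theorem D209519 : act 6 n136578 = n209519 := rfl
theorem F454003 : act 3 n209519 = n197365 := d7_1 D209519 (iv6 D197365) F219664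
theorem F454004 : act 4 n209519 = n136580 := d10_1 D209519 (iv6 D136580) D136578
theorem F454005 : act 7 n209519 = n137784 := d14_2 F397079 D209519 (iv6 D137784) (iv7 F347208) (iv6 F397077)
theorem F454006 : act 5 n193416 = n209519 := d21_8 D197397 (iv1 F404137) (iv5 F414637) (iv6 D200016) D200013 F414627 (iv5 D193419) D193416 (iv6 D209519) F366313
def n209520 : Q := act 4 n136579
theorem D209520 : act 4 n136579 = n209520 := rfl
theorem F454007 : act 6 n209520 = n203444 := d10_2 F362507 D209520 F428337
theorem F454008 : act 5 n209520 = n200024 := d16_1 D209520 (iv4 D200024) (iv5 D112255) (iv4 F174599) (iv5 F352946) (iv4 D136573) D136574 F444897 F444892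
theorem F454009 : act 0 n209520 = n208880 := d17_0 F451222 (iv1 F410024) (iv5 F420507) F452530 F452529 (iv0 D205082) F201751 (iv0 F393995) D209520
theorem F454010 : act 0 n201368 = n209520 := d20_10 (iv4 D209520) F393995 D136675 F362771 (iv1 F398548) F398551 F284759 D189573 (iv4 F450657) F450661
theorem F454011 : act 3 n201768 = n209520 := d20_5 (iv4 F421755) (iv1 D201773) F179167 (iv3 F179165) D201768 (iv4 D209520) F393995 D136675 F362771 (iv1 F398548)
def n209521 : Q := act 0 n136582
theorem D209521 : act 0 n136582 = n209521 := rfl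
theorem F454012 : act 5 n209521 = n202069 := d19_1 D209521 (iv4 D202069) F179633 D115369 F201768 (iv4 F172049) (iv3 D110991) F321408 F319408 (iv4 F78406) F320598 (iv1 F94876) (iv5 F206045) (iv4 D128042) (iv3 F206037) F372031 (iv5 F372033) (iv4 F452578) F452577
theorem F454013 : act 2 n136587 = n209521 := d15_3 (iv0 D209521) F391551 F391555
theorem F454014 : act 7 n136588 = n209521 := d15_2 (iv0 D136587) D136588 (iv2 F454013)
theorem F454015 : act 2 n193967 = n136588 := d4_3 F454014 (iv2 F454013) (iv7 F391555)
theorem F454016 : act 1 n136590 = n209521 := d15_1 (iv0 F391550) (iv7 F454014) (iv2 F454015)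
theorem F454017 : act 6 n136588 = n193966 := d3_2 D193967 F454015 (iv2 D193966)
def n209522 : Q := act 5 n136582
theorem D209522 : act 5 n136582 = n209522 := rfl
theorem F454018 : act 2 n209522 = n136589 := d2_1 D209522 (iv5 D136589) (iv2 F219666)
theorem F454019 : act 3 n209522 = n185316 := d6_1 D209522 (iv5 F452579) F452577
theorem F454020 : act 6 n209522 = n192795 := d12_2 D136582 D209522 (iv5 D192795) (iv6 F367391) (iv5 D136581)
theorem F454021 : act 0 n185473 = n209522 := d21_1 F385842 (iv5 D209522) (iv6 D136582) (iv1 F218597) F391939 D136097 F360512 (iv5 F162008) D195326 F396715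
def n209523 : Q := act 7 n136582
theorem D209523 : act 7 n136582 = n209523 := rfl
theorem F454022 : act 2 n209523 = n136590 := d4_1 D209523 (iv7 D136590) (iv2 F219666)
theorem F454023 : act 1 n136588 = n209523 := d15_1 D136588 (iv7 D209523) F219666
theorem F454024 : act 1 n209523 = n136587 := d15_1 F454023 (iv7 F391555) F454015
def n209524 : Q := act 3 n136583
theorem D209524 : act 3 n136583 = n209524 := rfl
theorem F454025 : act 5 n209524 = n193656 := d6_2 (iv5 F414638) D209524 (iv3 F403728)
theorem F454026 : act 7 n209524 = n192759 := d8_2 (iv7 F452534) D209524 F452532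
theorem F454027 : act 0 n192736 = n209524 := d17_2 (iv1 F391918) F391920 F454025 (iv4 D193656) (iv5 F352910) (iv0 F352912) F210043 F175772 (iv4 F387420)
def n209525 : Q := act 4 n136583
theorem D209525 : act 4 n136583 = n209525 := rfl
theorem F454028 : act 7 n209525 = n201436 := d11_2 (iv7 F452534) D209525 F452530
theorem F454029 : act 5 n209525 = n196137 := d16_7 (iv4 F447983) F447984 F415627 (iv5 F414637) F414636 (iv5 F414638) D209525 F399576 F420328
theorem F454030 : act 3 n187957 = n209525 := d20_5 (iv4 F377630) (iv1 D187962) F139612 (iv3 F139610) D187957 (iv4 D209525) (iv1 F452521) F452519 F387814 (iv1 F377629)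
def n209526 : Q := act 3 n136584
theorem D209526 : act 3 n136584 = n209526 := rfl
theorem F454031 : act 4 n152578 = n209526 := d20_2 (iv4 F434937) (iv1 F428991) (iv3 D209526) (iv1 D136584) F100018 (iv4 F99702) F99703 (iv4 F99800) (iv3 F219489) F434939
theorem F454032 : act 6 n209526 = n202286 := d10_2 F354440 F454031 F423492
theorem F454033 : act 1 n209526 = n136608 := d18_8 (iv1 F366314) D209516 F453992 (iv4 F400777) (iv5 F412018) F239766 D152578 F454031 (iv5 D136608)
theorem F454034 : act 1 n201548 = n209526 := d15_0 F454033 (iv7 F435075) F435072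
def n209527 : Q := act 4 n136584
theorem D209527 : act 4 n136584 = n209527 := rfl
theorem F454035 : act 2 n209527 = n201436 := d1_1 D209527 F452530 (iv2 F452533)
theorem F454036 : act 3 n209527 = n202951 := d5_1 D209527 F426350 F365707 F454031 (iv3 D209526)
theorem F454037 : act 5 n209527 = n198949 := d16_1 D209527 (iv4 F447983) F447984 F415627 (iv5 F414637) F414636 (iv5 F414638) F452534 (iv2 F452533)
theorem F454038 : act 6 n201435 = n209527 := d12_0 F454037 (iv6 F426034) (iv5 D202885) (iv6 F331612) (iv5 F420502)
def n209528 : Q := act 6 n136584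
theorem D209528 : act 6 n136584 = n209528 := rfl
theorem F454039 : act 2 n209528 = n192757 := d3_1 D209528 (iv6 F452531) (iv2 F452533)
theorem F454040 : act 3 n209528 = n202286 := d7_1 D209528 (iv6 F454032) (iv3 D209526)
theorem F454041 : act 4 n209528 = n201435 := d10_1 D209528 F454038 (iv4 D209527)
theorem F454042 : act 7 n209528 = n201496 := d14_2 F452536 D209528 (iv6 F420716) (iv7 F429211) F452538
theorem F454043 : act 0 n209528 = n203460 := d21_4 (iv5 F434913) (iv1 F434916) (iv5 F434917) D209528 (iv6 D203460) F187535 (iv1 F96306) D131487 D207435 (iv1 F444896)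
theorem F454044 : act 0 n188394 = n209528 := d21_4 (iv5 D46896) F66960 D91343 D188394 (iv6 D209528) F434917 (iv1 D197250) (iv5 F218646) (iv6 F362779) (iv1 D100520)
theorem F454045 : act 5 n209528 = n202285 := d19_1 F454044 F423488 (iv3 D195477) (iv1 D105618) D105620 D195484 F397121 D198641 F408666 F391532 (iv3 F387857) (iv1 F387860) F373095 (iv4 D109044) (iv3 F168568) (iv1 F168573) D109081 F352254 (iv3 F373274)
def n209529 : Q := act 0 n136585
theorem D209529 : act 0 n136585 = n209529 := rfl
theorem F454046 : act 5 n209529 = n151703 := d17_1 D209529 (iv1 F416450) (iv5 F451201) F451200 (iv5 F434913) F434915 (iv5 F414638) (iv0 D136583) D136585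
theorem F454047 : act 4 n209529 = n204468 := d18_3 (iv1 D136584) D136585 D209529 F432628 (iv4 D197265) (iv0 D108059) (iv4 F166988) D197250 (iv5 F434917)
theorem F454048 : act 6 n209529 = n204467 := d21_5 F362399 F362397 D100702 F367394 D209529 F432624 F419673 (iv5 D188109) (iv6 D90812) D90809
theorem F454049 : act 2 n151704 = n209529 := d15_3 (iv0 D209529) (iv0 F416458) F416457
theorem F454050 : act 1 n192797 = n209529 := d15_0 (iv0 D209529) (iv7 F452541) F452540
theorem F454051 : act 7 n209529 = n192796 := d15_2 (iv0 F416459) F454050 (iv2 F416455)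
def n209530 : Q := act 1 n136586
theorem D209530 : act 1 n136586 = n209530 := rfl
theorem F454052 : act 1 n209530 = n192725 := d15_1 D209530 (iv7 F387602) F367392
theorem F454053 : act 7 n209530 = n152558 := d15_2 (iv0 F367395) D209530 F361004
theorem F454054 : act 4 n209530 = n192390 := d18_7 F386913 F376455 (iv1 F375473) F154387 D100702 (iv4 F367393) D209530 (iv0 F386914) (iv5 F386906)
theorem F454055 : act 3 n152286 = n209530 := d20_3 (iv4 D71847) D71845 D152286 (iv1 D209530) F219667 (iv4 F219403) F421886 (iv4 F388376) F388375 (iv1 D152290)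
theorem F454056 : act 2 n209530 = n192727 := d0_1 F454055 F387606 F361018 (iv3 D152550) (iv2 F239372)
def n209531 : Q := act 5 n136586
theorem D209531 : act 5 n136586 = n209531 := rfl
theorem F454057 : act 2 n209531 = n192795 := d2_1 D209531 (iv5 D192795) F367392
theorem F454058 : act 3 n209531 = n136593 := d6_1 D209531 (iv5 D136593) (iv3 F219667)
theorem F454059 : act 6 n209531 = n136589 := d12_2 D136586 D209531 (iv5 D136589) (iv6 D64207) D64206
theorem F454060 : act 4 n209531 = n192449 := d16_2 (iv4 F367393) D209531 (iv5 D192449) (iv4 D100190) (iv5 F292681) F143503 (iv5 F154815) (iv7 D100707) (iv2 F154811)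
def n209532 : Q := act 7 n136586
theorem D209532 : act 7 n136586 = n209532 := rfl
theorem F454061 : act 2 n209532 = n192725 := d4_1 D209532 (iv7 F387602) F367392
theorem F454062 : act 3 n209532 = n136594 := d8_1 D209532 (iv7 D136594) (iv3 F219667)
theorem F454063 : act 4 n209532 = n187716 := d11_1 D209532 F371303 (iv4 F367393)
theorem F454064 : act 1 n192727 = n209532 := d15_1 F387607 (iv7 D209532) (iv2 F367392)
theorem F454065 : act 1 n209532 = n152558 := d15_1 F454064 (iv7 F454053) F454056
def n209533 : Q := act 4 n136587
theorem D209533 : act 4 n136587 = n209533 := rfl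
theorem F454066 : act 3 n209533 = n199938 := d5_1 D209533 F414234 (iv3 F340548) (iv4 F391553) (iv3 F391554)
theorem F454067 : act 7 n209533 = n199935 := d11_2 F391555 D209533 F414225
theorem F454068 : act 0 n150034 = n209533 := d20_4 (iv4 D73376) (iv1 F106804) D70590 D150034 F454066 F414234 (iv1 F358500) F244736 (iv3 D118252) (iv1 F110081)
def n209534 : Q := act 5 n136587
theorem D209534 : act 5 n136587 = n209534 := rfl
theorem F454069 : act 2 n209534 = n202069 := d2_1 D209534 (iv5 F454012) (iv2 F454013)
theorem F454070 : act 3 n209534 = n194107 := d6_1 D209534 (iv5 F433008) (iv3 F391554)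
theorem F454071 : act 4 n202049 = n209534 := d5_0 F454070 (iv4 F433006) F433005 (iv4 F433024) F433023
theorem F454072 : act 6 n194105 = n209534 := d7_0 F454070 (iv6 D194107) D194105
def n209535 : Q := act 6 n136587
theorem D209535 : act 6 n136587 = n209535 := rfl
def n209536 : Q := act 3 n136588
theorem D209536 : act 3 n136588 = n209536 := rfl
theorem F454073 : act 6 n209536 = n137889 := d7_2 (iv6 F454017) D209536 (iv3 F391544)
def n209537 : Q := act 4 n136588
theorem D209537 : act 4 n136588 = n209537 := rfl
theorem F454074 : act 2 n209537 = n199935 := d1_1 D209537 F414225 F454015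
theorem F454075 : act 6 n209537 = n199934 := d10_2 (iv6 F454017) D209537 F414219
theorem F454076 : act 0 n209537 = n150034 := d21_4 F414625 (iv1 F227206) (iv5 F414220) (iv6 F454075) (iv6 F366664) D197397 (iv1 F404137) (iv5 F414637) (iv6 D200016) D200013
def n209538 : Q := act 5 n136588
theorem D209538 : act 5 n136588 = n209538 := rfl
theorem F454077 : act 7 n209538 = n202069 := d13_2 (iv7 F454014) D209538 (iv5 F454012)
theorem F454078 : act 4 n202070 = n209538 := d11_3 F454077 (iv4 D202069) D202070
def n209539 : Q := act 0 n136589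
theorem D209539 : act 0 n136589 = n209539 := rfl
def n209540 : Q := act 1 n136589
theorem D209540 : act 1 n136589 = n209540 := rfl
theorem F454079 : act 6 n156126 = n209540 := d21_3 (iv5 D87720) D87718 (iv5 F340587) (iv1 D209540) (iv6 F454059) (iv5 D209531) F367395 D192726 F387605 F157918
theorem F454080 : act 2 n209540 = n185473 := d3_1 F454079 (iv6 D185473) (iv2 F340586)
theorem F454081 : act 4 n209540 = n137041 := d10_1 F454079 F220171 D156126
def n209541 : Q := act 4 n136589
theorem D209541 : act 4 n136589 = n209541 := rfl
theorem F454082 : act 6 n209541 = n192449 := d10_2 F454059 D209541 (iv4 F454060)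
def n209542 : Q := act 7 n136589
theorem D209542 : act 7 n136589 = n209542 := rfl
theorem F454083 : act 3 n209542 = n136596 := d8_1 D209542 (iv7 D136596) (iv3 F219668)
theorem F454084 : act 5 n209542 = n136590 := d13_1 D209542 (iv7 D136590) D136589
theorem F454085 : act 1 n185473 = n209542 := d15_1 (iv0 F454021) (iv7 D209542) (iv2 F454018)
theorem F454086 : act 0 n137839 = n209168 := d21_4 (iv5 D189600) (iv1 F365471) (iv5 D137838) D137839 F452553 (iv5 F454084) (iv1 F454085) (iv5 F385842) (iv6 D192169) (iv1 F377074)
def n209543 : Q := act 5 n136592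
theorem D209543 : act 5 n136592 = n209543 := rfl
theorem F454087 : act 3 n209543 = n177953 := d6_1 D209543 F447659 F447656
theorem F454088 : act 6 n209543 = n138079 := d12_2 F442273 D209543 (iv5 F434482) F434481 D206810
theorem F454089 : act 7 n209543 = n193638 := d13_2 (iv7 F375578) D209543 F390535
theorem F454090 : act 0 n149132 = n209543 := d21_10 (iv5 D209543) (iv1 D136592) D136593 F219670 F111277 D137026 F363010 (iv1 F106342) D69984 D149132
def n209544 : Q := act 0 n136593
theorem D209544 : act 0 n136593 = n209544 := rfl
def n209545 : Q := act 1 n136593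
theorem D209545 : act 1 n136593 = n209545 := rfl
def n209546 : Q := act 4 n136593
theorem D209546 : act 4 n136593 = n209546 := rfl
theorem F454091 : act 6 n209546 = n136595 := d10_2 (iv6 F219670) D209546 (iv4 D136595)
def n209547 : Q := act 7 n136593
theorem D209547 : act 7 n136593 = n209547 := rfl
theorem F454092 : act 5 n209547 = n136594 := d13_1 D209547 (iv7 D136594) D136593
def n209548 : Q := act 3 n136595
theorem D209548 : act 3 n136595 = n209548 := rfl
def n209549 : Q := act 5 n136595
theorem D209549 : act 5 n136595 = n209549 := rfl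
theorem F454093 : act 4 n209549 = n140260 := d16_2 D136595 D209549 (iv5 D140260) (iv4 F176287) (iv5 F217028) (iv4 F218626) (iv5 F220147) F220146 F218623
theorem F454094 : act 0 n209549 = n202099 := d17_2 (iv1 F423452) D209549 F422875 (iv4 D136997) F201767 (iv0 D115381) D115384 (iv0 F218759) (iv4 F423447)
theorem F454095 : act 1 n209549 = n202096 := d17_8 (iv1 F400999) F400997 (iv1 F165015) D115367 D202092 (iv5 F452772) F452774 D209549 (iv4 D202096)
def n209550 : Q := act 7 n136595
theorem D209550 : act 7 n136595 = n209550 := rfl
theorem F454096 : act 4 n209550 = n136596 := d11_1 D209550 (iv7 D136596) D136595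
theorem F454097 : act 1 n136982 = n209550 := d15_1 F452611 (iv7 D209550) (iv2 F452609)
theorem F454098 : act 1 n209550 = n136991 := d15_1 F454097 F423451 F423445
def n209551 : Q := act 6 n136596
theorem D209551 : act 6 n136596 = n209551 := rfl
theorem F454099 : act 0 n209551 = n203416 := d21_4 (iv5 D202116) (iv1 F179661) (iv5 F219671) D209551 (iv6 F428198) (iv5 D138077) (iv1 D64882) D64883 (iv6 F203890) (iv1 F422936)
def n209552 : Q := act 5 n136601
theorem D209552 : act 5 n136601 = n209552 := rfl
theorem F454100 : act 3 n209552 = n136603 := d6_1 D209552 (iv5 D136603) D136601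
theorem F454101 : act 7 n209552 = n136630 := d13_2 (iv7 F219686) D209552 (iv5 D136630)
theorem F454102 : act 4 n209552 = n191751 := d16_2 F316895 D209552 (iv5 D191751) D191750 F384348 F355099 (iv5 D181800) (iv7 F279621) (iv2 D179562)
def n209553 : Q := act 6 n136601
theorem D209553 : act 6 n136601 = n209553 := rfl
theorem F454103 : act 3 n209553 = n136604 := d7_1 D209553 (iv6 D136604) D136601
theorem F454104 : act 4 n209553 = n176095 := d10_1 D209553 F334752 F316895
theorem F454105 : act 7 n209553 = n206375 := d14_2 (iv7 F219686) D209553 (iv6 D206375) F206676 F314606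
theorem F454106 : act 1 n166233 = n209553 := d18_6 (iv1 F272045) D176091 (iv1 F347630) F275561 (iv5 F304136) (iv4 F261723) F454104 F275353 (iv5 F272043)
def n209554 : Q := act 5 n136604
theorem D209554 : act 5 n136604 = n209554 := rfl
theorem F454107 : act 2 n209554 = n136623 := d2_1 D209554 (iv5 D136623) (iv2 F219693)
theorem F454108 : act 7 n209554 = n203375 := d13_2 (iv7 F314613) D209554 F428090
theorem F454109 : act 4 n209554 = n203377 := d16_2 (iv4 F314612) D209554 F428099 F229733 (iv5 F397379) F397378 (iv5 F250979) (iv7 F312163) (iv2 F312268)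
theorem F454110 : act 0 n209554 = n198590 := d17_2 (iv1 F453829) D209554 (iv5 D198590) F169560 D109679 (iv0 F222254) (iv5 D139072) (iv0 F322178) (iv4 F453826)
theorem F454111 : act 1 n209554 = n201607 := d17_8 (iv1 F363439) (iv5 D146614) (iv1 F317595) D114880 D201605 F421112 (iv0 F314611) D209554 (iv4 D201607)
def n209555 : Q := act 5 n136606
theorem D209555 : act 5 n136606 = n209555 := rfl
theorem F454112 : act 3 n209555 = n188127 := d6_1 D209555 (iv5 F386010) (iv3 F386012)
theorem F454113 : act 7 n209555 = n192658 := d13_2 (iv7 F435029) D209555 F435033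
theorem F454114 : act 0 n209555 = n136645 := d17_2 (iv1 F435054) D209555 F441212 (iv4 D206535) (iv5 F435081) (iv0 D205130) (iv5 D125511) (iv0 F219724) (iv4 F435052)
theorem F454115 : act 4 n209555 = n188064 := d17_4 (iv1 F454034) (iv5 F435053) (iv1 F435054) D209555 (iv5 F432924) (iv0 D200284) F175880 D152578 F454031
def n209556 : Q := act 1 n136608
theorem D209556 : act 1 n136608 = n209556 := rfl
theorem F454116 : act 1 n209556 = n201548 := d15_1 D209556 F435047 F435045
theorem F454117 : act 4 n152577 = n209556 := d20_0 (iv1 D209556) (iv4 F420659) F420657 D201479 (iv3 F420663) (iv4 F388623) (iv1 F388625) F178380 (iv3 F108456) D152577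
def n209557 : Q := act 6 n136608
theorem D209557 : act 6 n136608 = n209557 := rfl
theorem F454118 : act 3 n209557 = n136619 := d7_1 D209557 (iv6 D136619) (iv3 F219694)
theorem F454119 : act 4 n209557 = n201487 := d10_1 D209557 F420686 F420659
theorem F454120 : act 7 n209557 = n201486 := d14_2 F435075 D209557 F420681 F239734 (iv6 F435076)
theorem F454121 : act 5 n191875 = n209557 := d13_3 F454120 F420682 (iv7 F412782)
theorem F454122 : act 0 n152516 = n209557 := d18_2 D71935 D152516 F454119 F420685 (iv4 F290472) (iv0 D152489) (iv4 D71927) (iv0 D33234) D33236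
theorem F454123 : act 1 n152521 = n209557 := d18_6 (iv1 D208139) F214567 F339247 (iv4 F183788) (iv5 F346140) D152521 F454119 (iv0 F427992) F448056
theorem F454124 : act 0 n136619 = n198802 := d20_4 F431403 F427992 (iv4 F454119) F454118 (iv3 D198802) (iv4 D110283) D110281 (iv4 F407504) F407503 F431405
def n209558 : Q := act 5 n136609
theorem D209558 : act 5 n136609 = n209558 := rfl
theorem F454125 : act 3 n209558 = n136623 := d6_1 D209558 (iv5 D136623) (iv3 F219695)
theorem F454126 : act 6 n209558 = n191875 := d12_2 D136609 D209558 F454121 (iv6 D209557) (iv5 D136608)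
theorem F454127 : act 4 n199660 = n209558 := d10_3 F454126 F412781 D199660
def n209559 : Q := act 6 n136618
theorem D209559 : act 6 n136618 = n209559 := rfl
theorem F454128 : act 3 n209559 = n198072 := d7_1 D209559 F406659 (iv3 F219758)
theorem F454129 : act 4 n209559 = n136619 := d10_1 D209559 (iv6 D136619) D136618
theorem F454130 : act 5 n209559 = n136874 := d12_1 D209559 (iv6 F385242) F385241 F311967 (iv5 F309082)
theorem F454131 : act 7 n209559 = n201499 := d14_2 F382811 D209559 F420732 F335407 (iv6 F382810)
def n209560 : Q := act 5 n136619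
theorem D209560 : act 5 n136619 = n209560 := rfl
theorem F454132 : act 3 n209560 = n191875 := d6_1 D209560 F454121 F454118
theorem F454133 : act 6 n209560 = n136623 := d12_2 D136619 D209560 (iv5 D136623) (iv6 D64218) D64217
theorem F454134 : act 7 n209560 = n203387 := d13_2 F413440 D209560 F428118
theorem F454135 : act 4 n209560 = n203388 := d19_2 F413445 D209560 F428119 (iv1 D199714) (iv5 F349532) (iv4 F216165) F216164 F98594 (iv5 F329653) (iv4 F101866) (iv3 F93783) (iv1 F93786) D59536 D126869 D205975 (iv1 F443142) (iv5 D207054) (iv4 F366380) (iv3 F413441)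
def n209561 : Q := act 5 n136621
theorem D209561 : act 5 n136621 = n209561 := rfl
theorem F454136 : act 2 n209561 = n201605 := d2_1 D209561 F421112 F359421
theorem F454137 : act 3 n209561 = n179770 := d6_1 D209561 (iv5 F385973) F385972
theorem F454138 : act 4 n209561 = n201596 := d9_1 D209561 (iv5 D201596) (iv4 F318007) (iv5 D105758) (iv4 F162412) F340851 (iv4 F219617) D209473 F453834 (iv5 D201594) F332531 (iv5 D146097) (iv4 F332528) (iv5 D139125) (iv4 F359422)
theorem F454139 : act 6 n209561 = n186620 := d12_2 (iv6 F359423) D209561 (iv5 D186620) F356216 (iv5 D137970)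
theorem F454140 : act 7 n209561 = n201602 := d13_2 F453827 D209561 (iv5 F453830)
theorem F454141 : act 1 n209561 = n152058 := d17_6 D109676 (iv5 F332525) F332526 (iv5 D139125) (iv4 F359422) D209561 (iv5 F393517) F393518 F169560
def n209562 : Q := act 7 n136623
theorem D209562 : act 7 n136623 = n209562 := rfl
theorem F454142 : act 2 n209562 = n203375 := d4_1 D209562 (iv7 F454108) F454107
theorem F454143 : act 4 n209562 = n189022 := d11_1 D209562 F375446 F359429
theorem F454144 : act 5 n209562 = n136624 := d13_1 D209562 (iv7 D136624) D136623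
theorem F454145 : act 6 n209562 = n195594 := d14_1 D209562 F397508 D203387 (iv7 F454134) F454133
theorem F454146 : act 1 n201607 = n209562 := d15_1 F454111 (iv7 D209562) (iv2 F454107)
theorem F454147 : act 1 n209562 = n198590 := d15_1 F454146 (iv7 F453961) F453958
def n209563 : Q := act 5 n136628
theorem D209563 : act 5 n136628 = n209563 := rfl
theorem F454148 : act 2 n209563 = n136630 := d2_1 D209563 (iv5 D136630) D136628
theorem F454149 : act 3 n209563 = n201548 := d6_1 D209563 (iv5 F435053) F435051
theorem F454150 : act 6 n201546 = n209563 := d7_0 F454149 (iv6 D201548) D201546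
def n209564 : Q := act 0 n136630
theorem D209564 : act 0 n136630 = n209564 := rfl
theorem F454151 : act 5 n209564 = n209362 := d17_3 F352331 D136630 D209564 (iv4 D209362) F354222 (iv0 D175786) (iv5 F323563) D107712 (iv4 F219642)
theorem F454152 : act 4 n209564 = n175770 := d18_1 D209564 (iv1 D175770) (iv4 F366168) (iv5 D136476) (iv4 F219546) F219548 (iv4 F219764) (iv0 D136626) D136630
theorem F454153 : act 6 n201208 = n209564 := d10_0 F454152 (iv6 F375845) (iv4 F419458)
def n209565 : Q := act 4 n136630
theorem D209565 : act 4 n136630 = n209565 := rfl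
theorem F454154 : act 3 n209565 = n177824 := d5_1 D209565 (iv4 F385278) F385276 F351903 (iv3 F219769)
theorem F454155 : act 7 n209565 = n191751 := d11_2 F454101 D209565 (iv4 F454102)
theorem F454156 : act 5 n209565 = n177822 := d16_7 (iv4 F273220) (iv5 F344827) (iv4 D181803) (iv5 D86826) F314595 D136630 D209565 F281935 F281934
theorem F454157 : act 0 n209565 = n208917 := d18_2 F453947 D209565 F451400 (iv5 F354517) (iv4 F336419) (iv0 D176155) (iv4 F275400) (iv0 F453402) (iv5 F453946)
theorem F454158 : act 1 n209565 = n151508 := d18_6 D64155 F319243 (iv1 D86824) F314595 D136630 D209565 (iv4 F354512) (iv0 D136478) (iv5 D64158)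
def n209566 : Q := act 3 n136640
theorem D209566 : act 3 n136640 = n209566 := rfl
theorem F454159 : act 4 n209566 = n191760 := d5_2 F388600 D209566 (iv3 D191760) D191761 F388601
theorem F454160 : act 5 n209566 = n176154 := d6_2 F314593 D209566 F313971
theorem F454161 : act 7 n209566 = n136649 := d8_2 (iv7 F221560) D209566 (iv3 D136649)
theorem F454162 : act 6 n192595 = n209566 := d12_0 F454160 (iv6 D176154) D176153 (iv6 F393959) F393956
def n209567 : Q := act 6 n136640
theorem D209567 : act 6 n136640 = n209567 := rfl
theorem F454163 : act 2 n209567 = n136647 := d3_1 D209567 (iv6 D136647) (iv2 F221559)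
theorem F454164 : act 3 n209567 = n192595 := d7_1 D209567 F454162 (iv3 D209566)
theorem F454165 : act 5 n209567 = n194482 := d12_1 D209567 F393400 F384674 (iv6 F201256) F314593
theorem F454166 : act 0 n191936 = n209567 := d17_2 F177414 D191936 F454165 (iv4 D194482) F364434 (iv0 D100639) (iv5 D46940) F177421 (iv4 F153299)
theorem F454167 : act 4 n192766 = n209567 := d18_3 (iv1 D100640) D100641 D192766 F454165 (iv4 D194482) F364435 F139700 (iv0 F335411) F335413
theorem F454168 : act 6 n193052 = n192766 := d10_0 F454167 (iv6 D209567) (iv4 F388600)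
def n209568 : Q := act 3 n136641
theorem D209568 : act 3 n136641 = n209568 := rfl
theorem F454169 : act 4 n209568 = n201540 := d5_2 F342614 D209568 (iv3 F443840) F443843 F342618
theorem F454170 : act 5 n209568 = n208161 := d6_2 (iv5 F219788) D209568 (iv3 D208161)
theorem F454171 : act 7 n209568 = n136645 := d8_2 (iv7 F221565) D209568 (iv3 D136645)
theorem F454172 : act 0 n192658 = n209568 := d20_4 (iv4 F371762) F387417 F387416 (iv3 F387384) (iv3 D209568) (iv4 F342614) (iv1 F352971) (iv4 F352969) F372486 (iv1 D188148)
theorem F454173 : act 6 n201539 = n209568 := d10_0 F454169 (iv6 D201540) D201539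
def n209569 : Q := act 6 n136641
theorem D209569 : act 6 n136641 = n209569 := rfl
theorem F454174 : act 2 n209569 = n136651 := d3_1 D209569 (iv6 D136651) (iv2 F221564)
theorem F454175 : act 3 n209569 = n201539 := d7_1 D209569 F454173 (iv3 D209568)
def n209570 : Q := act 0 n136643
theorem D209570 : act 0 n136643 = n209570 := rfl
theorem F454176 : act 5 n209570 = n143282 := d17_3 F357342 (iv5 F219791) D209570 F226088 F334885 F293499 D87055 (iv0 F294438) (iv4 F357344)
theorem F454177 : act 3 n209570 = n189087 := d20_5 (iv4 F343841) (iv1 F412247) F412249 (iv3 F350344) D209570 (iv4 F375698) (iv1 F379961) (iv4 F431520) F431519 F328920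
theorem F454178 : act 4 n209570 = n191783 := d20_8 F384418 (iv1 F371022) F224234 F101827 D66245 D141239 F357736 D209570 (iv3 D191783) D191781
theorem F454179 : act 6 n209570 = n139444 := d21_5 F219760 F219716 D64226 D136643 D209570 F225853 (iv1 F171616) (iv5 F173436) (iv6 F353378) F219762
theorem F454180 : act 1 n136656 = n209570 := d15_0 (iv0 D209570) (iv7 F357731) (iv2 F357732)
theorem F454181 : act 5 n191686 = n191783 := d18_4 F384128 (iv4 D191487) F360354 (iv4 F384151) (iv4 F454178) (iv0 D209570) (iv4 F357736) F357737 (iv5 F384127)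
theorem F454182 : act 3 n191784 = n191686 := d6_3 F454181 (iv3 D191783) D191784
theorem F454183 : act 2 n136658 = n209570 := d3_3 F454179 (iv2 F225852) (iv6 F364131)
theorem F454184 : act 7 n136659 = n209570 := d15_2 (iv0 D136658) D136659 (iv2 F454183)
def n209571 : Q := act 1 n136643
theorem D209571 : act 1 n136643 = n209571 := rfl
theorem F454185 : act 1 n209571 = n136656 := d15_1 D209571 (iv7 F219804) (iv2 F219790)
theorem F454186 : act 7 n209571 = n136658 := d15_2 (iv0 D209570) D209571 F454183
theorem F454187 : act 5 n208646 = n209571 := d21_6 F169671 (iv1 D109593) (iv5 F100613) D137735 (iv1 F365748) D208646 (iv1 D209571) F219791 (iv6 D64852) D64849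
theorem F454188 : act 2 n209571 = n136659 := d2_1 F454187 (iv5 F384134) (iv2 F450310)
def n209572 : Q := act 2 n136645
theorem D209572 : act 2 n136645 = n209572 := rfl
theorem F454189 : act 5 n209572 = n193856 := d2_2 (iv5 F441212) D209572 (iv2 F441214)
theorem F454190 : act 6 n209572 = n191592 := d3_2 (iv6 F427863) D209572 F383913
theorem F454191 : act 0 n209572 = n192658 := d21_4 (iv5 F372247) (iv1 F372250) D191592 (iv6 F454190) (iv6 D192658) (iv5 D100491) (iv1 F363115) D192233 F386137 (iv1 F362360)
def n209573 : Q := act 4 n136645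
theorem D209573 : act 4 n136645 = n209573 := rfl
theorem F454192 : act 3 n209573 = n204512 := d5_1 D209573 (iv4 D204512) F314233 (iv4 D136646) D136645
theorem F454193 : act 6 n209573 = n184494 := d10_2 (iv6 F427863) D209573 (iv4 F340058)
theorem F454194 : act 7 n209573 = n201540 := d11_2 F454171 D209573 (iv4 F454169)
theorem F454195 : act 0 n209573 = n209394 := d17_0 (iv5 F453555) F410030 F410028 (iv4 F420916) (iv5 F435053) F435055 D209517 (iv0 F453996) D209573
theorem F454196 : act 5 n207378 = n209573 := d13_3 F454194 F443838 (iv7 F444586)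
def n209574 : Q := act 6 n136646
theorem D209574 : act 6 n136646 = n209574 := rfl
theorem F454197 : act 2 n209574 = n192766 := d3_1 D209574 (iv6 F454168) (iv2 F388602)
theorem F454198 : act 3 n209574 = n204513 := d7_1 D209574 (iv6 D204513) F314233
theorem F454199 : act 4 n209574 = n136647 := d10_1 D209574 (iv6 D136647) D136646
theorem F454200 : act 0 n188397 = n209574 := d18_2 (iv1 F370849) D188397 F454199 F427862 (iv4 D191688) (iv0 F292862) F159027 F292863 (iv5 F370848)
theorem F454201 : act 1 n187575 = n209574 := d18_6 F177413 F73532 F293975 F65248 D90364 D187575 F454199 F427860 (iv5 D183982)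
theorem F454202 : act 7 n192767 = n209574 := d15_2 (iv0 D192766) D192767 F454197
def n209575 : Q := act 7 n136647
theorem D209575 : act 7 n136647 = n209575 := rfl
theorem F454203 : act 3 n209575 = n191590 := d8_1 D209575 F383905 (iv3 F427861)
theorem F454204 : act 4 n209575 = n192767 := d11_1 D209575 F454202 F454199
theorem F454205 : act 5 n209575 = n191472 := d13_1 D209575 (iv7 F384158) (iv5 F427862)
theorem F454206 : act 1 n191936 = n209575 := d15_1 (iv0 F454166) (iv7 D209575) (iv2 F454163)
def n209576 : Q := act 2 n136649
theorem D209576 : act 2 n136649 = n209576 := rfl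
def n209577 : Q := act 4 n136649
theorem D209577 : act 4 n136649 = n209577 := rfl
theorem F454207 : act 7 n209577 = n191760 := d11_2 F454161 D209577 (iv4 F454159)
theorem F454208 : act 5 n209577 = n153333 := d16_3 (iv4 F279694) F366635 D209577 F361337 (iv5 D83107) (iv4 F115743) D160596 (iv7 F327865) F327864
theorem F454209 : act 0 n209577 = n209391 := d18_2 F453926 D209577 (iv4 D209391) F346579 F319242 (iv0 D86823) F314595 (iv0 F352331) D209497
theorem F454210 : act 1 n209577 = n197191 := d18_6 D64118 D136382 F346454 (iv4 F279694) F366635 D209577 F403467 (iv0 D136392) (iv5 D64121)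
theorem F454211 : act 3 n209577 = n177827 := d20_3 (iv4 F453924) F453926 D209577 (iv1 D177827) F129903 D84670 D177831 (iv4 F301586) (iv3 F367933) (iv1 F367939)
def n209578 : Q := act 6 n136649
theorem D209578 : act 6 n136649 = n209578 := rfl
theorem F454212 : act 3 n209578 = n136651 := d7_1 D209578 (iv6 D136651) D136649
def n209579 : Q := act 3 n136650
theorem D209579 : act 3 n136650 = n209579 := rfl
theorem F454213 : act 2 n209579 = n191763 := d0_1 D209579 F384383 F314236 F342618 (iv2 F342615)
theorem F454214 : act 4 n209579 = n177827 := d5_2 D136650 D209579 (iv3 F454211) (iv4 D209577) (iv3 D136649)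
theorem F454215 : act 5 n209579 = n160095 := d6_2 (iv5 F342018) D209579 F252670
theorem F454216 : act 6 n209579 = n160096 := d7_2 (iv6 F387710) D209579 F387713
theorem F454217 : act 7 n209579 = n191761 := d8_2 F388598 D209579 F388601
theorem F454218 : act 0 n209579 = n204192 := d19_4 F131491 (iv5 F316158) D136650 D209579 F431425 (iv4 F268814) F342636 (iv1 F238368) D208917 F451400 (iv3 F356116) F345274 (iv5 F345273) (iv4 D156012) D156011 (iv1 F359219) (iv5 D178663) F316199 F314470
def n209580 : Q := act 0 n136651
theorem D209580 : act 0 n136651 = n209580 := rfl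
theorem F454219 : act 4 n209580 = n159714 := d20_2 F387711 D209580 (iv3 F363123) F428980 F428979 F393081 (iv1 F373424) (iv4 F359725) D204396 (iv1 F432383)
theorem F454220 : act 3 n136677 = n209580 := d5_5 F454219 (iv3 F363123) (iv4 F442615) F445854 (iv4 F446146)
def n209581 : Q := act 5 n136651
theorem D209581 : act 5 n136651 = n209581 := rfl
def n209582 : Q := act 7 n136651
theorem D209582 : act 7 n136651 = n209582 := rfl
def n209583 : Q := act 3 n136652
theorem D209583 : act 3 n136652 = n209583 := rfl
theorem F454221 : act 2 n209583 = n192656 := d0_1 D209583 (iv3 F443295) F443294 F433049 (iv2 F337495)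
theorem F454222 : act 4 n209583 = n201084 := d5_2 F385485 D209583 F419033 F448224 (iv3 F448223)
theorem F454223 : act 5 n209583 = n204224 := d6_2 F337494 D209583 (iv3 D204224)
theorem F454224 : act 6 n209583 = n152532 := d7_2 F387690 D209583 (iv3 F387689)
theorem F454225 : act 7 n209583 = n192655 := d8_2 (iv7 F337496) D209583 (iv3 F387378)
theorem F454226 : act 0 n209583 = n192651 := d20_4 (iv4 F352969) (iv1 F385487) F385485 D209583 F387357 (iv4 F428337) (iv1 F443845) F443843 F342618 (iv1 F352971)
theorem F454227 : act 0 n191942 = n209583 := d20_4 D193051 F388595 (iv4 D191945) (iv3 F384930) (iv3 D209583) (iv4 F385485) F385486 (iv4 F352965) F155841 (iv1 F155786)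
def n209584 : Q := act 4 n136653
theorem D209584 : act 4 n136653 = n209584 := rfl
theorem F454228 : act 2 n209584 = n204246 := d1_1 D209584 (iv4 D204246) (iv2 F309896)
theorem F454229 : act 5 n209584 = n138341 := d9_2 (iv5 F309898) D209584 (iv4 D138341) F210490 D65338 F209822 F312443 F337494 (iv4 F385485) (iv5 D192086) F341560 F210487 D65333 (iv5 F232828) (iv4 F307896)
theorem F454230 : act 6 n209584 = n159716 := d10_2 (iv6 F309899) D209584 (iv4 D159716)
theorem F454231 : act 7 n209584 = n204627 := d11_2 F342620 D209584 (iv4 D204627)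
theorem F454232 : act 0 n209584 = n139095 := d17_0 (iv5 D139095) (iv1 D65289) D65291 (iv4 F359389) (iv5 F359393) (iv0 F313527) (iv5 D136655) D136653 D209584
theorem F454233 : act 1 n209584 = n139093 := d18_6 (iv1 F342021) F342022 (iv1 F312445) (iv4 F307896) (iv5 F309898) D209584 (iv4 F352965) D193052 F388599
def n209585 : Q := act 6 n136655
theorem D209585 : act 6 n136655 = n209585 := rfl
theorem F454234 : act 2 n209585 = n203783 := d3_1 D209585 (iv6 D203783) F315989
theorem F454235 : act 3 n209585 = n138190 := d7_1 D209585 F314229 (iv3 F313529)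
theorem F454236 : act 4 n209585 = n143903 := d10_1 D209585 F332423 (iv4 F309085)
theorem F454237 : act 5 n209585 = n138043 := d12_1 D209585 (iv6 D138043) F219803 (iv6 D136656) D136655
theorem F454238 : act 7 n209585 = n138046 := d14_2 (iv7 F313530) D209585 F221299 (iv7 F219812) F342608
theorem F454239 : act 0 n209585 = n203987 := d21_4 (iv5 F309898) (iv1 D136653) D136655 D209585 (iv6 D203987) D203986 (iv1 F431562) (iv5 D204227) (iv6 D123174) F314442
theorem F454240 : act 0 n204109 = n209585 := d21_4 D84630 D177733 F403503 (iv6 F431100) (iv6 D209585) (iv5 D136655) D136652 (iv5 F337494) F337510 (iv1 D84629)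
def n209586 : Q := act 3 n136658
theorem D209586 : act 3 n136658 = n209586 := rfl
theorem F454241 : act 5 n209586 = n191587 := d6_2 F384127 D209586 F384129
theorem F454242 : act 6 n209586 = n207371 := d7_2 (iv6 F364131) D209586 F444558
theorem F454243 : act 4 n207372 = n209586 := d10_3 F454242 (iv4 D207371) D207372
def n209587 : Q := act 4 n136658
theorem D209587 : act 4 n136658 = n209587 := rfl
theorem F454244 : act 2 n209587 = n191783 := d1_1 D209587 (iv4 F454178) (iv2 F454183)
theorem F454245 : act 5 n209587 = n191683 := d16_1 D209587 (iv4 F448823) F448824 F378133 F294402 D191681 F384134 F454184 (iv2 F454183)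
theorem F454246 : act 3 n204549 = n209587 := d20_5 (iv4 F172729) (iv1 F350347) F198403 (iv3 F198395) D204549 (iv4 D209587) (iv1 F357737) F357736 F350344 (iv1 D141143)
def n209588 : Q := act 4 n136659
theorem D209588 : act 4 n136659 = n209588 := rfl
theorem F454247 : act 3 n209588 = n188173 := d5_1 D209588 (iv4 D188173) D188172 F372556 F372637
theorem F454248 : act 5 n209588 = n137957 := d9_2 F384134 D209588 F221225 D137960 F350430 F294407 D191679 F384127 D209587 F454245 (iv4 F448823) F448824 F378133 F294402 D191681
theorem F454249 : act 7 n209588 = n191783 := d11_2 (iv7 F454184) D209588 (iv4 F454178)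
def n209589 : Q := act 6 n136659
theorem D209589 : act 6 n136659 = n209589 := rfl
theorem F454250 : act 5 n209589 = n208616 := d12_1 D209589 (iv6 D208616) (iv5 F447183) F440994 F384134
theorem F454251 : act 0 n139446 = n209589 := d17_0 F454250 F450177 (iv5 F413443) F413442 F173436 F171616 (iv5 F225853) (iv0 D139444) D139446
def n209590 : Q := act 6 n136660
theorem D209590 : act 6 n136660 = n209590 := rfl
theorem F454252 : act 2 n209590 = n138056 := d3_1 D209590 (iv6 D138056) (iv2 F363373)
theorem F454253 : act 5 n209590 = n141170 := d12_1 D209590 (iv6 F424510) (iv5 D123239) D123240 F339089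
theorem F454254 : act 0 n137621 = n209590 := d21_4 (iv5 F384674) F384675 (iv5 D137620) D137621 (iv6 D209590) (iv5 F339089) F348232 D124318 F198799 F343273
def n209591 : Q := act 3 n136661
theorem D209591 : act 3 n136661 = n209591 := rfl
theorem F454255 : act 2 n209591 = n174813 := d0_1 D209591 (iv3 F411312) F411310 (iv3 D138048) (iv2 F363376)
theorem F454256 : act 4 n209591 = n162803 := d5_2 F219810 D209591 F257081 F318508 D127294
theorem F454257 : act 5 n209591 = n174764 := d6_2 (iv5 F339092) D209591 F273584
theorem F454258 : act 7 n209591 = n138053 := d8_2 (iv7 F363377) D209591 (iv3 D138053)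
theorem F454259 : act 0 n137654 = n209591 := d20_4 D101345 F351571 F220831 (iv3 F220823) (iv3 D209591) (iv4 F219810) F333285 (iv4 F222282) F339060 (iv1 F156110)
def n209592 : Q := act 1 n136666
theorem D209592 : act 1 n136666 = n209592 := rfl
theorem F454260 : act 5 n209592 = n209499 := d17_7 (iv1 D64194) D64196 D136554 (iv5 F448159) F448160 (iv5 F405200) D209592 F453934 (iv4 D136549)
theorem F454261 : act 4 n209592 = n188409 := d17_9 (iv1 D188409) F140493 D101426 D193274 (iv4 F389375) (iv5 D193272) D193271 (iv5 F405200) D209592
theorem F454262 : act 3 n157863 = n209592 := d19_19 (iv1 D209592) F405200 (iv4 F448160) (iv3 F453403) F453402 (iv5 F454160) F454159 (iv3 D191760) (iv1 F201006) (iv5 D125111) F304337 (iv3 D85895) (iv1 F299871) D57321 (iv4 F302090) F337464 (iv1 F172803) F345423 (iv4 F248779)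
theorem F454263 : act 6 n209592 = n157862 := d7_2 D157863 F454262 F248777
def n209593 : Q := act 0 n136675
theorem D209593 : act 0 n136675 = n209593 := rfl
theorem F454264 : act 1 n201246 = n209593 := d15_0 (iv0 D209593) (iv7 F362773) (iv2 F419636)
theorem F454265 : act 7 n209593 = n207221 := d15_2 (iv0 F448221) F454264 (iv2 F448216)
def n209594 : Q := act 0 n136676
theorem D209594 : act 0 n136676 = n209594 := rfl
theorem F454266 : act 4 n209594 = n201064 := d18_3 F428424 F362776 D209594 F418956 F214582 F214098 (iv4 F214632) F214635 (iv5 F428422)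
theorem F454267 : act 1 n192693 = n209594 := d15_0 (iv0 D209594) (iv7 F451206) F451204
theorem F454268 : act 5 n209411 = n209594 := d16_1 D209411 F454266 F418956 F214582 (iv5 F419004) (iv4 F422945) F422948 (iv7 F390645) (iv2 F390647)
theorem F454269 : act 3 n209594 = n188079 := d20_3 (iv4 D208879) (iv1 F418955) (iv4 F454266) (iv1 D188079) (iv3 F362785) (iv4 F412494) (iv1 D199518) F172868 (iv3 F222626) (iv1 F451221)
theorem F454270 : act 0 n191437 = n203082 := d21_4 (iv5 F294479) F294477 F151779 D191437 (iv6 F453604) F454268 (iv1 F454267) F387510 (iv6 D182267) D182265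
def n209595 : Q := act 1 n136676
theorem D209595 : act 1 n136676 = n209595 := rfl
theorem F454271 : act 1 n209595 = n192693 := d15_1 D209595 (iv7 F451197) F451196
theorem F454272 : act 4 n209595 = n201063 := d18_7 (iv1 F327988) (iv4 F93600) F168315 F99107 D135562 F362776 D209595 (iv0 D201063) (iv5 D113841)
theorem F454273 : act 5 n209413 = n209595 := d9_0 F454272 F418952 (iv4 F432207) F432206 F220640 (iv5 F219539) D209411 F454268 F454266 F418956 F214582 (iv5 F419004) (iv4 F422945) F422948 D209413
theorem F454274 : act 6 n201495 = n209595 := d10_0 F454272 F418953 D201495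
def n209596 : Q := act 5 n136676
theorem D209596 : act 5 n136676 = n209596 := rfl
theorem F454275 : act 3 n209596 = n136679 := d6_1 D209596 (iv5 D136679) (iv3 F219814)
theorem F454276 : act 4 n209596 = n138216 := d9_1 D209596 (iv5 D138216) (iv4 F221377) (iv5 F336161) F336160 D135564 (iv4 F387509) F387510 (iv4 F451858) F451856 (iv4 D207909) (iv5 D132565) F99107 D135562 F362776
theorem F454277 : act 6 n209596 = n203197 := d12_2 D136676 D209596 F434921 (iv6 D205085) F201751
theorem F454278 : act 7 n209596 = n191432 := d13_2 F451206 D209596 F451208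
theorem F454279 : act 0 n209596 = n136892 := d17_2 (iv1 D209595) D209596 F387435 F387433 F218055 (iv0 F100303) D135235 F418954 (iv4 F454272)
theorem F454280 : act 1 n209596 = n209120 := d17_6 (iv1 D135566) (iv5 D63740) D63738 D135562 F362776 D209596 (iv5 D209120) (iv0 F451802) (iv4 D209004)
def n209597 : Q := act 5 n136677
theorem D209597 : act 5 n136677 = n209597 := rfl
theorem F454281 : act 4 n209597 = n187154 := d19_2 D136677 D209597 (iv3 D187154) (iv1 F365800) F160121 F143030 D92807 (iv1 F335790) (iv5 D90274) (iv4 F138850) F138849 (iv1 F290204) (iv5 F349113) F179256 F99098 D63738 D135562 F362776 F219814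
theorem F454282 : act 3 n187151 = n209597 := d5_5 F454281 (iv3 D187154) (iv4 D89613) (iv3 F137393) D187151
theorem F454283 : act 5 n209580 = n187151 := d6_0 F454282 (iv5 D209597) F454220
theorem F454284 : act 0 n191731 = n209581 := d17_0 (iv5 D209581) D209580 F454283 (iv4 D187151) (iv5 D89611) F136687 (iv5 F287635) F287639 D191731
def n209598 : Q := act 6 n136677
theorem D209598 : act 6 n136677 = n209598 := rfl
theorem F454285 : act 4 n209598 = n206919 := d10_1 D209598 (iv6 F445855) (iv4 F446146)
theorem F454286 : act 0 n201805 = n209598 := d20_7 (iv4 F99818) (iv1 F344194) D192963 F388356 F421601 F421603 D201805 F454285 (iv3 D206919) (iv1 D129479)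
theorem F454287 : act 0 n209598 = n201803 := d20_7 F407123 F400301 F387516 (iv3 F394066) F394068 D206919 (iv4 F454285) (iv4 D201803) D201802 (iv1 F421839)
def n209599 : Q := act 5 n136678
theorem D209599 : act 5 n136678 = n209599 := rfl
theorem F454288 : act 3 n209599 = n139478 := d6_1 D209599 (iv5 D139478) (iv3 F364001)
theorem F454289 : act 6 n209599 = n139474 := d12_2 (iv6 F364002) D209599 (iv5 D139474) (iv6 D65455) D65454
def n209600 : Q := act 0 n136679
theorem D209600 : act 0 n136679 = n209600 := rfl
theorem F454290 : act 5 n209600 = n204632 := d17_3 (iv1 D136678) D136679 D209600 (iv4 F443111) F446783 F446779 (iv5 D207652) D207651 F446144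
theorem F454291 : act 3 n209600 = n191456 := d20_5 F451825 (iv1 F221389) (iv4 F454276) F454275 D209600 (iv4 D191456) F151789 D98860 D191735 F451826
theorem F454292 : act 6 n209600 = n204633 := d21_5 (iv5 D135578) F201755 D205086 F434924 D209600 (iv5 D204633) F306497 F233015 F351880 F221388
theorem F454293 : act 2 n204638 = n209600 := d3_3 F454292 F433078 (iv6 F433096)
theorem F454294 : act 0 n209600 = n186942 := d21_4 F278981 (iv1 F306498) D204633 (iv6 F454292) (iv6 D186942) (iv5 D89404) F335590 D87356 F134112 D118201
theorem F454295 : act 0 n139474 = n191429 := d21_4 (iv5 F393977) F393979 D209599 F454289 F451861 F278981 (iv1 F306498) D204633 (iv6 F454292) F454294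
theorem F454296 : act 4 n187037 = n209600 := d5_0 F454291 (iv4 D191456) (iv3 D98369) (iv4 F137145) D187037
theorem F454297 : act 0 n209407 = n187037 := d18_0 F454296 F454294 F449473 (iv5 D208464) (iv4 F437834) F442860 F442857 F449148 (iv5 F453598)
def n209601 : Q := act 1 n136679
theorem D209601 : act 1 n136679 = n209601 := rfl
theorem F454298 : act 1 n209601 = n186942 := d15_1 D209601 (iv7 F452649) F452647
theorem F454299 : act 7 n209601 = n204638 := d15_2 (iv0 D209600) D209601 F454293
theorem F454300 : act 5 n204639 = n209601 := d21_0 (iv1 D209601) (iv5 D136679) (iv6 D64236) (iv1 D30258) D30260 F48638 D30499 D64905 D138168 F433099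
theorem F454301 : act 3 n209601 = n204649 := d6_1 F454300 F433122 (iv3 F433097)
theorem F454302 : act 4 n209601 = n208384 := d9_1 F454300 F449154 F217089 D206867 F446781 (iv5 F446783) F443111 (iv5 F454290) (iv4 F454296) F368879 (iv4 F371106) (iv5 F447104) F447103 F446774 F443135
theorem F454303 : act 0 n208384 = n209407 := d17_0 F453598 (iv1 F449148) F394462 (iv4 F454281) (iv5 D209597) (iv0 D136677) D136679 D209601 F454302
def n209602 : Q := act 4 n136679
theorem D209602 : act 4 n136679 = n209602 := rfl
def n209603 : Q := act 7 n136679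
theorem D209603 : act 7 n136679 = n209603 := rfl
theorem F454304 : act 2 n209603 = n186942 := d4_1 D209603 (iv7 F452649) F452647
theorem F454305 : act 3 n209603 = n191432 := d8_1 D209603 (iv7 F454278) F454275
theorem F454306 : act 5 n209603 = n136680 := d13_1 D209603 (iv7 D136680) D136679
theorem F454307 : act 6 n209603 = n186936 := d14_1 D209603 F368573 F335589 (iv7 F434925) F434924
theorem F454308 : act 0 n204638 = n209603 := d21_4 F427312 (iv1 D124151) D124152 (iv6 F433096) F454307 (iv5 D186936) F335691 D150134 F236304 D203175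
def n209604 : Q := act 5 n136681
theorem D209604 : act 5 n136681 = n209604 := rfl
theorem F454309 : act 3 n209604 = n136684 := d6_1 D209604 (iv5 D136684) (iv3 F219815)
theorem F454310 : act 6 n209604 = n207023 := d12_2 D136681 D209604 (iv5 D207023) (iv6 D129822) (iv5 F100038)
theorem F454311 : act 7 n209604 = n136684 := d13_2 (iv7 F219817) D209604 (iv5 D136684)
theorem F454312 : act 4 n209604 = n203818 := d16_2 (iv4 F219816) D209604 (iv5 D203818) (iv4 D120973) (iv5 F322422) F94030 (iv5 F99414) D135935 F218653
def n209605 : Q := act 3 n136682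
theorem D209605 : act 3 n136682 = n209605 := rfl
theorem F454313 : act 4 n209605 = n146942 := d5_2 F453571 D209605 F347754 D189085 (iv3 F453572)
theorem F454314 : act 6 n146846 = n209605 := d10_0 F454313 (iv6 D146942) (iv4 F230239)
theorem F454315 : act 0 n182025 = n209605 := d18_2 F140420 D182025 F454313 (iv5 F370937) F370936 (iv0 D185458) F135290 F293668 (iv5 F294040)
def n209606 : Q := act 5 n136682
theorem D209606 : act 5 n136682 = n209606 := rfl
def n209607 : Q := act 6 n136682
theorem D209607 : act 6 n136682 = n209607 := rfl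
theorem F454316 : act 2 n209607 = n199202 := d3_1 D209607 (iv6 F446117) (iv2 F453579)
theorem F454317 : act 3 n209607 = n146846 := d7_1 D209607 F454314 (iv3 D209605)
theorem F454318 : act 4 n209607 = n199190 := d10_1 D209607 (iv6 F453573) F453571
theorem F454319 : act 5 n209607 = n146845 := d21_6 (iv5 D62176) F47174 (iv5 F48636) D64238 D136682 D209607 F442806 F442804 (iv6 D129842) (iv1 F96932)
theorem F454320 : act 7 n199223 = n209607 := d13_0 F454319 (iv7 F418339) (iv5 F418342)
theorem F454321 : act 1 n139470 = n209607 := d17_6 D198935 F409972 (iv1 F218704) (iv5 F365148) (iv4 F450479) F450480 F454319 (iv0 F409981) (iv4 D198937)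
def n209608 : Q := act 3 n136683
theorem D209608 : act 3 n136683 = n209608 := rfl
theorem F454322 : act 4 n209608 = n198176 := d5_2 F453586 D209608 F407112 (iv4 F380050) F453583
theorem F454323 : act 6 n198175 = n209608 := d10_0 F454322 (iv6 D198176) D198175
theorem F454324 : act 5 n209608 = n207135 := d12_1 F454323 (iv6 D207135) (iv5 D130503) (iv6 F204109) (iv5 F407109)
def n209609 : Q := act 5 n136683
theorem D209609 : act 5 n136683 = n209609 := rfl
theorem F454325 : act 3 n209609 = n207135 := d6_1 D209609 (iv5 F454324) (iv3 D209608)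
theorem F454326 : act 6 n207131 = n209609 := d7_0 F454325 (iv6 D207135) (iv3 F443461)
def n209610 : Q := act 6 n136683
theorem D209610 : act 6 n136683 = n209610 := rfl
theorem F454327 : act 3 n209610 = n198175 := d7_1 D209610 F454323 (iv3 D209608)
theorem F454328 : act 5 n209610 = n205975 := d12_1 D209610 F438672 D207131 F454326 (iv5 D209609)
theorem F454329 : act 0 n206918 = n209610 := d17_0 F454328 (iv1 F443142) (iv5 D207054) (iv4 F366380) (iv5 F407564) F407566 (iv5 F365864) (iv0 F407567) (iv4 F442608)
theorem F454330 : act 1 n207815 = n209610 := d17_6 F447395 F447393 (iv1 D136746) (iv5 F204088) F330968 D207815 F454328 (iv0 F443131) F443130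
def n209611 : Q := act 0 n136684
theorem D209611 : act 0 n136684 = n209611 := rfl
def n209612 : Q := act 1 n136684
theorem D209612 : act 1 n136684 = n209612 := rfl
def n209613 : Q := act 4 n136684
theorem D209613 : act 4 n136684 = n209613 := rfl
theorem F454331 : act 3 n209613 = n158020 := d5_1 D209613 (iv4 F253751) (iv3 F429958) (iv4 F454312) F454309
theorem F454332 : act 6 n209613 = n207024 := d10_2 (iv6 F219818) D209613 (iv4 D207024)
theorem F454333 : act 7 n209613 = n203818 := d11_2 F454311 D209613 (iv4 F454312)
theorem F454334 : act 5 n209613 = n158019 := d16_3 (iv4 F100039) D136684 D209613 F248948 (iv5 F321964) (iv4 F325106) (iv5 F218654) (iv7 D135935) F99413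
theorem F454335 : act 1 n187226 = n209613 := d17_6 (iv1 F436560) F436561 F351697 D138182 (iv4 F373639) (iv5 F373644) F454334 F439499 F439496
def n209614 : Q := act 2 n136686
theorem D209614 : act 2 n136686 = n209614 := rfl
theorem F454336 : act 5 n209614 = n189895 := d2_2 F407347 D209614 F417194
theorem F454337 : act 1 n191739 = n209614 := d17_6 F398789 (iv5 F445158) (iv1 F445161) (iv5 D206607) D206606 F441544 F454336 (iv0 D189895) (iv4 F377811)
def n209615 : Q := act 3 n136687
theorem D209615 : act 3 n136687 = n209615 := rfl
def n209616 : Q := act 5 n136687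
theorem D209616 : act 5 n136687 = n209616 := rfl
def n209617 : Q := act 6 n136687
theorem D209617 : act 6 n136687 = n209617 := rfl
theorem F454338 : act 2 n209617 = n199049 := d3_1 D209617 F442333 (iv2 F442330)
theorem F454339 : act 4 n209617 = n136689 := d10_1 D209617 (iv6 D136689) D136687
theorem F454340 : act 3 n206701 = n209617 := d5_5 F454339 (iv3 F407342) (iv4 D198249) D198248 (iv4 F441906)
theorem F454341 : act 7 n199056 = n209617 := d11_0 F454339 F359151 D199056
theorem F454342 : act 0 n201162 = n209617 := d18_2 (iv1 F411138) (iv4 F419295) F454339 F359150 F359128 D195919 F398735 F172260 D111084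
theorem F454343 : act 6 n209615 = n206701 := d7_0 F454340 (iv6 D209617) D209615
def n209618 : Q := act 0 n136691
theorem D209618 : act 0 n136691 = n209618 := rfl
def n209619 : Q := act 1 n136691
theorem D209619 : act 1 n136691 = n209619 := rfl
def n209620 : Q := act 2 n136691
theorem D209620 : act 2 n136691 = n209620 := rfl
theorem F454344 : act 1 n209620 = n192633 := d15_0 (iv0 F452653) F452652 D209620
def n209621 : Q := act 4 n136691
theorem D209621 : act 4 n136691 = n209621 := rfl
theorem F454345 : act 0 n207332 = n209621 := d20_7 (iv4 F100039) D136682 (iv4 F453571) F453572 F443449 F443446 (iv4 F444384) (iv4 D209621) (iv3 D136691) (iv1 D64240)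
theorem F454346 : act 5 n209621 = n152554 := d17_1 F454345 (iv1 D152554) (iv5 F187588) (iv4 F428448) F428449 (iv0 F450339) (iv5 F450340) (iv0 D207333) (iv4 F444384)
theorem F454347 : act 6 n209621 = n203470 := d21_5 F394182 (iv1 F192343) (iv5 F209468) D207332 F454345 F432784 (iv1 F217985) (iv5 F432782) (iv6 D204515) (iv1 F394184)
theorem F454348 : act 3 n206233 = n209621 := d7_3 F454347 (iv3 F432785) (iv6 F439838)
def n209622 : Q := act 5 n136691
theorem D209622 : act 5 n136691 = n209622 := rfl
theorem F454349 : act 3 n209622 = n136693 := d6_1 D209622 (iv5 D136693) D136691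
theorem F454350 : act 4 n209622 = n206861 := d16_4 F394030 (iv5 F454346) (iv4 D209621) D209622 (iv5 F443166) F443157 (iv5 F449288) (iv7 D208421) F394037
theorem F454351 : act 6 n206776 = n209622 := d10_0 F454350 (iv6 D206861) (iv4 F442148)
theorem F454352 : act 0 n209622 = n186701 := d21_4 F363952 F442322 (iv5 F442149) F454351 (iv6 D186701) (iv5 D89057) F295197 D87087 D182387 (iv1 F363951)
theorem E103959 : n209618 = n209515 := (c21_8 (iv5 F396709) (iv1 F396712) F233573 D209276 F453012 F454351 (iv5 D209622) D209618 F453986 (iv6 D137774) F347224)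
theorem F454353 : act 1 n209515 = n136691 := (sb E103959 (iv0 D209618))
theorem F454354 : act 6 n192631 = n209619 := d21_9 D209622 F454352 (iv5 F385011) (iv6 D191961) F153053 (iv6 F159693) (iv5 D104167) (iv1 F272858) D192631 (iv1 D209619)
theorem F454355 : act 2 n209619 = n192633 := d3_1 F454354 (iv6 D192633) (iv2 F387277)
theorem F454356 : act 5 n209619 = n138176 := d12_1 F454354 (iv6 F437870) (iv5 F387282) (iv6 D192632) D192631
def n209623 : Q := act 6 n136691
theorem D209623 : act 6 n136691 = n209623 := rfl
theorem F454357 : act 3 n209623 = n136694 := d7_1 D209623 (iv6 D136694) D136691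
theorem F454358 : act 4 n209623 = n203470 := d10_1 D209623 (iv6 F454347) (iv4 D209621)
theorem F454359 : act 5 n209623 = n208817 := d12_1 D209623 (iv6 D208817) (iv5 F442149) F454351 (iv5 D209622)
theorem F454360 : act 0 n208817 = n191801 := d21_7 (iv5 D104167) (iv1 F272858) D192631 F454354 (iv1 D209619) D209623 F454359 (iv5 F444816) (iv6 D207421) (iv1 F307757)
theorem F454361 : act 0 n192692 = n209623 := d21_4 (iv5 D48203) (iv1 F74097) D100517 D192692 (iv6 D209623) D209622 F454352 (iv5 F385011) (iv6 D191961) F153053
theorem F454362 : act 0 n209623 = n192696 := d21_7 (iv5 D148791) (iv1 D69732) D69734 D148797 F442322 D208817 (iv5 F454359) F426107 (iv6 D202899) (iv1 F233618)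
theorem F454363 : act 2 n192694 = n209623 := d1_3 F454358 (iv2 F451176) F451178
theorem F454364 : act 7 n192695 = n209623 := d11_0 F454358 (iv7 F451187) F451192
theorem F454365 : act 6 n209620 = n192694 := d3_0 F454363 (iv6 D209623) D209620
def n209624 : Q := act 3 n136692
theorem D209624 : act 3 n136692 = n209624 := rfl
theorem F454366 : act 4 n209624 = n206233 := d5_2 D136692 D209624 F454348 (iv4 D209621) (iv3 D136691)
theorem F454367 : act 0 n207636 = n209624 := d20_4 F446120 (iv1 D205096) (iv4 F211731) (iv3 F445793) (iv3 D209624) (iv4 D136692) (iv1 D64240) (iv4 F100039) (iv3 F219815) (iv1 F446119)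
theorem F454368 : act 6 n201160 = n209624 := d10_0 F454366 F439838 (iv4 F419293)
def n209625 : Q := act 5 n136692
theorem D209625 : act 5 n136692 = n209625 := rfl
def n209626 : Q := act 6 n136692
theorem D209626 : act 6 n136692 = n209626 := rfl
theorem F454369 : act 3 n209626 = n201160 := d7_1 D209626 F454368 (iv3 D209624)
theorem F454370 : act 4 n209626 = n136694 := d10_1 D209626 (iv6 D136694) D136692
theorem F454371 : act 0 n193005 = n209626 := d20_1 (iv4 F388500) F454370 (iv3 F454357) F454362 F387512 (iv4 F387540) (iv1 F387541) (iv4 D188159) D188158 F411155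
theorem F454372 : act 1 n206792 = n209626 := d15_0 (iv0 F454371) (iv7 F388502) (iv2 F442199)
def n209627 : Q := act 0 n136694
theorem D209627 : act 0 n136694 = n209627 := rfl
theorem F454373 : act 4 n209627 = n207815 := d18_3 F454371 F454370 D209627 (iv5 D207815) (iv4 F330968) (iv0 F438577) (iv4 F442196) F442195 F388501
theorem F454374 : act 2 n202654 = n209627 := d15_3 (iv0 D209627) (iv0 F407567) (iv7 F424953)
def n209628 : Q := act 7 n136694
theorem D209628 : act 7 n136694 = n209628 := rfl
theorem F454375 : act 2 n209628 = n199057 := d4_1 D209628 (iv7 F452662) F452659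
theorem F454376 : act 3 n209628 = n192695 := d8_1 D209628 F454364 F454357
theorem F454377 : act 5 n209628 = n198308 := d13_1 D209628 F449911 (iv5 F365864)
theorem F454378 : act 6 n209628 = n139468 := d14_1 D209628 F359139 (iv6 F338280) F359153 D136694
theorem F454379 : act 1 n199057 = n209627 := d15_0 (iv0 D209627) D209628 F454375
theorem F454380 : act 1 n209628 = n202654 := d15_0 F452663 F452662 (iv2 F454375)
def n209629 : Q := act 6 n136695
theorem D209629 : act 6 n136695 = n209629 := rfl
theorem F454381 : act 2 n209629 = n204147 := d3_1 D209629 F431195 (iv2 F318990)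
theorem F454382 : act 3 n209629 = n194409 := d7_1 D209629 (iv6 F393088) F366497
theorem F454383 : act 5 n209629 = n144808 := d12_1 D209629 (iv6 F338170) F191739 (iv6 F305128) (iv5 F318991)
theorem F454384 : act 7 n203581 = n209629 := d13_0 F454383 F227706 D203581
def n209630 : Q := act 6 n136696
theorem D209630 : act 6 n136696 = n209630 := rfl
theorem F454385 : act 2 n209630 = n201803 := d3_1 D209630 F421840 (iv2 F318994)
theorem F454386 : act 3 n209630 = n207326 := d7_1 D209630 (iv6 D207326) F366495
theorem F454387 : act 4 n209630 = n201165 := d10_1 D209630 F421606 F396553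
theorem F454388 : act 7 n201805 = n209630 := d11_0 F454387 (iv7 F421605) D201805
def n209631 : Q := act 4 n136701
theorem D209631 : act 4 n136701 = n209631 := rfl
theorem F454389 : act 2 n209631 = n205861 := d1_1 D209631 (iv4 D205861) (iv2 F338736)
theorem F454390 : act 3 n209631 = n196610 := d5_1 D209631 F401222 F165408 D107354 (iv3 F219841)
theorem F454391 : act 6 n209631 = n136728 := d10_2 (iv6 F338738) D209631 (iv4 D136728)
theorem F454392 : act 7 n209631 = n205860 := d11_2 (iv7 F336112) D209631 (iv4 D205860)
theorem F454393 : act 0 n209631 = n202032 := d20_1 D209631 (iv4 F438001) (iv3 D205823) (iv1 D126630) (iv3 D59411) (iv4 D28212) (iv1 F41142) (iv4 F48650) D64250 D136701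
theorem F454394 : act 0 n195359 = n209631 := d20_10 (iv4 D209631) (iv1 F219842) (iv4 F223007) (iv3 D139813) (iv1 F103711) D144423 (iv4 F408479) F408481 F218795 D195359
def n209632 : Q := act 3 n136702
theorem D209632 : act 3 n136702 = n209632 := rfl
theorem F454395 : act 2 n209632 = n196800 := d0_1 D209632 (iv3 D196800) (iv2 F343465) F228380 F338734
theorem F454396 : act 5 n209632 = n200825 := d6_2 (iv5 F338729) D209632 F418071
theorem F454397 : act 6 n209632 = n154289 := d7_2 F350971 D209632 (iv3 F350969)
theorem F454398 : act 7 n209632 = n184361 := d8_2 F338735 D209632 F331750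
theorem F454399 : act 4 n209632 = n184303 := d20_6 (iv4 D65656) (iv1 F49694) (iv4 F320296) (iv3 F321997) (iv1 F219846) D209632 (iv1 F362378) F203693 F323525 F321837
theorem F454400 : act 1 n174443 = n209632 := d17_8 (iv1 F362378) (iv5 F224218) F410492 (iv5 D199054) (iv4 F401932) (iv5 F417811) F417809 (iv5 F348508) F454399
theorem F454401 : act 0 n136706 = n209632 := d18_0 F454399 (iv1 F362378) F203693 (iv5 F324860) (iv4 F204337) D206039 F438958 (iv0 D200759) (iv5 F219850)
def n209633 : Q := act 4 n136702
theorem D209633 : act 4 n136702 = n209633 := rfl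
theorem F454402 : act 2 n209633 = n205860 := d1_1 D209633 (iv4 D205860) F338734
theorem F454403 : act 7 n209633 = n205861 := d11_2 F338735 D209633 (iv4 D205861)
theorem F454404 : act 0 n209633 = n195359 := d18_2 (iv1 F219846) D209633 (iv4 F438278) (iv5 F438275) (iv4 F426411) (iv0 F426414) F411161 (iv0 D129591) (iv5 F321998)
theorem F454405 : act 1 n209633 = n202032 := d18_6 D126747 F362709 (iv1 F218843) (iv4 F338720) (iv5 F338729) D209633 (iv4 F438001) (iv0 F438003) (iv5 D126749)
theorem F454406 : act 3 n209633 = n195343 := d19_3 (iv1 F203838) (iv5 F338729) D209633 (iv1 F396769) (iv5 F446750) (iv4 D207857) D207856 (iv1 F446746) (iv5 D202969) F183896 (iv3 D54120) D54118 F328819 F100435 F48798 (iv1 F46745) (iv5 F48240) (iv4 F95556) (iv3 F323626)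
def n209634 : Q := act 3 n136707
theorem D209634 : act 3 n136707 = n209634 := rfl
theorem F454407 : act 4 n209634 = n205931 := d5_2 D136707 D209634 (iv3 D205931) (iv4 F219851) (iv3 D136706)
theorem F454408 : act 5 n209634 = n194039 := d6_2 F221203 D209634 F391837
theorem F454409 : act 0 n209634 = n136786 := d19_4 (iv1 F114384) (iv5 F100051) D136707 D209634 (iv5 F438909) F438908 F229808 (iv1 F363780) (iv5 F445187) (iv4 F452205) (iv3 F452206) (iv1 D198992) (iv5 D110816) F80586 (iv3 D30387) (iv1 D14432) D14434 (iv4 F45784) (iv3 F94005)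
theorem F454410 : act 1 n209634 = n202528 := d15_1 (iv0 F454409) F424389 F360382
def n209635 : Q := act 6 n136707
theorem D209635 : act 6 n136707 = n209635 := rfl
theorem F454411 : act 4 n209635 = n136708 := d10_1 D209635 (iv6 D136708) D136707
theorem F454412 : act 5 n201213 = n209635 := d16_3 (iv4 F83259) D114130 D201213 F454411 F352359 (iv4 F319017) (iv5 F142462) F142463 F83241
def n209636 : Q := act 7 n136708
theorem D209636 : act 7 n136708 = n209636 := rfl
theorem F454413 : act 2 n209636 = n201227 := d4_1 D209636 F419530 F220280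
theorem F454414 : act 3 n209636 = n153890 := d8_1 D209636 F241838 (iv3 F352358)
theorem F454415 : act 5 n209636 = n153889 := d13_1 D209636 F241836 (iv5 F352359)
theorem F454416 : act 6 n209636 = n174427 := d14_1 D209636 F354156 (iv6 D137104) F139281 D136708
theorem F454417 : act 0 n205868 = n209636 := d21_4 (iv5 D163126) (iv1 F351046) (iv5 F390085) (iv6 F438197) F454416 (iv5 D174427) (iv1 F309615) D154537 F357884 (iv1 F354484)
def n209637 : Q := act 6 n136711
theorem D209637 : act 6 n136711 = n209637 := rfl
theorem F454418 : act 2 n209637 = n136714 := d3_1 D209637 (iv6 D136714) (iv2 F219852)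
theorem F454419 : act 3 n209637 = n200826 := d7_1 D209637 (iv6 F418076) (iv3 F219853)
theorem F454420 : act 4 n209637 = n185879 := d10_1 D209637 F288344 (iv4 F219854)
theorem F454421 : act 5 n209637 = n145329 := d12_1 D209637 F375910 F375903 F331265 D136711
theorem F454422 : act 7 n209637 = n196801 := d14_2 (iv7 F219855) D209637 F401846 F271104 F339463
theorem F454423 : act 0 n209637 = n207950 := d21_4 (iv5 F161476) (iv1 F100380) D136711 D209637 (iv6 D207950) F326012 F429972 F429970 (iv6 D137303) (iv1 F161475)
theorem F454424 : act 0 n185891 = n209637 := d21_4 (iv5 F139302) (iv1 F291385) F291386 D185891 (iv6 D209637) (iv5 D136711) (iv1 F100384) F139279 F139277 D90506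
def n209638 : Q := act 3 n136728
theorem D209638 : act 3 n136728 = n209638 := rfl
theorem F454425 : act 2 n209638 = n153577 := d0_1 D209638 (iv3 F386675) F386671 F365107 F219968
theorem F454426 : act 4 n209638 = n196811 := d5_2 D136728 D209638 F401870 (iv4 F365291) F365290
theorem F454427 : act 6 n209638 = n196610 := d7_2 F454391 D209638 (iv3 F454390)
theorem F454428 : act 7 n209638 = n153576 := d8_2 F365106 D209638 F244901
theorem F454429 : act 0 n209638 = n153578 := d20_10 F241390 (iv1 F331120) (iv4 F407872) F407871 (iv1 F169288) D144710 (iv4 F325003) F323328 D136728 D209638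
theorem F454430 : act 0 n153580 = n209638 := d20_4 F185717 F95992 (iv4 F109144) (iv3 F241392) (iv3 D209638) (iv4 D136728) F322912 (iv4 F185725) (iv3 D118185) D118183
def n209639 : Q := act 5 n136728
theorem D209639 : act 5 n136728 = n209639 := rfl
theorem F454431 : act 4 n209639 = n144720 := d9_1 D209639 F227560 F219993 F100134 (iv4 F100123) (iv5 F331291) (iv4 F286185) (iv5 F404093) (iv4 D197385) (iv5 D108127) F78982 (iv5 D30272) (iv4 F48658) D64260 D136728
def n209640 : Q := act 4 n136745
theorem D209640 : act 4 n136745 = n209640 := rfl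
theorem F454432 : act 2 n209640 = n202452 := d1_1 D209640 F424063 F367021
theorem F454433 : act 6 n209640 = n205904 := d10_2 F347033 D209640 (iv4 D205904)
theorem F454434 : act 7 n209640 = n205869 := d11_2 F367023 D209640 (iv4 D205869)
theorem F454435 : act 5 n209640 = n208822 := d17_5 (iv1 D134719) D134721 F362704 (iv5 F347031) D209640 (iv0 F451007) (iv5 F400194) (iv0 F400197) F224899
theorem F454436 : act 0 n209640 = n206949 := d18_2 D136745 D209640 (iv4 D206949) (iv5 D129570) D129569 (iv0 F442194) F442192 (iv0 F438567) F204088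
theorem F454437 : act 1 n209640 = n196276 := d18_6 (iv1 F438982) (iv4 F442939) F442940 F438347 (iv5 F347031) D209640 F400159 F354199 (iv5 F438978)
theorem F454438 : act 3 n209640 = n202457 := d20_3 (iv4 F100102) D136745 D209640 (iv1 D202457) (iv3 D115760) D115761 F322076 (iv4 F322260) F180221 (iv1 D115741)
theorem F454439 : act 6 n202457 = n154700 := d7_2 (iv6 F454433) F454438 (iv3 F438356)
def n209641 : Q := act 6 n136746
theorem D209641 : act 6 n136746 = n209641 := rfl
theorem F454440 : act 2 n209641 = n193408 := d3_1 D209641 F389763 (iv2 F367024)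
theorem F454441 : act 4 n209641 = n200129 := d10_1 D209641 F415142 F223666
theorem F454442 : act 5 n209641 = n149024 := d12_1 D209641 F234301 (iv5 F359264) D208004 F447393
theorem F454443 : act 7 n209641 = n205949 := d14_2 (iv7 F367022) D209641 (iv6 F438551) F388868 F367016
theorem F454444 : act 0 n209641 = n137117 := d21_10 F333407 (iv1 F188177) (iv5 F274082) (iv6 F409552) (iv1 F436390) (iv6 F436391) (iv5 F436574) F447395 F447393 D209641
theorem F454445 : act 1 n209641 = n203526 := d15_1 (iv0 F454444) F428722 F364726
def n209642 : Q := act 3 n136754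
theorem D209642 : act 3 n136754 = n209642 := rfl
theorem F454446 : act 2 n209642 = n196940 := d0_1 D209642 (iv3 D196940) F182546 (iv3 F367012) F367011
theorem F454447 : act 7 n209642 = n194386 := d8_2 F367019 D209642 (iv3 D194386)
theorem F454448 : act 0 n209642 = n202822 := d19_4 (iv1 F333079) (iv5 D136755) D136754 D209642 F425731 (iv4 F440649) (iv3 F440650) (iv1 F398289) (iv5 F401721) F401722 (iv3 D111055) (iv1 F181241) F39067 (iv4 F80499) (iv3 D51050) F38874 D30167 (iv4 F93802) (iv3 F203811)
theorem F454449 : act 0 n194240 = n209642 := d20_4 (iv4 F438479) (iv1 F438482) (iv4 F220321) (iv3 F392454) (iv3 D209642) (iv4 D136754) (iv1 F218789) (iv4 F220239) F220238 (iv1 F218670)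
theorem F454450 : act 5 n209642 = n191153 := d19_1 F454449 F382414 F150067 D97339 F382338 (iv4 D126921) F179888 F224449 (iv5 F324737) (iv4 F96845) F96844 D62127 D132418 F345906 (iv3 F333101) (iv1 F383811) (iv5 F383812) (iv4 F220321) (iv3 F392454)
def n209643 : Q := act 5 n136754
theorem D209643 : act 5 n136754 = n209643 := rfl
theorem F454451 : act 2 n209643 = n191126 := d2_1 D209643 F382479 F367011
theorem F454452 : act 3 n209643 = n191153 := d6_1 D209643 (iv5 F454450) (iv3 D209642)
theorem F454453 : act 7 n209643 = n191127 := d13_2 F367019 D209643 F392781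
theorem F454454 : act 1 n209643 = n190778 := d17_6 (iv1 D126651) D126653 (iv1 F333079) (iv5 D136755) D136754 D209643 F381017 D194299 F392737
theorem F454455 : act 4 n209643 = n191164 := d18_5 (iv1 D136733) F100073 D64288 D136754 D209643 F440547 (iv4 D206387) D206386 F440539
theorem F454456 : act 6 n209643 = n191151 := d21_9 (iv5 D194767) (iv1 D104353) F75899 (iv6 D41293) (iv1 F291939) D45460 D97341 (iv1 F367009) D209643 F435368
theorem F454457 : act 0 n209643 = n191129 := d20_4 (iv4 F382417) (iv1 D191154) (iv4 F382414) (iv3 F454452) F382341 (iv4 D114237) (iv1 F178006) D201263 F419747 (iv1 F365104)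
def n209644 : Q := act 6 n136754
theorem D209644 : act 6 n136754 = n209644 := rfl
theorem F454458 : act 2 n209644 = n194385 := d3_1 D209644 (iv6 D194385) F367011
theorem F454459 : act 4 n209644 = n136756 := d10_1 D209644 (iv6 D136756) D136754
theorem F454460 : act 7 n209644 = n204385 := d14_2 F367019 D209644 F432336 (iv7 F392779) F392780
theorem F454461 : act 5 n209644 = n194364 := d21_6 (iv5 D43736) (iv1 F292234) D45463 (iv6 F150088) (iv1 F367009) D209644 (iv1 D194364) (iv5 D103248) (iv6 D47844) (iv1 F291226)
theorem F454462 : act 0 n199901 = n209644 := d21_10 F454461 (iv1 D194364) (iv5 D103248) (iv6 D47844) (iv1 F291226) D93528 F291980 F352007 D111973 D199901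
theorem F454463 : act 1 n194392 = n209644 := d15_1 (iv0 F440314) F454460 F432335
def n209645 : Q := act 4 n136755
theorem D209645 : act 4 n136755 = n209645 := rfl
theorem F454464 : act 2 n209645 = n206010 := d1_1 D209645 (iv4 D206010) F333071
theorem F454465 : act 3 n209645 = n207625 := d5_1 D209645 F451528 F451526 F438608 (iv3 F350863)
theorem F454466 : act 6 n209645 = n207623 := d10_2 F347133 D209645 F445727
theorem F454467 : act 7 n209645 = n206008 := d11_2 (iv7 F333076) D209645 (iv4 D206008)
theorem F454468 : act 5 n209645 = n205394 := d18_4 (iv1 F438060) (iv4 D205834) (iv1 F333079) D209645 F436234 D205395 (iv4 F438906) F438905 (iv5 F436934)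
theorem F454469 : act 1 n209645 = n206761 := d18_6 (iv1 F382472) (iv4 D191173) (iv1 F367009) (iv4 D136754) D136755 D209645 F442087 F212204 D129239
theorem F454470 : act 0 n209645 = n206769 := d20_1 D209645 (iv4 D206769) (iv3 F438575) F438577 (iv3 D126846) F93944 F48735 (iv4 F93802) (iv3 F203811) (iv1 F333079)
def n209646 : Q := act 5 n136759
theorem D209646 : act 5 n136759 = n209646 := rfl
theorem F454471 : act 2 n209646 = n191127 := d2_1 D209646 F392781 F367018
theorem F454472 : act 3 n209646 = n196938 := d6_1 D209646 (iv5 D196938) F219956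
theorem F454473 : act 7 n209646 = n191126 := d13_2 F367014 D209646 F382479
theorem F454474 : act 4 n209646 = n205396 := d16_2 D136759 D209646 (iv5 D205396) (iv4 F436234) (iv5 F454468) (iv4 D209645) (iv5 D136755) (iv7 F226665) F226664
theorem F454475 : act 0 n209646 = n190778 := d17_2 F367007 D209646 F381017 (iv4 F392723) F392724 F212204 D129239 F393007 F393006
theorem F454476 : act 6 n209646 = n185665 := d21_3 F370260 F367007 D209646 (iv1 F348732) F348729 (iv5 F348758) F295624 (iv5 F382210) (iv6 F382211) (iv1 F370264)
theorem F454477 : act 0 n191129 = n209646 := d21_10 (iv5 D209646) (iv1 F367008) (iv5 D97341) (iv6 D45460) F291938 D89997 F291969 D190699 F380651 (iv6 F382342)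
def n209647 : Q := act 0 n136769
theorem D209647 : act 0 n136769 = n209647 := rfl
theorem F454478 : act 4 n209647 = n197131 := d18_3 (iv1 F323330) D136769 D209647 (iv5 D197131) (iv4 F175797) (iv0 D109281) F323325 (iv0 D74116) (iv5 F53337)
theorem F454479 : act 1 n155913 = n209647 := d15_0 (iv0 D209647) F365105 F365054
theorem F454480 : act 2 n205910 = n209647 := d1_3 F454478 F403181 D205910
theorem F454481 : act 7 n205912 = n209647 := d11_0 F454478 F403183 D205912
def n209648 : Q := act 1 n136769
theorem D209648 : act 1 n136769 = n209648 := rfl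
theorem F454482 : act 1 n209648 = n155913 := d15_1 D209648 F365106 (iv2 F219968)
theorem F454483 : act 7 n209648 = n205910 := d15_2 (iv0 D209647) D209648 F454480
theorem F454484 : act 4 n209648 = n197132 := d18_7 F111382 (iv4 D64301) (iv1 D30287) (iv4 F48704) D64294 D136769 D209648 F403190 F203978
theorem F454485 : act 2 n205912 = n209648 := d1_3 F454484 F403186 D205912
def n209649 : Q := act 5 n136769
theorem D209649 : act 5 n136769 = n209649 := rfl
theorem F454486 : act 2 n209649 = n209639 := d2_1 D209649 (iv5 D209639) (iv2 F219968)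
theorem F454487 : act 7 n209649 = n197385 := d13_2 (iv7 F365105) D209649 F404093
theorem F454488 : act 4 n209649 = n197386 := d16_2 D136769 D209649 F404096 F167215 F100063 (iv4 F100059) F324694 (iv7 F324693) (iv2 F100121)
theorem F454489 : act 0 n209649 = n202769 := d18_0 F425502 F396839 D197360 (iv5 F427353) F427354 (iv0 F403184) (iv4 F454478) (iv0 D209647) D209649
theorem F454490 : act 0 n203243 = n209649 := d18_2 (iv1 F396841) (iv4 F427518) F454488 F404096 F167215 F100135 (iv4 F175796) (iv0 D108113) D108115
def n209650 : Q := act 4 n136772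
theorem D209650 : act 4 n136772 = n209650 := rfl
theorem F454491 : act 2 n209650 = n205908 := d1_1 D209650 (iv4 D205908) (iv2 F219975)
theorem F454492 : act 3 n209650 = n203230 := d5_1 D209650 F438428 F428110 F422951 F349892
theorem F454493 : act 7 n209650 = n205909 := d11_2 (iv7 F219976) D209650 (iv4 D205909)
theorem F454494 : act 5 n209650 = n202769 := d16_1 D209650 F425502 (iv5 D195370) F162078 F84017 D64301 D136774 F219980 (iv2 F219975)
theorem F454495 : act 0 n209650 = n197138 := d18_2 (iv1 F354578) D209650 (iv4 D197138) (iv5 D107717) (iv4 F79313) (iv0 F164924) F346505 (iv0 F346516) (iv5 F354577)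
theorem F454496 : act 1 n209650 = n203651 := d18_6 F111240 F48704 D30286 D64298 D136772 D209650 (iv4 D203651) (iv0 D120060) F323699
theorem F454497 : act 6 n157218 = n209650 := d12_0 F454494 (iv6 D202769) (iv5 D116901) (iv6 F112177) D157218
theorem F454498 : act 3 n205918 = n197352 := d0_2 F454492 F438419 (iv2 F438463) F438459 (iv2 F454491)
def n209651 : Q := act 6 n136772
theorem D209651 : act 6 n136772 = n209651 := rfl
theorem F454499 : act 2 n209651 = n175103 := d3_1 D209651 F358429 (iv2 F219975)
theorem F454500 : act 3 n209651 = n173363 := d7_1 D209651 F349897 F349892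
theorem F454501 : act 4 n209651 = n157218 := d10_1 D209651 F454497 (iv4 D209650)
theorem F454502 : act 5 n209651 = n205988 := d12_1 D209651 (iv6 F438715) F438024 F209094 D136772
theorem F454503 : act 7 n209651 = n175104 := d14_2 (iv7 F219976) D209651 (iv6 F415311) F415312 F397169
theorem F454504 : act 0 n209651 = n175106 := d21_10 F274074 (iv1 F239794) (iv5 F438293) (iv6 D205890) F437981 F437978 (iv5 D126628) (iv1 F111419) D136772 D209651
theorem F454505 : act 0 n152602 = n209651 := d21_4 (iv5 D152608) (iv1 D71983) D71984 (iv6 F239796) (iv6 D209651) (iv5 D136772) (iv1 F111383) (iv5 F203978) (iv6 F389746) F389748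
def n209652 : Q := act 4 n136774
theorem D209652 : act 4 n136774 = n209652 := rfl
theorem F454506 : act 2 n209652 = n205909 := d1_1 D209652 (iv4 D205909) (iv2 F219979)
theorem F454507 : act 3 n209652 = n197353 := d5_1 D209652 (iv4 F423246) F423245 F179771 (iv3 F349884)
theorem F454508 : act 5 n209652 = n203243 := d9_2 D136774 D209652 F427518 (iv5 D195371) (iv4 F162081) (iv5 F84019) D64298 D136772 D209650 F454494 F425502 (iv5 D195370) F162078 F84017 D64301
theorem F454509 : act 6 n209652 = n139807 := d10_2 F349878 D209652 F223002
theorem F454510 : act 7 n209652 = n205908 := d11_2 (iv7 F219980) D209652 (iv4 D205908)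
theorem F454511 : act 0 n209652 = n203651 := d18_2 F396877 D209652 (iv4 D203651) F338748 F336643 F169304 (iv4 F396869) (iv0 D195379) D195380
theorem F454512 : act 1 n209652 = n197138 := d18_6 F111273 F100059 (iv1 F48705) D64301 D136774 D209652 (iv4 D197138) F325006 F324658
def n209653 : Q := act 0 n136777
theorem D209653 : act 0 n136777 = n209653 := rfl
def n209654 : Q := act 2 n136777
theorem D209654 : act 2 n136777 = n209654 := rfl
theorem F454513 : act 3 n209654 = n136784 := d0_2 D136777 D209654 F220007 F167212 (iv2 F100130)
theorem F454514 : act 4 n209654 = n196445 := d1_2 (iv4 F219988) D209654 F400696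
theorem F454515 : act 6 n209654 = n136783 := d3_2 (iv6 F219989) D209654 (iv2 D136783)
def n209655 : Q := act 5 n136777
theorem D209655 : act 5 n136777 = n209655 := rfl
theorem F454516 : act 3 n209655 = n136778 := d6_1 D209655 (iv5 D136778) D136777
def n209656 : Q := act 7 n136777
theorem D209656 : act 7 n136777 = n209656 := rfl
theorem F454517 : act 3 n209656 = n136779 := d8_1 D209656 (iv7 D136779) D136777
theorem F454518 : act 4 n209656 = n196448 := d11_1 D209656 (iv7 D196448) (iv4 F219988)
theorem F454519 : act 6 n209656 = n197371 := d14_1 D209656 (iv7 D197371) (iv6 D108121) (iv7 F100143) (iv6 F219989)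
def n209657 : Q := act 4 n136778
theorem D209657 : act 4 n136778 = n209657 := rfl
theorem F454520 : act 2 n209657 = n197385 := d1_1 D209657 (iv4 D197385) (iv2 F219990)
theorem F454521 : act 5 n209657 = n155913 := d9_2 D136778 D209657 (iv4 D155913) (iv5 F324694) F100059 (iv5 F100063) (iv4 F167215) (iv5 F404096) (iv4 F454488) (iv5 D209649) (iv4 D136769) (iv5 D64294) F48704 D30288 D64305
theorem F454522 : act 7 n209657 = n209639 := d11_2 (iv7 F227561) D209657 F454431
theorem F454523 : act 0 n209657 = n203243 := d17_0 (iv5 F454508) F454511 F429245 (iv4 D201973) (iv5 D115297) (iv0 F162030) D144711 F227544 D209657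
theorem F454524 : act 1 n209657 = n202769 := d18_6 (iv1 F204003) F167196 (iv1 D64304) D64305 D136778 D209657 F425502 F438445 F438444
def n209658 : Q := act 6 n136778
theorem D209658 : act 6 n136778 = n209658 := rfl
theorem F454525 : act 2 n209658 = n197383 := d3_1 D209658 F404090 (iv2 F219990)
theorem F454526 : act 5 n209658 = n136784 := d12_1 D209658 (iv6 D136784) (iv5 D64309) (iv6 F100131) D136778
def n209659 : Q := act 0 n136780
theorem D209659 : act 0 n136780 = n209659 := rfl
theorem F454527 : act 5 n209659 = n199337 := d17_1 D209659 (iv1 F411760) (iv5 F403936) F403935 (iv5 F216395) (iv0 F331635) (iv5 F356561) (iv0 D138283) (iv4 F219997)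
theorem F454528 : act 3 n209659 = n179946 := d20_5 (iv4 D34061) F48721 D64307 D136780 D209659 (iv4 D179946) (iv1 F318487) (iv4 F167037) (iv3 D108049) F78936
theorem F454529 : act 1 n197258 = n209659 := d15_0 (iv0 D209659) F219998 D197258
theorem F454530 : act 6 n144440 = n209659 := d7_0 F454528 (iv6 F440123) (iv3 F440125)
theorem F454531 : act 7 n197256 = n209659 := d8_0 F454528 F411762 (iv3 F411763)
theorem F454532 : act 2 n197257 = n209659 := d2_3 F454527 (iv2 F411761) F434686
def n209660 : Q := act 1 n136780
theorem D209660 : act 1 n136780 = n209660 := rfl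
theorem F454533 : act 7 n209660 = n197257 := d15_2 (iv0 D209659) D209660 F454532
theorem F454534 : act 5 n209660 = n199338 := d18_9 (iv1 D199338) (iv4 F402903) F402904 F280194 F356558 (iv4 F356560) (iv0 D138283) (iv4 F219997) D209660
theorem F454535 : act 3 n203900 = n209660 := d20_3 (iv4 F409349) F409350 D203900 (iv1 D209660) (iv3 D136780) (iv4 D64307) F48720 D34048 D74221 D156038
theorem F454536 : act 0 n197258 = n209660 := d20_4 (iv4 F404156) (iv1 F214389) (iv4 F396634) (iv3 F403750) (iv3 F454535) (iv4 D203900) (iv1 F409346) F409344 (iv3 F397097) (iv1 F404159)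
theorem F454537 : act 2 n197256 = n209660 := d15_3 (iv0 F454536) F454529 (iv7 F454531)
def n209661 : Q := act 2 n136780
theorem D209661 : act 2 n136780 = n209661 := rfl
theorem F454538 : act 3 n209661 = n197261 := d0_2 D136780 D209661 (iv2 D197261) (iv3 D108056) (iv2 F100138)
theorem F454539 : act 4 n209661 = n138285 := d1_2 (iv4 F219997) D209661 (iv2 D138285)
theorem F454540 : act 5 n209661 = n205926 := d2_2 F403973 D209661 F438450
theorem F454541 : act 6 n209661 = n204323 := d3_2 (iv6 F365422) D209661 F432041
theorem F454542 : act 7 n209661 = n197258 := d4_2 (iv7 F219998) D209661 (iv2 D197258)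
theorem F454543 : act 1 n209661 = n197256 := d15_0 (iv0 D197256) (iv7 F219998) D209661
theorem F454544 : act 1 n197257 = n209661 := d15_0 F454543 F454531 (iv2 F454532)
def n209662 : Q := act 4 n136781
theorem D209662 : act 4 n136781 = n209662 := rfl
theorem F454545 : act 2 n209662 = n196459 := d1_1 D209662 F400745 (iv2 F397088)
theorem F454546 : act 3 n209662 = n196469 := d5_1 D209662 F453646 (iv3 F435037) F397078 F397082
theorem F454547 : act 5 n209662 = n157878 := d9_2 (iv5 F397083) D209662 (iv4 F326638) (iv5 D110306) D110305 D198812 F409364 F400625 (iv4 F410654) F410652 (iv4 F326648) (iv5 D110301) D110300 D198810 F409356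
theorem F454548 : act 6 n209662 = n195927 := d10_2 (iv6 F397084) D209662 F398747
theorem F454549 : act 7 n209662 = n197364 := d11_2 (iv7 F397085) D209662 (iv4 D197364)
theorem F454550 : act 1 n209662 = n195888 := d18_8 F362593 (iv4 D110295) (iv1 D50855) (iv4 F80211) D110287 F330470 F219999 D209662 F398628
def n209663 : Q := act 3 n136782
theorem D209663 : act 3 n136782 = n209663 := rfl
theorem F454551 : act 2 n209663 = n200431 := d0_1 D209663 (iv3 F452507) F452506 (iv3 F219664) F397087
theorem F454552 : act 7 n209663 = n197366 := d8_2 F397091 D209663 (iv3 D197366)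
theorem F454553 : act 0 n209663 = n197397 := d19_4 D157877 (iv5 F410652) F410654 D209663 (iv5 D197397) (iv4 F222289) F222288 F312280 D181760 (iv4 F385163) F385162 F156915 (iv5 D101927) (iv4 F156913) (iv3 F337628) F303118 (iv5 F320254) F302606 F248794
theorem F454554 : act 1 n209663 = n197234 := d15_1 (iv0 F454553) (iv7 F403672) (iv2 F404134)
def n209664 : Q := act 6 n136782
theorem D209664 : act 6 n136782 = n209664 := rfl
theorem F454555 : act 2 n209664 = n197365 := d3_1 D209664 (iv6 D197365) F397087
theorem F454556 : act 4 n209664 = n199499 := d10_1 D209664 F412417 F410654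
theorem F454557 : act 7 n209664 = n196704 := d14_2 F397091 D209664 (iv6 D196704) F172166 (iv6 F397090)
theorem F454558 : act 1 n196880 = n209664 := d15_1 (iv0 F402137) F454557 F401539
theorem F454559 : act 1 n209664 = n199995 := d15_1 F454558 F414533 F407010
def n209665 : Q := act 0 n136784
theorem D209665 : act 0 n136784 = n209665 := rfl
def n209666 : Q := act 1 n136784
theorem D209666 : act 1 n136784 = n209666 := rfl
theorem F454560 : act 1 n209666 = n197384 := d15_1 D209666 (iv7 D197384) (iv2 F220007)
def n209667 : Q := act 7 n136784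
theorem D209667 : act 7 n136784 = n209667 := rfl
theorem F454561 : act 2 n209667 = n197384 := d4_1 D209667 (iv7 D197384) (iv2 F220007)
theorem F454562 : act 6 n209667 = n197377 := d14_1 D209667 (iv7 D197377) (iv6 D108123) (iv7 F100145) D136784
theorem F454563 : act 1 n197384 = n209665 := d15_0 (iv0 D209665) D209667 F454561
theorem F454564 : act 1 n197382 = n209667 := d15_1 D197382 (iv7 D209667) F220007
theorem F454565 : act 1 n209667 = n197381 := d15_0 (iv0 D197381) D197384 (iv2 F454561)
def n209668 : Q := act 6 n136786
theorem D209668 : act 6 n136786 = n209668 := rfl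
theorem F454566 : act 2 n209668 = n204257 := d3_1 D209668 F431703 F360382
theorem F454567 : act 3 n209668 = n136789 := d7_1 D209668 (iv6 D136789) D136786
theorem F454568 : act 4 n209668 = n197196 := d10_1 D209668 F403485 (iv4 F220009)
theorem F454569 : act 5 n209668 = n143883 := d12_1 D209668 F320340 (iv5 F229804) (iv6 F438910) F438909
theorem F454570 : act 7 n209668 = n204258 := d14_2 (iv7 F350337) D209668 F431708 (iv7 F391753) F391756
theorem F454571 : act 0 n209668 = n179166 := d21_4 (iv5 F450855) F450857 F438909 D209668 (iv6 F364181) (iv5 D143134) (iv1 D67077) D67079 (iv6 F353581) (iv1 F391758)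
theorem F454572 : act 0 n154270 = n209668 := d17_2 (iv1 F361956) F342359 F454569 F226516 F318154 (iv0 F323433) (iv5 D116302) D116301 (iv4 F361952)
def n209669 : Q := act 6 n136787
theorem D209669 : act 6 n136787 = n209669 := rfl
theorem F454573 : act 4 n209669 = n136789 := d10_1 D209669 (iv6 D136789) D136787
theorem F454574 : act 5 n209669 = n204796 := d12_1 D209669 (iv6 D204796) D204795 F433614 F424784
theorem F454575 : act 0 n209669 = n199330 := d21_4 F422304 (iv1 F424786) F424784 D209669 F411733 F179637 D115446 (iv5 F391315) F391316 (iv1 F422307)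
theorem F454576 : act 0 n202511 = n209669 := d21_1 (iv5 F424333) F454574 (iv6 D204796) (iv1 F433587) (iv6 F433591) F422304 (iv1 F424786) F424784 D209669 F454575
def n209670 : Q := act 2 n136791
theorem D209670 : act 2 n136791 = n209670 := rfl
theorem F454577 : act 3 n209670 = n202528 := d0_2 D136791 D209670 F424387 F222637 F350335
theorem F454578 : act 4 n209670 = n193741 := d1_2 F220321 D209670 F390865
theorem F454579 : act 5 n209670 = n200818 := d2_2 (iv5 F383812) D209670 F418040
theorem F454580 : act 6 n209670 = n192171 := d3_2 (iv6 F372068) D209670 (iv2 F385855)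
theorem F454581 : act 7 n209670 = n200817 := d4_2 F452679 D209670 (iv2 F452676)
theorem F454582 : act 1 n209670 = n137075 := d15_0 (iv0 F452680) F452679 D209670
theorem F454583 : act 1 n137079 = n209670 := d15_0 F454582 (iv7 F452666) F452664
theorem F454584 : act 0 n208448 = n191624 := d21_1 D208448 (iv5 D191624) D191625 (iv1 F452683) (iv6 D194071) (iv5 F364746) (iv1 F454582) F454579 F449395 (iv1 D208447)
def n209671 : Q := act 6 n136792
theorem D209671 : act 6 n136792 = n209671 := rfl
theorem F454585 : act 3 n209671 = n194239 := d7_1 D209671 F392458 F226782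
theorem F454586 : act 4 n209671 = n136794 := d10_1 D209671 (iv6 D136794) D136792
def n209672 : Q := act 3 n136802
theorem D209672 : act 3 n136802 = n209672 := rfl
theorem F454587 : act 2 n209672 = n189140 := d0_1 D209672 (iv3 F427119) F427118 (iv3 F433640) F433639
theorem F454588 : act 5 n209672 = n186643 := d6_2 F434653 D209672 (iv3 F434652)
theorem F454589 : act 6 n209672 = n198641 := d7_2 F431738 D209672 (iv3 F431732)
theorem F454590 : act 7 n209672 = n189154 := d8_2 F433525 D209672 (iv3 F433523)
theorem F454591 : act 4 n193535 = n209672 := d11_3 F454590 (iv4 F375871) D193535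
def n209673 : Q := act 4 n136802
theorem D209673 : act 4 n136802 = n209673 := rfl
theorem F454592 : act 6 n209673 = n202019 := d10_2 F431738 D209673 (iv4 F431733)
theorem F454593 : act 0 n202076 = n209673 := d20_10 (iv4 D209673) (iv1 D136802) (iv4 F179570) F179569 D115305 F362476 F362475 (iv1 F422844) (iv4 D202077) D202076
def n209674 : Q := act 0 n136809
theorem D209674 : act 0 n136809 = n209674 := rfl
def n209675 : Q := act 2 n136809
theorem D209675 : act 2 n136809 = n209675 := rfl
theorem F454594 : act 6 n209675 = n191511 := d3_2 F427283 D209675 (iv2 F427281)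
def n209676 : Q := act 5 n136809
theorem D209676 : act 5 n136809 = n209676 := rfl
theorem F454595 : act 3 n209676 = n136810 := d6_1 D209676 (iv5 D136810) D136809
theorem F454596 : act 6 n209676 = n179736 := d12_2 F427283 D209676 (iv5 F403453) F403454 (iv5 F427282)
theorem F454597 : act 0 n209676 = n186641 := d21_1 D209676 (iv5 F385897) (iv6 D192182) F156187 (iv6 F329329) D64761 (iv1 F219059) (iv5 F233573) D205935 F438490
theorem F454598 : act 4 n206901 = n209676 := d10_3 F454596 F352315 D206901
def n209677 : Q := act 4 n136810
theorem D209677 : act 4 n136810 = n209677 := rfl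
theorem F454599 : act 6 n209677 = n179737 := d10_2 (iv6 F337822) D209677 (iv4 D179737)
theorem F454600 : act 0 n209677 = n209457 := d18_2 F452504 D209677 (iv4 D209457) (iv5 D136495) F167115 (iv0 D108084) (iv4 F99394) (iv0 F218590) D209157
theorem F454601 : act 1 n209677 = n209462 := d18_6 F169551 F99435 F175579 F175578 D136810 D209677 (iv4 D209462) (iv0 F390638) (iv5 F375832)
def n209678 : Q := act 1 n136812
theorem D209678 : act 1 n136812 = n209678 := rfl
def n209679 : Q := act 2 n136812
theorem D209679 : act 2 n136812 = n209679 := rfl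
theorem F454602 : act 5 n209679 = n190517 := d2_2 F426546 D209679 (iv2 F426549)
def n209680 : Q := act 4 n136813
theorem D209680 : act 4 n136813 = n209680 := rfl
theorem F454603 : act 3 n209680 = n197809 := d5_1 D209680 F420130 (iv3 F444488) F444489 (iv3 F426547)
theorem F454604 : act 6 n209680 = n197807 := d10_2 F426560 D209680 (iv4 F426562)
theorem F454605 : act 0 n209680 = n209462 := d18_2 F246404 D209680 (iv4 D209462) (iv5 D136497) (iv4 F167118) (iv0 F176830) (iv4 F176831) (iv0 F176832) D156668
theorem F454606 : act 1 n209680 = n209457 := d18_6 F169531 (iv4 F104287) (iv1 F203874) (iv4 F203879) D136813 D209680 (iv4 D209457) (iv0 F408383) (iv5 D198580)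
def n209681 : Q := act 3 n136814
theorem D209681 : act 3 n136814 = n209681 := rfl
theorem F454607 : act 5 n209681 = n209168 := d6_2 (iv5 F220019) D209681 F452551
theorem F454608 : act 7 n209681 = n209167 := d8_2 (iv7 F220021) D209681 F452550
def n209682 : Q := act 4 n136814
theorem D209682 : act 4 n136814 = n209682 := rfl
theorem F454609 : act 2 n209682 = n209512 := d1_1 D209682 F453978 F220020
theorem F454610 : act 5 n209682 = n199921 := d9_2 (iv5 F220019) D209682 (iv4 D199921) (iv5 D111994) (iv4 F93029) F93030 F92809 D64201 D136569 D209511 F453975 (iv5 D174694) (iv4 F326926) (iv5 F167120) (iv4 F218607)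
theorem F454611 : act 7 n209682 = n209172 := d11_2 (iv7 F220021) D209682 (iv4 D209172)
theorem F454612 : act 0 n209682 = n209510 := d18_2 D136814 D209682 F453971 F220055 (iv4 F104287) F203880 F175578 (iv0 D64316) D64318
theorem F454613 : act 1 n209682 = n209204 := d18_6 D135888 F218578 (iv1 F201761) (iv4 F218607) (iv5 F220019) D209682 (iv4 D209204) F218698 (iv5 D135890)
def n209683 : Q := act 6 n136814
theorem D209683 : act 6 n136814 = n209683 := rfl
theorem F454614 : act 2 n209683 = n209513 := d3_1 D209683 (iv6 D209513) F220020
theorem F454615 : act 5 n209683 = n209551 := d12_1 D209683 (iv6 D209551) F219671 (iv6 F218608) (iv5 F220019)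
theorem F454616 : act 0 n209683 = n197502 := d21_4 (iv5 D136503) (iv1 F218610) (iv5 F220019) D209683 (iv6 D197502) (iv5 D108279) D108277 F315116 (iv6 F408402) F408400
def n209684 : Q := act 0 n136815
theorem D209684 : act 0 n136815 = n209684 := rfl
theorem F454617 : act 4 n209684 = n136867 := d18_3 (iv1 F100148) D136815 D209684 F220050 F218584 (iv0 F99385) D64169 F161369 D64201
theorem F454618 : act 5 n209684 = n141975 := d19_1 D209684 F344639 F344638 F359853 F147505 F352717 (iv3 F205982) (iv1 F350692) (iv5 F249645) F189977 (iv3 F190560) F190674 D58366 D124833 F342501 D140627 (iv5 F405718) (iv4 F449884) (iv3 F449887)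
theorem F454619 : act 3 n209684 = n141976 := d20_5 (iv4 F168579) D197773 (iv4 F449884) (iv3 F449887) D209684 (iv4 F411406) (iv1 F411408) D202658 (iv3 F424966) (iv1 D141830)
theorem F454620 : act 2 n209470 = n209684 := d15_3 (iv0 D209684) F220023 D209470
theorem F454621 : act 1 n209467 = n209684 := d15_0 (iv0 D209684) (iv7 F408367) (iv2 F453804)
theorem F454622 : act 7 n209684 = n209156 := d15_2 D209467 F454621 F452495
def n209685 : Q := act 6 n136816
theorem D209685 : act 6 n136816 = n209685 := rfl
theorem F454623 : act 2 n209685 = n209509 := d3_1 D209685 (iv6 D209509) (iv2 F220024)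
theorem F454624 : act 3 n209685 = n207294 := d7_1 D209685 (iv6 F447586) F447583
theorem F454625 : act 4 n209685 = n198184 := d10_1 D209685 F408369 F408368
theorem F454626 : act 7 n209685 = n207289 := d14_2 D136816 D209685 (iv6 D207289) F209289 F326905
theorem F454627 : act 0 n201333 = n209685 := d21_4 (iv5 F428939) (iv1 F428941) D208480 (iv6 F449549) (iv6 D209685) F220025 (iv1 F169559) D198587 F408413 D203024
def n209686 : Q := act 5 n136819
theorem D209686 : act 5 n136819 = n209686 := rfl
theorem F454628 : act 2 n209686 = n189158 := d2_1 D209686 (iv5 F390123) F390121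
theorem F454629 : act 3 n209686 = n136820 := d6_1 D209686 (iv5 D136820) D136819
theorem F454630 : act 4 n209686 = n201209 := d9_1 D209686 (iv5 D201209) (iv4 F376345) F376347 F376352 (iv5 F390110) F390109 (iv5 F375844) (iv4 F419458) (iv5 D201208) F347667 (iv5 F267965) (iv4 F332127) F332128 F227085
theorem F454631 : act 6 n209686 = n203036 := d12_2 (iv6 F360695) D209686 (iv5 D203036) (iv6 D117586) D117585
theorem F454632 : act 1 n209686 = n188220 := d17_6 F421002 (iv5 F366898) F347647 F332128 F227085 D209686 F372720 (iv0 F357406) (iv4 F421001)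
def n209687 : Q := act 4 n136820
theorem D209687 : act 4 n136820 = n209687 := rfl
theorem F454633 : act 6 n209687 = n203038 := d10_2 F365687 D209687 (iv4 D203038)
def n209688 : Q := act 5 n136824
theorem D209688 : act 5 n136824 = n209688 := rfl
theorem F454634 : act 2 n209688 = n136831 := d2_1 D209688 (iv5 D136831) (iv2 F220029)
theorem F454635 : act 6 n209688 = n191461 := d12_2 D136824 D209688 (iv5 F411704) (iv6 D137908) F103080
def n209689 : Q := act 5 n136827
theorem D209689 : act 5 n136827 = n209689 := rfl
theorem F454636 : act 2 n209689 = n202562 := d2_1 D209689 F424514 F221165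
theorem F454637 : act 3 n209689 = n138113 := d6_1 D209689 (iv5 F438179) F438177
theorem F454638 : act 4 n209689 = n143462 := d9_1 D209689 F226203 (iv4 D142621) F102704 (iv4 F169577) (iv5 F327508) (iv4 F217178) F329460 (iv4 F333086) (iv5 D139759) (iv4 D65610) (iv5 D30742) (iv4 F48729) D64327 D136827
theorem F454639 : act 0 n209689 = n138012 := d17_2 F225844 D209689 (iv5 D138012) D138011 F221270 F218724 (iv5 F220893) F220976 D142994
theorem F454640 : act 1 n209689 = n138007 := d17_6 (iv1 F100638) (iv5 F169581) (iv1 D64325) D64327 D136827 D209689 (iv5 D138007) (iv0 F355781) (iv4 D137869)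
theorem F454641 : act 6 n209689 = n202561 := d21_3 F353577 F225844 D209689 (iv1 F424509) (iv6 F382820) (iv5 D191266) F157746 (iv5 F357366) (iv6 D141256) D141252
theorem F454642 : act 0 n143485 = n204254 := d21_4 (iv5 D138012) (iv1 F221085) F221082 D143485 (iv6 D204254) (iv5 D123234) (iv1 F197520) (iv5 F424506) (iv6 F454641) F454639
def n209690 : Q := act 6 n136827
theorem D209690 : act 6 n136827 = n209690 := rfl
theorem F454643 : act 2 n209690 = n203970 := d3_1 D209690 F430642 F221165
theorem F454644 : act 3 n209690 = n195612 := d7_1 D209690 (iv6 F438182) F438177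
theorem F454645 : act 4 n209690 = n136828 := d10_1 D209690 (iv6 D136828) D136827
theorem F454646 : act 5 n209690 = n145288 := d12_1 D209690 (iv6 F363380) (iv5 F424506) (iv6 F454641) (iv5 D209689)
theorem F454647 : act 7 n209690 = n204151 := d14_2 F220978 D209690 F431214 (iv7 F444248) F444247
theorem F454648 : act 0 n209690 = n204153 := d21_10 (iv5 F431219) (iv1 F444463) (iv5 F356283) (iv6 D137870) (iv1 F100638) D64862 D138007 (iv1 F454640) (iv5 D209689) D209690
theorem F454649 : act 1 n209690 = n204152 := d15_1 (iv0 F454648) (iv7 F431218) (iv2 F431220)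
def n209691 : Q := act 5 n136828
theorem D209691 : act 5 n136828 = n209691 := rfl
theorem F454650 : act 2 n209691 = n191461 := d2_1 D209691 (iv5 F411704) F221168
theorem F454651 : act 3 n209691 = n136834 := d6_1 D209691 (iv5 D136834) (iv3 F220031)
theorem F454652 : act 6 n209691 = n136831 := d12_2 D136828 D209691 (iv5 D136831) (iv6 D64328) D64327
theorem F454653 : act 7 n209691 = n191460 := d13_2 F450317 D209691 F450318
theorem F454654 : act 0 n209691 = n191462 := d17_2 F371444 D209691 F448728 F448724 F385395 F332410 D101495 D193354 (iv4 F389552)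
theorem F454655 : act 1 n209691 = n191463 := d17_6 (iv1 F356306) F342385 F331875 (iv5 F454646) F454645 D209691 F383519 (iv0 F374698) (iv4 F217241)
def n209692 : Q := act 3 n136829
theorem D209692 : act 3 n136829 = n209692 := rfl
theorem F454656 : act 6 n209692 = n208161 := d7_2 (iv6 F220977) D209692 (iv3 D208161)
theorem F454657 : act 7 n209692 = n193854 := d8_2 F428079 D209692 (iv3 F428077)
def n209693 : Q := act 5 n136829
theorem D209693 : act 5 n136829 = n209693 := rfl
def n209694 : Q := act 3 n136830
theorem D209694 : act 3 n136830 = n209694 := rfl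
theorem F454658 : act 4 n209694 = n166197 := d5_2 F366628 D209694 (iv3 F344765) F320868 (iv3 F306079)
theorem F454659 : act 6 n209694 = n166196 := d7_2 (iv6 F366629) D209694 F356223
theorem F454660 : act 2 n176124 = n209694 := d3_3 F454659 F302332 D176124
def n209695 : Q := act 5 n136830
theorem D209695 : act 5 n136830 = n209695 := rfl
theorem F454661 : act 6 n209695 = n191469 := d12_2 (iv6 F366629) D209695 (iv5 D191469) D191470 F383532
theorem F454662 : act 4 n209695 = n160114 := d16_2 F366628 D209695 (iv5 D160114) F115040 (iv5 F86854) F86853 D106007 (iv7 F261449) F261448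
def n209696 : Q := act 0 n136831
theorem D209696 : act 0 n136831 = n209696 := rfl
theorem F454663 : act 4 n209696 = n143381 := d18_1 D209696 (iv1 F366177) (iv4 F390677) (iv5 D193682) D193681 (iv0 F390672) (iv4 F366632) (iv0 D136829) D136831
theorem F454664 : act 2 n143502 = n209696 := d15_3 (iv0 D209696) (iv0 F440453) F440456
def n209697 : Q := act 4 n136831
theorem D209697 : act 4 n136831 = n209697 := rfl
theorem F454665 : act 5 n209697 = n153629 := d16_5 F342567 (iv5 D65614) (iv4 F100288) D136831 D209697 F261541 (iv5 F313498) F313507 (iv2 F313503)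
def n209698 : Q := act 3 n136833
theorem D209698 : act 3 n136833 = n209698 := rfl
def n209699 : Q := act 5 n136833
theorem D209699 : act 5 n136833 = n209699 := rfl
theorem F454666 : act 4 n209699 = n153672 := d9_1 D209699 (iv5 F330118) (iv4 D131169) (iv5 F315549) (iv4 F425228) F438233 F438231 (iv5 F427375) (iv4 F427376) (iv5 F383465) (iv4 D131167) (iv5 F315547) D203147 F427165 (iv4 F371528)
theorem F454667 : act 0 n209699 = n208467 := d17_2 F326704 D209699 (iv5 D208467) F363251 D134568 F427171 F427168 (iv0 D130741) (iv4 F209291)
theorem F454668 : act 1 n209699 = n207932 := d17_6 F394442 D207968 F447194 F427165 (iv4 F371528) D209699 (iv5 D207932) F363248 (iv4 F333890)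
def n209700 : Q := act 0 n136836
theorem D209700 : act 0 n136836 = n209700 := rfl
theorem F454669 : act 1 n189601 = n209700 := d15_0 (iv0 D209700) F352694 (iv2 F377075)
def n209701 : Q := act 2 n136836
theorem D209701 : act 2 n136836 = n209701 := rfl
theorem F454670 : act 4 n209701 = n193306 := d1_2 (iv4 F220034) D209701 F389428
theorem F454671 : act 6 n209701 = n208160 := d3_2 (iv6 F220035) D209701 (iv2 D208160)
theorem F454672 : act 7 n209701 = n189601 := d4_2 (iv7 F352694) D209701 F377075
def n209702 : Q := act 4 n136837
theorem D209702 : act 4 n136837 = n209702 := rfl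
theorem F454673 : act 5 n209702 = n208877 := d16_1 D209702 (iv4 D208877) F217414 F214632 F207020 F165740 D136839 (iv7 F434925) F434922
theorem F454674 : act 0 n209702 = n209411 := d17_0 F454268 (iv1 F454267) F387510 (iv4 F451858) F451856 F446958 D209267 F452970 D209702
theorem F454675 : act 1 n209702 = n209413 := d18_6 F328965 F99439 F98666 F100290 D136837 D209702 (iv4 D209413) F390631 (iv5 D193667)
def n209703 : Q := act 1 n136838
theorem D209703 : act 1 n136838 = n209703 := rfl
def n209704 : Q := act 2 n136838
theorem D209704 : act 2 n136838 = n209704 := rfl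
theorem F454676 : act 3 n209704 = n189601 := d0_2 D136838 D209704 F377075 F352695 (iv2 F218031)
theorem F454677 : act 6 n209704 = n189600 := d3_2 F365611 D209704 F377070
theorem F454678 : act 4 n209704 = n203226 := d16_0 (iv5 D203226) (iv4 F190931) (iv5 F190928) F233012 F233015 D203197 F434921 F434920 D209704
theorem F454679 : act 5 n191430 = n209704 := d9_0 F454678 (iv5 D203226) (iv4 F190931) (iv5 F190928) F233012 F233015 D203197 F434921 F434919 F404357 F278982 (iv5 F241307) (iv4 F278979) (iv5 F278981) (iv4 F451864)
def n209705 : Q := act 4 n136838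
theorem D209705 : act 4 n136838 = n209705 := rfl
theorem F454680 : act 2 n209705 = n203226 := d1_1 D209705 (iv4 F454678) (iv2 D209704)
theorem F454681 : act 3 n209705 = n139400 := d5_1 D209705 F222613 F165739 F165740 D136838
theorem F454682 : act 6 n209705 = n192269 := d10_2 F365611 D209705 (iv4 D192269)
theorem F454683 : act 7 n209705 = n144446 := d11_2 F434920 D209705 (iv4 F434919)
theorem F454684 : act 5 n203179 = n209705 := d13_3 F454683 F404357 (iv7 F427331)
theorem F454685 : act 1 n209705 = n142253 := d17_6 F322379 (iv5 F322380) (iv1 F242146) F241292 (iv4 F427332) F454684 (iv5 D142253) D142252 F323265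
def n209706 : Q := act 5 n136838
theorem D209706 : act 5 n136838 = n209706 := rfl
theorem F454686 : act 2 n209706 = n191430 := d2_1 D209706 F454679 (iv2 D209704)
theorem F454687 : act 3 n209706 = n136839 := d6_1 D209706 (iv5 D136839) D136838
theorem F454688 : act 6 n209706 = n191418 := d12_2 F365611 D209706 (iv5 D191418) (iv6 F367530) F367529
theorem F454689 : act 7 n209706 = n203197 := d13_2 F434920 D209706 F434921
theorem F454690 : act 4 n209706 = n203175 := d16_4 (iv4 F427332) F454684 (iv4 D209705) D209706 F427312 F306504 (iv5 F232971) F190930 (iv2 F241293)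
theorem F454691 : act 0 n192983 = n209706 := d21_7 (iv5 D46684) D46682 D99947 D192266 (iv1 F386247) D209277 F453013 (iv5 D209706) (iv6 F365611) (iv1 D99952)
def n209707 : Q := act 4 n136839
theorem D209707 : act 4 n136839 = n209707 := rfl
theorem F454692 : act 3 n209707 = n182136 := d5_1 D209707 F365221 F427315 (iv4 F454690) F454687
theorem F454693 : act 5 n209707 = n207262 := d9_2 D136839 D209707 (iv4 D207262) (iv5 D130668) (iv4 F329391) F329392 F100290 D136837 D209702 F454673 (iv4 D208877) F217414 F214632 F207020 F165740
theorem F454694 : act 0 n209707 = n209413 := d17_0 F454273 (iv1 D209595) D209596 F454276 (iv5 D138216) (iv0 F221379) D209495 F453918 D209707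
theorem F454695 : act 1 n209707 = n209411 := d18_6 D64143 F216992 (iv1 F216991) F165740 D136839 D209707 (iv4 D209411) (iv0 D136443) (iv5 D64144)
def n209708 : Q := act 3 n136840
theorem D209708 : act 3 n136840 = n209708 := rfl
theorem F454696 : act 6 n209708 = n185287 := d7_2 F451210 D209708 (iv3 F438516)
theorem F454697 : act 7 n209708 = n153671 := d8_2 F399186 D209708 F351877
def n209709 : Q := act 4 n136841
theorem D209709 : act 4 n136841 = n209709 := rfl
theorem F454698 : act 2 n209709 = n209596 := d1_1 D209709 F454276 F221387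
theorem F454699 : act 3 n209709 = n153659 := d5_1 D209709 (iv4 D153659) (iv3 F306358) D203192 (iv3 F427378)
theorem F454700 : act 5 n209709 = n208873 := d9_2 F220036 D209709 (iv4 D208873) (iv5 D135226) (iv4 F164154) D196047 F399182 (iv5 F399183) F451209 F451208 (iv4 D208875) (iv5 D135228) (iv4 F202589) (iv5 F397227) F397226
theorem F454701 : act 7 n209709 = n182267 := d11_2 F451860 D209709 (iv4 F451858)
theorem F454702 : act 0 n209709 = n209211 := d17_0 F452726 (iv1 F452358) (iv5 F454673) (iv4 D209702) (iv5 D136837) (iv0 D64330) D64332 D136841 D209709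
theorem F454703 : act 1 n209709 = n209030 := d18_6 (iv1 F219632) (iv4 F441152) F441151 F397226 F220036 D209709 F451916 (iv0 F451840) (iv5 D209012)
def n209710 : Q := act 0 n136842
theorem D209710 : act 0 n136842 = n209710 := rfl
theorem F454704 : act 5 n209710 = n201065 := d17_3 F443974 (iv5 F352114) D209710 (iv4 D201065) (iv5 D113841) (iv0 F327989) (iv5 F218055) (iv0 F218056) D207251
theorem F454705 : act 4 n209710 = n136890 := d18_1 D209710 F390637 (iv4 F452353) (iv5 D209120) (iv4 D135791) D135790 (iv4 F444670) (iv0 D207394) (iv5 F352114)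
theorem F454706 : act 1 n208878 = n209710 := d15_0 (iv0 D209710) (iv7 F451824) F451823
theorem F454707 : act 2 n191735 = n209710 := d1_3 F454705 (iv2 F451837) (iv4 F451842)
def n209711 : Q := act 1 n136842
theorem D209711 : act 1 n136842 = n209711 := rfl
theorem F454708 : act 1 n209711 = n208878 := d15_1 D209711 (iv7 F451869) F451865
theorem F454709 : act 7 n209711 = n191735 := d15_2 (iv0 D209710) D209711 F454707
theorem F454710 : act 5 n209711 = n208879 := d17_7 F447570 (iv5 D135226) (iv1 F99108) (iv5 F218006) (iv4 F352115) (iv5 F352114) D209711 F451221 (iv4 F447572)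
theorem F454711 : act 4 n209711 = n136891 := d17_9 (iv1 D136891) (iv5 D64349) F99369 D135881 D209147 F452454 (iv0 D207394) (iv5 F352114) D209711
theorem F454712 : act 3 n191737 = n209711 := d19_19 (iv1 D209711) F352114 F352115 (iv3 F451765) (iv1 F451768) (iv5 D187753) (iv4 D90535) F65448 D42384 F292382 F74170 F65964 (iv1 F291255) F291257 D41351 D88602 (iv1 F136672) (iv5 F152413) (iv4 F384298)
def n209712 : Q := act 3 n136842
theorem D209712 : act 3 n136842 = n209712 := rfl
theorem F454713 : act 2 n209712 = n204532 := d0_1 D209712 F432808 (iv2 F268108) F451870 F451865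
theorem F454714 : act 5 n209712 = n204525 := d6_2 (iv5 F352114) D209712 F432805
theorem F454715 : act 6 n209712 = n193454 := d7_2 F352113 D209712 F389891
def n209713 : Q := act 6 n136845
theorem D209713 : act 6 n136845 = n209713 := rfl
theorem F454716 : act 4 n209713 = n136847 := d10_1 D209713 (iv6 D136847) D136845
theorem F454717 : act 0 n196972 = n209713 := d20_10 F454716 F453660 F452899 F402571 F388404 (iv3 F393337) F393338 F402492 (iv4 D196973) D196972
def n209714 : Q := act 4 n136846
theorem D209714 : act 4 n136846 = n209714 := rfl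
theorem F454718 : act 3 n209714 = n137319 := d5_1 D209714 (iv4 D137319) (iv3 F164734) D196296 (iv3 F400272)
theorem F454719 : act 5 n209714 = n199056 := d16_1 D209714 (iv4 D199056) (iv5 D110895) (iv4 F165424) (iv5 F220040) (iv4 D136850) D136851 (iv7 F409977) (iv2 F409979)
theorem F454720 : act 1 n209714 = n207662 := d18_6 (iv1 F402442) (iv4 D196956) F228376 (iv4 D136845) D136846 D209714 F445897 (iv0 F383803) F402219
theorem F454721 : act 6 n209714 = n205901 := d21_5 (iv5 D207667) (iv1 D132202) D132203 (iv6 F445896) (iv1 F454720) (iv5 D205901) D205899 (iv5 F450469) F450470 (iv1 F445928)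
def n209715 : Q := act 6 n136846
theorem D209715 : act 6 n136846 = n209715 := rfl
theorem F454722 : act 2 n209715 = n202391 := d3_1 D209715 F423853 (iv2 F409979)
theorem F454723 : act 3 n209715 = n141156 := d7_1 D209715 (iv6 F400268) (iv3 F400272)
theorem F454724 : act 4 n209715 = n205901 := d10_1 D209715 (iv6 F454721) (iv4 D209714)
theorem F454725 : act 7 n209715 = n141318 := d14_2 (iv7 F409974) D209715 F224337 F217401 F409975
theorem F454726 : act 0 n209715 = n208766 := d21_4 (iv5 D64336) D64333 D136846 D209715 (iv6 D208766) F361056 (iv1 D87096) D87099 (iv6 F345451) (iv1 D136856)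
theorem F454727 : act 5 n209715 = n202387 := d21_6 (iv5 F431308) F451490 F451487 (iv6 D136950) (iv1 F220495) D209715 (iv1 F450536) (iv5 D208713) F374826 (iv1 F431306)
theorem F454728 : act 0 n137196 = n209715 := d17_2 (iv1 F423544) F423548 F454727 (iv4 D202387) F357060 (iv0 F357043) (iv5 F357047) F357046 D115593
def n209716 : Q := act 5 n136847
theorem D209716 : act 5 n136847 = n209716 := rfl
theorem F454729 : act 2 n209716 = n202392 := d2_1 D209716 (iv5 F452718) F452717
theorem F454730 : act 3 n209716 = n139608 := d6_1 D209716 (iv5 F411728) F411731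
theorem F454731 : act 6 n209716 = n202387 := d12_2 D136847 D209716 (iv5 F454727) (iv6 D209715) (iv5 D136846)
theorem F454732 : act 4 n209716 = n202388 := d19_2 (iv1 F453661) D209716 F423844 (iv1 F422915) D204808 (iv4 F433668) F422926 (iv1 F393311) D194605 F393792 (iv3 F409556) F409558 (iv5 F403113) (iv4 D125959) F169725 F169727 F92908 (iv4 F99495) D64494
theorem F454733 : act 0 n137224 = n209716 := d21_10 (iv5 D209716) F453660 F452900 (iv6 D199349) (iv1 F172506) F359969 (iv5 F294633) F375541 F375539 (iv6 F363689)
def n209717 : Q := act 4 n136849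
theorem D209717 : act 4 n136849 = n209717 := rfl
theorem F454734 : act 2 n209717 = n202449 := d1_1 D209717 F424052 F422574
theorem F454735 : act 3 n209717 = n196548 := d5_1 D209717 (iv4 D196548) (iv3 F220041) (iv4 D136850) D136849
theorem F454736 : act 5 n209717 = n199552 := d9_2 F417148 D209717 F417472 (iv5 D200683) (iv4 D113339) (iv5 F220873) (iv4 F360190) (iv5 F360192) F223848 (iv5 F412640) (iv4 F417453) (iv5 D200680) (iv4 D113334) (iv5 F219256) D200602
theorem F454737 : act 0 n209717 = n196274 := d17_0 F400152 D199625 F412899 (iv4 F349707) (iv5 F349705) (iv0 F349657) F349662 (iv0 F401347) D209717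
def n209718 : Q := act 6 n136850
theorem D209718 : act 6 n136850 = n209718 := rfl
theorem F454738 : act 3 n209718 = n196549 := d7_1 D209718 (iv6 D196549) (iv3 F220041)
theorem F454739 : act 4 n209718 = n136852 := d10_1 D209718 (iv6 D136852) D136850
theorem F454740 : act 0 n209718 = n190581 := d20_1 (iv4 F454739) F380200 F157331 D102408 (iv3 F385226) (iv4 D192019) D192018 F385222 (iv3 F452762) (iv1 F452766)
def n209719 : Q := act 4 n136851
theorem D209719 : act 4 n136851 = n209719 := rfl
theorem F454741 : act 3 n209719 = n200832 := d5_1 D209719 F418097 (iv3 D200601) D200602 F417151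
theorem F454742 : act 5 n209719 = n199049 := d9_2 D136851 D209719 (iv4 D199049) (iv5 D110891) D110890 (iv5 F220038) (iv4 D136845) D136846 D209714 F454719 (iv4 D199056) (iv5 D110895) (iv4 F165424) (iv5 F220040) (iv4 D136850)
theorem F454743 : act 0 n209719 = n207662 := d17_0 (iv5 D207662) (iv1 F410521) F441892 F441889 F336142 (iv0 D64552) (iv5 F100312) (iv0 F220043) D209719
def n209720 : Q := act 5 n136852
theorem D209720 : act 5 n136852 = n209720 := rfl
theorem F454744 : act 0 n209720 = n136996 := d17_2 (iv1 F452766) D209720 (iv5 F422942) (iv4 F434991) F434992 (iv0 F411256) (iv5 D199230) F402332 (iv4 F452763)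
def n209721 : Q := act 1 n136854
theorem D209721 : act 1 n136854 = n209721 := rfl
theorem F454745 : act 1 n209721 = n136862 := d15_1 D209721 (iv7 D136862) (iv2 F220045)
theorem F454746 : act 7 n209721 = n136859 := d15_2 (iv0 F389172) D209721 (iv2 F389170)
theorem F454747 : act 6 n202999 = n209721 := d21_3 (iv5 F329018) D117507 D202999 (iv1 D209721) (iv6 D136854) (iv5 F365148) F365144 F336146 D137329 F360688
theorem F454748 : act 2 n209721 = n136860 := d3_1 F454747 (iv6 F453466) (iv2 F453465)
theorem F454749 : act 1 n136862 = n193204 := d15_1 F454745 (iv7 F389173) (iv2 F454748)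
def n209722 : Q := act 7 n136854
theorem D209722 : act 7 n136854 = n209722 := rfl
theorem F454750 : act 2 n209722 = n136862 := d4_1 D209722 (iv7 D136862) (iv2 F220045)
theorem F454751 : act 1 n136860 = n209722 := d15_1 D136860 (iv7 D209722) F220045
theorem F454752 : act 1 n209722 = n136859 := d15_1 F454751 (iv7 F454746) F454748
def n209723 : Q := act 4 n136856
theorem D209723 : act 4 n136856 = n209723 := rfl
theorem F454753 : act 2 n209723 = n206698 := d1_1 D209723 F441889 (iv2 F336143)
theorem F454754 : act 3 n209723 = n200788 := d5_1 D209723 (iv4 F417906) F381099 F149000 (iv3 F345450)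
theorem F454755 : act 5 n209723 = n206869 := d9_2 F220821 D209723 F442459 F410509 (iv4 F228408) (iv5 F336148) (iv4 F336138) F330978 (iv4 F216190) F442468 F442465 (iv5 F345100) (iv4 F228374) (iv5 F336129) (iv4 F336133)
theorem F454756 : act 6 n209723 = n182421 := d10_2 (iv6 F345451) D209723 (iv4 D182421)
theorem F454757 : act 7 n209723 = n208320 := d11_2 F336147 D209723 F448903
theorem F454758 : act 0 n209723 = n208326 := d18_2 F330971 D209723 F448923 F402443 (iv4 D196956) (iv0 F336151) (iv4 D136850) F218710 (iv5 F330974)
theorem F454759 : act 1 n209723 = n208325 := d18_6 (iv1 F219213) D137780 (iv1 F336128) (iv4 F336133) F220821 D209723 F448922 F345912 (iv5 D64807)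
def n209724 : Q := act 1 n136857
theorem D209724 : act 1 n136857 = n209724 := rfl
theorem F454760 : act 1 n209724 = n208341 := d15_1 D209724 (iv7 F450483) F450478
theorem F454761 : act 7 n209724 = n137886 := d15_2 (iv0 F418583) D209724 F418582
theorem F454762 : act 5 n209724 = n207044 := d17_7 (iv1 F410507) F410509 (iv1 F180521) D139466 (iv4 F446166) F446167 D209724 (iv0 D207044) (iv4 F338254)
theorem F454763 : act 4 n209724 = n137888 := d17_9 F453005 F453001 (iv1 D199207) D199209 (iv4 F418338) (iv5 F418342) F446169 F446167 D209724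
theorem F454764 : act 6 n191580 = n209724 := d21_3 F450760 F442002 F439245 (iv1 D209724) F365140 (iv5 F380826) (iv1 D126554) D126556 D205721 (iv1 F450762)
theorem F454765 : act 2 n146860 = n209724 := d1_3 F454763 (iv2 F411278) (iv4 F411283)
def n209725 : Q := act 3 n136859
theorem D209725 : act 3 n136859 = n209725 := rfl
theorem F454766 : act 2 n209725 = n160338 := d0_1 D209725 F253234 F366848 (iv3 F389171) F389170
theorem F454767 : act 6 n209725 = n160280 := d7_2 (iv6 F389168) D209725 (iv3 F389164)
theorem F454768 : act 5 n203713 = n209725 := d12_5 F454767 F253144 F115329 (iv5 F191597) D203713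
theorem F454769 : act 0 n208343 = n209725 := d21_4 F345482 F209720 D134196 D208343 F454767 F253144 (iv1 F115330) D76839 (iv6 F328518) F345484
def n209726 : Q := act 4 n136859
theorem D209726 : act 4 n136859 = n209726 := rfl
theorem F454770 : act 6 n209726 = n199591 := d10_2 (iv6 F389168) D209726 F412788
theorem F454771 : act 3 n204492 = n209726 := d7_3 F454770 (iv3 F431785) (iv6 F432702)
theorem F454772 : act 5 n199589 = n209726 := d12_5 F454770 (iv5 D199591) (iv6 D111463) D111462 D199589
def n209727 : Q := act 5 n136859
theorem D209727 : act 5 n136859 = n209727 := rfl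
theorem F454773 : act 3 n209727 = n203713 := d6_1 D209727 F454768 (iv3 D209725)
theorem F454774 : act 6 n209727 = n203705 := d12_2 (iv6 F389168) D209727 F429466 (iv6 F253123) (iv5 F389165)
def n209728 : Q := act 4 n136860
theorem D209728 : act 4 n136860 = n209728 := rfl
def n209729 : Q := act 0 n136861
theorem D209729 : act 0 n136861 = n209729 := rfl
def n209730 : Q := act 1 n136861
theorem D209730 : act 1 n136861 = n209730 := rfl
theorem F454775 : act 6 n188303 = n209730 := d21_3 (iv5 F431404) (iv1 F431406) F373032 (iv1 D209730) (iv6 F361062) (iv5 F365142) (iv1 D134758) D134760 (iv6 F407547) F411973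
theorem F454776 : act 5 n209429 = n209730 := d21_6 D136846 (iv1 F409967) (iv5 D198934) (iv6 F201780) F219572 D209429 (iv1 D209730) (iv5 D136861) (iv6 D64337) D64333
theorem F454777 : act 3 n209730 = n188306 := d7_1 F454775 (iv6 D188306) D188303
theorem F454778 : act 3 n193232 = n209429 := d6_3 F454776 F454777 F389259
theorem F454779 : act 6 n209427 = n193232 := d7_0 F454778 (iv6 D209429) D209427
def n209731 : Q := act 4 n136861
theorem D209731 : act 4 n136861 = n209731 := rfl
theorem F454780 : act 6 n209731 = n208759 := d10_2 F361062 D209731 (iv4 D208759)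
theorem F454781 : act 0 n199660 = n209731 := d20_7 (iv4 F454617) (iv1 F454621) F453802 D209508 (iv1 F453963) (iv3 F454125) (iv4 F454127) (iv4 D209731) F220047 D136867
def n209732 : Q := act 7 n136861
theorem D209732 : act 7 n136861 = n209732 := rfl
theorem F454782 : act 3 n209732 = n136869 := d8_1 D209732 (iv7 D136869) (iv3 F220047)
theorem F454783 : act 5 n209732 = n136862 := d13_1 D209732 (iv7 D136862) D136861
def n209733 : Q := act 6 n136867
theorem D209733 : act 6 n136867 = n209733 := rfl
theorem F454784 : act 2 n209733 = n209471 := d3_1 D209733 (iv6 D209471) F220051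
theorem F454785 : act 3 n209733 = n188361 := d7_1 D209733 (iv6 F390426) F390421
theorem F454786 : act 5 n209733 = n209494 := d12_1 D209733 (iv6 D209494) F219634 (iv6 F218585) (iv5 F220050)
theorem F454787 : act 7 n209733 = n188355 := d14_2 (iv7 F220052) D209733 (iv6 D188355) (iv7 F371033) (iv6 F371035)
theorem F454788 : act 0 n209733 = n193382 := d21_4 (iv5 D136495) (iv1 F218587) (iv5 F220050) D209733 (iv6 D193382) (iv5 F368312) (iv1 F368315) D197501 (iv6 F408380) F408383
def n209734 : Q := act 3 n136868
theorem D209734 : act 3 n136868 = n209734 := rfl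
theorem F454789 : act 6 n209734 = n204573 := d7_2 (iv6 F450945) D209734 F450948
def n209735 : Q := act 5 n136868
theorem D209735 : act 5 n136868 = n209735 := rfl
theorem F454790 : act 4 n209735 = n199906 := d9_1 D209735 (iv5 D199906) (iv4 F174023) (iv5 F203884) (iv4 F218700) (iv5 F219613) D209465 F453794 (iv4 D200945) (iv5 D113649) F82847 (iv5 F50028) F50027 D64340 D136868
theorem F454791 : act 1 n209735 = n198567 := d17_8 (iv1 F365988) (iv5 D174698) F326035 D109321 D198461 (iv5 F453979) F453982 D209735 (iv4 D198567)
theorem F454792 : act 0 n209735 = n198571 := d18_0 (iv4 D198571) (iv1 D109575) D109576 D198576 F408368 F220027 (iv4 F453978) F453982 D209735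
def n209736 : Q := act 6 n136869
theorem D209736 : act 6 n136869 = n209736 := rfl
theorem F454793 : act 2 n209736 = n209466 := d3_1 D209736 (iv6 D209466) (iv2 F220054)
theorem F454794 : act 4 n209736 = n206225 := d10_1 D209736 F453972 F453971
theorem F454795 : act 7 n209736 = n208903 := d14_2 D136869 D209736 (iv6 D208903) F365163 F220049
def n209737 : Q := act 4 n136871
theorem D209737 : act 4 n136871 = n209737 := rfl
theorem F454796 : act 7 n209737 = n195570 := d11_2 F452686 D209737 (iv4 F452687)
theorem F454797 : act 5 n209737 = n203388 := d16_1 D209737 (iv4 F454135) (iv5 D209560) (iv4 F454129) F454130 (iv4 D136874) D136875 (iv7 F452692) F452691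
theorem F454798 : act 1 n203388 = n146562 := d17_6 (iv1 D136880) (iv5 D64345) D64342 D136871 D209737 F454797 (iv5 F426280) (iv0 F426283) F347274
def n209738 : Q := act 6 n136871
theorem D209738 : act 6 n136871 = n209738 := rfl
theorem F454799 : act 0 n209738 = n209032 := d21_4 (iv5 D64345) D64342 D136871 D209738 (iv6 D209032) D209031 F451921 F359470 (iv6 F347285) (iv1 D136880)
theorem F454800 : act 0 n136969 = n209738 := d21_4 (iv5 F453499) (iv1 F453501) (iv5 D208895) (iv6 F339483) (iv6 D209738) (iv5 D136871) (iv1 F218689) (iv5 F220606) F365152 (iv1 F450337)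
def n209739 : Q := act 5 n136873
theorem D209739 : act 5 n136873 = n209739 := rfl
theorem F454801 : act 3 n209739 = n136875 := d6_1 D209739 (iv5 D136875) D136873
theorem F454802 : act 4 n209739 = n206890 := d16_2 (iv4 F406657) D209739 F442527 (iv4 D195428) (iv5 D105585) D105584 (iv5 F336173) (iv7 F227220) (iv2 F396986)
theorem F454803 : act 0 n209739 = n143080 := d17_2 (iv1 F406656) D209739 (iv5 D143080) (iv4 F103034) F344608 D105581 F336181 (iv0 F220069) (iv4 D136896)
theorem F454804 : act 1 n209739 = n136925 := d17_6 (iv1 F219047) F347219 (iv1 F179745) D195429 (iv4 F406657) D209739 F220109 (iv0 F100626) (iv4 F103024)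
theorem F454805 : act 3 n206890 = n146853 := d20_9 F446627 (iv1 F426081) (iv4 F452064) F452063 F229767 (iv3 F328624) F328625 (iv1 F454804) F454802 F446629
theorem F454806 : act 6 n146851 = n206890 := d7_0 F454805 (iv6 D146853) D146851
theorem F454807 : act 3 n209139 = n207698 := d8_3 F446049 F454805 (iv7 F452434)
theorem F454808 : act 6 n207698 = n209137 := d7_2 D209139 F454807 (iv3 D209137)
theorem F454809 : act 0 n209137 = n206722 := d21_4 F437605 F437953 (iv5 F446050) F454808 (iv6 D206722) F212465 (iv1 F97064) D132660 (iv6 F361807) (iv1 F437603)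
def n209740 : Q := act 6 n136873
theorem D209740 : act 6 n136873 = n209740 := rfl
theorem F454810 : act 3 n209740 = n136876 := d7_1 D209740 (iv6 D136876) D136873
theorem F454811 : act 0 n209740 = n199383 := d21_4 (iv5 F220109) (iv1 F454804) (iv5 D209739) D209740 (iv6 F449604) (iv5 D208491) F353339 (iv5 D143090) (iv6 D67054) F100626
def n209741 : Q := act 4 n136877
theorem D209741 : act 4 n136877 = n209741 := rfl
theorem F454812 : act 2 n209741 = n136881 := d1_1 D209741 (iv4 D136881) (iv2 F220061)
theorem F454813 : act 5 n209741 = n151252 := d17_5 F452690 (iv5 D209198) (iv1 F218684) D136877 D209741 (iv0 F421874) F186816 (iv0 F288340) (iv4 F363975)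
theorem F454814 : act 0 n209741 = n202238 := d18_2 F225845 D209741 F423359 (iv5 D194013) F333123 F171621 (iv4 F218884) F218886 D137338
theorem F454815 : act 3 n209741 = n151254 := d20_3 F451720 F225845 D209741 (iv1 F426300) (iv3 D202942) (iv4 D117332) (iv1 F85341) D68641 D146394 F451722
def n209742 : Q := act 6 n136877
theorem D209742 : act 6 n136877 = n209742 := rfl
theorem F454816 : act 2 n209742 = n136882 := d3_1 D209742 (iv6 D136882) (iv2 F220061)
theorem F454817 : act 3 n209742 = n208342 := d7_1 D209742 (iv6 D208342) F330973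
def n209743 : Q := act 5 n136878
theorem D209743 : act 5 n136878 = n209743 := rfl
theorem F454818 : act 2 n209743 = n136885 := d2_1 D209743 (iv5 D136885) (iv2 F220062)
def n209744 : Q := act 5 n136881
theorem D209744 : act 5 n136881 = n209744 := rfl
theorem F454819 : act 2 n209744 = n151252 := d2_1 D209744 (iv5 F454813) F454812
theorem F454820 : act 7 n209744 = n203356 := d13_2 F220611 D209744 (iv5 F428023)
theorem F454821 : act 0 n209744 = n201613 := d17_2 (iv1 F437509) D209744 F421141 (iv4 F453027) F453028 F438151 F438149 F391842 (iv4 F437506)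
theorem F454822 : act 0 n152772 = n209744 := d19_0 (iv5 D209744) (iv4 D136881) F100294 F48742 (iv5 D30174) (iv4 D14324) D14323 (iv1 F23994) (iv5 D14204) (iv4 F19115) F19114 D11785 D24858 F49130 D65408 F180757 F363775 F239986 (iv3 F239984)
def n209745 : Q := act 6 n136881
theorem D209745 : act 6 n136881 = n209745 := rfl
theorem F454823 : act 3 n209745 = n188783 := d7_1 D209745 (iv6 F438612) F438611
theorem F454824 : act 4 n209745 = n136882 := d10_1 D209745 (iv6 D136882) D136881
theorem F454825 : act 7 n209745 = n208164 := d14_2 F220611 D209745 (iv6 D208164) F214810 F365155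
theorem F454826 : act 0 n209745 = n188776 := d21_10 F427782 F427781 F238408 (iv6 D105324) (iv1 F104884) D146482 (iv5 F239985) F454822 (iv5 D209744) D209745
theorem F454827 : act 0 n208145 = n209745 := d21_4 (iv5 F334968) F334966 (iv5 F396353) (iv6 F448095) (iv6 D209745) D209744 F454821 F421141 (iv6 D195156) (iv1 F333244)
def n209746 : Q := act 0 n136882
theorem D209746 : act 0 n136882 = n209746 := rfl
theorem F454828 : act 4 n209746 = n187675 := d18_3 F454827 F454824 D209746 F371166 F237334 D150770 (iv4 F452313) F452315 (iv5 F448094)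
theorem F454829 : act 6 n187674 = n209746 := d10_0 F454828 (iv6 D187675) D187674
def n209747 : Q := act 1 n136882
theorem D209747 : act 1 n136882 = n209747 := rfl
def n209748 : Q := act 5 n136882
theorem D209748 : act 5 n136882 = n209748 := rfl
theorem F454830 : act 3 n209748 = n136888 := d6_1 D209748 (iv5 D136888) (iv3 F220063)
theorem F454831 : act 6 n209748 = n136885 := d12_2 D136882 D209748 (iv5 D136885) (iv6 D64346) D64345
theorem F454832 : act 4 n201707 = n209748 := d19_2 (iv1 F356466) D201707 F454830 (iv1 F367186) (iv5 F367184) F328608 F328223 D88488 (iv5 F143478) (iv4 D93026) (iv3 F143464) (iv1 F339572) F339569 (iv4 F368104) (iv3 F368105) F335729 (iv5 F298112) F44464 (iv3 F90065)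
def n209749 : Q := act 7 n136882
theorem D209749 : act 7 n136882 = n209749 := rfl
theorem F454833 : act 3 n209749 = n136889 := d8_1 D209749 (iv7 D136889) (iv3 F220063)
theorem F454834 : act 4 n209749 = n208164 := d11_1 D209749 (iv7 F454825) F454824
theorem F454835 : act 6 n209749 = n208163 := d14_1 D209749 F448187 (iv6 D137401) F100523 D136882
def n209750 : Q := act 4 n136883
theorem D209750 : act 4 n136883 = n209750 := rfl
theorem F454836 : act 3 n209750 = n179014 := d5_1 D209750 F278933 (iv3 F308052) (iv4 F385513) (iv3 F385515)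
theorem F454837 : act 6 n209750 = n179012 := d10_2 F445870 D209750 (iv4 F445867)
def n209751 : Q := act 5 n136883
theorem D209751 : act 5 n136883 = n209751 := rfl
def n209752 : Q := act 3 n136884
theorem D209752 : act 3 n136884 = n209752 := rfl
def n209753 : Q := act 4 n136884
theorem D209753 : act 4 n136884 = n209753 := rfl
theorem F454838 : act 6 n209753 = n192552 := d10_2 F453491 D209753 (iv4 F387042)
def n209754 : Q := act 5 n136884
theorem D209754 : act 5 n136884 = n209754 := rfl
theorem F454839 : act 6 n209754 = n189280 := d12_2 F453491 D209754 (iv5 D189280) D189281 (iv5 F385488)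
def n209755 : Q := act 0 n136885
theorem D209755 : act 0 n136885 = n209755 := rfl
def n209756 : Q := act 1 n136885
theorem D209756 : act 1 n136885 = n209756 := rfl
theorem F454840 : act 3 n203216 = n209756 := d19_19 (iv1 D209756) (iv5 D136885) (iv4 F180519) F180518 F84349 D111213 D199346 F411794 (iv1 F304437) (iv5 F383252) F383253 (iv3 F387145) (iv1 D192577) (iv5 D100413) (iv4 F154466) F302016 (iv1 F190169) D118234 D203216
def n209757 : Q := act 4 n136885
theorem D209757 : act 4 n136885 = n209757 := rfl
theorem F454841 : act 6 n209757 = n201707 := d10_2 F454831 D209757 F454832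
theorem F454842 : act 5 n202531 = n209757 := d19_1 D202531 (iv4 D209757) F220064 D136890 F220066 (iv4 D135236) (iv3 F217417) F405006 F405003 (iv4 F214084) (iv3 F432199) F432201 (iv5 D129684) (iv4 D60918) D60917 (iv1 F166287) (iv5 F93900) F93899 (iv3 F180518)
theorem F454843 : act 6 n138288 = n202531 := d12_0 F454842 F454841 (iv5 D201707) D201708 F421495
def n209758 : Q := act 3 n136887
theorem D209758 : act 3 n136887 = n209758 := rfl
theorem F454844 : act 2 n209758 = n188762 := d0_1 D209758 (iv3 D188762) (iv2 F143031) F352098 (iv2 F352097)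
theorem F454845 : act 6 n209758 = n186742 := d7_2 F352104 D209758 (iv3 F421421)
theorem F454846 : act 7 n209758 = n193355 := d8_2 (iv7 F352095) D209758 F389554
theorem F454847 : act 0 n209758 = n137138 := d19_4 D203148 F427168 (iv4 F352100) D209758 F368890 F390942 F390940 D193776 F390977 (iv4 D154573) F109719 D73271 F109945 F190353 F107505 (iv1 F130817) (iv5 D59972) D59971 (iv3 F184505)
theorem F454848 : act 0 n206502 = n209758 := d20_4 F450322 (iv1 F389549) D204363 (iv3 F441109) (iv3 D209758) F352100 (iv1 F352092) F203906 (iv3 F220031) (iv1 F450321)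
theorem F454849 : act 5 n209758 = n194790 := d17_1 F454848 (iv1 D194790) F367111 (iv4 F367835) (iv5 F384020) (iv0 D191618) D191620 (iv0 F384023) (iv4 F441110)
def n209759 : Q := act 5 n136887
theorem D209759 : act 5 n136887 = n209759 := rfl
theorem F454850 : act 3 n209759 = n194790 := d6_1 D209759 (iv5 F454849) (iv3 D209758)
theorem F454851 : act 4 n209759 = n204336 := d16_2 (iv4 F352100) D209759 (iv5 D204336) (iv4 F432082) F432083 F424266 F370560 F352085 (iv2 F352087)
theorem F454852 : act 0 n209759 = n208529 := d17_2 (iv1 F220602) D209759 (iv5 D208529) F365521 F425392 F425393 F438625 F438622 F438242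
theorem F454853 : act 1 n209759 = n208530 := d17_6 (iv1 F341748) (iv5 F320874) D203148 F427168 (iv4 F352100) D209759 (iv5 D208530) F365593 F160064
def n209760 : Q := act 4 n136888
theorem D209760 : act 4 n136888 = n209760 := rfl
theorem F454854 : act 3 n209760 = n191444 := d5_1 D209760 (iv4 F398449) (iv3 F421491) F454832 F454830
theorem F454855 : act 6 n209760 = n136892 := d10_2 (iv6 F220065) D209760 (iv4 D136892)
theorem F454856 : act 5 n209760 = n197159 := d16_3 F204095 D136888 D209760 F403322 F205724 (iv4 F234649) (iv5 F438243) (iv7 D205881) (iv2 F204094)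
theorem F454857 : act 0 n209760 = n153665 := d18_2 (iv1 F449764) D209760 (iv4 F359637) (iv5 D134368) (iv4 F208734) F394443 F394439 F394437 (iv5 F449763)
theorem F454858 : act 1 n209760 = n191425 := d18_6 (iv1 F220953) (iv4 F438628) (iv1 D205965) F204095 D136888 D209760 F383464 F449491 F449486
def n209761 : Q := act 3 n136890
theorem D209761 : act 3 n136890 = n209761 := rfl
theorem F454859 : act 5 n209761 = n193435 := d6_2 (iv5 F220066) D209761 F389820
theorem F454860 : act 4 n193776 = n209761 := d9_15 F454859 (iv4 F440208) (iv5 D206316) (iv4 F241855) (iv5 F387060) F387059 F390985 F390987 (iv5 D193452) F357886 (iv5 D154537) F109706 D73268 D154573 (iv5 F390977)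
theorem F454861 : act 0 n136918 = n209761 := d17_2 F357913 D136918 F454859 (iv4 F440208) (iv5 D206316) (iv0 F309573) (iv5 F354154) (iv0 F357877) (iv4 F357915)
def n209762 : Q := act 6 n136890
theorem D209762 : act 6 n136890 = n209762 := rfl
def n209763 : Q := act 5 n136894
theorem D209763 : act 5 n136894 = n209763 := rfl
theorem F454862 : act 3 n209763 = n138011 := d6_1 D209763 F221270 F220070
theorem F454863 : act 4 n209763 = n206891 := d9_1 D209763 F442532 F213944 (iv5 F101894) D105586 D195429 (iv4 F406657) D209739 F454802 F442527 (iv4 D195428) (iv5 D105585) D105584 (iv5 F336173) F223026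
theorem F454864 : act 0 n209763 = n136925 := d17_2 (iv1 F452826) D209763 F220109 F100625 D137802 F347226 F360491 F396606 (iv4 F452822)
theorem F454865 : act 1 n209763 = n143080 := d17_6 F228686 (iv5 D105615) F162192 (iv5 F336173) F223026 D209763 (iv5 D143080) F220529 F347243
theorem F454866 : act 6 n209763 = n208728 := d21_3 (iv5 F452823) (iv1 F452826) D209763 (iv1 F450606) (iv6 D208357) (iv5 F336976) (iv1 F230334) (iv5 F336980) F347275 (iv1 F446657)
def n209764 : Q := act 6 n136895
theorem D209764 : act 6 n136895 = n209764 := rfl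
theorem F454867 : act 2 n209764 = n136898 := d3_1 D209764 (iv6 D136898) D136895
theorem F454868 : act 3 n209764 = n208343 := d7_1 D209764 (iv6 D208343) (iv3 F347271)
theorem F454869 : act 4 n209764 = n195358 := d10_1 D209764 (iv6 D195358) F220072
theorem F454870 : act 5 n209764 = n208743 := d12_1 D209764 (iv6 D208743) F217226 (iv6 F216231) F347251
theorem F454871 : act 0 n203125 = n209764 := d21_4 (iv5 F349478) (iv1 D117699) D117700 (iv6 F427061) (iv6 D209764) (iv5 F347251) F347249 (iv5 D67053) D67054 (iv1 F349479)
def n209765 : Q := act 3 n136896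
theorem D209765 : act 3 n136896 = n209765 := rfl
theorem F454872 : act 2 n209765 = n202032 := d0_1 D209765 (iv3 D202032) F396817 (iv3 D195357) (iv2 F220071)
theorem F454873 : act 4 n209765 = n136901 := d5_2 D136896 D209765 (iv3 D136901) (iv4 D64353) D64352
theorem F454874 : act 5 n209765 = n207842 := d6_2 F360505 D209765 (iv3 D207842)
theorem F454875 : act 7 n209765 = n195359 := d8_2 (iv7 F220068) D209765 (iv3 D195359)
theorem F454876 : act 0 n209765 = n205860 := d20_4 F223026 (iv1 D136894) D136896 D209765 F438170 F436627 F401190 (iv4 D196592) D196591 (iv1 F401185)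
theorem F454877 : act 1 n209765 = n205861 := d15_1 (iv0 F454876) (iv7 F454403) F454402
def n209766 : Q := act 6 n136896
theorem D209766 : act 6 n136896 = n209766 := rfl
theorem F454878 : act 2 n209766 = n195358 := d3_1 D209766 (iv6 D195358) (iv2 F220071)
theorem F454879 : act 4 n209766 = n136898 := d10_1 D209766 (iv6 D136898) D136896
theorem F454880 : act 0 n209766 = n200194 := d20_7 F169564 (iv1 F79931) D64323 D136819 F360694 (iv3 F220074) (iv4 F454879) F415479 (iv3 D136809) (iv1 F169569)
def n209767 : Q := act 0 n136898
theorem D209767 : act 0 n136898 = n209767 := rfl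
def n209768 : Q := act 1 n136898
theorem D209768 : act 1 n136898 = n209768 := rfl
def n209769 : Q := act 5 n136898
theorem D209769 : act 5 n136898 = n209769 := rfl
theorem F454881 : act 2 n209769 = n208743 := d2_1 D209769 (iv5 F454870) F454867
theorem F454882 : act 3 n209769 = n136906 := d6_1 D209769 (iv5 D136906) (iv3 F220074)
theorem F454883 : act 6 n209769 = n208741 := d12_2 D136898 D209769 F450663 F445955 (iv5 D136897)
theorem F454884 : act 5 n203115 = n209768 := d21_6 (iv5 D197526) (iv1 D108424) D108426 F341455 (iv1 F184296) D203115 (iv1 D209768) D209769 F454883 (iv1 F450666)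
theorem F454885 : act 5 n209767 = n203126 := d21_8 (iv5 D123933) D123931 (iv5 F429698) (iv6 F429702) (iv1 F450665) (iv6 F454883) (iv5 D209769) D209767 F427062 (iv1 F357331)
theorem F454886 : act 6 n208174 = n209767 := d12_0 F454885 F427062 (iv5 F429493) F429497 D208174
theorem F454887 : act 7 n203125 = n209767 := d13_0 F454885 (iv7 D203126) D203125
theorem F454888 : act 2 n209768 = n203125 := d2_1 F454884 (iv5 D203125) (iv2 F427032)
theorem F454889 : act 6 n209768 = n203116 := d12_2 D203115 F454884 (iv5 D203116) (iv6 D117688) D117687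
def n209770 : Q := act 7 n136898
theorem D209770 : act 7 n136898 = n209770 := rfl
theorem F454890 : act 3 n209770 = n136907 := d8_1 D209770 (iv7 D136907) (iv3 F220074)
theorem F454891 : act 1 n203125 = n209770 := d15_1 (iv0 F454871) (iv7 D209770) (iv2 F454867)
def n209771 : Q := act 4 n136900
theorem D209771 : act 4 n136900 = n209771 := rfl
theorem F454892 : act 2 n209771 = n198594 := d1_1 D209771 F408432 F223081
theorem F454893 : act 3 n209771 = n196900 := d5_1 D209771 (iv4 D196900) (iv3 F400436) F400438 (iv3 F223082)
theorem F454894 : act 5 n209771 = n146840 := d9_2 F371327 D209771 (iv4 D146840) (iv5 D68841) (iv4 F65408) D90494 F327484 (iv5 F312972) F322563 F220028 (iv4 F142970) (iv5 D92732) (iv4 F68150) D90495 D187726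
theorem F454895 : act 6 n209771 = n203411 := d10_2 (iv6 F337552) D209771 F428185
theorem F454896 : act 7 n209771 = n199208 := d11_2 F337551 D209771 F411172
theorem F454897 : act 0 n209771 = n137106 := d17_0 F220276 (iv1 F221093) (iv5 D137872) F102782 (iv5 F322560) (iv0 F324034) F143120 D136900 D209771
theorem F454898 : act 1 n209771 = n137103 := d18_6 (iv1 F161454) (iv4 D105300) F139275 D187726 F371327 D209771 (iv4 D137103) (iv0 D64452) (iv5 F94023)
def n209772 : Q := act 0 n136906
theorem D209772 : act 0 n136906 = n209772 := rfl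
theorem F454899 : act 5 n209772 = n209433 := d17_3 F360694 D136906 D209772 F453688 F347876 F354098 (iv5 F352359) F352357 F227085
theorem F454900 : act 2 n209443 = n209772 := d15_3 (iv0 D209772) (iv0 F362467) D209443
theorem F454901 : act 3 n209772 = n188351 := d0_2 (iv3 F453724) F454900 (iv2 F390420) F390421 (iv2 F220051)
theorem F454902 : act 4 n209772 = n201211 := d1_2 (iv4 F453725) F454900 (iv2 F419461)
theorem F454903 : act 7 n209772 = n188342 := d4_2 D209443 F454900 F373110
theorem F454904 : act 1 n209442 = n209772 := d15_1 D209442 F454903 F373110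
def n209773 : Q := act 7 n136906
theorem D209773 : act 7 n136906 = n209773 := rfl
theorem F454905 : act 2 n209773 = n209442 := d4_1 D209773 F453720 F450367
theorem F454906 : act 5 n209773 = n136907 := d13_1 D209773 (iv7 D136907) D136906
theorem F454907 : act 1 n188342 = n209773 := d15_1 (iv0 F450371) (iv7 D209773) (iv2 F450367)
theorem F454908 : act 1 n209773 = n209443 := d15_1 F454907 (iv7 D209443) (iv2 F373110)
def n209774 : Q := act 6 n136911
theorem D209774 : act 6 n136911 = n209774 := rfl
theorem F454909 : act 2 n209774 = n202042 := d3_1 D209774 (iv6 D202042) F422272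
theorem F454910 : act 4 n209774 = n136913 := d10_1 D209774 (iv6 D136913) D136911
def n209775 : Q := act 7 n136918
theorem D209775 : act 7 n136918 = n209775 := rfl
theorem F454911 : act 4 n209775 = n194110 := d11_1 D209775 (iv7 D194110) (iv4 F363625)
theorem F454912 : act 5 n209775 = n136919 := d13_1 D209775 (iv7 D136919) D136918
def n209776 : Q := act 1 n136920
theorem D209776 : act 1 n136920 = n209776 := rfl
theorem F454913 : act 1 n209776 = n136932 := d15_1 D209776 (iv7 D136932) (iv2 F220102)
theorem F454914 : act 7 n209776 = n136929 := d15_2 (iv0 F406327) D209776 (iv2 F406322)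
theorem F454915 : act 5 n209776 = n191504 := d17_7 (iv1 F128842) (iv5 D47344) (iv1 F59426) D83807 D175519 F354881 D209776 F383595 (iv4 D175525)
theorem F454916 : act 4 n209776 = n195628 := d18_7 (iv1 F359208) D195661 F397776 F251203 D159507 (iv4 F251210) D209776 F449694 F449690
theorem F454917 : act 6 n197622 = n209776 := d21_3 (iv5 F405077) (iv1 F405079) F405062 (iv1 D209776) (iv6 D136920) (iv5 D64361) (iv1 F99481) F106602 F326344 D134889
theorem F454918 : act 2 n209776 = n136930 := d3_1 F454917 F353314 F405059
theorem F454919 : act 3 n209776 = n208727 := d7_1 F454917 (iv6 D208727) (iv3 F405058)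
def n209777 : Q := act 5 n136922
theorem D209777 : act 5 n136922 = n209777 := rfl
theorem F454920 : act 2 n209777 = n136941 := d2_1 D209777 (iv5 D136941) (iv2 F362160)
theorem F454921 : act 7 n209777 = n136936 := d13_2 (iv7 F362161) D209777 (iv5 D136936)
theorem F454922 : act 1 n209777 = n202123 := d17_6 (iv1 F206673) (iv5 F205391) (iv1 F205395) D128508 F346519 D209777 (iv5 D202123) D202121 (iv4 F422957)
def n209778 : Q := act 0 n136923
theorem D209778 : act 0 n136923 = n209778 := rfl
theorem F454923 : act 5 n209778 = n159434 := d17_3 (iv1 D136922) D136923 D209778 (iv4 D159434) (iv5 F346535) (iv0 D150589) F107533 (iv0 F339198) F346519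
theorem F454924 : act 4 n209778 = n192738 := d18_3 F274852 F354886 D209778 F387619 (iv4 F387611) (iv0 F388648) (iv4 D193067) (iv0 D101155) D101157
theorem F454925 : act 2 n136943 = n209778 := d15_3 (iv0 D209778) (iv0 F390963) (iv7 F390965)
theorem F454926 : act 1 n136946 = n209778 := d15_0 (iv0 D209778) (iv7 F390870) F390868
theorem F454927 : act 7 n209778 = n136944 := d15_2 F390964 F454926 (iv2 F390960)
def n209779 : Q := act 2 n136934
theorem D209779 : act 2 n136934 = n209779 := rfl
def n209780 : Q := act 4 n136934
theorem D209780 : act 4 n136934 = n209780 := rfl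
theorem F454928 : act 3 n209780 = n209647 := d5_1 D209780 F454478 F403182 (iv4 D136935) D136934
theorem F454929 : act 7 n209780 = n195363 := d11_2 (iv7 F428132) D209780 (iv4 F428131)
theorem F454930 : act 0 n209780 = n195365 := d20_1 D209780 F396822 (iv3 D137008) (iv1 F100322) F322305 F86528 F55643 D76649 D160058 F362178
theorem F454931 : act 2 n209780 = n195362 := d15_3 (iv0 D195362) D195363 (iv7 F454929)
theorem E103960 : n209779 = n203393 := ((c1_3 D209780 F454931 F428133 (iv2 D209779))).symm
theorem F454932 : act 2 n203393 = n136934 := (sb E103960 (iv2 D209779))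
def n209781 : Q := act 5 n136934
theorem D209781 : act 5 n136934 = n209781 := rfl
theorem F454933 : act 3 n209781 = n136936 := d6_1 D209781 (iv5 D136936) D136934
theorem F454934 : act 6 n209781 = n156182 := d12_2 (iv6 F385432) D209781 (iv5 F372757) F372758 D192072
theorem F454935 : act 4 n209781 = n156180 := d19_2 F362178 D209781 (iv3 F320454) (iv1 F239542) F108579 F52536 F25596 (iv1 F316015) F316016 (iv4 D12355) (iv3 F12624) (iv1 F9457) F8098 (iv4 F10498) (iv3 F22689) (iv1 F55632) D35034 D76649 D160058
def n209782 : Q := act 1 n136936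
theorem D209782 : act 1 n136936 = n209782 := rfl
theorem F454936 : act 1 n209782 = n136941 := d15_1 D209782 (iv7 F387916) F387913
theorem F454937 : act 7 n209782 = n202123 := d15_2 (iv0 F422970) D209782 F422972
theorem F454938 : act 5 n209782 = n202124 := d17_7 (iv1 F206672) (iv5 D128510) (iv1 F205394) (iv5 F362174) (iv4 D136935) D136936 D209782 F422980 (iv4 D159434)
theorem F454939 : act 3 n136981 = n209782 := d6_3 F454938 F422976 (iv5 F220131)
theorem F454940 : act 6 n209485 = n209782 := d12_0 F454938 F422978 (iv5 F453726) F453728 (iv5 F453894)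
theorem F454941 : act 4 n193070 = n209782 := d16_0 F454938 F422977 F347872 (iv4 F398616) (iv5 F398617) (iv4 D193067) D193068 F390902 F390900
def n209783 : Q := act 4 n136936
theorem D209783 : act 4 n136936 = n209783 := rfl
theorem F454942 : act 6 n209783 = n192255 := d10_2 (iv6 F368479) D209783 (iv4 F386223)
def n209784 : Q := act 1 n136939
theorem D209784 : act 1 n136939 = n209784 := rfl
def n209785 : Q := act 4 n136939
theorem D209785 : act 4 n136939 = n209785 := rfl
theorem F454943 : act 2 n209785 = n202063 := d1_1 D209785 (iv4 F438330) F432987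
theorem F454944 : act 6 n209785 = n160331 := d10_2 (iv6 F362162) D209785 (iv4 D160331)
theorem F454945 : act 0 n209785 = n209671 := d20_7 (iv4 F352889) (iv1 F352900) (iv4 D102280) D102279 F346665 D136939 D209785 F454586 (iv3 F372066) (iv1 D102409)
def n209786 : Q := act 4 n136941
theorem D209786 : act 4 n136941 = n209786 := rfl
def n209787 : Q := act 3 n136943
theorem D209787 : act 3 n136943 = n209787 := rfl
theorem F454946 : act 5 n209787 = n203381 := d6_2 F422950 D209787 F428110
theorem F454947 : act 4 n152842 = n209787 := d19_2 (iv1 D152840) D152842 (iv3 D209787) (iv1 F390872) (iv5 D193742) (iv4 F385587) F385586 (iv1 F158296) (iv5 F293998) (iv4 D93330) (iv3 F143922) (iv1 F352991) F352993 (iv4 F289386) F367142 (iv1 F375483) F375480 D192445 F422563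
def n209788 : Q := act 4 n136943
theorem D209788 : act 4 n136943 = n209788 := rfl
theorem F454948 : act 2 n209788 = n192738 := d1_1 D209788 (iv4 F454924) (iv2 F454925)
theorem F454949 : act 3 n209788 = n152551 := d5_1 D209788 F239739 (iv3 F240057) F454947 (iv3 D209787)
theorem F454950 : act 5 n209788 = n152550 := d9_2 F422950 D209788 (iv4 F388703) (iv5 F401889) F401888 (iv5 F349919) F422957 F422960 F368481 (iv5 D100570) (iv4 F154642) (iv5 F363665) (iv4 F219973) (iv5 F349893) (iv4 F422951)
theorem F454951 : act 6 n209788 = n194096 := d10_2 (iv6 F392035) D209788 F392046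
theorem F454952 : act 7 n209788 = n187462 := d11_2 (iv7 F390965) D209788 (iv4 F390961)
theorem F454953 : act 1 n192737 = n209788 := d15_1 D192737 F454952 F370439
theorem F454954 : act 0 n175626 = n209788 := d21_4 (iv5 D175565) (iv1 F128860) D83849 D175626 F454951 F392047 (iv1 F367783) (iv5 F383591) (iv6 D191502) (iv1 F274901)
def n209789 : Q := act 6 n136946
theorem D209789 : act 6 n136946 = n209789 := rfl
theorem F454955 : act 3 n209789 = n137007 := d7_1 D209789 (iv6 D137007) (iv3 F220117)
theorem F454956 : act 4 n209789 = n203066 := d10_1 D209789 (iv6 F426857) (iv4 F388661)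
theorem F454957 : act 5 n209789 = n139371 := d12_1 D209789 F393169 F389837 F323245 (iv5 F220118)
def n209790 : Q := act 4 n136953
theorem D209790 : act 4 n136953 = n209790 := rfl
theorem F454958 : act 2 n209790 = n147404 := d1_1 D209790 (iv4 F388456) F388455
theorem F454959 : act 3 n209790 = n147798 := d5_1 D209790 F231538 (iv3 F332330) (iv4 F451486) F451485
theorem F454960 : act 5 n209790 = n147226 := d9_2 D136953 D209790 F232255 (iv5 F419703) F419704 F375143 F338550 F332699 F155745 (iv5 D69273) D69272 (iv5 F326630) F209263 (iv5 F338565) F338564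
theorem F454961 : act 6 n209790 = n137336 := d10_2 (iv6 F220121) D209790 (iv4 D137336)
theorem F454962 : act 7 n209790 = n147831 := d11_2 (iv7 F338568) D209790 (iv4 F236257)
theorem F454963 : act 0 n209790 = n147838 := d17_0 F233220 (iv1 F241777) (iv5 D72790) D72789 D153868 (iv0 F442122) F442119 F388450 D209790
theorem F454964 : act 1 n209790 = n147837 := d18_6 (iv1 F204288) D138198 (iv1 F338562) F338564 D136953 D209790 (iv4 F361080) (iv0 F361079) F338540
def n209791 : Q := act 0 n136959
theorem D209791 : act 0 n136959 = n209791 := rfl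
theorem F454965 : act 5 n209791 = n188167 := d17_3 (iv1 F453568) F453566 D209791 (iv4 D188167) (iv5 D91011) (iv0 D42632) D42635 D91021 D188175
theorem F454966 : act 4 n209791 = n189350 := d18_1 D209791 (iv1 F451627) F451629 (iv5 D191740) (iv4 D98872) F294921 D188173 (iv0 F453567) F453566
theorem F454967 : act 2 n191776 = n209791 := d15_3 (iv0 D209791) (iv0 F451619) (iv7 F451620)
theorem F454968 : act 1 n209038 = n209791 := d15_0 (iv0 D209791) (iv7 F449783) (iv2 F451962)
theorem F454969 : act 7 n209791 = n191771 := d15_2 (iv0 F451964) F454968 (iv2 F451615)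
def n209792 : Q := act 0 n136966
theorem D209792 : act 0 n136966 = n209792 := rfl
theorem F454970 : act 5 n209792 = n152669 := d17_3 D64374 D136966 D209792 (iv4 D152669) (iv5 D72019) (iv0 D33266) (iv5 F305863) F326671 F94024
theorem F454971 : act 4 n209792 = n152766 := d18_1 D209792 (iv1 D152766) (iv4 F347117) (iv5 D138077) (iv4 F347012) F98941 D134687 F338725 D136966
theorem F454972 : act 1 n136971 = n209792 := d15_0 (iv0 D209792) (iv7 F452748) F452746
theorem F454973 : act 7 n209792 = n202349 := d15_2 (iv0 F390309) F454972 F423712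
def n209793 : Q := act 1 n136969
theorem D209793 : act 1 n136969 = n209793 := rfl
theorem F454974 : act 1 n209793 = n209032 := d15_1 D209793 F451928 F395999
theorem F454975 : act 4 n209793 = n195572 := d18_7 F339598 (iv4 F359200) F359197 (iv4 F426261) F426260 F395927 D209793 (iv0 F427243) (iv5 D203162)
theorem F454976 : act 3 n208729 = n209793 := d20_3 F449388 F452052 F452051 (iv1 D209793) (iv3 D136969) F339480 (iv1 F347019) F203723 (iv3 F219241) F449389
theorem F454977 : act 6 n195571 = n209793 := d10_0 F454975 (iv6 D195572) D195571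
def n209794 : Q := act 5 n136969
theorem D209794 : act 5 n136969 = n209794 := rfl
theorem F454978 : act 3 n209794 = n136971 := d6_1 D209794 (iv5 D136971) D136969
theorem F454979 : act 4 n209794 = n139944 := d16_2 F395927 D209794 (iv5 D139944) F101422 D65709 D139967 F334968 (iv7 F336804) F395930
def n209795 : Q := act 6 n136971
theorem D209795 : act 6 n136971 = n209795 := rfl
theorem F454980 : act 5 n209795 = n208897 := d12_1 D209795 (iv6 D208897) (iv5 D135292) F339481 D136971
theorem F454981 : act 0 n209494 = n209795 := d21_4 F201767 (iv1 F179678) (iv5 F219634) D209494 (iv6 D209795) (iv5 D136971) (iv1 D64375) D64376 F100314 D64387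
def n209796 : Q := act 3 n136973
theorem D209796 : act 3 n136973 = n209796 := rfl
theorem F454982 : act 6 n209796 = n152565 := d7_2 (iv6 F453899) D209796 (iv3 F453897)
theorem F454983 : act 7 n209796 = n185030 := d8_2 (iv7 F449838) D209796 (iv3 F390996)
theorem F454984 : act 4 n152816 = n209796 := d10_3 F454982 F239760 D152816
theorem F454985 : act 0 n209796 = n208866 := d21_4 (iv5 D71956) D71953 D152565 (iv6 F454982) (iv6 F451169) (iv5 F349427) F424592 F424589 (iv6 F424590) F188683
def n209797 : Q := act 4 n136973
theorem D209797 : act 4 n136973 = n209797 := rfl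
theorem F454986 : act 2 n209797 = n202732 := d1_1 D209797 (iv4 F452750) (iv2 F452751)
theorem F454987 : act 7 n209797 = n202272 := d11_2 (iv7 F449838) D209797 F423434
theorem F454988 : act 5 n209797 = n152716 := d16_1 D209797 (iv4 F423703) (iv5 F427290) F427289 F347054 F347057 F220749 (iv7 F452753) (iv2 F452751)
theorem F454989 : act 3 n209797 = n202257 := d20_3 (iv4 D136975) D136973 D209797 (iv1 F424800) F220806 F329584 (iv1 F157028) (iv4 F357614) (iv3 F423458) F423460
theorem F454990 : act 0 n209285 = n209797 := d17_2 F397529 (iv5 F453044) F454988 (iv4 F423703) (iv5 F427290) F427287 F280211 F239952 D195597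
def n209798 : Q := act 5 n136973
theorem D209798 : act 5 n136973 = n209798 := rfl
theorem F454991 : act 7 n209798 = n186799 := d13_2 (iv7 F449838) D209798 (iv5 F390997)
theorem F454992 : act 4 n209798 = n152705 := d16_4 F423703 (iv5 F454988) (iv4 D209797) D209798 F239912 F239308 (iv5 F264606) (iv7 F319701) (iv2 F423702)
theorem F454993 : act 0 n209798 = n190564 := d17_2 D136973 D209798 (iv5 F423714) (iv4 D202349) (iv5 D115647) D115646 D202348 F423706 (iv4 D136975)
def n209799 : Q := act 3 n136974
theorem D209799 : act 3 n136974 = n209799 := rfl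
def n209800 : Q := act 4 n136974
theorem D209800 : act 4 n136974 = n209800 := rfl
theorem F454994 : act 2 n209800 = n202272 := d1_1 D209800 F423434 F390995
theorem F454995 : act 5 n209800 = n152715 := d9_2 F220749 D209800 (iv4 F264608) F264606 (iv4 F239308) (iv5 F239912) (iv4 F454992) (iv5 D209798) D209797 F454988 (iv4 F423703) (iv5 F427290) F427289 F347054 F347057
theorem F454996 : act 6 n209800 = n156065 := d10_2 (iv6 F382900) D209800 (iv4 F382896)
theorem F454997 : act 7 n209800 = n202732 := d11_2 F452753 D209800 (iv4 F452750)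
theorem F454998 : act 0 n209800 = n209285 := d18_2 F449836 D209800 (iv4 D209285) (iv5 D136220) (iv4 F203723) F347019 (iv4 F339480) (iv0 F338724) D208548
def n209801 : Q := act 7 n136975
theorem D209801 : act 7 n136975 = n209801 := rfl
theorem F454999 : act 2 n209801 = n152758 := d4_1 D209801 (iv7 F452756) F452754
theorem F455000 : act 3 n209801 = n149171 := d8_1 D209801 (iv7 F390282) F390281
theorem F455001 : act 4 n209801 = n136976 := d11_1 D209801 (iv7 D136976) D136975
theorem F455002 : act 5 n209801 = n152325 := d13_1 D209801 F239961 (iv5 F363881)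
theorem F455003 : act 0 n142325 = n209801 := d17_0 F455002 (iv1 D152325) D152327 (iv4 F347119) (iv5 D135161) F347014 (iv5 F221313) F453039 (iv4 F453041)
def n209802 : Q := act 6 n136976
theorem D209802 : act 6 n136976 = n209802 := rfl
theorem F455004 : act 7 n209802 = n137007 := d14_2 D136976 D209802 (iv6 D137007) (iv7 D64390) (iv6 F100314)
def n209803 : Q := act 3 n136977
theorem D209803 : act 3 n136977 = n209803 := rfl
theorem F455005 : act 6 n209803 = n139307 := d7_2 (iv6 F452897) D209803 (iv3 F452894)
theorem F455006 : act 4 n209803 = n152344 := d20_6 F162011 F111394 F111282 D64379 D136977 D209803 (iv1 F366081) (iv4 F357241) F357240 F162012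
theorem F455007 : act 6 n152344 = n202182 := d10_2 (iv6 F455005) F455006 F423145
def n209804 : Q := act 4 n136977
theorem D209804 : act 4 n136977 = n209804 := rfl
theorem F455008 : act 3 n209804 = n206343 := d20_3 F165066 D136977 D209804 (iv1 D206343) (iv3 D128365) (iv4 D60351) (iv1 F94686) (iv4 F109095) (iv3 F366148) F366147
theorem F455009 : act 0 n190581 = n209804 := d20_10 (iv4 D209804) (iv1 F452765) F452763 F402329 (iv1 F385039) (iv3 D103837) (iv4 F293319) (iv1 F294334) D96211 D190581
theorem E103961 : n209803 = n209784 := (c20_4 (iv4 F380200) F455009 (iv4 D209804) D209803 (iv1 D209784) (iv3 D136939) D136940 F362163 (iv4 F428185) F428184 (iv1 D193859))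
theorem F455010 : act 3 n209784 = n136977 := (sb E103961 (iv3 D209803))
theorem F455011 : act 4 n209784 = n152344 := (sb E103961 F455006)
theorem F455012 : act 6 n209784 = n139307 := (sb E103961 F455005)
def n209805 : Q := act 5 n136977
theorem D209805 : act 5 n136977 = n209805 := rfl
theorem F455013 : act 0 n136996 = n209805 := d21_1 F422942 (iv5 D209805) F452897 (iv1 F452895) (iv6 F389362) (iv5 F453730) (iv1 F453734) F412018 D205091 F452600
def n209806 : Q := act 5 n136979
theorem D209806 : act 5 n136979 = n209806 := rfl
theorem F455014 : act 2 n209806 = n136980 := d2_1 D209806 (iv5 D136980) D136979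
theorem F455015 : act 6 n209806 = n183848 := d12_2 (iv6 F388771) D209806 (iv5 D183848) (iv6 F290223) (iv5 F388768)
theorem F455016 : act 0 n209806 = n185294 := d21_1 D209806 (iv5 F434940) (iv6 D205091) (iv1 D125470) F92814 D110738 D198935 F409972 D209205 F452709
theorem F455017 : act 6 n136996 = n185147 := d21_3 (iv5 F434940) F452600 F422942 (iv1 F364074) (iv6 D185017) (iv5 D88195) (iv1 F134611) D183848 (iv6 F455015) F455016
theorem F455018 : act 3 n185147 = n136998 := d7_1 F455017 (iv6 D136998) D136996
def n209807 : Q := act 1 n136980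
theorem D209807 : act 1 n136980 = n209807 := rfl
theorem F455019 : act 7 n209807 = n185294 := d15_2 (iv0 F365539) D209807 F351168
theorem F455020 : act 3 n154448 = n209807 := d8_3 F455019 (iv3 D185294) (iv7 F386095)
theorem F455021 : act 5 n209491 = n209807 := d13_3 F455019 (iv5 F434940) (iv7 F453907)
def n209808 : Q := act 4 n136980
theorem D209808 : act 4 n136980 = n209808 := rfl
theorem F455022 : act 6 n209808 = n156100 := d10_2 (iv6 F365540) D209808 F359548
theorem F455023 : act 0 n209808 = n203621 := d21_4 F386184 (iv1 F226801) (iv5 F245267) (iv6 F455022) (iv6 D203621) F188681 (iv1 D72099) D72101 D152799 (iv1 F386187)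
def n209809 : Q := act 4 n136981
theorem D209809 : act 4 n136981 = n209809 := rfl
theorem F455024 : act 2 n209809 = n202104 := d1_1 D209809 F422878 F220132
theorem F455025 : act 3 n209809 = n209488 := d5_1 D209809 (iv4 D209488) (iv3 F388657) F454941 (iv3 F454939)
theorem F455026 : act 5 n209809 = n196534 := d9_2 (iv5 F220131) D209809 (iv4 D196534) (iv5 D107054) F78191 F37825 (iv4 F48630) D64184 D136535 (iv5 F422888) F422887 F179644 F84064 (iv5 F84073) (iv4 F179676)
theorem F455027 : act 7 n209809 = n202125 := d11_2 (iv7 F220130) D209809 (iv4 D202125)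
theorem F455028 : act 0 n209809 = n137015 := d17_0 (iv5 F223387) F223388 (iv5 F452810) F452809 F218777 F99462 D64381 D136981 D209809
theorem F455029 : act 1 n209809 = n137025 := d18_6 (iv1 F162114) (iv4 D64188) F84076 (iv4 F179676) (iv5 F220131) D209809 (iv4 D137025) (iv0 F111277) (iv5 D64211)
theorem F455030 : act 0 n156180 = n209541 := d20_7 D137025 (iv1 F455029) (iv4 D209809) F454939 (iv1 D209782) (iv3 F454933) F454935 (iv4 D209541) F219668 F111277
theorem F455031 : act 6 n209493 = n209809 := d7_0 F455025 F453901 D209493
def n209810 : Q := act 6 n136981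
theorem D209810 : act 6 n136981 = n209810 := rfl
theorem F455032 : act 2 n209810 = n209494 := d3_1 D209810 (iv6 D209494) F220132
theorem F455033 : act 3 n209810 = n209485 := d7_1 D209810 F454940 (iv3 F454939)
theorem F455034 : act 4 n209810 = n209493 := d10_1 D209810 F455031 (iv4 D209809)
theorem F455035 : act 5 n209810 = n209471 := d12_1 D209810 (iv6 D209471) F219614 (iv6 F179677) (iv5 F220131)
def n209811 : Q := act 3 n136982
theorem D209811 : act 3 n136982 = n209811 := rfl
def n209812 : Q := act 5 n136982
theorem D209812 : act 5 n136982 = n209812 := rfl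
theorem F455036 : act 2 n209812 = n202086 := d2_1 D209812 F423449 F423445
theorem F455037 : act 6 n209812 = n137044 := d12_2 (iv6 F346061) D209812 F220177 (iv6 F167027) D137641
theorem F455038 : act 7 n209812 = n202092 := d13_2 F452773 D209812 (iv5 F452772)
theorem F455039 : act 4 n209812 = n137044 := d16_2 D136982 D209812 F220177 (iv4 F168668) F168670 (iv4 D64384) D64385 (iv7 F218758) F218757
theorem F455040 : act 0 n209812 = n156210 := d18_0 (iv4 D156210) (iv1 F179656) D202111 (iv5 F452816) (iv4 D209234) F218783 D209180 F452611 D209812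
def n209813 : Q := act 5 n136986
theorem D209813 : act 5 n136986 = n209813 := rfl
theorem F455041 : act 2 n209813 = n136988 := d2_1 D209813 (iv5 D136988) D136986
def n209814 : Q := act 6 n136986
theorem D209814 : act 6 n136986 = n209814 := rfl
theorem F455042 : act 2 n209814 = n136989 := d3_1 D209814 (iv6 D136989) D136986
theorem F455043 : act 5 n204264 = n209814 := d21_2 (iv5 F452954) (iv1 F431749) (iv6 D209814) (iv1 F385271) F385269 D209199 F452693 F218743 D136028 D209262
theorem F455044 : act 0 n209814 = n203046 := d17_2 (iv1 F431749) F455043 F426765 (iv4 F374816) F374817 F362448 D202595 F424674 (iv4 F384317)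
def n209815 : Q := act 5 n136987
theorem D209815 : act 5 n136987 = n209815 := rfl
theorem F455045 : act 3 n209815 = n139339 := d6_1 D209815 (iv5 D139339) (iv3 F220133)
theorem F455046 : act 7 n209815 = n139557 := d13_2 (iv7 F220134) D209815 (iv5 D139557)
theorem F455047 : act 1 n209815 = n186500 := d17_8 (iv1 F292706) F292708 (iv1 F157307) F153291 (iv4 F153287) (iv5 F385229) F385232 D209815 F289386
theorem F455048 : act 6 n209815 = n193877 := d21_9 F383532 (iv1 F305897) (iv5 F327681) (iv6 D99955) F73794 D97949 D191266 F382822 D209815 F391282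
def n209816 : Q := act 6 n136987
theorem D209816 : act 6 n136987 = n209816 := rfl
theorem F455049 : act 3 n209816 = n139340 := d7_1 D209816 (iv6 D139340) (iv3 F220133)
theorem F455050 : act 4 n209816 = n136989 := d10_1 D209816 (iv6 D136989) D136987
theorem F455051 : act 5 n209816 = n193878 := d12_1 D209816 (iv6 D193878) D193877 (iv6 F455048) (iv5 D209815)
theorem F455052 : act 0 n209816 = n202600 := d21_4 F386319 (iv1 F455047) (iv5 D209815) D209816 F424690 (iv5 D138007) F355780 D64866 D138026 (iv1 F386316)
theorem F455053 : act 1 n209816 = n203408 := d15_1 (iv0 F455052) (iv7 F431057) F431055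
def n209817 : Q := act 1 n136988
theorem D209817 : act 1 n136988 = n209817 := rfl
theorem F455054 : act 5 n209817 = n192487 := d17_7 (iv1 F386316) F386319 (iv1 F455047) (iv5 D209815) (iv4 D136987) D136988 D209817 (iv0 F426770) F426768
def n209818 : Q := act 6 n136988
theorem D209818 : act 6 n136988 = n209818 := rfl
theorem F455055 : act 3 n209818 = n136992 := d7_1 D209818 (iv6 D136992) (iv3 F220135)
theorem F455056 : act 5 n209818 = n149162 := d12_1 D209818 (iv6 F242118) (iv5 F365828) (iv6 D136989) D136988
theorem F455057 : act 7 n204919 = n209818 := d13_0 F455056 F234540 D204919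
def n209819 : Q := act 1 n136989
theorem D209819 : act 1 n136989 = n209819 := rfl
theorem F455058 : act 7 n209819 = n203046 := d15_2 (iv0 F365830) D209819 F426763
theorem F455059 : act 5 n209819 = n208173 := d17_7 (iv1 F152884) F328066 D115959 F327050 (iv4 F242117) (iv5 F365828) D209819 (iv0 F448233) (iv4 D191894)
theorem F455060 : act 3 n208174 = n209819 := d6_3 F455059 (iv3 D208173) D208174
theorem F455061 : act 4 n203400 = n209819 := d16_6 F252707 (iv5 F397557) F397556 (iv5 D118882) (iv4 F186939) D203400 F455059 F448231 (iv2 F252705)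
def n209820 : Q := act 5 n136991
theorem D209820 : act 5 n136991 = n209820 := rfl
theorem F455062 : act 2 n209820 = n202092 := d2_1 D209820 (iv5 F452772) F452771
theorem F455063 : act 3 n209820 = n202086 := d6_1 D209820 F423449 F423446
theorem F455064 : act 4 n209820 = n137043 := d9_1 D209820 F220173 (iv4 D67596) (iv5 F80731) F111282 D64381 D136982 D209812 F455039 F220177 (iv4 F168668) F168670 (iv4 D64384) D64385 D136991
theorem F455065 : act 6 n209820 = n202085 := d12_2 F423444 D209820 (iv5 D202085) (iv6 F245202) (iv5 F423442)
theorem F455066 : act 7 n209820 = n202086 := d13_2 (iv7 F423451) D209820 F423449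
theorem F455067 : act 0 n156210 = n209820 := d18_2 F179652 D156210 F455064 F220173 (iv4 D67596) (iv0 F111379) (iv4 F179645) (iv0 D115373) D115375
def n209821 : Q := act 2 n136996
theorem D209821 : act 2 n136996 = n209821 := rfl
def n209822 : Q := act 4 n136996
theorem D209822 : act 4 n136996 = n209822 := rfl
def n209823 : Q := act 0 n136997
theorem D209823 : act 0 n136997 = n209823 := rfl
theorem F455068 : act 5 n209823 = n156210 := d17_1 D209823 F455067 (iv5 D209820) (iv4 D136991) (iv5 D64385) F99461 (iv5 F218777) F218779 D136997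
theorem F455069 : act 4 n209823 = n202500 := d18_3 D64387 D136997 D209823 (iv5 D202500) F180435 F111443 F111282 (iv0 D30318) D30320
theorem F455070 : act 1 n137000 = n209823 := d15_0 (iv0 D209823) (iv7 F452793) F452791
theorem F455071 : act 7 n205858 = n209823 := d11_0 F455069 F424287 D205858
def n209824 : Q := act 1 n136997
theorem D209824 : act 1 n136997 = n209824 := rfl
theorem F455072 : act 1 n209824 = n137000 := d15_1 D209824 (iv7 F452781) F452779
theorem F455073 : act 4 n209824 = n195327 := d18_7 F111276 (iv4 F92811) D125466 F201763 (iv5 F201767) D136997 D209824 F396721 (iv5 D136541)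
theorem F455074 : act 2 n205858 = n209824 := d1_3 F455073 F396717 D205858
theorem F455075 : act 6 n209285 = n209824 := d10_0 F455073 F396718 D209285
def n209825 : Q := act 3 n136997
theorem D209825 : act 3 n136997 = n209825 := rfl
def n209826 : Q := act 6 n136997
theorem D209826 : act 6 n136997 = n209826 := rfl
theorem F455076 : act 2 n209826 = n203072 := d3_1 D209826 F452783 F452779
theorem F455077 : act 4 n209826 = n136998 := d10_1 D209826 (iv6 D136998) D136997
theorem F455078 : act 7 n209826 = n203559 := d14_2 F452793 D209826 (iv6 D203559) (iv7 F423414) (iv6 F452792)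
theorem F455079 : act 0 n209826 = n156060 := d21_4 D209549 F454094 F422875 D209826 F245200 (iv5 D74235) D74233 (iv5 F179809) D202276 (iv1 F423452)
theorem F455080 : act 1 n193640 = n203559 := d15_1 (iv0 F426882) (iv7 F455078) F455076
def n209827 : Q := act 1 n136998
theorem D209827 : act 1 n136998 = n209827 := rfl
theorem F455081 : act 1 n209827 = n203073 := d15_1 D209827 (iv7 F452787) F452784
def n209828 : Q := act 7 n136998
theorem D209828 : act 7 n136998 = n209828 := rfl
theorem F455082 : act 2 n209828 = n203073 := d4_1 D209828 (iv7 F452787) F452784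
theorem F455083 : act 4 n209828 = n203559 := d11_1 D209828 (iv7 F455078) F455077
theorem F455084 : act 6 n209828 = n203007 := d14_1 D209828 (iv7 D203007) (iv6 F365478) F218772 D136998
theorem F455085 : act 3 n185041 = n209828 := d20_5 (iv4 D102384) (iv1 D47504) F337961 (iv3 F135140) D185041 F455083 (iv1 F455080) F390541 (iv3 D183906) (iv1 F157193)
theorem F455086 : act 7 n185147 = n185041 := d8_0 F455085 (iv7 D209828) (iv3 F455018)
theorem F455087 : act 2 n185041 = n185148 := d15_3 F364076 F364074 F455086
theorem F455088 : act 2 n185147 = n185042 := d15_3 F364075 F364073 (iv7 F455086)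
theorem F455089 : act 6 n185042 = n209821 := d3_2 F455017 F455088 (iv2 D209821)
theorem F455090 : act 7 n185042 = n185148 := d4_2 (iv7 F455086) F455088 (iv2 F455087)
def n209829 : Q := act 2 n136999
theorem D209829 : act 2 n136999 = n209829 := rfl
theorem F455091 : act 5 n209829 = n203047 := d2_2 F365481 D209829 F426767
theorem F455092 : act 6 n209829 = n203050 := d3_2 (iv6 F365479) D209829 F426783
def n209830 : Q := act 3 n137002
theorem D209830 : act 3 n137002 = n209830 := rfl
theorem F455093 : act 5 n209830 = n178079 := d6_2 (iv5 F422879) D209830 F422880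
def n209831 : Q := act 6 n137002
theorem D209831 : act 6 n137002 = n209831 := rfl
def n209832 : Q := act 3 n137003
theorem D209832 : act 3 n137003 = n209832 := rfl
theorem F455094 : act 4 n209832 = n193643 := d5_2 (iv4 F246605) D209832 (iv3 F439085) (iv4 D206066) F366458
def n209833 : Q := act 0 n137004
theorem D209833 : act 0 n137004 = n209833 := rfl
def n209834 : Q := act 1 n137004
theorem D209834 : act 1 n137004 = n209834 := rfl
def n209835 : Q := act 2 n137004
theorem D209835 : act 2 n137004 = n209835 := rfl
theorem F455095 : act 4 n209835 = n149195 := d1_2 F390287 D209835 (iv2 F390285)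
theorem F455096 : act 6 n209835 = n149194 := d3_2 (iv6 F390284) D209835 (iv2 F390280)
def n209836 : Q := act 5 n137004
theorem D209836 : act 5 n137004 = n209836 := rfl
theorem F455097 : act 3 n209836 = n137005 := d6_1 D209836 (iv5 D137005) D137004
def n209837 : Q := act 7 n137004
theorem D209837 : act 7 n137004 = n209837 := rfl
theorem F455098 : act 3 n209837 = n137006 := d8_1 D209837 (iv7 D137006) D137004
theorem F455099 : act 4 n209837 = n203069 := d11_1 D209837 F426872 F390287
theorem F455100 : act 6 n203067 = n209837 := d10_0 F455099 (iv6 D203069) D203067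
theorem F455101 : act 1 n142329 = n209837 := d18_6 (iv1 D136529) (iv4 F212711) (iv1 F441477) F441478 F365612 F365378 F455099 F453900 (iv5 D209486)
theorem F455102 : act 1 n209835 = n142329 := d15_0 F455101 (iv7 D209837) D209835
def n209838 : Q := act 1 n137005
theorem D209838 : act 1 n137005 = n209838 := rfl
theorem F455103 : act 1 n209838 = n137045 := d15_1 D209838 (iv7 F452805) F452803
theorem F455104 : act 7 n209838 = n140268 := d15_2 F245415 D209838 (iv2 F362130)
theorem F455105 : act 5 n209838 = n137025 := d17_7 (iv1 F172081) (iv5 D64385) (iv1 D30319) D30320 D64389 D137005 D209838 F220160 (iv4 D136535)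
theorem F455106 : act 4 n209838 = n137018 := d17_9 (iv1 F223384) F223386 (iv1 F111510) D137034 (iv4 F422881) (iv5 F422879) (iv0 D137002) D137005 D209838
theorem F455107 : act 2 n202111 = n209838 := d1_3 F455106 F220152 D202111
theorem F455108 : act 6 n209838 = n194242 := d3_2 F422910 F455107 (iv2 F393258)
theorem F455109 : act 3 n152875 = n209838 := d8_3 F455104 F325053 D152875
def n209839 : Q := act 6 n137005
theorem D209839 : act 6 n137005 = n209839 := rfl
theorem F455110 : act 5 n209839 = n152754 := d12_1 D209839 (iv6 D152754) (iv5 F363881) F220126 D137005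
theorem F455111 : act 1 n203600 = n209839 := d17_6 (iv1 F316059) (iv5 F209428) F209432 F95895 (iv4 F188673) D203600 F455110 F422672 F245273
def n209840 : Q := act 6 n137006
theorem D209840 : act 6 n137006 = n209840 := rfl
theorem F455112 : act 3 n209840 = n203067 := d7_1 D209840 F455100 F455098
theorem F455113 : act 4 n209840 = n137007 := d10_1 D209840 (iv6 D137007) (iv4 F220143)
theorem F455114 : act 5 n203554 = n209840 := d6_0 F455112 F426861 D203554
def n209841 : Q := act 0 n137007
theorem D209841 : act 0 n137007 = n209841 := rfl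
def n209842 : Q := act 1 n137007
theorem D209842 : act 1 n137007 = n209842 := rfl
theorem F455115 : act 6 n149169 = n209842 := d21_3 F338072 F234297 (iv5 F234544) (iv1 D209842) (iv6 D137007) F100319 (iv1 F99455) D135983 (iv6 F388335) (iv1 F388336)
def n209843 : Q := act 0 n137008
theorem D209843 : act 0 n137008 = n209843 := rfl
theorem F455116 : act 3 n209843 = n191523 := d20_5 (iv4 F111438) (iv1 F162029) F162026 D137008 D209843 F383658 (iv1 F378227) (iv4 D102285) F346617 D63933
theorem F455117 : act 6 n191514 = n209843 := d7_0 F455116 (iv6 D191523) (iv3 F383631)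
theorem F455118 : act 7 n192169 = n209843 := d8_0 F455116 F383659 (iv3 F385841)
theorem F455119 : act 5 n209539 = n209843 := d21_8 (iv5 D153304) (iv1 F312486) (iv5 F362499) (iv6 D136580) (iv1 D64204) D64207 D136589 D209539 (iv6 F455117) (iv1 F383633)
theorem F455120 : act 7 n185473 = n209539 := d13_0 F455119 (iv7 F455118) F385842
def n209844 : Q := act 1 n137008
theorem D209844 : act 1 n137008 = n209844 := rfl
def n209845 : Q := act 2 n137008
theorem D209845 : act 2 n137008 = n209845 := rfl
theorem F455121 : act 3 n209845 = n194725 := d0_2 D137008 D209845 (iv2 F424285) (iv3 D202499) (iv2 F180436)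
theorem F455122 : act 1 n209845 = n192169 := d15_0 (iv0 F396715) (iv7 F396716) D209845
def n209846 : Q := act 5 n137008
theorem D209846 : act 5 n137008 = n209846 := rfl
theorem F455123 : act 3 n209846 = n137009 := d6_1 D209846 (iv5 D137009) D137008
def n209847 : Q := act 4 n137009
theorem D209847 : act 4 n137009 = n209847 := rfl
theorem F455124 : act 2 n209847 = n209823 := d1_1 D209847 F455069 F424286
theorem F455125 : act 7 n209847 = n209824 := d11_2 F396719 D209847 F455073
theorem F455126 : act 0 n209847 = n209227 := d18_2 F422935 D209847 (iv4 D209227) F218773 F172079 F201778 F201775 F179661 D202116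
theorem F455127 : act 1 n209847 = n209224 := d18_6 D63933 (iv4 F111438) (iv1 F162029) F162026 D137009 D209847 (iv4 D209224) (iv0 D135985) (iv5 D63935)
def n209848 : Q := act 6 n137009
theorem D209848 : act 6 n137009 = n209848 := rfl
theorem F455128 : act 5 n209848 = n202538 := d12_1 D209848 F424413 (iv5 D198686) F169753 D137009
def n209849 : Q := act 4 n137010
theorem D209849 : act 4 n137010 = n209849 := rfl
theorem F455129 : act 0 n209849 = n209785 := d20_1 D209849 (iv4 D209785) (iv3 D136939) (iv1 D64367) F48745 F24029 D14388 D30324 D64398 D137010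
def n209850 : Q := act 5 n137010
theorem D209850 : act 5 n137010 = n209850 := rfl
theorem F455130 : act 6 n209850 = n198056 := d12_2 (iv6 F343873) D209850 (iv5 D198056) (iv6 F182432) (iv5 F224195)
theorem F455131 : act 7 n209850 = n208858 := d13_2 F427894 D209850 F451135
def n209851 : Q := act 4 n137013
theorem D209851 : act 4 n137013 = n209851 := rfl
theorem F455132 : act 6 n209851 = n177898 := d10_2 (iv6 F328988) D209851 F277468
theorem F455133 : act 7 n209851 = n177997 := d11_2 (iv7 F328989) D209851 F277541
theorem F455134 : act 1 n152347 = n209851 := d15_1 (iv0 F433189) F455133 (iv2 F433186)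
def n209852 : Q := act 4 n137014
theorem D209852 : act 4 n137014 = n209852 := rfl
theorem F455135 : act 2 n209852 = n209550 := d1_1 D209852 F454096 F220148
theorem F455136 : act 5 n209852 = n205851 := d9_2 (iv5 F220147) D209852 (iv4 D205851) (iv5 D126688) F93825 (iv5 F92812) F92811 D64211 D136595 D209549 F454093 (iv5 D140260) (iv4 F176287) (iv5 F217028) (iv4 F218626)
theorem F455137 : act 7 n209852 = n209180 := d11_2 (iv7 F220146) D209852 (iv4 D209180)
theorem F455138 : act 0 n209852 = n202276 := d18_2 (iv1 F220145) D209852 F423447 (iv5 D135981) (iv4 F111438) (iv0 D59446) (iv4 F93834) F111426 D64409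
theorem F455139 : act 1 n209852 = n209222 := d18_6 D115381 (iv4 F201763) (iv1 F217031) (iv4 F218626) (iv5 F220147) D209852 (iv4 D209222) F218764 (iv5 D115384)
def n209853 : Q := act 6 n137014
theorem D209853 : act 6 n137014 = n209853 := rfl
theorem F455140 : act 2 n209853 = n209551 := d3_1 D209853 (iv6 D209551) F220148
theorem F455141 : act 5 n209853 = n209513 := d12_1 D209853 (iv6 D209513) F219659 (iv6 F218627) (iv5 F220147)
theorem F455142 : act 0 n209853 = n208837 := d21_4 (iv5 D136538) (iv1 F218629) (iv5 F220147) D209853 F451061 (iv5 D135161) (iv1 F347017) D136220 (iv6 F396718) F396720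
def n209854 : Q := act 3 n137015
theorem D209854 : act 3 n137015 = n209854 := rfl
theorem F455143 : act 6 n209854 = n193867 := d7_2 (iv6 F362128) D209854 F391253
def n209855 : Q := act 5 n137017
theorem D209855 : act 5 n137017 = n209855 := rfl
theorem F455144 : act 2 n209855 = n203585 := d2_1 D209855 (iv5 D203585) F366079
theorem F455145 : act 3 n209855 = n137018 := d6_1 D209855 (iv5 D137018) D137017
theorem F455146 : act 7 n209855 = n202109 := d13_2 (iv7 F220151) D209855 (iv5 D202109)
theorem F455147 : act 1 n209855 = n204662 := d17_6 F357723 F341523 (iv1 D177999) (iv5 F198921) F357241 D209855 F433188 (iv0 F433190) F426991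
theorem F455148 : act 1 n209851 = n209855 := d15_1 F455134 F455146 F422896
def n209856 : Q := act 6 n137018
theorem D209856 : act 6 n137018 = n209856 := rfl
theorem F455149 : act 2 n209856 = n202112 := d3_1 D209856 (iv6 D202112) (iv2 F220152)
theorem F455150 : act 4 n209856 = n194242 := d10_1 D209856 (iv6 F455108) F455106
theorem F455151 : act 5 n209856 = n194451 := d12_1 D209856 (iv6 F423768) F423765 (iv6 D137019) D137018
theorem F455152 : act 7 n209856 = n194450 := d14_2 (iv7 F220153) D209856 F422910 F422903 (iv6 F362129)
def n209857 : Q := act 3 n137025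
theorem D209857 : act 3 n137025 = n209857 := rfl
theorem F455153 : act 5 n209857 = n152875 := d6_2 F455105 D209857 F455109
theorem F455154 : act 7 n209857 = n152768 := d8_2 F424292 D209857 F424296
theorem F455155 : act 0 n209857 = n209493 := d20_4 (iv4 D136595) F111277 D137025 D209857 (iv3 D209493) (iv4 D136535) (iv1 F172081) D136991 (iv3 F423446) (iv1 F423452)
def n209858 : Q := act 6 n137025
theorem D209858 : act 6 n137025 = n209858 := rfl
theorem F455156 : act 2 n209858 = n149149 := d3_1 D209858 (iv6 F452817) F452815
theorem F455157 : act 4 n209858 = n137026 := d10_1 D209858 (iv6 D137026) D137025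
theorem F455158 : act 5 n209858 = n149238 := d12_1 D209858 F234623 D194242 (iv6 F455108) F455105
theorem F455159 : act 7 n209858 = n149053 := d14_2 F424292 D209858 (iv6 F346026) (iv7 F220788) (iv6 F424291)
theorem F455160 : act 0 n149145 = n209858 := d21_4 (iv5 D202348) (iv1 D115646) D115647 F366578 (iv6 D209858) (iv5 F455105) (iv1 D209838) (iv5 D137005) (iv6 F220126) (iv1 F423706)
theorem F455161 : act 1 n149146 = n209858 := d15_0 (iv0 F455160) (iv7 F390299) F390298
theorem F455162 : act 3 n202324 = n209858 := d6_3 F455158 (iv3 F428901) F428904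
theorem F455163 : act 6 n209857 = n202324 := d7_0 F455162 (iv6 D209858) D209857
def n209859 : Q := act 0 n137030
theorem D209859 : act 0 n137030 = n209859 := rfl
theorem F455164 : act 5 n209859 = n209851 := d19_1 D209859 (iv4 D209851) F220144 F111428 (iv5 D64211) (iv4 F92811) F92810 D59482 (iv5 F162094) F319215 F189629 (iv1 F325006) (iv5 D107717) (iv4 F79313) F79312 D53229 F84067 D64413 D137030
theorem F455165 : act 3 n209859 = n177996 := d20_5 (iv4 D30333) D30331 D64413 D137030 D209859 F413421 F413419 F405155 (iv3 D137037) (iv1 D64418)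
theorem F455166 : act 2 n203593 = n209859 := d15_3 (iv0 D209859) F433191 (iv7 F429045)
theorem F455167 : act 1 n203106 = n209859 := d15_0 (iv0 D209859) (iv7 F245432) (iv2 F426990)
theorem F455168 : act 7 n209859 = n203594 := d15_2 (iv0 F433190) F455167 F429044
theorem F455169 : act 4 n152347 = n204602 := d18_1 (iv1 F455134) (iv1 D204602) (iv4 F432984) (iv5 F452635) F452634 (iv0 F357723) (iv4 F426991) F455167 F455164
theorem F455170 : act 3 n204602 = n154449 := d5_1 F455169 F386091 F351164 (iv4 D152350) (iv3 F239540)
theorem F455171 : act 7 n204602 = n185299 := d11_2 F428994 F455169 F428995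
theorem F455172 : act 2 n185299 = n204601 := d15_3 (iv0 D204601) D204602 F455171
theorem F455173 : act 4 n204601 = n209855 := d1_2 (iv4 F428995) F455172 F455144
theorem F455174 : act 6 n177992 = n209859 := d14_5 F455168 (iv6 F429042) (iv7 D156015) D156014 (iv7 F349759)
def n209860 : Q := act 5 n137030
theorem D209860 : act 5 n137030 = n209860 := rfl
theorem F455175 : act 2 n209860 = n203595 := d2_1 D209860 (iv5 D203595) F366538
theorem F455176 : act 3 n209860 = n137031 := d6_1 D209860 (iv5 D137031) D137030
theorem F455177 : act 4 n208511 = n209860 := d1_0 F455175 (iv4 F451163) F451159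
theorem F455178 : act 6 n208510 = n209860 := d3_0 F455175 F451164 F451156
def n209861 : Q := act 6 n137030
theorem D209861 : act 6 n137030 = n209861 := rfl
theorem F455179 : act 2 n209861 = n203596 := d3_1 D209861 (iv6 D203596) F366538
theorem F455180 : act 3 n209861 = n137032 := d7_1 D209861 (iv6 D137032) D137030
theorem F455181 : act 4 n209861 = n204793 := d10_1 D209861 (iv6 F433604) F422929
def n209862 : Q := act 6 n137031
theorem D209862 : act 6 n137031 = n209862 := rfl
theorem F455182 : act 3 n209862 = n208510 := d7_1 D209862 F455178 F455176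
theorem F455183 : act 4 n209862 = n202384 := d10_1 D209862 F423837 F422877
theorem F455184 : act 0 n209862 = n202082 := d21_4 F223381 (iv1 F111488) D137031 D209862 F422851 D202104 (iv1 F424295) F424293 (iv6 D140268) D140265
def n209863 : Q := act 6 n137034
theorem D209863 : act 6 n137034 = n209863 := rfl
theorem F455185 : act 3 n209863 = n178073 := d7_1 D209863 F364658 F366399
theorem F455186 : act 4 n209863 = n178078 := d10_1 D209863 (iv6 F422882) F422881
theorem F455187 : act 5 n209863 = n141726 := d12_1 D209863 (iv6 D141726) (iv5 D66459) (iv6 F101987) D137034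
def n209864 : Q := act 2 n137035
theorem D209864 : act 2 n137035 = n209864 := rfl
theorem F455188 : act 3 n209864 = n203425 := d0_2 D137035 D209864 (iv2 F428250) F366400 (iv2 F172053)
theorem F455189 : act 1 n209864 = n194439 := d15_0 F393223 F245407 D209864
theorem F455190 : act 1 n194443 = n209864 := d15_0 F455189 F393222 (iv2 F393235)
def n209865 : Q := act 6 n137035
theorem D209865 : act 6 n137035 = n209865 := rfl
theorem F455191 : act 3 n209865 = n137036 := d7_1 D209865 (iv6 D137036) D137035
def n209866 : Q := act 0 n137038
theorem D209866 : act 0 n137038 = n209866 := rfl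
theorem F455192 : act 3 n209866 = n203610 := d20_5 F359960 F409545 F409543 (iv3 F415365) D209866 F429085 F407642 (iv4 F423551) F423550 F359959
theorem F455193 : act 4 n209866 = n209667 := d20_0 (iv1 F454564) F438407 (iv3 F429071) F386629 F245531 F359960 F409545 F409543 (iv3 F415365) D209866
theorem F455194 : act 2 n137042 = n209866 := d15_3 (iv0 D209866) (iv0 D137038) D137042
theorem F455195 : act 1 n137039 = n209866 := d15_0 (iv0 D209866) F423249 F423244
theorem F455196 : act 7 n209866 = n137040 := d15_2 D137039 F455195 (iv2 D137040)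
theorem F455197 : act 6 n156153 = n209866 := d14_5 F455196 F220169 F100345 D74281 D156153
theorem F455198 : act 4 n156178 = n197381 := d20_0 (iv1 F454565) (iv4 F455193) F455192 (iv1 D203610) (iv3 D119631) F185673 (iv1 D118164) (iv4 F318298) F167161 D156178
def n209867 : Q := act 2 n137038
theorem D209867 : act 2 n137038 = n209867 := rfl
theorem F455199 : act 4 n209867 = n197352 := d1_2 (iv4 F438460) D209867 (iv2 F438463)
theorem F455200 : act 7 n209867 = n137039 := d4_2 (iv7 F423249) D209867 (iv2 F423244)
theorem F455201 : act 1 n209867 = n137040 := d15_0 F423248 (iv7 F423249) D209867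
theorem F455202 : act 1 n137042 = n209867 := d15_0 F455201 (iv7 F455196) (iv2 F455194)
def n209868 : Q := act 5 n137038
theorem D209868 : act 5 n137038 = n209868 := rfl
theorem F455203 : act 3 n209868 = n203613 := d6_1 D209868 (iv5 D203613) (iv3 F415365)
theorem F455204 : act 4 n209868 = n203394 := d19_2 D137038 D209868 F428134 D203396 F428136 F314668 (iv3 F114264) (iv1 D54490) (iv5 D26352) F20934 (iv3 D7447) F11596 (iv5 F21047) (iv4 F318405) F111202 (iv1 D14389) D14390 D30333 D64419
def n209869 : Q := act 6 n137038
theorem D209869 : act 6 n137038 = n209869 := rfl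
theorem F455205 : act 3 n209869 = n202017 := d7_1 D209869 F422714 (iv3 F415365)
theorem F455206 : act 7 n209869 = n202010 := d14_2 (iv7 F423249) D209869 (iv6 D202010) (iv7 F365077) D202207
theorem F455207 : act 0 n208520 = n209869 := d20_4 F179790 F98434 D134481 D208520 F455205 F422713 (iv1 F415338) (iv4 F422613) (iv3 F422615) F245597
def n209870 : Q := act 3 n137039
theorem D209870 : act 3 n137039 = n209870 := rfl
theorem F455208 : act 2 n209870 = n202025 := d0_1 D209870 F422739 (iv2 F179770) (iv3 F423245) F423244
theorem F455209 : act 6 n209870 = n202023 := d7_2 F423233 D209870 F423232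
def n209871 : Q := act 5 n137040
theorem D209871 : act 5 n137040 = n209871 := rfl
theorem F455210 : act 2 n209871 = n137041 := d2_1 D209871 (iv5 D137041) D137040
theorem F455211 : act 6 n209871 = n155995 := d12_2 (iv6 F220169) D209871 (iv5 D155995) (iv6 D74196) (iv5 F100344)
theorem F455212 : act 0 n209871 = n202065 := d21_1 D209871 (iv5 D202065) D202066 F438329 (iv6 F440612) F440609 (iv1 D144071) (iv5 F365076) D202207 (iv1 F423248)
theorem F455213 : act 0 n202060 = n209871 := d21_1 D202060 (iv5 D209871) F220169 (iv1 F100349) F336208 (iv5 F360856) (iv1 D115349) (iv5 D53213) D53214 D115352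
theorem E103962 : n202061 = n156058 := ((c21_5 F100350 (iv1 D34051) (iv5 F78995) D74232 D156058 (iv6 D202061) D202060 F455213 (iv5 D209871) F220169 (iv1 F100349))).symm
theorem F455214 : act 6 n156058 = n115352 := (sb E103962 (iv6 D202061))
theorem F455215 : act 4 n185473 = n209871 := d17_9 F455212 (iv5 D202065) (iv1 D115353) D115354 D202069 (iv5 F454012) (iv0 D209521) D209522 (iv0 F454021)
def n209872 : Q := act 0 n137041
theorem D209872 : act 0 n137041 = n209872 := rfl
theorem F455216 : act 5 n209872 = n202048 := d17_1 D209872 (iv1 D202048) D202049 F454071 (iv5 D209534) (iv0 D136587) D136589 D209540 F454081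
theorem F455217 : act 2 n202065 = n209872 := d2_3 F455216 F438322 D202065
theorem F455218 : act 3 n203615 = n209872 := d6_3 F455216 F422797 (iv5 F429098)
theorem F455219 : act 7 n202060 = n209872 := d13_0 F455216 F438323 D202060
theorem F455220 : act 4 n209872 = n203384 := d19_2 (iv1 F422796) (iv5 F455216) F428112 (iv1 F250996) (iv5 D159399) (iv4 D76249) F55079 F54118 F25333 (iv4 F41216) (iv3 D26063) F20531 (iv5 F25348) (iv4 F314917) F101990 F84076 F84073 (iv4 F84064) (iv3 F179634)
theorem F455221 : act 6 n209872 = n203619 := d7_2 F429099 F455218 (iv3 D203619)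
def n209873 : Q := act 1 n137041
theorem D209873 : act 1 n137041 = n209873 := rfl
theorem F455222 : act 7 n209873 = n202065 := d15_2 (iv0 D209872) D209873 F455217
theorem F455223 : act 5 n202047 = n209873 := d21_0 (iv1 D209873) (iv5 D137041) F100336 D64427 (iv6 F336207) (iv5 F409700) (iv1 F409701) (iv5 D115346) D115347 D202047
theorem F455224 : act 2 n209873 = n202060 := d2_1 F455223 (iv5 D202060) (iv2 F438324)
def n209874 : Q := act 7 n137041
theorem D209874 : act 7 n137041 = n209874 := rfl
theorem F455225 : act 3 n209874 = n137047 := d8_1 D209874 (iv7 D137047) (iv3 F220170)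
theorem F455226 : act 5 n209874 = n137042 := d13_1 D209874 (iv7 D137042) D137041
theorem F455227 : act 1 n202060 = n209874 := d15_1 (iv0 F455213) (iv7 D209874) (iv2 F455210)
theorem F455228 : act 1 n209874 = n202065 := d15_1 F455227 (iv7 F455222) F455224
def n209875 : Q := act 3 n137043
theorem D209875 : act 3 n137043 = n209875 := rfl
theorem F455229 : act 4 n209875 = n202085 := d5_2 F455064 D209875 F422858 D202086 (iv3 F455063)
theorem F455230 : act 5 n209875 = n144282 := d6_2 (iv5 F220173) D209875 (iv3 D144282)
theorem F455231 : act 7 n209875 = n202085 := d8_2 F220175 D209875 F422858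
theorem F455232 : act 6 n137043 = n209875 := d14_5 F455231 (iv6 F455065) F455066 F423450 F220175
theorem F455233 : act 2 n209875 = n202093 := d3_1 F455232 (iv6 D202093) F220174
def n209876 : Q := act 3 n137044
theorem D209876 : act 3 n137044 = n209876 := rfl
theorem F455234 : act 5 n209876 = n196533 := d6_2 (iv5 F220177) D209876 (iv3 D196533)
theorem F455235 : act 7 n209876 = n202090 := d8_2 (iv7 F220176) D209876 F422867
def n209877 : Q := act 3 n137045
theorem D209877 : act 3 n137045 = n209877 := rfl
def n209878 : Q := act 6 n137045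
theorem D209878 : act 6 n137045 = n209878 := rfl
theorem F455236 : act 4 n209878 = n137046 := d10_1 D209878 (iv6 D137046) D137045
def n209879 : Q := act 1 n137046
theorem D209879 : act 1 n137046 = n209879 := rfl
def n209880 : Q := act 7 n137046
theorem D209880 : act 7 n137046 = n209880 := rfl
theorem F455237 : act 3 n209880 = n156127 := d8_1 D209880 (iv7 D156127) (iv3 F220179)
theorem F455238 : act 5 n209880 = n137070 := d13_1 D209880 (iv7 D137070) (iv5 F220180)
def n209881 : Q := act 6 n137047
theorem D209881 : act 6 n137047 = n209881 := rfl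
def n209882 : Q := act 5 n137054
theorem D209882 : act 5 n137054 = n209882 := rfl
theorem F455239 : act 2 n209882 = n137055 := d2_1 D209882 (iv5 D137055) D137054
theorem F455240 : act 3 n209882 = n196528 := d6_1 D209882 (iv5 F400977) F245311
theorem F455241 : act 4 n209882 = n193647 := d9_1 D209882 F390550 (iv4 F412688) F412689 F400477 F351200 (iv4 F111148) (iv5 F245194) (iv4 F424329) (iv5 D202510) (iv4 F215902) (iv5 F216955) F216954 D140615 F345282
theorem F455242 : act 6 n209882 = n196527 := d12_2 F345300 D209882 F400973 D196648 (iv5 F401331)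
theorem F455243 : act 7 n209882 = n209390 := d13_2 F245326 D209882 F453532
def n209883 : Q := act 1 n137056
theorem D209883 : act 1 n137056 = n209883 := rfl
theorem F455244 : act 1 n209883 = n208644 := d15_1 D209883 F450305 (iv2 F345299)
theorem F455245 : act 4 n209883 = n140342 := d18_7 (iv1 F101523) (iv4 F169260) (iv1 F98686) (iv4 F84416) D116084 F345296 D209883 F223450 (iv5 D108499)
def n209884 : Q := act 5 n137062
theorem D209884 : act 5 n137062 = n209884 := rfl
theorem F455246 : act 2 n209884 = n202224 := d2_1 D209884 F423309 F220229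
theorem F455247 : act 3 n209884 = n196652 := d6_1 D209884 F401355 F344871
theorem F455248 : act 6 n209884 = n196650 := d12_2 D137062 D209884 F401337 (iv6 D155982) F110953
theorem F455249 : act 4 n209884 = n137218 := d19_2 (iv1 F423227) D209884 F220374 (iv1 F220373) F220762 F220759 (iv3 F168198) F165153 (iv5 F165151) (iv4 F202031) F348408 F435394 F435392 (iv4 F407403) F407402 F324493 D124448 (iv4 F433631) F433630
def n209885 : Q := act 0 n137064
theorem D209885 : act 0 n137064 = n209885 := rfl
theorem F455250 : act 2 n156300 = n209885 := d15_3 (iv0 D209885) F433595 (iv7 F245608)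
theorem F455251 : act 1 n201904 = n209885 := d15_0 (iv0 D209885) F336216 (iv2 F422308)
theorem F455252 : act 7 n209885 = n202202 := d15_2 (iv0 F433593) F455251 (iv2 F423226)
theorem F455253 : act 3 n202242 = n209885 := d20_3 F422488 F344462 (iv4 F423370) (iv1 F455251) F433594 F433589 (iv1 F366002) D204775 F433534 F422490
theorem F455254 : act 5 n209885 = n204097 := d6_2 F423372 F455253 (iv3 D204097)
def n209886 : Q := act 0 n137067
theorem D209886 : act 0 n137067 = n209886 := rfl
theorem F455255 : act 3 n209886 = n204688 := d20_5 F171181 (iv1 D74257) (iv4 F111135) (iv3 F220234) D209886 (iv4 D204688) F360090 D199606 F412822 (iv1 F403663)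
theorem F455256 : act 4 n209886 = n204690 := d20_8 (iv4 F302602) F302599 (iv4 F360087) (iv3 D156122) (iv1 D74263) (iv3 F100355) (iv4 F220235) D209886 (iv3 D204690) F304975
def n209887 : Q := act 1 n137067
theorem D209887 : act 1 n137067 = n209887 := rfl
theorem F455257 : act 1 n209887 = n197377 := d15_1 D209887 (iv7 D197377) (iv2 F220233)
def n209888 : Q := act 5 n137067
theorem D209888 : act 5 n137067 = n209888 := rfl
theorem F455258 : act 2 n209888 = n197376 := d2_1 D209888 (iv5 D197376) (iv2 F220233)
theorem F455259 : act 3 n209888 = n156107 := d6_1 D209888 (iv5 D156107) (iv3 F220234)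
theorem F455260 : act 6 n209888 = n156107 := d12_2 D137067 D209888 (iv5 D156107) (iv6 D74255) (iv5 F100353)
def n209889 : Q := act 7 n137067
theorem D209889 : act 7 n137067 = n209889 := rfl
theorem F455261 : act 2 n209889 = n197377 := d4_1 D209889 (iv7 D197377) (iv2 F220233)
theorem F455262 : act 3 n209889 = n156108 := d8_1 D209889 (iv7 D156108) (iv3 F220234)
theorem F455263 : act 4 n209889 = n137070 := d11_1 D209889 (iv7 D137070) (iv4 F220235)
theorem F455264 : act 6 n209889 = n197384 := d14_1 D209889 (iv7 D197384) (iv6 D108126) (iv7 F100354) D137067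
theorem F455265 : act 1 n197377 = n209886 := d15_0 (iv0 D209886) D209889 F455261
theorem F455266 : act 1 n197375 = n209889 := d15_1 D197375 (iv7 D209889) F220233
theorem F455267 : act 1 n209889 = n197374 := d15_0 (iv0 D197374) D197377 (iv2 F455261)
def n209890 : Q := act 2 n137068
theorem D209890 : act 2 n137068 = n209890 := rfl
theorem F455268 : act 7 n137069 = n209890 := d15_2 (iv0 D137068) D137069 (iv2 D209890)
def n209891 : Q := act 3 n137068
theorem D209891 : act 3 n137068 = n209891 := rfl
def n209892 : Q := act 4 n137068
theorem D209892 : act 4 n137068 = n209892 := rfl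
def n209893 : Q := act 5 n137068
theorem D209893 : act 5 n137068 = n209893 := rfl
def n209894 : Q := act 6 n137068
theorem D209894 : act 6 n137068 = n209894 := rfl
theorem F455269 : act 5 n209894 = n203072 := d21_6 (iv5 D64425) (iv1 D30336) D30338 D64433 D137068 D209894 (iv1 F426883) (iv5 F245043) (iv6 D155986) F110973
theorem F455270 : act 3 n201909 = n209894 := d6_3 F455269 (iv3 D203072) F422326
theorem F455271 : act 0 n201908 = n209894 := d21_10 F455269 (iv1 F426883) (iv5 F245043) (iv6 D155986) F110973 D137057 (iv5 F336217) (iv1 F206784) (iv5 F330557) (iv6 F422321)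
theorem F455272 : act 1 n201905 = n209894 := d15_0 (iv0 F455271) (iv7 D201908) (iv2 F422311)
theorem F455273 : act 2 n209894 = n193882 := d0_1 F455270 (iv3 D193882) F385985 (iv3 F385984) F422323
theorem F455274 : act 6 n209891 = n201909 := d7_0 F455270 (iv6 D209894) D209891
theorem F455275 : act 7 n209894 = n201906 := d8_2 (iv7 F422325) F455270 F422314
theorem F455276 : act 2 n202263 = n209891 := d3_3 F455274 (iv2 F422323) D202263
theorem F455277 : act 4 n203504 = n209891 := d10_3 F455274 F422322 D203504
theorem F455278 : act 0 n156954 = n209891 := d21_4 (iv5 F400977) (iv1 F245315) F245463 D156954 F455274 (iv5 F422326) D203070 F426874 F415906 (iv1 F415904)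
theorem F455279 : act 5 n193882 = n209826 := d2_2 (iv5 F455269) F455273 F455076
theorem F455280 : act 6 n193882 = n209890 := d3_2 D209894 F455273 (iv2 D209890)
theorem F455281 : act 3 n209890 = n193884 := d7_1 F455280 (iv6 D193884) D193882
theorem E103963 : n209890 = n156150 := ((c21_5 F111084 (iv1 F53478) D34081 D74281 D156150 (iv6 F455280) F455279 F455079 (iv5 D156060) (iv6 D74232) D74230)).symm
theorem F455282 : act 2 n156150 = n137068 := (sb E103963 (iv2 D209890))
theorem F455283 : act 3 n156150 = n193884 := (sb E103963 F455281)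
theorem F455284 : act 6 n156150 = n193882 := (sb E103963 (iv6 F455280))
theorem F455285 : act 7 n156150 = n137069 := (sb E103963 (iv7 F455268))
theorem F455286 : act 2 n137069 = n156151 := d15_3 F245390 F245394 F455285
theorem F455287 : act 7 n137068 = n156151 := d4_2 (iv7 F455285) F455282 (iv2 F455286)
theorem F455288 : act 3 n209826 = n193883 := d6_1 F455279 (iv5 D193883) D193882
theorem F455289 : act 6 n193883 = n209825 := d7_2 D209826 F455288 (iv3 D209825)
def n209895 : Q := act 3 n137069
theorem D209895 : act 3 n137069 = n209895 := rfl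
theorem F455290 : act 7 n209895 = n193884 := d8_2 F455285 D209895 (iv3 F455283)
def n209896 : Q := act 4 n137069
theorem D209896 : act 4 n137069 = n209896 := rfl
def n209897 : Q := act 5 n137069
theorem D209897 : act 5 n137069 = n209897 := rfl
def n209898 : Q := act 6 n137069
theorem D209898 : act 6 n137069 = n209898 := rfl
def n209899 : Q := act 6 n137071
theorem D209899 : act 6 n137071 = n209899 := rfl
theorem F455291 : act 2 n209899 = n202863 := d3_1 D209899 (iv6 D202863) F220243
def n209900 : Q := act 0 n137074
theorem D209900 : act 0 n137074 = n209900 := rfl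
theorem F455292 : act 5 n209900 = n198897 := d17_3 F100360 D137074 D209900 (iv4 D198897) (iv5 D110473) (iv0 D50940) F38773 D26078 D53938
theorem F455293 : act 4 n209900 = n200708 := d18_1 D209900 F417586 (iv4 F394719) F394720 F165838 F78433 D53935 F100368 D137074
theorem F455294 : act 3 n209900 = n205308 := d20_5 D194870 (iv1 F394912) F394908 (iv3 F358386) D209900 (iv4 D205308) (iv1 F228472) F376047 F160363 D104662
theorem F455295 : act 1 n137101 = n209900 := d15_0 (iv0 D209900) (iv7 F417647) F417644
theorem F455296 : act 7 n137099 = n209900 := d11_0 F455293 F417585 F395486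
theorem F455297 : act 2 n209900 = n137098 := d15_3 (iv0 D137098) D137099 F455296
def n209901 : Q := act 1 n137074
theorem D209901 : act 1 n137074 = n209901 := rfl
theorem F455298 : act 1 n209901 = n137101 := d15_1 D209901 (iv7 D137101) (iv2 F220249)
theorem F455299 : act 7 n209901 = n137098 := d15_2 (iv0 D209900) D209901 (iv2 F455297)
theorem F455300 : act 5 n209901 = n137506 := d17_7 F165153 (iv5 F165151) F165158 F92948 (iv4 F100359) D137074 D209901 (iv0 F220699) (iv4 D113364)
theorem F455301 : act 4 n209901 = n202850 := d17_9 (iv1 D202850) F343938 (iv1 F343936) D200706 F417575 (iv5 D117031) F100368 D137074 D209901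
theorem F455302 : act 3 n199955 = n209901 := d19_19 (iv1 D209901) (iv5 D137074) F100359 F48768 (iv1 F82156) (iv5 F82593) (iv4 F176315) (iv3 F341208) F319347 F317070 (iv4 D86497) F306261 F96012 (iv5 D61499) D61498 D131092 F345833 (iv5 F345829) (iv4 F414324)
theorem F455303 : act 6 n209901 = n190593 := d7_2 D199955 F455302 F380249
theorem F455304 : act 2 n137099 = n209901 := d3_3 F455303 (iv2 F395478) (iv6 F395481)
def n209902 : Q := act 4 n137074
theorem D209902 : act 4 n137074 = n209902 := rfl
theorem F455305 : act 2 n209902 = n137100 := d1_1 D209902 (iv4 D137100) (iv2 F220249)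
theorem F455306 : act 6 n209902 = n166563 := d10_2 F358387 D209902 (iv4 F262091)
theorem F455307 : act 7 n209902 = n205363 := d11_2 F417647 D209902 F436083
theorem F455308 : act 5 n209902 = n205520 := d16_1 D209902 F436813 F361392 F202052 F100377 (iv4 F100369) (iv5 F220262) (iv7 D137101) (iv2 F220249)
theorem F455309 : act 0 n209902 = n166624 := d17_0 F440965 (iv1 F440962) (iv5 F441697) F441696 (iv5 D200718) (iv0 F409786) (iv5 F455292) (iv0 D209900) D209902
theorem F455310 : act 1 n209902 = n205360 := d18_6 (iv1 F95725) F95723 F48769 (iv4 F100359) D137074 D209902 F436073 (iv0 F350490) F350492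
def n209903 : Q := act 4 n137076
theorem D209903 : act 4 n137076 = n209903 := rfl
theorem F455311 : act 0 n209903 = n194057 := d18_2 (iv1 F220922) D209903 (iv4 D194057) (iv5 D102618) F74849 D47596 D102627 F361815 D128526
def n209904 : Q := act 6 n137076
theorem D209904 : act 6 n137076 = n209904 := rfl
theorem F455312 : act 5 n209904 = n203872 := d12_1 D209904 (iv6 F430183) F383642 F365459 D137076
def n209905 : Q := act 5 n137078
theorem D209905 : act 5 n137078 = n209905 := rfl
theorem F455313 : act 2 n209905 = n206408 := d2_1 D209905 F440648 F410797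
theorem F455314 : act 3 n209905 = n137080 := d6_1 D209905 (iv5 D137080) D137078
theorem F455315 : act 7 n209905 = n206407 := d13_2 F452673 D209905 (iv5 F452672)
theorem F455316 : act 0 n209905 = n198467 := d17_2 (iv1 F410802) D209905 (iv5 D198467) (iv4 F215919) F215920 (iv0 F336197) (iv5 D144120) D144119 (iv4 F226832)
theorem F455317 : act 1 n209905 = n202777 := d17_6 (iv1 F396702) (iv5 F403717) (iv1 F403720) D197432 F410804 D209905 F425545 F414211 (iv4 D195514)
theorem F455318 : act 6 n198456 = n137078 := d21_5 (iv5 D51638) (iv1 F39401) D50447 D109320 D198456 D209905 F455316 (iv5 D198467) (iv6 D109343) (iv1 F81519)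
theorem F455319 : act 2 n198647 = n198456 := d3_3 F455318 (iv2 F410797) (iv6 F440651)
theorem F455320 : act 3 n137081 = n198456 := d7_3 F455318 (iv3 D137078) D137081
theorem F455321 : act 7 n198457 = n198647 := d15_2 (iv0 D198456) D198457 F455319
theorem F455322 : act 7 n198648 = n198456 := d15_2 (iv0 D198647) D198648 (iv2 F455319)
theorem F455323 : act 2 n198457 = n198648 := d4_3 F455322 (iv2 F455319) (iv7 F455321)
theorem F455324 : act 3 n193517 = n198648 := d8_3 F455322 (iv3 F455320) F390146
theorem F455325 : act 6 n198648 = n193675 := d7_2 (iv6 F390145) F455324 (iv3 D193675)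
theorem F455326 : act 4 n198648 = n200205 := d20_6 F454459 (iv1 F347139) (iv4 F422849) F390132 D193517 F455324 (iv1 D200205) F175593 (iv3 F414060) F454462
def n209906 : Q := act 6 n137079
theorem D209906 : act 6 n137079 = n209906 := rfl
theorem F455327 : act 4 n209906 = n137081 := d10_1 D209906 (iv6 D137081) D137079
theorem F455328 : act 5 n209906 = n189078 := d12_1 D209906 (iv6 D189078) (iv5 F333051) F333141 (iv5 F361813)
theorem F455329 : act 0 n209906 = n189154 := d21_4 D47597 D102629 (iv5 F361813) D209906 F375870 F338818 (iv1 F338817) (iv5 F157829) (iv6 D102628) (iv1 D47596)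
theorem F455330 : act 0 n189140 = n209906 := d21_4 F344558 F205144 (iv5 F408219) (iv6 F408226) (iv6 D209906) F361813 (iv1 F333140) (iv5 F333093) F153753 (iv1 F153710)
def n209907 : Q := act 4 n137080
theorem D209907 : act 4 n137080 = n209907 := rfl
theorem F455331 : act 1 n209907 = n194057 := d18_6 (iv1 F396255) (iv4 F454578) (iv1 F454583) (iv4 D137079) D137080 D209907 (iv4 D194057) (iv0 F385793) F225389
def n209908 : Q := act 6 n137080
theorem D209908 : act 6 n137080 = n209908 := rfl
def n209909 : Q := act 5 n137081
theorem D209909 : act 5 n137081 = n209909 := rfl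
def n209910 : Q := act 4 n137082
theorem D209910 : act 4 n137082 = n209910 := rfl
theorem F455332 : act 2 n209910 = n137086 := d1_1 D209910 (iv4 D137086) (iv2 F220250)
def n209911 : Q := act 5 n137083
theorem D209911 : act 5 n137083 = n209911 := rfl
theorem F455333 : act 2 n209911 = n137090 := d2_1 D209911 (iv5 D137090) (iv2 F220251)
theorem F455334 : act 3 n209911 = n173852 := d6_1 D209911 (iv5 F389922) F389918
theorem F455335 : act 7 n209911 = n198224 := d13_2 F390876 D209911 F407270
theorem F455336 : act 4 n209911 = n198208 := d16_2 (iv4 F220252) D209911 F411337 F411327 (iv5 F404907) (iv4 F390036) F220349 (iv7 D64485) (iv2 F100420)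
theorem F455337 : act 1 n209911 = n193621 := d17_6 (iv1 F156793) (iv5 F292961) (iv1 F361950) (iv5 D137156) (iv4 F220252) D209911 (iv5 D193621) F390035 F390034
def n209912 : Q := act 4 n137084
theorem D209912 : act 4 n137084 = n209912 := rfl
theorem F455338 : act 6 n209912 = n189336 := d10_2 F399541 D209912 (iv4 F399543)
def n209913 : Q := act 3 n137085
theorem D209913 : act 3 n137085 = n209913 := rfl
theorem F455339 : act 2 n209913 = n190503 := d0_1 D209913 (iv3 D190503) F378584 (iv3 F391947) F391946
theorem F455340 : act 5 n209913 = n137487 := d6_2 (iv5 F221261) D209913 (iv3 D137487)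
theorem F455341 : act 0 n202794 = n209913 := d17_0 F455340 F345457 (iv5 F415818) F415817 (iv5 F365024) F182824 D128569 F365085 D202794
theorem F455342 : act 6 n209913 = n138898 := d21_9 F279038 (iv1 D124995) D124997 (iv6 F414322) (iv1 F414319) (iv6 F336221) (iv5 F336220) F397316 (iv5 F455340) F362439
def n209914 : Q := act 4 n137085
theorem D209914 : act 4 n137085 = n209914 := rfl
def n209915 : Q := act 6 n137085
theorem D209915 : act 6 n137085 = n209915 := rfl
theorem F455343 : act 2 n209915 = n208076 := d3_1 D209915 F447778 F391946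
theorem F455344 : act 3 n209915 = n138898 := d7_1 D209915 (iv6 F455342) (iv3 D209913)
theorem F455345 : act 5 n209915 = n138897 := d12_1 D209915 (iv6 F390137) F390133 (iv6 D137489) (iv5 F221261)
theorem F455346 : act 0 n209915 = n200374 := d21_10 (iv5 F443551) (iv1 F443553) D207173 F443641 (iv1 F414618) (iv6 F440513) (iv5 D206381) (iv1 F206723) (iv5 F221261) D209915
def n209916 : Q := act 0 n137086
theorem D209916 : act 0 n137086 = n209916 := rfl
theorem F455347 : act 4 n209916 = n137518 := d18_3 (iv1 D137085) D137086 D209916 (iv5 D137518) (iv4 D64646) (iv0 D30420) (iv4 F48847) D64626 (iv5 F221261)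
theorem F455348 : act 3 n194212 = n209916 := d5_5 F455347 (iv3 F396265) F396266 F364521 D194212
def n209917 : Q := act 1 n137086
theorem D209917 : act 1 n137086 = n209917 := rfl
theorem F455349 : act 4 n137530 = n209917 := d20_6 F49649 (iv1 F49656) (iv4 D31386) (iv3 F49645) (iv1 F181802) (iv3 F220727) (iv1 D209917) (iv4 D137086) F100362 F48773
def n209918 : Q := act 5 n137086
theorem D209918 : act 5 n137086 = n209918 := rfl
def n209919 : Q := act 6 n137086
theorem D209919 : act 6 n137086 = n209919 := rfl
theorem F455350 : act 4 n209919 = n137087 := d10_1 D209919 (iv6 D137087) D137086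
theorem F455351 : act 0 n194221 = n209919 := d20_7 F350535 F306981 D96002 D190395 F392402 (iv3 D194220) D194221 F455350 F220253 D137092
def n209920 : Q := act 5 n137087
theorem D209920 : act 5 n137087 = n209920 := rfl
theorem F455352 : act 3 n209920 = n137094 := d6_1 D209920 (iv5 D137094) (iv3 F220253)
theorem F455353 : act 6 n209920 = n137090 := d12_2 D137087 D209920 (iv5 D137090) (iv6 D64442) D64441
theorem F455354 : act 4 n209920 = n198221 := d18_5 (iv1 F270253) D194221 F455351 F455350 D209920 (iv0 F412237) F412234 F248920 D172105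
theorem F455355 : act 0 n209920 = n204071 := d21_7 (iv5 D199303) F246470 (iv5 F455345) (iv6 D209915) (iv1 D137085) D137087 D209920 F430977 (iv6 F447751) F447749
theorem F455356 : act 0 n204067 = n209920 := d21_7 F340520 (iv1 F206722) D206381 F440513 F414617 (iv6 F430963) (iv5 F430960) (iv5 D209920) (iv6 D137087) D137084
def n209921 : Q := act 3 n137088
theorem D209921 : act 3 n137088 = n209921 := rfl
theorem F455357 : act 2 n209921 = n196969 := d0_1 D209921 F402480 F169681 (iv3 F169710) F352924
theorem F455358 : act 5 n209921 = n162756 := d6_2 F352925 D209921 (iv3 F378046)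
theorem F455359 : act 6 n209921 = n198607 := d7_2 (iv6 F352923) D209921 F408505
theorem F455360 : act 7 n209921 = n196973 := d8_2 F390599 D209921 F402491
theorem F455361 : act 4 n209921 = n196964 := d20_6 (iv4 D52332) F40194 (iv4 F48774) (iv3 F100363) D137088 D209921 (iv1 F402459) F359499 (iv3 F359498) (iv1 F165840)
theorem F455362 : act 0 n177583 = n209921 := d18_0 F455361 (iv1 F402459) F359499 (iv5 F160346) (iv4 F394734) (iv0 F394736) F353263 F353261 D177583
theorem F455363 : act 1 n188388 = n209921 := d15_0 (iv0 F455362) F277037 (iv2 F373253)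
def n209922 : Q := act 4 n137088
theorem D209922 : act 4 n137088 = n209922 := rfl
theorem F455364 : act 2 n209922 = n198642 := d1_1 D209922 F408671 F352924
theorem F455365 : act 6 n209922 = n193972 := d10_2 (iv6 F352923) D209922 F391557
theorem F455366 : act 5 n209922 = n199275 := d16_1 D209922 F411428 (iv5 D196359) F164788 D107390 D196850 (iv5 F402034) F352926 F352924
theorem F455367 : act 0 n209922 = n193862 := d17_0 F391224 (iv1 D191920) F152930 (iv4 F157435) D193939 (iv0 F407272) F407270 (iv0 F390878) D209922
def n209923 : Q := act 4 n137089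
theorem D209923 : act 4 n137089 = n209923 := rfl
theorem F455368 : act 6 n209923 = n187108 := d10_2 F352894 D209923 F377224
theorem F455369 : act 7 n209923 = n198642 := d11_2 (iv7 F352926) D209923 F408671
theorem F455370 : act 5 n209923 = n199037 := d16_7 F411428 (iv5 D196359) F164788 D107390 D196850 (iv5 F402034) D209923 (iv7 F411802) F411800
theorem F455371 : act 1 n209923 = n193862 := d18_8 (iv1 D191920) (iv4 F155592) (iv1 F391234) (iv4 D137188) (iv5 D64484) (iv4 F100364) D137089 D209923 F391224
def n209924 : Q := act 0 n137090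
theorem D209924 : act 0 n137090 = n209924 := rfl
theorem F455372 : act 3 n209924 = n166706 := d20_5 (iv4 F346882) F394723 (iv4 D137100) (iv3 F220254) D209924 (iv4 F353263) F394736 F394734 (iv3 F394718) F394722
theorem F455373 : act 5 n209924 = n193489 := d21_2 D137090 D209924 (iv6 F391382) (iv1 F391383) F390428 (iv5 F215060) (iv1 F215064) F352832 F352894 (iv1 D137089)
theorem F455374 : act 7 n193621 = n209924 := d13_0 F455373 F391236 D193621
theorem F455375 : act 1 n198224 = n209924 := d17_6 D101831 F346652 (iv1 F346651) (iv5 F157101) (iv4 F390875) (iv5 F407270) F455373 (iv0 D193489) F156791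
theorem F455376 : act 6 n209924 = n166704 := d21_3 (iv5 D193490) D193489 (iv5 F455373) F362541 (iv6 D174237) (iv5 D83285) F326418 D109724 (iv6 F408677) F408679
def n209925 : Q := act 7 n137090
theorem D209925 : act 7 n137090 = n209925 := rfl
theorem F455377 : act 2 n209925 = n198224 := d4_1 D209925 (iv7 F455335) F455333
theorem F455378 : act 3 n209925 = n137101 := d8_1 D209925 (iv7 D137101) (iv3 F220254)
theorem F455379 : act 4 n209925 = n198209 := d11_1 D209925 F411340 (iv4 F407246)
theorem F455380 : act 5 n209925 = n137091 := d13_1 D209925 (iv7 D137091) D137090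
theorem F455381 : act 1 n193621 = n209925 := d15_1 F455337 (iv7 D209925) (iv2 F455333)
theorem F455382 : act 6 n190679 = n209925 := d21_3 (iv5 F150258) (iv1 F368454) (iv5 F380555) (iv1 F455381) F390475 (iv5 D189856) F348020 D95461 F147109 D95465
def n209926 : Q := act 6 n137092
theorem D209926 : act 6 n137092 = n209926 := rfl
theorem F455383 : act 2 n209926 = n208128 := d3_1 D209926 F448001 (iv2 F382649)
theorem F455384 : act 4 n209926 = n144230 := d10_1 D209926 (iv6 D144230) (iv4 F350535)
def n209927 : Q := act 3 n137093
theorem D209927 : act 3 n137093 = n209927 := rfl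
theorem F455385 : act 2 n209927 = n191357 := d0_1 D209927 (iv3 F415859) (iv2 F373673) F382655 (iv2 F382656)
theorem F455386 : act 4 n209927 = n200378 := d5_2 (iv4 F365052) D209927 (iv3 F416201) (iv4 F365429) (iv3 D144232)
theorem F455387 : act 7 n209927 = n191358 := d8_2 (iv7 F382650) D209927 (iv3 F383185)
theorem F455388 : act 0 n209927 = n158121 := d19_4 F158221 F350496 (iv4 F365052) D209927 F249057 F135891 (iv3 D75179) (iv1 F70732) (iv5 F70736) (iv4 D40481) (iv3 F61576) (iv1 F295045) (iv5 D37856) F29320 (iv3 F29314) (iv1 F66215) D20816 F293035 D88447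
theorem F455389 : act 0 n209919 = n194216 := d20_7 (iv4 F415874) (iv1 F416199) (iv4 F455386) (iv3 D209927) (iv1 D137093) (iv3 F220253) (iv4 F455350) (iv4 D194216) D194215 (iv1 F392396)
theorem F455390 : act 5 n158093 = n209927 := d17_1 (iv1 F276096) F455388 F249057 F135891 (iv5 F148588) D190731 (iv5 F380844) F283869 F283865
theorem F455391 : act 1 n209927 = n189387 := d15_1 (iv0 F455388) (iv7 F415853) F415850
def n209928 : Q := act 5 n137093
theorem D209928 : act 5 n137093 = n209928 := rfl
theorem F455392 : act 2 n209928 = n188490 := d2_1 D209928 (iv5 F382654) (iv2 F382656)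
theorem F455393 : act 3 n209928 = n158093 := d6_1 D209928 F455390 (iv3 D209927)
theorem F455394 : act 4 n209928 = n205252 := d9_1 D209928 F435611 (iv4 D189677) F353201 D102924 F350471 (iv4 F350535) F377361 (iv4 F373491) F377360 (iv4 D189676) F350498 D102919 F350496 (iv4 F365052)
theorem F455395 : act 7 n209928 = n206647 := d13_2 (iv7 F382650) D209928 F441726
theorem F455396 : act 6 n194949 = n209928 := d21_5 F404525 (iv1 F404526) F395609 (iv6 D194952) D194949 (iv5 D209928) (iv1 D137093) D137094 F220257 D137098
def n209929 : Q := act 6 n137093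
theorem D209929 : act 6 n137093 = n209929 := rfl
theorem F455397 : act 4 n209929 = n144235 := d10_1 D209929 (iv6 D144235) (iv4 F365052)
def n209930 : Q := act 5 n137096
theorem D209930 : act 5 n137096 = n209930 := rfl
theorem F455398 : act 2 n209930 = n199925 := d2_1 D209930 F415149 F415145
theorem F455399 : act 3 n209930 = n137097 := d6_1 D209930 (iv5 D137097) D137096
theorem F455400 : act 6 n209930 = n204839 := d12_2 F408076 D209930 F433780 (iv6 F351036) (iv5 F408073)
theorem F455401 : act 7 n209930 = n199924 := d13_2 (iv7 F220258) D209930 F414173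
theorem F455402 : act 4 n209930 = n203954 := d16_2 F422282 D209930 F430563 (iv4 F389016) (iv5 F430757) (iv4 F430758) F423120 (iv7 F425276) F425271
theorem F455403 : act 0 n209930 = n199923 := d18_0 F414171 F358669 D173410 (iv5 F393766) (iv4 F423743) F423747 D202371 (iv0 F423802) D209930
theorem F455404 : act 0 n199927 = n209930 := d19_0 (iv5 D209930) (iv4 F422282) (iv3 D201898) (iv1 F179459) (iv5 F179715) (iv4 F423136) F423135 (iv1 F228620) (iv5 D68254) D68253 (iv3 F331808) (iv1 D140637) (iv5 D65989) D65988 (iv3 F171686) (iv1 F171690) (iv5 F175065) F175064 (iv3 F414184)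
def n209931 : Q := act 6 n137097
theorem D209931 : act 6 n137097 = n209931 := rfl
theorem F455405 : act 2 n209931 = n194807 := d3_1 D209931 F394544 (iv2 F220259)
theorem F455406 : act 3 n209931 = n204839 := d7_1 D209931 (iv6 F455400) F455399
theorem F455407 : act 4 n209931 = n205211 := d10_1 D209931 (iv6 F435460) (iv4 F415180)
theorem F455408 : act 0 n209931 = n194809 := d21_4 (iv5 D64445) D64444 D137097 D209931 F394550 F380256 (iv1 F353145) (iv5 F395480) (iv6 F395481) (iv1 D137099)
theorem F455409 : act 0 n194799 = n209931 := d21_4 (iv5 D96231) (iv1 F76031) D104588 D194799 (iv6 D209931) (iv5 D137097) F176565 D200724 F417646 (iv1 F369703)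
theorem F455410 : act 7 n194808 = n209931 := d8_0 F455406 F433781 F394546
def n209932 : Q := act 4 n137098
theorem D209932 : act 4 n137098 = n209932 := rfl
theorem F455411 : act 2 n209932 = n200708 := d1_1 D209932 (iv4 F455293) F455297
theorem F455412 : act 3 n209932 = n181144 := d5_1 D209932 F330165 F330170 D159276 (iv3 F407250)
theorem F455413 : act 5 n209932 = n204231 := d9_2 (iv5 F404525) D209932 F431579 F361368 (iv4 D125596) (iv5 F94074) (iv4 F204376) F220261 (iv4 F395486) F395487 F202021 F348397 (iv4 D125595) (iv5 F167346) (iv4 F404523)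
theorem F455414 : act 7 n209932 = n202850 := d11_2 F455299 D209932 (iv4 F455301)
theorem F455415 : act 0 n209932 = n199985 := d17_0 (iv5 F414479) (iv1 F397857) (iv5 F343934) (iv4 F343932) (iv5 D126180) (iv0 F176564) D200724 F417649 D209932
theorem F455416 : act 1 n209932 = n196945 := d18_6 (iv1 F397848) (iv4 D195683) F167347 (iv4 F404523) (iv5 F404525) D209932 (iv4 D196945) (iv0 F350485) (iv5 F350486)
theorem F455417 : act 6 n209932 = n205325 := d21_5 F435611 F377365 F376288 (iv6 F402411) (iv1 F455416) F435943 (iv1 D131987) (iv5 F332802) (iv6 F202080) D205252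
def n209933 : Q := act 6 n137098
theorem D209933 : act 6 n137098 = n209933 := rfl
theorem F455418 : act 4 n209933 = n205325 := d10_1 D209933 (iv6 F455417) (iv4 D209932)
def n209934 : Q := act 3 n137099
theorem D209934 : act 3 n137099 = n209934 := rfl
theorem F455419 : act 2 n209934 = n205310 := d0_1 D209934 F435889 (iv2 F414323) F455302 (iv2 F455304)
theorem F455420 : act 4 n209934 = n199986 := d5_2 F395486 D209934 F414481 F397855 (iv3 F395485)
theorem F455421 : act 5 n209934 = n206057 := d6_2 F220261 D209934 F439036
theorem F455422 : act 6 n209934 = n199958 := d7_2 (iv6 F395481) D209934 (iv3 F414350)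
theorem F455423 : act 7 n209934 = n205308 := d8_2 (iv7 F455296) D209934 (iv3 F455294)
theorem F455424 : act 0 n209934 = n173848 := d20_4 (iv4 F414476) F414478 F395486 D209934 (iv3 D173848) F297242 F296270 D77040 D160638 (iv1 F350491)
def n209935 : Q := act 7 n137100
theorem D209935 : act 7 n137100 = n209935 := rfl
theorem F455425 : act 2 n209935 = n205363 := d4_1 D209935 (iv7 F455307) F455305
theorem F455426 : act 3 n209935 = n198085 := d8_1 D209935 F436867 F436861
theorem F455427 : act 4 n209935 = n137101 := d11_1 D209935 (iv7 D137101) D137100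
theorem F455428 : act 5 n209935 = n205173 := d13_1 D209935 (iv7 F435295) (iv5 F417596)
theorem F455429 : act 1 n205360 = n209935 := d15_1 F455310 (iv7 D209935) (iv2 F455305)
theorem F455430 : act 1 n209935 = n166624 := d15_1 F455429 (iv7 F326457) (iv2 F436072)
def n209936 : Q := act 3 n137103
theorem D209936 : act 3 n137103 = n209936 := rfl
theorem F455431 : act 2 n209936 = n205854 := d0_1 D209936 (iv3 D205854) F220879 F220870 (iv2 F220269)
theorem F455432 : act 4 n209936 = n199009 := d5_2 D137103 D209936 (iv3 D199009) (iv4 F220264) (iv3 D137102)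
theorem F455433 : act 5 n209936 = n187759 := d6_2 (iv5 F220271) D209936 (iv3 D187759)
theorem F455434 : act 7 n209936 = n209634 := d8_2 (iv7 F220270) D209936 (iv3 D209634)
theorem F455435 : act 0 n209936 = n139439 := d19_4 (iv1 F161475) (iv5 F161476) D137103 D209936 (iv5 F350327) (iv4 F452069) F452068 (iv1 F363779) D201082 F419029 (iv3 D199790) (iv1 D111740) F81284 (iv4 F99523) (iv3 D63962) (iv1 F48522) D30174 (iv4 F48815) (iv3 F100478)
theorem F455436 : act 0 n139434 = n209936 := d20_4 D64473 (iv1 F220323) (iv4 F418039) F418037 (iv3 D209936) (iv4 D137103) (iv1 F100380) F100052 (iv3 F99441) (iv1 F99445)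
def n209937 : Q := act 6 n137103
theorem D209937 : act 6 n137103 = n209937 := rfl
theorem F455437 : act 2 n209937 = n201044 := d3_1 D209937 (iv6 D201044) (iv2 F220269)
theorem F455438 : act 4 n209937 = n137104 := d10_1 D209937 (iv6 D137104) D137103
theorem F455439 : act 5 n209937 = n187031 := d12_1 D209937 (iv6 D187031) F293346 (iv6 F139357) (iv5 F220271)
theorem F455440 : act 0 n209694 = n209937 := d21_4 (iv5 F331230) (iv1 F353218) (iv5 F353215) (iv6 F454659) (iv6 D209937) F220271 (iv1 F221199) (iv5 D137940) D137941 F325112
def n209938 : Q := act 6 n137106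
theorem D209938 : act 6 n137106 = n209938 := rfl
theorem F455441 : act 2 n209938 = n209635 := d3_1 D209938 (iv6 D209635) (iv2 F220275)
theorem F455442 : act 3 n209938 = n205853 := d7_1 D209938 (iv6 D205853) F220279
theorem F455443 : act 4 n209938 = n137107 := d10_1 D209938 (iv6 D137107) D137106
def n209939 : Q := act 1 n137107
theorem D209939 : act 1 n137107 = n209939 := rfl
theorem F455444 : act 1 n209939 = n209636 := d15_1 D209939 (iv7 D209636) (iv2 F220280)
theorem F455445 : act 7 n209939 = n193505 := d15_2 (iv0 F438199) D209939 (iv2 F438194)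
theorem F455446 : act 5 n209939 = n176271 := d17_7 (iv1 F347657) F347659 (iv1 F177719) (iv5 F142279) F352364 F352360 D209939 (iv0 D176271) (iv4 F275561)
theorem F455447 : act 4 n209939 = n193508 := d17_9 (iv1 F390124) (iv5 F450370) F453727 F453726 (iv4 F421018) (iv5 D201581) F352375 F352360 D209939
theorem F455448 : act 2 n144349 = n209939 := d1_3 F455447 F390121 (iv4 F227085)
theorem F455449 : act 6 n202398 = n209939 := d10_0 F455447 (iv6 F426720) F426718
theorem F455450 : act 3 n202399 = n209939 := d20_5 (iv4 F422515) (iv1 F422517) (iv4 F415295) F360258 F423865 F455447 (iv1 F390124) (iv4 F438254) F438253 (iv1 F365199)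
def n209940 : Q := act 6 n137109
theorem D209940 : act 6 n137109 = n209940 := rfl
theorem F455451 : act 2 n209940 = n193464 := d3_1 D209940 (iv6 D193464) F337640
theorem F455452 : act 3 n209940 = n205326 := d7_1 D209940 F435945 F337641
theorem F455453 : act 5 n209940 = n192663 := d12_1 D209940 (iv6 D192663) (iv5 D100494) D100495 (iv5 F337639)
theorem F455454 : act 7 n209940 = n209363 := d14_2 F337646 D209940 (iv6 D209363) F354221 (iv6 F337645)
theorem F455455 : act 0 n209940 = n202398 := d21_4 F287017 (iv1 F272862) (iv5 F337639) D209940 F455449 F455446 (iv1 F361690) (iv5 F389906) (iv6 D193458) (iv1 F287015)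
theorem F455456 : act 4 n201293 = n209940 := d18_1 D201293 F455455 (iv4 F426718) (iv5 D203034) (iv4 F374145) (iv0 D188597) (iv4 F361673) (iv0 D114266) D114268
theorem F455457 : act 3 n143402 = n201293 := d20_5 (iv4 F344520) (iv1 F349501) F349503 F226164 D143402 F455456 F455455 (iv4 F426718) F426716 (iv1 F385668)
theorem F455458 : act 6 n193424 = n201293 := d10_0 F455456 (iv6 D209940) (iv4 F389802)
def n209941 : Q := act 6 n137117
theorem D209941 : act 6 n137117 = n209941 := rfl
theorem F455459 : act 2 n209941 = n207440 := d3_1 D209941 F444921 F364726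
theorem F455460 : act 3 n209941 = n137119 := d7_1 D209941 (iv6 D137119) D137117
theorem F455461 : act 4 n209941 = n208349 := d10_1 D209941 F449028 F223502
theorem F455462 : act 5 n209941 = n205579 := d12_1 D209941 F437077 (iv5 D131433) (iv6 F312053) (iv5 F333407)
theorem F455463 : act 7 n209941 = n197090 := d14_2 (iv7 F220288) D209941 (iv6 D197090) (iv7 F209087) F209086
def n209942 : Q := act 6 n137125
theorem D209942 : act 6 n137125 = n209942 := rfl
theorem F455464 : act 3 n209942 = n139306 := d7_1 D209942 F422572 F422567
theorem F455465 : act 5 n209942 = n193132 := d12_1 D209942 F388851 (iv5 D182525) D182526 (iv5 F360192)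
theorem F455466 : act 0 n209942 = n137177 := d21_4 D143066 F360189 (iv5 F360192) D209942 F368240 F368237 (iv1 F389317) F389314 (iv6 F345467) F220509
def n209943 : Q := act 5 n137130
theorem D209943 : act 5 n137130 = n209943 := rfl
theorem F455467 : act 2 n209943 = n194225 := d2_1 D209943 F392407 F390865
theorem F455468 : act 3 n209943 = n189963 := d6_1 D209943 (iv5 F392455) F392454
theorem F455469 : act 6 n209943 = n189958 := d12_2 F372069 D209943 (iv5 D189958) D189959 F378375
theorem F455470 : act 7 n209943 = n194223 := d13_2 F425781 D209943 F425784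
theorem F455471 : act 0 n209943 = n137530 := d17_2 D137130 D209943 (iv5 D137530) (iv4 D64651) F221259 F218732 (iv5 D135964) F99443 D64468
theorem F455472 : act 1 n209943 = n137518 := d17_6 D47595 D102623 (iv1 F383811) (iv5 F383812) (iv4 F220321) D209943 (iv5 D137518) F333129 F74849
def n209944 : Q := act 6 n137131
theorem D209944 : act 6 n137131 = n209944 := rfl
theorem F455473 : act 3 n209944 = n144144 := d7_1 D209944 (iv6 D144144) (iv3 F390837)
theorem F455474 : act 4 n209944 = n192464 := d10_1 D209944 (iv6 F418038) F418039
theorem F455475 : act 5 n209944 = n158000 := d12_1 D209944 F248907 F112838 D103002 (iv5 F390838)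
theorem F455476 : act 0 n209944 = n137178 := d21_4 D137530 F396288 (iv5 F390838) D209944 (iv6 F349521) F276243 F324512 (iv5 F344570) (iv6 F362579) (iv1 F220715)
theorem F455477 : act 0 n137183 = n209944 := d21_4 F453846 (iv1 F377561) F377557 (iv6 F352810) (iv6 D209944) F390838 F390836 (iv5 D137518) (iv6 F326614) D209477
theorem E103964 : n192463 = n188957 := (c18_6 F346631 D137183 F455477 F455474 (iv5 D192464) D192463 (iv0 D188957) F294172 D100971 (iv5 F157101))
theorem F455478 : act 4 n188957 = n100196 := (sb E103964 (iv4 D192463))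
theorem F455479 : act 6 n188957 = n200816 := (sb E103964 (iv6 F418034))
def n209945 : Q := act 4 n137133
theorem D209945 : act 4 n137133 = n209945 := rfl
theorem F455480 : act 1 n209945 = n206382 := d18_6 (iv1 D64439) F48772 D30356 D64468 D137133 D209945 (iv4 D206382) F220921 (iv5 D137080)
def n209946 : Q := act 6 n137137
theorem D209946 : act 6 n137137 = n209946 := rfl
theorem F455481 : act 2 n209946 = n206504 := d3_1 D209946 F441120 (iv2 F220903)
theorem F455482 : act 3 n209946 = n205589 := d7_1 D209946 (iv6 D205589) F220916
theorem F455483 : act 4 n209946 = n137138 := d10_1 D209946 (iv6 D137138) D137137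
theorem F455484 : act 7 n209946 = n206422 := d14_2 F333064 D209946 (iv6 D206422) F339371 D128718
theorem F455485 : act 5 n209946 = n207541 := d21_6 (iv5 F367308) (iv1 F399141) (iv5 D196035) (iv6 F391974) (iv1 F391975) D209946 (iv1 D207541) (iv5 D131950) (iv6 D61911) D61907
theorem F455486 : act 6 n200559 = n209214 := d12_2 (iv6 D209946) (iv5 F416967) (iv5 D209214) (iv6 F445361) (iv5 F455485)
theorem F455487 : act 0 n191620 = n209946 := d17_2 (iv1 D191619) D191620 F455485 F445360 (iv5 F390892) (iv0 F390894) F157128 D186743 (iv4 F384039)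
theorem F455488 : act 1 n206488 = n209946 := d18_8 (iv1 D207541) (iv4 F445244) F445246 F395964 D195172 (iv4 F441002) (iv0 F441004) (iv4 F441051) F455485
def n209947 : Q := act 4 n137144
theorem D209947 : act 4 n137144 = n209947 := rfl
theorem F455489 : act 0 n209947 = n206382 := d18_2 F386004 D209947 (iv4 D206382) (iv5 D128526) F94996 D63965 (iv4 F181789) (iv0 F333110) D192209
def n209948 : Q := act 5 n137145
theorem D209948 : act 5 n137145 = n209948 := rfl
theorem F455490 : act 3 n209948 = n144166 := d6_1 D209948 (iv5 D144166) (iv3 F220330)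
theorem F455491 : act 4 n209948 = n190868 := d16_2 (iv4 F220331) D209948 (iv5 F389270) F389269 (iv5 F389710) F389709 (iv5 F385644) F385647 F365270
def n209949 : Q := act 5 n137152
theorem D209949 : act 5 n137152 = n209949 := rfl
theorem F455492 : act 2 n209949 = n137170 := d2_1 D209949 (iv5 D137170) (iv2 F220332)
theorem F455493 : act 3 n209949 = n205332 := d6_1 D209949 F435949 (iv3 F398034)
theorem F455494 : act 6 n209949 = n205329 := d12_2 F384092 D209949 (iv5 D205329) (iv6 F359811) (iv5 F384088)
theorem F455495 : act 1 n209949 = n200562 := d17_6 D64656 F220886 (iv1 F99440) D64476 D137152 D209949 F416983 (iv0 D137554) (iv4 D64658)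
def n209950 : Q := act 5 n137153
theorem D209950 : act 5 n137153 = n209950 := rfl
theorem F455496 : act 2 n209950 = n137174 := d2_1 D209950 (iv5 D137174) (iv2 F220333)
theorem F455497 : act 6 n209950 = n137156 := d12_2 D137153 D209950 (iv5 D137156) (iv6 D64477) D64476
theorem F455498 : act 7 n209950 = n192906 := d13_2 F346642 D209950 F388174
theorem F455499 : act 4 n209950 = n199173 := d16_2 (iv4 F384090) D209950 F411005 (iv4 F438542) F438543 (iv4 F416652) F416651 (iv7 F384087) (iv2 F384091)
theorem F455500 : act 0 n209950 = n191980 := d17_2 (iv1 F352447) D209950 F385080 F352517 (iv5 D113476) F173410 D52394 F161559 (iv4 F352437)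
theorem F455501 : act 0 n192907 = n209950 := d19_0 (iv5 D209950) F384090 (iv3 F384089) F359803 F93396 (iv4 F161096) (iv3 D105179) F76493 D51931 F81993 F319638 (iv1 F319636) (iv5 F225648) D198706 (iv3 F416696) (iv1 F416698) D205330 (iv4 F448799) F448798
def n209951 : Q := act 2 n137159
theorem D209951 : act 2 n137159 = n209951 := rfl
theorem F455502 : act 3 n209951 = n142992 := d0_2 D137159 D209951 F225837 (iv3 F225339) F225338
theorem F455503 : act 4 n209951 = n195170 := d1_2 (iv4 F221306) D209951 F396078
theorem F455504 : act 5 n209951 = n137512 := d2_2 (iv5 F221251) D209951 (iv2 D137512)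
theorem F455505 : act 7 n209951 = n143066 := d4_2 (iv7 F345440) D209951 F345438
theorem F455506 : act 1 n209951 = n205524 := d15_0 F436833 (iv7 F345440) D209951
theorem F455507 : act 1 n205527 = n209951 := d15_0 F455506 F436832 (iv2 F436845)
def n209952 : Q := act 5 n137168
theorem D209952 : act 5 n137168 = n209952 := rfl
theorem F455508 : act 3 n209952 = n205305 := d6_1 D209952 (iv5 F435872) F418044
theorem F455509 : act 6 n209952 = n205304 := d12_2 (iv6 F383840) D209952 F435870 (iv6 D180673) D180672
theorem F455510 : act 1 n209952 = n137556 := d17_6 (iv1 D192212) (iv5 D99858) D99856 (iv5 F383836) (iv4 F383838) D209952 (iv5 D137556) D137555 F386022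
def n209953 : Q := act 0 n137170
theorem D209953 : act 0 n137170 = n209953 := rfl
theorem F455511 : act 5 n209953 = n194070 := d17_3 (iv1 D137169) D137170 D209953 (iv4 D194070) (iv5 F364746) (iv0 F452680) F452678 F399729 F367711
theorem F455512 : act 7 n200562 = n209953 := d13_0 F455511 F391960 (iv5 F416983)
theorem F455513 : act 3 n209953 = n200568 := d8_1 F455512 (iv7 D200568) (iv3 F416971)
theorem F455514 : act 6 n209953 = n200561 := d14_1 F455512 (iv7 D200561) (iv6 D113230) D113231 D200562
def n209954 : Q := act 1 n137170
theorem D209954 : act 1 n137170 = n209954 := rfl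
theorem F455515 : act 5 n209954 = n194068 := d17_7 (iv1 F220920) (iv5 D64474) (iv1 D30357) D30359 D64480 D137170 D209954 F391953 (iv4 D137538)
theorem F455516 : act 3 n205183 = n209954 := d19_19 (iv1 D209954) (iv5 D137170) (iv4 D64480) F48795 (iv1 F48748) F48749 (iv4 F38870) F38868 D24860 (iv5 F49249) F49250 (iv3 F39234) (iv1 F37958) (iv5 F39713) (iv4 F79532) D108693 D197824 F405907 D205183
theorem F455517 : act 6 n200537 = n209954 := d21_9 (iv5 D137170) D137168 D209952 F455509 F436115 (iv6 D200541) (iv5 D113220) D113217 D200537 (iv1 D209954)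
theorem F455518 : act 2 n209954 = n200562 := d3_1 F455517 (iv6 D200562) (iv2 F416922)
def n209955 : Q := act 4 n137170
theorem D209955 : act 4 n137170 = n209955 := rfl
def n209956 : Q := act 6 n137170
theorem D209956 : act 6 n137170 = n209956 := rfl
theorem F455519 : act 2 n209956 = n205329 := d3_1 D209956 (iv6 F455494) F455492
theorem F455520 : act 3 n209956 = n199727 := d7_1 D209956 (iv6 F438904) F438903
theorem F455521 : act 5 n209956 = n199726 := d12_1 D209956 F413271 F397860 (iv6 D137171) D137170
theorem F455522 : act 0 n209956 = n205182 := d21_10 F435332 (iv1 F416833) (iv5 F435965) F435966 F416928 D205214 F435467 (iv1 D137169) D137170 D209956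
def n209957 : Q := act 4 n137174
theorem D209957 : act 4 n137174 = n209957 := rfl
theorem F455523 : act 2 n209957 = n199173 := d1_1 D209957 (iv4 F455499) F455496
theorem F455524 : act 6 n209957 = n137188 := d10_2 (iv6 F220344) D209957 (iv4 D137188)
theorem F455525 : act 0 n209957 = n192913 := d17_0 F388198 F401976 (iv5 F400228) (iv4 D192509) (iv5 F380045) (iv0 F380046) F352526 F352527 D209957
def n209958 : Q := act 7 n137174
theorem D209958 : act 7 n137174 = n209958 := rfl
theorem F455526 : act 2 n209958 = n192906 := d4_1 D209958 (iv7 F455498) F455496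
theorem F455527 : act 3 n209958 = n137203 := d8_1 D209958 (iv7 D137203) (iv3 F220343)
theorem F455528 : act 5 n209958 = n137175 := d13_1 D209958 (iv7 D137175) D137174
theorem F455529 : act 1 n192907 = n209958 := d15_1 (iv0 F455501) (iv7 D209958) (iv2 F455496)
theorem F455530 : act 1 n209958 = n191980 := d15_1 F455529 (iv7 F417982) F417980
def n209959 : Q := act 2 n137177
theorem D209959 : act 2 n137177 = n209959 := rfl
theorem F455531 : act 3 n209959 = n202599 := d0_2 D137177 D209959 F428150 (iv3 F428151) F352858
theorem F455532 : act 4 n209959 = n196966 := d1_2 F360844 D209959 F402462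
theorem F455533 : act 5 n209959 = n199364 := d2_2 F411494 D209959 F411864
def n209960 : Q := act 5 n137178
theorem D209960 : act 5 n137178 = n209960 := rfl
theorem F455534 : act 2 n209960 = n198410 := d2_1 D209960 (iv5 F425807) F425806
theorem F455535 : act 3 n209960 = n196982 := d6_1 D209960 (iv5 D196982) (iv3 F360843)
theorem F455536 : act 6 n209960 = n160820 := d12_2 F349521 D209960 (iv5 D160820) F298326 (iv5 F276243)
theorem F455537 : act 4 n209960 = n174908 := d16_6 (iv4 F401814) (iv5 F405133) F405132 (iv5 D137179) D137178 D209960 F333031 (iv7 F425109) F425106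
theorem F455538 : act 0 n173824 = n209960 := d19_0 (iv5 D209960) (iv4 D137178) D137177 F389479 F389478 F388861 (iv3 F416592) (iv1 F423108) F423105 (iv4 D174136) (iv3 D83244) (iv1 D38314) (iv5 D18293) F13540 (iv3 F13535) D18276 D38262 D83121 D173824
def n209961 : Q := act 5 n137182
theorem D209961 : act 5 n137182 = n209961 := rfl
theorem F455539 : act 3 n209961 = n137184 := d6_1 D209961 (iv5 D137184) D137182
theorem F455540 : act 4 n209961 = n157634 := d17_4 (iv1 F388246) (iv5 F408896) (iv1 F408895) D209961 (iv5 D157634) (iv0 F196515) F301780 (iv0 F338922) D191744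
theorem F455541 : act 6 n209961 = n194037 := d21_3 (iv5 F408896) (iv1 F408895) D209961 F391832 (iv6 F391784) (iv5 F391781) (iv1 F387047) (iv5 D192553) (iv6 F384327) (iv1 F388246)
def n209962 : Q := act 4 n137186
theorem D209962 : act 4 n137186 = n209962 := rfl
theorem F455542 : act 2 n209962 = n188959 := d1_1 D209962 F375258 F346638
theorem F455543 : act 3 n209962 = n205443 := d5_1 D209962 (iv4 D205443) D205442 F436448 F346648
theorem F455544 : act 6 n209962 = n189062 := d10_2 F346650 D209962 F375626
theorem F455545 : act 7 n209962 = n188661 := d11_2 (iv7 F346647) D209962 F374340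
theorem F455546 : act 5 n209962 = n198229 := d16_1 D209962 (iv4 D198229) (iv5 D109057) (iv4 F169052) (iv5 F385723) F385722 F153570 D100972 F346638
theorem F455547 : act 0 n209962 = n188958 := d18_2 D137186 D209962 F424174 D192468 (iv4 F390851) (iv0 F390852) (iv4 D137178) (iv0 D64482) D64484
theorem F455548 : act 0 n188957 = n209962 := d20_7 F388861 F333974 (iv4 F328900) F328899 D155603 F390039 (iv4 F455478) (iv4 D209962) (iv3 F346648) (iv1 F388857)
def n209963 : Q := act 3 n137188
theorem D209963 : act 3 n137188 = n209963 := rfl
theorem F455549 : act 4 n209963 = n137229 := d5_2 D137188 D209963 (iv3 D137229) (iv4 D64498) (iv3 F100422)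
theorem F455550 : act 5 n209963 = n193495 := d6_2 (iv5 F402517) D209963 (iv3 F402516)
theorem F455551 : act 0 n192936 = n209963 := d17_2 F391231 D192936 F455550 (iv4 D193495) (iv5 D101832) (iv0 F153571) F153570 D100971 D192927
theorem E103965 : n198228 = n137229 := ((c18_2 F455551 F455549 (iv1 D198228) D198229 (iv5 F455546) (iv4 D209962) (iv0 D137186) D137188 F391234 D192936)).symm
theorem F455552 : act 0 n137229 = n109057 := (sb E103965 (iv1 D198228))
def n209964 : Q := act 6 n137189
theorem D209964 : act 6 n137189 = n209964 := rfl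
theorem F455553 : act 2 n209964 = n192928 := d3_1 D209964 (iv6 D192928) F346636
theorem F455554 : act 3 n209964 = n137232 := d7_1 D209964 (iv6 D137232) (iv3 F220348)
theorem F455555 : act 0 n192951 = n209964 := d21_4 D208229 F448482 (iv5 D192950) D192951 (iv6 D209964) F220349 (iv1 F352857) (iv5 F390051) F390052 F390054
def n209965 : Q := act 0 n137193
theorem D209965 : act 0 n137193 = n209965 := rfl
theorem F455556 : act 5 n209965 = n206775 := d17_3 D64486 D137193 D209965 F442145 (iv5 F359109) F359107 F93811 (iv0 F336109) F94022
theorem F455557 : act 4 n209965 = n196676 := d18_1 D209965 (iv1 D196676) F165219 F362701 (iv4 F362700) F203836 (iv4 F336105) F218845 D137193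
theorem F455558 : act 2 n192506 = n209965 := d15_3 (iv0 D209965) (iv0 F411140) (iv7 F386873)
theorem F455559 : act 1 n137198 = n209965 := d15_0 (iv0 D209965) (iv7 F452870) F452867
theorem F455560 : act 7 n209965 = n199191 := d15_2 (iv0 F386817) F455559 F411101
theorem F455561 : act 3 n141288 = n209965 := d19_19 (iv1 F455559) (iv5 D137198) D137197 F364306 (iv1 D126738) (iv5 D59465) (iv4 F93824) (iv3 D59437) F45679 D30720 (iv4 F80321) (iv3 F170769) (iv1 F344623) F354122 (iv4 F414601) F414606 (iv1 F413146) D199700 (iv4 F413196)
theorem F455562 : act 6 n199228 = n209965 := d21_9 (iv5 D137198) (iv1 D64487) D64488 F100424 D64496 D137223 (iv5 F453787) F453789 (iv5 F411246) (iv1 F455559)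
def n209966 : Q := act 4 n137198
theorem D209966 : act 4 n137198 = n209966 := rfl
theorem F455563 : act 2 n209966 = n196759 := d1_1 D209966 (iv4 F452872) F452867
theorem F455564 : act 7 n209966 = n196313 := d11_2 F452861 D209966 (iv4 F452862)
theorem F455565 : act 0 n209966 = n195920 := d20_1 D209966 (iv4 F410451) F410450 (iv1 D194701) (iv3 F394141) F394142 F413168 (iv4 F413196) F455561 (iv1 F455559)
theorem F455566 : act 3 n209966 = n196320 := d20_3 (iv4 F455557) (iv1 F455559) D209966 (iv1 F422459) F422455 (iv4 F409958) (iv1 F409961) (iv4 F401434) F401433 (iv1 F401454)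
theorem F455567 : act 5 n196314 = n209966 := d6_0 F455566 F400313 (iv3 F400298)
theorem F455568 : act 6 n209966 = n174584 := d12_2 (iv6 F400299) F455567 (iv5 F392154) (iv6 F381846) (iv5 F381483)
def n209967 : Q := act 6 n137198
theorem D209967 : act 6 n137198 = n209967 := rfl
theorem F455569 : act 2 n209967 = n191441 := d3_1 D209967 (iv6 F452869) F452867
theorem F455570 : act 4 n209967 = n174584 := d10_1 D209967 (iv6 F455568) (iv4 D209966)
theorem F455571 : act 5 n209967 = n191420 := d12_1 D209967 F449751 (iv5 D208530) F394433 D137198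
theorem F455572 : act 7 n209967 = n191967 := d14_2 F452861 D209967 (iv6 D191967) (iv7 F368630) (iv6 F452860)
theorem F455573 : act 0 n209967 = n192521 := d21_4 F452891 (iv1 F218844) D137198 D209967 F390026 F390023 F321080 F241764 (iv6 F390012) (iv1 F452893)
def n209968 : Q := act 4 n137200
theorem D209968 : act 4 n137200 = n209968 := rfl
theorem F455574 : act 1 n209968 = n209288 := d18_6 F442161 F442158 F442079 (iv4 F395904) F395905 D209968 (iv4 D209288) D209287 (iv5 F453051)
def n209969 : Q := act 4 n137201
theorem D209969 : act 4 n137201 = n209969 := rfl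
theorem F455575 : act 3 n209969 = n199822 := d5_1 D209969 (iv4 F453022) F453021 (iv4 F448937) F448936
theorem F455576 : act 6 n209969 = n199821 := d10_2 (iv6 F448934) D209969 (iv4 F448932)
theorem F455577 : act 5 n209969 = n208345 := d16_1 D209969 F449002 (iv5 F454874) F454873 (iv5 F374852) (iv4 F395904) F395905 (iv7 F452881) F452885
theorem F455578 : act 0 n209969 = n209288 := d18_2 (iv1 F452892) D209969 (iv4 D209288) (iv5 D136227) (iv4 F203709) F362712 (iv4 D137197) F218844 (iv5 F452891)
def n209970 : Q := act 0 n137202
theorem D209970 : act 0 n137202 = n209970 := rfl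
theorem F455579 : act 4 n209970 = n138113 := d18_3 (iv1 D137201) D137202 D209970 (iv5 F438179) (iv4 D205863) F325877 D141792 (iv0 F438289) F220622
theorem F455580 : act 2 n145425 = n209970 := d15_3 (iv0 D209970) (iv0 F408545) (iv7 F228451)
theorem F455581 : act 6 n209970 = n145423 := d3_2 D145425 F455580 (iv2 D145423)
def n209971 : Q := act 3 n137202
theorem D209971 : act 3 n137202 = n209971 := rfl
theorem F455582 : act 6 n209971 = n137229 := d7_2 (iv6 F220352) D209971 (iv3 D137229)
def n209972 : Q := act 5 n137202
theorem D209972 : act 5 n137202 = n209972 := rfl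
theorem F455583 : act 6 n209972 = n194830 := d12_2 (iv6 F220352) D209972 (iv5 D194830) (iv6 F340597) (iv5 D137230)
theorem F455584 : act 0 n209972 = n199212 := d17_2 F408545 D209972 (iv5 D199212) F386813 (iv5 D138022) (iv0 F362696) D64892 D138114 F329404
theorem F455585 : act 1 n209972 = n196678 := d17_6 (iv1 F455559) (iv5 D137198) (iv1 D64487) D64488 D137202 D209972 (iv5 D196678) D196676 (iv4 F455557)
def n209973 : Q := act 7 n137202
theorem D209973 : act 7 n137202 = n209973 := rfl
theorem F455586 : act 4 n209973 = n137203 := d11_1 D209973 (iv7 D137203) D137202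
theorem F455587 : act 0 n145425 = n209973 := d18_2 (iv1 F442719) F442717 F455586 F220353 (iv4 F338720) F203838 (iv4 F360526) (iv0 D136225) D136227
def n209974 : Q := act 6 n137203
theorem D209974 : act 6 n137203 = n209974 := rfl
theorem F455588 : act 7 n209974 = n137232 := d14_2 D137203 D209974 (iv6 D137232) (iv7 D64499) (iv6 F100424)
theorem F455589 : act 0 n209974 = n139937 := d21_4 (iv5 D209243) (iv1 F218843) (iv5 F220353) D209974 (iv6 D139937) D139936 (iv1 F411100) (iv5 D199190) D199191 F452865
def n209975 : Q := act 6 n137212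
theorem D209975 : act 6 n137212 = n209975 := rfl
theorem F455590 : act 3 n209975 = n191931 := d7_1 D209975 (iv6 F390067) F390065
theorem F455591 : act 4 n209975 = n199254 := d10_1 D209975 (iv6 D199254) F361562
theorem F455592 : act 7 n209975 = n192521 := d14_2 F221465 D209975 F390026 (iv7 D193486) (iv6 F357624)
theorem F455593 : act 0 n209975 = n191441 := d21_4 (iv5 F452493) F452492 (iv5 F220762) D209975 (iv6 F452869) (iv5 D209244) (iv1 D136011) D136012 F218840 D136019
theorem F455594 : act 0 n191967 = n209975 := d21_4 F375603 (iv1 F153156) D99431 D191967 (iv6 D209975) F220762 (iv1 D137598) F218861 (iv6 F344242) (iv1 F375605)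
def n209976 : Q := act 4 n137216
theorem D209976 : act 4 n137216 = n209976 := rfl
theorem F455595 : act 3 n209976 = n192909 := d20_3 (iv4 F452899) (iv1 F452903) D209976 F388180 (iv3 F401282) F401283 (iv1 F331845) (iv4 F411116) F411115 (iv1 F402573)
theorem F455596 : act 5 n192908 = n209976 := d6_0 F455595 (iv5 D192909) D192908
def n209977 : Q := act 5 n137216
theorem D209977 : act 5 n137216 = n209977 := rfl
theorem F455597 : act 3 n209977 = n193133 := d6_1 D209977 (iv5 F389478) (iv3 F453666)
theorem F455598 : act 7 n209977 = n202392 := d13_2 (iv7 F453663) D209977 (iv5 F452718)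
theorem F455599 : act 4 n209977 = n202395 := d17_4 F411809 (iv5 F452900) (iv1 F452903) D209977 (iv5 F452220) F452216 F423485 F423079 (iv4 F411711)
theorem F455600 : act 0 n209977 = n137224 := d21_7 (iv5 D101375) (iv1 F290168) (iv5 F388768) (iv6 F388771) F389477 F453665 D209977 (iv5 F452973) (iv6 D209268) (iv1 F365616)
def n209978 : Q := act 1 n137218
theorem D209978 : act 1 n137218 = n209978 := rfl
theorem F455601 : act 1 n209978 = n199349 := d15_1 D209978 (iv7 F423525) F423522
theorem F455602 : act 3 n154149 = n209978 := d19_19 (iv1 D209978) (iv5 D137218) (iv4 F104330) (iv3 D68180) F82148 D49503 D107152 F331785 (iv1 F100371) (iv5 F220262) (iv4 F455427) F455426 (iv1 D198085) (iv5 F365216) F257224 (iv3 F193074) (iv1 F193078) D162819 (iv4 F331988)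
theorem F455603 : act 6 n154146 = n209978 := d21_3 F388796 F345826 D154146 (iv1 D209978) (iv6 F361556) (iv5 F410339) (iv1 D199017) (iv5 D110848) D110849 (iv1 F388794)
theorem F455604 : act 2 n209978 = n139303 := d3_1 F455603 (iv6 F431211) F431205
def n209979 : Q := act 2 n137221
theorem D209979 : act 2 n137221 = n209979 := rfl
theorem F455605 : act 4 n209979 = n138412 := d1_2 (iv4 F360988) D209979 F315885
theorem F455606 : act 6 n209979 = n138410 := d3_2 F360989 D209979 F315880
theorem F455607 : act 7 n209979 = n140115 := d4_2 (iv7 F360987) D209979 F366163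
def n209980 : Q := act 0 n137222
theorem D209980 : act 0 n137222 = n209980 := rfl
theorem F455608 : act 5 n209980 = n197999 := d17_1 D209980 F433694 F433692 (iv4 D137219) (iv5 D64495) F99494 (iv5 F218864) F218867 D137222
theorem F455609 : act 4 n209980 = n198686 := d18_3 D64496 D137222 D209980 (iv5 D198686) (iv4 F169751) F100428 (iv4 D64491) (iv0 D30362) D30364
theorem F455610 : act 1 n137225 = n209980 := d15_0 (iv0 D209980) (iv7 F452920) F452916
theorem F455611 : act 3 n197749 = n209980 := d20_9 (iv4 D137225) (iv1 D64497) D64498 D137229 F455552 F169055 D109071 D198236 F407304 (iv1 F455610)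
theorem F455612 : act 7 n209980 = n198146 := d8_2 F405622 F455611 (iv3 D198146)
def n209981 : Q := act 1 n137222
theorem D209981 : act 1 n137222 = n209981 := rfl
theorem F455613 : act 1 n209981 = n137225 := d15_1 D209981 (iv7 F452909) F452908
theorem F455614 : act 4 n209981 = n197992 := d18_7 (iv1 F220384) (iv4 F434965) F434968 F403927 (iv5 F219609) D137222 D209981 F406427 (iv5 D137627)
theorem F455615 : act 5 n209981 = n198673 := d18_9 (iv1 F453093) (iv4 D209297) F219317 D137266 (iv5 F452941) F452940 F218867 D137222 D209981
theorem F455616 : act 2 n198146 = n209981 := d2_3 F455615 F408821 (iv5 F406981)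
theorem F455617 : act 6 n209288 = n209981 := d21_5 (iv5 D198173) (iv1 F359291) D199821 (iv6 F455576) F455578 F455615 (iv1 F453093) F453091 F361561 F407103
def n209982 : Q := act 5 n137222
theorem D209982 : act 5 n137222 = n209982 := rfl
theorem F455618 : act 2 n209982 = n160389 := d2_1 D209982 (iv5 F452910) F452908
theorem F455619 : act 3 n209982 = n167690 := d6_1 D209982 (iv5 D167690) (iv3 F360991)
theorem F455620 : act 4 n209982 = n137259 := d9_1 D209982 (iv5 D137259) F173557 (iv5 F221062) F221061 F219000 D137225 (iv5 F354543) F268461 F354532 D137255 (iv5 F403930) F403927 (iv5 F219609) D137222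
theorem F455621 : act 7 n209982 = n198137 := d13_2 F452920 D209982 (iv5 F452918)
theorem F455622 : act 1 n209982 = n198138 := d17_8 F408603 F408601 F173579 (iv5 F169726) (iv4 F406453) (iv5 F455608) (iv0 D209980) D209982 (iv4 F408533)
theorem F455623 : act 6 n209982 = n140386 := d21_9 D140388 F405380 F405379 F362624 (iv1 F406555) (iv6 F408822) (iv5 F455615) (iv1 D209981) D209982 (iv1 D140386)
theorem F455624 : act 0 n209982 = n197747 := d21_4 (iv5 F406917) (iv1 F406921) (iv5 F406779) (iv6 F455623) F405613 (iv5 F406263) F449453 F198787 (iv6 F326453) (iv1 F223543)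
def n209983 : Q := act 6 n137222
theorem D209983 : act 6 n137222 = n209983 := rfl
theorem F455625 : act 3 n209983 = n157161 := d7_1 D209983 F361907 (iv3 F360991)
theorem F455626 : act 4 n209983 = n137223 := d10_1 D209983 (iv6 D137223) D137222
theorem F455627 : act 7 n209983 = n206256 := d14_2 F452920 D209983 F439949 (iv7 F385032) (iv6 F452919)
def n209984 : Q := act 0 n137223
theorem D209984 : act 0 n137223 = n209984 := rfl
theorem F455628 : act 4 n209984 = n194552 := d20_8 (iv4 D48044) D48042 D103757 F361901 (iv1 F361904) (iv3 F455625) F455626 D209984 (iv3 D194552) (iv1 D103765)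
theorem F455629 : act 3 n192883 = n209984 := d20_5 F100771 (iv1 F80856) D111137 (iv3 F390208) (iv1 F390213) F455628 F406875 (iv4 F411395) (iv3 D199269) (iv1 F172350)
def n209985 : Q := act 1 n137223
theorem D209985 : act 1 n137223 = n209985 := rfl
theorem F455630 : act 1 n209985 = n191970 := d15_1 D209985 (iv7 F452915) F452913
theorem F455631 : act 3 n188685 = n209985 := d20_3 (iv4 F154149) D192482 F386782 (iv1 D209985) F360990 (iv4 D150624) F312929 (iv4 F221508) (iv3 F375624) (iv1 D100206)
theorem F455632 : act 7 n209985 = n189069 := d8_2 (iv7 F378698) F455631 (iv3 D189069)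
theorem F455633 : act 2 n189069 = n209984 := d15_3 (iv0 D209984) D209985 F455632
def n209986 : Q := act 7 n137223
theorem D209986 : act 7 n137223 = n209986 := rfl
theorem F455634 : act 2 n209986 = n191970 := d4_1 D209986 (iv7 F452915) F452913
theorem F455635 : act 3 n209986 = n138405 := d8_1 D209986 F315870 (iv3 F360990)
theorem F455636 : act 4 n209986 = n206256 := d11_1 D209986 (iv7 F455627) F455626
theorem F455637 : act 5 n209986 = n188261 := d13_1 D209986 (iv7 F453788) F453787
theorem F455638 : act 6 n209986 = n140093 := d14_1 D209986 (iv7 F349210) F344242 (iv7 F219004) D137223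
theorem F455639 : act 1 n191970 = n209984 := d15_0 (iv0 D209984) D209986 F455634
theorem F455640 : act 0 n189069 = n209986 := d20_4 (iv4 F386785) (iv1 F386786) (iv4 D189070) D189069 F455635 (iv4 D138405) F313396 D150685 F384858 (iv1 F384852)
theorem F455641 : act 1 n189069 = n209254 := d15_1 (iv0 F455640) F452915 (iv2 F455634)
def n209987 : Q := act 2 n137224
theorem D209987 : act 2 n137224 = n209987 := rfl
theorem F455642 : act 3 n209987 = n140115 := d0_2 D137224 D209987 F366163 F360984 (iv2 F219001)
theorem F455643 : act 5 n209987 = n193225 := d2_2 F452973 D209987 (iv2 F452971)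
theorem F455644 : act 6 n209987 = n140113 := d3_2 (iv6 F363689) D209987 F363687
theorem F455645 : act 0 n209987 = n202392 := d21_4 F362388 D192792 F387797 (iv6 F455644) (iv6 D202392) D202391 F452856 F452857 (iv6 D193119) (iv1 F359970)
def n209988 : Q := act 4 n137224
theorem D209988 : act 4 n137224 = n209988 := rfl
theorem F455646 : act 6 n209988 = n193123 := d10_2 (iv6 F363689) D209988 (iv4 D193123)
theorem F455647 : act 0 n204799 = n209988 := d20_10 (iv4 D209988) F454733 F454732 F423844 (iv1 F422915) (iv3 D124386) (iv4 D57985) D57983 D124379 D204799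
theorem F455648 : act 5 n209988 = n202066 := d21_2 F433628 F455647 (iv6 D202066) (iv1 D115353) (iv6 D53214) D53213 D115348 F336248 D115453 D202202
def n209989 : Q := act 6 n137225
theorem D209989 : act 6 n137225 = n209989 := rfl
theorem F455649 : act 2 n209989 = n191968 := d3_1 D209989 (iv6 F452919) F452916
theorem F455650 : act 3 n209989 = n206344 := d7_1 D209989 F440341 (iv3 F354544)
theorem F455651 : act 4 n209989 = n137226 := d10_1 D209989 (iv6 D137226) D137225
theorem F455652 : act 7 n191969 = n209989 := d11_0 F455651 (iv7 F344244) D191969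
theorem F455653 : act 0 n192962 = n209989 := d18_2 F328891 D192962 F455651 F357587 D189041 F375547 F368028 F343890 (iv5 F328894)
theorem F455654 : act 1 n189163 = n209989 := d18_6 D99422 (iv4 F153143) (iv1 F74326) (iv4 F68581) D93321 D189163 F455651 F357578 (iv5 D99424)
def n209990 : Q := act 3 n137227
theorem D209990 : act 3 n137227 = n209990 := rfl
theorem F455655 : act 0 n209990 = n176987 := d20_4 (iv4 F406985) D205940 (iv4 F438501) D209990 (iv3 D176987) (iv4 D84354) (iv1 F297849) (iv4 F263964) (iv3 F452917) F452921
theorem F455656 : act 4 n193102 = n209990 := d19_2 (iv1 F242108) D193102 (iv3 D209990) (iv1 F452943) F452941 (iv4 D137266) (iv3 F220404) (iv1 F395134) (iv5 F453145) F453144 (iv3 F358229) F297571 (iv5 D177332) (iv4 D84480) (iv3 F299839) F299838 (iv5 D27673) D27672 D58019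
theorem F455657 : act 6 n209990 = n193105 := d10_2 (iv6 F388752) F455656 (iv4 D193105)
def n209991 : Q := act 5 n137227
theorem D209991 : act 5 n137227 = n209991 := rfl
theorem F455658 : act 2 n209991 = n197793 := d2_1 D209991 (iv5 F452922) F452928
theorem F455659 : act 4 n209991 = n137253 := d16_4 (iv4 F219618) (iv5 F438498) (iv4 F438501) D209991 (iv5 D137253) (iv4 D64510) (iv5 F99575) (iv7 F173573) F173570
theorem F455660 : act 0 n209991 = n198682 := d17_2 D137227 D209991 F410787 F410785 (iv5 D198678) F219611 (iv5 F219609) (iv0 D64496) D64498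
theorem F455661 : act 1 n209991 = n198223 := d17_6 (iv1 F221409) (iv5 D138228) F221405 (iv5 F438498) (iv4 F438501) D209991 (iv5 F410776) (iv0 D199126) (iv4 F338260)
theorem F455662 : act 6 n209991 = n197791 := d21_3 (iv5 D137230) D137227 D209991 (iv1 F405811) F395312 (iv5 D125507) (iv1 D58755) D58757 (iv6 F172317) F361570
def n209992 : Q := act 6 n137227
theorem D209992 : act 6 n137227 = n209992 := rfl
theorem F455663 : act 2 n209992 = n196407 := d3_1 D209992 F452924 F452928
theorem F455664 : act 3 n209992 = n193105 := d7_1 D209992 (iv6 F455657) (iv3 D209990)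
theorem F455665 : act 0 n209992 = n194552 := d21_4 F410776 (iv1 F455661) (iv5 D209991) D209992 (iv6 F406876) (iv5 F400841) (iv1 D196495) F164974 D110962 D199126
def n209993 : Q := act 5 n137228
theorem D209993 : act 5 n137228 = n209993 := rfl
theorem F455666 : act 3 n209993 = n196578 := d6_1 D209993 (iv5 D196578) (iv3 F364415)
theorem F455667 : act 4 n209993 = n137251 := d9_1 D209993 (iv5 D137251) (iv4 D64507) (iv5 F99890) (iv4 F219618) (iv5 F438498) (iv4 F438501) D209991 F455659 (iv5 D137253) (iv4 D64510) (iv5 F99575) (iv4 F219027) (iv5 F335551) F364414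
theorem F455668 : act 7 n209993 = n197793 := d13_2 F452927 D209993 (iv5 F452922)
theorem F455669 : act 0 n209993 = n198223 := d17_2 (iv1 F452942) D209993 (iv5 F410776) F410778 (iv5 D138270) F219299 F219000 F218866 (iv4 F452940)
theorem F455670 : act 1 n209993 = n198682 := d17_6 D198687 (iv5 F452983) (iv1 D209270) (iv5 F335551) F364414 D209993 F410787 F410783 (iv4 F338273)
def n209994 : Q := act 1 n137229
theorem D209994 : act 1 n137229 = n209994 := rfl
theorem F455671 : act 7 n209994 = n177280 := d15_2 (iv0 F455552) D209994 (iv2 F365121)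
theorem F455672 : act 3 n151156 = n209994 := d20_3 F299634 (iv1 F310145) (iv4 F237835) (iv1 D209994) (iv3 D137229) (iv4 D64498) D64496 D137222 F360991 D167687
theorem F455673 : act 2 n209994 = n198230 := d0_1 F455672 F407281 (iv2 F331106) F241635 (iv2 F237834)
theorem F455674 : act 4 n209994 = n154688 := d5_2 (iv4 F237835) F455672 F242848 F110059 (iv3 F107723)
theorem F455675 : act 6 n209994 = n151154 := d7_2 D151156 F455672 (iv3 D151154)
theorem F455676 : act 5 n209994 = n198210 := d21_6 (iv5 D100136) D100133 D192383 (iv6 F386617) F366085 (iv6 F455675) (iv1 F407236) D198225 (iv6 F407274) (iv1 D192388)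
theorem F455677 : act 1 n209994 = n198227 := d15_0 (iv0 D198227) D198230 (iv2 F455673)
def n209995 : Q := act 2 n137229
theorem D209995 : act 2 n137229 = n209995 := rfl
theorem F455678 : act 3 n209995 = n194594 := d0_2 D137229 D209995 (iv2 F452937) (iv3 D209258) F218862
theorem F455679 : act 7 n198227 = n209995 := d15_2 D209994 F455677 (iv2 D209995)
def n209996 : Q := act 5 n137229
theorem D209996 : act 5 n137229 = n209996 := rfl
theorem F455680 : act 3 n209996 = n137230 := d6_1 D209996 (iv5 D137230) D137229
theorem F455681 : act 4 n209996 = n194834 := d16_4 D193495 (iv5 F455550) F455549 D209996 F394663 F391457 (iv5 F386940) F386941 F385615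
theorem F455682 : act 6 n194829 = n209996 := d10_0 F455681 (iv6 D194834) (iv4 F394643)
theorem F455683 : act 0 n209996 = n199495 := d20_7 F79810 D50435 D109293 F394667 (iv1 D194835) (iv3 F394662) (iv4 F455681) F412389 (iv3 D198410) (iv1 D109290)
def n209997 : Q := act 7 n137229
theorem D209997 : act 7 n137229 = n209997 := rfl
theorem F455684 : act 2 n209997 = n198227 := d4_1 D209997 F455679 (iv2 D209995)
theorem F455685 : act 3 n209997 = n137231 := d8_1 D209997 (iv7 D137231) D137229
theorem F455686 : act 0 n177280 = n209997 := d20_4 (iv4 D153170) F310142 (iv4 F299162) D177280 F455685 F220376 (iv1 F218860) D209255 F452917 (iv1 F312398)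
theorem F455687 : act 0 n209997 = n198230 := d20_4 (iv4 D209253) (iv1 F218865) (iv4 F220376) (iv3 F455685) F407281 (iv4 F407312) (iv1 F407314) (iv4 D198147) D198146 (iv1 F452911)
theorem F455688 : act 1 n209995 = n198230 := d15_0 (iv0 F455687) (iv7 D209997) D209995
theorem F455689 : act 1 n177280 = n209995 := d15_0 F455688 (iv7 D198230) F365121
def n209998 : Q := act 0 n137232
theorem D209998 : act 0 n137232 = n209998 := rfl
def n209999 : Q := act 1 n137232
theorem D209999 : act 1 n137232 = n209999 := rfl
theorem F455690 : act 6 n139935 = n209999 := d21_3 D111084 (iv1 F411138) F411139 (iv1 D209999) (iv6 D137232) F100432 (iv1 F99489) D136018 F361541 F102247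
theorem F455691 : act 2 n209999 = n139937 := d3_1 F455690 (iv6 D139937) D139935
theorem F455692 : act 3 n209999 = n199015 := d7_1 F455690 (iv6 D199015) (iv3 F223165)
def n210000 : Q := act 0 n137233
theorem D210000 : act 0 n137233 = n210000 := rfl
theorem F455693 : act 3 n210000 = n193425 := d20_5 F99487 D107509 F165859 D137233 D210000 F389805 (iv1 D137110) F100387 F99485 D63953
theorem F455694 : act 6 n208158 = n210000 := d7_0 F455693 (iv6 F453401) F453403
def n210001 : Q := act 1 n137233
theorem D210001 : act 1 n137233 = n210001 := rfl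
theorem F455695 : act 3 n179166 = n210001 := d20_3 F431711 F385076 (iv4 F385078) (iv1 D210001) (iv3 D137233) (iv4 F165859) (iv1 F165861) (iv4 F99502) (iv3 F328878) D204259
theorem F455696 : act 6 n202983 = n210001 := d21_9 F424278 (iv1 D194705) (iv5 F381535) (iv6 D190913) (iv1 F292809) D104206 (iv5 F350038) (iv1 F350045) D202983 (iv1 D210001)
theorem F455697 : act 5 n210001 = n163005 := d12_1 F455696 F313851 D179158 F353933 D202983
theorem F455698 : act 0 n163005 = n204916 := d21_7 (iv5 F338929) F109846 D72433 (iv6 F240869) (iv1 F426496) F455696 F455697 F434155 F394283 F351802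
def n210002 : Q := act 2 n137233
theorem D210002 : act 2 n137233 = n210002 := rfl
theorem F455699 : act 4 n210002 = n206271 := d1_2 F402493 D210002 F440007
theorem F455700 : act 5 n210002 = n184338 := d2_2 (iv5 F424278) D210002 (iv2 F424283)
theorem F455701 : act 6 n210002 = n194725 := d3_2 F424275 D210002 (iv2 F424285)
def n210003 : Q := act 4 n137234
theorem D210003 : act 4 n137234 = n210003 := rfl
theorem F455702 : act 2 n210003 = n209980 := d1_1 D210003 F455609 F408866
theorem F455703 : act 5 n210003 = n198543 := d9_2 D137234 D210003 (iv4 D198543) (iv5 D109544) (iv4 F80295) F80296 (iv4 F93922) D126785 F406985 F406981 F408539 F408536 (iv4 F202142) F202144 F165859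
theorem F455704 : act 7 n210003 = n209981 := d11_2 F406426 D210003 F455614
theorem F455705 : act 0 n210003 = n209255 := d17_0 F452918 (iv1 D198137) D198139 F406968 (iv5 D138228) (iv0 F221404) (iv5 F335551) (iv0 F364413) D210003
theorem F455706 : act 1 n210003 = n209253 := d18_6 D63953 F99487 D107509 F165859 D137234 D210003 (iv4 D209253) (iv0 D136019) (iv5 D63955)
theorem F455707 : act 0 n202392 = n209252 := d20_4 (iv4 F336607) (iv1 F336618) (iv4 F388856) (iv3 F423854) (iv3 D209252) D209253 (iv1 F455706) (iv4 D210003) (iv3 F424280) (iv1 D194705)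
def n210004 : Q := act 6 n137234
theorem D210004 : act 6 n137234 = n210004 := rfl
theorem F455708 : act 2 n210004 = n202538 := d3_1 D210004 F424413 F408866
theorem F455709 : act 7 n210004 = n202539 := d14_2 F406426 D210004 (iv6 F453059) (iv7 D209289) (iv6 F406425)
theorem F455710 : act 0 n202537 = n210004 := d21_4 F359136 (iv1 F224264) F224262 D202537 (iv6 D210004) (iv5 D137234) (iv1 F100433) D64505 F338256 (iv1 F359134)
def n210005 : Q := act 6 n137237
theorem D210005 : act 6 n137237 = n210005 := rfl
theorem F455711 : act 2 n210005 = n137239 := d3_1 D210005 (iv6 D137239) D137237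
theorem F455712 : act 3 n210005 = n204095 := d7_1 D210005 F431069 (iv3 F353369)
theorem F455713 : act 4 n210005 = n141047 := d10_1 D210005 (iv6 D141047) (iv4 F220377)
theorem F455714 : act 5 n210005 = n202972 := d12_1 D210005 (iv6 F426448) F221514 D138606 (iv5 F353370)
theorem F455715 : act 7 n210005 = n151609 := d14_2 F353368 D210005 F353551 (iv7 F312277) (iv6 F353363)
theorem F455716 : act 1 n151611 = n210005 := d15_1 (iv0 F355800) F455715 F354837
theorem F455717 : act 0 n151432 = n210005 := d17_0 F455714 (iv1 F426447) (iv5 D137878) F102783 D127149 (iv0 F396384) (iv5 F434724) (iv0 F434727) F355807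
def n210006 : Q := act 4 n137238
theorem D210006 : act 4 n137238 = n210006 := rfl
theorem F455718 : act 2 n210006 = n202128 := d1_1 D210006 F422990 F353372
theorem F455719 : act 3 n210006 = n208943 := d5_1 D210006 F451495 F411271 (iv4 D137242) (iv3 F220378)
theorem F455720 : act 5 n210006 = n191894 := d9_2 D137238 D210006 (iv4 D191894) D191895 (iv4 F408902) (iv5 D198693) F353365 (iv5 D141171) (iv4 F218889) (iv5 F384730) (iv4 D191897) (iv5 F348381) (iv4 D141050) (iv5 D66150) (iv4 F100434)
theorem F455721 : act 6 n210006 = n202127 := d10_2 (iv6 F353373) D210006 F422985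
theorem F455722 : act 7 n210006 = n209261 := d11_2 (iv7 F353374) D210006 F452950
theorem F455723 : act 1 n210006 = n209262 := d18_8 (iv1 F431749) (iv4 D204264) (iv1 D123276) D123278 D204265 (iv4 F431756) F353377 D210006 (iv5 F452954)
theorem F455724 : act 1 n209263 = n210006 := d15_0 F455723 (iv7 F452955) F452957
def n210007 : Q := act 0 n137239
theorem D210007 : act 0 n137239 = n210007 := rfl
theorem F455725 : act 5 n210007 = n151433 := d17_1 D210007 (iv1 F238175) (iv5 F353556) F220669 (iv5 F317046) F105591 D69329 (iv0 F314625) (iv4 F220380)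
theorem F455726 : act 4 n210007 = n205038 := d18_1 D210007 (iv1 F434733) F390168 F390165 (iv4 F368738) F354838 (iv4 D137932) (iv0 F329160) F329161
theorem F455727 : act 2 n151611 = n210007 := d15_3 (iv0 D210007) F355816 D151611
theorem F455728 : act 1 n151609 = n210007 := d15_0 (iv0 D210007) F220381 (iv2 F354837)
theorem F455729 : act 7 n210007 = n151432 := d15_2 D151609 F455728 F238170
def n210008 : Q := act 4 n137240
theorem D210008 : act 4 n137240 = n210008 := rfl
theorem F455730 : act 2 n210008 = n198139 := d1_1 D210008 F406968 F221406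
theorem F455731 : act 7 n210008 = n196841 := d11_2 F408871 D210008 F408872
theorem F455732 : act 5 n210008 = n198138 := d16_1 D210008 (iv4 F408533) (iv5 D198613) (iv4 F169690) D125980 F220779 F220780 (iv7 F221407) F221406
theorem F455733 : act 0 n210008 = n142803 := d18_2 D137240 D210008 (iv4 F361540) (iv5 D136018) F99502 F165861 F165859 (iv0 D64500) D64502
theorem F455734 : act 1 n210008 = n209251 := d18_6 F219002 (iv4 F221061) F434969 F434965 (iv5 F220382) D210008 (iv4 D209251) (iv0 F408847) (iv5 D198678)
theorem F455735 : act 3 n210008 = n196824 := d20_3 (iv4 D137242) D137240 D210008 (iv1 D196824) F165422 (iv4 F400363) (iv1 F404904) (iv4 F411327) (iv3 D199252) (iv1 F361563)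
def n210009 : Q := act 3 n137241
theorem D210009 : act 3 n137241 = n210009 := rfl
theorem F455736 : act 5 n210009 = n193933 := d6_2 F220780 D210009 (iv3 F391440)
def n210010 : Q := act 4 n137241
theorem D210010 : act 4 n137241 = n210010 := rfl
theorem F455737 : act 2 n210010 = n196841 := d1_1 D210010 F408872 (iv2 F408869)
theorem F455738 : act 5 n210010 = n197747 := d9_2 F220780 D210010 F405612 F365852 F202888 (iv5 F434966) F434965 (iv5 F220382) D210008 F455732 (iv4 F408533) (iv5 D198613) (iv4 F169690) D125980 F220779
theorem F455739 : act 7 n210010 = n198139 := d11_2 F221407 D210010 F406968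
theorem F455740 : act 0 n210010 = n209251 := d17_0 (iv5 F453132) F453133 (iv5 F455703) (iv4 D210003) (iv5 D137234) (iv0 D64500) D64502 D137241 D210010
theorem F455741 : act 1 n210010 = n142803 := d18_6 (iv1 F219610) (iv4 F403927) F403929 F220779 F220780 D210010 (iv4 F361540) (iv0 F221467) (iv5 D138270)
theorem F455742 : act 3 n210010 = n197748 := d20_9 (iv4 F454556) (iv1 F454558) F402135 (iv3 D107422) F165546 (iv3 F80833) F338258 (iv1 F220385) D210010 (iv1 F412420)
def n210011 : Q := act 6 n137241
theorem D210011 : act 6 n137241 = n210011 := rfl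
theorem F455743 : act 5 n210011 = n182266 := d12_1 D210011 (iv6 F451859) F451856 F446955 F220780
def n210012 : Q := act 4 n137245
theorem D210012 : act 4 n137245 = n210012 := rfl
theorem F455744 : act 5 n210012 = n143878 := d9_2 F360376 D210012 (iv4 D143878) (iv5 D67394) (iv4 D31325) D31326 D67398 (iv5 F360372) (iv4 F454573) F454574 F433616 F332948 (iv4 F171828) (iv5 F101142) (iv4 F222599)
theorem F455745 : act 0 n210012 = n202511 := d18_2 (iv1 F360377) D210012 (iv4 D202511) (iv5 D115924) F84337 F80901 F171828 F171826 D138607
theorem F455746 : act 1 n210012 = n199330 := d18_6 (iv1 F226511) (iv4 D143881) (iv1 F168320) (iv4 F222599) F360376 D210012 (iv4 D199330) D199329 F411728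
def n210013 : Q := act 6 n137251
theorem D210013 : act 6 n137251 = n210013 := rfl
theorem F455747 : act 2 n210013 = n200026 := d3_1 D210013 F414666 (iv2 F408768)
theorem F455748 : act 3 n210013 = n204067 := d7_1 D210013 F430962 (iv3 F365883)
theorem F455749 : act 7 n210013 = n200005 := d14_2 (iv7 F408602) D210013 (iv6 D200005) (iv7 F361866) D198626
theorem F455750 : act 0 n210013 = n199972 := d21_4 (iv5 D109544) F166132 D137251 D210013 (iv6 D199972) (iv5 F408520) (iv1 D198610) D198611 F408525 F169685
theorem F455751 : act 0 n200027 = n210013 := d21_4 F148375 D190090 (iv5 F378822) (iv6 F414672) (iv6 D210013) (iv5 D137251) (iv1 F173625) (iv5 F408536) (iv6 F408538) F366492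
def n210014 : Q := act 6 n137260
theorem D210014 : act 6 n137260 = n210014 := rfl
theorem F455752 : act 2 n210014 = n164109 := d3_1 D210014 F366955 F365886
theorem F455753 : act 5 n210014 = n207155 := d12_1 D210014 (iv6 F444615) F444614 (iv6 F408835) (iv5 F408838)
theorem F455754 : act 7 n210014 = n207154 := d14_2 F425851 D210014 F443547 F209135 D202847
theorem F455755 : act 0 n210014 = n194162 := d21_4 D198680 F418474 (iv5 F408838) D210014 (iv6 D194162) F377512 (iv1 D189717) F292455 D158890 F365912
theorem F455756 : act 0 n198512 = n210014 := d21_4 D166681 F408177 (iv5 D198511) D198512 (iv6 D210014) F408838 F408837 (iv5 F453135) F453137 (iv1 D166679)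
def n210015 : Q := act 5 n137270
theorem D210015 : act 5 n137270 = n210015 := rfl
theorem F455757 : act 2 n210015 = n137271 := d2_1 D210015 (iv5 D137271) D137270
theorem F455758 : act 3 n210015 = n164445 := d6_1 D210015 F357960 (iv3 F220411)
theorem F455759 : act 0 n210015 = n193736 := d17_2 (iv1 F220412) D210015 F390826 (iv4 F169049) (iv5 F406526) (iv0 F408260) (iv5 F408255) (iv0 F408443) F408439
theorem F455760 : act 1 n210015 = n198211 := d17_6 D50345 D109037 (iv1 F387478) (iv5 F387477) F223458 D210015 (iv5 D198211) (iv0 D109047) (iv4 D50348)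
theorem F455761 : act 6 n164443 = n210015 := d21_5 (iv5 D97089) F71578 D89084 D186745 F378765 (iv5 D210015) (iv1 F406477) (iv5 F406479) (iv6 D189945) (iv1 F149787)
def n210016 : Q := act 6 n137270
theorem D210016 : act 6 n137270 = n210016 := rfl
theorem F455762 : act 2 n210016 = n137272 := d3_1 D210016 (iv6 D137272) D137270
theorem F455763 : act 3 n210016 = n190635 := d7_1 D210016 (iv6 F380406) (iv3 F220411)
theorem F455764 : act 7 n210016 = n174660 := d14_2 F413708 D210016 F414081 F413683 (iv6 F413707)
theorem F455765 : act 0 n173319 = n210016 := d21_4 D111617 F408224 (iv5 D198523) F365999 (iv6 D210016) D210015 F455759 F390826 (iv6 F359284) (iv1 D111616)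
theorem F455766 : act 1 n174662 = n210016 := d15_0 (iv0 F455765) F271745 D174662
def n210017 : Q := act 1 n137271
theorem D210017 : act 1 n137271 = n210017 := rfl
theorem F455767 : act 7 n210017 = n193736 := d15_2 (iv0 F391562) D210017 (iv2 F391558)
theorem F455768 : act 5 n210017 = n155955 := d17_7 (iv1 F168591) D197782 F405781 F168619 F101531 D137271 D210017 F244981 (iv4 D109044)
theorem F455769 : act 4 n210017 = n188344 := d17_9 F373114 F370527 F370529 F350736 F196499 F353327 (iv0 F173879) D137271 D210017
theorem F455770 : act 3 n139833 = n210017 := d19_19 (iv1 D210017) (iv5 D137271) (iv4 F101531) (iv3 D65877) (iv1 F79442) (iv5 F79732) (iv4 F84195) (iv3 F180059) (iv1 F223624) (iv5 D106907) D106906 D196336 F400377 F172108 (iv4 D53652) D53651 F102938 D67031 (iv4 F223037)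
theorem F455771 : act 2 n210017 = n198211 := d0_1 F455770 F407238 (iv2 F174378) F174379 F223038
def n210018 : Q := act 1 n137272
theorem D210018 : act 1 n137272 = n210018 := rfl
theorem F455772 : act 1 n210018 = n174660 := d15_1 D210018 (iv7 F455764) F455762
theorem F455773 : act 7 n210018 = n174662 := d15_2 (iv0 F365989) D210018 (iv2 D174662)
theorem F455774 : act 3 n166408 = n210018 := d20_3 F373679 F336468 D166408 (iv1 D210018) F220414 F100446 (iv1 F93035) F326926 D174692 F395546
theorem F455775 : act 4 n199585 = n210018 := d20_6 (iv4 D108624) (iv1 F79465) (iv4 F79650) (iv3 F168870) F353067 (iv3 F412769) (iv1 D210018) (iv4 F223460) F223459 F168498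
theorem F455776 : act 6 n195328 = n210018 := d21_3 D199702 (iv1 F423773) F423770 (iv1 D210018) (iv6 D137272) D137271 F391562 F391560 F359285 (iv1 F173161)
theorem F455777 : act 2 n210018 = n173319 := d3_1 F455776 (iv6 F365999) (iv2 F396725)
def n210019 : Q := act 5 n137272
theorem D210019 : act 5 n137272 = n210019 := rfl
theorem F455778 : act 3 n210019 = n137274 := d6_1 D210019 (iv5 D137274) (iv3 F220414)
theorem F455779 : act 0 n210019 = n174649 := d21_1 D210019 (iv5 D174649) F128555 (iv1 F353289) F358922 D199702 (iv1 F423773) F423770 F455776 (iv1 D210018)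
def n210020 : Q := act 5 n137273
theorem D210020 : act 5 n137273 = n210020 := rfl
theorem F455780 : act 2 n210020 = n190975 := d2_1 D210020 (iv5 D190975) F354599
theorem F455781 : act 6 n210020 = n137274 := d12_2 D137273 D210020 (iv5 D137274) (iv6 D64518) D64517
theorem F455782 : act 7 n210020 = n190978 := d13_2 F357958 D210020 (iv5 D190978)
def n210021 : Q := act 0 n137274
theorem D210021 : act 0 n137274 = n210021 := rfl
theorem F455783 : act 5 n210021 = n198581 := d17_3 F100447 D137274 D210021 (iv4 D198581) (iv5 D109583) (iv0 D50555) (iv5 D24628) (iv0 F38600) (iv4 F79811)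
theorem F455784 : act 1 n198424 = n210021 := d15_0 (iv0 D210021) (iv7 F414084) F414083
theorem F455785 : act 2 n198684 = n210021 := d2_3 F455783 F408384 D198684
theorem F455786 : act 3 n187348 = n210021 := d6_3 F455783 F408385 (iv5 F378103)
theorem F455787 : act 6 n204756 = n210021 := d12_0 F455783 F408386 D198620 F408574 F433473
theorem F455788 : act 7 n198741 = n210021 := d13_0 F455783 F408387 D198741
theorem F455789 : act 4 n198574 = n210021 := d18_3 (iv1 D109575) D109576 D198574 F455783 (iv4 D198581) (iv0 F169542) (iv4 F170554) F408365 (iv5 D198572)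
theorem E103966 : n204757 = n198574 := (c5_6 F455789 (iv3 F455786) (iv4 F427556) F427553 (iv4 F198788) (iv3 F433475))
theorem F455790 : act 3 n198574 = n124308 := (sb E103966 F433475)
theorem F455791 : act 6 n198574 = n124307 := (sb E103966 (iv6 D204757))
def n210022 : Q := act 1 n137274
theorem D210022 : act 1 n137274 = n210022 := rfl
theorem F455792 : act 1 n210022 = n198424 := d15_1 D210022 F407980 (iv2 F220416)
theorem F455793 : act 7 n210022 = n198684 := d15_2 (iv0 D210021) D210022 F455785
theorem F455794 : act 5 n210022 = n198582 := d17_7 F403919 F203877 (iv1 D126690) F93832 (iv4 F100446) D137274 D210022 (iv0 F408392) F403920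
theorem F455795 : act 4 n210022 = n198575 := d17_9 (iv1 D198575) D198576 (iv1 F452500) F452498 (iv4 D198578) (iv5 D109580) (iv0 F100448) D137274 D210022
theorem F455796 : act 2 n198741 = n210022 := d2_3 F455794 F408389 D198741
def n210023 : Q := act 4 n137274
theorem D210023 : act 4 n137274 = n210023 := rfl
theorem F455797 : act 2 n210023 = n200945 := d1_1 D210023 (iv4 D200945) (iv2 F220416)
theorem F455798 : act 7 n210023 = n209735 := d11_2 F414084 D210023 F454790
theorem F455799 : act 5 n210023 = n209510 := d16_1 D210023 F453971 F220055 (iv4 F104287) F104288 F169322 D198424 F407980 (iv2 F220416)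
def n210024 : Q := act 6 n137277
theorem D210024 : act 6 n137277 = n210024 := rfl
theorem F455800 : act 2 n210024 = n137279 := d3_1 D210024 (iv6 D137279) D137277
theorem F455801 : act 3 n210024 = n164074 := d7_1 D210024 (iv6 F413707) F413705
theorem F455802 : act 4 n210024 = n182329 := d10_1 D210024 (iv6 F359016) (iv4 F220418)
theorem F455803 : act 5 n210024 = n194215 := d12_1 D210024 F396242 D208135 F448033 F393636
theorem F455804 : act 0 n210024 = n194153 := d21_10 F443837 F443760 (iv5 F362513) (iv6 D125755) D125751 (iv6 F349593) F347820 D194538 F393636 D210024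
def n210025 : Q := act 6 n137278
theorem D210025 : act 6 n137278 = n210025 := rfl
theorem F455805 : act 2 n210025 = n208135 := d3_1 D210025 F448033 (iv2 F393637)
theorem F455806 : act 3 n210025 = n137280 := d7_1 D210025 (iv6 D137280) (iv3 F220423)
theorem F455807 : act 4 n210025 = n203921 := d10_1 D210025 F430410 F421069
theorem F455808 : act 5 n210025 = n196007 := d12_1 D210025 F399039 (iv5 F382489) (iv6 D137279) D137278
theorem F455809 : act 7 n210025 = n164448 := d14_2 (iv7 F220424) D210025 (iv6 D164448) (iv7 F177932) F354597
theorem F455810 : act 0 n210025 = n191122 := d21_4 (iv5 F357961) (iv1 D137276) D137278 D210025 F382313 F390435 (iv1 D193605) D193607 F390447 (iv1 D190316)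
theorem F455811 : act 0 n198528 = n210025 := d21_4 F347764 (iv1 D109513) D109515 D198528 (iv6 D210025) (iv5 D137278) D137275 (iv5 F357962) (iv6 F318866) D127593
def n210026 : Q := act 0 n137279
theorem D210026 : act 0 n137279 = n210026 := rfl
theorem F455812 : act 5 n210026 = n207149 := d17_1 D210026 (iv1 D207149) F377869 (iv4 D189817) F363214 F359011 (iv5 F359000) (iv0 F358998) (iv4 F220426)
theorem F455813 : act 2 n194153 = n210026 := d2_3 F455812 (iv2 F443758) (iv5 F443837)
def n210027 : Q := act 1 n137279
theorem D210027 : act 1 n137279 = n210027 := rfl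
theorem F455814 : act 7 n210027 = n194153 := d15_2 (iv0 D210026) D210027 F455813
theorem F455815 : act 5 n210027 = n207148 := d18_9 (iv1 F444617) F444613 (iv1 F210020) (iv4 F443582) (iv5 F443584) (iv4 F283865) (iv0 F358998) (iv4 F220426) D210027
theorem F455816 : act 4 n206527 = n210027 := d20_6 (iv4 D105195) (iv1 F76507) (iv4 F82661) (iv3 F176467) (iv1 F417133) (iv3 F441196) (iv1 D210027) F220426 F161408 (iv1 F165602)
theorem F455817 : act 6 n210027 = n206526 := d10_2 D206527 F455816 (iv4 D206526)
theorem F455818 : act 3 n164084 = n210027 := d6_3 F455815 F443592 F382167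
def n210028 : Q := act 3 n137283
theorem D210028 : act 3 n137283 = n210028 := rfl
theorem F455819 : act 2 n210028 = n198516 := d0_1 D210028 (iv3 D198516) F170955 (iv3 F356044) F356050
theorem F455820 : act 4 n210028 = n198774 := d5_2 D137283 D210028 F409172 (iv4 F220428) (iv3 D137282)
theorem F455821 : act 5 n210028 = n200524 := d6_2 F356060 D210028 F416855
theorem F455822 : act 6 n210028 = n200526 := d7_2 (iv6 F356059) D210028 F416863
theorem F455823 : act 0 n210028 = n200514 := d19_4 (iv1 F364560) (iv5 D137284) D137283 D210028 (iv5 F435957) F435956 F202746 D126044 F202748 (iv4 D110535) (iv3 D50965) (iv1 D24782) F321471 (iv4 F28297) (iv3 F322544) (iv1 F40098) (iv5 F80478) (iv4 F80480) (iv3 F169474)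
theorem F455824 : act 0 n177465 = n210028 := d17_2 D205370 F436110 F455821 F416856 F405955 F168915 D125831 F406717 F406715
def n210029 : Q := act 5 n137285
theorem D210029 : act 5 n137285 = n210029 := rfl
theorem F455825 : act 4 n210029 = n197478 := d9_1 D210029 F404495 F182928 F97621 (iv4 F170994) (iv5 F345715) F281846 (iv5 F345714) (iv4 D144135) (iv5 D67527) F82625 (iv5 D52254) (iv4 F82616) D113205 F356053
theorem F455826 : act 7 n210029 = n202833 := d13_2 F356054 D210029 F425778
theorem F455827 : act 0 n210029 = n200232 := d17_2 F364565 D210029 F415631 F394749 (iv5 D125693) (iv0 D58856) D58858 (iv0 F366355) F202172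
def n210030 : Q := act 6 n137297
theorem D210030 : act 6 n137297 = n210030 := rfl
theorem F455828 : act 2 n210030 = n163149 := d3_1 D210030 F410345 F410342
theorem F455829 : act 3 n210030 = n137299 := d7_1 D210030 (iv6 D137299) D137297
theorem F455830 : act 4 n210030 = n205980 := d10_1 D210030 (iv6 D205980) (iv4 F220439)
theorem F455831 : act 5 n210030 = n163147 := d12_1 D210030 (iv6 F436533) F436532 (iv6 D200827) (iv5 F220437)
def n210031 : Q := act 6 n137298
theorem D210031 : act 6 n137298 = n210031 := rfl
theorem F455832 : act 2 n210031 = n137654 := d3_1 D210031 (iv6 D137654) (iv2 F220444)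
theorem F455833 : act 3 n210031 = n204092 := d7_1 D210031 (iv6 F431053) (iv3 F391760)
theorem F455834 : act 4 n210031 = n137299 := d10_1 D210031 (iv6 D137299) D137298
theorem F455835 : act 0 n210031 = n174813 := d21_10 (iv5 D174813) F339166 D154577 F428180 (iv1 D203410) (iv6 F408434) F408433 (iv1 F396019) F396016 D210031
theorem F455836 : act 5 n204091 = n210031 := d21_2 (iv5 F348211) F431049 (iv6 D210031) (iv1 F220447) D137941 F331216 (iv1 D87743) D87744 (iv6 F284684) F342324
theorem F455837 : act 1 n210031 = n138053 := d17_6 F351747 F334400 F355865 D200488 (iv4 F431047) F455836 F346594 F339165 (iv4 F351749)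
def n210032 : Q := act 0 n137302
theorem D210032 : act 0 n137302 = n210032 := rfl
theorem F455838 : act 5 n210032 = n163841 := d17_1 D210032 F412450 (iv5 F426725) (iv4 D203035) (iv5 D117585) (iv0 F349952) (iv5 F349939) (iv0 D137364) (iv4 F220455)
theorem F455839 : act 4 n210032 = n137709 := d18_3 (iv1 D137365) (iv4 F220455) D210032 F369534 F369530 (iv0 F235980) F235978 (iv0 F259562) (iv5 F349949)
theorem F455840 : act 6 n210032 = n148669 := d21_5 F100051 D113742 F176993 D137302 D210032 (iv5 F393017) (iv1 F393019) F365292 (iv6 D64256) D64252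
theorem F455841 : act 1 n137307 = n210032 := d15_0 (iv0 D210032) (iv7 F365455) (iv2 F365456)
theorem F455842 : act 2 n137304 = n210032 := d3_3 F455840 (iv2 F375927) (iv6 F375932)
theorem F455843 : act 3 n148672 = n210032 := d7_3 F455840 (iv3 D148669) D148672
theorem F455844 : act 7 n137305 = n210032 := d14_0 F455840 F353025 D155831 F353050 (iv6 F394297)
def n210033 : Q := act 1 n137302
theorem D210033 : act 1 n137302 = n210033 := rfl
theorem F455845 : act 1 n210033 = n137307 := d15_1 D210033 (iv7 D137307) (iv2 F220453)
theorem F455846 : act 7 n210033 = n137304 := d15_2 (iv0 D210032) D210033 F455842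
theorem F455847 : act 2 n137305 = n210033 := d4_3 F455846 F455842 (iv7 F455844)
theorem F455848 : act 6 n206317 = n210033 := d14_5 F455846 F375932 F375929 (iv6 F358744) (iv7 F440211)
def n210034 : Q := act 5 n137304
theorem D210034 : act 5 n137304 = n210034 := rfl
theorem F455849 : act 2 n210034 = n163841 := d2_1 D210034 (iv5 F455838) (iv2 F455842)
theorem F455850 : act 3 n210034 = n205197 := d6_1 D210034 F435386 F375934
theorem F455851 : act 6 n210034 = n174159 := d12_2 (iv6 F375932) D210034 F393024 (iv6 D194388) (iv5 F375928)
theorem F455852 : act 0 n210034 = n200176 := d17_2 D137304 D210034 (iv5 F423862) (iv4 F426718) (iv5 D203034) F338501 (iv5 D137379) (iv0 D64576) (iv4 F100481)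
theorem F455853 : act 1 n210034 = n164009 := d17_8 (iv1 F409597) D199510 (iv1 F412853) (iv5 D199613) (iv4 F390373) (iv5 D193588) F365458 D210034 (iv4 F409595)
theorem F455854 : act 4 n210034 = n180413 := d18_5 (iv1 F349933) (iv4 F221095) F419887 F419885 D210034 (iv0 D180413) F132135 D86186 (iv5 F344937)
def n210035 : Q := act 0 n137306
theorem D210035 : act 0 n137306 = n210035 := rfl
theorem F455855 : act 4 n210035 = n198792 := d18_1 D210035 (iv1 F409260) (iv4 F173302) F334615 (iv4 F275409) (iv0 F419886) F419885 (iv0 D137304) D137306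
theorem F455856 : act 3 n210035 = n200490 := d20_5 (iv4 F405684) (iv1 F405686) F330495 (iv3 F220457) D210035 F416691 (iv1 F176377) (iv4 F176308) (iv3 F402867) (iv1 F402872)
theorem F455857 : act 5 n210035 = n209363 := d21_8 (iv5 F354147) (iv1 F263826) (iv5 F352326) F352327 (iv1 D64532) D64535 D137306 D210035 (iv6 D209363) (iv1 F354220)
theorem F455858 : act 2 n199757 = n210035 := d15_3 (iv0 D210035) (iv0 F352289) (iv7 F413365)
theorem F455859 : act 1 n193588 = n210035 := d15_0 (iv0 D210035) F360747 (iv2 F390370)
theorem F455860 : act 7 n210035 = n192663 := d15_2 (iv0 F390374) F455859 F387407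
theorem F455861 : act 6 n200731 = n210035 := d14_5 F455860 (iv6 D192663) F272822 D174040 (iv7 F417685)
def n210036 : Q := act 6 n137331
theorem D210036 : act 6 n137331 = n210036 := rfl
theorem F455862 : act 2 n210036 = n193181 := d3_1 D210036 (iv6 D193181) (iv2 F351617)
theorem F455863 : act 3 n210036 = n204776 := d7_1 D210036 (iv6 D204776) F351611
def n210037 : Q := act 4 n137332
theorem D210037 : act 4 n137332 = n210037 := rfl
theorem F455864 : act 2 n210037 = n204820 := d1_1 D210037 (iv4 D204820) (iv2 F351626)
theorem F455865 : act 5 n210037 = n173967 := d9_2 F351625 D210037 (iv4 D173967) (iv5 D83184) D83183 (iv5 F320200) (iv4 F351620) F351621 F351463 (iv5 D160395) F115501 F317228 D83178 D173948 (iv4 F351604)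
theorem F455866 : act 7 n210037 = n193180 := d11_2 (iv7 F351624) D210037 (iv4 D193180)
theorem F455867 : act 0 n210037 = n196768 := d17_0 (iv5 F433701) (iv1 D204818) D204819 F433705 (iv5 D160272) (iv0 F330217) F334183 D137332 D210037
theorem F455868 : act 3 n210037 = n196487 := d20_3 (iv4 F451495) F451493 D210037 (iv1 F400809) (iv3 F165422) (iv4 F401900) F401903 (iv4 F411303) (iv3 D199245) (iv1 F411274)
def n210038 : Q := act 6 n137332
theorem D210038 : act 6 n137332 = n210038 := rfl
theorem F455869 : act 2 n210038 = n204821 := d3_1 D210038 (iv6 D204821) (iv2 F351626)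
theorem F455870 : act 3 n210038 = n193140 := d7_1 D210038 (iv6 D193140) (iv3 F351627)
theorem F455871 : act 5 n210038 = n209978 := d12_1 D210038 (iv6 F455603) (iv5 D154146) (iv6 F306901) F351625
theorem F455872 : act 0 n193225 = n210038 := d21_4 (iv5 F377065) (iv1 F377068) F283609 D193225 (iv6 D210038) (iv5 F351625) F351602 D170755 F268344 (iv1 F352687)
def n210039 : Q := act 5 n137337
theorem D210039 : act 5 n137337 = n210039 := rfl
theorem F455873 : act 2 n210039 = n208246 := d2_1 D210039 (iv5 D208246) (iv2 F220518)
theorem F455874 : act 3 n210039 = n139938 := d6_1 D210039 F223169 (iv3 F220519)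
theorem F455875 : act 6 n210039 = n209588 := d12_2 F365749 D210039 F454248 (iv6 D137957) D137956
theorem F455876 : act 7 n210039 = n143245 := d13_2 (iv7 F220520) D210039 (iv5 D143245)
theorem F455877 : act 4 n210039 = n209589 := d18_5 (iv1 D110814) F80586 D64557 D137337 D210039 (iv0 F454251) (iv4 D139446) D139445 F225849
def n210040 : Q := act 5 n137341
theorem D210040 : act 5 n137341 = n210040 := rfl
theorem F455878 : act 2 n210040 = n143245 := d2_1 D210040 (iv5 D143245) (iv2 F220531)
theorem F455879 : act 3 n210040 = n139412 := d6_1 D210040 F372573 F220533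
theorem F455880 : act 7 n210040 = n208246 := d13_2 (iv7 F220532) D210040 (iv5 D208246)
def n210041 : Q := act 6 n137344
theorem D210041 : act 6 n137344 = n210041 := rfl
theorem F455881 : act 2 n210041 = n137345 := d3_1 D210041 (iv6 D137345) D137344
theorem F455882 : act 3 n210041 = n160277 := d7_1 D210041 F422444 F422440
theorem F455883 : act 4 n210041 = n195417 := d10_1 D210041 (iv6 D195417) (iv4 F220536)
theorem F455884 : act 5 n210041 = n152623 := d12_1 D210041 F311978 (iv5 F430625) (iv6 F445995) F445997
theorem F455885 : act 7 n210041 = n152622 := d14_2 (iv7 F220537) D210041 F403952 F403950 F336213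
theorem F455886 : act 1 n143550 = n210041 := d15_1 (iv0 F358054) F455885 F239831
theorem F455887 : act 0 n204339 = n210041 := d17_2 F361941 D204339 F455884 F239833 F108484 F56667 D79018 F130996 D157668
def n210042 : Q := act 0 n137345
theorem D210042 : act 0 n137345 = n210042 := rfl
theorem F455888 : act 5 n210042 = n192065 := d17_3 (iv1 F239825) F358056 D210042 F385404 (iv5 D148961) (iv0 F232734) (iv5 F210759) (iv0 F309063) F309066
theorem F455889 : act 1 n152622 = n210042 := d15_0 (iv0 D210042) F358053 (iv2 F239831)
theorem F455890 : act 2 n143550 = n210042 := d2_3 F455888 (iv2 D192065) F358055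
theorem F455891 : act 7 n204339 = n210042 := d13_0 F455888 F385405 D204339
def n210043 : Q := act 1 n137345
theorem D210043 : act 1 n137345 = n210043 := rfl
theorem F455892 : act 1 n210043 = n152622 := d15_1 D210043 (iv7 F455885) F455881
theorem F455893 : act 7 n210043 = n143550 := d15_2 (iv0 D210042) D210043 F455890
theorem F455894 : act 5 n210043 = n192050 := d17_7 F305742 (iv5 D55328) F130956 (iv5 F97811) (iv4 F214909) F358056 D210043 (iv0 F385344) F304177
theorem F455895 : act 3 n139219 = n210043 := d19_19 (iv1 D210043) (iv5 F358056) F214909 F97810 (iv1 F47630) D61504 (iv4 F311043) (iv3 F188572) F188575 (iv5 D55317) D55316 (iv3 F314479) (iv1 D29904) (iv5 F23796) (iv4 F25497) (iv3 F52372) D71690 F333273 D139219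
theorem F455896 : act 2 n210043 = n204339 := d0_1 F455895 F452958 (iv2 F452957) (iv3 D143570) (iv2 F338987)
def n210044 : Q := act 3 n137365
theorem D210044 : act 3 n137365 = n210044 := rfl
theorem F455897 : act 2 n210044 = n143089 := d0_1 D210044 (iv3 F429651) F429650 (iv3 D137382) (iv2 F349935)
theorem F455898 : act 4 n210044 = n195421 := d5_2 (iv4 F349936) D210044 (iv3 F396955) (iv4 F415310) F415309
theorem F455899 : act 5 n210044 = n145055 := d6_2 (iv5 F349949) D210044 F349948
theorem F455900 : act 7 n210044 = n137377 := d8_2 (iv7 F349937) D210044 (iv3 D137377)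
theorem F455901 : act 0 n210044 = n143083 := d19_4 F324547 (iv5 F344937) (iv4 F349936) D210044 F347286 (iv4 D142664) (iv3 D66874) (iv1 F84684) F84682 F41059 (iv3 F45809) (iv1 F45812) D51208 (iv4 F329139) (iv3 F161560) (iv1 F161565) (iv5 F352467) F360726 F360729
theorem F455902 : act 0 n143091 = n210044 := d20_4 (iv4 D69338) F320284 (iv4 F103042) (iv3 F225940) (iv3 D210044) F349936 (iv1 F349933) (iv4 F221095) F221094 (iv1 F323277)
def n210045 : Q := act 6 n137365
theorem D210045 : act 6 n137365 = n210045 := rfl
theorem F455903 : act 2 n210045 = n137385 := d3_1 D210045 (iv6 D137385) (iv2 F349935)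
theorem F455904 : act 4 n210045 = n191384 := d10_1 D210045 F383286 (iv4 F349936)
theorem F455905 : act 7 n210045 = n193451 := d14_2 (iv7 F349937) D210045 F422953 (iv7 F422954) (iv6 D137380)
theorem F455906 : act 0 n210045 = n193453 := d21_4 (iv5 D117585) (iv1 F349956) (iv5 F349949) D210045 F389888 (iv5 F411647) (iv1 D199318) (iv5 F389792) (iv6 F415262) F415265
theorem F455907 : act 0 n138249 = n210045 := d21_4 (iv5 D83502) (iv1 F322811) (iv5 F327150) D138249 (iv6 D210045) F349949 F259562 (iv5 F385652) (iv6 D192121) F287095
def n210046 : Q := act 1 n137366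
theorem D210046 : act 1 n137366 = n210046 := rfl
theorem F455908 : act 1 n210046 = n137389 := d15_1 D210046 (iv7 D137389) (iv2 F220564)
theorem F455909 : act 7 n210046 = n137386 := d15_2 (iv0 F419491) D210046 (iv2 F419486)
theorem F455910 : act 3 n208490 = n210046 := d19_19 (iv1 D210046) (iv5 D137366) (iv4 F220455) F220454 F376065 (iv5 F376066) F175530 (iv3 F174028) (iv1 F174032) F353195 (iv4 F410969) (iv3 F410971) F389300 D194734 (iv4 F439607) F439606 F397307 D195547 (iv4 F449597)
theorem F455911 : act 5 n209241 = n210046 := d21_0 (iv1 D210046) (iv5 D137366) (iv6 D64571) (iv1 F99559) D136066 F345496 (iv1 F356075) (iv5 F356074) (iv6 F426586) F452850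
theorem F455912 : act 6 n199297 = n210046 := d21_3 (iv5 D111171) D111167 D199297 (iv1 D210046) (iv6 F368710) F368709 (iv1 D134112) (iv5 F329683) (iv6 F336381) (iv1 F352981)
theorem F455913 : act 2 n210046 = n137387 := d3_1 F455912 F356505 (iv2 F411533)
def n210047 : Q := act 4 n137366
theorem D210047 : act 4 n137366 = n210047 := rfl
theorem F455914 : act 2 n210047 = n137388 := d1_1 D210047 (iv4 D137388) (iv2 F220564)
theorem F455915 : act 3 n210047 = n201591 := d5_1 D210047 F421064 F204911 F344532 (iv3 F356508)
theorem F455916 : act 5 n210047 = n194433 := d9_2 D137366 D210047 (iv4 F412473) F412472 (iv4 F360744) (iv5 F328244) F220459 (iv5 F220587) F328479 (iv5 F393182) (iv4 F412477) F412476 (iv4 F436493) F436494 F220455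
theorem F455917 : act 6 n210047 = n176507 := d10_2 F368710 D210047 (iv4 F368708)
theorem F455918 : act 7 n210047 = n193589 := d11_2 F356507 D210047 (iv4 D193589)
theorem F455919 : act 0 n210047 = n201577 := d17_0 F420996 (iv1 D188827) (iv5 F161809) F314507 D202998 F426588 (iv5 F419489) (iv0 F419491) D210047
theorem F455920 : act 1 n210047 = n140781 := d18_8 (iv1 F421710) (iv4 F448452) (iv1 F448454) (iv4 F419501) (iv5 D201221) (iv4 F419488) (iv0 F419491) D210047 F375017
def n210048 : Q := act 2 n137377
theorem D210048 : act 2 n137377 = n210048 := rfl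
theorem F455921 : act 3 n210048 = n160299 := d0_2 D137377 D210048 (iv2 F422733) F422734 F349938
theorem F455922 : act 5 n210048 = n160297 := d2_2 F349478 D210048 (iv2 F350747)
theorem F455923 : act 7 n210048 = n143089 := d4_2 F455900 D210048 (iv2 F455897)
theorem F455924 : act 1 n210048 = n143083 := d15_0 (iv0 F455901) F455900 D210048
theorem F455925 : act 1 n143091 = n210048 := d15_0 F455924 F359466 F359467
theorem F455926 : act 4 n195420 = n210048 := d18_7 F359464 (iv4 F432617) F432620 F426428 (iv5 F386245) (iv4 F423219) F423222 F455924 F347286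
def n210049 : Q := act 4 n137377
theorem D210049 : act 4 n137377 = n210049 := rfl
theorem F455927 : act 2 n210049 = n195420 := d1_1 D210049 F455926 (iv2 D210048)
theorem F455928 : act 3 n210049 = n144453 := d5_1 D210049 (iv4 F397166) F397168 (iv4 D137378) D137377
theorem F455929 : act 7 n210049 = n195421 := d11_2 F455900 D210049 (iv4 F455898)
theorem F455930 : act 5 n210049 = n144452 := d16_5 (iv4 F446745) F446742 F227931 F349478 D210049 F227255 F408058 (iv7 F408059) F408060
theorem F455931 : act 0 n210049 = n195422 := d18_2 (iv1 F349479) D210049 F396957 (iv5 D117440) (iv4 F183896) D202967 (iv4 F426423) (iv0 F347295) (iv5 D143090)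
theorem F455932 : act 1 n210049 = n195419 := d18_6 (iv1 F349462) (iv4 F397463) (iv1 F397468) F227931 F349478 D210049 F396952 F385948 F385945
theorem F455933 : act 6 n210049 = n205919 := d21_5 F347237 F347232 F344618 D195419 (iv1 F455932) (iv5 F438423) (iv1 F427538) (iv5 D195364) (iv6 D105544) D105540
def n210050 : Q := act 6 n137377
theorem D210050 : act 6 n137377 = n210050 := rfl
theorem F455934 : act 3 n210050 = n137380 := d7_1 D210050 (iv6 D137380) D137377
theorem F455935 : act 4 n210050 = n205919 := d10_1 D210050 (iv6 F455933) (iv4 D210049)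
theorem F455936 : act 7 n203381 = n210050 := d11_0 F455935 F438421 F438428
theorem F455937 : act 0 n203322 = n210050 := d20_10 F455935 (iv1 D205919) F203997 F100019 (iv1 F162114) F319407 (iv4 D71250) F86461 D118728 D203322
theorem F455938 : act 1 n203383 = n210050 := d15_0 (iv0 F455937) F427874 D203383
def n210051 : Q := act 6 n137382
theorem D210051 : act 6 n137382 = n210051 := rfl
theorem F455939 : act 2 n210051 = n204813 := d3_1 D210051 F433680 F429650
theorem F455940 : act 3 n210051 = n137385 := d7_1 D210051 (iv6 D137385) D137382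
theorem F455941 : act 4 n210051 = n202211 := d10_1 D210051 (iv6 D202211) (iv4 F355558)
theorem F455942 : act 0 n210051 = n204815 := d21_4 F429668 (iv1 F191909) (iv5 F355559) D210051 F433683 (iv5 D139301) (iv1 F101078) D111266 (iv6 F216401) (iv1 F429670)
theorem F455943 : act 0 n204776 = n210051 := d21_4 F301397 F119077 D124326 D204776 (iv6 D210051) F355559 (iv1 D76829) D76830 F115367 D76841
theorem F455944 : act 0 n204791 = n202211 := d20_1 (iv4 F433599) (iv4 F455941) F455940 F409612 F389820 (iv4 D135236) F179667 (iv4 F422938) F433603 (iv1 D204793)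
theorem F455945 : act 7 n204814 = n210051 := d15_2 (iv0 D204813) D204814 F455939
def n210052 : Q := act 6 n137384
theorem D210052 : act 6 n137384 = n210052 := rfl
theorem F455946 : act 2 n210052 = n201297 := d3_1 D210052 (iv6 D201297) (iv2 F349947)
theorem F455947 : act 3 n210052 = n160305 := d7_1 D210052 (iv6 D160305) (iv3 F350751)
theorem F455948 : act 4 n210052 = n187439 := d10_1 D210052 F370326 (iv4 F347720)
theorem F455949 : act 7 n210052 = n187436 := d14_2 F347719 D210052 (iv6 D187436) (iv7 F142409) (iv6 F178119)
theorem F455950 : act 0 n210052 = n203075 := d21_10 (iv5 F426889) (iv1 F388134) F390394 (iv6 D193594) (iv1 D102005) (iv6 F156954) (iv5 D101992) (iv1 F329375) D137384 D210052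
theorem F455951 : act 5 n191445 = n210052 := d21_2 (iv5 F411617) F389994 (iv6 D210052) (iv1 F347721) F338494 F161805 (iv1 F90125) (iv5 F161595) D195189 F411616
theorem F455952 : act 0 n186888 = n210052 := d21_4 F336974 F368901 (iv5 F419394) F419396 (iv6 D210052) (iv5 D137384) (iv1 D64577) D64578 (iv6 F220582) F347383
def n210053 : Q := act 5 n137385
theorem D210053 : act 5 n137385 = n210053 := rfl
theorem F455953 : act 6 n210053 = n191445 := d12_2 D137385 D210053 F455951 (iv6 D210052) (iv5 D137384)
theorem F455954 : act 4 n191446 = n210053 := d10_3 F455953 (iv4 D191445) D191446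
def n210054 : Q := act 7 n137385
theorem D210054 : act 7 n137385 = n210054 := rfl
theorem F455955 : act 2 n210054 = n193451 := d4_1 D210054 (iv7 F455905) F455903
theorem F455956 : act 3 n210054 = n204814 := d8_1 D210054 F455945 F455940
theorem F455957 : act 4 n210054 = n159436 := d11_1 D210054 (iv7 F349899) F349902
theorem F455958 : act 6 n210054 = n159434 := d14_1 D210054 (iv7 F422956) (iv6 F422958) F349940 D137385
theorem F455959 : act 1 n138249 = n210054 := d15_1 (iv0 F455907) (iv7 D210054) (iv2 F455903)
theorem F455960 : act 1 n210054 = n193453 := d15_1 F455959 (iv7 D193453) (iv2 F365730)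
def n210055 : Q := act 1 n137388
theorem D210055 : act 1 n137388 = n210055 := rfl
theorem F455961 : act 1 n210055 = n193589 := d15_1 D210055 (iv7 F455918) F455914
theorem F455962 : act 7 n210055 = n201577 := d15_2 (iv0 F356502) D210055 F420994
theorem F455963 : act 5 n210055 = n201416 := d17_7 (iv1 F419914) F419911 (iv1 F215898) D199613 F412850 (iv5 F377186) D210055 F421704 (iv4 F412454)
theorem F455964 : act 2 n140781 = n210055 := d2_3 F455963 F420428 (iv5 F375017)
theorem F455965 : act 3 n201418 = n210055 := d6_3 F455963 (iv3 D201416) D201418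
def n210056 : Q := act 5 n137391
theorem D210056 : act 5 n137391 = n210056 := rfl
theorem F455966 : act 2 n210056 = n141232 := d2_1 D210056 (iv5 F448988) F448987
theorem F455967 : act 3 n210056 = n206915 := d6_1 D210056 (iv5 D206915) F354193
theorem F455968 : act 4 n210056 = n141231 := d9_1 D210056 F224262 F180523 F165704 F104289 (iv5 F365148) (iv4 F450479) F450480 (iv4 D139470) (iv5 D65454) (iv4 F50023) (iv5 F78382) (iv4 F99436) (iv5 F100519) D137391
theorem F455969 : act 7 n210056 = n207725 := d13_2 (iv7 F220594) D210056 F446167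
theorem F455970 : act 1 n209607 = n210056 := d15_1 F454321 F455969 F446165
def n210057 : Q := act 6 n137391
theorem D210057 : act 6 n137391 = n210057 := rfl
theorem F455971 : act 3 n210057 = n206717 := d7_1 D210057 F441957 F354193
theorem F455972 : act 4 n210057 = n137392 := d10_1 D210057 (iv6 D137392) D137391
theorem F455973 : act 7 n210057 = n206711 := d14_2 (iv7 F220594) D210057 (iv6 D206711) (iv7 F214756) (iv6 F365140)
def n210058 : Q := act 1 n137392
theorem D210058 : act 1 n137392 = n210058 := rfl
theorem F455974 : act 1 n210058 = n208583 := d15_1 D210058 F450001 F448990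
theorem F455975 : act 7 n210058 = n208699 := d15_2 (iv0 F432205) D210058 F450489
theorem F455976 : act 3 n189784 = n210058 := d20_3 (iv4 F399449) F399451 (iv4 F377738) (iv1 D210058) F220595 (iv4 F203933) D205879 F438231 F364103 F399446
theorem F455977 : act 4 n206091 = n210058 := d20_6 F446581 (iv1 D132455) (iv4 F212552) (iv3 F417396) F417398 D206091 (iv1 D210058) (iv4 F455972) F455971 (iv1 F446579)
theorem F455978 : act 2 n210058 = n208649 := d1_1 F455977 F450325 F441859
theorem F455979 : act 6 n189782 = n210058 := d3_0 F455978 (iv6 F451174) F451173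
theorem F455980 : act 0 n185231 = n208754 := d21_7 D63465 D135035 F365167 D208583 (iv1 F455974) (iv6 F455979) F377731 (iv5 D208754) (iv6 D135032) (iv1 D63463)
def n210059 : Q := act 5 n137392
theorem D210059 : act 5 n137392 = n210059 := rfl
theorem F455981 : act 3 n210059 = n137395 := d6_1 D210059 (iv5 D137395) (iv3 F220595)
theorem F455982 : act 6 n210059 = n209210 := d12_2 D137392 D210059 (iv5 D209210) (iv6 D135955) (iv5 F100519)
theorem F455983 : act 7 n210059 = n208700 := d13_2 (iv7 F365150) D210059 (iv5 D208700)
theorem F455984 : act 0 n210059 = n208268 := d21_7 (iv5 F448628) (iv1 F448629) (iv5 D134178) D134179 F336144 D137392 D210059 (iv5 D208268) (iv6 D134039) D134035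
theorem F455985 : act 5 n201646 = n195254 := d17_3 F439214 (iv5 D201649) D201646 F396484 D208268 (iv0 F455984) (iv5 D210059) D210058 (iv4 F455977)
theorem F455986 : act 3 n195256 = n201646 := d6_3 F455985 F396483 D195256
def n210060 : Q := act 5 n137393
theorem D210060 : act 5 n137393 = n210060 := rfl
theorem F455987 : act 2 n210060 = n203217 := d2_1 D210060 (iv5 F427446) (iv2 F352090)
theorem F455988 : act 3 n210060 = n186879 := d6_1 D210060 (iv5 F389555) F389554
theorem F455989 : act 6 n210060 = n153542 := d12_2 F373064 D210060 (iv5 D153542) D153543 F242747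
theorem F455990 : act 7 n210060 = n209759 := d13_2 F352095 D210060 (iv5 D209759)
theorem F455991 : act 4 n210060 = n204086 := d16_2 F347095 D210060 F431030 F385409 (iv5 F366565) F233246 (iv5 F352081) (iv7 F352085) F352089
theorem F455992 : act 0 n210060 = n191427 := d17_2 D137393 D210060 (iv5 F441294) (iv4 F394439) D207968 F447193 F438233 (iv0 D205879) F203933
def n210061 : Q := act 5 n137394
theorem D210061 : act 5 n137394 = n210061 := rfl
theorem F455993 : act 2 n210061 = n209759 := d2_1 D210061 (iv5 D209759) F352097
theorem F455994 : act 3 n210061 = n187687 := d6_1 D210061 (iv5 D187687) F352098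
theorem F455995 : act 4 n210061 = n204087 := d9_1 D210061 F431032 (iv4 F448432) F448428 F439639 (iv5 F352094) F347095 D210060 F455991 F431030 F385409 (iv5 F366565) F233246 (iv5 F352081) F352099
theorem F455996 : act 7 n210061 = n203217 := d13_2 (iv7 F352096) D210061 (iv5 F427446)
theorem F455997 : act 1 n210061 = n191427 := d17_6 (iv1 F337694) (iv5 F402943) F402945 (iv5 F352081) F352099 D210061 (iv5 F441294) F394437 F216531
def n210062 : Q := act 6 n137394
theorem D210062 : act 6 n137394 = n210062 := rfl
theorem F455998 : act 2 n210062 = n152669 := d3_1 D210062 F352104 F352097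
theorem F455999 : act 3 n210062 = n187688 := d7_1 D210062 (iv6 D187688) F352098
theorem F456000 : act 4 n210062 = n152303 := d10_1 D210062 (iv6 F352083) F352099
theorem F456001 : act 7 n210062 = n152683 := d14_2 (iv7 F352096) D210062 F338733 F427453 F427449
theorem F456002 : act 0 n210062 = n209798 := d21_10 (iv5 D209798) (iv1 F449837) (iv5 D208548) F338727 (iv1 F218838) (iv6 F394441) F441294 (iv1 F455997) (iv5 D210061) D210062
theorem F456003 : act 0 n137580 = n210062 := d18_0 F456000 F239414 D204989 F434482 (iv4 F423707) F423706 (iv4 D136975) D136974 (iv5 F220749)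
def n210063 : Q := act 4 n137395
theorem D210063 : act 4 n137395 = n210063 := rfl
theorem F456004 : act 2 n210063 = n209760 := d1_1 D210063 (iv4 D209760) (iv2 F220597)
theorem F456005 : act 6 n210063 = n209211 := d10_2 (iv6 F220598) D210063 (iv4 D209211)
theorem F456006 : act 5 n210063 = n157402 := d16_1 D210063 (iv4 F403374) F403375 F234641 F347096 (iv4 F347094) (iv5 F449752) (iv7 F449753) (iv2 F220597)
theorem F456007 : act 0 n210063 = n203189 := d17_0 (iv5 D203189) F344407 (iv5 F383470) (iv4 F449746) (iv5 D208529) (iv0 D134548) D134550 (iv0 F352101) D210063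
def n210064 : Q := act 7 n137395
theorem D210064 : act 7 n137395 = n210064 := rfl
theorem F456008 : act 2 n210064 = n208531 := d4_1 D210064 (iv7 F449753) (iv2 F220597)
theorem F456009 : act 3 n210064 = n208700 := d8_1 D210064 (iv7 F455983) F455981
theorem F456010 : act 5 n210064 = n137396 := d13_1 D210064 (iv7 D137396) D137395
theorem F456011 : act 1 n208533 = n210064 := d15_1 F449764 (iv7 D210064) F220597
theorem F456012 : act 1 n210064 = n186003 := d15_1 F456011 (iv7 F394467) (iv2 F449761)
def n210065 : Q := act 4 n137399
theorem D210065 : act 4 n137399 = n210065 := rfl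
theorem F456013 : act 2 n210065 = n137400 := d1_1 D210065 (iv4 D137400) D137399
theorem F456014 : act 6 n210065 = n144867 := d10_2 (iv6 F365152) D210065 F362913
theorem F456015 : act 7 n210065 = n209741 := d11_2 (iv7 F220607) D210065 (iv4 D209741)
theorem F456016 : act 5 n210065 = n201376 := d17_5 (iv1 F408500) (iv5 D136871) (iv1 F218689) (iv5 F220606) D210065 F421143 F421141 (iv0 F396012) (iv4 D136958)
theorem F456017 : act 0 n210065 = n205708 := d17_0 F437507 (iv1 D187935) (iv5 F288339) (iv4 F363975) F218743 D136026 F220986 F220610 D210065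
theorem F456018 : act 1 n210065 = n194041 := d18_6 (iv1 F438151) (iv4 D202528) (iv1 F180511) (iv4 F218687) (iv5 F220606) D210065 (iv4 D194041) D194040 (iv5 F438149)
theorem F456019 : act 3 n210065 = n148726 := d20_3 (iv4 D143275) F220982 D210065 F363922 (iv3 D146439) (iv4 D68658) (iv1 F85322) D117321 D202938 (iv1 F426284)
def n210066 : Q := act 0 n137400
theorem D210066 : act 0 n137400 = n210066 := rfl
theorem F456020 : act 4 n210066 = n194042 := d18_1 D210066 (iv1 F391852) (iv4 F426279) F426280 (iv4 F371019) (iv0 F428020) F428017 D203356 (iv5 F428023)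
theorem F456021 : act 3 n210066 = n195132 := d20_5 F365175 (iv1 D130805) (iv4 F209362) (iv3 F365157) D210066 F395900 F417004 (iv4 F444508) (iv3 D207358) (iv1 F365179)
theorem F456022 : act 6 n210066 = n146478 := d21_5 D115187 D201877 F422176 F365155 D210066 F335882 (iv1 F218137) F218043 (iv6 F326617) (iv1 D115185)
theorem F456023 : act 2 n205708 = n210066 := d15_3 (iv0 D210066) (iv0 F423361) (iv7 F437508)
theorem F456024 : act 1 n209741 = n210066 := d15_0 (iv0 D210066) F220611 (iv2 F454812)
theorem F456025 : act 7 n210066 = n194041 := d15_2 (iv0 F454814) F456024 F423362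
def n210067 : Q := act 0 n137401
theorem D210067 : act 0 n137401 = n210067 := rfl
theorem F456026 : act 4 n210067 = n203937 := d18_3 (iv1 F328832) (iv4 F365154) D210067 F430484 (iv4 F197524) F336791 F128793 (iv0 F336795) D76389
theorem F456027 : act 3 n210067 = n208671 := d20_5 (iv4 F207487) F214803 (iv4 F330930) (iv3 F220612) D210067 F450402 F421268 (iv4 F217057) F217056 (iv1 F209287)
theorem F456028 : act 6 n210067 = n191784 := d21_5 (iv5 D209199) (iv1 D135947) (iv5 F100522) D137401 D210067 (iv5 D191784) D191781 F449264 F449255 (iv1 F452694)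
theorem F456029 : act 2 n208651 = n210067 := d15_3 (iv0 D210067) (iv0 F365156) (iv7 F450335)
theorem F456030 : act 1 n208582 = n210067 := d15_0 (iv0 D210067) (iv7 F448187) (iv2 F449996)
theorem F456031 : act 7 n210067 = n203936 := d15_2 (iv0 F449999) F456030 F430479
def n210068 : Q := act 7 n137410
theorem D210068 : act 7 n137410 = n210068 := rfl
theorem F456032 : act 2 n210068 = n195134 := d4_1 D210068 (iv7 F426412) F426410
theorem F456033 : act 3 n210068 = n208703 := d8_1 D210068 F450500 F365406
theorem F456034 : act 4 n210068 = n205961 := d11_1 D210068 F438606 F438287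
theorem F456035 : act 5 n210068 = n209245 := d13_1 D210068 F452879 (iv5 F220622)
theorem F456036 : act 6 n210068 = n149083 := d14_1 D210068 (iv7 F242713) F338472 F327806 D137410
theorem F456037 : act 1 n199205 = n210068 := d15_1 (iv0 F426414) (iv7 D210068) (iv2 F426410)
theorem F456038 : act 1 n210068 = n206775 := d15_1 F456037 (iv7 F442147) (iv2 F411157)
def n210069 : Q := act 0 n137442
theorem D210069 : act 0 n137442 = n210069 := rfl
theorem F456039 : act 4 n210069 = n144844 := d18_3 (iv1 F314861) (iv4 F328581) D210069 (iv5 F385378) F385377 F364927 F301406 F306191 F314865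
theorem F456040 : act 6 n210069 = n203068 := d21_5 D54173 (iv1 F327693) (iv5 F100528) D137442 D210069 (iv5 D203068) (iv1 D117644) (iv5 D54191) (iv6 D26212) D26208
theorem F456041 : act 2 n144801 = n210069 := d15_3 (iv0 D210069) (iv0 F337902) F346086
theorem F456042 : act 1 n144804 = n210069 := d15_0 (iv0 D210069) (iv7 F431366) F431363
theorem F456043 : act 7 n210069 = n144802 := d15_2 F364101 F456042 F338490
theorem F456044 : act 3 n190122 = n210069 := d19_19 (iv1 F456042) (iv5 F453755) F453754 (iv3 F446808) F446810 (iv5 D206684) F213975 (iv3 F213972) (iv1 D62604) (iv5 D29601) (iv4 F47523) (iv3 F97610) D133370 F379187 F379184 D190934 F381602 F378940 (iv4 F378929)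
theorem F456045 : act 5 n193014 = n210069 := d21_0 (iv1 F456042) (iv5 F453755) F453756 F425026 (iv6 D192974) F155706 (iv1 F74327) D47096 D101098 D193014
theorem E103967 : n193014 = n192773 := ((c6_4 F456045 (iv3 F456044) F378930 D192773)).symm
theorem F456046 : act 1 n192773 = n101098 := (sb E103967 (iv0 D193014))
theorem F456047 : act 5 n192773 = n210069 := (sb E103967 F456045)
def n210070 : Q := act 3 n137465
theorem D210070 : act 3 n137465 = n210070 := rfl
theorem F456048 : act 2 n210070 = n176167 := d0_1 D210070 (iv3 F391204) F391203 F221118 (iv2 F343279)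
theorem F456049 : act 4 n210070 = n172048 := d5_2 (iv4 F343280) D210070 (iv3 F345510) F321561 (iv3 F204409)
theorem F456050 : act 6 n210070 = n137948 := d7_2 (iv6 F343281) D210070 F221210
theorem F456051 : act 7 n210070 = n137873 := d8_2 (iv7 F343282) D210070 F221094
theorem F456052 : act 0 n137709 = n210070 := d18_0 F456049 F345509 F345511 D137384 F347720 F178060 (iv4 F178117) (iv0 F369533) (iv5 F369534)
def n210071 : Q := act 6 n137466
theorem D210071 : act 6 n137466 = n210071 := rfl
theorem F456053 : act 2 n210071 = n137468 := d3_1 D210071 (iv6 D137468) D137466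
theorem F456054 : act 3 n210071 = n204792 := d7_1 D210071 F433600 F391264
theorem F456055 : act 4 n210071 = n141771 := d10_1 D210071 (iv6 D141771) (iv4 F220669)
theorem F456056 : act 7 n210071 = n203380 := d14_2 (iv7 F343285) D210071 (iv6 D203380) F186927 F343292
theorem F456057 : act 0 n138051 = n210071 := d21_4 (iv5 D203165) F346609 F339049 D138051 (iv6 D210071) F353556 (iv1 D71460) D71461 (iv6 F238475) (iv1 F427260)
def n210072 : Q := act 0 n137468
theorem D210072 : act 0 n137468 = n210072 := rfl
theorem F456058 : act 4 n210072 = n166052 := d18_3 F342577 (iv4 F220672) D210072 (iv5 F307962) F222407 F222363 F342567 D139773 (iv5 F222949)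
theorem F456059 : act 1 n203380 = n210072 := d15_0 (iv0 D210072) F366472 (iv2 F428108)
theorem F456060 : act 7 n210072 = n138051 := d15_2 (iv0 F440451) F456059 (iv2 F440448)
theorem F456061 : act 5 n209696 = n210072 := d16_7 (iv4 D206368) F222356 F222354 F101046 (iv4 F103102) D143381 (iv4 F454663) F456060 (iv2 F440448)
def n210073 : Q := act 5 n137468
theorem D210073 : act 5 n137468 = n210073 := rfl
theorem F456062 : act 3 n210073 = n137473 := d6_1 D210073 (iv5 D137473) (iv3 F220671)
def n210074 : Q := act 3 n137471
theorem D210074 : act 3 n137471 = n210074 := rfl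
theorem F456063 : act 5 n210074 = n209708 := d6_2 F399183 D210074 (iv3 D209708)
theorem F456064 : act 7 n210074 = n138209 := d8_2 (iv7 F399185) D210074 F221371
def n210075 : Q := act 6 n137487
theorem D210075 : act 6 n137487 = n210075 := rfl
theorem F456065 : act 2 n210075 = n204996 := d3_1 D210075 F434518 F397196
theorem F456066 : act 3 n210075 = n137489 := d7_1 D210075 (iv6 D137489) D137487
theorem F456067 : act 5 n210075 = n138899 := d12_1 D210075 (iv6 D138899) D138898 (iv6 F455342) F455340
theorem F456068 : act 7 n210075 = n142371 := d14_2 F391907 D210075 (iv6 F401180) (iv7 F415629) F415628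
def n210076 : Q := act 4 n137490
theorem D210076 : act 4 n137490 = n210076 := rfl
theorem F456069 : act 2 n210076 = n137494 := d1_1 D210076 (iv4 D137494) (iv2 F220684)
theorem F456070 : act 0 n210076 = n209947 := d18_2 (iv1 F220923) D210076 (iv4 D209947) (iv5 D137144) (iv4 D64473) F99445 (iv4 F218667) F218669 D137076
theorem F456071 : act 1 n210076 = n209945 := d18_6 F345454 (iv4 D136031) (iv1 F99528) (iv4 F100547) D137490 D210076 (iv4 D209945) F391904 F391903
def n210077 : Q := act 6 n137490
theorem D210077 : act 6 n137490 = n210077 := rfl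
theorem F456072 : act 2 n210077 = n137495 := d3_1 D210077 (iv6 D137495) (iv2 F220684)
theorem F456073 : act 3 n210077 = n190623 := d7_1 D210077 (iv6 F440532) F440531
theorem F456074 : act 5 n210077 = n186577 := d12_1 D210077 (iv6 D186577) F136269 (iv6 F329374) D137490
theorem F456075 : act 0 n210077 = n190671 := d21_4 (iv5 D194067) F361814 D137490 D210077 F380517 (iv5 D97041) (iv1 F295219) D181927 F340524 F391950
def n210078 : Q := act 4 n137492
theorem D210078 : act 4 n137492 = n210078 := rfl
theorem F456076 : act 2 n210078 = n209907 := d1_1 D210078 (iv4 D209907) F220897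
theorem F456077 : act 3 n210078 = n194200 := d5_1 D210078 F392360 F363540 (iv4 F402447) F402446
theorem F456078 : act 7 n210078 = n209903 := d11_2 (iv7 F220899) D210078 (iv4 D209903)
theorem F456079 : act 6 n194199 = n210078 := d7_0 F456077 (iv6 D194200) D194199
def n210079 : Q := act 6 n137492
theorem D210079 : act 6 n137492 = n210079 := rfl
theorem F456080 : act 2 n210079 = n209908 := d3_1 D210079 (iv6 D209908) F220897
theorem F456081 : act 3 n210079 = n191317 := d7_1 D210079 F402449 F402446
theorem F456082 : act 4 n210079 = n194199 := d10_1 D210079 F456079 (iv4 D210078)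
def n210080 : Q := act 4 n137493
theorem D210080 : act 4 n137493 = n210080 := rfl
theorem F456083 : act 2 n210080 = n209903 := d1_1 D210080 (iv4 D209903) F220895
theorem F456084 : act 7 n210080 = n209907 := d11_2 F220896 D210080 (iv4 D209907)
def n210081 : Q := act 6 n137493
theorem D210081 : act 6 n137493 = n210081 := rfl
theorem F456085 : act 2 n210081 = n209904 := d3_1 D210081 (iv6 D209904) F220895
theorem F456086 : act 3 n210081 = n189962 := d7_1 D210081 F440645 F440646
theorem F456087 : act 0 n185604 = n210081 := d21_4 F294696 (iv1 D88409) D88411 D185604 (iv6 D210081) F220894 (iv1 D135939) (iv5 F206772) (iv6 F340524) (iv1 F294710)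
def n210082 : Q := act 0 n137494
theorem D210082 : act 0 n137494 = n210082 := rfl
theorem F456088 : act 4 n210082 = n194056 := d18_3 (iv1 D137493) D137494 D210082 F391898 (iv4 D135958) (iv0 D63926) (iv4 F99425) D135939 (iv5 F220894)
theorem F456089 : act 2 n209947 = n210082 := d1_3 F456088 (iv2 F391899) D209947
theorem F456090 : act 3 n201694 = n210082 := d5_5 F456088 F391900 (iv4 D115006) (iv3 F179069) D201694
theorem F456091 : act 7 n209945 = n210082 := d11_0 F456088 F391901 D209945
def n210083 : Q := act 1 n137494
theorem D210083 : act 1 n137494 = n210083 := rfl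
theorem F456092 : act 7 n210083 = n209947 := d15_2 (iv0 D210082) D210083 F456089
theorem F456093 : act 4 n142479 = n210083 := d20_6 (iv4 F85038) (iv1 F94051) F94049 F76916 D66803 D142479 (iv1 D210083) (iv4 D137494) F100548 (iv1 F85025)
theorem F456094 : act 3 n189527 = n210083 := d20_9 (iv4 D137494) D137492 D210078 F456077 (iv1 F428291) F428287 F392379 (iv1 D189528) (iv4 F376811) (iv1 D210083)
theorem F456095 : act 6 n210083 = n189526 := d7_2 D189527 F456094 (iv3 D189526)
theorem F456096 : act 2 n210083 = n209945 := d1_1 F456093 (iv4 D209945) F225391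
def n210084 : Q := act 5 n137494
theorem D210084 : act 5 n137494 = n210084 := rfl
def n210085 : Q := act 6 n137494
theorem D210085 : act 6 n137494 = n210085 := rfl
theorem F456097 : act 4 n210085 = n137495 := d10_1 D210085 (iv6 D137495) D137494
theorem F456098 : act 5 n207605 = n210085 := d16_3 (iv4 F445059) F445060 D207605 F456097 F365325 F137102 D89431 D186977 F368729
def n210086 : Q := act 1 n137495
theorem D210086 : act 1 n137495 = n210086 := rfl
theorem F456099 : act 7 n210086 = n190671 := d15_2 F377974 D210086 F380516
theorem F456100 : act 5 n210086 = n190672 := d17_7 (iv1 F352571) F352501 (iv1 F352509) (iv5 D89431) (iv4 F137102) (iv5 F365325) D210086 F380521 (iv4 F355350)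
theorem F456101 : act 3 n200280 = n210086 := d8_3 F456099 (iv3 F416046) F416042
def n210087 : Q := act 7 n137495
theorem D210087 : act 7 n137495 = n210087 := rfl
theorem F456102 : act 3 n210087 = n137503 := d8_1 D210087 (iv7 D137503) (iv3 F220687)
theorem F456103 : act 5 n210087 = n186971 := d13_1 D210087 (iv7 D186971) (iv5 F365325)
theorem F456104 : act 6 n210087 = n199960 := d14_1 D210087 F414358 F408647 F206725 D137495
theorem F456105 : act 0 n190671 = n210087 := d21_4 (iv5 D45520) (iv1 F71795) D97041 (iv6 F380517) F456104 (iv5 D199960) F362591 D176660 (iv6 F365996) (iv1 D97473)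
def n210088 : Q := act 3 n137500
theorem D210088 : act 3 n137500 = n210088 := rfl
theorem F456106 : act 5 n210088 = n190590 := d6_2 (iv5 F365070) D210088 F380239
theorem F456107 : act 6 n210088 = n190818 := d7_2 F365072 D210088 F381234
theorem F456108 : act 0 n198960 = n210088 := d20_4 (iv4 D164348) F120121 (iv4 F171447) D198960 (iv3 D210088) (iv4 F397237) (iv1 F397256) (iv4 F395329) (iv3 F379562) (iv1 F379566)
def n210089 : Q := act 3 n137501
theorem D210089 : act 3 n137501 = n210089 := rfl
theorem F456109 : act 4 n210089 = n164458 := d5_2 (iv4 F397243) D210089 F331426 (iv4 F377526) F397242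
theorem F456110 : act 5 n210089 = n190589 := d6_2 F365074 D210089 F380233
theorem F456111 : act 7 n210089 = n190588 := d8_2 (iv7 F365073) D210089 F380229
def n210090 : Q := act 6 n137501
theorem D210090 : act 6 n137501 = n210090 := rfl
theorem F456112 : act 7 n210090 = n191222 := d14_2 (iv7 F365073) D210090 (iv6 D191222) F205515 (iv6 F251260)
theorem F456113 : act 0 n210090 = n200258 := d21_10 (iv5 D200258) (iv1 F175977) (iv5 F206812) F365013 (iv1 F176109) D200377 (iv5 F416198) (iv1 F336930) F365074 D210090
theorem F456114 : act 1 n210090 = n200261 := d15_1 (iv0 F456113) F415728 (iv2 F415724)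
def n210091 : Q := act 2 n137504
theorem D210091 : act 2 n137504 = n210091 := rfl
theorem F456115 : act 3 n210091 = n206055 := d0_2 D137504 D210091 (iv2 D206055) (iv3 D127123) F166452
theorem F456116 : act 7 n210091 = n206058 := d4_2 (iv7 F220692) D210091 (iv2 D206058)
theorem F456117 : act 1 n210091 = n149214 := d15_0 (iv0 F397575) (iv7 F220692) D210091
theorem F456118 : act 1 n149223 = n210091 := d15_0 F456117 F408120 F408117
def n210092 : Q := act 6 n137504
theorem D210092 : act 6 n137504 = n210092 := rfl
theorem F456119 : act 3 n210092 = n137506 := d7_1 D210092 (iv6 D137506) D137504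
theorem F456120 : act 5 n210092 = n199955 := d12_1 D210092 (iv6 D199955) (iv5 F205299) (iv6 F346255) (iv5 F353147)
theorem F456121 : act 0 n199978 = n210092 := d21_7 (iv5 F224375) (iv1 F413778) (iv5 D199844) D199845 (iv1 F413785) (iv6 F414186) (iv5 F414449) F456120 (iv6 D199955) (iv1 F174299)
def n210093 : Q := act 5 n137507
theorem D210093 : act 5 n137507 = n210093 := rfl
theorem F456122 : act 3 n210093 = n137508 := d6_1 D210093 (iv5 D137508) D137507
theorem F456123 : act 7 n210093 = n206056 := d13_2 (iv7 F220702) D210093 (iv5 D206056)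
theorem F456124 : act 4 n210093 = n188539 := d17_4 (iv1 F259122) D195652 F397735 D210093 F397767 F397765 (iv5 D106147) F120167 (iv4 F259121)
theorem F456125 : act 6 n210093 = n188538 := d21_3 D195652 F397735 D210093 F373865 (iv6 D186921) F137068 (iv1 F329591) D130587 F350599 (iv1 F259122)
def n210094 : Q := act 5 n137515
theorem D210094 : act 5 n137515 = n210094 := rfl
theorem F456126 : act 2 n210094 = n194058 := d2_1 D210094 F391903 (iv2 F345456)
theorem F456127 : act 6 n210094 = n198688 := d12_2 (iv6 F362579) D210094 (iv5 D198688) (iv6 D109773) (iv5 F344570)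
theorem F456128 : act 7 n210094 = n192209 := d13_2 F333112 D210094 (iv5 D192209)
theorem F456129 : act 0 n210094 = n142479 := d17_2 D137515 D210094 F225389 F182933 F220891 F218907 (iv5 D136036) F99531 D64646
theorem F456130 : act 1 n210094 = n194056 := d17_6 (iv1 F454583) F361813 (iv1 F333140) (iv5 F333093) F333092 D210094 F391898 F396256 (iv4 F454578)
def n210095 : Q := act 0 n137531
theorem D210095 : act 0 n137531 = n210095 := rfl
theorem F456131 : act 5 n210095 = n192126 := d17_1 D210095 F385671 F156827 F74551 F35300 F34820 D46581 F329871 (iv4 F220729)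
theorem F456132 : act 4 n210095 = n175696 := d18_1 D210095 (iv1 F384955) F384956 F361827 (iv4 F424916) (iv0 F424919) F389817 F390175 F390173
theorem F456133 : act 2 n191516 = n210095 := d15_3 (iv0 D210095) (iv0 F433609) F433607
theorem F456134 : act 1 n192098 = n210095 := d15_0 (iv0 D210095) F359926 (iv2 F385531)
theorem F456135 : act 7 n210095 = n191519 := d15_2 F433610 F456134 (iv2 F433605)
theorem F456136 : act 3 n192127 = n210095 := d8_3 F456135 F385536 (iv7 F385674)
def n210096 : Q := act 3 n137538
theorem D210096 : act 3 n137538 = n210096 := rfl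
theorem F456137 : act 2 n210096 = n195724 := d0_1 D210096 (iv3 F438800) F438799 F204192 (iv2 F220730)
theorem F456138 : act 4 n210096 = n187757 := d5_2 D137538 D210096 (iv3 D187757) (iv4 F218974) F218973
theorem F456139 : act 6 n210096 = n190533 := d7_2 F365316 D210096 (iv3 D190533)
theorem F456140 : act 7 n210096 = n195723 := d8_2 F452961 D210096 (iv3 F452960)
theorem F456141 : act 0 n210096 = n195721 := d20_4 (iv4 D137137) (iv1 F220917) D137538 D210096 (iv3 F435350) F435353 F418297 F395900 (iv3 F391972) (iv1 F391975)
theorem F456142 : act 1 n210096 = n195579 := d15_1 (iv0 F456141) F397427 (iv2 F397942)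
def n210097 : Q := act 5 n137538
theorem D210097 : act 5 n137538 = n210097 := rfl
theorem F456143 : act 2 n210097 = n137556 := d2_1 D210097 (iv5 D137556) (iv2 F220730)
theorem F456144 : act 6 n210097 = n137556 := d12_2 F365316 D210097 (iv5 D137556) F329771 (iv5 F147798)
def n210098 : Q := act 6 n137550
theorem D210098 : act 6 n137550 = n210098 := rfl
theorem F456145 : act 2 n210098 = n143095 := d3_1 D210098 (iv6 D143095) F220900
theorem F456146 : act 3 n210098 = n137553 := d7_1 D210098 (iv6 D137553) D137550
theorem F456147 : act 4 n210098 = n192061 := d10_1 D210098 F385394 F221169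
theorem F456148 : act 7 n210098 = n204363 := d14_2 F220901 D210098 F441108 F441106 (iv6 D143097)
def n210099 : Q := act 3 n137551
theorem D210099 : act 3 n137551 = n210099 := rfl
theorem F456149 : act 4 n210099 = n193173 := d5_2 D137551 D210099 F389043 F221169 (iv3 D137550)
theorem F456150 : act 6 n210099 = n193172 := d7_2 F441120 D210099 (iv3 F441118)
theorem F456151 : act 7 n210099 = n208309 := d8_2 F220902 D210099 F448856
theorem F456152 : act 5 n205331 = n210099 := d16_7 (iv4 F448640) (iv5 F448800) F448799 (iv5 D205330) (iv4 D125801) D125802 D205331 F456151 F448855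
theorem F456153 : act 0 n205331 = n205407 := d21_7 (iv5 D132086) D132084 F341760 F369420 (iv1 F389041) (iv6 F456150) (iv5 F456152) F436337 (iv6 F445522) (iv1 F445524)
def n210100 : Q := act 5 n137551
theorem D210100 : act 5 n137551 = n210100 := rfl
theorem F456154 : act 2 n210100 = n200559 := d2_1 D210100 F416967 F220903
theorem F456155 : act 3 n210100 = n205331 := d6_1 D210100 F456152 (iv3 D210099)
theorem F456156 : act 7 n210100 = n200560 := d13_2 F220902 D210100 (iv5 F416968)
theorem F456157 : act 0 n210100 = n200561 := d17_2 (iv1 F333067) D210100 F416970 (iv4 F418041) (iv5 F454579) F454582 F364746 F364745 F245960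
theorem F456158 : act 1 n210100 = n200549 := d17_6 (iv1 F218736) (iv5 D64476) (iv1 F99444) F220891 D137551 D210100 F416958 D200812 (iv4 F418013)
def n210101 : Q := act 5 n137553
theorem D210101 : act 5 n137553 = n210101 := rfl
theorem F456159 : act 2 n210101 = n187040 := d2_1 D210101 (iv5 F368890) F220904
theorem F456160 : act 6 n210101 = n192152 := d12_2 D137553 D210101 (iv5 D192152) F362585 F220891
theorem F456161 : act 7 n210101 = n187039 := d13_2 F441111 D210101 F441112
theorem F456162 : act 0 n210101 = n187041 := d17_2 (iv1 F389557) D210101 (iv5 F368885) (iv4 F384056) F440834 F367310 D206672 F441823 (iv4 F380140)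
theorem F456163 : act 0 n186999 = n210101 := d21_1 F384006 (iv5 D210101) (iv6 D137553) (iv1 D64657) F329626 (iv5 D22782) (iv1 F66263) (iv5 F66311) D89191 D186808
def n210102 : Q := act 5 n137555
theorem D210102 : act 5 n137555 = n210102 := rfl
theorem F456164 : act 2 n210102 = n209953 := d2_1 D210102 F455511 F391959
theorem F456165 : act 3 n210102 = n205403 := d6_1 D210102 F436267 F399513
theorem F456166 : act 7 n210102 = n209954 := d13_2 F391951 D210102 F455515
theorem F456167 : act 0 n210102 = n209214 := d17_2 F452962 D210102 (iv5 D209214) (iv4 D135968) (iv5 D63929) D63927 F220891 F218907 D209264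
theorem F456168 : act 1 n210102 = n209949 := d17_6 (iv1 F383816) D200817 F438483 F438477 (iv4 F386022) D210102 (iv5 D209949) (iv0 F383810) F383807
def n210103 : Q := act 4 n137556
theorem D210103 : act 4 n137556 = n210103 := rfl
def n210104 : Q := act 2 n137577
theorem D210104 : act 2 n137577 = n210104 := rfl
theorem F456169 : act 3 n210104 = n182056 := d0_2 D137577 D210104 (iv2 F344333) (iv3 F344338) F344337
theorem F456170 : act 4 n210104 = n194045 := d1_2 F447647 D210104 (iv2 F447653)
theorem F456171 : act 5 n210104 = n182055 := d2_2 (iv5 F344343) D210104 (iv2 F344264)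
theorem F456172 : act 1 n210104 = n143276 := d15_0 (iv0 F368043) F368042 D210104
theorem F456173 : act 1 n209099 = n210104 := d15_0 F456172 (iv7 F384131) (iv2 F452250)
theorem F456174 : act 6 n195226 = n210104 := d10_0 F456170 F437181 D195226
def n210105 : Q := act 6 n137577
theorem D210105 : act 6 n137577 = n210105 := rfl
theorem F456175 : act 2 n210105 = n195226 := d3_1 D210105 F456174 (iv2 D210104)
theorem F456176 : act 3 n210105 = n137580 := d7_1 D210105 (iv6 D137580) D137577
theorem F456177 : act 4 n210105 = n195214 := d10_1 D210105 (iv6 F447649) F447647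
theorem F456178 : act 7 n195232 = n210105 := d11_0 F456177 F396301 D195232
theorem F456179 : act 5 n209799 = n210105 := d6_0 F456176 F220749 D209799
def n210106 : Q := act 7 n137580
theorem D210106 : act 7 n137580 = n210106 := rfl
theorem F456180 : act 2 n210106 = n209798 := d4_1 D210106 F454991 F368046
theorem F456181 : act 3 n210106 = n195232 := d8_1 D210106 F456178 F456176
theorem F456182 : act 4 n210106 = n207317 := d11_1 D210106 F444309 F347057
theorem F456183 : act 5 n210106 = n209217 := d13_1 D210106 F452753 (iv5 F220749)
theorem F456184 : act 6 n210106 = n207315 := d14_1 D210106 F444296 (iv6 D186798) F344341 D137580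
theorem F456185 : act 1 n152683 = n210106 := d15_1 (iv0 F390999) (iv7 D210106) (iv2 F368046)
theorem F456186 : act 1 n210106 = n152669 := d15_1 F456185 (iv7 F421419) F421417
theorem F456187 : act 3 n204286 = n191611 := d20_3 F456182 F444310 (iv4 F431864) (iv1 D191611) F151987 (iv4 F151992) D191618 F384024 (iv3 F421421) (iv1 F456186)
theorem F456188 : act 6 n191611 = n204284 := d7_2 D204286 F456187 (iv3 D204284)
def n210107 : Q := act 6 n137582
theorem D210107 : act 6 n137582 = n210107 := rfl
theorem F456189 : act 2 n210107 = n199686 := d3_1 D210107 (iv6 F449273) F362417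
theorem F456190 : act 3 n210107 = n137585 := d7_1 D210107 (iv6 D137585) D137582
theorem F456191 : act 4 n210107 = n206729 := d10_1 D210107 (iv6 F443154) F443152
theorem F456192 : act 5 n210107 = n193025 := d12_1 D210107 (iv6 D193025) (iv5 F283461) (iv6 D182053) (iv5 F338483)
theorem F456193 : act 0 n210107 = n199690 := d21_4 (iv5 D86951) D86949 (iv5 F338483) D210107 F413136 F360208 D202297 (iv5 F450766) (iv6 D208766) F328104
theorem F456194 : act 0 n199688 = n210107 := d21_4 (iv5 F336996) (iv1 F450007) (iv5 D208584) (iv6 F413130) (iv6 D210107) F338483 (iv1 F294195) F328109 (iv6 D63466) D63462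
theorem F456195 : act 7 n199687 = n210107 := d15_2 (iv0 D199686) D199687 F456189
theorem F456196 : act 5 n152566 = n199687 := d13_3 F456195 F456192 F388545
def n210108 : Q := act 7 n137585
theorem D210108 : act 7 n137585 = n210108 := rfl
theorem F456197 : act 2 n210108 = n207315 := d4_1 D210108 F444296 F368045
theorem F456198 : act 3 n210108 = n199687 := d8_1 D210108 F456195 F456190
theorem F456199 : act 4 n210108 = n207314 := d11_1 D210108 F444292 F414955
theorem F456200 : act 5 n210108 = n193031 := d13_1 D210108 (iv7 D193031) (iv5 F338484)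
theorem F456201 : act 6 n210108 = n209798 := d14_1 D210108 F454991 (iv6 D186799) F344339 D137585
theorem F456202 : act 1 n190544 = n210108 := d15_1 (iv0 F388391) (iv7 D210108) (iv2 F368045)
theorem F456203 : act 1 n210108 = n206808 := d15_1 F456202 (iv7 F444225) F444223
def n210109 : Q := act 5 n137592
theorem D210109 : act 5 n137592 = n210109 := rfl
theorem F456204 : act 2 n210109 = n137593 := d2_1 D210109 (iv5 D137593) D137592
theorem F456205 : act 3 n210109 = n182158 := d6_1 D210109 F283609 F362213
theorem F456206 : act 4 n210109 = n193993 := d9_1 D210109 (iv5 D193993) F349120 D113899 (iv4 F391806) (iv5 D194026) (iv4 F362219) F384225 F384223 (iv5 F361067) D193994 (iv5 F403472) F403471 F366725 F362215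
theorem F456207 : act 6 n210109 = n140114 := d12_2 F403487 D210109 (iv5 D140114) D140115 (iv5 F403488)
theorem F456208 : act 0 n210109 = n189281 := d21_1 D210109 (iv5 F385488) F453491 (iv1 D136884) (iv6 D64346) D64345 (iv1 F220983) (iv5 D67122) D67123 (iv1 F362226)
def n210110 : Q := act 1 n137593
theorem D210110 : act 1 n137593 = n210110 := rfl
theorem F456209 : act 7 n210110 = n189281 := d15_2 (iv0 F384681) D210110 F384680
theorem F456210 : act 4 n210110 = n187745 := d17_9 F391790 (iv5 F394457) (iv1 F394461) (iv5 D187737) (iv4 F153323) (iv5 F365516) (iv0 D137590) D137593 D210110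
def n210111 : Q := act 0 n137594
theorem D210111 : act 0 n137594 = n210111 := rfl
theorem F456211 : act 5 n210111 = n143567 := d17_1 D210111 (iv1 F361543) D202677 F425044 (iv5 D123225) D123224 D204248 F431665 F360985
theorem F456212 : act 4 n210111 = n192068 := d18_3 F431660 F360985 D210111 (iv5 D192068) F351910 F308765 F121564 F197518 D204247
theorem F456213 : act 3 n210111 = n143572 := d20_5 F452982 F408783 F220756 (iv3 F220754) D210111 F226268 (iv1 F348233) (iv4 F453839) F453838 (iv1 F452980)
theorem F456214 : act 6 n143570 = n210111 := d7_0 F456213 (iv6 D143572) D143570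
def n210112 : Q := act 1 n137594
theorem D210112 : act 1 n137594 = n210112 := rfl
theorem F456215 : act 5 n210112 = n202676 := d17_7 F326909 (iv5 F316555) F248032 (iv5 F107615) (iv4 F237315) (iv5 F360983) D210112 (iv0 D202676) F181288
theorem F456216 : act 4 n210112 = n204330 := d18_7 F335221 (iv4 F125420) (iv1 F311811) (iv4 F313615) D171052 F360985 D210112 F432075 (iv5 D191975)
def n210113 : Q := act 3 n137596
theorem D210113 : act 3 n137596 = n210113 := rfl
theorem F456217 : act 4 n210113 = n188554 := d5_2 D137596 D210113 (iv3 F373932) (iv4 F369135) F220753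
theorem F456218 : act 5 n210113 = n193779 := d6_2 (iv5 F357612) D210113 (iv3 D193779)
theorem F456219 : act 6 n210113 = n193017 := d7_2 F344246 D210113 F388522
def n210114 : Q := act 6 n137620
theorem D210114 : act 6 n137620 = n210114 := rfl
theorem F456220 : act 2 n210114 = n209815 := d3_1 D210114 F455048 F391278
theorem F456221 : act 3 n210114 = n137625 := d7_1 D210114 (iv6 D137625) (iv3 F220772)
theorem F456222 : act 4 n210114 = n209815 := d10_1 D210114 F455048 F391280
theorem F456223 : act 7 n210114 = n194400 := d14_2 (iv7 F356219) D210114 F393057 F284597 D183026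
theorem F456224 : act 5 n210114 = n192018 := d21_6 D191936 F454166 F454165 F393400 F384675 D210114 (iv1 F385225) (iv5 F357355) (iv6 F157800) F177414
theorem F456225 : act 0 n188680 = n210114 := d21_4 D193984 F431670 F431668 (iv6 F374429) (iv6 D210114) (iv5 D137620) D137617 (iv5 F356217) D192054 F385366
theorem F456226 : act 1 n188682 = n210114 := d18_8 (iv1 F385225) F391754 (iv1 D194009) F356751 (iv5 D92651) F68044 D92649 D188682 F456224
def n210115 : Q := act 1 n137621
theorem D210115 : act 1 n137621 = n210115 := rfl
theorem F456227 : act 7 n210115 = n138056 := d15_2 (iv0 F454254) D210115 (iv2 F454252)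
theorem F456228 : act 4 n210115 = n140976 := d18_7 (iv1 D71144) (iv4 F107652) F327043 (iv4 F327046) (iv5 F319186) (iv4 F220774) D210115 F342369 (iv5 D150915)
theorem F456229 : act 3 n167095 = n210115 := d20_3 F156579 F304828 D167095 (iv1 D210115) F220773 F100571 F99648 (iv4 F219297) (iv3 F357420) (iv1 F275148)
theorem F456230 : act 5 n141169 = n210115 := d16_1 (iv4 F433581) F456228 F223997 (iv4 F342368) (iv5 D123279) D123278 D204265 F431754 (iv2 F433577)
def n210116 : Q := act 5 n137621
theorem D210116 : act 5 n137621 = n210116 := rfl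
theorem F456231 : act 2 n210116 = n209816 := d2_1 D210116 F455051 F391284
theorem F456232 : act 3 n210116 = n137627 := d6_1 D210116 (iv5 D137627) (iv3 F220773)
theorem F456233 : act 6 n210116 = n192018 := d12_2 D137621 D210116 (iv5 F456224) (iv6 D210114) (iv5 D137620)
theorem F456234 : act 4 n210116 = n209814 := d16_2 (iv4 F220774) D210116 (iv5 F455043) (iv4 D204264) F334423 (iv4 F352798) D202867 F425946 F225249
theorem F456235 : act 0 n210116 = n204093 := d17_2 (iv1 D210115) D210116 F431058 F408428 (iv5 D116028) (iv0 F318713) D150911 (iv0 F342374) (iv4 F456228)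
def n210117 : Q := act 3 n137634
theorem D210117 : act 3 n137634 = n210117 := rfl
theorem F456236 : act 2 n210117 = n203554 := d0_1 D210117 (iv3 D203554) (iv2 F428582) F428583 (iv2 F245227)
theorem F456237 : act 7 n210117 = n197253 := d8_2 (iv7 F220784) D210117 F403744
def n210118 : Q := act 0 n137640
theorem D210118 : act 0 n137640 = n210118 := rfl
theorem F456238 : act 3 n210118 = n152321 := d20_5 F167011 D108046 F167014 D137640 D210118 (iv4 D152321) (iv1 F108334) (iv4 F108544) (iv3 F318495) F167012
theorem F456239 : act 7 n152747 = n210118 := d8_0 F456238 F239474 D152747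
def n210119 : Q := act 2 n137640
theorem D210119 : act 2 n137640 = n210119 := rfl
theorem F456240 : act 3 n210119 = n193691 := d0_2 D137640 D210119 (iv2 F390701) (iv3 D156062) F167023
theorem F456241 : act 6 n210119 = n152811 := d3_2 F400990 D210119 (iv2 F400993)
theorem F456242 : act 1 n210119 = n152747 := d15_0 (iv0 F366406) F245204 D210119
theorem F456243 : act 4 n210119 = n193287 := d20_0 (iv1 D193287) (iv4 F389392) (iv3 D193280) F356386 F343270 F239489 (iv1 F108335) D72080 D152747 (iv1 F456242)
theorem F456244 : act 2 n193287 = n156334 := d1_1 F456243 F245673 D210119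
theorem F456245 : act 6 n193287 = n202469 := d10_2 (iv6 F456241) F456243 F424133
def n210120 : Q := act 5 n137640
theorem D210120 : act 5 n137640 = n210120 := rfl
theorem F456246 : act 3 n210120 = n137641 := d6_1 D210120 (iv5 D137641) D137640
theorem F456247 : act 7 n210120 = n192961 := d13_2 F245204 D210120 F388350
theorem F456248 : act 1 n210120 = n202253 := d17_6 (iv1 F381926) (iv5 D191028) D191025 F381918 F245673 D210120 (iv5 D202253) D202252 F423408
theorem F456249 : act 6 n209811 = n210120 := d7_0 F456246 (iv6 F346061) D209811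
theorem F456250 : act 0 n210120 = n193893 := d19_4 F290154 (iv5 F155638) (iv4 F346060) (iv3 F456246) F391310 (iv4 F425299) F425298 F322144 F369849 F369847 (iv3 D89915) D89913 F138067 (iv4 F135293) D185460 (iv1 F287721) (iv5 D95463) F289667 (iv3 F289666)
def n210121 : Q := act 1 n137642
theorem D210121 : act 1 n137642 = n210121 := rfl
theorem F456251 : act 7 n210121 = n193689 := d15_2 (iv0 F365376) D210121 F390696
theorem F456252 : act 4 n210121 = n149236 := d17_9 (iv1 F337142) F337145 (iv1 F158911) (iv5 F340926) (iv4 F157406) F353163 (iv0 F434183) F434184 D210121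
theorem F456253 : act 2 n192160 = n210121 := d1_3 F456252 (iv2 F337139) D192160
theorem F456254 : act 5 n149131 = n210121 := d9_0 F456252 (iv5 F346268) (iv4 D143507) F311084 F191109 D69979 D149119 (iv5 F346246) (iv4 D102238) (iv5 F137322) F337112 (iv5 D124705) F191119 D69984 D149131
theorem F456255 : act 1 n210121 = n193691 := d17_8 F434196 F428502 (iv1 F439052) (iv5 D206059) F204377 D202273 F431846 F456254 (iv4 F434197)
def n210122 : Q := act 2 n137642
theorem D210122 : act 2 n137642 = n210122 := rfl
theorem F456256 : act 4 n210122 = n207185 := d1_2 (iv4 F220801) D210122 (iv2 D207185)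
theorem F456257 : act 5 n210122 = n192956 := d2_2 F434184 D210122 (iv2 F434179)
theorem F456258 : act 7 n210122 = n193691 := d4_2 F245203 D210122 (iv2 F390701)
theorem F456259 : act 1 n210122 = n192160 := d15_0 (iv0 F415561) F245203 D210122
theorem F456260 : act 1 n193689 = n210122 := d15_0 F456259 F385812 (iv2 F390696)
theorem F456261 : act 6 n202426 = n210122 := d21_3 F423195 (iv1 F245622) (iv5 F423952) (iv1 F456260) (iv6 F390700) F332268 (iv1 F351353) F336199 (iv6 F336205) D202195
def n210123 : Q := act 6 n137642
theorem D210123 : act 6 n137642 = n210123 := rfl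
theorem F456262 : act 2 n210123 = n202426 := d3_1 D210123 F456261 (iv2 D210122)
theorem F456263 : act 3 n210123 = n137644 := d7_1 D210123 (iv6 D137644) D137642
theorem F456264 : act 4 n210123 = n207187 := d10_1 D210123 (iv6 D207187) (iv4 F220801)
theorem F456265 : act 5 n210123 = n137644 := d12_1 D210123 (iv6 D137644) D137643 (iv6 F434181) F434184
theorem F456266 : act 7 n210123 = n202425 := d14_2 F245203 D210123 F423948 F226969 (iv6 F245202)
theorem F456267 : act 0 n210123 = n156304 := d21_10 (iv5 D156304) (iv1 F168141) D137058 F336218 (iv1 F206784) D206398 F440591 (iv1 F434185) F434184 D210123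
theorem F456268 : act 0 n156301 = n210123 := d21_4 F181936 F180705 D139669 (iv6 F361877) (iv6 D210123) (iv5 F434184) F434183 (iv5 F353163) F360848 (iv1 F181935)
def n210124 : Q := act 0 n137645
theorem D210124 : act 0 n137645 = n210124 := rfl
theorem F456269 : act 2 n137649 = n210124 := d15_3 (iv0 D210124) (iv0 D137645) D137649
theorem F456270 : act 7 n210124 = n137647 := d4_2 D137649 F456269 (iv2 D137647)
theorem F456271 : act 1 n137646 = n210124 := d15_1 D137646 F456270 (iv2 D137647)
def n210125 : Q := act 2 n137645
theorem D210125 : act 2 n137645 = n210125 := rfl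
theorem F456272 : act 7 n137646 = n210125 := d15_2 (iv0 D137645) D137646 (iv2 D210125)
def n210126 : Q := act 3 n137645
theorem D210126 : act 3 n137645 = n210126 := rfl
def n210127 : Q := act 4 n137645
theorem D210127 : act 4 n137645 = n210127 := rfl
def n210128 : Q := act 5 n137645
theorem D210128 : act 5 n137645 = n210128 := rfl
theorem F456273 : act 0 n210128 = n202247 := d21_1 D210128 (iv5 D202247) (iv6 D115503) F165173 (iv6 F351547) F245374 (iv1 F245037) (iv5 F245039) F110969 D137645
theorem F456274 : act 6 n196523 = n137645 := d21_5 (iv5 F400950) (iv1 D196520) (iv5 D107049) D107050 D196523 D210128 F456273 (iv5 D202247) (iv6 D115503) F165173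
theorem F456275 : act 6 n210125 = n152791 := d3_2 F456274 D210125 F400965
theorem F456276 : act 3 n152741 = n210125 := d7_3 F456275 (iv3 D152791) (iv6 F239942)
theorem F456277 : act 0 n137647 = n210125 := d21_4 (iv5 F245379) (iv1 D155984) F245039 F245035 F456275 (iv5 F429105) F429106 (iv5 D156148) (iv6 D74280) D74276
theorem F456278 : act 5 n210125 = n202260 := d21_6 (iv5 F359951) (iv1 F400936) (iv5 D196517) D196518 F402306 (iv6 F456275) (iv1 D202260) (iv5 D115510) (iv6 D53284) D53280
theorem F456279 : act 2 n202260 = n210128 := d2_1 F456278 (iv5 D210128) D210125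
theorem F456280 : act 1 n137649 = n210125 := d15_0 (iv0 F456277) (iv7 F456270) (iv2 F456269)
theorem F456281 : act 1 n210128 = n202261 := d15_1 (iv0 F456273) (iv7 D202261) (iv2 F423393)
def n210129 : Q := act 7 n137645
theorem D210129 : act 7 n137645 = n210129 := rfl
theorem F456282 : act 2 n210129 = n137646 := d4_1 D210129 F456272 (iv2 D210125)
theorem F456283 : act 1 n137647 = n210129 := d15_1 (iv0 F456277) (iv7 D210129) D210125
theorem F456284 : act 1 n210129 = n137649 := d15_1 F456283 (iv7 D137649) D137647
def n210130 : Q := act 3 n137646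
theorem D210130 : act 3 n137646 = n210130 := rfl
theorem F456285 : act 4 n210130 = n182069 := d5_2 F409156 D210130 F283474 (iv4 F330094) (iv3 F409154)
theorem F456286 : act 6 n210130 = n202165 := d7_2 F409164 D210130 F423098
theorem F456287 : act 7 n210130 = n152741 := d8_2 (iv7 F456272) D210130 F456276
theorem F456288 : act 2 n152740 = n210130 := d4_3 F456287 (iv2 F397526) F397528
theorem F456289 : act 1 n152323 = n210130 := d15_1 F397530 F456287 (iv2 F397526)
theorem F456290 : act 5 n202733 = n210130 := d16_7 (iv4 D195597) (iv5 D105903) (iv4 F120193) (iv5 F347049) (iv4 D136965) D136966 (iv4 F431869) F456287 (iv2 F397526)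
theorem F456291 : act 1 n210130 = n152321 := d17_6 (iv1 D136974) (iv5 D64376) D64374 D136966 (iv4 F431869) F456290 (iv5 F453044) (iv0 F454998) (iv4 D209800)
def n210131 : Q := act 5 n137646
theorem D210131 : act 5 n137646 = n210131 := rfl
theorem F456292 : act 3 n210131 = n202733 := d6_1 D210131 F456290 (iv3 D210130)
theorem F456293 : act 6 n210131 = n193891 := d12_2 F409164 D210131 F391305 (iv6 F288747) (iv5 F409165)
theorem F456294 : act 7 n210131 = n202260 := d13_2 (iv7 F456272) D210131 (iv5 F456278)
theorem F456295 : act 0 n202247 = n210131 := d21_7 F423962 (iv1 F366036) (iv5 F401355) (iv6 D196652) (iv1 F165170) D115503 D202247 (iv5 D210131) (iv6 F409164) F423964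
theorem F456296 : act 1 n202261 = n210131 := d15_1 F456281 F456294 F456279
theorem F456297 : act 2 n210131 = n202259 := d15_3 (iv0 D202259) D202260 (iv7 F456294)
theorem F456298 : act 5 n202259 = n210129 := d2_2 D210131 F456297 F456282
theorem F456299 : act 7 n202259 = n210128 := d4_2 (iv7 F456294) F456297 (iv2 F456279)
def n210132 : Q := act 5 n137647
theorem D210132 : act 5 n137647 = n210132 := rfl
theorem F456300 : act 2 n210132 = n137648 := d2_1 D210132 (iv5 D137648) D137647
theorem F456301 : act 3 n210132 = n137651 := d6_1 D210132 (iv5 F245043) F245042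
theorem F456302 : act 6 n210132 = n137648 := d12_2 F245035 D210132 (iv5 D137648) (iv6 F110969) F245039
def n210133 : Q := act 0 n137648
theorem D210133 : act 0 n137648 = n210133 := rfl
def n210134 : Q := act 4 n137648
theorem D210134 : act 4 n137648 = n210134 := rfl
def n210135 : Q := act 7 n137648
theorem D210135 : act 7 n137648 = n210135 := rfl
theorem F456303 : act 3 n210135 = n137652 := d8_1 D210135 (iv7 D137652) (iv3 F220806)
theorem F456304 : act 5 n210135 = n137649 := d13_1 D210135 (iv7 D137649) D137648
def n210136 : Q := act 7 n137651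
theorem D210136 : act 7 n137651 = n210136 := rfl
theorem F456305 : act 2 n210136 = n193640 := d4_1 D210136 F390543 F245198
theorem F456306 : act 1 n209826 = n210136 := d15_1 (iv0 F455079) (iv7 D210136) (iv2 F245198)
def n210137 : Q := act 6 n137652
theorem D210137 : act 6 n137652 = n210137 := rfl
theorem F456307 : act 2 n210137 = n193641 := d3_1 D210137 (iv6 D193641) F328983
theorem F456308 : act 4 n210137 = n193637 := d10_1 D210137 (iv6 D193637) (iv4 F357613)
theorem F456309 : act 5 n210137 = n209808 := d12_1 D210137 F455022 F245267 F111127 (iv5 F220808)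
def n210138 : Q := act 6 n137653
theorem D210138 : act 6 n137653 = n210138 := rfl
theorem F456310 : act 2 n210138 = n137873 := d3_1 D210138 (iv6 D137873) (iv2 F220813)
theorem F456311 : act 3 n210138 = n137883 := d7_1 D210138 (iv6 D137883) F220812
theorem F456312 : act 4 n210138 = n176170 := d10_1 D210138 (iv6 F360708) (iv4 F220814)
theorem F456313 : act 7 n210138 = n176167 := d14_2 (iv7 F220810) D210138 (iv6 D176167) (iv7 F325115) (iv6 D137941)
theorem F456314 : act 1 n137709 = n210138 := d15_1 (iv0 F456052) F456313 (iv2 F456048)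
def n210139 : Q := act 1 n137654
theorem D210139 : act 1 n137654 = n210139 := rfl
theorem F456315 : act 7 n210139 = n174813 := d15_2 (iv0 F454259) D210139 (iv2 F454255)
theorem F456316 : act 5 n210139 = n174768 := d17_7 (iv1 D162738) F304295 (iv1 F334387) F345740 (iv4 F240857) (iv5 F355887) D210139 (iv0 F351793) (iv4 F351791)
theorem F456317 : act 4 n210139 = n175717 := d17_9 F333807 (iv5 D84602) (iv1 D39072) D39074 D84609 (iv5 F339096) (iv0 F345839) (iv5 F355887) D210139
theorem F456318 : act 2 n138053 = n210139 := d1_3 F456317 (iv2 F286996) (iv4 F346593)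
theorem F456319 : act 6 n175716 = n210139 := d10_0 F456317 (iv6 D175717) D175716
def n210140 : Q := act 6 n137656
theorem D210140 : act 6 n137656 = n210140 := rfl
theorem F456320 : act 2 n210140 = n147516 := d3_1 D210140 F357296 (iv2 F349718)
theorem F456321 : act 3 n210140 = n202601 := d7_1 D210140 (iv6 D202601) (iv3 F349719)
theorem F456322 : act 4 n210140 = n193147 := d10_1 D210140 F388919 F349707
theorem F456323 : act 5 n210140 = n147338 := d12_1 D210140 F231014 D151167 F412903 F412899
theorem F456324 : act 7 n210140 = n191030 := d14_2 (iv7 F349720) D210140 (iv6 D191030) F292271 D101414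
theorem F456325 : act 1 n137710 = n210140 := d15_1 (iv0 F365537) F456324 F381934
theorem F456326 : act 1 n210140 = n137715 := d15_1 F456325 F386864 F386861
def n210141 : Q := act 5 n137657
theorem D210141 : act 5 n137657 = n210141 := rfl
theorem F456327 : act 3 n210141 = n137658 := d6_1 D210141 (iv5 D137658) D137657
theorem F456328 : act 6 n210141 = n204963 := d12_2 F436443 D210141 (iv5 D204963) D204964 (iv5 F436445)
theorem F456329 : act 0 n210141 = n201328 := d17_2 F449847 D210141 F420033 F223666 (iv5 F447393) (iv0 F447395) F436574 F216729 D208550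
theorem F456330 : act 1 n210141 = n208822 := d17_6 F354176 F223102 F354178 (iv5 F350886) (iv4 F220828) D210141 (iv5 F454435) F454437 F400159
def n210142 : Q := act 0 n137658
theorem D210142 : act 0 n137658 = n210142 := rfl
theorem F456331 : act 4 n210142 = n199691 := d18_1 D210142 F413139 (iv4 F400318) (iv5 D196321) (iv4 F220709) F345445 (iv4 F345447) (iv0 D137655) D137658
theorem F456332 : act 2 n199551 = n210142 := d15_3 (iv0 D210142) (iv0 F451093) F451092
theorem F456333 : act 1 n137670 = n210142 := d15_0 (iv0 D210142) (iv7 F453017) F453014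
theorem F456334 : act 7 n210142 = n199552 := d15_2 (iv0 F451095) F456333 (iv2 F451096)
theorem F456335 : act 3 n187949 = n210142 := d20_3 (iv4 F370740) (iv1 F370744) D187949 (iv1 F456333) (iv3 F222514) (iv4 D139327) D139325 (iv4 F388737) F388735 (iv1 F371886)
def n210143 : Q := act 4 n137661
theorem D210143 : act 4 n137661 = n210143 := rfl
theorem F456336 : act 2 n210143 = n138207 := d1_1 D210143 (iv4 D138207) (iv2 F351805)
theorem F456337 : act 5 n210143 = n154698 := d9_2 (iv5 F338928) D210143 (iv4 D154698) F309639 (iv4 F132825) F309644 D86617 (iv5 F351799) (iv4 F400526) (iv5 F400529) (iv4 D154695) D154696 F310914 (iv5 D86613) D86612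
theorem F456338 : act 0 n210143 = n157596 := d17_0 (iv5 F345683) (iv1 F389183) (iv5 D193210) F366816 F242668 F240484 D153294 (iv0 F338927) D210143
theorem F456339 : act 1 n210143 = n137686 := d18_6 (iv1 D47141) F35250 D40150 D86612 (iv5 F338928) D210143 F339063 (iv0 F306903) (iv5 D101228)
theorem F456340 : act 3 n210143 = n205446 := d20_5 F350158 (iv1 D66616) (iv4 F102555) (iv3 F220856) (iv1 F456339) F436465 F404008 (iv4 F434376) F434375 F351570
def n210144 : Q := act 6 n137661
theorem D210144 : act 6 n137661 = n210144 := rfl
theorem F456341 : act 2 n210144 = n138209 := d3_1 D210144 (iv6 D138209) (iv2 F351805)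
theorem F456342 : act 0 n210144 = n137717 := d21_4 (iv5 D87387) (iv1 F286202) (iv5 F338928) D210144 (iv6 D137717) (iv5 F350790) (iv1 D117558) D117560 F314961 (iv1 F308104)
def n210145 : Q := act 4 n137668
theorem D210145 : act 4 n137668 = n210145 := rfl
theorem F456343 : act 3 n210145 = n195780 := d5_1 D210145 F398145 F203037 F176460 (iv3 F220835)
theorem F456344 : act 6 n210145 = n191713 := d10_2 F448698 D210145 (iv4 F448696)
theorem F456345 : act 1 n210145 = n195570 := d18_6 F99525 (iv4 F103071) F220834 (iv4 D137667) D137668 D210145 (iv4 F452687) (iv0 F452690) F218743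
def n210146 : Q := act 6 n137690
theorem D210146 : act 6 n137690 = n210146 := rfl
theorem F456346 : act 3 n210146 = n199557 := d7_1 D210146 F412661 (iv3 F220865)
theorem F456347 : act 4 n210146 = n199747 := d10_1 D210146 F413348 (iv4 F220863)
theorem F456348 : act 7 n210146 = n197889 := d14_2 F223865 D210146 (iv6 D197889) F219104 F355984
theorem F456349 : act 0 n210146 = n204971 := d21_4 F164791 D108842 F220864 D210146 (iv6 D204971) F200563 (iv1 F314703) D156608 (iv6 F400331) F400333
theorem F456350 : act 5 n170857 = n210146 := d21_8 (iv5 D194745) F329344 (iv5 F363660) F178304 D114364 (iv6 F372030) (iv5 D170860) D170857 (iv6 D210146) (iv1 F394327)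
theorem F456351 : act 1 n210146 = n170879 := d15_1 (iv0 F456349) (iv7 F430685) (iv2 F434388)
def n210147 : Q := act 4 n137691
theorem D210147 : act 4 n137691 = n210147 := rfl
theorem F456352 : act 2 n210147 = n198798 := d1_1 D210147 F409297 F394330
theorem F456353 : act 3 n210147 = n199704 := d5_1 D210147 (iv4 F413182) (iv3 F413183) D201317 F419998
theorem F456354 : act 5 n210147 = n198797 := d9_2 F394331 D210147 F409290 (iv5 F220914) F225944 F225943 (iv4 F220313) F220864 F220863 (iv5 D111699) D111698 (iv5 F220883) (iv4 F220884) (iv5 F220885) F218715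
theorem F456355 : act 6 n210147 = n197902 := d10_2 (iv6 F394332) D210147 (iv4 D197902)
theorem F456356 : act 7 n210147 = n199760 := d11_2 F400335 D210147 F413375
theorem F456357 : act 0 n210147 = n154714 := d17_0 F350079 F380724 (iv5 F409313) F409312 (iv5 D137685) (iv0 D64722) D64724 D137691 D210147
theorem F456358 : act 1 n210147 = n199761 := d18_6 F424054 F424052 F389486 F218715 F394331 D210147 F413377 (iv0 F412066) F412061
def n210148 : Q := act 6 n137694
theorem D210148 : act 6 n137694 = n210148 := rfl
theorem F456359 : act 2 n210148 = n166067 := d3_1 D210148 (iv6 F389294) F389292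
theorem F456360 : act 5 n210148 = n206079 := d12_1 D210148 F439160 F402095 F242941 F381494
def n210149 : Q := act 4 n137697
theorem D210149 : act 4 n137697 = n210149 := rfl
theorem F456361 : act 2 n210149 = n140355 := d1_1 D210149 F223470 F220879
theorem F456362 : act 3 n210149 = n207847 := d5_1 D210149 (iv4 D207847) F354172 (iv4 F177034) (iv3 F220870)
theorem F456363 : act 7 n210149 = n205852 := d11_2 (iv7 F220871) D210149 (iv4 D205852)
theorem F456364 : act 0 n210149 = n209717 := d17_0 F454736 (iv1 D199552) (iv5 F219088) (iv4 D136119) D136120 F219117 (iv5 F203888) F220874 D210149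
theorem F456365 : act 1 n210149 = n140494 := d18_6 F349657 (iv4 F345918) (iv1 D113345) F106586 D137697 D210149 (iv4 F223848) F223847 (iv5 F349662)
def n210150 : Q := act 6 n137697
theorem D210150 : act 6 n137697 = n210150 := rfl
theorem F456366 : act 2 n210150 = n205855 := d3_1 D210150 (iv6 D205855) F220879
theorem F456367 : act 3 n210150 = n201044 := d7_1 D210150 (iv6 D201044) (iv3 F220870)
theorem F456368 : act 0 n210150 = n209701 := d21_4 D30448 D64726 D137697 D210150 F454671 F448172 (iv1 F394003) (iv5 D136550) F338931 (iv1 D30445)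
theorem F456369 : act 0 n182255 = n210150 := d21_4 (iv5 F134175) (iv1 D87016) D87017 (iv6 F283698) (iv6 D210150) (iv5 D137697) F329588 F294517 (iv6 D48260) (iv1 F75833)
theorem F456370 : act 7 n209700 = n210150 := d15_2 (iv0 F438153) F454669 F456366
def n210151 : Q := act 5 n137698
theorem D210151 : act 5 n137698 = n210151 := rfl
theorem F456371 : act 2 n210151 = n209634 := d2_1 D210151 F454408 (iv2 F391838)
theorem F456372 : act 3 n210151 = n137699 := d6_1 D210151 (iv5 D137699) D137698
theorem F456373 : act 7 n210151 = n205854 := d13_2 F391843 D210151 F438149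
theorem F456374 : act 0 n210151 = n139434 := d17_2 F391769 D210151 (iv5 F395997) F395992 (iv5 F186816) D203356 (iv5 F428023) (iv0 F423361) F423359
theorem F456375 : act 1 n210151 = n139439 := d17_8 (iv1 D65442) D65444 D139444 F225853 (iv4 F333128) (iv5 F391851) F391853 D210151 (iv4 D139439)
theorem F456376 : act 4 n210151 = n192949 := d18_5 (iv1 F220983) D143275 (iv1 F451733) F451734 D210151 (iv0 F388314) (iv4 D136870) (iv0 D64342) D64345
def n210152 : Q := act 6 n137699
theorem D210152 : act 6 n137699 = n210152 := rfl
theorem F456377 : act 2 n210152 = n205853 := d3_1 D210152 (iv6 D205853) (iv2 F220876)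
theorem F456378 : act 0 n210152 = n198583 := d21_4 (iv5 F294517) (iv1 F329587) D137699 D210152 (iv6 F408395) F242668 (iv1 F240483) F338929 (iv6 D64713) F329343
theorem F456379 : act 7 n209678 = n210152 := d15_2 (iv0 F438148) D209678 F456377
def n210153 : Q := act 1 n137700
theorem D210153 : act 1 n137700 = n210153 := rfl
theorem F456380 : act 1 n210153 = n196108 := d15_1 D210153 F399443 F398835
theorem F456381 : act 4 n210153 = n207475 := d17_9 (iv1 F450027) F450025 (iv1 D188444) F359026 F213565 F337796 D183166 (iv5 F364105) D210153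
theorem F456382 : act 3 n206860 = n210153 := d20_3 F98703 D129432 D206860 (iv1 D210153) (iv3 F405044) (iv4 F430474) (iv1 F430478) (iv4 F450334) (iv3 D208651) (iv1 D134883)
theorem F456383 : act 2 n210153 = n206777 := d0_1 F456382 (iv3 D206777) F217697 D207284 (iv2 F444145)
theorem F456384 : act 5 n208823 = n210153 := d2_0 F456383 F442151 D208823
def n210154 : Q := act 5 n137703
theorem D210154 : act 5 n137703 = n210154 := rfl
theorem F456385 : act 2 n210154 = n163531 := d2_1 D210154 (iv5 F380861) F380858
theorem F456386 : act 3 n210154 = n207759 := d6_1 D210154 (iv5 D207759) (iv3 F359787)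
theorem F456387 : act 4 n210154 = n162951 := d9_1 D210154 F342743 (iv4 F427685) F427684 F380683 F148447 (iv4 F148591) D190733 F380856 F337589 (iv4 F273970) (iv5 F355022) F233663 F329082 (iv4 F220925)
theorem F456388 : act 6 n210154 = n162949 := d12_2 D137703 D210154 F418217 (iv6 D200868) F176743
theorem F456389 : act 7 n210154 = n163026 := d13_2 F359789 D210154 F359799
theorem F456390 : act 0 n210154 = n208367 := d17_2 F352614 D210154 (iv5 D208367) (iv4 D134225) (iv5 F354992) F368232 F368231 F215999 D134120
theorem F456391 : act 1 n210154 = n208364 := d17_6 (iv1 F355011) (iv5 F380685) (iv1 F380690) F329082 (iv4 F220925) D210154 (iv5 D208364) F355044 (iv4 F349808)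
def n210155 : Q := act 3 n137710
theorem D210155 : act 3 n137710 = n210155 := rfl
theorem F456392 : act 2 n210155 = n155857 := d0_1 D210155 F365243 F158759 (iv3 F386862) F386861
theorem F456393 : act 4 n210155 = n148672 := d5_2 D137710 D210155 F455843 F455839 (iv3 D137709)
theorem F456394 : act 6 n210155 = n148670 := d7_2 (iv6 F386855) D210155 (iv3 F386851)
theorem F456395 : act 0 n210155 = n206036 := d19_4 D117557 F355528 D137710 D210155 (iv5 D206036) (iv4 F218930) (iv3 D136052) (iv1 D63971) D63972 (iv4 F328457) F83061 F54315 (iv5 D31555) (iv4 F41173) F41172 (iv1 F27312) (iv5 F41535) D26206 D54163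
def n210156 : Q := act 5 n137710
theorem D210156 : act 5 n137710 = n210156 := rfl
theorem F456396 : act 2 n210156 = n179638 := d2_1 D210156 F386865 F386861
theorem F456397 : act 4 n210156 = n179637 := d9_1 D210156 F279744 (iv4 F243358) (iv5 F350722) F350726 F350790 D137715 F355523 F276669 (iv5 F313262) (iv4 F243297) F350773 (iv4 F355527) F355528 D137710
theorem F456398 : act 6 n210156 = n194528 := d21_3 (iv5 F456323) (iv1 F456325) D210156 (iv1 F393592) (iv6 D116858) D116857 (iv1 F225592) (iv5 D142697) D142698 F350011
theorem F456399 : act 1 n157184 = n210156 := d18_6 (iv1 F440421) F440420 F354105 (iv4 F355122) F318119 (iv4 F247377) F456397 (iv0 F341034) (iv5 F355129)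
theorem F456400 : act 3 n210156 = n206532 := d20_3 F348827 F341034 (iv4 F456397) (iv1 D206532) (iv3 D128804) (iv4 D60576) D60574 D128800 (iv3 F364420) (iv1 F355146)
theorem F456401 : act 5 n206532 = n210155 := d6_2 D210156 F456400 (iv3 D210155)
theorem F456402 : act 6 n206532 = n145315 := d7_2 (iv6 F456398) F456400 (iv3 F393596)
def n210157 : Q := act 5 n137712
theorem D210157 : act 5 n137712 = n210157 := rfl
theorem F456403 : act 7 n210157 = n193840 := d13_2 (iv7 F452594) D210157 (iv5 F452591)
theorem F456404 : act 4 n210157 = n193842 := d16_2 F386852 D210157 F391174 F351174 D192747 (iv4 F393175) F393176 F384873 D192502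
def n210158 : Q := act 6 n137714
theorem D210158 : act 6 n137714 = n210158 := rfl
theorem F456405 : act 3 n210158 = n137717 := d7_1 D210158 (iv6 D137717) D137714
theorem F456406 : act 0 n204787 = n210158 := d21_4 (iv5 D98878) F351761 D124362 D204787 (iv6 D210158) F357293 (iv1 D67169) D67171 D143404 F349510
def n210159 : Q := act 6 n137715
theorem D210159 : act 6 n137715 = n210159 := rfl
theorem F456407 : act 4 n210159 = n137717 := d10_1 D210159 (iv6 D137717) D137715
def n210160 : Q := act 0 n137717
theorem D210160 : act 0 n137717 = n210160 := rfl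
def n210161 : Q := act 7 n137717
theorem D210161 : act 7 n137717 = n210161 := rfl
theorem F456408 : act 1 n138209 = n210161 := d15_1 (iv0 F394304) (iv7 D210161) (iv2 F394303)
def n210162 : Q := act 3 n137729
theorem D210162 : act 3 n137729 = n210162 := rfl
theorem F456409 : act 4 n210162 = n206866 := d5_2 (iv4 F438620) D210162 F447599 (iv4 F447602) (iv3 F447603)
theorem F456410 : act 6 n210162 = n191549 := d7_2 (iv6 F397622) D210162 F397621
theorem F456411 : act 7 n210162 = n209698 := d8_2 F397625 D210162 (iv3 D209698)
theorem F456412 : act 0 n137821 = n210162 := d21_4 (iv5 F204037) F360520 (iv5 D137820) D137821 F456410 (iv5 F383768) (iv1 F387299) F387296 (iv6 F367704) F360510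
def n210163 : Q := act 5 n137729
theorem D210163 : act 5 n137729 = n210163 := rfl
theorem F456413 : act 2 n210163 = n203193 := d2_1 D210163 F427375 F397623
theorem F456414 : act 6 n210163 = n179755 := d12_2 (iv6 F397622) D210163 F279975 (iv6 F361078) (iv5 F397616)
theorem F456415 : act 7 n210163 = n209699 := d13_2 F397625 D210163 (iv5 D209699)
theorem F456416 : act 1 n210163 = n204088 := d17_6 D130221 F425392 F425391 (iv5 F438616) (iv4 F438620) D210163 F431034 (iv0 F337778) F208740
def n210164 : Q := act 5 n137730
theorem D210164 : act 5 n137730 = n210164 := rfl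
theorem F456417 : act 2 n210164 = n209699 := d2_1 D210164 (iv5 D209699) (iv2 F397626)
theorem F456418 : act 7 n210164 = n203193 := d13_2 (iv7 F397624) D210164 F427375
theorem F456419 : act 4 n210164 = n203194 := d16_2 F438628 D210164 F427380 (iv4 F361464) F319503 (iv4 F225299) (iv5 F438616) (iv7 F438621) (iv2 F438626)
theorem F456420 : act 0 n210164 = n204088 := d17_2 (iv1 F220953) D210164 F431034 (iv4 D129769) F323492 D148386 (iv5 F352081) F352080 (iv4 F334127)
def n210165 : Q := act 6 n137730
theorem D210165 : act 6 n137730 = n210165 := rfl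
theorem F456421 : act 2 n210165 = n152707 := d3_1 D210165 F371529 (iv2 F397626)
theorem F456422 : act 3 n210165 = n189898 := d7_1 D210165 (iv6 F378157) F397627
theorem F456423 : act 4 n210165 = n152313 := d10_1 D210165 F438624 F438628
theorem F456424 : act 7 n210165 = n152732 := d14_2 (iv7 F397624) D210165 F397634 F397629 F364102
theorem F456425 : act 5 n210165 = n208838 := d21_6 (iv5 F217339) (iv1 F444160) (iv5 D207287) F327503 (iv1 F220953) D210165 (iv1 D208838) (iv5 D135161) (iv6 D63517) (iv1 F213167)
theorem F456426 : act 0 n137849 = n210165 := d21_4 F337814 F295242 (iv5 F333861) D137849 (iv6 D210165) D210164 F456420 F431034 (iv6 F324215) (iv1 F337812)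
theorem F456427 : act 1 n204989 = n210165 := d18_8 (iv1 D208838) F347119 F366263 D202349 F423714 (iv4 F421418) F239423 D204989 F456425
def n210166 : Q := act 5 n137734
theorem D210166 : act 5 n137734 = n210166 := rfl
theorem F456428 : act 2 n210166 = n138292 := d2_1 D210166 (iv5 F329460) (iv2 F333082)
theorem F456429 : act 3 n210166 = n209287 := d6_1 D210166 (iv5 F453051) F333090
theorem F456430 : act 4 n210166 = n143125 := d9_1 D210166 (iv5 D143125) (iv4 D67068) (iv5 F103079) (iv4 F100285) (iv5 F103080) D137907 (iv5 F424514) F424512 (iv5 F328574) (iv4 D66854) F49503 (iv4 F79933) (iv5 F100613) D137734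
theorem F456431 : act 6 n210166 = n138290 := d12_2 F444247 D210166 F365415 F252175 (iv5 F444246)
theorem F456432 : act 7 n210166 = n209689 := d13_2 (iv7 F220978) D210166 (iv5 D209689)
theorem F456433 : act 0 n210166 = n203141 := d17_2 (iv1 F220980) D210166 F427130 (iv4 F408487) (iv5 D198603) (iv0 F182582) F180639 F103038 D67124
theorem F456434 : act 1 n210166 = n203138 := d17_6 D64849 F169671 (iv1 D109593) (iv5 F100613) D137734 D210166 F427116 (iv0 D137981) (iv4 D64851)
def n210167 : Q := act 6 n137780
theorem D210167 : act 6 n137780 = n210167 := rfl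
theorem F456435 : act 2 n210167 = n196768 := d3_1 D210167 (iv6 D196768) (iv2 F221026)
theorem F456436 : act 3 n210167 = n199497 := d7_1 D210167 F412398 F397058
theorem F456437 : act 4 n210167 = n137782 := d10_1 D210167 (iv6 D137782) D137780
theorem F456438 : act 5 n199496 = n210167 := d16_1 (iv4 F412392) F456437 (iv5 F371284) F428343 (iv5 F428574) F428573 D206331 F440281 F259373
theorem F456439 : act 0 n204820 = n210167 := d18_0 F456437 F411313 (iv4 D199246) D199247 (iv4 F428770) F428772 F402877 F362471 (iv5 F433708)
theorem F456440 : act 1 n193180 = n210167 := d18_6 F431694 (iv4 F389004) F389006 (iv4 D101316) D101317 D193180 F456437 F411321 F431695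
theorem F456441 : act 0 n196957 = n209726 := d21_4 F336129 F228375 (iv5 F166901) D196957 F454770 (iv5 D199591) F412396 F456438 (iv6 D210167) (iv1 F336128)
def n210168 : Q := act 0 n137784
theorem D210168 : act 0 n137784 = n210168 := rfl
theorem F456442 : act 5 n210168 = n195560 := d17_3 (iv1 F389788) (iv5 F362494) D210168 F397350 (iv5 D164521) (iv0 D79011) D79013 (iv0 F339374) (iv4 F389787)
theorem F456443 : act 4 n210168 = n143550 := d18_3 (iv1 D137788) (iv4 F221031) D210168 (iv5 F358055) (iv4 F351873) (iv0 F383601) F383600 F366233 (iv5 F362505)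
theorem F456444 : act 3 n143544 = n210168 := d5_5 F456443 (iv3 D143550) (iv4 D67226) D67225 D143544
theorem F456445 : act 6 n195562 = n210168 := d12_0 F456442 (iv6 D195560) (iv5 D105709) D105710 D195562
def n210169 : Q := act 1 n137784
theorem D210169 : act 1 n137784 = n210169 := rfl
theorem F456446 : act 4 n210169 = n204339 := d18_7 D133590 F215546 F381155 F381154 (iv5 D137789) (iv4 F221031) D210169 F432105 (iv5 D133592)
def n210170 : Q := act 5 n137786
theorem D210170 : act 5 n137786 = n210170 := rfl
theorem F456447 : act 2 n210170 = n192636 := d2_1 D210170 F387296 F367703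
theorem F456448 : act 3 n210170 = n208940 := d6_1 D210170 F451483 F383795
theorem F456449 : act 6 n210170 = n137789 := d12_2 D137786 D210170 (iv5 D137789) (iv6 D64759) D64758
theorem F456450 : act 7 n210170 = n192632 := d13_2 F383843 D210170 F387282
theorem F456451 : act 1 n210170 = n192634 := d17_8 (iv1 F187522) (iv5 F103918) F314862 (iv5 F314865) F305760 (iv5 F337827) (iv0 F365465) D210170 F387287
theorem F456452 : act 0 n210170 = n192635 := d18_0 F387293 (iv1 D119168) (iv4 F187516) (iv5 F358458) (iv4 F446800) F446806 F442301 (iv0 F365465) D210170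
def n210171 : Q := act 4 n137788
theorem D210171 : act 4 n137788 = n210171 := rfl
theorem F456453 : act 2 n210171 = n138221 := d1_1 D210171 (iv4 D138221) (iv2 F362503)
theorem F456454 : act 5 n210171 = n195409 := d9_2 (iv5 F362505) D210171 F396920 F323812 (iv4 D71993) D71994 (iv4 F305768) (iv5 F351865) (iv4 F397230) (iv5 F429380) (iv4 D203677) (iv5 D120231) (iv4 D55327) D55328 D120233
theorem F456455 : act 0 n210171 = n137803 := d18_2 F444902 D210171 F221044 (iv5 F358056) F214909 (iv0 F130753) D120182 (iv0 F210757) D207436
theorem F456456 : act 1 n210171 = n197319 := d18_6 (iv1 F385407) F304177 F305742 D120233 (iv5 F362505) D210171 F403954 F455889 F455888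
theorem F456457 : act 3 n195410 = n210171 := d6_3 F456454 (iv3 D195409) D195410
def n210172 : Q := act 5 n137801
theorem D210172 : act 5 n137801 = n210172 := rfl
theorem F456458 : act 3 n210172 = n137802 := d6_1 D210172 (iv5 D137802) D137801
theorem F456459 : act 7 n210172 = n195301 := d13_2 F396949 D210172 (iv5 F396948)
theorem F456460 : act 4 n210172 = n196314 := d16_2 (iv4 F221043) D210172 F455567 (iv4 D209966) (iv5 D137198) D137197 (iv5 F364307) (iv7 F423594) F423592
theorem F456461 : act 6 n195443 = n210172 := d10_0 F456460 F400299 (iv4 F397002)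
def n210173 : Q := act 6 n137801
theorem D210173 : act 6 n137801 = n210173 := rfl
theorem F456462 : act 3 n210173 = n137803 := d7_1 D210173 (iv6 D137803) D137801
theorem F456463 : act 4 n210173 = n177632 := d10_1 D210173 F345847 (iv4 F221043)
theorem F456464 : act 0 n210173 = n196717 := d19_4 (iv1 F239825) F358056 (iv4 F221044) (iv3 F456462) (iv5 D196717) (iv4 F169682) (iv3 F402480) F402481 (iv5 D162985) F119584 (iv3 D35723) F41764 (iv5 F60081) F309178 D74160 (iv1 F244923) (iv5 F166790) (iv4 F239011) F239822
def n210174 : Q := act 3 n137805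
theorem D210174 : act 3 n137805 = n210174 := rfl
theorem F456465 : act 5 n210174 = n195359 := d6_2 F347236 D210174 (iv3 D195359)
theorem F456466 : act 6 n210174 = n196607 := d7_2 F404350 D210174 F404359
theorem F456467 : act 7 n210174 = n207842 := d8_2 (iv7 F344617) D210174 (iv3 D207842)
theorem F456468 : act 0 n210174 = n199214 := d19_4 F203689 F104434 (iv4 F344616) D210174 (iv5 F438089) F438088 F359108 (iv1 F382336) (iv5 F355499) (iv4 F374582) F374581 (iv1 D106126) (iv5 F114347) (iv4 F251174) F362932 (iv1 F406499) (iv5 F437497) F437496 (iv3 F203687)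
theorem F456469 : act 0 n197295 = n210174 := d20_4 F434700 F434220 (iv4 F448546) F448544 (iv3 D210174) F344616 (iv1 D68278) (iv4 F104429) (iv3 F228674) (iv1 F434699)
def n210175 : Q := act 3 n137808
theorem D210175 : act 3 n137808 = n210175 := rfl
theorem F456470 : act 0 n202342 = n210175 := d20_4 (iv4 D66682) (iv1 F321537) D118223 (iv3 F423697) (iv3 D210175) F385447 (iv1 D192076) D192077 F385446 (iv1 D142252)
def n210176 : Q := act 5 n137808
theorem D210176 : act 5 n137808 = n210176 := rfl
def n210177 : Q := act 6 n137808
theorem D210177 : act 6 n137808 = n210177 := rfl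
theorem F456471 : act 2 n210177 = n193418 := d3_1 D210177 (iv6 F390342) F390340
theorem F456472 : act 4 n210177 = n193438 := d10_1 D210177 F389823 (iv4 F385447)
def n210178 : Q := act 3 n137809
theorem D210178 : act 3 n137809 = n210178 := rfl
theorem F456473 : act 4 n210178 = n172031 := d5_2 F385443 D210178 F270081 (iv4 F327389) (iv3 F385444)
theorem F456474 : act 7 n210178 = n172030 := d8_2 F390343 D210178 (iv3 F390341)
theorem F456475 : act 1 n208929 = n210178 := d15_1 (iv0 F451450) F456474 (iv2 F428551)
def n210179 : Q := act 5 n137809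
theorem D210179 : act 5 n137809 = n210179 := rfl
theorem F456476 : act 4 n210179 = n198037 := d16_4 F378820 (iv5 F385442) F385443 D210179 F412987 F412985 F381219 F381217 F381212
theorem F456477 : act 0 n210179 = n197273 := d17_2 F386241 D210179 (iv5 D197273) (iv4 F385837) (iv5 F391436) F391430 (iv5 D137838) (iv0 F329330) D192265
def n210180 : Q := act 6 n137809
theorem D210180 : act 6 n137809 = n210180 := rfl
theorem F456478 : act 4 n210180 = n209439 := d10_1 D210180 F453711 F385443
theorem F456479 : act 0 n197322 = n210180 := d21_4 F167073 D113089 F176179 D197322 (iv6 D210180) D210179 F456477 (iv5 D197273) (iv6 D108063) D108059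
theorem F456480 : act 0 n210180 = n197327 := d20_1 (iv4 F456478) (iv4 F452552) F452551 (iv1 F218609) D136505 F219617 (iv1 F319249) (iv4 F101028) (iv3 F222287) F453712
def n210181 : Q := act 0 n137810
theorem D210181 : act 0 n137810 = n210181 := rfl
theorem F456481 : act 6 n210181 = n195317 := d21_5 (iv5 D105567) D105565 D195403 F396914 D210181 F396681 (iv1 D144408) D144410 (iv6 F436474) (iv1 D195406)
def n210182 : Q := act 1 n137810
theorem D210182 : act 1 n137810 = n210182 := rfl
def n210183 : Q := act 4 n137810
theorem D210183 : act 4 n137810 = n210183 := rfl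
theorem F456482 : act 3 n210183 = n175125 := d5_1 D210183 F274105 (iv3 F274073) (iv4 F396654) F396653
theorem F456483 : act 5 n210183 = n189866 := d16_3 (iv4 F100627) D137810 D210183 (iv4 D189866) (iv5 D95349) (iv4 F73785) D99947 F153881 F328973
theorem F456484 : act 0 n210183 = n169875 := d20_7 F397204 (iv1 D155942) (iv4 F244941) F244940 (iv1 F396655) F396653 D210183 F386263 F386262 (iv1 F427304)
theorem F456485 : act 4 n199527 = n210182 := d20_6 (iv4 D178518) (iv1 D84954) D84955 D178521 F341267 (iv3 F412531) (iv1 D210182) D210183 F456482 (iv1 F278192)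
theorem F456486 : act 1 n210183 = n194492 := d15_1 (iv0 F456484) (iv7 F394646) F394645
theorem F456487 : act 7 n175123 = n210183 := d13_0 F456483 (iv7 F380594) (iv5 F380596)
def n210184 : Q := act 7 n137810
theorem D210184 : act 7 n137810 = n210184 := rfl
theorem F456488 : act 3 n210184 = n175105 := d8_1 D210184 F396656 F396653
theorem F456489 : act 4 n210184 = n175123 := d11_1 D210184 F456487 (iv4 D210183)
theorem F456490 : act 5 n210184 = n137811 := d13_1 D210184 (iv7 D137811) D137810
def n210185 : Q := act 6 n137815
theorem D210185 : act 6 n137815 = n210185 := rfl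
theorem F456491 : act 2 n210185 = n205935 := d3_1 D210185 (iv6 D205935) F386029
theorem F456492 : act 3 n210185 = n209906 := d7_1 D210185 (iv6 D209906) (iv3 F361812)
theorem F456493 : act 0 n210185 = n209675 := d21_4 D30463 D64767 D137815 D210185 F454594 F383624 (iv1 F362501) (iv5 D137789) (iv6 D64759) (iv1 D30460)
theorem F456494 : act 0 n198586 = n210185 := d21_4 F391545 (iv1 D117536) D117538 (iv6 F408410) (iv6 D210185) (iv5 D137815) (iv1 F219055) (iv5 D136099) D136100 (iv1 F391547)
def n210186 : Q := act 7 n137816
theorem D210186 : act 7 n137816 = n210186 := rfl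
theorem F456495 : act 3 n210186 = n188180 := d8_1 D210186 F372595 (iv3 F347282)
theorem F456496 : act 5 n210186 = n188179 := d13_1 D210186 (iv7 F375654) F375653
theorem F456497 : act 1 n206860 = n210186 := d15_1 (iv0 F453011) (iv7 D210186) (iv2 F453008)
theorem F456498 : act 1 n210186 = n206776 := d15_1 F456497 (iv7 F444143) (iv2 F444145)
def n210187 : Q := act 5 n137818
theorem D210187 : act 5 n137818 = n210187 := rfl
theorem F456499 : act 2 n210187 = n199137 := d2_1 D210187 F410839 F391957
theorem F456500 : act 3 n210187 = n137820 := d6_1 D210187 (iv5 D137820) D137818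
theorem F456501 : act 7 n210187 = n199207 := d13_2 F453002 D210187 (iv5 F453001)
theorem F456502 : act 0 n210187 = n196900 := d17_2 (iv1 F345912) D210187 (iv5 F402219) (iv4 F230237) (iv5 F454319) F455970 (iv5 D210056) (iv0 F221113) (iv4 D137886)
theorem F456503 : act 4 n210187 = n199136 := d17_4 (iv1 D64805) D64807 (iv1 F345912) D210187 F410833 F402285 (iv5 F336148) F336149 F172299
theorem F456504 : act 1 n210187 = n196902 := d17_8 (iv1 D107439) F78382 D68118 F177271 D111103 D199240 (iv0 F411285) D210187 (iv4 D196902)
def n210188 : Q := act 6 n137818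
theorem D210188 : act 6 n137818 = n210188 := rfl
theorem F456505 : act 3 n210188 = n137821 := d7_1 D210188 (iv6 D137821) D137818
def n210189 : Q := act 6 n137820
theorem D210189 : act 6 n137820 = n210189 := rfl
theorem F456506 : act 2 n210189 = n205934 := d3_1 D210189 (iv6 D205934) (iv2 F386030)
theorem F456507 : act 0 n210189 = n205085 := d21_4 D136099 (iv1 F219054) D137820 D210189 (iv6 D205085) F201751 (iv1 F393993) (iv5 D136574) (iv6 F352948) (iv1 F99583)
theorem F456508 : act 0 n209704 = n210189 := d21_4 D102486 F157431 D189600 (iv6 F454677) (iv6 D210189) (iv5 D137820) (iv1 D64768) (iv5 D30463) D30464 (iv1 F328974)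
theorem F456509 : act 7 n209703 = n210189 := d15_2 (iv0 F438489) D209703 F456506
def n210190 : Q := act 1 n137821
theorem D210190 : act 1 n137821 = n210190 := rfl
def n210191 : Q := act 5 n137821
theorem D210191 : act 5 n137821 = n210191 := rfl
theorem F456510 : act 0 n210191 = n208464 := d18_0 (iv4 F449473) (iv1 F454298) F454302 F449154 F217089 D206866 (iv4 F456409) (iv0 F456412) D210191
def n210192 : Q := act 7 n137821
theorem D210192 : act 7 n137821 = n210192 := rfl
def n210193 : Q := act 3 n137837
theorem D210193 : act 3 n137837 = n210193 := rfl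
theorem F456511 : act 2 n210193 = n196712 := d0_1 D210193 (iv3 F401569) (iv2 F397201) F390458 F385892
theorem F456512 : act 7 n210193 = n196711 := d8_2 F391402 D210193 F401568
theorem F456513 : act 0 n196714 = n210193 := d20_4 F396641 F165257 (iv4 F165294) (iv3 F401571) (iv3 D210193) (iv4 D137837) (iv1 D64772) (iv4 F100627) (iv3 F161987) D195304
theorem F456514 : act 1 n196706 = n210193 := d15_0 (iv0 F456513) (iv7 D196714) (iv2 F401551)
def n210194 : Q := act 6 n137837
theorem D210194 : act 6 n137837 = n210194 := rfl
theorem F456515 : act 4 n210194 = n137839 := d10_1 D210194 (iv6 D137839) D137837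
theorem F456516 : act 3 n197368 = n210194 := d20_5 (iv4 D138645) F169196 F80905 (iv3 F167204) D197368 F456515 F454086 F452552 F403972 F221811
theorem F456517 : act 6 n210193 = n197368 := d7_0 F456516 (iv6 D210194) D210193
def n210195 : Q := act 5 n137839
theorem D210195 : act 5 n137839 = n210195 := rfl
theorem F456518 : act 2 n210195 = n186641 := d2_1 D210195 (iv5 F385897) F385895
theorem F456519 : act 3 n210195 = n191851 := d6_1 D210195 (iv5 F391355) F391354
theorem F456520 : act 6 n210195 = n185494 := d12_2 D137839 D210195 F287767 F365470 (iv5 D137838)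
def n210196 : Q := act 4 n137846
theorem D210196 : act 4 n137846 = n210196 := rfl
theorem F456521 : act 2 n210196 = n191487 := d1_1 D210196 (iv4 D191487) (iv2 F356280)
theorem F456522 : act 3 n210196 = n206809 := d5_1 D210196 (iv4 D206809) (iv3 F336494) F336495 D137846
theorem F456523 : act 7 n210196 = n208687 := d11_2 F448885 D210196 F450450
theorem F456524 : act 0 n210196 = n208646 := d17_0 F454187 (iv1 D209571) F219791 (iv4 F356310) (iv5 F376082) F378135 (iv5 F448824) (iv0 F448827) D210196
theorem F456525 : act 1 n210196 = n143282 := d18_6 D87180 (iv4 F295381) (iv1 D98433) F151856 (iv5 F356281) D210196 F226088 (iv0 F334887) (iv5 D87183)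
def n210197 : Q := act 6 n137846
theorem D210197 : act 6 n137846 = n210197 := rfl
theorem F456526 : act 2 n210197 = n191488 := d3_1 D210197 (iv6 D191488) (iv2 F356280)
theorem F456527 : act 3 n210197 = n137849 := d7_1 D210197 (iv6 D137849) D137846
def n210198 : Q := act 7 n137849
theorem D210198 : act 7 n137849 = n210198 := rfl
theorem F456528 : act 2 n210198 = n204989 := d4_1 D210198 (iv7 F444348) F444344
theorem F456529 : act 4 n210198 = n152667 := d11_1 D210198 (iv7 F438852) F438850
theorem F456530 : act 5 n210198 = n209284 := d13_1 D210198 F453040 (iv5 F221312)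
theorem F456531 : act 6 n210198 = n206809 := d14_1 D210198 (iv7 F444331) F444330 F333864 D137849
theorem F456532 : act 1 n152732 = n210198 := d15_1 (iv0 F444349) (iv7 D210198) (iv2 F444344)
theorem F456533 : act 1 n210198 = n152707 := d15_1 F456532 (iv7 F431866) F431863
def n210199 : Q := act 5 n137873
theorem D210199 : act 5 n137873 = n210199 := rfl
theorem F456534 : act 3 n210199 = n137878 := d6_1 D210199 (iv5 D137878) (iv3 F221094)
theorem F456535 : act 4 n210199 = n201220 := d16_2 (iv4 F221095) D210199 F419497 F413182 F413180 (iv4 F173302) F334615 D176170 F349934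
theorem F456536 : act 0 n210199 = n143131 := d18_0 F225985 F390378 (iv4 D193589) (iv5 D101992) (iv4 F156952) F365458 (iv4 F419885) (iv0 F419887) D210199
def n210200 : Q := act 4 n137880
theorem D210200 : act 4 n137880 = n210200 := rfl
theorem F456537 : act 5 n210200 = n207663 := d9_2 D137880 D210200 F445899 F388589 (iv4 F398735) F398732 (iv4 D137780) D137781 (iv4 F442471) (iv5 D206871) (iv4 F219495) F361546 (iv4 F102889) (iv5 F172173) F172299
theorem F456538 : act 7 n210200 = n207662 := d11_2 (iv7 F383802) D210200 F445897
def n210201 : Q := act 6 n137882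
theorem D210201 : act 6 n137882 = n210201 := rfl
theorem F456539 : act 2 n210201 = n137887 := d3_1 D210201 (iv6 D137887) (iv2 F221109)
theorem F456540 : act 3 n210201 = n201043 := d7_1 D210201 (iv6 D201043) (iv3 F221110)
theorem F456541 : act 4 n210201 = n207696 := d10_1 D210201 F446042 F418580
theorem F456542 : act 7 n210201 = n191582 := d14_2 F411281 D210201 (iv6 D191582) F367767 (iv6 F411280)
theorem F456543 : act 5 n205011 = n210201 := d13_3 F456542 F391593 (iv7 F434594)
def n210202 : Q := act 5 n137883
theorem D210202 : act 5 n137883 = n210202 := rfl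
theorem F456544 : act 2 n210202 = n137891 := d2_1 D210202 (iv5 D137891) (iv2 F221111)
theorem F456545 : act 6 n210202 = n205011 := d12_2 D137883 D210202 F456543 (iv6 D210201) (iv5 D137882)
theorem F456546 : act 7 n210202 = n191413 := d13_2 F391206 D210202 (iv5 F391205)
theorem F456547 : act 4 n210202 = n147136 := d16_4 F410006 (iv5 D198942) (iv4 F221112) D210202 (iv5 F412997) F413001 (iv5 F409493) F409492 F409489
theorem F456548 : act 1 n210202 = n202723 := d17_8 (iv1 F361321) (iv5 D180601) F323158 (iv5 F169908) (iv4 F408964) F408965 F391208 D210202 F425289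
theorem F456549 : act 0 n210202 = n194079 := d18_0 F392000 (iv1 F361320) (iv4 F432545) F432546 (iv4 F449020) F449023 F401798 F391208 D210202
def n210203 : Q := act 3 n137886
theorem D210203 : act 3 n137886 = n210203 := rfl
theorem F456550 : act 2 n210203 = n146866 := d0_1 D210203 (iv3 D146866) (iv2 F176911) D200974 (iv2 F418582)
theorem F456551 : act 4 n210203 = n137911 := d5_2 D137886 D210203 (iv3 D137911) (iv4 D64818) (iv3 F100651)
theorem F456552 : act 6 n210203 = n208650 := d7_2 F442554 D210203 F450330
theorem F456553 : act 0 n206714 = n210203 := d21_4 (iv5 D60714) D60711 D129139 D206714 F456552 (iv5 F450343) (iv1 F450928) F446095 (iv6 D206723) (iv1 D129148)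
def n210204 : Q := act 7 n137891
theorem D210204 : act 7 n137891 = n210204 := rfl
theorem F456554 : act 2 n210204 = n191413 := d4_1 D210204 (iv7 F456546) F456544
theorem F456555 : act 3 n210204 = n137933 := d8_1 D210204 (iv7 D137933) (iv3 F221117)
theorem F456556 : act 4 n210204 = n147137 := d11_1 D210204 F354843 F354815
theorem F456557 : act 5 n210204 = n137892 := d13_1 D210204 (iv7 D137892) D137891
theorem F456558 : act 6 n210204 = n187059 := d14_1 D210204 (iv7 F368977) D191412 (iv7 F391594) (iv6 F411693)
theorem F456559 : act 1 n202723 = n210204 := d15_1 F456548 (iv7 D210204) (iv2 F456544)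
theorem F456560 : act 1 n210204 = n194079 := d15_1 F456559 F392001 (iv2 F425288)
def n210205 : Q := act 6 n137899
theorem D210205 : act 6 n137899 = n210205 := rfl
theorem F456561 : act 2 n210205 = n158954 := d3_1 D210205 (iv6 F359463) (iv2 F221141)
theorem F456562 : act 4 n210205 = n137900 := d10_1 D210205 (iv6 D137900) D137899
theorem F456563 : act 5 n210205 = n208337 := d12_1 D210205 (iv6 F448965) (iv5 D137338) F327471 (iv5 F221142)
theorem F456564 : act 7 n210205 = n154954 := d14_2 F222937 D210205 (iv6 D154954) (iv7 F243497) (iv6 F350250)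
theorem F456565 : act 0 n210205 = n141483 := d21_4 D31273 D67206 (iv5 F221142) D210205 (iv6 D141483) D141482 F224549 (iv5 D116042) F320919 (iv1 D31272)
theorem F456566 : act 1 n210205 = n142649 := d15_1 (iv0 F456565) (iv7 F425072) F425066
def n210206 : Q := act 7 n137904
theorem D210206 : act 7 n137904 = n210206 := rfl
theorem F456567 : act 2 n210206 = n179642 := d4_1 D210206 (iv7 F321282) (iv2 F221156)
theorem F456568 : act 3 n210206 = n146643 := d8_1 D210206 (iv7 F440419) F440417
theorem F456569 : act 4 n210206 = n155325 := d11_1 D210206 (iv7 F422171) F422170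
theorem F456570 : act 5 n210206 = n137905 := d13_1 D210206 (iv7 D137905) D137904
theorem F456571 : act 6 n210206 = n155323 := d14_1 D210206 (iv7 F244260) (iv6 F422048) F422049 F339798
theorem F456572 : act 1 n195231 = n210206 := d15_1 (iv0 F396384) (iv7 D210206) F221156
theorem F456573 : act 1 n210206 = n181743 := d15_1 F456572 (iv7 F348031) (iv2 F396381)
def n210207 : Q := act 1 n137908
theorem D210207 : act 1 n137908 = n210207 := rfl
theorem F456574 : act 1 n210207 = n208647 := d15_1 D210207 F450317 (iv2 F221168)
theorem F456575 : act 7 n210207 = n208648 := d15_2 (iv0 F371167) D210207 (iv2 F450323)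
theorem F456576 : act 2 n187768 = n210207 := d4_3 F456575 (iv2 F450323) (iv7 F371443)
def n210208 : Q := act 5 n137909
theorem D210208 : act 5 n137909 = n210208 := rfl
theorem F456577 : act 3 n210208 = n154294 := d6_1 D210208 (iv5 F389044) F389043
theorem F456578 : act 6 n210208 = n154271 := d12_2 F385394 D210208 F242382 (iv6 F348286) D192061
theorem F456579 : act 4 n210208 = n143402 := d16_2 (iv4 F221169) D210208 F226168 (iv4 D140767) (iv5 D66055) D66054 D140765 F223851 F220900
theorem F456580 : act 0 n210208 = n203042 := d17_2 D137909 D210208 F426753 (iv4 D137976) F169671 (iv0 F169573) (iv5 F103080) (iv0 D64816) D64818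
theorem F456581 : act 1 n210208 = n203045 := d17_6 (iv1 F355784) F355785 (iv1 F218725) (iv5 F220893) (iv4 F221169) D210208 F426760 (iv0 F225925) (iv4 D143068)
def n210209 : Q := act 5 n137910
theorem D210209 : act 5 n137910 = n210209 := rfl
theorem F456582 : act 3 n210209 = n200805 := d6_1 D210209 (iv5 D200805) F345914
theorem F456583 : act 4 n210209 = n143403 := d9_1 D210209 F226174 F225864 F221137 (iv4 F218721) (iv5 F220893) (iv4 F221169) D210208 F456579 F226168 (iv4 D140767) (iv5 D66055) D66054 D140765 F223854
theorem F456584 : act 0 n210209 = n203045 := d17_2 (iv1 F221171) D210209 F426760 (iv4 D137979) F169575 (iv0 D109592) (iv5 F100613) F103083 D64834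
theorem F456585 : act 1 n210209 = n203042 := d17_6 (iv1 F221271) F221270 F101726 D140765 F223854 D210209 F426753 (iv0 F225930) (iv4 D143074)
def n210210 : Q := act 0 n137911
theorem D210210 : act 0 n137911 = n210210 := rfl
theorem F456586 : act 5 n210210 = n195438 := d17_3 (iv1 F448586) F448584 D210210 (iv4 D195438) (iv5 D105594) D105592 (iv5 F405340) F396977 F396974
theorem F456587 : act 3 n210210 = n208716 := d20_5 (iv4 D137734) F103082 D64818 D137911 D210210 F450547 (iv1 F448116) (iv4 F448120) (iv3 D143281) (iv1 F220980)
theorem F456588 : act 2 n208593 = n210210 := d15_3 (iv0 D210210) (iv0 F333089) (iv7 F450050)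
theorem F456589 : act 1 n208717 = n210210 := d15_0 (iv0 D210210) F448581 (iv2 F450557)
theorem F456590 : act 7 n210210 = n208718 := d15_2 D208717 F456589 (iv2 D208718)
theorem F456591 : act 0 n195573 = n207959 := d20_10 F447158 (iv1 F444533) (iv4 F450547) (iv3 F456587) (iv1 F456589) (iv3 F450555) F252192 (iv1 F114808) D105751 D195573
def n210211 : Q := act 0 n137912
theorem D210211 : act 0 n137912 = n210211 := rfl
theorem F456592 : act 5 n210211 = n137992 := d17_1 D210211 (iv1 F221260) D138003 F221267 (iv5 D67199) (iv0 D31271) D31273 D67207 F221172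
theorem F456593 : act 4 n210211 = n192179 := d18_1 D210211 (iv1 F385882) (iv4 F224191) (iv5 F353570) F225956 F220975 (iv4 F221169) (iv0 D137909) D137912
theorem F456594 : act 2 n192494 = n210211 := d15_3 (iv0 D210211) (iv0 F350424) D192494
theorem F456595 : act 1 n137956 = n210211 := d15_0 (iv0 D210211) (iv7 F426800) F426797
theorem F456596 : act 7 n210211 = n189168 := d15_2 F350428 F456595 F375922
theorem F456597 : act 3 n189172 = n210211 := d8_3 F456596 F375923 D189172
def n210212 : Q := act 6 n137912
theorem D210212 : act 6 n137912 = n210212 := rfl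
theorem F456598 : act 2 n210212 = n194015 := d3_1 D210212 (iv6 F426792) F426790
theorem F456599 : act 4 n210212 = n143483 := d10_1 D210212 (iv6 D143483) F221172
theorem F456600 : act 7 n210212 = n194016 := d14_2 F426800 D210212 F391784 F220532 (iv6 F426799)
theorem F456601 : act 0 n192175 = n210212 := d21_4 (iv5 D191267) (iv1 F316400) D100920 (iv6 F385869) (iv6 D210212) (iv5 D137912) D137909 D210208 F456578 (iv1 F382828)
theorem F456602 : act 1 n192173 = n210212 := d15_0 (iv0 F456601) F385870 (iv2 F385861)
def n210213 : Q := act 5 n137913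
theorem D210213 : act 5 n137913 = n210213 := rfl
theorem F456603 : act 3 n210213 = n197691 := d6_1 D210213 (iv5 F405382) F355790
theorem F456604 : act 4 n210213 = n201751 := d16_2 (iv4 F221173) D210213 F421673 (iv4 D197054) F165961 (iv4 F179019) D201657 F421267 F361493
theorem F456605 : act 0 n210213 = n208676 := d21_7 (iv5 F355353) (iv1 F251558) (iv5 F448850) F448851 (iv1 D137910) D137913 D210213 F450418 (iv6 F355000) F216909
def n210214 : Q := act 6 n137923
theorem D210214 : act 6 n137923 = n210214 := rfl
theorem F456606 : act 2 n210214 = n151602 := d3_1 D210214 (iv6 D151602) (iv2 F347768)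
theorem F456607 : act 3 n210214 = n199278 := d7_1 D210214 (iv6 F411446) (iv3 F350753)
theorem F456608 : act 5 n210214 = n203909 := d12_1 D210214 (iv6 F430348) (iv5 D159422) F343292 D137923
theorem F456609 : act 0 n210214 = n193811 := d21_4 (iv5 D64823) D64821 D137923 D210214 F391064 (iv5 F360940) (iv1 F246443) (iv5 F426452) (iv6 D202973) F329160
def n210215 : Q := act 5 n137932
theorem D210215 : act 5 n137932 = n210215 := rfl
theorem F456610 : act 2 n210215 = n151632 := d2_1 D210215 (iv5 F355730) (iv2 F353849)
theorem F456611 : act 3 n210215 = n189485 := d6_1 D210215 F376664 F353844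
theorem F456612 : act 4 n210215 = n208213 := d9_1 D210215 F448396 F373940 (iv5 F321576) (iv4 F343280) (iv5 F396447) F396446 D195247 (iv4 F448388) F448387 F422170 (iv5 D137904) F100658 D64823 D137932
theorem F456613 : act 7 n210215 = n151631 := d13_2 (iv7 F353850) D210215 F238501
theorem F456614 : act 1 n210215 = n151442 := d17_6 (iv1 F338500) F329157 (iv1 F343284) D64823 D137932 D210215 (iv5 D151442) F107883 (iv4 F107999)
theorem F456615 : act 0 n210215 = n151437 := d21_1 D210215 (iv5 D151437) (iv6 F325409) (iv1 F364430) (iv6 D159642) (iv5 F327306) (iv1 D115129) D115131 (iv6 F335485) (iv1 F354840)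
theorem F456616 : act 6 n210215 = n151686 := d21_3 D151658 (iv1 F354840) D210215 (iv1 D151686) (iv6 D71482) (iv5 D33071) (iv1 D15948) D15949 (iv6 F52288) D71473
def n210216 : Q := act 6 n137955
theorem D210216 : act 6 n137955 = n210216 := rfl
theorem F456617 : act 2 n210216 = n191789 := d3_1 D210216 F384439 F252191
theorem F456618 : act 3 n210216 = n137957 := d7_1 D210216 (iv6 D137957) D137955
theorem F456619 : act 4 n210216 = n189405 := d10_1 D210216 F376545 (iv4 F221220)
theorem F456620 : act 5 n210216 = n188173 := d12_1 D210216 (iv6 F372582) F223169 D142986 F326863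
theorem F456621 : act 7 n210216 = n191784 := d14_2 (iv7 F221221) D210216 (iv6 F456028) F456031 F430480
def n210217 : Q := act 6 n137976
theorem D210217 : act 6 n137976 = n210217 := rfl
theorem F456622 : act 2 n210217 = n137996 := d3_1 D210217 (iv6 D137996) (iv2 F221230)
theorem F456623 : act 4 n210217 = n137977 := d10_1 D210217 (iv6 D137977) D137976
theorem F456624 : act 0 n191286 = n210217 := d21_4 (iv5 F347291) F421250 (iv5 F406337) (iv6 F406339) (iv6 D210217) (iv5 F426753) (iv1 F456585) (iv5 D210209) (iv6 F448851) (iv1 F448854)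
def n210218 : Q := act 4 n137978
theorem D210218 : act 4 n137978 = n210218 := rfl
theorem F456625 : act 2 n210218 = n200901 := d1_1 D210218 F418338 F411177
theorem F456626 : act 7 n210218 = n137990 := d11_2 (iv7 F221233) D210218 (iv4 D137990)
theorem F456627 : act 0 n210218 = n198937 := d17_0 (iv5 F410514) (iv1 F443102) F443104 F418580 (iv5 D137882) F219046 D209272 F452993 D210218
theorem F456628 : act 1 n210218 = n206975 := d18_6 (iv1 F218704) (iv4 F104289) (iv1 F165750) D196902 F402231 D210218 F442803 F409971 F409972
def n210219 : Q := act 6 n137978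
theorem D210219 : act 6 n137978 = n210219 := rfl
theorem F456629 : act 3 n210219 = n137980 := d7_1 D210219 (iv6 D137980) D137978
theorem F456630 : act 7 n138010 = n210219 := d8_0 F456629 F355782 D138010
theorem F456631 : act 0 n200815 = n210219 := d20_4 (iv4 F384086) F397679 F397676 D200815 F456629 (iv4 F408487) F408485 F225839 (iv3 F350426) (iv1 F352446)
def n210220 : Q := act 3 n137979
theorem D210220 : act 3 n137979 = n210220 := rfl
theorem F456632 : act 5 n210220 = n208720 := d6_2 F426760 D210220 F450570
theorem F456633 : act 7 n210220 = n137994 := d8_2 (iv7 F221235) D210220 (iv3 D137994)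
theorem F456634 : act 0 n141310 = n210220 := d20_4 F217383 (iv1 F227003) F342837 (iv3 F224333) (iv3 D210220) (iv4 D137979) (iv1 D64850) D64851 (iv3 F329478) F329773
def n210221 : Q := act 3 n137981
theorem D210221 : act 3 n137981 = n210221 := rfl
theorem F456635 : act 7 n210221 = n138001 := d8_2 (iv7 F365747) D210221 F221265
theorem F456636 : act 0 n210221 = n188912 := d20_4 (iv4 F225839) (iv1 F408498) F408499 D210221 F375183 F161519 (iv1 F162399) (iv4 F221266) (iv3 D138002) (iv1 F221262)
theorem F456637 : act 0 n183505 = n210221 := d20_4 D182524 F360194 F285247 (iv3 F285245) (iv3 D210221) (iv4 F408499) F408497 F221256 (iv3 F352442) (iv1 F283861)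
def n210222 : Q := act 5 n137985
theorem D210222 : act 5 n137985 = n210222 := rfl
theorem F456638 : act 2 n210222 = n138036 := d2_1 D210222 (iv5 D138036) (iv2 F357340)
theorem F456639 : act 3 n210222 = n188225 := d6_1 D210222 (iv5 F374706) F374704
theorem F456640 : act 7 n210222 = n138041 := d13_2 (iv7 F357341) D210222 (iv5 D138041)
theorem F456641 : act 4 n191770 = n210222 := d11_3 F456640 F449441 F388676
def n210223 : Q := act 6 n137989
theorem D210223 : act 6 n137989 = n210223 := rfl
theorem F456642 : act 2 n210223 = n137991 := d3_1 D210223 (iv6 D137991) D137989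
theorem F456643 : act 4 n210223 = n209135 := d10_1 D210223 F452419 F230237
def n210224 : Q := act 3 n137990
theorem D210224 : act 3 n137990 = n210224 := rfl
theorem F456644 : act 2 n210224 = n200907 := d0_1 D210224 (iv3 D200907) F176794 D146845 (iv2 F230238)
theorem F456645 : act 4 n210224 = n137994 := d5_2 D137990 D210224 (iv3 D137994) (iv4 D64855) D64854
def n210225 : Q := act 6 n137990
theorem D210225 : act 6 n137990 = n210225 := rfl
theorem F456646 : act 2 n210225 = n209135 := d3_1 D210225 F452419 (iv2 F230238)
theorem F456647 : act 4 n210225 = n137991 := d10_1 D210225 (iv6 D137991) D137990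
theorem F456648 : act 0 n210225 = n207876 := d20_7 (iv4 D134687) (iv1 F98941) F347012 (iv3 F428203) (iv1 D137998) (iv3 F221247) (iv4 F456647) F446841 F339488 (iv1 F338725)
def n210226 : Q := act 0 n137991
theorem D210226 : act 0 n137991 = n210226 := rfl
theorem F456649 : act 6 n210226 = n205012 := d21_5 (iv5 F410839) F410840 F172288 D137991 D210226 (iv5 D205012) D205011 F456543 (iv6 D210201) F391963
def n210227 : Q := act 1 n137991
theorem D210227 : act 1 n137991 = n210227 := rfl
theorem F456650 : act 3 n206542 = n210227 := d20_9 (iv4 F456647) F456648 F446841 F339488 (iv1 F338725) D208547 F449827 F445368 F445365 (iv1 D210227)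
theorem F456651 : act 4 n210227 = n205766 := d5_2 F445365 F456650 (iv3 F445446) F445447 (iv3 F445364)
theorem F456652 : act 6 n210227 = n205764 := d7_2 D206542 F456650 F437774
def n210228 : Q := act 5 n137991
theorem D210228 : act 5 n137991 = n210228 := rfl
theorem F456653 : act 3 n210228 = n137999 := d6_1 D210228 (iv5 D137999) (iv3 F221247)
theorem F456654 : act 0 n194091 = n210228 := d21_7 (iv5 D137781) F219212 D199240 F411280 (iv1 D186711) D186713 (iv5 F392027) (iv5 D210228) (iv6 D137991) (iv1 F383804)
def n210229 : Q := act 7 n137991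
theorem D210229 : act 7 n137991 = n210229 := rfl
theorem F456655 : act 3 n210229 = n138000 := d8_1 D210229 (iv7 D138000) (iv3 F221247)
theorem F456656 : act 6 n210229 = n138010 := d14_1 D210229 F456630 (iv6 D210219) F221233 D137991
def n210230 : Q := act 0 n137994
theorem D210230 : act 0 n137994 = n210230 := rfl
theorem F456657 : act 5 n210230 = n141309 := d19_1 D210230 (iv4 F364299) F162140 (iv1 F99695) (iv5 D64084) (iv4 D30204) F23947 D25354 (iv5 F40129) F40130 F37787 F23933 (iv5 F22559) D14381 D30299 D64324 F103147 D64855 D137994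
theorem F456658 : act 3 n210230 = n194784 := d20_5 (iv4 D30487) D30485 D64855 D137994 D210230 F394465 F374629 F374628 F221265 F355780
theorem F456659 : act 2 n141310 = n210230 := d0_5 F456658 F394464 F394424 F329932 (iv3 F224333)
theorem F456660 : act 6 n194783 = n210230 := d7_0 F456658 (iv6 D194784) D194783
def n210231 : Q := act 1 n137994
theorem D210231 : act 1 n137994 = n210231 := rfl
theorem F456661 : act 7 n210231 = n141310 := d15_2 (iv0 D210230) D210231 F456659
theorem F456662 : act 3 n141155 = n210231 := d20_3 F350306 F404678 F404674 (iv1 D210231) (iv3 D137994) (iv4 D64855) (iv1 F100639) D137869 (iv3 F350304) F350305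
theorem F456663 : act 5 n210231 = n141154 := d6_2 D141155 F456662 (iv3 D141154)
theorem F456664 : act 6 n210231 = n199570 := d7_2 (iv6 F329936) F456662 (iv3 D199570)
def n210232 : Q := act 2 n137994
theorem D210232 : act 2 n137994 = n210232 := rfl
theorem F456665 : act 3 n210232 = n195571 := d0_2 D137994 D210232 F397397 F229690 F221230
theorem F456666 : act 4 n210232 = n200907 := d1_2 F456645 D210232 (iv2 F456644)
theorem F456667 : act 6 n210232 = n208729 := d3_2 (iv6 F449068) D210232 F452427
theorem F456668 : act 5 n208721 = n210232 := d21_2 F456586 (iv1 F450576) F456667 (iv1 D208729) (iv6 D134982) (iv5 F167922) D197691 (iv5 F405382) (iv6 F355794) D210210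
theorem F456669 : act 0 n210232 = n141310 := d17_2 (iv1 F450576) F456668 (iv5 D141310) (iv4 F224324) F360518 F396588 (iv5 F403886) (iv0 D195436) D195438
theorem F456670 : act 0 n141311 = n204335 := d21_4 F456668 F456669 (iv5 D141310) D141311 (iv6 D204335) (iv5 D123542) (iv1 F197948) (iv5 F388037) F396997 (iv1 F450576)
theorem F456671 : act 0 n191659 = n200907 := d20_1 (iv4 F384071) (iv4 F456666) F456665 F397399 (iv3 F350299) (iv4 F362705) (iv1 D126748) F93869 (iv3 F100702) (iv1 F365380)
def n210233 : Q := act 5 n137994
theorem D210233 : act 5 n137994 = n210233 := rfl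
theorem F456672 : act 2 n210233 = n208721 := d2_1 D210233 F456668 (iv2 D210232)
theorem F456673 : act 3 n210233 = n137995 := d6_1 D210233 (iv5 D137995) D137994
theorem F456674 : act 7 n210233 = n208720 := d13_2 F456633 D210233 (iv5 F456632)
theorem F456675 : act 1 n210233 = n204345 := d17_8 (iv1 F403762) (iv5 D195389) (iv1 D105560) D105562 F364299 (iv5 F456657) (iv0 D210230) D210233 F432127
theorem F456676 : act 0 n210233 = n208722 := d21_1 D210233 F450573 F450560 (iv1 F441877) D206965 (iv5 F442766) F395349 (iv5 F412708) (iv6 F456664) (iv1 D210231)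
def n210234 : Q := act 0 n137995
theorem D210234 : act 0 n137995 = n210234 := rfl
theorem F456677 : act 5 n210234 = n143096 := d17_1 D210234 F225951 (iv5 F426794) (iv4 D203052) (iv5 F222933) (iv0 D139758) D139759 F222940 (iv4 F221263)
theorem F456678 : act 4 n210234 = n143132 := d18_1 D210234 F225986 D203141 F427130 (iv4 F408487) F408486 F221256 (iv0 D137992) D137995
theorem F456679 : act 1 n138003 = n210234 := d15_0 (iv0 D210234) (iv7 F426761) F426759
theorem F456680 : act 2 n210209 = n210234 := d1_3 F456678 F226175 (iv4 F456583)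
theorem F456681 : act 7 n210208 = n210234 := d11_0 F456678 F226171 (iv4 F456579)
theorem F456682 : act 3 n210234 = n208310 := d19_3 D67076 D143132 (iv4 F456678) F448862 (iv5 D182525) D182524 F360186 F224304 (iv5 F360479) (iv4 F201937) (iv3 F435225) F435698 (iv5 D125851) F169469 F174370 (iv1 D112148) D112150 (iv4 F174381) (iv3 D67078)
def n210235 : Q := act 1 n137995
theorem D210235 : act 1 n137995 = n210235 := rfl
theorem F456683 : act 1 n210235 = n138003 := d15_1 D210235 (iv7 F426752) F426751
theorem F456684 : act 7 n210235 = n210209 := d15_2 (iv0 D210234) D210235 F456680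
theorem F456685 : act 5 n210235 = n143094 := d17_7 F220966 (iv5 D64327) D64324 F103147 D64855 D137995 D210235 F225948 (iv4 D137874)
theorem F456686 : act 4 n210235 = n143134 := d17_9 F225989 (iv5 D117781) D117778 (iv5 F385881) (iv4 F456593) F456592 (iv0 D137992) D137995 D210235
theorem F456687 : act 2 n210208 = n210235 := d1_3 F456686 F226170 (iv4 F456579)
theorem F456688 : act 6 n191979 = n210235 := d10_0 F456686 F364181 F385078
theorem F456689 : act 3 n210235 = n191980 := d19_3 (iv1 F103047) D143134 (iv4 F456686) (iv1 F455530) F455528 (iv4 F384086) (iv3 F441665) (iv1 F441669) F436947 (iv4 F417248) (iv3 D197873) (iv1 D108749) D108751 D197878 F406085 (iv1 F431158) (iv5 D204134) F356499 (iv3 D67130)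
def n210236 : Q := act 6 n137995
theorem D210236 : act 6 n137995 = n210236 := rfl
theorem F456690 : act 4 n210236 = n143475 := d10_1 D210236 (iv6 D143475) (iv4 F221263)
def n210237 : Q := act 0 n137996
theorem D210237 : act 0 n137996 = n210237 := rfl
theorem F456691 : act 4 n210237 = n183784 := d18_3 (iv1 D137998) (iv4 F221264) D210237 (iv5 D183784) (iv4 D87684) D87683 D183779 F428206 F428201
theorem F456692 : act 3 n199574 = n210237 := d5_5 F456691 (iv3 F445314) F445315 (iv3 F445302) F445303
theorem F456693 : act 6 n199572 = n210237 := d10_0 F456691 F445312 F445308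
theorem F456694 : act 5 n191287 = n210237 := d16_1 (iv4 F382879) F456691 (iv5 D183784) (iv4 D87684) (iv5 D40847) F30911 D40847 D87685 (iv2 F150988)
theorem F456695 : act 7 n210237 = n191286 := d16_8 (iv4 F456691) (iv5 F456694) F382879 F150990 F72128 (iv5 F150990) (iv4 F382879) F456694 F382876
def n210238 : Q := act 5 n137996
theorem D210238 : act 5 n137996 = n210238 := rfl
theorem F456696 : act 4 n210238 = n183756 := d16_2 (iv4 F221264) D210238 (iv5 D183756) (iv4 D87674) D87675 D183758 F448786 F448785 F221232
theorem F456697 : act 1 n210238 = n193837 := d17_8 (iv1 F157645) (iv5 D87675) (iv1 F72132) (iv5 F150990) (iv4 F382879) F456694 (iv0 D210237) D210238 (iv4 D193837)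
theorem F456698 : act 0 n210238 = n185058 := d18_0 (iv4 F358598) (iv1 F160580) (iv4 F382863) (iv5 D137999) (iv4 F221264) (iv0 F445318) (iv4 F456691) (iv0 D210237) D210238
def n210239 : Q := act 7 n137996
theorem D210239 : act 7 n137996 = n210239 := rfl
theorem F456699 : act 3 n210239 = n208728 := d8_1 D210239 F452429 F449067
theorem F456700 : act 4 n210239 = n138000 := d11_1 D210239 (iv7 D138000) (iv4 F221264)
theorem F456701 : act 6 n210239 = n138011 := d14_1 D210239 (iv7 F408484) F408488 F221235 D137996
theorem F456702 : act 1 n191286 = n210239 := d15_1 (iv0 F456624) (iv7 D210239) (iv2 F456622)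
def n210240 : Q := act 0 n137999
theorem D210240 : act 0 n137999 = n210240 := rfl
theorem F456703 : act 4 n210240 = n194082 := d20_2 (iv4 F382863) D210240 (iv3 D194082) (iv1 D102663) F74873 D47619 (iv1 F157126) (iv4 D102308) D102307 (iv1 F160580)
theorem F456704 : act 1 n183758 = n210240 := d15_0 (iv0 D210240) F382864 F382849
def n210241 : Q := act 1 n137999
theorem D210241 : act 1 n137999 = n210241 := rfl
theorem F456705 : act 1 n210241 = n183758 := d15_1 D210241 (iv7 F382855) (iv2 F382862)
theorem F456706 : act 4 n210241 = n193639 := d17_9 (iv1 F390540) (iv5 D191275) F289758 D177721 F448792 (iv5 D208296) F411666 D137999 D210241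
theorem F456707 : act 3 n138080 = n210241 := d20_9 F382863 (iv1 F160578) D193837 (iv3 F391150) (iv1 F390953) (iv3 F449833) F449834 (iv1 F423461) (iv4 F423463) (iv1 D210241)
theorem F456708 : act 5 n210197 = n210241 := d21_6 (iv5 D64796) (iv1 F48882) D30480 D64835 (iv1 F356279) D210197 (iv1 D210241) (iv5 D137999) (iv6 D64857) (iv1 F100639)
theorem F456709 : act 6 n210241 = n193639 := d12_2 D210197 F456708 F390537 (iv6 D191486) (iv5 F356281)
def n210242 : Q := act 0 n138001
theorem D210242 : act 0 n138001 = n210242 := rfl
theorem F456710 : act 4 n210242 = n188913 := d18_3 F374629 F374628 D210242 F375187 (iv4 F375168) (iv0 F412797) F413470 F413469 F374506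
theorem F456711 : act 3 n210242 = n195136 := d20_5 (iv4 D143068) (iv1 F355784) F221268 (iv3 F221265) D210242 F395917 F166735 D146362 F229690 (iv1 F225926)
theorem F456712 : act 6 n210242 = n183503 := d21_5 (iv5 F220276) F220278 F220028 D138001 D210242 (iv5 F367080) (iv1 F148558) F367052 F367054 F221198
theorem F456713 : act 2 n183505 = n210242 := d15_3 (iv0 D210242) (iv0 F394411) F394410
theorem F456714 : act 7 n210242 = n188912 := d4_2 F394410 F456713 (iv2 F394407)
def n210243 : Q := act 5 n138001
theorem D210243 : act 5 n138001 = n210243 := rfl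
theorem F456715 : act 3 n210243 = n138007 := d6_1 D210243 (iv5 D138007) (iv3 F221265)
theorem F456716 : act 6 n210243 = n193426 := d12_2 D138001 D210243 (iv5 D193426) (iv6 F353387) F220028
theorem F456717 : act 4 n210243 = n193536 := d16_6 (iv4 F396724) D199584 (iv4 F419828) F419829 F374628 D210243 (iv5 F390184) F174182 (iv2 F396725)
def n210244 : Q := act 5 n138002
theorem D210244 : act 5 n138002 = n210244 := rfl
theorem F456718 : act 2 n210244 = n204977 := d2_1 D210244 F434414 F229929
theorem F456719 : act 3 n210244 = n138003 := d6_1 D210244 (iv5 D138003) D138002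
theorem F456720 : act 7 n210244 = n204978 := d13_2 F229691 D210244 F434418
theorem F456721 : act 4 n210244 = n148025 := d16_2 (iv4 F221266) D210244 (iv5 D148025) (iv4 F319483) (iv5 D54107) F77050 D105749 F162403 (iv2 F162395)
theorem F456722 : act 0 n210244 = n202971 := d17_2 F251539 D210244 F426440 (iv4 D144861) F103977 F50301 (iv5 F76637) (iv0 F114515) D159673
theorem F456723 : act 1 n210244 = n138363 := d17_6 (iv1 F114808) (iv5 D48892) D48889 D105748 (iv4 F221266) D210244 F330622 F252193 F252192
def n210245 : Q := act 6 n138003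
theorem D210245 : act 6 n138003 = n210245 := rfl
theorem F456724 : act 2 n210245 = n192924 := d3_1 D210245 F426762 F426759
theorem F456725 : act 4 n210245 = n143463 := d10_1 D210245 (iv6 D143463) (iv4 F221267)
theorem F456726 : act 5 n210245 = n139755 := d12_1 D210245 (iv6 D139755) (iv5 F355785) (iv6 D138004) D138003
theorem F456727 : act 0 n192024 = n210245 := d21_4 (iv5 F292923) F292921 F293323 D192024 (iv6 D210245) (iv5 D138003) (iv1 F221262) F350425 (iv6 D100237) D100234
theorem F456728 : act 1 n192926 = n210245 := d15_0 (iv0 F456727) F385256 (iv2 F388247)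
theorem F456729 : act 7 n210245 = n192925 := d15_2 F431061 F456728 (iv2 F428152)
def n210246 : Q := act 0 n138010
theorem D210246 : act 0 n138010 = n210246 := rfl
theorem F456730 : act 2 n200815 = n210246 := d15_3 (iv0 D210246) (iv0 F384098) (iv7 F418033)
theorem F456731 : act 3 n210246 = n138100 := d0_2 D200815 F456730 (iv2 F384080) F384081 (iv2 F383743)
theorem F456732 : act 4 n210246 = n206938 := d1_2 F446448 F456730 (iv2 F446447)
def n210247 : Q := act 2 n138010
theorem D210247 : act 2 n138010 = n210247 := rfl
def n210248 : Q := act 4 n138010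
theorem D210248 : act 4 n138010 = n210248 := rfl
theorem F456733 : act 3 n210248 = n206891 := d5_1 D210248 (iv4 F454863) F454862 (iv4 D138011) D138010
theorem F456734 : act 1 n210248 = n159581 := d18_8 (iv1 F350879) F212483 F350855 (iv4 F207665) D206938 (iv4 F456732) (iv0 D210246) D210248 F251351
theorem F456735 : act 0 n210248 = n206902 := d20_1 D210248 F442557 (iv3 D137196) (iv1 D64487) (iv3 F100421) (iv4 F220342) (iv1 F384097) F367823 (iv3 F367818) F384098
theorem F456736 : act 5 n206025 = n210248 := d19_1 (iv1 F438893) (iv4 D210248) (iv3 D138010) (iv1 F221085) F221082 (iv4 D67208) F328847 (iv1 D30397) D30398 D64600 (iv3 F329164) F94331 F50186 (iv4 F55208) F55207 (iv1 F27749) D32357 D69711 D148742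
def n210249 : Q := act 5 n138010
theorem D210249 : act 5 n138010 = n210249 := rfl
theorem F456737 : act 3 n210249 = n138012 := d6_1 D210249 (iv5 D138012) D138010
theorem F456738 : act 0 n202303 = n210249 := d20_4 D209957 F455525 F388197 (iv3 F423555) F456737 F221273 (iv1 F226172) (iv4 F456583) F456582 F417984
theorem F456739 : act 0 n210249 = n202308 := d20_10 (iv4 D202308) F357073 D115683 (iv3 F416581) F416584 (iv3 F456577) F456579 (iv1 F226169) (iv4 F221273) (iv3 F456737)
def n210250 : Q := act 3 n138025
theorem D210250 : act 3 n138025 = n210250 := rfl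
theorem F456740 : act 4 n210250 = n199706 := d5_2 F221288 D210250 F413191 (iv4 F324392) F324391
theorem F456741 : act 5 n210250 = n143281 := d6_2 (iv5 F221287) D210250 (iv3 D143281)
theorem F456742 : act 6 n210250 = n198988 := d7_2 (iv6 F353580) D210250 (iv3 D198988)
def n210251 : Q := act 6 n138027
theorem D210251 : act 6 n138027 = n210251 := rfl
theorem F456743 : act 2 n210251 = n143485 := d3_1 D210251 (iv6 D143485) (iv2 F221289)
theorem F456744 : act 4 n210251 = n143378 := d10_1 D210251 (iv6 D143378) (iv4 F221290)
def n210252 : Q := act 4 n138028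
theorem D210252 : act 4 n138028 = n210252 := rfl
theorem F456745 : act 7 n210252 = n208611 := d11_2 F411673 D210252 F450149
theorem F456746 : act 0 n210252 = n191699 := d18_2 D138028 D210252 (iv4 D191699) (iv5 D98662) F72706 (iv0 F251749) (iv4 F153483) (iv0 F356319) (iv5 D138030)
theorem F456747 : act 1 n210252 = n143075 := d18_6 (iv1 F72691) F62204 F157592 (iv4 F136187) (iv5 F356325) D210252 F352441 (iv0 F294438) (iv5 D98641)
def n210253 : Q := act 4 n138029
theorem D210253 : act 4 n138029 = n210253 := rfl
theorem F456748 : act 2 n210253 = n208611 := d1_1 D210253 F450149 F411670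
theorem F456749 : act 3 n210253 = n191771 := d5_1 D210253 (iv4 F451593) F451590 F437198 (iv3 F380774)
theorem F456750 : act 6 n210253 = n208607 := d10_2 (iv6 F411676) D210253 F450125
theorem F456751 : act 5 n210253 = n191770 := d16_1 D210253 F456641 (iv5 D210222) F356318 (iv5 D88808) (iv4 F136187) (iv5 F356325) (iv7 F411673) F411670
theorem F456752 : act 0 n210253 = n143075 := d18_2 (iv1 F356313) D210253 F352441 (iv5 D87055) F61539 D87053 D182317 (iv0 F370490) F370489
theorem F456753 : act 1 n210253 = n191699 := d18_6 (iv1 F157591) F65940 D46111 D98640 F357353 D210253 (iv4 D191699) (iv0 F285544) (iv5 D88808)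
def n210254 : Q := act 5 n138032
theorem D210254 : act 5 n138032 = n210254 := rfl
theorem F456754 : act 1 n210254 = n192444 := d17_6 (iv1 F431099) (iv5 D204108) F361491 (iv5 D138046) (iv4 F221293) D210254 F386732 (iv0 F371167) F430644
theorem F456755 : act 6 n191462 = n204103 := d21_3 (iv5 D210254) F448727 (iv5 F448728) (iv1 D204103) F196541 (iv5 D56987) D56985 D122681 (iv6 F386733) (iv1 F456754)
theorem F456756 : act 2 n204103 = n191452 := d3_1 F456755 F383506 D191462
def n210255 : Q := act 0 n138034
theorem D210255 : act 0 n138034 = n210255 := rfl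
def n210256 : Q := act 2 n138034
theorem D210256 : act 2 n138034 = n210256 := rfl
theorem F456757 : act 3 n210256 = n187669 := d0_2 D138034 D210256 (iv2 F374703) F374704 F357340
theorem F456758 : act 6 n210256 = n187668 := d3_2 (iv6 F384002) D210256 F384000
theorem F456759 : act 5 n210256 = n192741 := d21_6 (iv5 F251755) F367097 F367089 D191633 F442751 (iv6 F456758) (iv1 D192741) F154646 (iv6 D98575) D98572
def n210257 : Q := act 4 n138034
theorem D210257 : act 4 n138034 = n210257 := rfl
theorem F456760 : act 0 n210257 = n206976 := d20_1 D210257 F442808 (iv3 F409995) (iv1 F409997) (iv3 F388686) F388687 F383855 F364569 D208452 F449413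
theorem F456761 : act 0 n208416 = n210257 := d20_1 D208416 (iv4 D210257) (iv3 D138034) (iv1 F356303) (iv3 D134300) (iv4 D63097) (iv1 D29840) (iv4 F48001) (iv3 F98392) D134281
def n210258 : Q := act 5 n138034
theorem D210258 : act 5 n138034 = n210258 := rfl
theorem F456762 : act 2 n210258 = n192741 := d2_1 D210258 (iv5 F456759) (iv2 D210256)
theorem F456763 : act 3 n210258 = n138036 := d6_1 D210258 (iv5 D138036) D138034
theorem F456764 : act 7 n210258 = n192740 := d13_2 (iv7 F448761) D210258 F448760
theorem F456765 : act 4 n210258 = n201537 := d18_5 D134281 D208416 F456761 (iv4 D210257) D210258 (iv0 F428028) (iv4 F449275) (iv0 D208419) (iv5 D134283)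
theorem F456766 : act 0 n210258 = n192739 := d21_1 D210258 F387622 (iv6 D191579) (iv1 F367764) (iv6 F411280) (iv5 D199240) (iv1 F172298) D137880 (iv6 F449412) F449413
theorem F456767 : act 1 n210258 = n152552 := d15_1 (iv0 F456766) (iv7 F361022) (iv2 F387621)
theorem F456768 : act 6 n201536 = n210258 := d10_0 F456765 (iv6 D201537) D201536
def n210259 : Q := act 1 n138036
theorem D210259 : act 1 n138036 = n210259 := rfl
theorem F456769 : act 1 n210259 = n138041 := d15_1 D210259 (iv7 F456640) F456638
theorem F456770 : act 5 n210259 = n210196 := d17_7 (iv1 F334886) (iv5 D89080) (iv1 F295058) (iv5 F357349) (iv4 D138035) D138036 D210259 F456525 F226088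
theorem F456771 : act 3 n138166 = n210259 := d6_3 F456770 F456522 F442267
def n210260 : Q := act 6 n138036
theorem D210260 : act 6 n138036 = n210260 := rfl
theorem F456772 : act 3 n210260 = n201536 := d7_1 D210260 F456768 F456763
def n210261 : Q := act 5 n138037
theorem D210261 : act 5 n138037 = n210261 := rfl
theorem F456773 : act 2 n210261 = n191463 := d2_1 D210261 F383519 F374700
theorem F456774 : act 7 n210261 = n191462 := d13_2 F448725 D210261 F448728
theorem F456775 : act 0 n210261 = n191461 := d17_2 (iv1 F448749) D210261 (iv5 F411704) F430644 (iv5 D203970) F341135 D177717 F356284 (iv4 F448746)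
theorem F456776 : act 0 n191460 = n210261 := d19_0 (iv5 D210261) (iv4 F357352) (iv3 F385382) (iv1 F444429) F444427 F209469 F95899 (iv1 F47472) (iv5 F85700) (iv4 F166598) (iv3 F204533) F350252 F321789 F361920 (iv3 F385408) (iv1 F385412) (iv5 F444683) (iv4 F449489) F449488
def n210262 : Q := act 5 n138039
theorem D210262 : act 5 n138039 = n210262 := rfl
theorem F456777 : act 2 n210262 = n188224 := d2_1 D210262 (iv5 F419118) F419120
theorem F456778 : act 3 n210262 = n138041 := d6_1 D210262 (iv5 D138041) D138039
theorem F456779 : act 4 n210262 = n188165 := d9_1 D210262 (iv5 D188165) (iv4 F294979) D96111 F329423 (iv5 F291469) (iv4 F371151) (iv5 F371153) (iv4 D183121) (iv5 D87409) (iv4 F70174) D95548 F365425 (iv5 F374711) F374710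
theorem F456780 : act 7 n210262 = n188225 := d13_2 (iv7 F374708) D210262 (iv5 F374706)
theorem F456781 : act 1 n210262 = n188214 := d17_6 D207089 F443267 (iv1 F289191) (iv5 F374711) F374710 D210262 (iv5 F378146) F443263 F443261
theorem F456782 : act 0 n210262 = n187595 := d18_0 (iv4 D187595) F343086 D186770 F374782 F374781 (iv0 F177213) F367979 (iv0 F367980) D210262
def n210263 : Q := act 3 n138040
theorem D210263 : act 3 n138040 = n210263 := rfl
theorem F456783 : act 2 n210263 = n189661 := d0_1 D210263 (iv3 F379611) (iv2 F384105) F384106 (iv2 F356330)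
theorem F456784 : act 5 n210263 = n182605 := d6_2 (iv5 F356331) D210263 (iv3 D182605)
theorem F456785 : act 6 n210263 = n208752 := d7_2 F448741 D210263 (iv3 F450715)
theorem F456786 : act 7 n210263 = n186449 := d8_2 (iv7 F356332) D210263 F289262
theorem F456787 : act 0 n210263 = n208764 := d20_4 F217290 F356302 D138040 D210263 (iv3 D208764) D208765 F450761 F437287 F367413 (iv1 F356316)
theorem F456788 : act 0 n186800 = n210263 := d20_4 D181983 (iv1 F363997) (iv4 F363996) D186800 (iv3 D210263) (iv4 D138040) (iv1 D64870) (iv4 F100696) (iv3 F221281) F341225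
def n210264 : Q := act 6 n138041
theorem D210264 : act 6 n138041 = n210264 := rfl
def n210265 : Q := act 4 n138044
theorem D210265 : act 4 n138044 = n210265 := rfl
theorem F456789 : act 2 n210265 = n208606 := d1_1 D210265 F450120 (iv2 F411667)
theorem F456790 : act 3 n210265 = n198981 := d5_1 D210265 (iv4 F441967) F441966 F437322 F383662
theorem F456791 : act 6 n210265 = n198980 := d10_2 F411665 D210265 (iv4 F410158)
theorem F456792 : act 0 n210265 = n190712 := d18_2 D138044 D210265 F380747 (iv5 F385170) F385169 (iv0 F252458) (iv4 F444459) (iv0 F444462) (iv5 D138046)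
def n210266 : Q := act 4 n138045
theorem D210266 : act 4 n138045 = n210266 := rfl
theorem F456793 : act 7 n210266 = n208606 := d11_2 F411677 D210266 F450120
theorem F456794 : act 1 n210266 = n190712 := d18_6 (iv1 F348289) F304747 (iv1 F331873) F331874 (iv5 F342385) D210266 F380747 (iv0 F403426) (iv5 D197182)
def n210267 : Q := act 6 n138048
theorem D210267 : act 6 n138048 = n210267 := rfl
theorem F456795 : act 3 n210267 = n138051 := d7_1 D210267 (iv6 D138051) D138048
def n210268 : Q := act 5 n138051
theorem D210268 : act 5 n138051 = n210268 := rfl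
theorem F456796 : act 2 n210268 = n204114 := d2_1 D210268 F440452 F440448
theorem F456797 : act 6 n210268 = n203146 := d12_2 D138051 D210268 (iv5 D203146) F184496 F339049
theorem F456798 : act 7 n210268 = n209696 := d13_2 F456060 D210268 F456061
theorem F456799 : act 0 n210268 = n209688 := d17_2 (iv1 F363873) D210268 (iv5 D209688) F220030 (iv5 F342565) F342563 (iv5 D143561) (iv0 F342552) (iv4 F237885)
theorem F456800 : act 1 n210268 = n209419 := d17_6 D179597 F282935 (iv1 D139204) D139205 F363872 D210268 (iv5 D209419) (iv0 F341120) F279696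
theorem F456801 : act 1 n209419 = n143502 := d15_1 F456800 (iv7 F440456) (iv2 F456796)
theorem F456802 : act 1 n143502 = n209688 := d15_0 (iv0 F456799) F456798 (iv2 F454664)
def n210269 : Q := act 5 n138056
theorem D210269 : act 5 n138056 = n210269 := rfl
theorem F456803 : act 2 n210269 = n141170 := d2_1 D210269 (iv5 F454253) F454252
theorem F456804 : act 3 n210269 = n193432 := d6_1 D210269 (iv5 D193432) (iv3 F361965)
theorem F456805 : act 6 n210269 = n204248 := d12_2 D138056 D210269 (iv5 D204248) F356168 (iv5 D138055)
theorem F456806 : act 7 n210269 = n141169 := d13_2 F456227 D210269 F456230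
theorem F456807 : act 4 n210269 = n191518 := d16_4 F408881 (iv5 F228726) F342377 D210269 (iv5 D191518) F351771 (iv5 F386506) F386507 (iv2 F408880)
theorem F456808 : act 0 n210269 = n141168 := d17_2 F391287 D210269 F353376 F169754 D109856 (iv0 F226269) (iv5 D143577) (iv0 F338996) (iv4 F391286)
theorem F456809 : act 1 n210269 = n138606 := d17_6 (iv1 F348041) F348043 F348044 (iv5 F228726) F342377 D210269 (iv5 F353370) F408431 F408428
def n210270 : Q := act 7 n138061
theorem D210270 : act 7 n138061 = n210270 := rfl
theorem F456810 : act 2 n210270 = n138068 := d4_1 D210270 (iv7 D138068) (iv2 F221305)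
theorem F456811 : act 4 n210270 = n207576 := d11_1 D210270 (iv7 F446266) F446268
theorem F456812 : act 6 n210270 = n183509 := d14_1 D210270 (iv7 F380755) F380758 F219250 D138061
theorem F456813 : act 1 n138066 = n210270 := d15_1 D138066 (iv7 D210270) F221305
theorem F456814 : act 1 n210270 = n138065 := d15_1 F456813 (iv7 F419254) F419252
def n210271 : Q := act 6 n138063
theorem D210271 : act 6 n138063 = n210271 := rfl
theorem F456815 : act 2 n210271 = n186737 := d3_1 D210271 (iv6 F396079) F396078
theorem F456816 : act 3 n210271 = n182772 := d7_1 D210271 (iv6 F380729) F380728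
theorem F456817 : act 4 n210271 = n197967 := d10_1 D210271 F406312 F221306
theorem F456818 : act 5 n210271 = n182769 := d12_1 D210271 (iv6 D182769) (iv5 F148454) D190708 F380721
theorem F456819 : act 7 n210271 = n191674 := d14_2 F418028 D210271 F389058 F389055 (iv6 F418027)
theorem F456820 : act 0 n210271 = n138155 := d21_10 F395402 (iv1 D191676) (iv5 F152083) F332740 F76348 D95290 (iv5 F377791) F380722 F380721 D210271
theorem F456821 : act 0 n191672 = n210271 := d21_4 (iv5 F416900) (iv1 F416902) (iv5 F400041) (iv6 F443353) (iv6 D210271) (iv5 F380721) (iv1 F380723) F176743 D137703 F359790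
def n210272 : Q := act 7 n138081
theorem D210272 : act 7 n138081 = n210272 := rfl
theorem F456822 : act 2 n210272 = n152748 := d4_1 D210272 (iv7 F453043) F453042
theorem F456823 : act 4 n210272 = n138082 := d11_1 D210272 (iv7 D138082) D138081
theorem F456824 : act 5 n210272 = n152323 := d13_1 D210272 F239481 (iv5 F364903)
theorem F456825 : act 1 n209800 = n210272 := d15_1 (iv0 F454998) (iv7 D210272) (iv2 F453042)
theorem F456826 : act 1 n210272 = n209797 := d15_1 F456825 F454987 (iv2 F454994)
def n210273 : Q := act 6 n138082
theorem D210273 : act 6 n138082 = n210273 := rfl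
theorem F456827 : act 3 n210273 = n153939 := d7_1 D210273 F353761 (iv3 F365551)
theorem F456828 : act 5 n210273 = n202539 := d12_1 D210273 (iv6 F453059) F453056 F219261 (iv5 F221313)
def n210274 : Q := act 3 n138093
theorem D210274 : act 3 n138093 = n210274 := rfl
def n210275 : Q := act 6 n138093
theorem D210275 : act 6 n138093 = n210275 := rfl
theorem F456829 : act 2 n210275 = n138098 := d3_1 D210275 (iv6 D138098) (iv2 F221316)
theorem F456830 : act 4 n210275 = n138094 := d10_1 D210275 (iv6 D138094) D138093
theorem F456831 : act 0 n206988 = n210275 := d20_1 (iv4 F442865) F456830 (iv3 F380757) (iv1 D190714) F363445 (iv4 F162400) (iv1 F162405) D195571 (iv3 F456665) F456669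
def n210276 : Q := act 5 n138094
theorem D210276 : act 5 n138094 = n210276 := rfl
theorem F456832 : act 2 n210276 = n138101 := d2_1 D210276 (iv5 D138101) (iv2 F221317)
theorem F456833 : act 4 n210276 = n195437 := d18_5 F456669 (iv4 F442865) F456831 F456830 D210276 F403761 F403758 D208721 F456668
def n210277 : Q := act 0 n138098
theorem D210277 : act 0 n138098 = n210277 := rfl
theorem F456834 : act 5 n210277 = n208574 := d19_1 D210277 (iv4 D208574) (iv3 D134745) (iv1 D63322) (iv5 D29916) (iv4 D14205) (iv3 F23710) (iv1 F26044) (iv5 F26046) (iv4 D14438) (iv3 F24078) (iv1 F39214) F39212 D30282 D64284 D136745 F347031 (iv4 F438347) F438346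
theorem F456835 : act 3 n210277 = n205972 := d20_5 F443139 F362704 (iv4 F438347) F438346 D210277 (iv4 D205972) (iv1 F204106) D126869 D205975 (iv1 F443142)
theorem F456836 : act 4 n210277 = n210231 := d20_8 (iv4 D66292) (iv1 F101854) F329875 F362699 (iv1 D64891) (iv3 F100702) (iv4 F221321) D210277 (iv3 F456662) F329934
theorem F456837 : act 6 n210277 = n183410 := d21_5 (iv5 F233571) F233572 (iv5 D138097) D138098 D210277 (iv5 F437482) (iv1 D205695) F365382 F365379 F329378
theorem F456838 : act 7 n206988 = n210277 := d14_0 F456837 F412713 (iv6 F437328) F437329 D206988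
def n210278 : Q := act 1 n138098
theorem D210278 : act 1 n138098 = n210278 := rfl
theorem F456839 : act 4 n210278 = n210230 := d18_7 F456676 F450572 (iv1 F403884) (iv4 F432129) (iv5 D138101) (iv4 F221321) D210278 (iv0 D210230) D210233
theorem F456840 : act 2 n206988 = n210278 := d1_3 F456839 (iv2 F456659) (iv4 F442865)
theorem F456841 : act 6 n206986 = n210278 := d10_0 F456839 (iv6 F456660) (iv4 F442857)
def n210279 : Q := act 5 n138098
theorem D210279 : act 5 n138098 = n210279 := rfl
theorem F456842 : act 6 n210279 = n198179 := d12_2 D138098 D210279 (iv5 F407122) F360487 (iv5 D138097)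
theorem F456843 : act 4 n210279 = n141890 := d16_4 (iv4 F432129) (iv5 D138101) (iv4 F221321) D210279 F224932 F180123 D195389 F403883 (iv2 F403882)
theorem F456844 : act 0 n210279 = n196309 := d20_7 F84215 (iv1 D50353) F38546 (iv3 F49458) D66525 D141890 (iv4 F456843) (iv4 D196309) F164749 (iv1 F84218)
def n210280 : Q := act 7 n138098
theorem D210280 : act 7 n138098 = n210280 := rfl
theorem F456845 : act 4 n210280 = n138102 := d11_1 D210280 (iv7 D138102) (iv4 F221321)
theorem F456846 : act 6 n210280 = n206823 := d14_1 D210280 F442439 F437884 F219240 D138098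
theorem F456847 : act 1 n206988 = n210280 := d15_1 (iv0 F456831) (iv7 D210280) (iv2 F456829)
def n210281 : Q := act 4 n138100
theorem D210281 : act 4 n138100 = n210281 := rfl
theorem F456848 : act 0 n200907 = n210281 := d20_10 (iv4 D210281) (iv1 D138100) (iv4 F221321) (iv3 F438346) F439228 (iv3 D206094) (iv4 D127378) F94243 D113616 D200907
def n210282 : Q := act 5 n138100
theorem D210282 : act 5 n138100 = n210282 := rfl
theorem F456849 : act 7 n210282 = n184250 := d13_2 (iv7 F380811) D210282 (iv5 F380809)
theorem F456850 : act 0 n210282 = n199046 := d18_0 F410465 (iv1 F396978) F396974 (iv5 F456663) (iv4 F456836) (iv0 D210277) F221321 D138100 D210282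
def n210283 : Q := act 0 n138101
theorem D210283 : act 0 n138101 = n210283 := rfl
def n210284 : Q := act 1 n138101
theorem D210284 : act 1 n138101 = n210284 := rfl
def n210285 : Q := act 7 n138101
theorem D210285 : act 7 n138101 = n210285 := rfl
theorem F456851 : act 3 n210285 = n138116 := d8_1 D210285 (iv7 D138116) (iv3 F221322)
theorem F456852 : act 4 n210285 = n195436 := d11_1 D210285 F403887 (iv4 F432129)
theorem F456853 : act 5 n210285 = n138102 := d13_1 D210285 (iv7 D138102) D138101
def n210286 : Q := act 0 n138115
theorem D210286 : act 0 n138115 = n210286 := rfl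
theorem F456854 : act 4 n210286 = n209245 := d18_3 (iv1 D138114) D138115 D210286 (iv5 F456035) F456034 F447625 F447620 (iv0 D141324) (iv5 F329081)
theorem F456855 : act 2 n209968 = n210286 := d1_3 F456854 (iv2 F452877) D209968
theorem F456856 : act 7 n209969 = n210286 := d11_0 F456854 F452879 D209969
def n210287 : Q := act 1 n138115
theorem D210287 : act 1 n138115 = n210287 := rfl
theorem F456857 : act 7 n210287 = n209968 := d15_2 (iv0 D210286) D210287 F456855
theorem F456858 : act 4 n210287 = n209246 := d17_9 (iv1 D209246) (iv5 D136012) D136010 D209243 F452862 (iv5 D196313) D196312 F424762 D210287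
theorem F456859 : act 6 n197456 = n210287 := d21_9 (iv5 F424762) (iv1 D196312) D196313 (iv6 F440403) (iv1 F440401) (iv6 F410264) F410263 (iv1 F405594) (iv5 F404417) (iv1 D210287)
theorem F456860 : act 2 n210287 = n209969 := d3_1 F456859 F455576 F413645
theorem F456861 : act 3 n210287 = n197457 := d7_1 F456859 (iv6 D197457) D197456
def n210288 : Q := act 7 n138115
theorem D210288 : act 7 n138115 = n210288 := rfl
theorem F456862 : act 4 n210288 = n138116 := d11_1 D210288 (iv7 D138116) D138115
theorem F456863 : act 1 n209969 = n210288 := d15_1 (iv0 F455578) (iv7 D210288) (iv2 F453054)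
theorem F456864 : act 1 n210288 = n209968 := d15_1 F456863 (iv7 F456857) F456860
def n210289 : Q := act 6 n138116
theorem D210289 : act 6 n138116 = n210289 := rfl
theorem F456865 : act 2 n210289 = n202539 := d3_1 D210289 (iv6 F453059) F453055
theorem F456866 : act 7 n210289 = n202538 := d14_2 D138116 D210289 F424413 F408867 F204039
theorem F456867 : act 0 n210289 = n202537 := d21_4 (iv5 F360527) (iv1 F219262) (iv5 F221327) D210289 (iv6 D202537) (iv5 F224262) (iv1 F359148) F359150 D199042 F410453
theorem F456868 : act 1 n210289 = n202541 := d15_1 (iv0 F456867) (iv7 D202541) (iv2 F424410)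
theorem F456869 : act 1 n202541 = n210004 := d15_1 F456868 F455709 (iv2 F456865)
def n210290 : Q := act 3 n138143
theorem D210290 : act 3 n138143 = n210290 := rfl
theorem F456870 : act 2 n210290 = n190661 := d0_1 D210290 (iv3 F416748) F429951 (iv3 D203816) (iv2 F359070)
theorem F456871 : act 5 n210290 = n206771 := d6_2 (iv5 F359071) D210290 F442125
theorem F456872 : act 6 n210290 = n150248 := d7_2 (iv6 F359072) D210290 F330170
theorem F456873 : act 7 n210290 = n190664 := d8_2 (iv7 F359080) D210290 F380488
theorem F456874 : act 4 n210290 = n165685 := d20_6 F56972 (iv1 F44568) D36483 D80107 (iv1 F323887) D210290 (iv1 D165685) F122203 (iv3 D36249) D36247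
theorem F456875 : act 0 n203826 = n210290 := d18_0 F456874 (iv1 D165685) F122203 (iv5 F322724) (iv4 F211498) F340133 (iv4 F211637) D207600 F445631
theorem F456876 : act 1 n180590 = n210290 := d18_6 (iv1 F380495) (iv4 F446458) F446459 (iv4 F446245) F446246 (iv4 F281097) F456874 F260958 D190666
def n210291 : Q := act 4 n138143
theorem D210291 : act 4 n138143 = n210291 := rfl
theorem F456877 : act 2 n210291 = n198728 := d1_1 D210291 F409004 (iv2 F359070)
theorem F456878 : act 3 n210291 = n209933 := d5_1 D210291 F455418 (iv3 F435944) (iv4 F456874) (iv3 D210290)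
theorem F456879 : act 6 n210291 = n159276 := d10_2 (iv6 F359072) D210291 (iv4 D159276)
theorem F456880 : act 7 n210291 = n198707 := d11_2 (iv7 F359080) D210291 F408947
theorem F456881 : act 0 n210291 = n198729 := d18_2 (iv1 F323887) D210291 (iv4 F433836) F433837 F219892 (iv0 F340134) F216533 F340132 F321964
theorem F456882 : act 0 n198698 = n210291 := d20_10 (iv4 D210291) (iv1 D138143) D138144 (iv3 F433800) F433803 F244990 F110936 F168984 F169867 D198698
def n210292 : Q := act 5 n138144
theorem D210292 : act 5 n138144 = n210292 := rfl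
theorem F456883 : act 2 n210292 = n203818 := d2_1 D210292 (iv5 D203818) (iv2 F366246)
theorem F456884 : act 3 n210292 = n204893 := d6_1 D210292 F434046 F433800
theorem F456885 : act 6 n210292 = n194974 := d12_2 F366245 D210292 (iv5 D194974) F352054 (iv5 F353268)
theorem F456886 : act 1 n210292 = n187226 := d17_6 D92200 F340139 F340131 D64900 D138144 D210292 F373644 (iv0 D188482) F141775
def n210293 : Q := act 4 n138154
theorem D210293 : act 4 n138154 = n210293 := rfl
theorem F456887 : act 2 n210293 = n138155 := d1_1 D210293 (iv4 D138155) D138154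
theorem F456888 : act 6 n210293 = n157809 := d10_2 F380788 D210293 F395409
theorem F456889 : act 7 n210293 = n191672 := d11_2 F449499 D210293 (iv4 F449498)
theorem F456890 : act 0 n210293 = n191674 := d17_0 F384103 (iv1 F380134) (iv5 F384162) (iv4 F417196) (iv5 F452654) F452658 (iv5 F441544) F441546 D210293
theorem F456891 : act 0 n186737 = n210293 := d20_10 (iv4 D210293) (iv1 F441546) (iv4 D206606) D206605 (iv1 F441539) F368097 F294225 (iv1 F293209) (iv4 F136780) D186737
def n210294 : Q := act 4 n138156
theorem D210294 : act 4 n138156 = n210294 := rfl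
theorem F456892 : act 2 n210294 = n194668 := d1_1 D210294 F394028 F380790
theorem F456893 : act 7 n210294 = n194667 := d11_2 (iv7 F339699) D210294 (iv4 F394025)
theorem F456894 : act 5 n210294 = n157859 := d16_1 D210294 (iv4 F417135) F436056 F436057 (iv5 F436058) (iv4 F449498) F449501 F394239 F380790
theorem F456895 : act 0 n210294 = n192229 := d18_2 (iv1 F380787) D210294 F386111 F294454 (iv4 F332739) D191690 (iv4 F417196) F378147 (iv5 F286051)
theorem F456896 : act 1 n210294 = n170838 := d18_6 D197967 (iv4 F456817) F456820 (iv4 D138155) D138156 D210294 F332736 (iv0 F386128) F386126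
def n210295 : Q := act 5 n138157
theorem D210295 : act 5 n138157 = n210295 := rfl
theorem F456897 : act 3 n210295 = n138172 := d6_1 D210295 (iv5 D138172) (iv3 F221345)
theorem F456898 : act 6 n210295 = n182137 := d12_2 D138157 D210295 (iv5 F434331) F434332 (iv5 D138156)
theorem F456899 : act 0 n210295 = n188800 := d17_2 (iv1 F380783) D210295 (iv5 D188800) (iv4 F176545) D200691 (iv0 F440917) F440916 F440807 F285244
def n210296 : Q := act 0 n138167
theorem D210296 : act 0 n138167 = n210296 := rfl
theorem F456900 : act 4 n210296 = n192970 := d18_3 (iv1 D138166) D138167 D210296 F388389 (iv4 F438639) (iv0 F446351) F446349 (iv0 F444153) F442267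
theorem F456901 : act 1 n138184 = n210296 := d15_0 (iv0 D210296) (iv7 F449510) F449508
theorem F456902 : act 2 n193028 = n210296 := d1_3 F456900 F388387 (iv4 F388551)
theorem F456903 : act 6 n192969 = n210296 := d10_0 F456900 (iv6 D192970) D192969
def n210297 : Q := act 1 n138167
theorem D210297 : act 1 n138167 = n210297 := rfl
theorem F456904 : act 1 n210297 = n138184 := d15_1 D210297 (iv7 F453070) F453069
theorem F456905 : act 7 n210297 = n193028 := d15_2 (iv0 D210296) D210297 F456902
theorem F456906 : act 4 n210297 = n193031 := d18_7 (iv1 F342186) (iv4 F203971) F351695 (iv4 D64904) D64905 D138167 D210297 (iv0 F449312) (iv5 D134603)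
theorem F456907 : act 3 n201451 = n210297 := d5_5 F456906 F388558 F420532 F420529 D201451
theorem F456908 : act 6 n201743 = n210297 := d10_0 F456906 F388559 (iv4 F421641)
def n210298 : Q := act 3 n138167
theorem D210298 : act 3 n138167 = n210298 := rfl
def n210299 : Q := act 5 n138167
theorem D210299 : act 5 n138167 = n210299 := rfl
theorem F456909 : act 4 n210299 = n187226 := d16_2 D138167 D210299 F373644 F373639 (iv5 D138182) (iv4 D64909) D64910 (iv7 F359620) F359619
theorem F456910 : act 1 n210299 = n207639 := d17_6 (iv1 D64240) F48638 D30499 D64905 D138167 D210299 (iv5 D207639) (iv0 F351699) (iv4 D136692)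
theorem F456911 : act 6 n187225 = n210299 := d10_0 F456909 (iv6 D187226) D187225
def n210300 : Q := act 6 n138167
theorem D210300 : act 6 n138167 = n210300 := rfl
theorem F456912 : act 4 n210300 = n138168 := d10_1 D210300 (iv6 D138168) D138167
def n210301 : Q := act 5 n138168
theorem D210301 : act 5 n138168 = n210301 := rfl
theorem F456913 : act 3 n210301 = n182137 := d6_1 D210301 (iv5 F434331) (iv3 F434333)
theorem F456914 : act 6 n210301 = n138172 := d12_2 D138168 D210301 (iv5 D138172) (iv6 D64906) D64905
def n210302 : Q := act 3 n138176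
theorem D210302 : act 3 n138176 = n210302 := rfl
theorem F456915 : act 6 n210302 = n206977 := d7_2 F437870 D210302 (iv3 F442813)
def n210303 : Q := act 4 n138176
theorem D210303 : act 4 n138176 = n210303 := rfl
theorem F456916 : act 2 n210303 = n207824 := d1_1 D210303 (iv4 F446641) (iv2 F437871)
theorem F456917 : act 7 n210303 = n207823 := d11_2 F452996 D210303 (iv4 F452995)
theorem F456918 : act 0 n207826 = n210303 := d20_10 (iv4 D210303) (iv1 D138176) (iv4 F364602) (iv3 F437858) (iv1 F437863) F437897 F437894 (iv1 F217929) F217926 (iv3 F446607)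
theorem F456919 : act 3 n205740 = n210303 := d20_5 F334311 (iv1 F334319) (iv4 D129166) (iv3 F207394) (iv1 F437647) (iv4 D210303) (iv1 D138176) (iv4 F364602) (iv3 F437858) (iv1 F437863)
theorem F456920 : act 5 n210303 = n207039 := d6_2 (iv5 F437648) F456919 (iv3 D207039)
theorem F456921 : act 1 n207820 = n210303 := d15_0 (iv0 F456918) (iv7 D207826) (iv2 F446590)
theorem E103968 : n210302 = n210255 := ((c20_5 (iv4 D186810) (iv1 F357347) (iv4 D138035) D138034 D210255 (iv3 D210302) D210303 (iv1 F456921) (iv4 F449061) (iv3 F450148) F450150)).symm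
theorem F456922 : act 3 n210255 = n138176 := (sb E103968 (iv3 D210302))
theorem F456923 : act 6 n210255 = n206977 := (sb E103968 F456915)
def n210304 : Q := act 5 n138177
theorem D210304 : act 5 n138177 = n210304 := rfl
theorem F456924 : act 2 n210304 = n138179 := d2_1 D210304 (iv5 D138179) D138177
theorem F456925 : act 3 n210304 = n194719 := d6_1 D210304 (iv5 F449501) F449497
theorem F456926 : act 4 n210304 = n203474 := d18_5 (iv1 D208424) F216313 (iv1 F437880) F437856 D210304 (iv0 D203474) (iv4 F428448) (iv0 F428450) F449304
theorem F456927 : act 0 n191961 = n210304 := d21_1 (iv5 F385011) (iv5 D210304) (iv6 F364182) (iv1 D158968) (iv6 F363953) F363952 F442322 (iv5 F442149) F454351 F454352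
def n210305 : Q := act 0 n138179
theorem D210305 : act 0 n138179 = n210305 := rfl
theorem F456928 : act 4 n210305 = n201445 := d18_1 D210305 F420534 (iv4 F384413) F449304 (iv4 F449303) (iv0 F449786) F446638 F441953 D138179
theorem F456929 : act 3 n191963 = n210305 := d5_5 F456928 F420533 (iv4 F410870) F410869 F388708
theorem F456930 : act 7 n191961 = n210305 := d11_0 F456928 (iv7 D201445) (iv4 F385010)
theorem F456931 : act 6 n210305 = n192727 := d14_1 F456930 (iv7 D192727) (iv6 D100564) (iv7 F153052) D191961
def n210306 : Q := act 1 n138179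
theorem D210306 : act 1 n138179 = n210306 := rfl
theorem F456932 : act 4 n201441 = n210306 := d20_0 (iv1 D210306) (iv4 F421462) F421461 F356720 (iv3 D185518) (iv4 D88371) (iv1 F70440) D87415 D183133 (iv1 F420535)
theorem F456933 : act 6 n183406 = n210306 := d21_3 (iv5 D103940) (iv1 F294887) D183406 (iv1 D210306) (iv6 F421460) F421458 (iv1 F230153) D148516 F355597 F352764
theorem F456934 : act 5 n183405 = n210306 := d21_6 (iv5 D146919) D146917 F347316 (iv6 D96482) (iv1 F295068) D183405 (iv1 D210306) (iv5 D138179) (iv6 F333874) (iv1 F336997)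
theorem F456935 : act 2 n210306 = n191961 := d2_1 F456934 F385011 F367726
theorem F456936 : act 3 n210306 = n192739 := d6_1 F456934 F387622 F383895
def n210307 : Q := act 5 n138184
theorem D210307 : act 5 n138184 = n210307 := rfl
theorem F456937 : act 0 n210307 = n207639 := d17_2 (iv1 F456901) D210307 (iv5 D207639) F211731 F201782 F342186 D134603 (iv0 F388390) (iv4 F456900)
def n210308 : Q := act 3 n138198
theorem D210308 : act 3 n138198 = n210308 := rfl
theorem F456938 : act 2 n210308 = n207934 := d0_1 D210308 (iv3 D207934) F338385 (iv3 F213552) F338560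
theorem F456939 : act 5 n210308 = n164280 := d6_2 (iv5 F338552) D210308 (iv3 D164280)
theorem F456940 : act 7 n210308 = n207952 := d8_2 (iv7 F338559) D210308 F447122
theorem F456941 : act 0 n210308 = n207891 := d20_4 (iv4 F204285) (iv1 F204288) D138198 D210308 F446902 (iv4 F330898) F443240 F443237 F217488 F338468
theorem F456942 : act 0 n207890 = n210308 := d20_4 (iv4 F328608) D194778 (iv4 F443317) (iv3 F446900) (iv3 D210308) (iv4 D138198) (iv1 D64914) (iv4 F93818) (iv3 F203841) F337693
theorem F456943 : act 6 n210308 = n198907 := d21_5 F262497 (iv1 D163723) D163725 (iv6 F446897) F456942 (iv5 D198907) F175051 (iv5 F330890) F351662 (iv1 F262496)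
def n210309 : Q := act 6 n138198
theorem D210309 : act 6 n138198 = n210309 := rfl
theorem F456944 : act 2 n210309 = n181983 := d3_1 D210309 (iv6 F338591) F338560
theorem F456945 : act 3 n210309 = n198907 := d7_1 D210309 (iv6 F456943) (iv3 D210308)
theorem F456946 : act 4 n210309 = n138200 := d10_1 D210309 (iv6 D138200) D138198
theorem F456947 : act 5 n210309 = n198906 := d12_1 D210309 (iv6 D198906) F354604 (iv6 D164283) (iv5 F338552)
theorem F456948 : act 7 n210309 = n207970 := d14_2 (iv7 F338559) D210309 (iv6 D207970) F213373 D132919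
theorem F456949 : act 0 n210309 = n207973 := d21_4 (iv5 D78916) D78914 (iv5 F338552) D210309 F447214 F443318 F439654 F438233 F438232 (iv1 D164290)
theorem F456950 : act 0 n207971 = n210309 := d21_4 F446730 F396669 F362158 (iv6 F447208) (iv6 D210309) F338552 (iv1 F258911) (iv5 F374892) (iv6 F438605) F446735
def n210310 : Q := act 6 n138201
theorem D210310 : act 6 n138201 = n210310 := rfl
theorem F456951 : act 2 n210310 = n149138 := d3_1 D210310 (iv6 F431862) F431856
theorem F456952 : act 3 n210310 = n154584 := d7_1 D210310 (iv6 F242657) F363927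
theorem F456953 : act 4 n210310 = n154932 := d10_1 D210310 F243623 F363924
theorem F456954 : act 5 n210310 = n149051 := d12_1 D210310 F449567 (iv5 F449563) F397634 F397630
theorem F456955 : act 7 n210310 = n149143 := d14_2 (iv7 F363925) D210310 F234516 F190228 D118200
theorem F456956 : act 0 n210310 = n167836 := d21_4 D123390 (iv1 F397628) F397630 D210310 (iv6 F310494) F310493 (iv1 F284622) (iv5 D125115) (iv6 F210894) (iv1 F304386)
theorem F456957 : act 1 n210310 = n149023 := d15_1 (iv0 F456956) (iv7 F364033) (iv2 F364034)
def n210311 : Q := act 6 n138207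
theorem D210311 : act 6 n138207 = n210311 := rfl
theorem F456958 : act 3 n210311 = n140337 := d7_1 D210311 (iv6 D140337) (iv3 F221369)
theorem F456959 : act 4 n210311 = n138209 := d10_1 D210311 (iv6 D138209) D138207
theorem F456960 : act 5 n210311 = n170814 := d12_1 D210311 (iv6 F430934) F430933 F424230 F389211
theorem F456961 : act 0 n210311 = n166067 := d20_4 (iv4 F403995) F403997 (iv4 F223446) (iv3 F456958) (iv3 D166067) (iv4 D79729) D79727 D166060 F359316 (iv1 F358821)
def n210312 : Q := act 6 n138221
theorem D210312 : act 6 n138221 = n210312 := rfl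
theorem F456962 : act 3 n210312 = n197443 := d7_1 D210312 (iv6 D197443) (iv3 F221390)
theorem F456963 : act 4 n210312 = n138223 := d10_1 D210312 (iv6 D138223) D138221
theorem F456964 : act 7 n210312 = n205448 := d14_2 F397231 D210312 (iv6 F446976) F446977 (iv6 F429381)
theorem F456965 : act 0 n193418 = n210312 := d20_7 F219618 F99892 D109754 (iv3 F354545) (iv1 D101678) D101679 (iv4 F389786) F456963 F221392 F221405
def n210313 : Q := act 5 n138223
theorem D210313 : act 5 n138223 = n210313 := rfl
theorem F456966 : act 3 n210313 = n138228 := d6_1 D210313 (iv5 D138228) (iv3 F221392)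
theorem F456967 : act 6 n210313 = n192354 := d12_2 D138223 D210313 (iv5 F386551) (iv6 F361468) F351798
theorem F456968 : act 7 n210313 = n210009 := d13_2 F391439 D210313 F455736
def n210314 : Q := act 5 n138227
theorem D210314 : act 5 n138227 = n210314 := rfl
theorem F456969 : act 2 n210314 = n203168 := d2_1 D210314 (iv5 D203168) F361458
theorem F456970 : act 3 n210314 = n192354 := d6_1 D210314 (iv5 F386551) F361455
theorem F456971 : act 6 n210314 = n138228 := d12_2 D138227 D210314 (iv5 D138228) (iv6 D64925) D64924
theorem F456972 : act 7 n210314 = n204149 := d13_2 (iv7 F361457) D210314 (iv5 D204149)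
theorem F456973 : act 0 n210314 = n149022 := d17_2 (iv1 F361456) D210314 (iv5 D149022) (iv4 D69895) D69896 F234112 (iv5 F321075) F321072 (iv4 F163050)
theorem F456974 : act 1 n210314 = n148968 := d17_6 D69880 D149007 F309797 F307780 F361454 D210314 (iv5 D148968) F232804 F74333
def n210315 : Q := act 6 n138241
theorem D210315 : act 6 n138241 = n210315 := rfl
theorem F456975 : act 2 n210315 = n154537 := d3_1 D210315 F357884 (iv2 F357888)
theorem F456976 : act 3 n210315 = n138243 := d7_1 D210315 (iv6 D138243) D138241
theorem F456977 : act 4 n210315 = n138249 := d10_1 D210315 (iv6 D138249) (iv4 F221421)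
theorem F456978 : act 7 n210315 = n206316 := d14_2 (iv7 F221422) D210315 F440207 (iv7 F383163) F383160
theorem F456979 : act 5 n210315 = n154536 := d21_6 D136711 (iv1 F219857) F176864 D126956 F351803 D210315 (iv1 F242571) (iv5 F354152) (iv6 D137104) (iv1 F100380)
theorem F456980 : act 0 n155831 = n210315 := d21_10 F456979 (iv1 F242571) (iv5 F354152) (iv6 D137104) (iv1 F100380) (iv6 F331265) (iv5 F375903) F375905 F349917 D155831
theorem F456981 : act 1 n206317 = n210315 := d15_0 (iv0 F456980) F353050 (iv2 F440213)
def n210316 : Q := act 3 n138244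
theorem D210316 : act 3 n138244 = n210316 := rfl
theorem F456982 : act 4 n210316 = n138257 := d5_2 D138244 D210316 (iv3 D138257) (iv4 D64941) (iv3 F100718)
theorem F456983 : act 5 n210316 = n159323 := d6_2 (iv5 F336486) D210316 F250822
theorem F456984 : act 7 n210316 = n193499 := d8_2 F338804 D210316 F390084
theorem F456985 : act 0 n210316 = n167781 := d19_4 F163996 D64933 D138244 D210316 (iv5 D167781) (iv4 F264148) (iv3 F435765) (iv1 F435769) F415178 (iv4 D113441) F331138 (iv1 F297452) (iv5 F360407) F400876 (iv3 D196504) (iv1 D107039) F78174 F37908 (iv3 F48667)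
theorem F456986 : act 1 n210316 = n193502 := d15_1 (iv0 F456985) (iv7 F390098) F342300
theorem F456987 : act 2 n192120 = n210316 := d15_3 F456986 (iv0 D193502) (iv7 F385648)
def n210317 : Q := act 5 n138249
theorem D210317 : act 5 n138249 = n210317 := rfl
theorem F456988 : act 2 n210317 = n193452 := d2_1 D210317 (iv5 D193452) (iv2 F365730)
theorem F456989 : act 3 n210317 = n138254 := d6_1 D210317 (iv5 D138254) (iv3 F221430)
theorem F456990 : act 6 n210317 = n193444 := d12_2 D138249 D210317 (iv5 D193444) (iv6 D101726) (iv5 F327150)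
theorem F456991 : act 7 n210317 = n209761 := d13_2 F389821 D210317 F454859
theorem F456992 : act 4 n210317 = n187033 := d16_2 F456977 D210317 (iv5 F390316) (iv4 F390314) (iv5 D153897) F109299 D128240 (iv7 F242575) (iv2 F456975)
theorem F456993 : act 0 n210317 = n187038 := d17_2 (iv1 F455959) D210317 F368882 F337534 (iv5 F337526) F337523 D162624 (iv0 F346537) (iv4 F455957)
theorem F456994 : act 1 n210317 = n209775 := d17_6 (iv1 F354143) (iv5 F354159) F305721 (iv5 F456979) F456977 D210317 F454912 F385751 F385749
def n210318 : Q := act 4 n138254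
theorem D210318 : act 4 n138254 = n210318 := rfl
theorem F456995 : act 2 n210318 = n209711 := d1_1 D210318 F454711 (iv2 F221437)
theorem F456996 : act 5 n210318 = n209010 := d9_2 D138254 D210318 (iv4 D209010) (iv5 D135570) (iv4 D63744) D63745 D135571 D209012 (iv4 F451842) (iv5 F451846) (iv4 D209013) (iv5 D135573) (iv4 D63748) (iv5 F48900) (iv4 F100723)
theorem F456997 : act 6 n210318 = n203199 := d10_2 (iv6 F365826) D210318 F427387
theorem F456998 : act 7 n210318 = n209710 := d11_2 (iv7 F221438) D210318 F454705
theorem F456999 : act 0 n210318 = n209018 := d17_0 F451866 (iv1 F451810) (iv5 F451814) (iv4 D136445) (iv5 D64144) (iv0 F99817) D135956 (iv0 F221440) D210318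
theorem F457000 : act 1 n210318 = n209008 := d18_6 F446957 F219638 F99924 (iv4 F100723) D138254 D210318 F451825 F451862 F451856
def n210319 : Q := act 3 n138273
theorem D210319 : act 3 n138273 = n210319 := rfl
theorem F457001 : act 5 n210319 = n146655 := d6_2 F411586 D210319 F411587
theorem F457002 : act 4 n210319 = n196392 := d20_6 (iv4 D14482) D14480 D30516 D64952 D138273 D210319 (iv1 D196392) F164824 (iv3 D64962) (iv1 D30520)
theorem F457003 : act 0 n138361 = n210319 := d20_4 F48916 D30530 D64993 D138361 (iv3 D210319) (iv4 F447737) (iv1 F447739) F247492 (iv3 D138305) (iv1 D64965)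
def n210320 : Q := act 3 n138274
theorem D210320 : act 3 n138274 = n210320 := rfl
theorem F457004 : act 7 n210320 = n192902 := d8_2 (iv7 F411594) D210320 F411611
theorem F457005 : act 0 n210320 = n192903 := d20_10 F388160 (iv1 F167793) (iv4 F172466) F172465 (iv1 F111678) D138305 (iv4 F247492) F447712 F447711 D210320
theorem F457006 : act 0 n191978 = n210320 := d20_4 (iv4 F434713) F434714 (iv4 D204361) (iv3 F385061) (iv3 D210320) (iv4 F447711) (iv1 F447713) D208069 F447742 (iv1 F434151)
theorem F457007 : act 6 n210320 = n188686 := d21_5 (iv5 D47326) D47324 F153183 D191978 F457006 (iv5 F374455) F374456 F156492 (iv6 D100931) F74546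
theorem F457008 : act 2 n189071 = n210320 := d3_3 F457007 F378694 D189071
def n210321 : Q := act 6 n138274
theorem D210321 : act 6 n138274 = n210321 := rfl
theorem F457009 : act 2 n210321 = n192883 := d3_1 D210321 (iv6 F411540) F411595
theorem F457010 : act 3 n210321 = n188686 := d7_1 D210321 (iv6 F457007) (iv3 D210320)
theorem F457011 : act 4 n210321 = n192844 := d10_1 D210321 (iv6 F447709) F447711
theorem F457012 : act 0 n210321 = n138331 := d21_4 D111180 D199307 F411581 D210321 F221531 (iv5 F329814) (iv1 F294158) F294160 (iv6 F347692) F357627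
theorem F457013 : act 0 n192884 = n210321 := d21_4 F411638 (iv1 F275148) (iv5 F385711) (iv6 F388099) (iv6 D210321) (iv5 F411581) (iv1 F411582) F172429 D111186 D199317
theorem F457014 : act 7 n189064 = n210321 := d8_0 F457010 F378695 D189064
def n210322 : Q := act 1 n138277
theorem D210322 : act 1 n138277 = n210322 := rfl
theorem F457015 : act 1 n210322 = n192859 := d15_1 D210322 (iv7 F453103) F453099
theorem F457016 : act 3 n192906 = n210322 := d20_3 (iv4 F388197) F417953 (iv4 F417952) (iv1 D210322) F221478 F100741 D64955 D138282 (iv3 F418001) F418003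
def n210323 : Q := act 3 n138280
theorem D210323 : act 3 n138280 = n210323 := rfl
theorem F457017 : act 2 n210323 = n201952 := d0_1 D210323 F422496 F450569 (iv3 D208719) (iv2 F223600)
theorem F457018 : act 4 n210323 = n201951 := d5_2 (iv4 F223601) D210323 F422491 (iv4 F403731) (iv3 F403733)
theorem F457019 : act 5 n210323 = n141318 := d6_2 (iv5 F329663) D210323 (iv3 D141318)
theorem F457020 : act 6 n210323 = n139382 := d7_2 (iv6 F223602) D210323 (iv3 D139382)
theorem F457021 : act 7 n210323 = n202387 := d8_2 (iv7 F223603) D210323 F423842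
theorem F457022 : act 0 n210323 = n202390 := d19_4 F342848 (iv5 F342838) (iv4 F223601) D210323 F423849 F366221 (iv3 D113770) F82948 D76341 F114439 (iv3 F164520) F164522 (iv5 D106231) F77492 (iv3 D25506) D25504 D52541 D113786 F328266
theorem F457023 : act 3 n202308 = n210284 := d20_9 F432129 (iv1 F403888) (iv4 F432127) F432126 F329230 D210323 F457018 (iv1 F422495) D202308 (iv1 D210284)
theorem F457024 : act 0 n202389 = n210323 := d20_4 D138115 D210286 F456854 (iv3 F452878) (iv3 D210323) F223601 (iv1 F223604) F329406 (iv3 F329080) (iv1 D138114)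
theorem F457025 : act 4 n210284 = n197243 := d5_2 D202308 F457023 F403707 F166977 (iv3 F339875)
theorem F457026 : act 6 n210284 = n197242 := d7_2 (iv6 F423578) F457023 F403704
def n210324 : Q := act 3 n138283
theorem D210324 : act 3 n138283 = n210324 := rfl
theorem F457027 : act 2 n210324 = n204974 := d0_1 D210324 (iv3 D204974) F232991 (iv3 F338215) (iv2 F356559)
theorem F457028 : act 5 n210324 = n146825 := d6_2 (iv5 F356561) D210324 F230172
theorem F457029 : act 7 n210324 = n208723 := d8_2 (iv7 F356562) D210324 (iv3 D208723)
theorem F457030 : act 4 n210324 = n207656 := d20_6 (iv4 D24940) (iv1 F24121) D30518 D64957 D138283 D210324 (iv1 D207656) F211759 (iv3 D64959) (iv1 F48913)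
theorem F457031 : act 0 n151578 = n210324 := d20_4 F80910 D108524 F385070 (iv3 F366824) (iv3 D210324) F356560 (iv1 F403697) (iv4 F411774) (iv3 D199340) (iv1 D111208)
def n210325 : Q := act 6 n138283
theorem D210325 : act 6 n138283 = n210325 := rfl
theorem F457032 : act 2 n210325 = n146947 := d3_1 D210325 F230340 (iv2 F356559)
theorem F457033 : act 4 n210325 = n144449 := d10_1 D210325 (iv6 F427534) (iv4 F356560)
theorem F457034 : act 5 n210325 = n146826 := d12_1 D210325 (iv6 D146826) (iv5 D68834) D68835 (iv5 F356561)
theorem F457035 : act 0 n210325 = n192881 := d21_4 D51311 (iv1 F331636) (iv5 F356561) D210325 (iv6 D192881) (iv5 F375506) (iv1 F375508) (iv5 D151381) F319245 (iv1 D51309)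
theorem F457036 : act 1 n210325 = n138334 := d15_1 (iv0 F457035) (iv7 F411418) F411415
theorem F457037 : act 6 n203123 = n208714 := d21_5 F183490 (iv1 D54213) D54214 D117697 D203123 F450540 (iv1 F457036) F457034 (iv6 D146826) (iv1 F183488)
theorem F457038 : act 3 n208715 = n203123 := d7_3 F457037 (iv3 D208714) D208715
theorem F457039 : act 7 n197309 = n210325 := d11_0 F457033 F227246 D197309
def n210326 : Q := act 6 n138284
theorem D210326 : act 6 n138284 = n210326 := rfl
theorem F457040 : act 2 n210326 = n139416 := d3_1 D210326 F372578 (iv2 F356553)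
theorem F457041 : act 3 n210326 = n139985 := d7_1 D210326 (iv6 F348292) F314742
theorem F457042 : act 0 n139411 = n210326 := d21_4 D134002 (iv1 F355997) (iv5 D139410) D139411 (iv6 D210326) F356554 F331633 (iv5 D51311) (iv6 F47903) D62947
theorem F457043 : act 7 n139417 = n210326 := d8_0 F457041 (iv7 F424550) F424554
theorem F457044 : act 0 n210326 = n139419 := d20_4 (iv4 F424427) F424429 (iv4 F348290) (iv3 F457041) F222628 F101153 (iv1 F53602) (iv4 F111698) (iv3 F227310) (iv1 F363484)
def n210327 : Q := act 4 n138288
theorem D210327 : act 4 n138288 = n210327 := rfl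
theorem F457045 : act 2 n210327 = n209366 := d1_1 D210327 F453412 (iv2 F447699)
theorem F457046 : act 5 n210327 = n208781 := d16_3 (iv4 F421494) F421495 D210327 (iv4 F451321) F451320 F365154 (iv5 F422176) F422179 (iv2 F335491)
def n210328 : Q := act 3 n138289
theorem D210328 : act 3 n138289 = n210328 := rfl
theorem F457047 : act 2 n210328 = n156241 := d0_1 D210328 (iv3 F447689) F447688 (iv3 F443518) F447700
theorem F457048 : act 7 n210328 = n156242 := d8_2 (iv7 F447701) D210328 F332254
theorem F457049 : act 0 n210328 = n156246 := d19_4 (iv1 F450835) F450840 F433558 D210328 F316173 (iv4 F316072) F336908 (iv1 F336906) F193822 F304923 D62749 F209592 (iv5 F208225) (iv4 F215106) F306373 (iv1 D89108) D89109 D186767 (iv3 F372592)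
theorem F457050 : act 4 n178766 = n210328 := d19_2 (iv1 F246106) F313697 (iv3 D210328) (iv1 D138289) (iv5 F329496) F197524 F193603 (iv1 F178095) F336953 (iv4 F168751) (iv3 D108811) (iv1 D50241) D50243 (iv4 F80939) (iv3 F172513) F332235 (iv5 F332246) F332245 (iv3 F319532)
theorem F457051 : act 1 n210328 = n156235 := d18_6 (iv1 F314631) (iv4 D85033) F312275 D131052 F313697 F457050 (iv4 D156235) D156234 F245542
def n210329 : Q := act 5 n138289
theorem D210329 : act 5 n138289 = n210329 := rfl
theorem F457052 : act 4 n210329 = n201877 := d9_1 D210329 F422176 (iv4 F365154) (iv5 F451320) F451321 (iv5 F457046) (iv4 D210327) (iv5 F421495) F421494 (iv5 F251498) (iv4 F449997) (iv5 F450726) F450837 F450840 F433558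
theorem F457053 : act 0 n210329 = n138318 := d21_1 D210329 F221514 D138606 (iv1 F456809) F456805 (iv5 D204248) (iv1 D123224) D123225 (iv6 F329208) (iv1 F245979)
def n210330 : Q := act 3 n138294
theorem D210330 : act 3 n138294 = n210330 := rfl
theorem F457054 : act 5 n210330 = n148789 := d6_2 (iv5 F345983) D210330 (iv3 F348298)
theorem F457055 : act 4 n210330 = n197257 := d20_6 (iv4 D29815) (iv1 F47954) (iv4 F48915) D64962 D138294 D210330 (iv1 D197257) F167048 (iv3 D63434) F48175
theorem F457056 : act 1 n199340 = n210330 := d17_8 (iv1 D197257) D197259 F411745 F411746 D199333 (iv5 F411751) (iv0 F369174) (iv5 F411772) F457055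
theorem F457057 : act 0 n156243 = n210330 := d18_2 (iv1 D156269) (iv4 F245558) F457055 (iv5 F434686) (iv4 D179951) (iv0 F318486) (iv4 F167037) F353528 F336911
theorem F457058 : act 6 n192477 = n210330 := d12_0 F457054 (iv6 D148789) D148788 (iv6 F446570) F446571
def n210331 : Q := act 4 n138294
theorem D210331 : act 4 n138294 = n210331 := rfl
theorem F457059 : act 7 n210331 = n203895 := d11_2 (iv7 F358663) D210331 F430285
theorem F457060 : act 5 n210331 = n157875 := d16_1 D210331 (iv4 F302606) F320254 (iv4 F302833) F60339 D75937 (iv5 F348678) (iv7 F358660) F358658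
theorem F457061 : act 0 n210331 = n199821 := d17_0 (iv5 D199821) (iv1 F412033) (iv5 F412032) F398594 F338248 D203795 (iv5 F429853) F245989 D210331
theorem F457062 : act 1 n210331 = n157156 := d18_8 (iv1 D198172) F359290 (iv1 F353906) (iv4 F434781) (iv5 F434783) (iv4 F245987) F245989 D210331 (iv5 F407100)
theorem F457063 : act 3 n210331 = n157879 := d19_3 F338237 (iv5 F345983) D210331 (iv1 F409355) (iv5 D198810) (iv4 D110300) (iv3 F327884) (iv1 F324476) F324478 (iv4 F323931) (iv3 F437082) (iv1 F437087) (iv5 D128612) F95078 (iv3 D29828) D29827 (iv5 F98320) F98321 (iv3 F171648)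
def n210332 : Q := act 6 n138294
theorem D210332 : act 6 n138294 = n210332 := rfl
theorem F457064 : act 3 n210332 = n192477 := d7_1 D210332 F457058 (iv3 D210330)
theorem F457065 : act 0 n210332 = n192980 := d21_4 D110826 F338237 (iv5 F345983) D210332 (iv6 D192980) (iv5 F343899) (iv1 D103333) D103335 F343902 (iv1 D110824)
theorem F457066 : act 1 n210332 = n138326 := d15_1 (iv0 F457065) (iv7 F411398) (iv2 F411399)
def n210333 : Q := act 4 n138295
theorem D210333 : act 4 n138295 = n210333 := rfl
theorem F457067 : act 2 n210333 = n203895 := d1_1 D210333 F430285 (iv2 F358662)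
theorem F457068 : act 5 n210333 = n203891 := d9_2 (iv5 F348678) D210333 F430265 F322711 (iv4 F304125) (iv5 F199914) D164565 (iv5 F345983) D210331 F457060 (iv4 F302606) F320254 (iv4 F302833) F60339 D75937
theorem F457069 : act 0 n210333 = n157156 := d17_0 (iv5 F407100) (iv1 D198172) D198173 F407102 F338251 F345984 F329492 D138295 D210333
theorem F457070 : act 1 n210333 = n199821 := d18_8 (iv1 F412033) F412029 F339240 (iv4 F400571) (iv5 D196394) F164824 D138295 D210333 (iv5 D199821)
theorem F457071 : act 3 n157148 = n210333 := d20_5 (iv4 D24112) D24110 (iv4 F53876) D74715 D157148 (iv4 D210333) (iv1 D138295) (iv4 F164824) (iv3 D106941) (iv1 D49406)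
def n210334 : Q := act 6 n138295
theorem D210334 : act 6 n138295 = n210334 := rfl
theorem F457072 : act 2 n210334 = n139472 := d3_1 D210334 F358664 (iv2 F358662)
theorem F457073 : act 0 n139467 = n210334 := d21_4 D110891 (iv1 F222660) (iv5 D139466) D139467 (iv6 D210334) F348678 (iv1 F338238) (iv5 D110826) F80601 D51134
theorem F457074 : act 5 n191436 = n210334 := d2_0 F457072 F349147 (iv2 F383486)
theorem F457075 : act 7 n139473 = n210334 := d15_2 (iv0 D139472) D139473 F457072
def n210335 : Q := act 5 n138309
theorem D210335 : act 5 n138309 = n210335 := rfl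
theorem F457076 : act 2 n210335 = n138316 := d2_1 D210335 (iv5 D138316) (iv2 F221507)
theorem F457077 : act 3 n210335 = n188345 := d6_1 D210335 F373134 F375624
theorem F457078 : act 6 n210335 = n188343 := d12_2 D138309 D210335 F373130 (iv6 F337199) (iv5 D138308)
def n210336 : Q := act 3 n138311
theorem D210336 : act 3 n138311 = n210336 := rfl
theorem F457079 : act 2 n210336 = n201210 := d0_1 D210336 (iv3 F440173) F440172 F434503 F313393
theorem F457080 : act 4 n210336 = n201584 := d5_2 F337089 D210336 F421029 F264516 (iv3 F332442)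
theorem F457081 : act 5 n210336 = n138614 := d6_2 (iv5 F221509) D210336 (iv3 D138614)
theorem F457082 : act 6 n210336 = n201200 := d7_2 (iv6 F337088) D210336 (iv3 F419425)
theorem F457083 : act 0 n195850 = n210336 := d17_0 F457081 F222100 D200392 F416270 F362430 D195021 (iv5 F395445) (iv0 F395447) (iv4 F398452)
def n210337 : Q := act 1 n138312
theorem D210337 : act 1 n138312 = n210337 := rfl
theorem F457084 : act 1 n210337 = n142625 := d15_1 D210337 F356836 (iv2 F356815)
theorem F457085 : act 7 n210337 = n142538 := d15_2 (iv0 F356814) D210337 F340107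
theorem F457086 : act 4 n210337 = n138661 := d17_9 F364010 (iv5 F338214) F317047 D138362 F330637 (iv5 F321734) (iv0 F233095) (iv5 F356816) D210337
theorem F457087 : act 3 n142446 = n210337 := d19_19 (iv1 D210337) F356816 (iv4 D76580) (iv3 F114771) D159893 (iv5 F279814) (iv4 F280310) F342040 (iv1 F354640) (iv5 F454215) F454214 (iv3 F454211) F454209 F453537 F271797 (iv3 F188202) F319364 D175144 F330295
theorem F457088 : act 6 n143130 = n210337 := d21_3 F314869 (iv1 F233990) F348310 (iv1 D210337) F340106 (iv5 D67014) (iv1 F102979) F320542 D149746 F356852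
theorem F457089 : act 2 n210337 = n142628 := d3_1 F457088 F314031 (iv2 F314029)
def n210338 : Q := act 6 n138315
theorem D210338 : act 6 n138315 = n210338 := rfl
theorem F457090 : act 2 n210338 = n155606 := d3_1 D210338 F244638 F366639
theorem F457091 : act 4 n210338 = n151372 := d10_1 D210338 (iv6 F427802) F427800
theorem F457092 : act 7 n210338 = n139535 := d14_2 (iv7 F366638) D210338 (iv6 D139535) (iv7 F323760) (iv6 F237238)
theorem F457093 : act 0 n210338 = n155604 := d21_10 (iv5 F431707) F431709 (iv5 D141181) (iv6 D66226) (iv1 F84537) D116253 D202648 (iv1 F424932) F384411 D210338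
theorem F457094 : act 0 n155603 = n210338 := d21_4 (iv5 F395909) (iv1 F395911) (iv5 F395981) (iv6 F395983) (iv6 D210338) (iv5 F384411) (iv1 F384412) (iv5 D167926) F319681 (iv1 F224210)
theorem F457095 : act 5 n210338 = n194019 := d17_1 F457094 (iv1 F391797) (iv5 D143874) F103255 (iv5 F316555) F306006 (iv5 F315886) (iv0 F320333) F320335
def n210339 : Q := act 4 n138318
theorem D210339 : act 4 n138318 = n210339 := rfl
theorem F457096 : act 2 n210339 = n144941 := d1_1 D210339 (iv4 F426451) F426449
theorem F457097 : act 3 n210339 = n188591 := d5_1 D210339 F374123 F171574 (iv4 F100769) D138318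
theorem F457098 : act 6 n210339 = n144939 := d10_2 (iv6 F426448) D210339 (iv4 F426444)
theorem F457099 : act 7 n210339 = n188590 := d11_2 F246018 D210339 F374120
theorem F457100 : act 5 n210339 = n208881 := d17_5 (iv1 F252177) (iv5 F352974) (iv1 D138604) (iv5 F221514) D210339 (iv0 F451228) F422037 F193598 (iv4 F252174)
theorem F457101 : act 0 n210339 = n203302 := d17_0 F427766 (iv1 D159921) (iv5 D76555) (iv4 F114794) (iv5 F329207) F245977 (iv5 F421495) (iv0 F421496) D210339
theorem F457102 : act 1 n210339 = n202941 := d18_6 (iv1 D199368) D199369 F411884 F179684 (iv5 F221514) D210339 F426292 F426295 F411878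
def n210340 : Q := act 2 n138324
theorem D210340 : act 2 n138324 = n210340 := rfl
theorem F457103 : act 3 n210340 = n192980 := d0_2 D138324 D210340 F411399 (iv3 D199269) (iv2 F172347)
theorem F457104 : act 6 n210340 = n139556 := d3_2 (iv6 F221517) D210340 (iv2 D139556)
def n210341 : Q := act 1 n138326
theorem D210341 : act 1 n138326 = n210341 := rfl
theorem F457105 : act 3 n194707 = n210341 := d20_3 (iv4 F356655) (iv1 F241923) (iv4 F394169) (iv1 D210341) (iv3 D138326) (iv4 F111424) (iv1 D62988) (iv4 F98296) (iv3 F356743) F356741
def n210342 : Q := act 2 n138326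
theorem D210342 : act 2 n138326 = n210342 := rfl
theorem F457106 : act 4 n210342 = n209992 := d1_2 F400609 D210342 F455663
theorem F457107 : act 7 n210342 = n192980 := d4_2 F411398 D210342 F411399
theorem F457108 : act 1 n210341 = n192980 := d15_1 D210341 (iv7 F457107) (iv2 D210342)
theorem F457109 : act 6 n205940 = n210342 := d14_5 F457107 (iv6 D192980) (iv7 F364425) F364421 (iv7 F438500)
theorem F457110 : act 5 n210342 = n208828 := d12_1 F457109 (iv6 F451030) (iv5 D136506) D136507 (iv5 F438498)
def n210343 : Q := act 5 n138326
theorem D210343 : act 5 n138326 = n210343 := rfl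
theorem F457111 : act 2 n210343 = n208828 := d2_1 D210343 (iv5 F457110) (iv2 D210342)
theorem F457112 : act 3 n210343 = n138327 := d6_1 D210343 (iv5 D138327) D138326
theorem F457113 : act 7 n210343 = n183019 := d13_2 F411398 D210343 (iv5 F411396)
theorem F457114 : act 1 n210343 = n199059 := d17_6 (iv1 D111089) D111090 (iv1 F452926) F401661 F400609 D210343 (iv5 D199059) D199058 (iv4 F410499)
theorem F457115 : act 1 n208812 = n210343 := d15_0 F457114 (iv7 F410506) (iv2 F450979)
theorem F457116 : act 6 n209157 = n210343 := d21_3 F219659 F218591 D209157 (iv1 F457115) (iv6 D208812) F217349 F327500 (iv5 F327501) F327502 F219660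
def n210344 : Q := act 6 n138326
theorem D210344 : act 6 n138326 = n210344 := rfl
theorem F457117 : act 2 n210344 = n205940 := d3_1 D210344 F457109 (iv2 D210342)
theorem F457118 : act 3 n210344 = n138328 := d7_1 D210344 (iv6 D138328) D138326
theorem F457119 : act 4 n210344 = n209256 := d10_1 D210344 (iv6 F452924) F400609
theorem F457120 : act 5 n210344 = n199834 := d12_1 D210344 F413724 D209157 F457116 (iv5 D210343)
theorem F457121 : act 7 n210344 = n139565 := d14_2 F411398 D210344 (iv6 D139565) (iv7 F222527) (iv6 F411397)
theorem F457122 : act 0 n210344 = n198686 := d21_10 (iv5 D198686) (iv1 D109758) D109760 (iv6 F338252) (iv1 F171802) D110896 D199059 (iv1 F457114) (iv5 D210343) D210344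
theorem F457123 : act 1 n210344 = n197992 := d15_1 (iv0 F457122) F406426 (iv2 F408866)
def n210345 : Q := act 5 n138329
theorem D210345 : act 5 n138329 = n210345 := rfl
theorem F457124 : act 2 n210345 = n141977 := d2_1 D210345 (iv5 F411402) F411401
theorem F457125 : act 4 n210345 = n141840 := d9_1 D210345 F224880 F102383 (iv5 F80860) (iv4 F172356) (iv5 F411407) F411406 (iv5 D141976) (iv4 D66553) (iv5 D31059) F24369 (iv5 F24125) (iv4 F48917) D64973 D138329
theorem F457126 : act 7 n210345 = n141839 := d16_8 (iv4 D66553) (iv5 D31059) F24369 (iv5 F24125) (iv4 F48917) D64973 D138329 D210345 F224878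
theorem F457127 : act 0 n210345 = n141974 := d17_2 F425017 D210345 (iv5 F405369) F405366 F336663 (iv0 F215958) (iv5 F424997) F424996 D202671
theorem F457128 : act 1 n210345 = n141973 := d17_6 (iv1 F221525) (iv5 D138327) (iv1 D64972) D64973 D138329 D210345 (iv5 F405375) F405373 F404925
def n210346 : Q := act 7 n138329
theorem D210346 : act 7 n138329 = n210346 := rfl
theorem F457129 : act 2 n210346 = n141976 := d4_1 D210346 F411403 F411401
theorem F457130 : act 3 n210346 = n184082 := d8_1 D210346 (iv7 F425302) F425300
theorem F457131 : act 4 n210346 = n138330 := d11_1 D210346 (iv7 D138330) D138329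
theorem F457132 : act 5 n210346 = n141839 := d13_1 D210346 (iv7 F457126) (iv5 D210345)
theorem F457133 : act 6 n184080 = n210346 := d10_0 F457131 (iv6 F387225) F387224
def n210347 : Q := act 0 n138331
theorem D210347 : act 0 n138331 = n210347 := rfl
theorem F457134 : act 4 n210347 = n192843 := d20_2 (iv4 F221530) D210347 F393295 (iv1 F353237) (iv3 D102167) (iv4 F74636) (iv1 F136344) F136345 D99806 F365460
theorem F457135 : act 2 n189064 = n210347 := d15_3 (iv0 D210347) (iv0 F457012) (iv7 F457014)
theorem F457136 : act 1 n192884 = n210347 := d15_0 (iv0 D210347) (iv7 F390210) F390207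
theorem F457137 : act 7 n210347 = n192883 := d15_2 (iv0 F457013) F457136 (iv2 F457009)
def n210348 : Q := act 1 n138334
theorem D210348 : act 1 n138334 = n210348 := rfl
theorem F457138 : act 7 n210348 = n146947 := d15_2 F457036 D210348 (iv2 F457032)
theorem F457139 : act 5 n210348 = n146948 := d17_7 (iv1 F361177) F212782 (iv1 F212441) D206690 F450541 F450540 D210348 F446101 F446097
theorem F457140 : act 4 n210348 = n144447 := d18_7 F404030 F397234 F207340 (iv4 F423176) (iv5 F438735) F438734 D210348 (iv0 F404031) (iv5 F404028)
theorem F457141 : act 3 n195601 = n210348 := d20_3 F189444 D120000 (iv4 F397545) (iv1 D210348) (iv3 D138334) (iv4 D64980) (iv1 D30525) (iv4 F48917) (iv3 F100766) (iv1 F315863)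
theorem F457142 : act 6 n210348 = n139417 := d7_2 F424553 F457141 (iv3 F424554)
theorem F457143 : act 2 n197309 = n210348 := d1_3 F457140 F227244 D197309
theorem F457144 : act 1 n210348 = n192881 := d15_0 (iv0 F457035) (iv7 F457039) F457143
def n210349 : Q := act 2 n138334
theorem D210349 : act 2 n138334 = n210349 := rfl
theorem F457145 : act 3 n210349 = n192884 := d0_2 D138334 D210349 (iv2 F390207) F390208 F172363
theorem F457146 : act 7 n210349 = n192881 := d4_2 F411418 D210349 (iv2 F411415)
theorem F457147 : act 1 n210349 = n197309 := d15_0 (iv0 F411419) F411418 D210349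
theorem F457148 : act 1 n146947 = n210349 := d15_0 F457147 F457039 F457032
def n210350 : Q := act 6 n138334
theorem D210350 : act 6 n138334 = n210350 := rfl
theorem F457149 : act 3 n210350 = n138336 := d7_1 D210350 (iv6 D138336) D138334
theorem F457150 : act 7 n210350 = n139605 := d14_2 F411418 D210350 (iv6 D139605) (iv7 F222555) (iv6 F411417)
def n210351 : Q := act 5 n138336
theorem D210351 : act 5 n138336 = n210351 := rfl
theorem F457151 : act 2 n210351 = n204823 := d2_1 D210351 F433715 F226506
theorem F457152 : act 7 n210351 = n139610 := d13_2 (iv7 F221541) D210351 (iv5 D139610)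
theorem F457153 : act 0 n210351 = n199326 := d17_2 F410599 D210351 (iv5 D199326) (iv4 F172448) D198996 F410243 (iv5 F410587) (iv0 D199084) D199085
theorem F457154 : act 1 n210351 = n193196 := d17_6 D51288 (iv5 F101142) F101141 (iv5 F100777) (iv4 F221540) D210351 F389141 (iv0 D111197) F80899
def n210352 : Q := act 1 n138361
theorem D210352 : act 1 n138361 = n210352 := rfl
theorem F457155 : act 5 n210352 = n146656 := d17_7 F199949 (iv5 D39411) D39409 (iv5 F199942) D158976 F362457 D210352 F259426 F259424
theorem F457156 : act 4 n210352 = n196391 := d17_9 (iv1 F400561) F434783 (iv1 F434785) (iv5 D199112) F357636 (iv5 F338231) (iv0 F250306) F362457 D210352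
theorem F457157 : act 3 n189071 = n210352 := d20_5 (iv4 F453412) (iv1 F453413) F451069 F366824 F385621 F457156 (iv1 F400561) (iv4 F245987) F245986 (iv1 F245978)
theorem F457158 : act 6 n210352 = n189069 := d7_2 D189071 F457157 (iv3 D189069)
def n210353 : Q := act 1 n138363
theorem D210353 : act 1 n138363 = n210353 := rfl
theorem F457159 : act 1 n210353 = n202971 := d15_1 D210353 F426442 F322557
theorem F457160 : act 7 n210353 = n204977 := d15_2 F456723 D210353 (iv2 F456718)
theorem F457161 : act 5 n210353 = n195571 := d17_7 F106126 (iv5 D48694) F41550 D54108 D117410 (iv5 F330622) D210353 F397400 (iv4 D148798)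
theorem F457162 : act 4 n210353 = n195575 := d17_9 (iv1 F397412) (iv5 D105766) (iv1 F114842) (iv5 F326865) (iv4 F224799) (iv5 F330615) F193609 (iv5 F330622) D210353
theorem F457163 : act 2 n204978 = n210353 := d1_3 F457162 (iv2 F397411) D204978
theorem F457164 : act 6 n139943 = n210353 := d10_0 F457162 F397410 F334971
theorem F457165 : act 3 n210353 = n208721 := d20_3 F395970 D195575 (iv4 F457162) (iv1 D208721) (iv3 D134971) (iv4 D63432) (iv1 F168234) D133570 F363072 (iv1 F395967)
theorem F457166 : act 6 n208721 = n198063 := d7_2 F457164 F457165 (iv3 F406633)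
def n210354 : Q := act 6 n138370
theorem D210354 : act 6 n138370 = n210354 := rfl
theorem F457167 : act 2 n210354 = n152757 := d3_1 D210354 (iv6 F239956) (iv2 F314993)
theorem F457168 : act 3 n210354 = n192095 := d7_1 D210354 F385520 (iv3 F245723)
theorem F457169 : act 4 n210354 = n152325 := d10_1 D210354 (iv6 F239971) F316101
theorem F457170 : act 5 n210354 = n155119 := d12_1 D210354 (iv6 D155119) D155118 F366675 F247162
theorem F457171 : act 0 n210354 = n148982 := d21_4 (iv5 F221617) (iv1 F247163) F247162 D210354 F234149 (iv5 D105898) F77226 D54436 F316715 (iv1 F212043)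
theorem F457172 : act 1 n210354 = n138409 := d15_1 (iv0 F457171) F315878 (iv2 F234147)
theorem F457173 : act 7 n210354 = n152752 := d15_2 (iv0 F239484) (iv0 F457171) F239962
def n210355 : Q := act 6 n138392
theorem D210355 : act 6 n138392 = n210355 := rfl
theorem F457174 : act 2 n210355 = n208221 := d3_1 D210355 (iv6 D208221) (iv2 F221616)
theorem F457175 : act 3 n210355 = n138394 := d7_1 D210355 (iv6 D138394) D138392
theorem F457176 : act 4 n210355 = n175370 := d10_1 D210355 (iv6 D175370) (iv4 F310290)
theorem F457177 : act 5 n210355 = n140042 := d12_1 D210355 (iv6 D140042) F105779 (iv6 F321517) (iv5 F221617)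
theorem F457178 : act 0 n210355 = n203477 := d21_4 F314998 (iv1 F212043) (iv5 F221617) D210355 (iv6 D203477) (iv5 F348371) F348369 (iv5 F322945) (iv6 D83736) (iv1 F155114)
theorem F457179 : act 0 n206284 = n210355 := d21_4 D119517 F397640 (iv5 F427431) (iv6 F440066) (iv6 D210355) F221617 F212042 (iv5 F314997) F188294 (iv1 F188292)
def n210356 : Q := act 0 n138405
theorem D210356 : act 0 n138405 = n210356 := rfl
theorem F457180 : act 4 n210356 = n192090 := d18_3 D65007 D138405 D210356 F385496 (iv4 F314403) (iv0 F312138) (iv4 D149917) (iv0 D70490) F313398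
theorem F457181 : act 2 n195601 = n210356 := d15_3 (iv0 D210356) F315867 F397547
theorem F457182 : act 1 n138410 = n210356 := d15_0 (iv0 D210356) F315870 (iv2 F315880)
theorem F457183 : act 7 n210356 = n195602 := d15_2 (iv0 F315879) F457182 F397552
theorem F457184 : act 3 n192088 = n210356 := d20_9 (iv4 D138410) (iv1 D65008) (iv4 F100767) F100766 D64971 D138324 (iv4 F385471) F385469 D192088 (iv1 F457182)
theorem F457185 : act 6 n139986 = n210356 := d14_5 F457183 (iv6 F397551) (iv7 F232993) D179014 (iv7 F361507)
def n210357 : Q := act 5 n138405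
theorem D210357 : act 5 n138405 = n210357 := rfl
theorem F457186 : act 2 n210357 = n195603 := d2_1 D210357 (iv5 D195603) (iv2 F315868)
theorem F457187 : act 3 n210357 = n188261 := d6_1 D210357 (iv5 F455637) F455635
theorem F457188 : act 6 n210357 = n188259 := d12_2 (iv6 F323749) D210357 F372883 F349204 (iv5 D140094)
theorem F457189 : act 0 n210357 = n143251 := d17_2 (iv1 F315867) D210357 (iv5 D143251) F103072 D67119 (iv0 F320358) (iv5 F186692) (iv0 F232639) (iv4 F278923)
def n210358 : Q := act 6 n138409
theorem D210358 : act 6 n138409 = n210358 := rfl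
theorem F457190 : act 2 n210358 = n167643 := d3_1 D210358 (iv6 F283475) (iv2 F330099)
theorem F457191 : act 3 n210358 = n138412 := d7_1 D210358 (iv6 D138412) D138409
theorem F457192 : act 5 n210358 = n148893 := d12_1 D210358 (iv6 D148893) F303931 (iv6 F189468) (iv5 F315877)
theorem F457193 : act 7 n210358 = n140112 := d14_2 (iv7 F315878) D210358 (iv6 D140112) (iv7 F323734) (iv6 F162632)
theorem F457194 : act 0 n210358 = n177034 := d21_4 F319618 (iv1 F187561) (iv5 F315877) D210358 (iv6 F424568) F424569 F348721 D177141 (iv6 F423704) (iv1 D202347)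
theorem F457195 : act 1 n210358 = n177189 := d15_1 (iv0 F457194) F351495 (iv2 F351494)
def n210359 : Q := act 3 n138410
theorem D210359 : act 3 n138410 = n210359 := rfl
theorem F457196 : act 7 n210359 = n193125 := d8_2 (iv7 F315881) D210359 F388826
def n210360 : Q := act 5 n138410
theorem D210360 : act 5 n138410 = n210360 := rfl
theorem F457197 : act 7 n210360 = n195603 := d13_2 (iv7 F315881) D210360 (iv5 D195603)
theorem F457198 : act 4 n210360 = n199076 := d16_2 D138410 D210360 F427144 (iv4 D203143) F318165 F106224 F315871 (iv7 F315874) F315873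
theorem F457199 : act 1 n210360 = n143251 := d17_6 F319294 (iv5 F319298) (iv1 F57672) F315882 D138410 D210360 (iv5 D143251) D143250 F361414
def n210361 : Q := act 4 n138445
theorem D210361 : act 4 n138445 = n210361 := rfl
theorem F457200 : act 5 n210361 = n157921 := d16_1 D210361 (iv4 F262463) F330844 F155437 F136527 D100509 (iv5 F357944) F357945 F357941
theorem F457201 : act 0 n210361 = n157183 := d17_0 (iv5 F441582) F441584 (iv5 F333021) (iv4 F357644) (iv5 F384943) (iv0 F388595) F388594 F222769 D210361
def n210362 : Q := act 6 n138445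
theorem D210362 : act 6 n138445 = n210362 := rfl
theorem F457202 : act 3 n210362 = n193308 := d7_1 D210362 (iv6 F443565) F443568
theorem F457203 : act 7 n193313 = n210362 := d8_0 F457202 (iv7 F389437) D193313
theorem F457204 : act 0 n197545 = n210362 := d20_4 F111578 (iv1 F79262) D108440 D197545 F457202 F397746 (iv1 D195655) (iv4 F390767) (iv3 F390768) F167650
def n210363 : Q := act 3 n138446
theorem D210363 : act 3 n138446 = n210363 := rfl
theorem F457205 : act 5 n210363 = n187962 := d6_2 (iv5 F357944) D210363 F377631
theorem F457206 : act 0 n199341 = n210363 := d17_0 F457205 (iv1 D187962) D187963 F377632 (iv5 F411791) (iv0 D199344) (iv5 D111210) D111208 D199341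
theorem F457207 : act 1 n192375 = n210363 := d18_8 (iv1 D187962) F139612 D90701 D187967 (iv5 F371965) (iv4 F172340) (iv0 F342222) (iv4 F386604) F457205
def n210364 : Q := act 4 n138446
theorem D210364 : act 4 n138446 = n210364 := rfl
theorem F457208 : act 5 n210364 = n174876 := d9_2 (iv5 F357944) D210364 (iv4 F330853) F337635 F337633 F272728 D100504 (iv5 F357940) D210361 F457200 (iv4 F262463) F330844 F155437 F136527 D100509
theorem F457209 : act 1 n210364 = n157183 := d18_6 (iv1 F384974) F384971 (iv1 F153025) D100509 (iv5 F357944) D210364 (iv4 F312826) (iv0 F404407) (iv5 D192681)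
theorem F457210 : act 3 n210364 = n144308 := d20_3 F404409 (iv1 F222771) D210364 (iv1 F400565) F400562 (iv4 F389361) (iv1 D193262) (iv4 F389340) F389352 (iv1 F404411)
def n210365 : Q := act 6 n138446
theorem D210365 : act 6 n138446 = n210365 := rfl
theorem F457211 : act 2 n210365 = n140442 := d3_1 D210365 F357936 F357943
theorem F457212 : act 0 n210365 = n138492 := d21_4 (iv5 F337621) (iv1 F205701) (iv5 F357944) D210365 (iv6 F423982) F423981 F404885 (iv5 D197577) (iv6 D108474) D108469
theorem F457213 : act 5 n210365 = n204296 := d21_6 F340046 F389251 (iv5 F401853) (iv6 F401855) (iv1 F222771) D210365 (iv1 D204296) D204297 (iv6 F431929) F400275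
theorem F457214 : act 0 n140437 = n210365 := d21_4 D106907 (iv1 F223623) (iv5 D140436) D140437 (iv6 D210365) F357944 F332984 (iv5 D50088) F38304 D49392
theorem F457215 : act 7 n140443 = n210365 := d15_2 (iv0 D140442) D140443 F457211
def n210366 : Q := act 6 n138448
theorem D210366 : act 6 n138448 = n210366 := rfl
theorem F457216 : act 3 n210366 = n138449 := d7_1 D210366 (iv6 D138449) (iv3 F221645)
theorem F457217 : act 4 n210366 = n193050 := d10_1 D210366 (iv6 D193050) F357946
theorem F457218 : act 5 n210366 = n196819 := d12_1 D210366 F401896 F390029 F168965 D138448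
theorem F457219 : act 7 n210366 = n196818 := d14_2 F222773 D210366 F401892 F388938 F387721
theorem F457220 : act 0 n210366 = n199146 := d21_4 (iv5 F357944) (iv1 D138446) D138448 D210366 (iv6 F420500) (iv5 F440555) F440558 (iv5 F400281) (iv6 D193065) (iv1 F205701)
theorem F457221 : act 0 n201272 = n210366 := d17_2 (iv1 D206372) F419788 F457218 F401895 F365294 (iv0 F273428) (iv5 D174564) D174563 (iv4 F440473)
def n210367 : Q := act 0 n138449
theorem D210367 : act 0 n138449 = n210367 := rfl
theorem F457222 : act 6 n210367 = n208492 := d21_5 F79287 F48966 D65033 D138449 D210367 F449609 F405428 (iv5 D197700) (iv6 D108592) (iv1 F79421)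
theorem F457223 : act 2 n194715 = n210367 := d15_3 (iv0 D210367) (iv0 F450697) (iv7 F394215)
theorem F457224 : act 3 n210367 = n208561 := d0_2 D194715 F457223 F449897 (iv3 D184074) (iv2 F159718)
theorem F457225 : act 4 n210367 = n208493 := d1_2 F444178 F457223 F449612
def n210368 : Q := act 7 n138449
theorem D210368 : act 7 n138449 = n210368 := rfl
theorem F457226 : act 3 n210368 = n196818 := d8_1 D210368 (iv7 F457219) F457216
theorem F457227 : act 4 n210368 = n208751 := d11_1 D210368 (iv7 D208751) (iv4 F221646)
theorem F457228 : act 5 n210368 = n196811 := d13_1 D210368 (iv7 F407037) F407036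
theorem F457229 : act 6 n210368 = n196814 := d14_1 D210368 (iv7 F401877) (iv6 D139618) F101244 D138449
def n210369 : Q := act 6 n138450
theorem D210369 : act 6 n138450 = n210369 := rfl
theorem F457230 : act 2 n210369 = n193152 := d3_1 D210369 (iv6 F388957) F364772
theorem F457231 : act 3 n210369 = n193266 := d7_1 D210369 (iv6 F389366) F387455
theorem F457232 : act 7 n210369 = n193288 := d14_2 F364773 D210369 F406591 F406585 F350389
theorem F457233 : act 0 n193286 = n210369 := d21_4 F224910 (iv1 F404752) F404748 (iv6 F400554) (iv6 D210369) F364771 F345276 D140615 F223726 D141868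
theorem F457234 : act 1 n193287 = n210369 := d15_0 (iv0 F457233) (iv7 F389401) (iv2 F456244)
def n210370 : Q := act 4 n138456
theorem D210370 : act 4 n138456 = n210370 := rfl
theorem F457235 : act 2 n210370 = n140645 := d1_1 D210370 (iv4 D140645) (iv2 F221651)
theorem F457236 : act 6 n210370 = n153764 := d10_2 (iv6 F342483) D210370 (iv4 D153764)
theorem F457237 : act 7 n210370 = n140638 := d11_2 (iv7 F221652) D210370 (iv4 D140638)
theorem F457238 : act 0 n210370 = n196601 := d18_2 F331801 D210370 F401204 F246298 (iv4 F407287) (iv0 F415345) F415344 F223744 (iv5 F331803)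
theorem F457239 : act 1 n210370 = n196600 := d18_6 D65997 (iv4 F162135) (iv1 F162138) (iv4 F100838) D138456 D210370 F401203 (iv0 D140669) (iv5 D65999)
theorem F457240 : act 3 n210370 = n156273 := d19_3 (iv1 F100840) D138456 D210370 (iv1 D156273) (iv5 F357024) (iv4 D141368) D141367 (iv1 F357083) F347187 F276307 (iv3 F384315) (iv1 F424674) (iv5 D202595) (iv4 D116050) D116049 F348843 F101749 (iv4 F101670) F101669
def n210371 : Q := act 3 n138457
theorem D210371 : act 3 n138457 = n210371 := rfl
theorem F457241 : act 4 n210371 = n175373 := d20_6 (iv4 D60504) (iv1 F53571) F53572 D65037 D138457 D210371 F403151 F209085 (iv3 D65531) (iv1 F95116)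
theorem F457242 : act 0 n210371 = n197535 := d20_1 (iv4 F457241) F434431 (iv3 F434430) F432216 F416776 (iv4 F416775) (iv1 F404379) (iv4 F345583) (iv3 F402999) (iv1 F403001)
def n210372 : Q := act 4 n138457
theorem D210372 : act 4 n138457 = n210372 := rfl
theorem F457243 : act 2 n210372 = n193723 := d1_1 D210372 F390791 F390759
theorem F457244 : act 3 n210372 = n194311 := d5_1 D210372 F392785 F355520 (iv4 F457241) (iv3 D210371)
theorem F457245 : act 6 n210372 = n193732 := d10_2 F424077 D210372 (iv4 F424076)
theorem F457246 : act 7 n210372 = n193712 := d11_2 (iv7 F390758) D210372 (iv4 F390754)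
theorem F457247 : act 5 n210372 = n144207 := d16_7 F379761 (iv5 F410021) (iv4 F439871) (iv5 D206240) (iv4 F405853) F405851 D210372 (iv7 F425824) (iv2 F425829)
theorem F457248 : act 0 n210372 = n193662 := d18_2 D138457 D210372 (iv4 F402554) (iv5 F410882) F410881 (iv0 F416208) F416207 (iv0 F398729) (iv5 D138460)
theorem F457249 : act 1 n210372 = n157227 := d18_6 (iv1 F420188) F420046 (iv1 F205648) (iv4 F405853) F405851 D210372 F247441 (iv0 F397744) (iv5 F420184)
def n210373 : Q := act 0 n138462
theorem D210373 : act 0 n138462 = n210373 := rfl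
theorem F457250 : act 4 n210373 = n208744 := d20_0 (iv1 F450674) F450379 F401876 (iv1 F401764) (iv3 D196778) (iv4 F346744) (iv1 F205653) (iv4 F398724) F398723 D210373
theorem F457251 : act 6 n210373 = n198295 := d21_5 (iv5 D50068) (iv1 F48968) D65038 D138462 D210373 F407514 (iv1 D140606) (iv5 F216808) (iv6 D134756) F98574
theorem F457252 : act 5 n210373 = n194459 := d21_8 (iv5 F373412) (iv1 F373408) D196289 F400235 (iv1 F331822) (iv6 F398706) F398705 D210373 F393300 (iv1 F365890)
theorem F457253 : act 2 n198283 = n210373 := d15_3 (iv0 D210373) (iv0 F363303) D198283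
theorem F457254 : act 1 n198233 = n210373 := d15_0 (iv0 D210373) (iv7 F398702) (iv2 F407294)
theorem F457255 : act 7 n210373 = n198269 := d15_2 F407297 F457254 F407409
theorem F457256 : act 3 n209729 = n208744 := d20_5 D209172 F452568 (iv4 D136868) (iv3 F220047) D209729 (iv4 F457250) (iv1 F457254) (iv4 F447584) F447583 (iv1 F220026)
theorem F457257 : act 3 n210373 = n194460 := d0_2 (iv3 F407463) F457253 F393302 (iv3 F371750) (iv2 F387629)
def n210374 : Q := act 4 n138472
theorem D210374 : act 4 n138472 = n210374 := rfl
theorem F457258 : act 2 n210374 = n138476 := d1_1 D210374 (iv4 D138476) (iv2 F221668)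
theorem F457259 : act 3 n210374 = n199783 := d5_1 D210374 F413490 F413492 F405116 F405112
theorem F457260 : act 5 n210374 = n194714 := d9_2 D138472 D210374 F394211 F159714 F307268 (iv5 D34117) (iv4 F53520) D74355 D156324 F350384 (iv4 D87796) (iv5 D40904) (iv4 F61025) (iv5 F308580) (iv4 F100846)
theorem F457261 : act 6 n210374 = n199429 := d10_2 F407545 D210374 F412159
theorem F457262 : act 7 n210374 = n194713 := d11_2 F245654 D210374 F394200
theorem F457263 : act 0 n210374 = n199483 := d17_0 F412331 (iv1 F434123) F434121 (iv4 D156581) (iv5 D74454) (iv0 F313631) D124843 F316133 D210374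
theorem F457264 : act 1 n210374 = n199805 := d18_6 F366610 (iv4 D74371) (iv1 F53532) (iv4 F100846) D138472 D210374 F413581 (iv0 F434263) (iv5 D204939)
def n210375 : Q := act 4 n138474
theorem D210375 : act 4 n138474 = n210375 := rfl
theorem F457265 : act 2 n210375 = n171152 := d1_1 D210375 (iv4 F333014) F316134
theorem F457266 : act 5 n210375 = n194712 := d9_2 (iv5 F245657) D210375 (iv4 D194712) (iv5 D104183) F305364 F92182 (iv4 F314330) (iv5 F222382) F350377 F350380 (iv4 F338871) (iv5 D104178) (iv4 F238654) (iv5 F306657) (iv4 F316125)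
theorem F457267 : act 6 n210375 = n187984 := d10_2 (iv6 F345110) D210375 (iv4 D187984)
theorem F457268 : act 7 n210375 = n199542 := d11_2 F316987 D210375 F412592
theorem F457269 : act 0 n210375 = n184568 := d17_0 (iv5 D184568) (iv1 F309403) (iv5 F432448) F432449 (iv5 D124795) (iv0 F310663) D156320 (iv0 F245656) D210375
theorem F457270 : act 1 n210375 = n199553 := d18_6 F314702 (iv4 D58322) D58320 (iv4 F316125) (iv5 F245657) D210375 F412643 (iv0 F405551) (iv5 D156608)
def n210376 : Q := act 3 n138478
theorem D210376 : act 3 n138478 = n210376 := rfl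
theorem F457271 : act 5 n210376 = n194960 := d6_2 F431830 D210376 (iv3 F431827)
theorem F457272 : act 7 n210376 = n140546 := d8_2 (iv7 F326243) D210376 F223687
theorem F457273 : act 2 n194964 = n210376 := d4_3 F457272 (iv2 F394761) (iv7 F395203)
def n210377 : Q := act 2 n138486
theorem D210377 : act 2 n138486 = n210377 := rfl
theorem F457274 : act 5 n210377 = n139391 := d2_2 (iv5 F351212) D210377 F222603
theorem F457275 : act 6 n210377 = n177795 := d3_2 (iv6 F351213) D210377 F277294
theorem F457276 : act 7 n210377 = n140418 := d4_2 (iv7 F221676) D210377 F351308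
theorem F457277 : act 1 n210377 = n140352 := d15_0 F351250 (iv7 F221676) D210377
theorem F457278 : act 1 n140420 = n210377 := d15_0 F457277 (iv7 F406585) F406584
def n210378 : Q := act 0 n138492
theorem D210378 : act 0 n138492 = n210378 := rfl
theorem F457279 : act 3 n210378 = n193316 := d20_5 F48970 D30553 D65049 D138492 D210378 (iv4 F447729) (iv1 D202782) F182845 F180119 F84227
theorem F457280 : act 2 n140443 = n210378 := d15_3 (iv0 D210378) (iv0 F457212) (iv7 F457215)
theorem F457281 : act 1 n140437 = n210378 := d15_0 (iv0 D210378) F221679 (iv2 F223625)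
theorem F457282 : act 7 n210378 = n140442 := d15_2 (iv0 F457214) F457281 (iv2 F457211)
theorem F457283 : act 6 n193313 = n210378 := d14_5 F457282 F357936 F357942 D210362 (iv7 F457203)
def n210379 : Q := act 2 n138492
theorem D210379 : act 2 n138492 = n210379 := rfl
theorem F457284 : act 3 n210379 = n154971 := d0_2 D138492 D210379 (iv2 F341268) F277779 (iv2 F341274)
theorem F457285 : act 4 n210379 = n174599 := d1_2 F400647 D210379 (iv2 F400646)
theorem F457286 : act 5 n210379 = n204294 := d2_2 (iv5 F363365) D210379 (iv2 D204294)
theorem F457287 : act 6 n210379 = n178340 := d3_2 F423982 D210379 (iv2 F423978)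
theorem F457288 : act 7 n210379 = n140437 := d4_2 (iv7 F221679) D210379 F223625
theorem F457289 : act 1 n210379 = n140442 := d15_0 (iv0 D140442) (iv7 F221679) D210379
theorem F457290 : act 1 n140443 = n210379 := d15_0 F457289 (iv7 F457282) (iv2 F457280)
def n210380 : Q := act 5 n138504
theorem D210380 : act 5 n138504 = n210380 := rfl
theorem F457291 : act 2 n210380 = n202177 := d2_1 D210380 F423125 (iv2 F348053)
theorem F457292 : act 3 n210380 = n138519 := d6_1 D210380 (iv5 D138519) (iv3 F221690)
theorem F457293 : act 6 n210380 = n202730 := d12_2 D138504 D210380 F425319 (iv6 D149074) (iv5 F316785)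
theorem F457294 : act 7 n210380 = n140879 := d13_2 (iv7 F327719) D210380 (iv5 D140879)
theorem F457295 : act 4 n210380 = n201900 := d16_2 (iv4 F330034) D210380 F422287 (iv4 F410364) F410365 (iv4 F175062) (iv5 F346904) F352804 F352802
def n210381 : Q := act 3 n138506
theorem D210381 : act 3 n138506 = n210381 := rfl
theorem F457296 : act 2 n210381 = n198026 := d0_1 D210381 F406550 (iv2 F366693) (iv3 F351351) F366661
theorem F457297 : act 4 n210381 = n156049 := d5_2 F313653 D210381 F245183 (iv4 D131052) (iv3 F313652)
theorem F457298 : act 5 n210381 = n196379 := d6_2 F434378 D210381 F434383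
theorem F457299 : act 6 n210381 = n204770 := d7_2 (iv6 F366662) D210381 F436688
theorem F457300 : act 7 n210381 = n197732 := d8_2 (iv7 F366663) D210381 F405561
theorem F457301 : act 0 n210381 = n198025 := d20_4 F312816 (iv1 F199611) F313653 D210381 (iv3 F411375) (iv4 D199264) (iv1 F172468) F172466 F167791 (iv1 F111569)
theorem F457302 : act 1 n210381 = n156025 := d15_1 (iv0 F457301) (iv7 F404168) F406549
def n210382 : Q := act 6 n138527
theorem D210382 : act 6 n138527 = n210382 := rfl
theorem F457303 : act 2 n210382 = n196761 := d3_1 D210382 (iv6 F401713) F385739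
theorem F457304 : act 3 n210382 = n138529 := d7_1 D210382 (iv6 D138529) D138527
theorem F457305 : act 4 n210382 = n157588 := d10_1 D210382 (iv6 F368248) F368247
theorem F457306 : act 5 n210382 = n147510 := d12_1 D210382 F231296 D153687 F405199 (iv5 F405198)
theorem F457307 : act 7 n210382 = n196758 := d14_2 F245780 D210382 (iv6 F402464) F402465 (iv6 F365811)
theorem F457308 : act 0 n210382 = n193214 := d21_4 D108463 D197569 (iv5 F405198) D210382 (iv6 D193214) D193213 F389188 F345683 (iv6 F351886) (iv1 D108461)
theorem F457309 : act 1 n210382 = n196760 := d15_1 (iv0 F457308) (iv7 F426711) F426708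
def n210383 : Q := act 2 n138561
theorem D210383 : act 2 n138561 = n210383 := rfl
theorem F457310 : act 3 n210383 = n193681 := d0_2 D138561 D210383 F390669 F305219 F312834
theorem F457311 : act 4 n210383 = n157233 := d1_2 (iv4 F324368) D210383 (iv2 F340802)
theorem F457312 : act 5 n210383 = n206946 := d2_2 F444865 D210383 (iv2 F444862)
theorem F457313 : act 7 n210383 = n140716 := d4_2 (iv7 F324369) D210383 F223811
theorem F457314 : act 1 n210383 = n140720 := d15_0 (iv0 D140720) (iv7 F324369) D210383
theorem F457315 : act 1 n140721 = n210383 := d15_0 F457314 F357105 F357106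
theorem F457316 : act 0 n193704 = n139499 := d20_7 F425903 (iv1 F457314) F457311 F365375 F385781 (iv3 F157089) (iv4 F390724) (iv4 F425902) F425901 D202859
def n210384 : Q := act 3 n138562
theorem D210384 : act 3 n138562 = n210384 := rfl
theorem F457317 : act 4 n210384 = n193731 := d5_2 D138562 D210384 (iv3 F443602) (iv4 F324368) (iv3 D138561)
theorem F457318 : act 7 n210384 = n140732 := d8_2 (iv7 F324370) D210384 F223830
theorem F457319 : act 0 n210384 = n193316 := d20_10 (iv4 F447729) (iv1 D202782) F182845 F180119 F84227 (iv3 F100848) F100849 D65066 D138562 D210384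
def n210385 : Q := act 5 n138600
theorem D210385 : act 5 n138600 = n210385 := rfl
theorem F457320 : act 2 n210385 = n138601 := d2_1 D210385 (iv5 D138601) D138600
theorem F457321 : act 3 n210385 = n203458 := d6_1 D210385 F428403 F246200
theorem F457322 : act 6 n210385 = n160037 := d12_2 (iv6 F408457) D210385 (iv5 F340865) (iv6 F363415) (iv5 F408452)
theorem F457323 : act 7 n210385 = n139209 := d13_2 (iv7 F221771) D210385 F342565
theorem F457324 : act 4 n210385 = n139183 := d16_2 F453610 D210385 F313498 (iv4 F261541) (iv5 F454665) (iv4 D209697) (iv5 D136831) (iv7 F219542) D209418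
theorem F457325 : act 1 n210385 = n139772 := d17_8 F234094 F107563 (iv1 F189471) (iv5 D79753) D79752 F312358 F221773 D210385 F342583
theorem F457326 : act 0 n210385 = n139773 := d18_0 F342568 F234769 (iv4 F308026) F279697 (iv4 F385501) (iv0 D192091) F342541 F221773 D210385
def n210386 : Q := act 4 n138603
theorem D210386 : act 4 n138603 = n210386 := rfl
theorem F457327 : act 2 n210386 = n209183 := d1_1 D210386 F452616 F360934
theorem F457328 : act 3 n210386 = n194063 := d5_1 D210386 (iv4 F391919) (iv3 D113071) D113072 (iv3 F221776)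
theorem F457329 : act 5 n210386 = n208839 := d9_2 (iv5 F352977) D210386 (iv4 F451299) (iv5 D208895) F217528 F332647 (iv4 F332263) (iv5 F352974) (iv4 F221777) (iv5 F413533) (iv4 F450508) F450509 F217258 F327770 (iv4 F336373)
theorem F457330 : act 7 n210386 = n209181 := d11_2 (iv7 F360939) D210386 F452612
theorem F457331 : act 0 n210386 = n194036 := d18_2 D138603 D210386 (iv4 F411498) (iv5 F422184) (iv4 D201878) (iv0 F364734) (iv4 F421494) (iv0 F421496) F221514
theorem F457332 : act 0 n208783 = n210386 := d20_10 (iv4 D210386) (iv1 F246448) F246445 F219583 F219572 D209427 F453651 F404769 F404768 (iv3 F450843)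
theorem F457333 : act 6 n208839 = n192615 := d21_3 D208783 F457332 F457329 (iv1 D192615) (iv6 D100451) D100450 (iv1 F292010) F371703 F450838 (iv1 D208782)
theorem F457334 : act 3 n192736 = n208839 := d7_3 F457333 F439631 D192736
def n210387 : Q := act 6 n138603
theorem D210387 : act 6 n138603 = n210387 := rfl
theorem F457335 : act 2 n210387 = n192289 := d3_1 D210387 (iv6 F386317) F360934
theorem F457336 : act 3 n210387 = n192861 := d7_1 D210387 F388050 (iv3 F221776)
theorem F457337 : act 5 n210387 = n188680 := d12_1 D210387 F374429 (iv5 F431668) (iv6 D204249) (iv5 F352977)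
theorem F457338 : act 0 n210387 = n192287 := d21_10 (iv5 D192287) (iv1 F157747) D191266 F382820 (iv1 D123242) (iv6 F328881) (iv5 F329209) D123227 (iv5 F352977) D210387
theorem F457339 : act 0 n141256 = n210387 := d21_4 F427130 F365744 F329190 D141256 (iv6 D210387) F352977 (iv1 F252178) (iv5 F365415) (iv6 F456431) F456433
theorem F457340 : act 4 n210387 = n192490 := d18_1 F457339 (iv1 F386804) (iv4 D184364) (iv5 D87930) F62205 (iv0 F157763) (iv4 F153287) F157777 (iv5 F357366)
theorem F457341 : act 6 n192490 = n210386 := d10_2 D210387 F457340 (iv4 D210386)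
theorem F457342 : act 7 n192288 = n210387 := d8_0 F457336 F388051 F387970
def n210388 : Q := act 6 n138604
theorem D210388 : act 6 n138604 = n210388 := rfl
theorem F457343 : act 4 n210388 = n209182 := d10_1 D210388 (iv6 D209182) F221777
theorem F457344 : act 0 n210388 = n138634 := d20_7 F99881 (iv1 F99379) D135892 (iv3 F391274) (iv1 F391277) (iv3 F452614) (iv4 F457343) (iv4 F452473) (iv3 D209151) (iv1 F218581)
def n210389 : Q := act 2 n138614
theorem D210389 : act 2 n138614 = n210389 := rfl
theorem F457345 : act 3 n210389 = n194402 := d0_2 D138614 D210389 (iv2 F393061) (iv3 D125019) (iv2 F316033)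
theorem F457346 : act 4 n210389 = n199302 := d1_2 F246812 D210389 F411566
theorem F457347 : act 5 n210389 = n201210 := d2_2 F457081 D210389 (iv2 F457079)
theorem F457348 : act 6 n210389 = n141184 := d3_2 (iv6 F322121) D210389 (iv2 D141184)
theorem F457349 : act 7 n210389 = n200391 := d4_2 F246469 D210389 (iv2 F416266)
theorem F457350 : act 1 n210389 = n200394 := d15_0 (iv0 F416283) F246469 D210389
theorem F457351 : act 1 n200386 = n210389 := d15_0 F457350 (iv7 D200394) (iv2 F416243)
def n210390 : Q := act 3 n138619
theorem D210390 : act 3 n138619 = n210390 := rfl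
theorem F457352 : act 2 n210390 = n201290 := d0_1 D210390 F419878 F199457 (iv3 F328075) F364178
theorem F457353 : act 5 n210390 = n156473 := d6_2 (iv5 F221789) D210390 (iv3 D156473)
theorem F457354 : act 6 n210390 = n201288 := d7_2 (iv6 F448688) D210390 F448687
theorem F457355 : act 7 n210390 = n195193 := d8_2 (iv7 F364179) D210390 F396187
theorem F457356 : act 0 n210390 = n200392 := d20_4 (iv4 D146287) (iv1 F243380) (iv4 F334941) D210390 F416269 F274186 (iv1 F128715) D83750 F332270 F330629
theorem F457357 : act 0 n159595 = n210390 := d20_4 F107996 (iv1 F332640) (iv4 F336373) F336372 (iv3 D210390) F334941 (iv1 F311480) (iv4 F348297) (iv3 F360925) (iv1 D151577)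
def n210391 : Q := act 1 n138620
theorem D210391 : act 1 n138620 = n210391 := rfl
theorem F457358 : act 1 n210391 = n149686 := d15_1 D210391 (iv7 F356812) F356810
theorem F457359 : act 7 n210391 = n149664 := d15_2 (iv0 F329256) D210391 F235296
theorem F457360 : act 5 n210391 = n151761 := d17_7 F305183 (iv5 D39444) F199746 D73421 D154821 F334937 D210391 (iv0 D151761) (iv4 D71537)
theorem F457361 : act 4 n210391 = n156517 := d17_9 (iv1 F426079) F426076 F316923 D138653 F330627 D142627 (iv0 F334934) F334937 D210391
theorem F457362 : act 3 n149666 = n210391 := d19_19 (iv1 D210391) (iv5 F334937) (iv4 D154821) (iv3 F307283) F308164 (iv5 D159892) F233079 D101070 (iv1 F385285) F385283 (iv4 D191753) (iv3 F384352) F384353 (iv5 D153334) (iv4 F178517) F178516 F308845 D134665 F331617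
theorem F457363 : act 6 n160047 = n210391 := d21_3 F316981 (iv1 F183718) (iv5 F252553) (iv1 D210391) (iv6 F334944) F332523 F237160 F317910 F189234 (iv1 F326891)
theorem F457364 : act 2 n210391 = n149688 := d3_1 F457363 F235357 (iv2 F252551)
def n210392 : Q := act 0 n138621
theorem D210392 : act 0 n138621 = n210392 := rfl
theorem F457365 : act 4 n210392 = n149340 := d18_1 D210392 (iv1 F332440) (iv4 F360539) D203058 (iv4 F426826) F426817 (iv4 F157159) F390912 F390911
theorem F457366 : act 2 n187454 = n210392 := d15_3 (iv0 D210392) (iv0 F356849) (iv7 F370404)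
theorem F457367 : act 1 n154908 = n210392 := d15_0 (iv0 D210392) (iv7 F356844) (iv2 F356845)
theorem F457368 : act 7 n210392 = n203137 := d15_2 F356850 F457367 F427110
theorem F457369 : act 6 n149339 = n210392 := d14_5 F457368 (iv6 D203137) F184468 D143397 F321934
theorem F457370 : act 3 n210392 = n187196 := d0_2 D187454 F457366 (iv2 F369515) (iv3 D187208) (iv2 F138607)
def n210393 : Q := act 3 n138622
theorem D210393 : act 3 n138622 = n210393 := rfl
theorem F457371 : act 4 n210393 = n147389 := d5_2 (iv4 F360543) D210393 (iv3 F334596) (iv4 D117914) D117913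
theorem F457372 : act 6 n210393 = n205982 := d7_2 F360544 D210393 F438692
theorem F457373 : act 7 n210393 = n147762 := d8_2 F360545 D210393 (iv3 F334594)
theorem F457374 : act 0 n210393 = n194259 := d19_4 (iv1 F313056) (iv5 F227744) (iv4 F360543) D210393 F392538 F338026 F338049 (iv1 D69987) (iv5 D32488) F24955 F11574 D7272 D15402 F313218 (iv3 F85681) D117879 F232923 D146622 F353435
theorem F457375 : act 5 n153861 = n210393 := d17_1 F242632 F457374 F392538 F338026 (iv5 F338028) F231585 D147855 F231626 D154558
theorem F457376 : act 1 n210393 = n194423 := d15_1 (iv0 F457374) (iv7 D194423) (iv2 F392536)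
theorem F457377 : act 2 n147747 = n210393 := d15_3 F457376 (iv0 F393138) (iv7 F358565)
def n210394 : Q := act 5 n138622
theorem D210394 : act 5 n138622 = n210394 := rfl
theorem F457378 : act 3 n210394 = n153861 := d6_1 D210394 F457375 (iv3 D210393)
theorem F457379 : act 7 n210394 = n154499 := d13_2 F360545 D210394 F364524
theorem F457380 : act 6 n185506 = n210394 := d14_5 F457379 F358569 (iv7 F392088) F392104 (iv7 F392107)
theorem F457381 : act 0 n192555 = n185506 := d21_4 (iv5 D191305) (iv1 F151054) D100386 D192555 F457380 (iv5 D210394) (iv1 F360546) (iv5 F386216) (iv6 D192254) (iv1 F382967)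
def n210395 : Q := act 3 n138623
theorem D210395 : act 3 n138623 = n210395 := rfl
theorem F457382 : act 4 n210395 = n194638 := d5_2 F334430 D210395 (iv3 F393911) (iv4 D151281) (iv3 F233154)
theorem F457383 : act 0 n210395 = n200393 := d19_4 (iv1 F396289) (iv5 F396292) F334430 D210395 F416277 (iv4 D187093) (iv3 F364404) F406349 (iv5 D123852) (iv4 D57714) D57713 (iv1 F331647) D155454 (iv4 F355586) (iv3 F420589) F420591 (iv5 D114788) (iv4 F178854) F178853
theorem F457384 : act 4 n178812 = n199352 := d20_8 (iv4 D146358) D146356 F334430 D210395 F457383 F416275 F278675 D178812 F425104 (iv1 F425103)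
theorem F457385 : act 3 n152785 = n178812 := d5_5 F457384 F425104 F425100 (iv3 F404536) (iv4 F404541)
theorem F457386 : act 6 n202731 = n178812 := d10_0 F457384 (iv6 F425105) (iv4 F425322)
theorem E103969 : n204623 = n156173 := (c20_10 (iv4 F172516) D199352 (iv4 F457384) (iv3 F457385) (iv1 D152785) (iv3 F239988) F356031 F304969 (iv4 F306752) (iv3 F433040) (iv1 D156173))
theorem F457387 : act 3 n156173 = n124053 := (sb E103969 F433040)
theorem F457388 : act 5 n156173 = n124052 := (sb E103969 (iv5 D204623))
theorem F457389 : act 6 n205850 = n204621 := d21_9 (iv5 F457388) (iv1 D156173) D156174 (iv6 F320456) (iv1 F239542) D152876 F359978 F365113 D205850 (iv1 D204621)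
theorem F457390 : act 0 n202359 = n204510 := d21_4 F108579 (iv1 F108350) D152342 (iv6 F423752) F432763 (iv5 F457388) (iv1 D156173) D156174 (iv6 F320456) (iv1 F239542)
theorem F457391 : act 3 n204621 = n201956 := d7_1 F457389 F422513 (iv3 F438139)
theorem F457392 : act 5 n204621 = n201953 := d12_1 F457389 (iv6 D201953) F179547 D126687 D205850
def n210396 : Q := act 5 n138623
theorem D210396 : act 5 n138623 = n210396 := rfl
theorem F457393 : act 2 n210396 = n154499 := d2_1 D210396 F364524 (iv2 F334431)
theorem F457394 : act 6 n210396 = n194113 := d12_2 F334428 D210396 F392094 (iv6 D171134) D171133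
theorem F457395 : act 4 n210396 = n194114 := d16_2 F334430 D210396 F392099 F398344 (iv5 D195823) (iv4 F313057) (iv5 F227744) (iv7 F200099) F233153
def n210397 : Q := act 4 n138624
theorem D210397 : act 4 n138624 = n210397 := rfl
theorem F457396 : act 0 n210397 = n209794 := d18_2 (iv1 F386220) D210397 F454979 (iv5 D139944) F101422 (iv0 F335043) (iv4 F222605) F424457 F424455
def n210398 : Q := act 3 n138630
theorem D210398 : act 3 n138630 = n210398 := rfl
theorem F457397 : act 2 n210398 = n203085 := d0_1 D210398 (iv3 D203085) F426615 (iv3 F426618) (iv2 F411442)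
theorem F457398 : act 4 n210398 = n146556 := d5_2 (iv4 F364408) D210398 (iv3 F419514) (iv4 F419518) F368459
theorem F457399 : act 5 n210398 = n194122 := d6_2 F364406 D210398 (iv3 F432607)
theorem F457400 : act 7 n210398 = n210214 := d8_2 F411445 D210398 F456607
theorem F457401 : act 0 n204250 = n210398 := d17_0 F457399 (iv1 D194122) (iv5 F348244) F193447 (iv5 F178943) (iv0 F335469) D121330 F335477 (iv4 F431673)
def n210399 : Q := act 0 n138634
theorem D210399 : act 0 n138634 = n210399 := rfl
theorem F457402 : act 4 n210399 = n193916 := d20_8 (iv4 F390463) (iv1 F390464) (iv4 F218570) F218569 D135888 D209151 F452473 D210399 (iv3 D193916) (iv1 F385906)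
def n210400 : Q := act 2 n138634
theorem D210400 : act 2 n138634 = n210400 := rfl
theorem F457403 : act 6 n210400 = n192176 := d3_2 F362227 D210400 (iv2 F385875)
def n210401 : Q := act 5 n138634
theorem D210401 : act 5 n138634 = n210401 := rfl
theorem F457404 : act 3 n210401 = n138635 := d6_1 D210401 (iv5 D138635) D138634
theorem F457405 : act 6 n210401 = n206063 := d12_2 F362227 D210401 (iv5 D206063) F391807 (iv5 D194026)
theorem F457406 : act 0 n203407 = n210401 := d21_4 (iv5 D54721) D54718 D118891 D203407 F457405 (iv5 D206063) F204585 (iv5 F428058) (iv6 F428061) (iv1 D118901)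
def n210402 : Q := act 4 n138635
theorem D210402 : act 4 n138635 = n210402 := rfl
theorem F457407 : act 7 n210402 = n204616 := d11_2 F343246 D210402 F433036
def n210403 : Q := act 6 n138635
theorem D210403 : act 6 n138635 = n210403 := rfl
theorem F457408 : act 3 n210403 = n206063 := d7_1 D210403 (iv6 F457405) F457404
theorem F457409 : act 5 n210403 = n203780 := d12_1 D210403 F429780 (iv5 D199034) (iv6 F172380) D138635
theorem F457410 : act 7 n210403 = n203779 := d14_2 F343246 D210403 F429775 F301758 D177921
def n210404 : Q := act 1 n138636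
theorem D210404 : act 1 n138636 = n210404 := rfl
theorem F457411 : act 3 n194259 = n210404 := d20_3 (iv4 D147816) D147814 (iv4 F392537) (iv1 D210404) (iv3 D138636) (iv4 F171628) (iv1 D110820) (iv4 F80880) (iv3 F172403) (iv1 F353733)
theorem F457412 : act 6 n192284 = n210404 := d21_3 (iv5 F364422) F343894 (iv5 F386293) (iv1 D210404) (iv6 F364786) (iv5 D150098) F232730 D70656 (iv6 F155641) (iv1 F364424)
def n210405 : Q := act 2 n138636
theorem D210405 : act 2 n138636 = n210405 := rfl
theorem F457413 : act 6 n210405 = n149022 := d3_2 F364786 D210405 (iv2 F236214)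
def n210406 : Q := act 5 n138636
theorem D210406 : act 5 n138636 = n210406 := rfl
theorem F457414 : act 3 n210406 = n138637 := d6_1 D210406 (iv5 D138637) D138636
theorem F457415 : act 6 n210406 = n204236 := d12_2 F364786 D210406 F431608 (iv6 D150099) D150098
theorem F457416 : act 0 n210406 = n209848 := d21_1 D210406 F455128 F424413 F408868 (iv6 F364421) (iv5 F364422) F343894 (iv5 F386293) F457412 (iv1 D210404)
theorem F457417 : act 0 n210273 = n210406 := d21_10 (iv5 D210406) F410260 (iv5 F426934) (iv6 D203093) D203091 (iv6 F449461) (iv5 D208461) F347015 (iv5 F221313) D210273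
def n210407 : Q := act 4 n138637
theorem D210407 : act 4 n138637 = n210407 := rfl
theorem F457418 : act 2 n210407 = n204616 := d1_1 D210407 F433036 (iv2 F343235)
theorem F457419 : act 6 n210407 = n204055 := d10_2 F343233 D210407 F430918
def n210408 : Q := act 3 n138639
theorem D210408 : act 3 n138639 = n210408 := rfl
theorem F457420 : act 5 n210408 = n202541 := d6_2 (iv5 F221804) D210408 F424416
theorem F457421 : act 7 n210408 = n202540 := d8_2 (iv7 F221803) D210408 F424415
theorem F457422 : act 0 n210408 = n203093 := d21_1 (iv5 F457420) F426934 (iv6 D199000) (iv1 F338243) (iv6 D137243) (iv5 D64502) D64500 D137234 D210004 (iv1 F456869)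
theorem F457423 : act 0 n210334 = n139475 := d21_4 (iv5 F329163) F183939 (iv5 F348678) D210334 (iv6 F424418) (iv5 F457420) F457422 F426934 (iv6 D199000) (iv1 F338243)
def n210409 : Q := act 4 n138639
theorem D210409 : act 4 n138639 = n210409 := rfl
theorem F457424 : act 7 n210409 = n202542 := d11_2 (iv7 F221803) D210409 (iv4 D202542)
theorem F457425 : act 0 n210409 = n199292 := d18_2 (iv1 F222647) D210409 (iv4 D199292) (iv5 D111157) F80880 D110820 F171628 F172387 (iv5 F222644)
def n210410 : Q := act 6 n138639
theorem D210410 : act 6 n138639 = n210410 := rfl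
theorem F457426 : act 2 n210410 = n177981 := d3_1 D210410 (iv6 F406607) F222648
theorem F457427 : act 0 n210410 = n177767 := d21_4 (iv5 D139389) (iv1 F180543) (iv5 F221804) D210410 (iv6 D177767) (iv5 F129832) F153926 (iv5 F153925) D177921 F343247
theorem F457428 : act 0 n177982 = n210410 := d21_4 (iv5 D191492) D191491 F383563 (iv6 F341431) (iv6 D210410) F221804 (iv1 F180542) D139393 (iv6 F350271) (iv1 F383568)
theorem F457429 : act 7 n177980 = n210410 := d15_2 F421405 F421406 F457426
def n210411 : Q := act 1 n138640
theorem D210411 : act 1 n138640 = n210411 := rfl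
theorem F457430 : act 7 n210411 = n198068 := d15_2 F222595 D210411 F406645
theorem F457431 : act 5 n210411 = n197734 := d17_7 (iv1 F351250) (iv5 D140352) F168498 D197737 (iv4 F423019) (iv5 F423021) D210411 F405575 F179625
theorem F457432 : act 4 n210411 = n198070 := d18_7 (iv1 F172407) (iv4 D65102) (iv1 D30570) (iv4 F48989) D65094 D138640 D210411 F406651 F222593
theorem F457433 : act 2 n198044 = n210411 := d1_3 F457432 F406648 (iv4 F406575)
def n210412 : Q := act 3 n138640
theorem D210412 : act 3 n138640 = n210412 := rfl
theorem F457434 : act 5 n210412 = n202720 := d6_2 (iv5 F423021) D210412 F425277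
def n210413 : Q := act 7 n138640
theorem D210413 : act 7 n138640 = n210413 := rfl
theorem F457435 : act 4 n210413 = n138641 := d11_1 D210413 (iv7 D138641) D138640
theorem F457436 : act 5 n210413 = n198054 := d13_1 D210413 F423020 (iv5 F423021)
theorem F457437 : act 1 n198044 = n210413 := d15_1 F411468 (iv7 D210413) (iv2 F411464)
theorem F457438 : act 1 n210413 = n198068 := d15_1 F457437 (iv7 F457430) (iv2 F457433)
theorem F457439 : act 6 n177889 = n210413 := d10_0 F457435 F343240 D177889
def n210414 : Q := act 5 n138642
theorem D210414 : act 5 n138642 = n210414 := rfl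
theorem F457440 : act 3 n210414 = n138643 := d6_1 D210414 (iv5 D138643) D138642
def n210415 : Q := act 4 n138643
theorem D210415 : act 4 n138643 = n210415 := rfl
def n210416 : Q := act 3 n138644
theorem D210416 : act 3 n138644 = n210416 := rfl
theorem F457441 : act 4 n210416 = n166080 := d5_2 D138644 D210416 (iv3 F362941) (iv4 F362938) F176216
theorem F457442 : act 5 n210416 = n154719 := d6_2 F412554 D210416 F412559
theorem F457443 : act 7 n210416 = n199818 := d8_2 (iv7 F221807) D210416 F413632
theorem F457444 : act 0 n210416 = n202496 := d19_4 D30569 D65099 D138644 D210416 (iv5 D202496) F180323 (iv3 F180319) F322673 (iv5 D106007) (iv4 F86853) F86852 F307117 (iv5 D31302) F104774 D59986 F315673 (iv5 D30580) F24150 (iv3 F24148)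
theorem F457445 : act 1 n210416 = n199632 := d15_1 (iv0 F457444) F412924 (iv2 F424262)
def n210417 : Q := act 3 n138645
theorem D210417 : act 3 n138645 = n210417 := rfl
theorem F457446 : act 4 n210417 = n138647 := d5_2 D138645 D210417 (iv3 D138647) (iv4 D65102) D65101
theorem F457447 : act 7 n210417 = n197334 := d8_2 (iv7 F221809) D210417 (iv3 D197334)
def n210418 : Q := act 5 n138645
theorem D210418 : act 5 n138645 = n210418 := rfl
theorem F457448 : act 2 n210418 = n197337 := d2_1 D210418 (iv5 D197337) (iv2 F221808)
theorem F457449 : act 7 n210418 = n197335 := d13_2 (iv7 F221809) D210418 (iv5 D197335)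
theorem F457450 : act 4 n210418 = n204443 := d16_2 D138645 D210418 (iv5 D204443) (iv4 F414864) F414863 (iv4 F411740) (iv5 D199331) F172460 (iv2 F168826)
def n210419 : Q := act 6 n138645
theorem D210419 : act 6 n138645 = n210419 := rfl
theorem F457451 : act 2 n210419 = n197338 := d3_1 D210419 (iv6 D197338) (iv2 F221808)
theorem F457452 : act 4 n210419 = n138646 := d10_1 D210419 (iv6 D138646) D138645
theorem F457453 : act 7 n210419 = n205447 := d14_2 (iv7 F221809) D210419 (iv6 F436473) (iv7 F396643) F167171
theorem F457454 : act 1 n205432 = n210419 := d15_1 (iv0 F436394) F457453 (iv2 F436471)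
theorem F457455 : act 1 n210419 = n197443 := d15_1 F457454 F404338 (iv2 F436392)
def n210420 : Q := act 1 n138647
theorem D210420 : act 1 n138647 = n210420 := rfl
theorem F457456 : act 7 n210420 = n199366 := d15_2 (iv0 F425015) D210420 F411869
theorem F457457 : act 3 n146358 = n210420 := d20_3 F360543 F233151 D146358 (iv1 D210420) (iv3 D138647) (iv4 D65102) (iv1 D30570) (iv4 F48989) (iv3 F100874) D138622
theorem F457458 : act 6 n210420 = n146360 := d7_2 (iv6 F229685) F457457 (iv3 D146360)
theorem F457459 : act 0 n199376 = n210420 := d20_4 F416276 F391893 (iv4 F415575) F425014 (iv3 F457457) (iv4 D146358) D146356 F334430 D210395 F457383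
theorem F457460 : act 2 n199379 = n210420 := d15_3 (iv0 F457459) (iv0 D199376) D199379
theorem F457461 : act 1 n199379 = n199284 := d15_0 (iv0 F411871) (iv7 F457456) (iv2 F457460)
def n210421 : Q := act 2 n138647
theorem D210421 : act 2 n138647 = n210421 := rfl
theorem F457462 : act 3 n210421 = n192854 := d0_2 D138647 D210421 F411481 (iv3 D199286) F172393
theorem F457463 : act 6 n210421 = n192852 := d3_2 F430767 D210421 (iv2 F430762)
theorem F457464 : act 7 n210421 = n199376 := d4_2 F411471 D210421 (iv2 F425013)
theorem F457465 : act 1 n210421 = n199379 := d15_0 F457461 F411471 D210421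
theorem F457466 : act 1 n199366 = n210421 := d15_0 F457465 (iv7 D199379) (iv2 F411869)
def n210422 : Q := act 3 n138688
theorem D210422 : act 3 n138688 = n210422 := rfl
theorem F457467 : act 6 n210422 = n199226 := d7_2 (iv6 F361416) D210422 (iv3 F411238)
def n210423 : Q := act 5 n138688
theorem D210423 : act 5 n138688 = n210423 := rfl
def n210424 : Q := act 6 n138692
theorem D210424 : act 6 n138692 = n210424 := rfl
theorem F457468 : act 2 n210424 = n140879 := d3_1 D210424 F393562 F393557
theorem F457469 : act 3 n210424 = n138695 := d7_1 D210424 (iv6 D138695) D138692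
theorem F457470 : act 4 n210424 = n201899 := d10_1 D210424 (iv6 F426981) F426977
theorem F457471 : act 7 n210424 = n202177 := d14_2 F404538 D210424 F423126 (iv7 F319701) F404540
theorem F457472 : act 5 n210424 = n140877 := d21_6 (iv5 D60350) F52477 D71943 D152539 (iv1 F393563) D210424 (iv1 F414448) F414444 (iv6 D152831) (iv1 F162642)
def n210425 : Q := act 3 n138693
theorem D210425 : act 3 n138693 = n210425 := rfl
theorem F457473 : act 7 n210425 = n199352 := d8_2 (iv7 F425102) D210425 F425104
theorem F457474 : act 0 n210425 = n199350 := d20_4 F244707 F319262 D138693 D210425 F411811 F352347 F242678 (iv4 F457371) (iv3 D210393) (iv1 F360546)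
theorem F457475 : act 0 n199355 = n210425 := d20_4 F172379 (iv1 F223466) F223467 (iv3 F411823) (iv3 D210425) (iv4 D138693) (iv1 D65121) (iv4 F100875) F100874 D65092
theorem F457476 : act 6 n210425 = n193111 := d21_5 (iv5 F375539) (iv1 F387810) F387807 (iv6 F411826) F457475 (iv5 D193111) (iv1 D101193) D101194 F155904 D101202
theorem F457477 : act 2 n199353 = n210425 := d3_3 F457476 (iv2 F430741) F430745
def n210426 : Q := act 5 n138693
theorem D210426 : act 5 n138693 = n210426 := rfl
def n210427 : Q := act 6 n138693
theorem D210427 : act 6 n138693 = n210427 := rfl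
theorem F457478 : act 3 n210427 = n193111 := d7_1 D210427 (iv6 F457476) (iv3 D210425)
theorem F457479 : act 4 n210427 = n138695 := d10_1 D210427 (iv6 D138695) D138693
theorem F457480 : act 5 n210427 = n193110 := d21_6 D150754 F374438 F374433 (iv6 F426274) F426276 D210427 F388785 (iv5 F397557) (iv6 D195604) (iv1 F162680)
def n210428 : Q := act 5 n138712
theorem D210428 : act 5 n138712 = n210428 := rfl
theorem F457481 : act 3 n210428 = n197155 := d6_1 D210428 (iv5 D197155) (iv3 F221862)
def n210429 : Q := act 0 n138743
theorem D210429 : act 0 n138743 = n210429 := rfl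
theorem F457482 : act 5 n210429 = n179170 := d17_3 F322231 F221890 D210429 (iv4 F432100) (iv5 D204337) F384325 F384323 (iv0 F351437) F223161
theorem F457483 : act 6 n210429 = n141776 := d21_5 (iv5 F334948) F353427 F340851 D138743 D210429 (iv5 F342584) (iv1 F457325) (iv5 D210385) F408457 (iv1 F408454)
theorem F457484 : act 2 n142314 = n210429 := d15_3 (iv0 D210429) F348233 (iv7 F338993)
theorem F457485 : act 1 n142308 = n210429 := d15_0 (iv0 D210429) F221889 (iv2 F225249)
theorem F457486 : act 7 n210429 = n139221 := d15_2 (iv0 F338996) F457485 F338989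
def n210430 : Q := act 6 n138749
theorem D210430 : act 6 n138749 = n210430 := rfl
theorem F457487 : act 3 n210430 = n138751 := d7_1 D210430 (iv6 D138751) D138749
theorem F457488 : act 4 n210430 = n177368 := d10_1 D210430 F333032 F246676
theorem F457489 : act 5 n210430 = n196282 := d12_1 D210430 (iv6 D196282) (iv5 F400179) (iv6 F400180) F384972
theorem F457490 : act 7 n210430 = n141879 := d14_2 F316131 D210430 (iv6 D141879) (iv7 F165405) F366265
def n210431 : Q := act 4 n138754
theorem D210431 : act 4 n138754 = n210431 := rfl
theorem F457491 : act 2 n210431 = n204417 := d1_1 D210431 F432449 F312830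
theorem F457492 : act 3 n210431 = n208829 := d5_1 D210431 F451032 (iv3 F366744) D193383 (iv3 F389654)
theorem F457493 : act 5 n210431 = n184054 := d9_2 (iv5 F245795) D210431 (iv4 D184054) (iv5 F308576) (iv4 D58317) D58318 (iv4 F312816) (iv5 F245792) (iv4 F433042) F433043 (iv4 D184056) (iv5 F308577) (iv4 D58312) D58313 F314347
theorem F457494 : act 7 n210431 = n204416 := d11_2 F312822 D210431 (iv4 F432445)
theorem F457495 : act 0 n210431 = n204372 := d17_0 (iv5 D204372) (iv1 F338876) (iv5 F350380) (iv4 F350377) F222382 F111761 D156579 F246244 D210431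
theorem F457496 : act 1 n210431 = n204420 := d18_6 D138506 (iv4 F313653) (iv1 D124738) F314347 (iv5 F245795) D210431 F432461 F314708 (iv5 D138509)
def n210432 : Q := act 4 n138762
theorem D210432 : act 4 n138762 = n210432 := rfl
theorem F457497 : act 3 n210432 = n206779 := d5_1 D210432 (iv4 D206779) F207488 (iv4 F100932) D138762
theorem F457498 : act 5 n210432 = n204563 := d9_2 (iv5 F221899) D210432 F432867 (iv5 F344818) D209432 F453683 F245184 (iv5 F357951) (iv4 F407141) (iv5 F431529) F431528 (iv5 F253226) F344868 (iv5 F245025) F245024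
theorem F457499 : act 6 n210432 = n208558 := d10_2 F405717 D210432 F449884
theorem F457500 : act 7 n210432 = n204562 := d11_2 (iv7 F221900) D210432 F432864
theorem F457501 : act 0 n210432 = n170880 := d17_0 (iv5 F448463) (iv1 D208225) (iv5 F216955) F216954 D140615 F345279 F130011 (iv0 F357949) D210432
def n210433 : Q := act 4 n138764
theorem D210433 : act 4 n138764 = n210433 := rfl
theorem F457502 : act 2 n210433 = n187525 := d1_1 D210433 (iv4 F401141) F401139
theorem F457503 : act 3 n210433 = n187854 := d5_1 D210433 F371700 F217058 (iv4 F100939) D138764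
theorem F457504 : act 6 n210433 = n149659 := d10_2 F364952 D210433 (iv4 F335539)
theorem F457505 : act 7 n210433 = n206241 := d11_2 (iv7 F221904) D210433 F439876
theorem F457506 : act 5 n210433 = n189424 := d16_1 D210433 (iv4 F382483) F382484 (iv4 F443573) (iv5 D207160) (iv4 F221653) (iv5 F401666) F401667 F401139
theorem F457507 : act 0 n210433 = n208122 := d17_0 (iv5 D208122) (iv1 D133413) F97668 (iv4 F178598) F331542 (iv0 F360561) (iv5 F450279) F450281 D210433
theorem F457508 : act 1 n210433 = n208121 := d18_6 (iv1 F447722) (iv4 D208065) (iv1 D133353) (iv4 F111562) (iv5 F221903) D210433 F447972 F410884 F401773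
def n210434 : Q := act 0 n138765
theorem D210434 : act 0 n138765 = n210434 := rfl
theorem F457509 : act 4 n210434 = n208656 := d18_1 D210434 (iv1 F450712) (iv4 F457227) F457228 (iv4 F454426) (iv0 F454430) F241393 (iv0 F331119) F331814
theorem F457510 : act 3 n210434 = n151167 := d20_5 (iv4 F335542) (iv1 F235273) (iv4 F335539) (iv3 F364950) D210434 F237859 (iv1 F242839) (iv4 F322065) F165770 D107459
theorem F457511 : act 5 n210434 = n151166 := d21_2 F331814 D210434 F398652 F424793 (iv6 F424792) (iv5 F405718) (iv1 F405720) (iv5 F331089) F241570 (iv1 F331120)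
theorem F457512 : act 6 n210434 = n140501 := d21_5 (iv5 D50114) (iv1 F53518) (iv5 F100938) D138765 D210434 F345332 (iv1 D116081) F345288 (iv6 D63523) (iv1 F79354)
theorem F457513 : act 1 n202612 = n210434 := d15_0 (iv0 D210434) F364951 (iv2 F424742)
theorem F457514 : act 2 n201423 = n210434 := d3_3 F457512 F360796 (iv6 F420457)
theorem F457515 : act 7 n205496 = n210434 := d15_2 (iv0 F420459) F436711 (iv2 F457514)
def n210435 : Q := act 1 n138765
theorem D210435 : act 1 n138765 = n210435 := rfl
theorem F457516 : act 1 n210435 = n202612 := d15_1 D210435 F424745 (iv2 F221905)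
theorem F457517 : act 7 n210435 = n201423 := d15_2 (iv0 D210434) D210435 F457514
theorem F457518 : act 3 n201409 = n210435 := d19_19 (iv1 D210435) (iv5 F331814) (iv4 F407872) F407871 (iv1 F169288) D144711 (iv4 F429248) F429247 F206653 (iv5 D118275) (iv4 F86010) (iv3 F55641) F55642 (iv5 D26438) (iv4 F42249) F42248 D52820 D114443 D201409
theorem F457519 : act 5 n206362 = n210435 := d21_0 (iv1 D210435) (iv5 F331814) F331815 (iv1 F223735) (iv6 F345395) (iv5 F345393) (iv1 D109180) (iv5 F330465) D196445 (iv1 F440424)
theorem F457520 : act 2 n210435 = n205496 := d2_1 F457519 F436710 D206362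
theorem F457521 : act 4 n208657 = n210435 := d1_0 F457520 (iv4 F450700) (iv2 F450701)
theorem F457522 : act 0 n194715 = n210368 := d20_10 F457227 (iv1 F450711) F457521 (iv3 F457518) F420392 (iv3 D188379) F294496 F293560 D104189 D194715
def n210436 : Q := act 3 n138773
theorem D210436 : act 3 n138773 = n210436 := rfl
theorem F457523 : act 5 n210436 = n196280 := d6_2 (iv5 F221908) D210436 (iv3 D196280)
theorem F457524 : act 7 n210436 = n199768 := d8_2 F337426 D210436 (iv3 F413411)
theorem F457525 : act 0 n210436 = n198800 := d20_4 F345064 (iv1 F222519) F345078 D210436 F409304 (iv4 D114253) D114252 (iv4 F375007) F375008 F180170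
theorem F457526 : act 0 n199485 = n210436 := d20_4 (iv4 F206038) D201357 F420136 (iv3 F412341) (iv3 D210436) (iv4 F345078) (iv1 D139334) (iv4 F172638) (iv3 F372023) F372028
theorem F457527 : act 6 n210436 = n138773 := d21_5 (iv5 F345425) F412339 (iv5 D199484) D199485 F457526 F221908 (iv1 D106868) D106869 (iv6 F351227) F351229
theorem F457528 : act 2 n199769 = n210436 := d3_3 F457527 (iv2 F337428) F413415
def n210437 : Q := act 3 n138774
theorem D210437 : act 3 n138774 = n210437 := rfl
theorem F457529 : act 4 n210437 = n193035 := d5_2 F345076 D210437 (iv3 D193035) (iv4 F285841) F285840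
theorem F457530 : act 5 n210437 = n144272 := d6_2 (iv5 F221912) D210437 (iv3 D144272)
theorem F457531 : act 7 n210437 = n199786 := d8_2 F337430 D210437 (iv3 D199786)
theorem F457532 : act 0 n199476 = n210437 := d18_0 F457529 F388565 F375124 (iv5 F365331) (iv4 F375024) F375090 F375087 (iv0 F392872) F412358
def n210438 : Q := act 2 n138777
theorem D210438 : act 2 n138777 = n210438 := rfl
theorem F457533 : act 3 n210438 = n147928 := d0_2 D138777 D210438 F359338 (iv3 F322268) F167849
theorem F457534 : act 4 n210438 = n201273 := d1_2 F400715 D210438 F419789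
theorem F457535 : act 5 n210438 = n201279 := d2_2 (iv5 F364768) D210438 F419820
theorem F457536 : act 7 n210438 = n154767 := d4_2 F405167 D210438 (iv2 F405164)
theorem F457537 : act 1 n210438 = n188830 := d15_0 (iv0 F405168) F405167 D210438
theorem F457538 : act 1 n188824 = n210438 := d15_0 F457537 (iv7 F421695) F421691
def n210439 : Q := act 6 n138777
theorem D210439 : act 6 n138777 = n210439 := rfl
theorem F457539 : act 3 n210439 = n138779 := d7_1 D210439 (iv6 D138779) D138777
theorem F457540 : act 5 n210439 = n204156 := d12_1 D210439 F431237 (iv5 F412962) F412963 (iv5 F364768)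
theorem F457541 : act 7 n210439 = n204297 := d14_2 F405167 D210439 (iv6 F431929) F400274 (iv6 F405166)
def n210440 : Q := act 5 n138780
theorem D210440 : act 5 n138780 = n210440 := rfl
theorem F457542 : act 2 n210440 = n154769 := d2_1 D210440 (iv5 D154769) (iv2 F359344)
theorem F457543 : act 3 n210440 = n138781 := d6_1 D210440 (iv5 D138781) D138780
theorem F457544 : act 7 n210440 = n154764 := d13_2 (iv7 F359345) D210440 (iv5 D154764)
theorem F457545 : act 1 n210440 = n206267 := d17_6 (iv1 F438352) (iv5 D193135) (iv1 F364583) F392903 F392899 D210440 (iv5 D206267) D206265 F439984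
def n210441 : Q := act 4 n138898
theorem D210441 : act 4 n138898 = n210441 := rfl
theorem F457546 : act 2 n210441 = n204995 := d1_1 D210441 (iv4 D204995) F316046
theorem F457547 : act 5 n210441 = n194930 := d9_2 D138898 D210441 F395053 F303131 (iv4 F301199) (iv5 D39466) D39465 D85460 D179101 F395059 F395058 (iv5 F311899) (iv4 D138903) (iv5 D65215) D65214
theorem F457548 : act 0 n210441 = n207603 := d17_0 F445645 (iv1 F434457) (iv5 F434492) (iv4 D204991) (iv5 D124997) D124995 (iv5 F279038) (iv0 F362439) D210441
theorem F457549 : act 1 n210441 = n196171 := d18_6 (iv1 D65226) (iv4 D30616) D30613 D65214 D138898 D210441 F399692 F222428 (iv5 D138935)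
theorem F457550 : act 3 n210441 = n198688 := d19_3 F316686 D138898 D210441 (iv1 F430202) (iv5 D203878) (iv4 D121151) (iv3 F326637) F326634 F88805 (iv4 F132126) (iv3 F326776) D199569 F412702 D199816 F413618 (iv1 F245077) F167148 (iv4 F175950) F319047
def n210442 : Q := act 5 n138924
theorem D210442 : act 5 n138924 = n210442 := rfl
theorem F457551 : act 2 n210442 = n138943 := d2_1 D210442 (iv5 D138943) (iv2 F222109)
theorem F457552 : act 3 n210442 = n187261 := d6_1 D210442 (iv5 F393324) F393323
theorem F457553 : act 4 n210442 = n187334 := d9_1 D210442 F369863 (iv4 F293552) (iv5 F346302) F183426 F85247 (iv4 F107785) D151279 F362036 F137909 F76072 D102536 F346305 F317026 (iv4 F222110)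
theorem F457554 : act 7 n210442 = n187256 := d13_2 (iv7 F366530) D210442 F369646
theorem F457555 : act 1 n210442 = n190175 := d17_6 F322270 (iv5 F322280) (iv1 F183432) F317026 (iv4 F222110) D210442 F379036 (iv0 F408451) (iv4 D198596)
theorem F457556 : act 0 n210442 = n202838 := d21_1 D210442 (iv5 D202838) (iv6 D117008) (iv1 D53925) D53928 (iv5 F346878) (iv1 F245006) (iv5 F414117) F414119 (iv1 F366531)
def n210443 : Q := act 4 n138932
theorem D210443 : act 4 n138932 = n210443 := rfl
theorem F457557 : act 2 n210443 = n200008 := d1_1 D210443 F414599 F340018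
theorem F457558 : act 5 n210443 = n200007 := d9_2 D138932 D210443 F414591 F334612 (iv4 F310572) F222373 F100978 D138935 (iv4 F408956) (iv5 D198710) (iv4 F170602) F348548 F309289 (iv5 F236168) (iv4 F314602)
theorem F457559 : act 6 n210443 = n144086 := d10_2 (iv6 F340028) D210443 (iv4 F365082)
theorem F457560 : act 0 n210443 = n180641 := d18_2 F222126 D210443 (iv4 F362311) (iv5 D178867) F316054 F314450 F312128 (iv0 D108166) D108169
theorem F457561 : act 1 n210443 = n207168 := d18_6 (iv1 F316036) F316037 F314599 (iv4 F314602) D138932 D210443 F443623 (iv0 F316041) (iv5 D156841)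
def n210444 : Q := act 5 n138933
theorem D210444 : act 5 n138933 = n210444 := rfl
theorem F457562 : act 2 n210444 = n143971 := d2_1 D210444 (iv5 F340025) F246889
theorem F457563 : act 3 n210444 = n193467 := d6_1 D210444 (iv5 D193467) F346676
theorem F457564 : act 6 n210444 = n143970 := d12_2 D138933 D210444 (iv5 F226899) (iv6 F340028) (iv5 D138932)
theorem F457565 : act 7 n210444 = n142467 := d13_2 (iv7 F359925) D210444 (iv5 D142467)
theorem F457566 : act 0 n210444 = n200449 := d17_2 (iv1 F346678) D210444 (iv5 F416462) F385685 F311807 D123529 F314371 (iv0 F325040) D67352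
theorem F457567 : act 1 n210444 = n200448 := d17_6 F420710 (iv5 F432076) (iv1 F432079) F346680 (iv4 F346677) D210444 F416461 F385696 (iv4 F420708)
def n210445 : Q := act 6 n138935
theorem D210445 : act 6 n138935 = n210445 := rfl
theorem F457568 : act 3 n210445 = n200250 := d7_1 D210445 F415708 (iv3 F340016)
theorem F457569 : act 5 n210445 = n142474 := d12_1 D210445 (iv6 D142474) (iv5 D66801) (iv6 F322929) D138935
theorem F457570 : act 7 n210445 = n200425 := d14_2 F340020 D210445 (iv6 D200425) F176212 D144206
theorem F457571 : act 0 n210445 = n200411 := d21_4 (iv5 D152258) F316682 D138935 D210445 (iv6 F416327) (iv5 D199873) D199872 F413898 (iv6 F407775) (iv1 F319044)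
theorem F457572 : act 0 n190746 = n210445 := d21_7 (iv5 D31382) D31379 D67538 (iv6 F357487) D208888 (iv6 F451266) (iv5 F380895) F457569 (iv6 D142474) F181699
def n210446 : Q := act 4 n138937
theorem D210446 : act 4 n138937 = n210446 := rfl
theorem F457573 : act 6 n210446 = n200337 := d10_2 (iv6 F407775) D210446 F416047
def n210447 : Q := act 3 n138938
theorem D210447 : act 3 n138938 = n210447 := rfl
theorem F457574 : act 2 n210447 = n176860 := d0_1 D210447 F276233 (iv2 F292435) F353351 (iv2 F246894)
theorem F457575 : act 5 n210447 = n157227 := d6_2 F246567 D210447 (iv3 D157227)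
theorem F457576 : act 6 n210447 = n176855 := d7_2 F377547 D210447 (iv3 F377545)
theorem F457577 : act 7 n210447 = n190436 := d8_2 F246897 D210447 F404372
theorem F457578 : act 0 n190434 = n210447 := d21_4 (iv5 F350496) F350495 F160712 D190434 F457576 (iv5 D176855) (iv1 F250176) F360303 (iv6 D96003) (iv1 F306980)
theorem F457579 : act 0 n210447 = n190437 := d21_10 F379765 (iv1 F425835) (iv5 D202844) (iv6 D117018) (iv1 D53929) D53930 (iv5 F346866) F360322 D176855 (iv6 F457576)
def n210448 : Q := act 4 n138938
theorem D210448 : act 4 n138938 = n210448 := rfl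
theorem F457580 : act 5 n210448 = n198493 := d16_1 D210448 F408150 (iv5 D152250) F199893 D86792 F314453 (iv5 F245801) F246895 (iv2 F246894)
theorem F457581 : act 3 n210448 = n198497 := d19_3 F314312 F246567 D210448 F408157 (iv5 D112525) (iv4 D51912) (iv3 D25187) (iv1 F19716) F8574 (iv4 F19028) (iv3 F38706) D50854 F326651 (iv4 F256385) (iv3 F400747) F400749 F206928 (iv4 F175711) F316692
def n210449 : Q := act 5 n138940
theorem D210449 : act 5 n138940 = n210449 := rfl
theorem F457582 : act 3 n210449 = n197471 := d6_1 D210449 (iv5 D197471) (iv3 F222131)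
theorem F457583 : act 6 n210449 = n138943 := d12_2 D138940 D210449 (iv5 D138943) (iv6 D65228) D65227
theorem F457584 : act 4 n210449 = n187335 := d16_2 F348071 D210449 F369868 F327100 (iv5 D87292) F61663 D87292 (iv7 F138248) F291968
def n210450 : Q := act 4 n138941
theorem D210450 : act 4 n138941 = n210450 := rfl
theorem F457585 : act 2 n210450 = n156636 := d1_1 D210450 (iv4 F366536) F366595
theorem F457586 : act 3 n210450 = n159431 := d5_1 D210450 F334898 F156961 (iv4 F156968) F366599
theorem F457587 : act 6 n210450 = n193596 := d10_2 (iv6 F366598) D210450 F390401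
theorem F457588 : act 7 n210450 = n203233 := d11_2 F366597 D210450 F427493
theorem F457589 : act 5 n210450 = n194511 := d16_3 D190192 (iv5 F379052) D210450 F393509 F347307 (iv4 F380416) (iv5 F381440) F381441 (iv2 D190191)
theorem F457590 : act 1 n210450 = n197488 := d18_8 (iv1 F397493) F397488 (iv1 D146808) F105016 (iv5 F86825) (iv4 F187697) F366532 D210450 F404529
theorem F457591 : act 1 n201492 = n210450 := d15_0 F457590 F404530 (iv2 F420703)
def n210451 : Q := act 3 n138942
theorem D210451 : act 3 n138942 = n210451 := rfl
theorem F457592 : act 0 n210451 = n194349 := d20_4 F429217 (iv1 F433935) (iv4 F366535) D210451 F392893 (iv4 F392927) (iv1 F392931) (iv4 F331349) F331348 F429220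
theorem F457593 : act 1 n210451 = n194339 := d15_1 (iv0 F457592) (iv7 F416404) F416402
def n210452 : Q := act 5 n138942
theorem D210452 : act 5 n138942 = n210452 := rfl
theorem F457594 : act 2 n210452 = n190241 := d2_1 D210452 (iv5 F379160) (iv2 F366596)
theorem F457595 : act 6 n210452 = n198739 := d12_2 (iv6 F407933) D210452 (iv5 D198739) F174348 (iv5 F407931)
theorem F457596 : act 7 n210452 = n190242 := d13_2 (iv7 F366594) D210452 F379161
theorem F457597 : act 4 n210452 = n190882 := d16_2 (iv4 F366535) D210452 F381440 F380416 (iv5 F347307) (iv4 F393509) (iv5 F457589) F457588 (iv2 F427495)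
theorem F457598 : act 0 n210452 = n187236 := d17_2 (iv1 F366534) D210452 (iv5 F408449) (iv4 D198596) F316637 F346825 (iv5 D138971) (iv0 F318260) (iv4 F187697)
theorem F457599 : act 1 n210452 = n190217 := d17_8 (iv1 F369593) F369595 (iv1 D104707) (iv5 F138053) (iv4 F346829) (iv5 D138943) D138942 D210452 (iv4 D190217)
def n210453 : Q := act 1 n138943
theorem D210453 : act 1 n138943 = n210453 := rfl
theorem F457600 : act 1 n210453 = n187256 := d15_1 D210453 (iv7 F457554) F457551
theorem F457601 : act 7 n210453 = n202838 := d15_2 (iv0 F366204) D210453 F425797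
theorem F457602 : act 5 n210453 = n202839 := d17_7 (iv1 F183090) F322274 F317759 (iv5 D65235) (iv4 F100981) D138943 D210453 F425805 F393594
theorem F457603 : act 4 n210453 = n190172 := d17_9 (iv1 F381382) F381384 (iv1 D189869) (iv5 F147378) D190192 (iv5 F379052) (iv0 D138941) D138943 D210453
theorem F457604 : act 2 n190175 = n210453 := d1_3 F457603 F379033 D190175
def n210454 : Q := act 3 n138965
theorem D210454 : act 3 n138965 = n210454 := rfl
theorem F457605 : act 2 n210454 = n194639 := d0_1 D210454 (iv3 F393915) F390480 F331348 (iv2 F363704)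
theorem F457606 : act 7 n210454 = n194638 := d8_2 (iv7 F363705) D210454 (iv3 F393911)
theorem F457607 : act 0 n210454 = n192848 := d20_10 F388008 F411482 F411477 (iv3 D197475) (iv1 D108219) (iv3 F100980) F100981 D65233 D138965 D210454
theorem F457608 : act 1 n210454 = n194641 := d15_1 (iv0 F457607) (iv7 D194641) (iv2 F388007)
def n210455 : Q := act 5 n138965
theorem D210455 : act 5 n138965 = n210455 := rfl
theorem F457609 : act 2 n210455 = n190239 := d2_1 D210455 (iv5 F385456) (iv2 F363704)
theorem F457610 : act 6 n210455 = n198724 := d12_2 F363703 D210455 F408995 (iv6 F174334) (iv5 F363694)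
theorem F457611 : act 7 n210455 = n190236 := d13_2 (iv7 F363705) D210455 (iv5 F379157)
theorem F457612 : act 4 n210455 = n187234 := d16_2 D138965 D210455 F369589 (iv4 F385439) F385440 (iv4 F346822) (iv5 D138971) (iv7 F318391) F318390
def n210456 : Q := act 5 n138970
theorem D210456 : act 5 n138970 = n210456 := rfl
theorem F457613 : act 2 n210456 = n190236 := d2_1 D210456 (iv5 F379157) F366527
theorem F457614 : act 4 n210456 = n187235 := d9_1 D210456 F369595 (iv4 F385463) F385464 F250288 F318392 D138965 D210455 F457612 F369589 (iv4 F385439) F385440 (iv4 F346822) (iv5 D138971) D138970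
theorem F457615 : act 6 n210456 = n198700 := d12_2 F408021 D210456 F408929 (iv6 F174265) (iv5 F408018)
theorem F457616 : act 7 n210456 = n190239 := d13_2 (iv7 F366528) D210456 (iv5 F385456)
def n210457 : Q := act 6 n138995
theorem D210457 : act 6 n138995 = n210457 := rfl
theorem F457617 : act 2 n210457 = n206621 := d3_1 D210457 (iv6 D206621) (iv2 F222166)
theorem F457618 : act 4 n210457 = n206619 := d10_1 D210457 (iv6 D206619) (iv4 F222168)
theorem F457619 : act 5 n210457 = n142705 := d12_1 D210457 (iv6 D142705) (iv5 D66899) (iv6 F320518) D138995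
theorem F457620 : act 0 n199255 = n142705 := d21_1 (iv5 F433541) (iv5 F457619) (iv6 D210457) F364619 F365758 (iv5 F394056) (iv1 D194668) F332729 (iv6 F198850) D204777
theorem F457621 : act 0 n200593 = n210457 := d21_4 D111699 D199761 F413376 D200593 (iv6 D210457) (iv5 D138995) (iv1 F313644) F413143 (iv6 D199692) F355989
theorem F457622 : act 6 n204670 = n204777 := d21_5 (iv5 D179610) (iv1 F311290) D197469 (iv6 F404470) D204670 (iv5 F433541) F457620 (iv5 F457619) (iv6 D210457) F364619
def n210458 : Q := act 2 n139020
theorem D210458 : act 2 n139020 = n210458 := rfl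
theorem F457623 : act 3 n210458 = n198359 := d0_2 D139020 D210458 F407750 F245365 F212011
theorem F457624 : act 4 n210458 = n164570 := d1_2 F338228 D210458 (iv2 F329016)
theorem F457625 : act 5 n210458 = n198358 := d2_2 F430280 D210458 (iv2 F430283)
theorem F457626 : act 6 n210458 = n209251 := d3_2 F361561 D210458 F452904
theorem F457627 : act 1 n210458 = n198999 := d15_0 F410259 F246726 D210458
theorem F457628 : act 1 n199001 = n210458 := d15_0 F457627 F410257 (iv2 F410261)
def n210459 : Q := act 1 n139068
theorem D210459 : act 1 n139068 = n210459 := rfl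
theorem F457629 : act 1 n210459 = n139110 := d15_1 D210459 (iv7 D139110) (iv2 F222249)
theorem F457630 : act 7 n210459 = n139107 := d15_2 (iv0 F341572) D210459 (iv2 F363417)
theorem F457631 : act 4 n210459 = n146632 := d18_7 D105833 (iv4 F364015) (iv1 D146598) (iv4 F334962) (iv5 D139072) (iv4 F222250) D210459 F330041 F114308
theorem F457632 : act 6 n202597 = n210459 := d21_3 (iv5 F408493) (iv1 F388251) (iv5 F424680) (iv1 D210459) (iv6 D139068) D139067 (iv1 F352847) (iv5 D181757) (iv6 F352809) F408492
theorem F457633 : act 2 n139108 = n210459 := d1_3 F457631 F330042 F363441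
theorem F457634 : act 3 n210459 = n193233 := d0_2 (iv3 F363443) F457633 F389260 F377056 F375877
def n210460 : Q := act 5 n139068
theorem D210460 : act 5 n139068 = n210460 := rfl
theorem F457635 : act 2 n210460 = n139109 := d2_1 D210460 (iv5 D139109) (iv2 F222249)
theorem F457636 : act 4 n210460 = n146614 := d9_1 D210460 (iv5 D146614) (iv4 D68710) D68711 (iv4 F319486) (iv5 F316917) (iv4 F222294) (iv5 F363435) (iv4 D114884) (iv5 D53008) F315370 D68706 (iv4 F334962) (iv5 D139072) (iv4 F222250)
theorem F457637 : act 7 n210460 = n201598 := d13_2 F363431 D210460 F421093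
theorem F457638 : act 0 n210460 = n201611 := d17_2 (iv1 D210459) D210460 F421134 (iv4 F223843) F363915 F397392 F397390 (iv0 F330040) (iv4 F457631)
theorem F457639 : act 1 n210460 = n201610 := d17_8 F386988 (iv5 D146573) (iv1 D68700) D68701 (iv4 F356649) F295024 (iv0 F341572) D210460 (iv4 F427217)
def n210461 : Q := act 6 n139079
theorem D210461 : act 6 n139079 = n210461 := rfl
theorem F457640 : act 3 n210461 = n139081 := d7_1 D210461 (iv6 D139081) D139079
theorem F457641 : act 4 n210461 = n139100 := d10_1 D210461 (iv6 D139100) (iv4 F222265)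
def n210462 : Q := act 6 n139080
theorem D210462 : act 6 n139080 = n210462 := rfl
theorem F457642 : act 2 n210462 = n197392 := d3_1 D210462 (iv6 D197392) (iv2 F222267)
theorem F457643 : act 3 n210462 = n200432 := d7_1 D210462 (iv6 D200432) F222285
theorem F457644 : act 0 n210462 = n204688 := d20_10 (iv4 D204688) F360090 D199606 F412822 (iv1 F403663) D197336 (iv4 F415585) (iv1 F416386) (iv4 F416410) (iv3 F457643)
def n210463 : Q := act 1 n139081
theorem D210463 : act 1 n139081 = n210463 := rfl
theorem F457645 : act 1 n210463 = n197395 := d15_1 D210463 (iv7 D197395) (iv2 F222270)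
theorem F457646 : act 7 n210463 = n197393 := d15_2 (iv0 F363423) D210463 (iv2 F404123)
theorem F457647 : act 4 n210463 = n145670 := d18_7 (iv1 F325096) D195593 F397505 (iv4 F314676) (iv5 D139089) (iv4 F222271) D210463 (iv0 F317366) F315159
theorem F457648 : act 6 n145669 = n210463 := d21_3 (iv5 F403824) (iv1 F404347) F404345 (iv1 D210463) (iv6 D139081) D139080 (iv1 F245704) (iv5 D156348) F111595 (iv1 F245707)
theorem F457649 : act 2 n156662 = n210463 := d1_3 F457647 F318624 D156662
def n210464 : Q := act 5 n139081
theorem D210464 : act 5 n139081 = n210464 := rfl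
theorem F457650 : act 2 n210464 = n197394 := d2_1 D210464 (iv5 D197394) (iv2 F222270)
theorem F457651 : act 0 n210464 = n139831 := d17_2 (iv1 D210463) D210464 (iv5 D139831) F101374 D65645 F319610 F317347 (iv0 F317358) (iv4 F457647)
def n210465 : Q := act 6 n139088
theorem D210465 : act 6 n139088 = n210465 := rfl
theorem F457652 : act 3 n210465 = n145542 := d7_1 D210465 F318456 F363420
theorem F457653 : act 4 n210465 = n195527 := d10_1 D210465 (iv6 F404559) (iv4 F404558)
theorem F457654 : act 7 n210465 = n145583 := d14_2 (iv7 F363422) D210465 F351587 F357853 F357851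
theorem F457655 : act 5 n210465 = n145540 := d21_6 F52837 F51003 D68613 (iv6 F229647) (iv1 F334986) D210465 F342424 (iv5 F186938) (iv6 D118876) F95992
def n210466 : Q := act 6 n139095
theorem D210466 : act 6 n139095 = n210466 := rfl
theorem F457656 : act 5 n210466 = n143075 := d12_1 D210466 (iv6 D143075) (iv5 D67049) F324697 D139095
theorem F457657 : act 0 n191783 = n210466 := d17_2 (iv1 F384149) F454181 F457656 F352441 (iv5 D87055) D87053 D182318 F335417 D186738
def n210467 : Q := act 5 n139097
theorem D210467 : act 5 n139097 = n210467 := rfl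
theorem F457658 : act 2 n210467 = n208172 := d2_1 D210467 F448227 F403961
theorem F457659 : act 3 n210467 = n204220 := d6_1 D210467 (iv5 F448995) F448993
theorem F457660 : act 6 n210467 = n204550 := d12_2 (iv6 F336213) D210467 F432839 F406305 (iv5 D143080)
theorem F457661 : act 7 n210467 = n203807 := d13_2 F403950 D210467 F429903
theorem F457662 : act 0 n210467 = n208171 := d17_2 (iv1 F453678) D210467 F448222 F385482 F403775 (iv0 D195471) D195473 (iv0 F404136) (iv4 F453674)
theorem F457663 : act 4 n210467 = n209593 := d18_5 (iv1 D64204) (iv4 F93890) D126769 F222283 D210467 (iv0 D209593) (iv4 D136675) (iv0 F393995) (iv5 D136579)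
theorem F457664 : act 0 n208170 = n210467 := d21_10 (iv5 D210467) (iv1 D139097) D139099 (iv6 F432787) (iv1 F448353) F448351 D209008 (iv1 F457000) F456996 F451836
theorem F457665 : act 5 n209381 = n208170 := d21_0 F457664 (iv5 D210467) F336213 (iv1 D67051) D67054 D143090 F347295 (iv5 F453516) (iv6 D209387) (iv1 F453486)
theorem F457666 : act 3 n208170 = n208777 := d6_1 F457665 F450825 D209381
def n210468 : Q := act 5 n139098
theorem D210468 : act 5 n139098 = n210468 := rfl
theorem F457667 : act 2 n210468 = n139099 := d2_1 D210468 (iv5 D139099) D139098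
theorem F457668 : act 3 n210468 = n209383 := d6_1 D210468 F453494 F411885
theorem F457669 : act 1 n210468 = n209386 := d17_6 F414639 F414637 F403673 (iv5 F411889) F411888 D210468 (iv5 D209386) (iv0 F385483) F385482
theorem F457670 : act 0 n210468 = n202506 := d18_0 F424319 (iv1 D192796) F367389 (iv5 D136581) (iv4 F204009) F204012 D197318 F403968 D210468
theorem F457671 : act 6 n208204 = n210468 := d21_5 F209467 (iv1 D62741) D62742 D133676 D208204 (iv5 D210468) (iv1 F403968) (iv5 F429903) (iv6 D203807) (iv1 F209466)
def n210469 : Q := act 6 n139098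
theorem D210469 : act 6 n139098 = n210469 := rfl
theorem F457672 : act 2 n210469 = n139100 := d3_1 D210469 (iv6 D139100) D139098
def n210470 : Q := act 4 n139099
theorem D210470 : act 4 n139099 = n210470 := rfl
theorem F457673 : act 6 n210470 = n209026 := d10_2 F432787 D210470 (iv4 F451905)
theorem F457674 : act 5 n210470 = n200440 := d16_3 F222265 D139099 D210470 (iv4 D200440) (iv5 D113113) D113112 F404135 (iv7 F411891) F411887
theorem F457675 : act 0 n210470 = n201436 := d20_1 D210470 F452530 (iv3 F452532) F413528 (iv3 D199792) (iv4 F412685) F432660 F432657 (iv3 F432627) F432630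
def n210471 : Q := act 7 n139099
theorem D210471 : act 7 n139099 = n210471 := rfl
theorem F457676 : act 3 n210471 = n139106 := d8_1 D210471 (iv7 D139106) (iv3 F222286)
theorem F457677 : act 5 n210471 = n139101 := d13_1 D210471 (iv7 D139101) D139099
theorem F457678 : act 1 n209386 = n210471 := d15_1 F457669 (iv7 D210471) (iv2 F457667)
theorem F457679 : act 1 n210471 = n202506 := d15_1 F457678 (iv7 F432629) (iv2 F453509)
theorem F457680 : act 6 n210048 = n203382 := d21_3 (iv5 D203044) F350746 (iv5 F455922) (iv1 D203382) F366665 (iv5 F457677) (iv1 F457678) (iv5 D209386) D209387 (iv1 F453519)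
theorem F457681 : act 2 n203382 = n210050 := d3_1 F457680 (iv6 D210050) D210048
def n210472 : Q := act 1 n139100
theorem D210472 : act 1 n139100 = n210472 := rfl
def n210473 : Q := act 5 n139100
theorem D210473 : act 5 n139100 = n210473 := rfl
theorem F457682 : act 3 n210473 = n139109 := d6_1 D210473 (iv5 D139109) (iv3 F222287)
theorem F457683 : act 0 n210473 = n209769 := d21_7 D209739 F454803 (iv5 D143080) (iv6 F336213) (iv1 D139097) D139100 D210473 (iv5 D209769) (iv6 D136898) (iv1 F406656)
theorem F457684 : act 4 n201650 = n210473 := d5_0 F457682 (iv4 F363432) F178961 (iv4 F179007) (iv3 F421232)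
theorem F457685 : act 7 n201612 = n210473 := d8_0 F457682 F363434 D201612
def n210474 : Q := act 7 n139100
theorem D210474 : act 7 n139100 = n210474 := rfl
theorem F457686 : act 3 n210474 = n139110 := d8_1 D210474 (iv7 D139110) (iv3 F222287)
theorem F457687 : act 5 n210474 = n201612 := d13_1 D210474 F457685 (iv5 D210473)
theorem F457688 : act 6 n210474 = n203322 := d14_1 D210474 F427874 F366665 (iv7 D139101) D139100
def n210475 : Q := act 3 n139102
theorem D210475 : act 3 n139102 = n210475 := rfl
theorem F457689 : act 2 n210475 = n193276 := d0_1 D210475 F389381 (iv2 F352829) F352831 F352844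
theorem F457690 : act 4 n210475 = n192683 := d5_2 (iv4 F357804) D210475 (iv3 D192683) (iv4 F155366) D101147
theorem F457691 : act 5 n210475 = n193154 := d6_2 F245803 D210475 (iv3 F388963)
theorem F457692 : act 7 n210475 = n193274 := d8_2 F352845 D210475 F389374
theorem F457693 : act 6 n184594 = n210475 := d14_5 F457692 (iv6 F432249) F432250 F373323 F373321
def n210476 : Q := act 6 n139102
theorem D210476 : act 6 n139102 = n210476 := rfl
theorem F457694 : act 3 n210476 = n184594 := d7_1 D210476 F457693 (iv3 D210475)
theorem F457695 : act 4 n210476 = n193059 := d10_1 D210476 (iv6 D193059) (iv4 F357804)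
theorem F457696 : act 0 n201499 = n210476 := d21_4 (iv5 D90364) D90361 F335403 (iv6 F420732) (iv6 D210476) (iv5 F245803) (iv1 F245805) (iv5 F433054) (iv6 F433057) (iv1 D187574)
theorem F457697 : act 5 n210476 = n143244 := d19_1 F457696 (iv4 F391762) (iv3 F391760) (iv1 F220447) D137940 F221196 (iv3 D68847) F82882 (iv5 D52496) F40273 F20652 (iv1 F20672) D26156 D54069 (iv3 F316822) (iv1 D52911) D52912 D114639 D201499
def n210477 : Q := act 6 n139103
theorem D210477 : act 6 n139103 = n210477 := rfl
theorem F457698 : act 2 n210477 = n159727 := d3_1 D210477 F355766 (iv2 F352846)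
theorem F457699 : act 3 n210477 = n193661 := d7_1 D210477 (iv6 D193661) F329277
theorem F457700 : act 4 n210477 = n204402 := d10_1 D210477 (iv6 D204402) (iv4 F352848)
theorem F457701 : act 5 n210477 = n159696 := d12_1 D210477 (iv6 F368736) (iv5 F390165) F390166 F329273
theorem F457702 : act 7 n159738 = n210477 := d13_0 F457701 (iv7 F251623) D159738
def n210478 : Q := act 0 n139105
theorem D210478 : act 0 n139105 = n210478 := rfl
theorem F457703 : act 4 n210478 = n193100 := d18_3 (iv1 F410215) (iv4 F410218) D210478 F388747 (iv4 D137667) (iv0 F333121) F333123 F171621 (iv5 F173436)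
theorem F457704 : act 3 n140566 = n210478 := d5_5 F457703 (iv3 D193100) F372453 F223475 D140566
def n210479 : Q := act 6 n139108
theorem D210479 : act 6 n139108 = n210479 := rfl
theorem F457705 : act 2 n210479 = n202597 := d3_1 D210479 F457632 (iv2 F457633)
theorem F457706 : act 3 n210479 = n192113 := d7_1 D210479 F385610 (iv3 F363443)
theorem F457707 : act 4 n210479 = n150915 := d10_1 D210479 (iv6 F279616) F363441
theorem F457708 : act 5 n210479 = n192926 := d12_1 D210479 F388250 (iv5 F374485) (iv6 F375830) F375829
theorem F457709 : act 7 n210479 = n143291 := d14_2 (iv7 F363442) D210479 (iv6 D143291) (iv7 F334874) D102010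
theorem F457710 : act 0 n143572 = n210479 := d17_0 F457708 (iv1 F431061) (iv5 D203400) F186939 D118882 F322230 F221890 F348233 (iv4 F226268)
def n210480 : Q := act 0 n139109
theorem D210480 : act 0 n139109 = n210480 := rfl
theorem F457711 : act 5 n210480 = n140766 := d17_3 (iv1 D139108) D139109 D210480 F223856 D140771 (iv0 F334900) F162530 D179559 F363441
theorem F457712 : act 1 n201598 = n210480 := d15_0 (iv0 D210480) F363434 (iv2 F421092)
theorem F457713 : act 2 n201611 = n210480 := d2_3 F457711 F223855 (iv5 F421134)
theorem F457714 : act 6 n208672 = n210480 := d12_0 F457711 (iv6 D140766) D140765 F352552 D208672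
theorem F457715 : act 3 n210480 = n208674 := d7_1 F457714 (iv6 D208674) (iv3 F450408)
theorem F457716 : act 7 n201610 = n210480 := d15_2 (iv0 F457638) F457639 (iv2 F457713)
def n210481 : Q := act 1 n139109
theorem D210481 : act 1 n139109 = n210481 := rfl
theorem F457717 : act 1 n210481 = n201598 := d15_1 D210481 (iv7 F457637) F457635
theorem F457718 : act 7 n210481 = n201611 := d15_2 (iv0 D210480) D210481 F457713
theorem F457719 : act 4 n210481 = n203159 := d17_9 F428100 F428099 (iv1 D146405) D146406 (iv4 F375822) F375823 (iv0 D139107) D139109 D210481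
theorem F457720 : act 5 n193521 = n210481 := d21_6 D139093 (iv1 F454233) F454229 (iv6 F385514) F390675 (iv6 F390153) (iv1 D210481) (iv5 D139109) (iv6 D65292) D65288
theorem F457721 : act 3 n210481 = n193523 := d6_1 F457720 (iv5 D193523) D193521
theorem F457722 : act 2 n201610 = n210481 := d1_3 F457719 F427226 F427217
def n210482 : Q := act 6 n139155
theorem D210482 : act 6 n139155 = n210482 := rfl
theorem F457723 : act 3 n210482 = n139158 := d7_1 D210482 (iv6 D139158) (iv3 F222337)
theorem F457724 : act 4 n210482 = n188607 := d10_1 D210482 F450078 F450075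
theorem F457725 : act 0 n210482 = n152567 := d20_1 (iv4 F457724) (iv4 F387256) F387255 F251704 (iv3 F370921) F370971 (iv1 D187598) F139098 (iv3 F142596) D188607
def n210483 : Q := act 5 n139156
theorem D210483 : act 5 n139156 = n210483 := rfl
theorem F457726 : act 2 n210483 = n209817 := d2_1 D210483 F455054 F386792
theorem F457727 : act 3 n210483 = n139161 := d6_1 D210483 (iv5 D139161) (iv3 F222338)
theorem F457728 : act 7 n210483 = n203389 := d13_2 (iv7 F353000) D210483 (iv5 D203389)
theorem F457729 : act 0 n210483 = n209813 := d17_2 F365490 D210483 (iv5 D209813) (iv4 F385222) (iv5 F456224) (iv0 F456225) (iv5 F457337) (iv0 F457339) (iv4 F365489)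
theorem F457730 : act 1 n210483 = n209219 := d17_6 F157306 F135058 (iv1 F288510) (iv5 F352993) F352996 D210483 (iv5 D209219) F385270 F385268
def n210484 : Q := act 5 n139158
theorem D210484 : act 5 n139158 = n210484 := rfl
theorem F457731 : act 2 n210484 = n203385 := d2_1 D210484 F428113 F385318
theorem F457732 : act 6 n210484 = n139161 := d12_2 D139158 D210484 (iv5 D139161) (iv6 D65312) D65311
theorem F457733 : act 1 n210484 = n192768 := d17_6 (iv1 F454206) (iv5 D191936) (iv1 F177396) D191263 (iv4 F382805) D210484 (iv5 D192768) D192767 (iv4 F454204)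
theorem F457734 : act 6 n192770 = n192767 := d21_9 D192768 (iv1 F457733) (iv5 D210484) (iv6 D139158) (iv1 F222290) D210477 F457701 (iv1 F355763) F426121 (iv1 D192767)
def n210485 : Q := act 7 n139158
theorem D210485 : act 7 n139158 = n210485 := rfl
theorem F457735 : act 2 n210485 = n193074 := d4_1 D210485 F388668 F385318
theorem F457736 : act 1 n192044 = n210485 := d15_1 (iv0 F385334) (iv7 D210485) (iv2 F385318)
theorem F457737 : act 1 n210485 = n184572 := d15_1 F457736 F351176 (iv2 F385332)
def n210486 : Q := act 0 n139161
theorem D210486 : act 0 n139161 = n210486 := rfl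
theorem F457738 : act 5 n210486 = n149486 := d17_3 (iv1 D139160) D139161 D210486 (iv4 D149486) F106666 (iv0 D34825) D34826 D76245 (iv4 F314668)
theorem F457739 : act 4 n210486 = n206254 := d18_1 D210486 F439942 F428012 F186952 F114305 (iv0 F114260) (iv4 F314663) (iv0 D139159) D139161
theorem F457740 : act 2 n159399 = n210486 := d15_3 (iv0 D210486) (iv0 F366120) (iv7 F250994)
theorem F457741 : act 1 n203323 = n210486 := d15_0 (iv0 D210486) F366682 (iv2 F427875)
theorem F457742 : act 7 n210486 = n159406 := d15_2 (iv0 F427878) F457741 F251014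
theorem F457743 : act 6 n175492 = n210486 := d21_3 (iv5 D154241) (iv1 F310347) (iv5 F274748) (iv1 F457741) F427876 (iv5 D159337) D159334 (iv5 F362838) (iv6 D154510) (iv1 F338139)
theorem F457744 : act 3 n210486 = n175537 := d7_1 F457743 (iv6 D175537) (iv3 F274747)
def n210487 : Q := act 4 n139161
theorem D210487 : act 4 n139161 = n210487 := rfl
theorem F457745 : act 2 n210487 = n203368 := d1_1 D210487 F428064 (iv2 F366683)
theorem F457746 : act 7 n210487 = n203367 := d11_2 (iv7 F366682) D210487 F428059
theorem F457747 : act 5 n210487 = n203320 := d16_1 D210487 (iv4 D203320) (iv5 D118727) (iv4 D54663) D54664 D118728 D203323 F427877 (iv2 F366683)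
theorem F457748 : act 0 n210487 = n203316 := d18_2 F366120 D210487 F427839 F186953 F86528 (iv0 F86465) D118730 F186764 D127973
theorem F457749 : act 1 n210487 = n203330 := d18_6 (iv1 F237878) F114302 F312296 (iv4 F101040) D139161 D210487 (iv4 D203330) D203329 F427907
def n210488 : Q := act 3 n139203
theorem D210488 : act 3 n139203 = n210488 := rfl
theorem F457750 : act 2 n210488 = n140722 := d0_1 D210488 F223816 F322905 (iv3 F300303) (iv2 F308025)
theorem F457751 : act 4 n210488 = n172497 := d5_2 (iv4 F308026) D210488 (iv3 F342319) F264112 F123809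
theorem F457752 : act 5 n210488 = n140716 := d6_2 (iv5 F279697) D210488 F341119
theorem F457753 : act 6 n210488 = n150626 := d7_2 (iv6 F308027) D210488 (iv3 D150626)
theorem F457754 : act 7 n210488 = n206946 := d8_2 F334083 D210488 F442689
theorem F457755 : act 0 n170277 = n210488 := d21_4 (iv5 F309903) D157439 F316292 D170277 F457753 F354091 F354090 F344130 F344133 (iv1 D86460)
def n210489 : Q := act 6 n139218
theorem D210489 : act 6 n139218 = n210489 := rfl
theorem F457756 : act 3 n210489 = n139221 := d7_1 D210489 (iv6 D139221) D139218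
theorem F457757 : act 4 n210489 = n197317 := d10_1 D210489 F403945 (iv4 F224409)
theorem F457758 : act 0 n145583 = n210489 := d21_4 (iv5 F241292) F242144 (iv5 F241347) (iv6 F351587) (iv6 D210489) F333276 F339000 (iv5 F308517) (iv6 D153567) (iv1 F241291)
def n210490 : Q := act 6 n139219
theorem D210490 : act 6 n139219 = n210490 := rfl
theorem F457759 : act 2 n210490 = n143572 := d3_1 D210490 (iv6 D143572) (iv2 F338987)
theorem F457760 : act 4 n210490 = n139221 := d10_1 D210490 (iv6 D139221) D139219
theorem F457761 : act 0 n210490 = n202597 := d21_10 F424680 (iv1 F388246) (iv5 F408896) F408893 (iv1 F235108) F346612 F153368 (iv1 F153312) F339010 D210490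
theorem F457762 : act 0 n143291 = n210490 := d21_4 (iv5 F369084) (iv1 D187100) F334878 D143291 (iv6 D210490) (iv5 F339010) (iv1 D99572) D99573 F153315 D99585
def n210491 : Q := act 6 n139224
theorem D210491 : act 6 n139224 = n210491 := rfl
theorem F457763 : act 2 n210491 = n143552 := d3_1 D210491 (iv6 D143552) (iv2 F338983)
theorem F457764 : act 4 n210491 = n139226 := d10_1 D210491 (iv6 D139226) D139224
theorem F457765 : act 0 n210491 = n143115 := d21_4 (iv5 D99573) D99571 F339086 D210491 (iv6 D143115) (iv5 F334856) (iv1 F341182) (iv5 F448201) F448202 (iv1 D192052)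
theorem F457766 : act 0 n149331 = n210491 := d21_4 D160059 F252595 (iv5 D159411) (iv6 F309992) (iv6 D210491) (iv5 F339086) (iv1 F153319) (iv5 F153368) (iv6 F346612) F235107
def n210492 : Q := act 5 n139281
theorem D210492 : act 5 n139281 = n210492 := rfl
theorem F457767 : act 2 n210492 = n208230 := d2_1 D210492 (iv5 D208230) (iv2 F222471)
theorem F457768 : act 3 n210492 = n199218 := d6_1 D210492 (iv5 D199218) (iv3 F222472)
theorem F457769 : act 7 n210492 = n208226 := d13_2 (iv7 F222473) D210492 (iv5 D208226)
theorem F457770 : act 0 n210492 = n144502 := d18_0 (iv4 F377159) F419733 (iv4 F416223) (iv5 D200382) (iv4 F224203) (iv0 D141183) (iv4 F181718) (iv0 F222474) D210492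
def n210493 : Q := act 6 n139282
theorem D210493 : act 6 n139282 = n210493 := rfl
theorem F457771 : act 2 n210493 = n208233 := d3_1 D210493 (iv6 D208233) (iv2 F222475)
theorem F457772 : act 3 n210493 = n199224 := d7_1 D210493 (iv6 D199224) (iv3 F222476)
theorem F457773 : act 1 n210493 = n204491 := d15_0 (iv0 F432701) (iv7 F448502) (iv2 F457771)
def n210494 : Q := act 5 n139284
theorem D210494 : act 5 n139284 = n210494 := rfl
theorem F457774 : act 2 n210494 = n199199 := d2_1 D210494 (iv5 D199199) (iv2 F222480)
theorem F457775 : act 3 n210494 = n139285 := d6_1 D210494 (iv5 D139285) D139284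
theorem F457776 : act 6 n210494 = n190542 := d12_2 (iv6 F380080) D210494 (iv5 D190542) D190543 F380045
theorem F457777 : act 7 n210494 = n208229 := d13_2 (iv7 F222481) D210494 (iv5 D208229)
theorem F457778 : act 1 n210494 = n196286 := d17_8 (iv1 F350419) (iv5 D140357) (iv1 F164688) D196278 F400173 (iv5 F400187) (iv0 F400188) D210494 (iv4 D196286)
def n210495 : Q := act 0 n139291
theorem D210495 : act 0 n139291 = n210495 := rfl
theorem F457779 : act 5 n210495 = n194140 := d17_3 F424620 F355662 D210495 F392179 F158029 (iv0 F355652) (iv5 F259536) (iv0 F420615) (iv4 F424616)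
theorem F457780 : act 6 n210495 = n204526 := d21_5 F454208 (iv1 D153333) D153334 (iv6 F356088) D210495 (iv5 F445539) F445537 (iv5 F432847) F432848 (iv1 F454210)
theorem F457781 : act 1 n208235 = n210495 := d15_0 (iv0 D210495) F222492 (iv2 F448511)
theorem F457782 : act 2 n208236 = n210495 := d3_3 F457780 (iv2 F450809) F450811
theorem F457783 : act 7 n194139 = n210495 := d15_2 F448515 F396201 (iv2 F457782)
def n210496 : Q := act 1 n139291
theorem D210496 : act 1 n139291 = n210496 := rfl
theorem F457784 : act 1 n210496 = n208235 := d15_1 D210496 F448514 F396196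
theorem F457785 : act 7 n210496 = n208236 := d15_2 (iv0 D210495) D210496 F457782
theorem F457786 : act 5 n141460 = n210496 := d21_6 F87743 F90544 F90542 F76687 D90147 F346095 (iv1 D210496) (iv5 F355662) (iv6 D153331) (iv1 F108965)
theorem F457787 : act 2 n210496 = n194139 := d2_1 F457786 (iv5 D194139) (iv2 F346096)
theorem F457788 : act 3 n210496 = n141461 := d6_1 F457786 (iv5 D141461) D141460
theorem F457789 : act 6 n210496 = n193756 := d12_2 F346095 F457786 (iv5 D193756) F157103 (iv5 F290881)
def n210497 : Q := act 6 n139293
theorem D210497 : act 6 n139293 = n210497 := rfl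
theorem F457790 : act 2 n210497 = n192517 := d3_1 D210497 F411651 (iv2 F411649)
theorem F457791 : act 4 n210497 = n193516 := d10_1 D210497 (iv6 D193516) F357631
theorem F457792 : act 7 n210497 = n192875 := d14_2 (iv7 F411644) D210497 (iv6 F388077) F388018 (iv6 F411641)
theorem F457793 : act 0 n192837 = n210497 := d21_4 F74258 (iv1 F74207) D100785 D192837 (iv6 D210497) F357630 (iv1 D101678) D101680 (iv6 F357399) (iv1 F154886)
theorem F457794 : act 0 n210497 = n192877 := d20_1 (iv4 F457791) (iv4 F453176) F453175 D209314 (iv3 F453186) F378797 F392853 F392851 (iv3 F393898) F393901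
def n210498 : Q := act 3 n139296
theorem D210498 : act 3 n139296 = n210498 := rfl
theorem F457795 : act 4 n210498 = n197565 := d5_2 (iv4 F362240) D210498 F404854 F412329 (iv3 D199483)
theorem F457796 : act 5 n210498 = n209476 := d6_2 F432891 D210498 (iv3 F453844)
theorem F457797 : act 7 n210498 = n199806 := d8_2 (iv7 F362241) D210498 (iv3 D199806)
theorem F457798 : act 0 n210498 = n204392 := d19_4 F412339 (iv5 D199484) (iv4 F362240) D210498 (iv5 F432365) F385738 (iv3 F401720) (iv1 F443558) F443556 F420197 (iv3 F421587) (iv1 D155579) (iv5 F163733) (iv4 F398867) F398866 (iv1 D106693) (iv5 F107776) (iv4 F237970) F360003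
theorem F457799 : act 0 n210475 = n210498 := d20_4 (iv4 F385328) (iv1 F385330) (iv4 F357804) D210475 (iv3 D210498) F362240 (iv1 F172806) (iv4 F173439) F337454 (iv1 F314610)
theorem F457800 : act 6 n210498 = n192226 := d21_5 F407358 (iv1 F204118) (iv5 F345621) F457693 F457799 (iv5 F386089) (iv1 F373386) (iv5 F407362) (iv6 D198254) D198253
def n210499 : Q := act 6 n139296
theorem D210499 : act 6 n139296 = n210499 := rfl
theorem F457801 : act 2 n210499 = n199800 := d3_1 D210499 (iv6 D199800) F362239
theorem F457802 : act 3 n210499 = n192226 := d7_1 D210499 (iv6 F457800) (iv3 D210498)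
theorem F457803 : act 4 n210499 = n199485 := d10_1 D210499 (iv6 D199485) (iv4 F362240)
theorem F457804 : act 7 n210499 = n199767 := d14_2 (iv7 F362241) D210499 (iv6 D199767) (iv7 F407456) F407459
theorem F457805 : act 0 n210499 = n192219 := d21_4 D124007 D204567 F432891 D210499 (iv6 D192219) F345055 (iv1 F357135) (iv5 F373195) F373198 (iv1 D124006)
theorem F457806 : act 0 n208427 = n210499 := d21_4 (iv5 F343844) (iv1 F173154) (iv5 F216315) D208427 (iv6 D210499) (iv5 F432891) (iv1 F448999) F448995 F431539 (iv1 F343842)
def n210500 : Q := act 4 n139301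
theorem D210500 : act 4 n139301 = n210500 := rfl
theorem F457807 : act 5 n210500 = n202182 := d9_2 D139301 D210500 F423145 (iv5 F406631) F406628 (iv5 D110920) F170585 (iv5 F342821) (iv4 F433712) F433713 F422581 (iv5 F410598) (iv4 D199085) (iv5 D110917) F168334
theorem F457808 : act 0 n210500 = n193880 := d18_2 (iv1 F433716) D210500 F391288 F343872 (iv4 F406036) (iv0 F406037) (iv4 F222590) (iv0 F226509) (iv5 F433715)
def n210501 : Q := act 0 n139308
theorem D210501 : act 0 n139308 = n210501 := rfl
theorem F457809 : act 4 n210501 = n141172 := d18_3 (iv1 D139307) D139308 D210501 F224194 (iv4 D139312) (iv0 F101107) (iv4 F222565) (iv0 F406630) F406631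
theorem F457810 : act 3 n210501 = n202005 := d20_5 D115699 (iv1 F415272) (iv4 F422832) F422831 D210501 F423794 (iv1 D202369) F180032 F84180 D53352
theorem F457811 : act 5 n210501 = n202754 := d21_8 (iv5 F351461) F351462 (iv5 F351086) (iv6 F431726) F431728 F422826 F411937 D210501 (iv6 F431758) F431760
theorem F457812 : act 1 n199389 = n210501 := d15_0 (iv0 D210501) (iv7 F411734) (iv2 F411936)
theorem F457813 : act 0 n199383 = n203395 := d20_4 (iv4 F457809) (iv1 F457812) (iv4 D199389) (iv3 F411914) F428135 F186939 F314633 F353365 F224193 D141172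
theorem F457814 : act 2 n209669 = n210501 := d2_3 F457811 (iv2 F433615) (iv5 F454574)
theorem F457815 : act 7 n210012 = n210501 := d13_0 F457811 F425434 (iv5 F455744)
theorem F457816 : act 6 n210501 = n202003 := d3_2 D209669 F457814 (iv2 F422687)
def n210502 : Q := act 1 n139308
theorem D210502 : act 1 n139308 = n210502 := rfl
theorem F457817 : act 1 n210502 = n199389 := d15_1 D210502 (iv7 F424332) F424330
theorem F457818 : act 7 n210502 = n209669 := d15_2 (iv0 D210501) D210502 F457814
theorem F457819 : act 4 n210502 = n141173 := d18_7 (iv1 F111890) (iv4 D53839) F168208 (iv4 F49115) D65381 D139308 D210502 (iv0 F338268) F338271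
theorem F457820 : act 2 n210012 = n210502 := d1_3 F457819 F360375 D210012
theorem F457821 : act 6 n209849 = n210502 := d10_0 F457819 (iv6 F343873) D209849
def n210503 : Q := act 4 n139310
theorem D210503 : act 4 n139310 = n210503 := rfl
theorem F457822 : act 2 n210503 = n143878 := d1_1 D210503 (iv4 D143878) (iv2 F222501)
theorem F457823 : act 5 n210503 = n210502 := d9_2 D139310 D210503 F457819 F224195 (iv4 D116835) (iv5 D53840) D53839 D116834 D202754 (iv5 F457811) F457809 F224194 (iv4 D139312) (iv5 D65385) D65384
theorem F457824 : act 7 n210503 = n204796 := d11_2 F332951 D210503 F433616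
def n210504 : Q := act 6 n139310
theorem D210504 : act 6 n139310 = n210504 := rfl
theorem F457825 : act 2 n210504 = n143879 := d3_1 D210504 (iv6 D143879) (iv2 F222501)
theorem F457826 : act 5 n210504 = n204025 := d12_1 D210504 F430850 (iv5 F222669) (iv6 D139311) D139310
theorem F457827 : act 7 n210504 = n161959 := d14_2 F332951 D210504 (iv6 D161959) F117151 D124374
theorem F457828 : act 0 n204792 = n210504 := d21_4 (iv5 D143434) (iv1 F355547) (iv5 F391265) (iv6 F433600) (iv6 D210504) (iv5 D139310) F168212 (iv5 F338271) (iv6 F426665) F426667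
theorem F457829 : act 1 n204793 = n210504 := d15_1 D204793 F457827 F255955
def n210505 : Q := act 1 n139314
theorem D210505 : act 1 n139314 = n210505 := rfl
theorem F457830 : act 1 n210505 = n141725 := d15_1 D210505 (iv7 F423345) F423344
theorem F457831 : act 4 n210505 = n202006 := d18_7 (iv1 F165190) F84118 (iv1 F78279) D107185 (iv5 F330566) (iv4 F222795) D210505 (iv0 F422693) (iv5 F330597)
theorem F457832 : act 5 n210505 = n192709 := d18_9 (iv1 F444554) F444552 (iv1 F218229) F354328 (iv5 D110848) (iv4 F101265) D139629 (iv4 F222795) D210505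
theorem F457833 : act 3 n139495 = n210505 := d20_3 F84339 D67529 (iv4 F222679) (iv1 D210505) (iv3 D139314) D139315 F388227 F388224 (iv3 F357516) (iv1 D115926)
theorem F457834 : act 2 n210505 = n139438 := d0_1 F457833 (iv3 D139438) (iv2 F360380) D202527 (iv2 F424384)
theorem F457835 : act 6 n210505 = n188081 := d7_2 F368783 F457833 F372266
def n210506 : Q := act 5 n139314
theorem D210506 : act 5 n139314 = n210506 := rfl
theorem F457836 : act 2 n210506 = n152542 := d2_1 D210506 (iv5 F423346) F423344
theorem F457837 : act 3 n210506 = n139316 := d6_1 D210506 (iv5 D139316) D139314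
theorem F457838 : act 4 n210506 = n141728 := d16_2 (iv4 F222795) D210506 (iv5 D141728) (iv4 D66460) (iv5 D31024) D31023 D66459 (iv7 F179789) F330567
theorem F457839 : act 0 n210506 = n207371 := d17_2 (iv1 D210505) D210506 F444556 (iv4 F330550) (iv5 D107183) D107182 D196661 F422694 (iv4 F457831)
theorem F457840 : act 1 n210506 = n207258 := d17_6 (iv1 F179517) F330521 (iv1 F165204) (iv5 F330566) (iv4 F222795) D210506 F444016 F423316 (iv4 D115540)
theorem F457841 : act 6 n210506 = n152284 := d21_3 (iv5 F457832) (iv1 D210505) D210506 F239369 (iv6 F418400) (iv5 F442944) (iv1 D207006) D207007 F442946 F442948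
def n210507 : Q := act 6 n139314
theorem D210507 : act 6 n139314 = n210507 := rfl
theorem F457842 : act 3 n210507 = n139317 := d7_1 D210507 (iv6 D139317) D139314
def n210508 : Q := act 3 n139315
theorem D210508 : act 3 n139315 = n210508 := rfl
theorem F457843 : act 2 n210508 = n178102 := d0_1 D210508 (iv3 F400474) F405997 F388310 F406004
theorem F457844 : act 7 n210508 = n198041 := d8_2 F406008 D210508 (iv3 F406573)
theorem F457845 : act 0 n210508 = n140457 := d19_4 (iv1 F357510) (iv5 D139316) D139315 D210508 F404984 F404981 D208624 (iv1 F450218) (iv5 F426146) F426145 (iv3 F408265) (iv1 F408269) F169515 (iv4 F81199) (iv3 D51426) (iv1 D24999) D25001 (iv4 F80652) (iv3 F171786)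
theorem F457846 : act 0 n140724 = n210508 := d20_4 (iv4 F84229) (iv1 F180187) (iv4 F101715) D140724 (iv3 D210508) (iv4 D139315) (iv1 F172960) F172958 F101547 F84230
theorem F457847 : act 5 n210508 = n198764 := d17_1 F457846 (iv1 F449611) F449609 F401318 F401321 F391317 (iv5 F400907) F400909 (iv4 F223818)
theorem F457848 : act 6 n177787 = n210508 := d12_0 F457847 (iv6 D198764) (iv5 F173874) F325161 D177787
theorem E103970 : n204692 = n202726 := (c21_5 (iv5 D124220) (iv1 D57917) D57919 D124228 D204692 (iv6 D202726) D202725 F429473 (iv5 F457847) (iv6 F457848) (iv1 F303664))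
theorem F457849 : act 1 n202726 = n124228 := (sb E103970 (iv0 D204692))
def n210509 : Q := act 5 n139315
theorem D210509 : act 5 n139315 = n210509 := rfl
theorem F457850 : act 3 n210509 = n198764 := d6_1 D210509 (iv5 F457847) (iv3 D210508)
theorem F457851 : act 0 n210509 = n201434 := d17_2 F375063 D210509 (iv5 F440555) F440554 D210494 F457778 F400214 F357568 (iv4 F375060)
theorem F457852 : act 4 n210509 = n208229 := d17_4 D193098 (iv5 F388733) F375063 D210509 (iv5 D208229) (iv0 F390054) (iv5 F364783) (iv0 D101182) (iv4 F155885)
theorem F457853 : act 1 n210509 = n196347 := d17_6 (iv1 D110880) D110882 (iv1 F357510) (iv5 D139316) D139315 D210509 (iv5 D196347) F400414 F400279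
theorem F457854 : act 6 n210509 = n192701 := d21_3 (iv5 F388733) F375063 D210509 (iv1 D192701) (iv6 D100535) (iv5 F291456) F139667 F292309 D101181 D193098
def n210510 : Q := act 6 n139315
theorem D210510 : act 6 n139315 = n210510 := rfl
theorem F457855 : act 3 n210510 = n177787 := d7_1 D210510 F457848 (iv3 D210508)
theorem F457856 : act 4 n210510 = n139317 := d10_1 D210510 (iv6 D139317) D139315
theorem F457857 : act 5 n210510 = n177786 := d12_1 D210510 F406473 F406471 (iv6 F457854) (iv5 D210509)
theorem F457858 : act 7 n178117 = n210510 := d13_0 F457857 F277275 D178117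
def n210511 : Q := act 4 n139316
theorem D210511 : act 4 n139316 = n210511 := rfl
theorem F457859 : act 2 n210511 = n201434 := d1_1 D210511 F420499 (iv2 F406011)
theorem F457860 : act 3 n210511 = n140439 := d5_1 D210511 (iv4 F418542) F418540 (iv4 F457838) F457837
theorem F457861 : act 7 n210511 = n196347 := d11_2 (iv7 F406009) D210511 F400428
theorem F457862 : act 5 n210511 = n196334 := d16_5 (iv4 F457852) (iv5 D210509) (iv4 D139315) D139316 D210511 F400364 D199199 F411131 (iv2 F448479)
def n210512 : Q := act 6 n139316
theorem D210512 : act 6 n139316 = n210512 := rfl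
theorem F457863 : act 3 n210512 = n152284 := d7_1 D210512 (iv6 F457841) F457837
theorem F457864 : act 5 n210512 = n209783 := d12_1 D210512 F454942 (iv5 F386222) (iv6 D139317) D139316
theorem F457865 : act 0 n210512 = n192724 := d21_10 F387618 (iv1 D192737) (iv5 D100570) (iv6 D46915) (iv1 F293166) F329789 (iv5 D65394) D65391 D139316 D210512
theorem F457866 : act 0 n192643 = n210512 := d21_4 (iv5 D98955) (iv1 F310440) (iv5 F312631) D192643 (iv6 D210512) (iv5 D139316) (iv1 F172960) F350400 (iv6 D100516) F152497
theorem F457867 : act 7 n152534 = n210512 := d8_0 F457863 F239368 D152534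
def n210513 : Q := act 0 n139317
theorem D210513 : act 0 n139317 = n210513 := rfl
theorem F457868 : act 6 n210513 = n191920 := d21_5 D110882 (iv1 F357510) (iv5 D139316) D139317 D210513 (iv5 F391224) (iv1 F455371) F455370 (iv6 D199037) (iv1 D110880)
theorem F457869 : act 2 n139388 = n210513 := d15_3 (iv0 D210513) (iv0 F406611) F406610
theorem F457870 : act 3 n210513 = n139491 := d0_2 D139388 F457869 (iv2 F349410) F227158 F168880
theorem F457871 : act 0 n210513 = n192823 := d19_4 (iv1 F359175) (iv5 D139958) (iv4 F349411) (iv3 F457870) (iv5 D192823) (iv4 D100743) (iv3 F153774) F336647 (iv5 F137187) F137186 (iv3 D41811) D41810 (iv5 F73655) (iv4 F74600) D102023 (iv1 F348026) (iv5 D177164) (iv4 D84420) D84419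
def n210514 : Q := act 7 n139317
theorem D210514 : act 7 n139317 = n210514 := rfl
theorem F457872 : act 2 n210514 = n192823 := d4_1 D210514 F412761 F412759
theorem F457873 : act 4 n210514 = n178117 := d11_1 D210514 F457858 F457856
theorem F457874 : act 5 n210514 = n191987 := d13_1 D210514 (iv7 F386221) (iv5 F386222)
theorem F457875 : act 0 n139388 = n210514 := d21_10 F457874 (iv1 F387906) F386226 F375499 (iv1 F172482) D199348 F411801 F408672 (iv5 D192468) (iv6 F390044)
theorem F457876 : act 6 n199345 = n210514 := d21_5 (iv5 F391998) F391999 (iv5 D111210) D111211 D199345 F457874 (iv1 F387906) F386226 F375499 (iv1 F172482)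
theorem F457877 : act 7 n199580 = n199345 := d14_0 F457876 (iv7 D210514) (iv6 D139317) (iv7 F406007) D199580
theorem F457878 : act 1 n139388 = n199582 := d15_1 (iv0 F457875) (iv7 F412761) (iv2 F457872)
def n210515 : Q := act 2 n139319
theorem D210515 : act 2 n139319 = n210515 := rfl
theorem F457879 : act 3 n210515 = n141725 := d0_2 D139319 D210515 F412752 (iv3 D199579) F406006
theorem F457880 : act 4 n210515 = n201967 := d16_0 (iv5 F434694) F434695 (iv5 D201425) (iv4 D114489) D114490 D201428 (iv5 F420476) F412757 D210515
theorem F457881 : act 5 n201495 = n210515 := d16_1 D201495 F457880 (iv5 F434694) F434695 (iv5 D201425) (iv4 D114489) D114490 (iv7 F248582) (iv2 F366604)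
theorem F457882 : act 1 n139460 = n210515 := d17_8 (iv1 F422553) F349985 D141636 (iv5 F448564) F448565 F410418 (iv0 F387682) F362383 F457880
def n210516 : Q := act 4 n139319
theorem D210516 : act 4 n139319 = n210516 := rfl
theorem F457883 : act 2 n210516 = n201967 := d1_1 D210516 (iv4 F457880) (iv2 D210515)
theorem F457884 : act 0 n210516 = n144421 := d17_0 F349981 (iv1 F349966) F397112 (iv4 F423488) (iv5 F454045) (iv0 F454044) F373276 (iv0 F396784) D210516
theorem F457885 : act 1 n210516 = n198071 := d18_8 (iv1 F349997) F162229 F323650 (iv4 F242910) (iv5 F340719) F364961 (iv0 F396784) D210516 F406654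
theorem F457886 : act 5 n207844 = n210516 := d19_1 D207844 (iv4 D210516) (iv3 D139319) (iv1 D65392) D65394 D139327 F222514 F451095 F451090 F424052 (iv3 F400887) (iv1 F365675) (iv5 D134196) F98778 F96654 F47054 D29415 D62134 D132432
def n210517 : Q := act 5 n139319
theorem D210517 : act 5 n139319 = n210517 := rfl
theorem F457887 : act 2 n210517 = n201495 := d2_1 D210517 F457881 (iv2 D210515)
theorem F457888 : act 3 n210517 = n139321 := d6_1 D210517 (iv5 D139321) D139319
theorem F457889 : act 7 n210517 = n201428 := d13_2 F412757 D210517 (iv5 F420476)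
theorem F457890 : act 4 n210517 = n157726 := d16_4 (iv4 F446679) F457886 (iv4 D210516) D210517 (iv5 D157726) F315234 D148003 (iv7 F420466) (iv2 F434408)
theorem F457891 : act 1 n210517 = n199045 := d17_6 (iv1 F353532) (iv5 F353531) D207844 F457886 (iv4 D210516) D210517 (iv5 D199045) D199043 F420718
def n210518 : Q := act 6 n139319
theorem D210518 : act 6 n139319 = n210518 := rfl
theorem F457892 : act 3 n210518 = n139322 := d7_1 D210518 (iv6 D139322) D139319
def n210519 : Q := act 5 n139320
theorem D210519 : act 5 n139320 = n210519 := rfl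
theorem F457893 : act 3 n210519 = n196307 := d6_1 D210519 F406022 F396888
theorem F457894 : act 4 n210519 = n199199 := d16_2 D139320 D210519 (iv5 D199199) (iv4 F400364) (iv5 F457862) (iv4 D210511) (iv5 D139316) (iv7 F406007) F406006
theorem F457895 : act 1 n210519 = n201434 := d17_6 (iv1 F171779) D141133 F224850 (iv5 D139321) D139320 D210519 (iv5 F440555) (iv0 F440559) F400409
theorem F457896 : act 0 n210519 = n196347 := d18_0 F400428 (iv1 F387575) F387571 (iv5 D140362) D140361 F357568 (iv4 F375060) (iv0 F375061) D210519
theorem F457897 : act 6 n180806 = n210519 := d21_9 (iv5 D196347) D196344 (iv5 F400411) (iv6 D187960) F294244 D101171 (iv5 F354677) (iv1 F254414) D180806 F457896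
def n210520 : Q := act 6 n139320
theorem D210520 : act 6 n139320 = n210520 := rfl
theorem F457898 : act 2 n210520 = n198039 := d3_1 D210520 F406574 (iv2 F406005)
theorem F457899 : act 4 n210520 = n139322 := d10_1 D210520 (iv6 D139322) D139320
theorem F457900 : act 5 n210520 = n180807 := d12_1 D210520 (iv6 D180807) D180806 F457897 (iv5 D210519)
def n210521 : Q := act 4 n139321
theorem D210521 : act 4 n139321 = n210521 := rfl
theorem F457901 : act 2 n210521 = n196347 := d1_1 D210521 F400428 F406010
theorem F457902 : act 3 n210521 = n157728 := d5_1 D210521 (iv4 D157728) (iv3 F248581) (iv4 F457890) F457888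
theorem F457903 : act 5 n210521 = n196345 := d9_2 D139321 D210521 F400418 D208229 (iv4 F457852) (iv5 D210509) (iv4 D139315) D139316 D210511 F457862 F400364 D199199 (iv4 F457894) (iv5 D210519) (iv4 D139320)
theorem F457904 : act 7 n210521 = n201434 := d11_2 F406012 D210521 F420499
def n210522 : Q := act 6 n139321
theorem D210522 : act 6 n139321 = n210522 := rfl
theorem F457905 : act 2 n210522 = n188078 := d3_1 D210522 F372263 F406010
theorem F457906 : act 0 n187158 = n210522 := d21_4 (iv5 F35083) (iv1 F70501) D89615 (iv6 F369258) (iv6 D210522) (iv5 D139321) (iv1 D65392) D65394 (iv6 F329789) F293165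
theorem F457907 : act 7 n188079 = n210522 := d15_2 (iv0 D188078) D188079 F457905
def n210523 : Q := act 1 n139322
theorem D210523 : act 1 n139322 = n210523 := rfl
theorem F457908 : act 1 n210523 = n199345 := d15_1 D210523 (iv7 F457877) F412753
theorem F457909 : act 7 n210523 = n199343 := d15_2 (iv0 F411792) D210523 F411784
theorem F457910 : act 4 n210523 = n204310 := d18_7 (iv1 F434761) F280524 F328763 (iv4 F281456) (iv5 F457900) F457899 D210523 F431994 (iv5 F434758)
theorem F457911 : act 6 n191925 = n210523 := d21_3 F154038 D191829 F384855 (iv1 D210523) (iv6 D139322) D139321 (iv1 F224848) (iv5 D110882) D110883 F350402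
theorem F457912 : act 2 n210523 = n139430 := d3_1 F457911 F384862 (iv2 F384859)
theorem F457913 : act 3 n210523 = n139503 := d7_1 F457911 F341112 F384858
theorem F457914 : act 5 n210523 = n192442 := d21_6 F291165 F68041 (iv5 F291851) D99321 D191925 F457911 (iv1 D192442) (iv5 D100183) (iv6 D46755) (iv1 F73861)
def n210524 : Q := act 5 n139322
theorem D210524 : act 5 n139322 = n210524 := rfl
theorem F457915 : act 0 n210524 = n191449 := d17_2 (iv1 D210523) D210524 F383500 (iv4 F434767) (iv5 D205045) F358719 (iv5 F400164) (iv0 F431993) (iv4 F457910)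
def n210525 : Q := act 7 n139322
theorem D210525 : act 7 n139322 = n210525 := rfl
theorem F457916 : act 2 n210525 = n199345 := d4_1 D210525 (iv7 F457877) F412753
theorem F457917 : act 6 n210525 = n192823 := d14_1 D210525 F412761 (iv6 D199582) F406003 D139322
theorem F457918 : act 1 n139430 = n210525 := d15_1 (iv0 F412756) (iv7 D210525) (iv2 F412753)
theorem F457919 : act 1 n210525 = n199343 := d15_1 F457918 (iv7 F457909) F457912
def n210526 : Q := act 6 n139325
theorem D210526 : act 6 n139325 = n210526 := rfl
theorem F457920 : act 2 n210526 = n192759 := d3_1 D210526 (iv6 D192759) F361314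
theorem F457921 : act 4 n210526 = n188856 := d10_1 D210526 (iv6 F388732) F388737
theorem F457922 : act 5 n210526 = n193658 := d21_6 (iv5 D22525) (iv1 F293341) D42552 F329789 D139325 D210526 F390589 F367376 (iv6 D90830) (iv1 F293356)
theorem F457923 : act 0 n210526 = n192736 := d21_10 (iv5 F391920) (iv1 D194063) D194064 F391923 (iv1 F387347) (iv6 D141137) (iv5 D66200) D66197 (iv5 F361316) D210526
theorem F457924 : act 0 n210522 = n188080 := d21_4 (iv5 F350400) (iv1 F172962) D139321 D210522 (iv6 F452641) F452640 (iv1 F390590) (iv5 F457922) (iv6 D210526) (iv1 F350410)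
def n210527 : Q := act 3 n139326
theorem D210527 : act 3 n139326 = n210527 := rfl
theorem F457925 : act 2 n210527 = n201496 := d0_1 D210527 F420713 F218232 (iv3 F350406) (iv2 F361315)
theorem F457926 : act 4 n210527 = n157732 := d5_2 F388744 D210527 (iv3 D157732) (iv4 F205560) F388745
theorem F457927 : act 5 n210527 = n141129 := d6_2 (iv5 F350414) D210527 (iv3 D141129)
theorem F457928 : act 7 n210527 = n192757 := d8_2 (iv7 F361313) D210527 (iv3 D192757)
theorem F457929 : act 0 n210527 = n188394 := d20_4 (iv4 F404893) F404895 F388744 D210527 F373274 (iv4 F352254) F204656 D109194 (iv3 F364781) (iv1 F372465)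
theorem F457930 : act 0 n203460 = n210527 := d20_4 F219495 D206869 F442459 (iv3 F428408) (iv3 D210527) (iv4 F388744) (iv1 D193099) F155885 (iv3 F155778) F344197
theorem F457931 : act 6 n210527 = n203644 := d21_5 (iv5 D192631) F307752 (iv5 F187535) D203460 F457930 (iv5 D203644) F354080 (iv5 F403335) (iv6 D197161) (iv1 F387280)
def n210528 : Q := act 6 n139326
theorem D210528 : act 6 n139326 = n210528 := rfl
theorem F457932 : act 2 n210528 = n192761 := d3_1 D210528 (iv6 D192761) (iv2 F361315)
theorem F457933 : act 3 n210528 = n203644 := d7_1 D210528 (iv6 F457931) (iv3 D210527)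
theorem F457934 : act 4 n210528 = n196747 := d10_1 D210528 F401673 F388744
theorem F457935 : act 5 n210528 = n190066 := d12_1 D210528 (iv6 F378763) F374450 F350416 (iv5 F350414)
theorem F457936 : act 0 n192743 = n210528 := d21_4 F384946 (iv1 F383863) (iv5 F354689) D192743 (iv6 D210528) F350414 (iv1 D66198) D66200 D141137 F384947
def n210529 : Q := act 6 n139334
theorem D210529 : act 6 n139334 = n210529 := rfl
theorem F457937 : act 2 n210529 = n139549 := d3_1 D210529 (iv6 D139549) (iv2 F329838)
theorem F457938 : act 4 n210529 = n210436 := d10_1 D210529 F457527 (iv4 F345078)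
theorem F457939 : act 5 n210529 = n177954 := d12_1 D210529 (iv6 F290057) (iv5 F335643) F345083 F345079
theorem F457940 : act 0 n210529 = n192731 := d21_4 (iv5 D188076) F345087 F345079 D210529 F387613 (iv5 F360066) F375634 (iv5 F384898) (iv6 D191935) (iv1 F372256)
def n210530 : Q := act 4 n139365
theorem D210530 : act 4 n139365 = n210530 := rfl
theorem F457941 : act 2 n210530 = n139369 := d1_1 D210530 (iv4 D139369) (iv2 F222584)
theorem F457942 : act 5 n210530 = n194137 := d16_1 D210530 F392170 F340910 (iv4 D144149) (iv5 D67532) (iv4 F84339) D115928 F180500 (iv2 F222584)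
theorem F457943 : act 0 n210530 = n191780 := d17_0 (iv5 F424617) F424620 F355662 (iv4 D139291) (iv5 D65376) D65374 D139285 (iv0 F386892) D210530
def n210531 : Q := act 6 n139365
theorem D210531 : act 6 n139365 = n210531 := rfl
theorem F457944 : act 2 n210531 = n139370 := d3_1 D210531 (iv6 D139370) (iv2 F222584)
theorem F457945 : act 3 n210531 = n192794 := d7_1 D210531 (iv6 F406677) F406674
def n210532 : Q := act 0 n139366
theorem D210532 : act 0 n139366 = n210532 := rfl
theorem F457946 : act 6 n210532 = n192879 := d21_5 D139282 (iv1 F386893) (iv5 D139365) D139366 D210532 F388090 F385581 F357402 (iv6 D65377) D65373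
theorem F457947 : act 2 n139371 = n210532 := d3_3 F457946 F389838 (iv6 F393169)
theorem F457948 : act 3 n192928 = n210532 := d7_3 F457946 (iv3 F388092) D192928
theorem F457949 : act 0 n210532 = n139374 := d21_10 F391024 (iv1 F391017) (iv5 F352988) (iv6 D111172) D111167 D199298 (iv5 F411545) (iv1 F385582) (iv5 F388090) (iv6 F457946)
theorem F457950 : act 7 n139372 = n210532 := d15_2 (iv0 D139371) D139372 (iv2 F457947)
theorem F457951 : act 3 n193763 = n139372 := d8_3 F457950 (iv3 F457948) (iv7 F390937)
theorem F457952 : act 5 n139372 = n193555 := d6_2 D193763 F457951 F390262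
theorem F457953 : act 6 n139372 = n210322 := d7_2 F390938 F457951 (iv3 F457016)
def n210533 : Q := act 1 n139366
theorem D210533 : act 1 n139366 = n210533 := rfl
theorem F457954 : act 1 n210533 = n139374 := d15_1 D210533 (iv7 D139374) (iv2 F222585)
theorem F457955 : act 7 n210533 = n139371 := d15_2 (iv0 D210532) D210533 F457947
theorem F457956 : act 2 n139372 = n210533 := d4_3 F457955 F457947 (iv7 F457950)
def n210534 : Q := act 7 n139366
theorem D210534 : act 7 n139366 = n210534 := rfl
theorem F457957 : act 2 n210534 = n139374 := d4_1 D210534 (iv7 D139374) (iv2 F222585)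
theorem F457958 : act 1 n139372 = n210534 := d15_1 D139372 (iv7 D210534) F222585
theorem F457959 : act 1 n210534 = n139371 := d15_1 F457958 (iv7 F457955) (iv2 F457956)
def n210535 : Q := act 1 n139369
theorem D210535 : act 1 n139369 = n210535 := rfl
theorem F457960 : act 7 n210535 = n191780 := d15_2 (iv0 F396200) D210535 F384416
theorem F457961 : act 5 n210535 = n140034 := d18_9 (iv1 F448527) F448525 (iv1 D144970) (iv4 F105680) (iv5 F230337) (iv4 F230338) F393165 D139369 D210535
theorem F457962 : act 3 n140035 = n210535 := d20_3 D141484 F361421 F361419 (iv1 D210535) (iv3 F412523) (iv4 D199525) F223799 D200048 F414768 F223264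
def n210536 : Q := act 5 n139369
theorem D210536 : act 5 n139369 = n210536 := rfl
theorem F457963 : act 2 n210536 = n194137 := d2_1 D210536 (iv5 F457942) F457941
theorem F457964 : act 3 n210536 = n146897 := d6_1 D210536 (iv5 F412524) F412523
theorem F457965 : act 7 n210536 = n194138 := d13_2 F424345 D210536 F424346
theorem F457966 : act 1 n210536 = n141460 := d17_6 (iv1 F222491) F357488 (iv1 D65411) D65413 D139369 D210536 F457786 F457784 (iv4 D208235)
theorem F457967 : act 4 n210536 = n145918 := d18_5 F448496 (iv4 D208232) F393166 D139369 D210536 (iv0 F322602) (iv4 F370342) F370345 F373186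
theorem F457968 : act 6 n210536 = n195674 := d21_3 (iv5 F457961) (iv1 D210535) D210536 F397810 (iv6 D153345) F108981 F90059 F90057 D105384 F365028
theorem F457969 : act 1 n194140 = n210536 := d17_8 (iv1 D145918) D145920 (iv1 F355666) F176087 (iv4 F396204) (iv5 F448513) F457781 F457779 F457967
def n210537 : Q := act 6 n139369
theorem D210537 : act 6 n139369 = n210537 := rfl
theorem F457970 : act 4 n210537 = n139370 := d10_1 D210537 (iv6 D139370) D139369
def n210538 : Q := act 0 n139370
theorem D210538 : act 0 n139370 = n210538 := rfl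
def n210539 : Q := act 5 n139370
theorem D210539 : act 5 n139370 = n210539 := rfl
theorem F457971 : act 3 n210539 = n139377 := d6_1 D210539 (iv5 D139377) (iv3 F222586)
theorem F457972 : act 6 n210539 = n139373 := d12_2 D139370 D210539 (iv5 D139373) (iv6 D65414) D65413
theorem E103971 : n210538 = n193788 := (c21_8 F347714 (iv1 F368473) F368471 (iv6 F368554) (iv1 F393908) (iv6 F457972) (iv5 D210539) D210538 (iv5 D193788) (iv6 D102330) (iv1 F157132))
theorem F457973 : act 1 n193788 = n139370 := (sb E103971 (iv0 D210538))
def n210540 : Q := act 4 n139372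
theorem D210540 : act 4 n139372 = n210540 := rfl
def n210541 : Q := act 4 n139373
theorem D210541 : act 4 n139373 = n210541 := rfl
theorem F457974 : act 2 n210541 = n187091 := d1_1 D210541 (iv4 F391019) F391021
theorem F457975 : act 7 n210541 = n187092 := d11_2 F391022 D210541 (iv4 F391016)
theorem F457976 : act 5 n210541 = n190138 := d18_4 (iv1 D186932) D186933 (iv1 F393908) D210541 (iv4 D190138) (iv0 F366341) F149703 F361981 F368549
theorem F457977 : act 1 n210541 = n186591 := d18_8 D186589 (iv4 F368517) F368518 (iv4 F362115) F289487 (iv4 F387899) (iv0 F393907) D210541 (iv5 D186591)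
theorem F457978 : act 1 n187094 = n210541 := d15_0 F457977 (iv7 F391079) (iv2 F391080)
theorem F457979 : act 6 n210541 = n187483 := d21_5 F291162 (iv1 D88880) D88881 (iv6 F367349) (iv1 F457977) (iv5 D187483) (iv1 D90238) (iv5 F138619) (iv6 D90176) D90173
theorem F457980 : act 4 n187483 = n210539 := d10_1 F457979 F457972 D210541
theorem F457981 : act 3 n202909 = n210541 := d6_3 F457976 F378955 D202909
def n210542 : Q := act 0 n139377
theorem D210542 : act 0 n139377 = n210542 := rfl
theorem F457982 : act 5 n210542 = n199767 := d17_3 F363014 D139377 D210542 F413409 D199770 (iv0 F413420) F406602 D199722 (iv4 F413247)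
def n210543 : Q := act 4 n139377
theorem D210543 : act 4 n139377 = n210543 := rfl
theorem F457983 : act 6 n210543 = n139386 := d10_2 (iv6 F222589) D210543 (iv4 D139386)
def n210544 : Q := act 4 n139380
theorem D210544 : act 4 n139380 = n210544 := rfl
theorem F457984 : act 0 n210544 = n210402 := d18_2 F411487 D210544 (iv4 D210402) (iv5 D138635) F172379 (iv0 D110819) (iv4 F80880) (iv0 F172395) D199287
theorem F457985 : act 1 n210544 = n210407 := d18_6 F168886 F84353 D65914 (iv4 F168899) D139380 D210544 (iv4 D210407) (iv0 F406618) (iv5 D198058)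
def n210545 : Q := act 6 n139380
theorem D210545 : act 6 n139380 = n210545 := rfl
theorem F457986 : act 7 n210545 = n208865 := d14_2 (iv7 F349419) D210545 (iv6 D208865) F217391 F349418
theorem F457987 : act 0 n210545 = n204459 := d21_4 (iv5 D65418) D65416 D139380 D210545 (iv6 D204459) (iv5 F253206) (iv1 F363297) D199356 F411829 F172520
def n210546 : Q := act 1 n139382
theorem D210546 : act 1 n139382 = n210546 := rfl
theorem F457988 : act 7 n210546 = n199015 := d15_2 (iv0 F424592) D210546 (iv2 F424587)
def n210547 : Q := act 4 n139383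
theorem D210547 : act 4 n139383 = n210547 := rfl
theorem F457989 : act 6 n210547 = n208867 := d10_2 (iv6 F349422) D210547 (iv4 D208867)
theorem F457990 : act 0 n210547 = n210407 := d18_2 F411474 D210547 (iv4 D210407) (iv5 D138637) (iv4 F171628) (iv0 F223468) F223467 F172524 D199285
theorem F457991 : act 1 n210547 = n210402 := d18_6 (iv1 F168888) (iv4 F171672) (iv1 F171676) (iv4 F171677) D139383 D210547 (iv4 D210402) (iv0 F406606) (iv5 D198056)
def n210548 : Q := act 4 n139385
theorem D210548 : act 4 n139385 = n210548 := rfl
theorem F457992 : act 6 n210548 = n177894 := d10_2 (iv6 F352342) D210548 F362118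
theorem F457993 : act 7 n210548 = n199292 := d11_2 F222594 D210548 (iv4 D199292)
theorem F457994 : act 5 n210548 = n199533 := d16_1 D210548 (iv4 D199533) (iv5 D111389) F81102 D65913 (iv4 F101611) D111230 (iv7 F406643) (iv2 F406640)
theorem F457995 : act 1 n210548 = n202542 := d18_6 D111144 F172374 F172409 (iv4 F172406) (iv5 F222593) D210548 (iv4 D202542) (iv0 F180538) (iv5 D111146)
theorem F457996 : act 0 n184979 = n202540 := d20_4 (iv4 D73335) (iv1 F109722) (iv4 F308729) D184979 F424415 D202542 (iv1 F457995) (iv4 D210548) F352341 (iv1 F337931)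
def n210549 : Q := act 0 n139386
theorem D210549 : act 0 n139386 = n210549 := rfl
theorem F457997 : act 4 n210549 = n139456 := d18_3 F172520 D139386 D210549 F222644 F172386 F80878 D65098 F172392 D111230
theorem F457998 : act 2 n210413 = n210549 := d15_3 (iv0 D210549) F222595 D210413
theorem F457999 : act 1 n210411 = n210549 := d15_0 (iv0 D210549) F406576 F457433
theorem F458000 : act 7 n210549 = n199283 := d15_2 D210411 F457999 F411464
theorem F458001 : act 5 n199504 = n210549 := d21_6 (iv5 F453683) F453684 F415890 (iv6 F428256) (iv1 F428259) (iv6 F412437) (iv1 F457999) F457431 F405574 F366518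
theorem F458002 : act 3 n210549 = n192250 := d6_1 F458001 F386206 F412439
def n210550 : Q := act 3 n139386
theorem D210550 : act 3 n139386 = n210550 := rfl
theorem F458003 : act 4 n210550 = n202909 := d5_2 D139386 D210550 F457981 (iv4 D210541) F222587
def n210551 : Q := act 5 n139388
theorem D210551 : act 5 n139388 = n210551 := rfl
theorem F458004 : act 3 n210551 = n139389 := d6_1 D210551 (iv5 D139389) D139388
theorem F458005 : act 4 n210551 = n189911 := d17_4 (iv1 F387912) (iv5 F412760) (iv1 F457878) D210551 (iv5 D189911) F147054 D185309 F378215 (iv4 F386225)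
theorem F458006 : act 1 n210551 = n192369 := d17_8 (iv1 F372707) (iv5 D188216) F292390 D99468 D191987 (iv5 F457874) (iv0 F457875) D210551 F386591
theorem F458007 : act 0 n210551 = n193761 := d21_1 D210551 F390933 (iv6 F386528) (iv1 F410430) (iv6 D199038) F387573 F387572 (iv5 F350422) D199582 (iv1 F457878)
def n210552 : Q := act 6 n139389
theorem D210552 : act 6 n139389 = n210552 := rfl
theorem F458008 : act 2 n210552 = n209850 := d3_1 D210552 F455130 F406603
theorem F458009 : act 5 n210552 = n203326 := d12_1 D210552 F427889 (iv5 F360376) (iv6 D139390) D139389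
theorem F458010 : act 7 n210552 = n208498 := d14_2 F406617 D210552 (iv6 D208498) (iv7 F217381) (iv6 F406616)
theorem F458011 : act 0 n210552 = n209496 := d21_4 (iv5 D65449) (iv1 F168883) D139389 D210552 F453920 (iv5 F363016) (iv1 D138631) D138632 F221802 F101159
def n210553 : Q := act 3 n139391
theorem D210553 : act 3 n139391 = n210553 := rfl
theorem F458012 : act 2 n210553 = n205043 := d0_1 D210553 (iv3 D205043) (iv2 F201552) (iv3 F323823) (iv2 F222603)
theorem F458013 : act 4 n210553 = n196884 := d5_2 D139391 D210553 F402151 F337419 F168529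
theorem F458014 : act 6 n210553 = n196883 := d7_2 (iv6 F222604) D210553 F402147
theorem F458015 : act 0 n196395 = n210553 := d20_4 F407129 (iv1 F199328) D178235 (iv3 F400574) (iv3 D210553) (iv4 D139391) (iv1 F169016) (iv4 F407159) F407163 (iv1 F407132)
def n210554 : Q := act 5 n139392
theorem D210554 : act 5 n139392 = n210554 := rfl
theorem F458016 : act 3 n210554 = n139393 := d6_1 D210554 (iv5 D139393) D139392
theorem F458017 : act 6 n210554 = n208495 := d12_2 F395926 D210554 (iv5 D208495) (iv6 F350303) D195137
theorem F458018 : act 0 n210554 = n154499 := d17_2 (iv1 F424457) D210554 F364524 (iv4 D148650) (iv5 F315199) F315198 D146619 (iv0 F363466) (iv4 F424454)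
def n210555 : Q := act 4 n139393
theorem D210555 : act 4 n139393 = n210555 := rfl
theorem F458019 : act 6 n210555 = n208496 := d10_2 F350271 D210555 (iv4 D208496)
def n210556 : Q := act 6 n139395
theorem D210556 : act 6 n139395 = n210556 := rfl
theorem F458020 : act 2 n210556 = n204341 := d3_1 D210556 F432110 (iv2 F396777)
theorem F458021 : act 3 n210556 = n198152 := d7_1 D210556 (iv6 F407002) F402422
theorem F458022 : act 4 n210556 = n192348 := d10_1 D210556 (iv6 F424407) F424406
theorem F458023 : act 7 n210556 = n204342 := d14_2 (iv7 F396776) D210556 (iv6 F432117) (iv7 F386672) (iv6 F396773)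
theorem F458024 : act 0 n210556 = n204344 := d21_4 F396933 (iv1 F425138) F425137 D210556 F432123 (iv5 D195435) F224915 (iv5 F448551) (iv6 D208243) (iv1 F396935)
theorem F458025 : act 0 n204323 = n210556 := d21_4 (iv5 F411746) (iv1 F438454) (iv5 F454540) F454541 (iv6 D210556) (iv5 F425137) F425139 (iv5 D133994) F98194 D111202
theorem F458026 : act 5 n210556 = n144433 := d19_1 F458025 F408008 F408004 (iv1 F393831) (iv5 D193472) (iv4 F357909) (iv3 F357885) (iv1 F354484) (iv5 D163126) (iv4 F341718) (iv3 D125738) (iv1 D58874) D58875 D125742 D205313 F435900 (iv5 F443542) F443538 (iv3 F432044)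
def n210557 : Q := act 6 n139396
theorem D210557 : act 6 n139396 = n210557 := rfl
theorem F458027 : act 2 n210557 = n139398 := d3_1 D210557 (iv6 D139398) D139396
theorem F458028 : act 4 n210557 = n139411 := d10_1 D210557 (iv6 D139411) (iv4 F222606)
theorem F458029 : act 0 n197420 = n210557 := d21_4 (iv5 D144414) F111117 D156075 (iv6 F404196) (iv6 D210557) (iv5 F446750) (iv1 F448556) (iv5 D208244) D208245 (iv1 F448561)
def n210558 : Q := act 0 n139397
theorem D210558 : act 0 n139397 = n210558 := rfl
theorem F458030 : act 5 n210558 = n195411 := d17_1 D210558 (iv1 F396929) (iv5 F364295) F162309 D105702 (iv0 F181097) F181095 (iv0 F317330) (iv4 F347169)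
theorem F458031 : act 1 n145066 = n210558 := d15_0 (iv0 D210558) (iv7 F396787) F396785
theorem F458032 : act 3 n205841 = n210558 := d19_19 (iv1 F458031) F396783 F396779 F168902 (iv1 F180497) F357459 (iv4 F405091) F405090 (iv1 F341495) F191914 (iv4 F191906) (iv3 F353584) (iv1 F184079) D143376 F411292 F411294 (iv1 F401458) D199192 (iv4 F438098)
theorem F458033 : act 7 n210558 = n208242 := d8_2 (iv7 F438099) F458032 F448544
theorem F458034 : act 6 n197439 = n210558 := d14_5 F458033 F448548 (iv7 F280176) F397217 (iv7 F404319)
theorem F458035 : act 2 n210558 = n208244 := d15_3 F448556 (iv0 F448545) (iv7 F458033)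
def n210559 : Q := act 1 n139397
theorem D210559 : act 1 n139397 = n210559 := rfl
theorem F458036 : act 1 n210559 = n145066 := d15_1 D210559 (iv7 F446752) F446748
theorem F458037 : act 7 n210559 = n208244 := d15_2 (iv0 D210558) D210559 (iv2 F458035)
theorem F458038 : act 5 n210559 = n195412 := d17_7 (iv1 F180480) (iv5 F372570) (iv1 D139413) (iv5 D65434) (iv4 F101143) D139397 D210559 (iv0 F396931) F215916
theorem F458039 : act 4 n210559 = n197468 := d17_9 F434412 F434409 (iv1 F349962) F314859 (iv4 F242910) (iv5 F340719) (iv0 D139394) D139397 D210559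
theorem F458040 : act 6 n197297 = n210559 := d21_9 (iv5 D139397) D139394 F340719 (iv6 D154725) F110080 (iv6 F315140) (iv5 D108110) D108107 (iv5 F403876) (iv1 D210559)
theorem F458041 : act 2 n210559 = n208242 := d3_1 F458040 F448548 F403879
def n210560 : Q := act 0 n139398
theorem D210560 : act 0 n139398 = n210560 := rfl
theorem F458042 : act 3 n210560 = n206060 := d20_5 (iv4 F110995) (iv1 D65429) (iv4 F101147) (iv3 F222608) D210560 F439059 F447680 F447675 F397028 (iv1 F227204)
theorem F458043 : act 6 n210560 = n197256 := d21_5 (iv5 F458038) (iv1 D210559) (iv5 D139397) D139398 D210560 (iv5 F403809) (iv1 F403808) F397335 (iv6 F215917) F396931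
theorem F458044 : act 5 n197421 = n210560 := d12_5 F458043 (iv5 F403809) (iv6 F440123) F440124 (iv6 F404199)
theorem F458045 : act 7 n197420 = n210560 := d14_0 F458043 F454531 (iv6 F454530) (iv7 F245245) (iv6 F404196)
def n210561 : Q := act 1 n139398
theorem D210561 : act 1 n139398 = n210561 := rfl
theorem F458046 : act 6 n144438 = n210561 := d21_3 (iv5 D67684) D67682 D144438 (iv1 D210561) (iv6 D139398) D139397 D210558 F458030 F438103 (iv1 D144443)
theorem F458047 : act 2 n210561 = n197420 := d3_1 F458046 F404196 F245244
theorem F458048 : act 5 n210561 = n196412 := d12_1 F458046 (iv6 D196412) (iv5 D106956) (iv6 F111122) D144438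
def n210562 : Q := act 5 n139398
theorem D210562 : act 5 n139398 = n210562 := rfl
theorem F458049 : act 3 n210562 = n139401 := d6_1 D210562 (iv5 D139401) (iv3 F222608)
theorem F458050 : act 0 n195481 = n210562 := d21_10 (iv5 D210562) D210560 (iv5 F458044) F404199 (iv1 F404189) (iv6 F414626) (iv5 F414625) (iv1 F414624) (iv5 D195480) D195481
def n210563 : Q := act 7 n139398
theorem D210563 : act 7 n139398 = n210563 := rfl
theorem F458051 : act 3 n210563 = n139402 := d8_1 D210563 (iv7 D139402) (iv3 F222608)
theorem F458052 : act 4 n210563 = n139419 := d11_1 D210563 (iv7 D139419) (iv4 F222609)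
theorem F458053 : act 1 n197420 = n210563 := d15_1 (iv0 F458029) (iv7 D210563) (iv2 F458027)
def n210564 : Q := act 0 n139399
theorem D210564 : act 0 n139399 = n210564 := rfl
theorem F458054 : act 4 n210564 = n192134 := d18_3 F390128 (iv4 F222610) D210564 (iv5 D192134) (iv4 F385424) (iv0 F385428) (iv4 F407997) (iv0 F427575) F427574
theorem F458055 : act 5 n210564 = n204340 := d19_1 D210564 (iv4 D204340) (iv3 F385239) (iv1 F385243) F242382 (iv4 F235756) (iv3 D149891) (iv1 F308048) (iv5 D34390) D34389 F303557 F52379 F52378 (iv4 F85906) D118128 F333709 (iv5 D155900) D155899 F347172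
def n210565 : Q := act 1 n139399
theorem D210565 : act 1 n139399 = n210565 := rfl
theorem F458056 : act 4 n210565 = n194320 := d18_7 (iv1 F359927) F246890 (iv1 F361945) (iv4 F408011) (iv5 D198440) (iv4 F222610) D210565 F407926 F407925
theorem F458057 : act 5 n210565 = n203245 := d18_9 F427523 F384818 (iv1 F386532) (iv4 F458022) F458026 F408008 (iv0 D198439) (iv4 F222610) D210565
theorem F458058 : act 3 n195372 = n210565 := d20_3 (iv4 D196882) F209165 (iv4 F396844) (iv1 D210565) (iv3 F347172) (iv4 D155899) (iv1 F185784) (iv4 F427487) F427486 (iv1 F402146)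
theorem F458059 : act 6 n210565 = n194319 := d7_2 D195372 F458058 F392814
def n210566 : Q := act 5 n139399
theorem D210566 : act 5 n139399 = n210566 := rfl
theorem F458060 : act 6 n210566 = n139401 := d12_2 D139399 D210566 (iv5 D139401) (iv6 D65428) D65427
theorem F458061 : act 4 n210566 = n184243 := d16_6 D100112 (iv5 F357075) (iv4 F408011) (iv5 D198440) (iv4 F222610) D210566 (iv5 D184243) F232752 (iv2 D100111)
def n210567 : Q := act 7 n139399
theorem D210567 : act 7 n139399 = n210567 := rfl
theorem F458062 : act 3 n210567 = n203261 := d8_1 D210567 F427552 F347172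
theorem F458063 : act 4 n210567 = n198441 := d11_1 D210567 (iv7 D198441) (iv4 F222610)
def n210568 : Q := act 5 n139400
theorem D210568 : act 5 n139400 = n210568 := rfl
theorem F458064 : act 2 n210568 = n144449 := d2_1 D210568 (iv5 D144449) F222614
theorem F458065 : act 3 n210568 = n203179 := d6_1 D210568 F454684 F454681
theorem F458066 : act 6 n210568 = n146960 := d12_2 F222615 D210568 (iv5 F404145) F404149 F403831
theorem F458067 : act 7 n210568 = n144447 := d13_2 (iv7 F222612) D210568 (iv5 D144447)
theorem F458068 : act 4 n210568 = n146947 := d16_2 (iv4 F222613) D210568 (iv5 D146947) (iv4 F365820) (iv5 D132387) F96821 F47125 (iv7 F49732) (iv2 F103695)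
theorem F458069 : act 0 n210568 = n197308 := d17_2 (iv1 F222611) D210568 (iv5 F438413) F438410 F219888 F213981 F213979 F164864 (iv4 F167110)
theorem F458070 : act 1 n210568 = n197307 := d17_6 F170837 F162199 F101904 F103694 (iv4 F222613) D210568 F403915 (iv0 F396982) (iv4 D132576)
def n210569 : Q := act 0 n139401
theorem D210569 : act 0 n139401 = n210569 := rfl
theorem F458071 : act 5 n210569 = n207869 := d17_3 (iv1 D139400) D139401 D210569 (iv4 D207869) (iv5 D132533) (iv0 D62178) (iv5 F49721) D67672 (iv4 F222613)
theorem F458072 : act 2 n207917 = n210569 := d15_3 (iv0 D210569) F448593 (iv7 F448591)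
theorem F458073 : act 3 n210569 = n193926 := d0_2 (iv3 F446982) F458072 (iv2 F391418) F385446 F323264
theorem F458074 : act 7 n210569 = n207921 := d4_2 (iv7 F448591) F458072 (iv2 F448587)
theorem F458075 : act 1 n197305 = n210569 := d15_1 (iv0 F448592) F458074 (iv2 F448587)
def n210570 : Q := act 4 n139401
theorem D210570 : act 4 n139401 = n210570 := rfl
theorem F458076 : act 6 n210570 = n184243 := d10_2 F458060 D210570 (iv4 F458061)
def n210571 : Q := act 7 n139401
theorem D210571 : act 7 n139401 = n210571 := rfl
theorem F458077 : act 2 n210571 = n197305 := d4_1 D210571 F403909 F396814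
theorem F458078 : act 5 n210571 = n139402 := d13_1 D210571 (iv7 D139402) D139401
theorem F458079 : act 1 n207921 = n210571 := d15_1 (iv0 F447000) (iv7 D210571) (iv2 F396814)
theorem F458080 : act 1 n210571 = n207917 := d15_1 F458079 F448591 F448587
def n210572 : Q := act 1 n139403
theorem D210572 : act 1 n139403 = n210572 := rfl
theorem F458081 : act 1 n210572 = n139929 := d15_1 D210572 F223157 (iv2 F222620)
theorem F458082 : act 7 n210572 = n192949 := d15_2 F438476 D210572 (iv2 F438473)
theorem F458083 : act 4 n210572 = n205854 := d17_9 (iv1 F438151) (iv5 F453028) (iv1 F453032) F450855 F391762 (iv5 F457697) (iv0 F457696) F420731 D210572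
theorem F458084 : act 3 n140356 = n210572 := d20_9 F222622 (iv1 D135947) F99432 (iv3 D30685) (iv1 F39219) D51407 F81165 D65881 D140356 (iv1 D210572)
theorem F458085 : act 2 n210572 = n199009 := d0_1 F458084 (iv3 D199009) F220267 (iv3 F357509) F357506
def n210573 : Q := act 0 n139404
theorem D210573 : act 0 n139404 = n210573 := rfl
theorem F458086 : act 5 n210573 = n205031 := d17_1 D210573 (iv1 D205031) (iv5 F353530) F180475 (iv5 F372570) F406678 (iv5 D198074) F168904 D139404
theorem F458087 : act 4 n210573 = n199581 := d18_3 D65431 D139404 D210573 F420476 (iv4 D201428) D201427 F420472 (iv0 D139412) (iv5 D65434)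
theorem F458088 : act 3 n210573 = n197845 := d20_5 (iv4 F218795) (iv1 F438965) (iv4 D206040) (iv3 F349984) D210573 (iv4 D197845) (iv1 F396893) F396891 F360501 (iv1 F360519)
theorem F458089 : act 1 n139407 = n210573 := d15_0 (iv0 D210573) (iv7 F406653) F406652
theorem F458090 : act 7 n210573 = n210516 := d15_2 (iv0 F422552) F458089 F457883
def n210574 : Q := act 6 n139407
theorem D210574 : act 6 n139407 = n210574 := rfl
theorem F458091 : act 2 n210574 = n204340 := d3_1 D210574 F432106 F406652
theorem F458092 : act 3 n210574 = n139823 := d7_1 D210574 (iv6 D139823) (iv3 F222623)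
theorem F458093 : act 4 n210574 = n139409 := d10_1 D210574 (iv6 D139409) D139407
theorem F458094 : act 7 n210574 = n203245 := d14_2 F227217 D210574 (iv6 D203245) (iv7 F427349) F427348
def n210575 : Q := act 6 n139410
theorem D210575 : act 6 n139410 = n210575 := rfl
theorem F458095 : act 2 n210575 = n139415 := d3_1 D210575 (iv6 D139415) (iv2 F222624)
theorem F458096 : act 4 n210575 = n203465 := d10_1 D210575 (iv6 D203465) (iv4 F357970)
theorem F458097 : act 0 n210575 = n209010 := d21_10 (iv5 F456996) F456999 F451866 (iv6 D203453) (iv1 F214902) (iv6 F406659) (iv5 D198072) (iv1 F168901) D139410 D210575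
theorem F458098 : act 0 n209013 = n210575 := d21_4 (iv5 F394014) F394016 (iv5 F381827) (iv6 F451844) (iv6 D210575) (iv5 D139410) (iv1 F168905) D198073 F406669 F187587
def n210576 : Q := act 1 n139411
theorem D210576 : act 1 n139411 = n210576 := rfl
theorem F458099 : act 1 n210576 = n139419 := d15_1 D210576 (iv7 D139419) (iv2 F222625)
theorem F458100 : act 7 n210576 = n139416 := d15_2 (iv0 F457042) D210576 (iv2 F457040)
theorem F458101 : act 2 n139417 = n210576 := d4_3 F458100 (iv2 F457040) (iv7 F457043)
theorem F458102 : act 6 n197309 = n210576 := d14_5 F458100 F372578 (iv7 F356562) D210325 (iv7 F457039)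
theorem F458103 : act 3 n210576 = n209753 := d7_1 F458102 F454838 F404037
theorem F458104 : act 4 n210576 = n197302 := d10_1 F458102 F403904 D197309
def n210577 : Q := act 5 n139411
theorem D210577 : act 5 n139411 = n210577 := rfl
theorem F458105 : act 2 n210577 = n139418 := d2_1 D210577 (iv5 D139418) (iv2 F222625)
def n210578 : Q := act 7 n139411
theorem D210578 : act 7 n139411 = n210578 := rfl
theorem F458106 : act 2 n210578 = n139419 := d4_1 D210578 (iv7 D139419) (iv2 F222625)
theorem F458107 : act 1 n139417 = n210578 := d15_1 D139417 (iv7 D210578) F222625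
theorem F458108 : act 1 n210578 = n139416 := d15_1 F458107 (iv7 F458100) (iv2 F458101)
def n210579 : Q := act 6 n139412
theorem D210579 : act 6 n139412 = n210579 := rfl
theorem F458109 : act 2 n210579 = n208254 := d3_1 D210579 (iv6 D208254) F372572
theorem F458110 : act 4 n210579 = n151232 := d10_1 D210579 (iv6 F420474) F420472
theorem F458111 : act 0 n210579 = n203469 := d21_4 (iv5 D115921) D115918 (iv5 F372573) D210579 (iv6 D203469) (iv5 F372423) F372421 F335351 (iv6 F406669) F406671
def n210580 : Q := act 0 n139414
theorem D210580 : act 0 n139414 = n210580 := rfl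
theorem F458112 : act 3 n210580 = n192786 := d20_5 (iv4 F412477) (iv1 D199513) F349941 F357968 D210580 (iv4 F407353) (iv1 F407355) F387652 F367114 D194432
theorem F458113 : act 6 n210580 = n203471 := d21_5 (iv5 D133464) F214095 D208040 F447568 D210580 (iv5 F428443) (iv1 D135558) D135559 F217982 (iv1 F214630)
theorem F458114 : act 1 n145078 = n210580 := d15_0 (iv0 D210580) (iv7 F357969) (iv2 F357972)
theorem F458115 : act 2 n203462 = n210580 := d3_3 F458113 (iv2 F451185) F451189
theorem F458116 : act 7 n203461 = n210580 := d15_2 F428415 F428413 (iv2 F458115)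
def n210581 : Q := act 1 n139414
theorem D210581 : act 1 n139414 = n210581 := rfl
theorem F458117 : act 1 n210581 = n145078 := d15_1 D210581 F357971 F357967
theorem F458118 : act 7 n210581 = n203462 := d15_2 (iv0 D210580) D210581 F458115
theorem F458119 : act 4 n210581 = n199045 := d17_9 (iv1 F457891) (iv5 D210517) F396784 (iv5 F373276) F373275 (iv5 D119097) (iv0 F315232) (iv5 F357966) D210581
theorem F458120 : act 3 n201313 = n210581 := d20_5 (iv4 F331470) (iv1 F331545) (iv4 D114307) (iv3 F178163) D201313 F458119 (iv1 F457891) F457890 F248581 (iv1 F248560)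
theorem F458121 : act 2 n210581 = n203461 := d0_1 F458120 (iv3 F428414) F387764 F439723 (iv2 F439724)
def n210582 : Q := act 7 n139415
theorem D210582 : act 7 n139415 = n210582 := rfl
theorem F458122 : act 3 n210582 = n139423 := d8_1 D210582 (iv7 D139423) (iv3 F222626)
theorem F458123 : act 4 n210582 = n188993 := d11_1 D210582 (iv7 F447569) F447572
theorem F458124 : act 6 n210582 = n188992 := d14_1 D210582 F375348 F372330 F168908 D139415
theorem F458125 : act 1 n209013 = n210582 := d15_1 (iv0 F458098) (iv7 D210582) (iv2 F458095)
theorem F458126 : act 1 n210582 = n209010 := d15_1 F458125 F451831 (iv2 F451843)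
def n210583 : Q := act 3 n139416
theorem D210583 : act 3 n139416 = n210583 := rfl
theorem F458127 : act 2 n210583 = n209750 := d0_1 D210583 F454836 F348291 (iv3 F457041) F457040
theorem F458128 : act 6 n210583 = n208723 := d7_2 (iv6 F372578) D210583 (iv3 D208723)
theorem F458129 : act 7 n210583 = n209753 := d8_2 F458100 D210583 (iv3 F458103)
theorem F458130 : act 4 n210583 = n209382 := d20_6 (iv4 D65440) (iv1 D30683) (iv4 F49134) (iv3 F101152) D139416 D210583 (iv1 F453492) (iv4 F246028) (iv3 D156492) (iv1 F111696)
def n210584 : Q := act 4 n139416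
theorem D210584 : act 4 n139416 = n210584 := rfl
theorem F458131 : act 6 n210584 = n197241 := d10_2 (iv6 F372578) D210584 F403703
theorem F458132 : act 7 n210584 = n197302 := d11_2 F458100 D210584 (iv4 F458104)
theorem F458133 : act 5 n197303 = n210584 := d13_3 F458132 (iv5 D197302) D197303
theorem F458134 : act 3 n210584 = n203221 := d6_1 F458133 (iv5 D203221) (iv3 F403905)
def n210585 : Q := act 5 n139416
theorem D210585 : act 5 n139416 = n210585 := rfl
theorem F458135 : act 6 n210585 = n187028 := d12_2 (iv6 F372578) D210585 F368869 (iv6 F356542) (iv5 F340092)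
theorem F458136 : act 4 n210585 = n187029 := d19_2 D139416 D210585 F368870 (iv1 F390981) (iv5 F287519) (iv4 F387064) (iv3 F387069) (iv1 F387072) F338102 (iv4 F383257) F383256 F301706 (iv5 F197810) F325790 (iv3 F168229) (iv1 D62965) F47919 (iv4 F49134) (iv3 F101152)
def n210586 : Q := act 4 n139417
theorem D210586 : act 4 n139417 = n210586 := rfl
theorem F458137 : act 2 n210586 = n197302 := d1_1 D210586 (iv4 F458104) (iv2 F458101)
theorem F458138 : act 3 n210586 = n203225 := d5_1 D210586 F427471 (iv3 F389544) F424551 F424554
theorem F458139 : act 6 n210586 = n144447 := d10_2 F457142 D210586 (iv4 F457140)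
theorem F458140 : act 5 n197224 = n210586 := d12_5 F458139 (iv5 D144447) F103719 D108024 D197224
def n210587 : Q := act 5 n139417
theorem D210587 : act 5 n139417 = n210587 := rfl
def n210588 : Q := act 0 n139418
theorem D210588 : act 0 n139418 = n210588 := rfl
theorem F458141 : act 5 n210588 = n204335 := d21_2 D139418 D210588 (iv6 D204335) D204333 F432091 (iv5 F446098) (iv1 F446101) (iv5 F457139) F457142 (iv1 D139417)
theorem F458142 : act 6 n210588 = n204336 := d21_5 F454704 F420757 (iv5 F453607) (iv6 F453609) D210588 (iv5 D204336) F361926 D131164 F352113 D209710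
def n210589 : Q := act 1 n139418
theorem D210589 : act 1 n139418 = n210589 := rfl
def n210590 : Q := act 4 n139418
theorem D210590 : act 4 n139418 = n210590 := rfl
def n210591 : Q := act 7 n139418
theorem D210591 : act 7 n139418 = n210591 := rfl
theorem F458143 : act 3 n210591 = n139429 := d8_1 D210591 (iv7 D139429) (iv3 F222627)
theorem F458144 : act 5 n210591 = n139419 := d13_1 D210591 (iv7 D139419) D139418
def n210592 : Q := act 3 n139420
theorem D210592 : act 3 n139420 = n210592 := rfl
theorem F458145 : act 2 n210592 = n201541 := d0_1 D210592 (iv3 F420897) (iv2 F373387) F424364 F424367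
theorem F458146 : act 4 n210592 = n189012 := d5_2 (iv4 F424368) D210592 F375408 (iv4 F375417) (iv3 F405906)
theorem F458147 : act 6 n210592 = n209372 := d7_2 F431534 D210592 F453435
theorem F458148 : act 7 n210592 = n189010 := d8_2 (iv7 F424369) D210592 (iv3 F424354)
theorem F458149 : act 0 n201529 = n210592 := d20_4 (iv4 F453294) (iv1 F453296) (iv4 F421485) (iv3 F421486) (iv3 D210592) F424368 (iv1 F412381) F412378 (iv3 F446140) (iv1 F446142)
theorem F458150 : act 1 n201461 = n210592 := d15_0 (iv0 F458149) F420871 (iv2 F420597)
def n210593 : Q := act 0 n139422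
theorem D210593 : act 0 n139422 = n210593 := rfl
theorem F458151 : act 5 n210593 = n204212 := d21_2 D139422 D210593 F431500 (iv1 F386061) (iv6 D192220) (iv5 F329817) F329815 (iv5 F140494) F364132 (iv1 D139421)
theorem F458152 : act 6 n210593 = n208272 := d21_5 (iv5 D139425) (iv1 D65437) D65438 (iv6 F222629) D210593 F448667 (iv1 F216039) D134249 (iv6 F448954) (iv1 F448955)
theorem F458153 : act 2 n204543 = n210593 := d3_3 F458152 F448666 (iv6 F432830)
theorem F458154 : act 7 n204436 = n210593 := d14_0 F458152 (iv7 D208272) F429574 F429572 D204436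
def n210594 : Q := act 1 n139422
theorem D210594 : act 1 n139422 = n210594 := rfl
theorem F458155 : act 7 n210594 = n204543 := d15_2 (iv0 D210593) D210594 F458153
theorem F458156 : act 5 n210594 = n204213 := d17_7 F433116 F433115 F412403 F406980 F172868 D139422 D210594 F431504 (iv4 F432826)
theorem F458157 : act 6 n203729 = n210594 := d21_3 F432503 (iv1 F369020) (iv5 F429567) (iv1 D210594) F222629 (iv5 D65438) F98345 D134167 (iv6 F356357) D204428
theorem F458158 : act 2 n210594 = n204436 := d3_1 F458157 (iv6 D204436) (iv2 F429570)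
def n210595 : Q := act 4 n139422
theorem D210595 : act 4 n139422 = n210595 := rfl
theorem F458159 : act 6 n210595 = n139428 := d10_2 (iv6 F222629) D210595 (iv4 D139428)
def n210596 : Q := act 7 n139422
theorem D210596 : act 7 n139422 = n210596 := rfl
theorem F458160 : act 5 n210596 = n139423 := d13_1 D210596 (iv7 D139423) D139422
theorem F458161 : act 1 n204436 = n210596 := d15_1 (iv0 F432529) (iv7 D210596) (iv2 F424356)
theorem F458162 : act 1 n210596 = n204543 := d15_1 F458161 (iv7 F458155) F458158
def n210597 : Q := act 2 n139424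
theorem D210597 : act 2 n139424 = n210597 := rfl
theorem F458163 : act 4 n210597 = n203548 := d1_2 F403072 D210597 F428829
theorem F458164 : act 6 n210597 = n189051 := d3_2 F362976 D210597 (iv2 F375591)
theorem F458165 : act 0 n210597 = n199011 := d21_4 (iv5 F287202) (iv1 F440107) F440106 (iv6 F458164) (iv6 D199011) D199010 F410309 (iv5 D126876) D126877 F345611
def n210598 : Q := act 4 n139425
theorem D210598 : act 4 n139425 = n210598 := rfl
theorem F458166 : act 3 n210598 = n204431 := d5_1 D210598 (iv4 D204431) (iv3 F432282) F432506 F376032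
theorem F458167 : act 5 n210598 = n208441 := d9_2 D139425 D210598 F449369 F368873 (iv4 D134169) (iv5 D63030) (iv4 F98344) D134167 D208336 F449376 F449374 F448662 F217091 F206954 F166275
def n210599 : Q := act 6 n139425
theorem D210599 : act 6 n139425 = n210599 := rfl
theorem F458168 : act 5 n210599 = n208657 := d12_1 D210599 (iv6 F450349) F424993 F216113 D139425
theorem F458169 : act 7 n210599 = n204432 := d14_2 F403052 D210599 (iv6 D204432) (iv7 F411935) F411934
theorem F458170 : act 0 n210599 = n203770 := d21_4 (iv5 D156499) (iv1 F111707) D139425 D210599 F429756 F302886 (iv1 F125741) F191844 (iv6 F342832) (iv1 F246050)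
def n210600 : Q := act 3 n139426
theorem D210600 : act 3 n139426 = n210600 := rfl
theorem F458171 : act 5 n210600 = n204268 := d6_2 F342830 D210600 F431766
theorem F458172 : act 6 n210600 = n203733 := d7_2 (iv6 F342832) D210600 (iv3 D203733)
def n210601 : Q := act 4 n139426
theorem D210601 : act 4 n139426 = n210601 := rfl
theorem F458173 : act 2 n210601 = n204027 := d1_1 D210601 F430851 (iv2 F342831)
theorem F458174 : act 6 n210601 = n170658 := d10_2 (iv6 F342832) D210601 F268122
theorem F458175 : act 0 n210601 = n208444 := d17_0 (iv5 D208444) D208441 (iv5 F458167) (iv4 D210598) (iv5 D139425) F111707 D156499 F246050 D210601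
theorem F458176 : act 1 n210601 = n202535 := d18_6 (iv1 F226497) (iv4 F410189) F410192 F410151 F342830 D210601 (iv4 D202535) (iv0 F226505) (iv5 D143880)
def n210602 : Q := act 3 n139427
theorem D210602 : act 3 n139427 = n210602 := rfl
theorem F458177 : act 5 n210602 = n184368 := d6_2 F222630 D210602 F358750
theorem F458178 : act 7 n210602 = n189194 := d8_2 F342827 D210602 F376028
theorem F458179 : act 4 n204379 = n210602 := d20_8 D139428 F430844 F430843 (iv3 F430834) (iv1 F430837) F287557 (iv4 F342722) (iv1 F432293) (iv3 D210602) (iv1 D139427)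
theorem F458180 : act 2 n210602 = n189192 := d1_1 F458179 F376022 (iv2 F432295)
theorem F458181 : act 6 n210602 = n208376 := d10_2 (iv6 F432297) F458179 (iv4 D208376)
def n210603 : Q := act 4 n139427
theorem D210603 : act 4 n139427 = n210603 := rfl
theorem F458182 : act 3 n210603 = n204140 := d5_1 D210603 F431173 (iv3 F432296) F458179 (iv3 D210602)
theorem F458183 : act 7 n210603 = n204027 := d11_2 F342827 D210603 F430851
theorem F458184 : act 0 n210603 = n202535 := d18_2 F246049 D210603 (iv4 D202535) (iv5 D115937) (iv4 F93899) F166277 F166275 F111707 D156499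
theorem F458185 : act 1 n210603 = n208444 := d18_6 F332935 (iv4 F226997) F227000 (iv4 F222497) F222630 D210603 F449380 F424402 F424399
theorem F458186 : act 6 n208391 = n210603 := d7_0 F458182 (iv6 F431176) D208391
def n210604 : Q := act 6 n139427
theorem D210604 : act 6 n139427 = n210604 := rfl
theorem F458187 : act 3 n210604 = n208376 := d7_1 D210604 (iv6 F458181) (iv3 D210602)
theorem F458188 : act 4 n210604 = n208391 := d10_1 D210604 F458186 (iv4 D210603)
theorem F458189 : act 5 n210604 = n204815 := d12_1 D210604 F433683 (iv5 D139301) D139302 F222630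
theorem F458190 : act 7 n210604 = n170672 := d14_2 F342827 D210604 (iv6 D170672) (iv7 F129720) (iv6 F276929)
theorem F458191 : act 0 n208388 = n210604 := d21_4 F430889 (iv1 F328197) F328200 D208388 (iv6 D210604) (iv5 F222630) F227001 D141316 (iv6 F342833) (iv1 F430891)
def n210605 : Q := act 3 n139428
theorem D210605 : act 3 n139428 = n210605 := rfl
def n210606 : Q := act 6 n139429
theorem D210606 : act 6 n139429 = n210606 := rfl
def n210607 : Q := act 5 n139430
theorem D210607 : act 5 n139430 = n210607 := rfl
theorem F458192 : act 2 n210607 = n192442 := d2_1 D210607 (iv5 F457914) F457912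
theorem F458193 : act 3 n210607 = n139431 := d6_1 D210607 (iv5 D139431) D139430
theorem F458194 : act 7 n210607 = n192441 := d13_2 (iv7 F222632) D210607 F386729
theorem F458195 : act 4 n210607 = n170652 := d16_2 (iv4 F363315) D210607 (iv5 F355382) F355381 (iv5 F323360) (iv4 F431965) F431962 (iv7 F431992) F431990
theorem F458196 : act 0 n210607 = n187140 := d21_1 D210607 F369224 (iv6 D90795) F292281 D93061 F367263 F378898 D192823 (iv6 F457917) (iv1 F457918)
theorem F458197 : act 0 n192443 = n210607 := d21_1 (iv5 F386731) (iv5 D210607) F384862 (iv1 F384863) F384851 (iv5 F385921) (iv1 F385923) D193945 (iv6 F391482) (iv1 F372306)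
def n210608 : Q := act 4 n139431
theorem D210608 : act 4 n139431 = n210608 := rfl
theorem F458198 : act 3 n210608 = n170653 := d5_1 D210608 (iv4 D170653) D170652 (iv4 F458195) F458193
theorem F458199 : act 7 n210608 = n199346 := d11_2 (iv7 F222633) D210608 (iv4 D199346)
theorem F458200 : act 5 n210608 = n207297 := d16_1 D210608 (iv4 D207297) (iv5 D130725) F95813 F46678 (iv4 F53591) D74419 D156497 F246041
def n210609 : Q := act 4 n139442
theorem D210609 : act 4 n139442 = n210609 := rfl
theorem F458201 : act 2 n210609 = n139446 := d1_1 D210609 (iv4 D139446) (iv2 F222638)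
def n210610 : Q := act 6 n139442
theorem D210610 : act 6 n139442 = n210610 := rfl
theorem F458202 : act 2 n210610 = n139447 := d3_1 D210610 (iv6 D139447) (iv2 F222638)
theorem F458203 : act 0 n204628 = n210610 := d21_4 (iv5 D57818) D57815 D124074 D204628 (iv6 D210610) (iv5 D139442) (iv1 F180516) (iv5 F410217) (iv6 F410219) (iv1 D124084)
theorem F458204 : act 1 n201559 = n210610 := d15_0 (iv0 F458203) F433060 (iv2 F420942)
def n210611 : Q := act 0 n139443
theorem D210611 : act 0 n139443 = n210611 := rfl
theorem F458205 : act 6 n210611 = n203408 := d21_5 D141163 F224185 (iv5 D139442) D139443 D210611 (iv5 D203408) F353366 (iv5 D141171) (iv6 D66218) D66215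
theorem F458206 : act 5 n210611 = n203407 := d21_0 F457406 (iv5 D210401) (iv6 F362227) (iv1 D102598) F333136 D141163 F224185 (iv5 D139442) D139443 D210611
theorem F458207 : act 4 n204798 = n210611 := d10_3 F458205 F428172 D204798
theorem F458208 : act 7 n139449 = n210611 := d14_0 F458205 (iv7 F431057) F431056 F427131 F353582
theorem F458209 : act 2 n210611 = n139448 := d15_3 (iv0 D139448) D139449 F458208
theorem F458210 : act 0 n210611 = n139451 := d20_7 (iv4 D64323) (iv1 D30297) (iv4 F48728) (iv3 F100147) (iv1 F365136) (iv3 F433623) F458207 (iv4 F452702) F452701 (iv1 F218702)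
def n210612 : Q := act 1 n139443
theorem D210612 : act 1 n139443 = n210612 := rfl
theorem F458211 : act 1 n210612 = n139451 := d15_1 D210612 (iv7 D139451) (iv2 F222639)
theorem F458212 : act 7 n210612 = n139448 := d15_2 (iv0 D210611) D210612 (iv2 F458209)
theorem F458213 : act 6 n203138 = n210612 := d21_3 (iv5 F329190) D137981 (iv5 F427116) (iv1 D210612) (iv6 D139443) D139442 (iv1 F224247) (iv5 D141166) D141167 F353569
theorem F458214 : act 2 n210612 = n139449 := d3_1 F458213 (iv6 F353582) (iv2 F427114)
theorem F458215 : act 4 n210612 = n203139 := d10_1 F458213 (iv6 D203139) D203138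
def n210613 : Q := act 5 n139443
theorem D210613 : act 5 n139443 = n210613 := rfl
theorem F458216 : act 2 n210613 = n139450 := d2_1 D210613 (iv5 D139450) (iv2 F222639)
theorem F458217 : act 0 n193812 = n210613 := d21_10 (iv5 D210613) D210611 F458206 (iv6 D203407) (iv1 F251055) F430348 (iv5 F456608) F456609 (iv5 D193811) D193812
def n210614 : Q := act 7 n139443
theorem D210614 : act 7 n139443 = n210614 := rfl
theorem F458218 : act 2 n210614 = n139451 := d4_1 D210614 (iv7 D139451) (iv2 F222639)
theorem F458219 : act 1 n139449 = n210614 := d15_1 D139449 (iv7 D210614) F222639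
theorem F458220 : act 1 n210614 = n139448 := d15_1 F458219 (iv7 F458212) F458214
def n210615 : Q := act 3 n139444
theorem D210615 : act 3 n139444 = n210615 := rfl
theorem F458221 : act 5 n210615 = n198988 := d6_2 (iv5 F225853) D210615 (iv3 D198988)
theorem F458222 : act 6 n210615 = n189087 := d7_2 F454179 D210615 (iv3 F454177)
theorem F458223 : act 4 n210615 = n191780 := d20_6 F93964 (iv1 F81091) F81088 (iv3 F101157) D139444 D210615 F426183 (iv4 D202514) F180499 (iv1 F93966)
theorem F458224 : act 1 n139498 = n210615 := d18_6 (iv1 F392172) (iv4 F377175) (iv1 F377178) (iv4 F377180) F373186 F373185 F458223 (iv0 F457943) F457942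
def n210616 : Q := act 4 n139444
theorem D210616 : act 4 n139444 = n210616 := rfl
theorem F458225 : act 3 n210616 = n191785 := d5_1 D210616 F384422 (iv3 F384417) (iv4 F458223) (iv3 D210615)
theorem F458226 : act 6 n210616 = n191783 := d10_2 F454179 D210616 (iv4 F454178)
theorem F458227 : act 0 n184120 = n210616 := d21_4 (iv5 D97947) (iv1 F177419) D87822 D184120 F458226 (iv5 F454181) (iv1 D191686) (iv5 F155857) (iv6 D101162) (iv1 F157662)
def n210617 : Q := act 4 n139445
theorem D210617 : act 4 n139445 = n210617 := rfl
theorem F458228 : act 3 n210617 = n210579 := d5_1 D210617 F458110 F338619 D202240 F423365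
theorem F458229 : act 6 n210040 = n210617 := d7_0 F458228 (iv6 D210579) (iv3 F455879)
theorem F458230 : act 0 n210617 = n184120 := d19_4 (iv1 F364475) F338618 (iv4 F458110) (iv3 F458228) (iv5 F371020) F371019 (iv3 D146562) (iv1 F229681) F229679 (iv4 D68632) F82872 F161452 (iv5 D105299) (iv4 F77411) F77410 (iv1 F55212) F55209 D68660 (iv3 F333185)
def n210618 : Q := act 6 n139445
theorem D210618 : act 6 n139445 = n210618 := rfl
theorem F458231 : act 4 n210618 = n210040 := d10_1 D210618 F458229 (iv4 D210617)
theorem F458232 : act 0 n210618 = n139446 := d20_7 (iv4 F81024) (iv1 F81097) F81095 (iv3 F101151) D139412 (iv3 F455879) (iv4 F458231) (iv4 D139446) F101157 (iv1 F49374)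
def n210619 : Q := act 5 n139446
theorem D210619 : act 5 n139446 = n210619 := rfl
theorem F458233 : act 3 n210619 = n186623 := d6_1 D210619 F367475 F365336
theorem F458234 : act 6 n210619 = n186622 := d12_2 (iv6 F385317) D210619 F367471 (iv6 F367074) D192038
theorem F458235 : act 4 n210619 = n151252 := d16_2 D139446 D210619 (iv5 F454813) (iv4 D209741) (iv5 D136877) (iv4 F180513) (iv5 F224244) F224245 F222638
theorem F458236 : act 0 n203387 = n210619 := d19_0 (iv5 D210619) (iv4 D139446) F101157 (iv1 F49374) (iv5 D30942) (iv4 D14648) (iv3 F18492) (iv1 F18494) (iv5 D6973) (iv4 F10159) (iv3 F8484) (iv1 F8487) D5570 D11870 D24992 D51411 D111457 D199586 (iv3 F428116)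
def n210620 : Q := act 5 n139447
theorem D210620 : act 5 n139447 = n210620 := rfl
theorem F458237 : act 3 n210620 = n139454 := d6_1 D210620 (iv5 D139454) (iv3 F222640)
theorem F458238 : act 6 n210620 = n139450 := d12_2 D139447 D210620 (iv5 D139450) (iv6 D65445) D65444
theorem F458239 : act 0 n203414 = n210620 := d21_10 (iv5 D210620) F387696 (iv5 F392115) (iv6 D194124) D194121 F403508 (iv5 D127347) (iv1 F114267) (iv5 F186949) D203414
def n210621 : Q := act 7 n139447
theorem D210621 : act 7 n139447 = n210621 := rfl
theorem F458240 : act 3 n210621 = n139455 := d8_1 D210621 (iv7 D139455) (iv3 F222640)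
theorem F458241 : act 4 n210621 = n191936 := d11_1 D210621 (iv7 F385315) (iv4 F385316)
theorem F458242 : act 1 n204628 = n210621 := d15_1 (iv0 F458203) (iv7 D210621) (iv2 F458202)
theorem F458243 : act 1 n210621 = n201559 := d15_1 F458242 F420941 (iv2 F433058)
def n210622 : Q := act 3 n139448
theorem D210622 : act 3 n139448 = n210622 := rfl
def n210623 : Q := act 4 n139448
theorem D210623 : act 4 n139448 = n210623 := rfl
theorem F458244 : act 2 n210623 = n204798 := d1_1 D210623 F458207 F458209
theorem F458245 : act 7 n210623 = n203139 := d11_2 F458212 D210623 (iv4 F458215)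
theorem F458246 : act 6 n204797 = n210623 := d14_5 F458245 (iv6 D203139) F205158 D143404 (iv7 F433620)
def n210624 : Q := act 5 n139448
theorem D210624 : act 5 n139448 = n210624 := rfl
theorem F458247 : act 2 n210624 = n203407 := d2_1 D210624 (iv5 F458206) F458209
theorem F458248 : act 6 n210624 = n150577 := d21_9 (iv5 D127347) (iv1 F114267) (iv5 F186949) D203414 F458239 F458238 (iv5 D139450) D139448 D210624 F237095
def n210625 : Q := act 6 n139448
theorem D210625 : act 6 n139448 = n210625 := rfl
theorem F458249 : act 2 n210625 = n203408 := d3_1 D210625 (iv6 F458205) F458209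
theorem F458250 : act 4 n210625 = n204797 := d10_1 D210625 F458246 (iv4 D210623)
theorem F458251 : act 5 n210625 = n150578 := d12_1 D210625 (iv6 D150578) D150577 (iv6 F458248) (iv5 D210624)
theorem F458252 : act 7 n210625 = n202600 := d14_2 F458212 D210625 F424690 (iv7 F427115) F458213
theorem F458253 : act 1 n210116 = n210625 := d15_1 (iv0 F456235) F458252 (iv2 F431055)
def n210626 : Q := act 3 n139449
theorem D210626 : act 3 n139449 = n210626 := rfl
theorem F458254 : act 6 n210626 = n210249 := d7_2 F353582 D210626 F456737
def n210627 : Q := act 5 n139449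
theorem D210627 : act 5 n139449 = n210627 := rfl
theorem F458255 : act 6 n210627 = n191273 := d12_2 F353582 D210627 F382865 F355796 D138012
theorem F458256 : act 7 n210627 = n203407 := d13_2 (iv7 F458208) D210627 (iv5 F458206)
theorem F458257 : act 4 n191274 = n210627 := d10_3 F458255 (iv4 D191273) D191274
def n210628 : Q := act 0 n139450
theorem D210628 : act 0 n139450 = n210628 := rfl
theorem F458258 : act 3 n210628 = n193815 := d20_5 D199292 F411509 (iv4 D139457) (iv3 F222641) D210628 F391081 (iv1 F391082) (iv4 F391016) (iv3 F391023) (iv1 F222597)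
theorem F458259 : act 6 n203419 = n210628 := d7_0 F458258 F391069 F428217
theorem F458260 : act 7 n193812 = n210628 := d8_0 F458258 (iv7 D193815) (iv3 F391065)
theorem F458261 : act 5 n210399 = n210628 := d21_2 (iv5 D210401) D210399 (iv6 F458259) (iv1 D203419) (iv6 D118903) (iv5 D54721) D54718 D118891 D203407 F457406
theorem F458262 : act 6 n210399 = n192288 := d21_3 D139450 D210628 (iv5 F458261) (iv1 F386315) (iv6 D138026) (iv5 D64866) D64863 D138012 F353582 (iv1 D139449)
def n210629 : Q := act 1 n139450
theorem D210629 : act 1 n139450 = n210629 := rfl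
theorem F458263 : act 6 n193810 = n210629 := d21_3 (iv5 F403507) F431675 (iv5 F431674) (iv1 D210629) (iv6 F458238) (iv5 D210620) F387696 (iv5 F392115) (iv6 D194124) D194121
theorem F458264 : act 5 n210388 = n210629 := d21_6 (iv5 F395998) F410207 (iv5 D198990) (iv6 F246446) (iv1 F246450) D210388 (iv1 D210629) (iv5 D139450) (iv6 D65445) D65441
theorem F458265 : act 2 n210629 = n193812 := d3_1 F458263 (iv6 D193812) D193810
def n210630 : Q := act 4 n139450
theorem D210630 : act 4 n139450 = n210630 := rfl
def n210631 : Q := act 7 n139450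
theorem D210631 : act 7 n139450 = n210631 := rfl
theorem F458266 : act 3 n210631 = n139458 := d8_1 D210631 (iv7 D139458) (iv3 F222641)
theorem F458267 : act 5 n210631 = n139451 := d13_1 D210631 (iv7 D139451) D139450
theorem F458268 : act 1 n193812 = n210631 := d15_1 (iv0 F458217) (iv7 D210631) (iv2 F458216)
def n210632 : Q := act 3 n139452
theorem D210632 : act 3 n139452 = n210632 := rfl
theorem F458269 : act 4 n210632 = n153755 := d5_2 (iv4 F412537) D210632 F241616 (iv4 F241498) F412535
theorem F458270 : act 7 n210632 = n192643 := d8_2 (iv7 F343251) D210632 F387333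
theorem F458271 : act 0 n210632 = n152534 := d20_4 (iv4 F172879) D199528 (iv4 F412537) D210632 (iv3 D152534) (iv4 D71941) D71940 (iv4 F178880) (iv3 F364654) F363014
theorem F458272 : act 6 n191956 = n210632 := d14_5 F458270 (iv6 D192643) F312632 F366785 (iv7 F384998)
theorem F458273 : act 2 n210632 = n192724 := d15_3 (iv0 F457865) (iv0 F457866) (iv7 F458270)
def n210633 : Q := act 6 n139452
theorem D210633 : act 6 n139452 = n210633 := rfl
theorem F458274 : act 2 n210633 = n204127 := d3_1 D210633 F431141 F343250
theorem F458275 : act 3 n210633 = n191956 := d7_1 D210633 F458272 (iv3 D210632)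
theorem F458276 : act 5 n210633 = n161578 := d12_1 D210633 F255577 (iv5 F431127) F431128 F343252
theorem F458277 : act 7 n210633 = n161577 := d14_2 (iv7 F343251) D210633 F255574 F116508 D124070
theorem F458278 : act 1 n202655 = n210633 := d15_1 (iv0 F424956) F458277 F255573
theorem F458279 : act 1 n210633 = n191938 := d15_1 F458278 (iv7 F449426) F449423
def n210634 : Q := act 3 n139453
theorem D210634 : act 3 n139453 = n210634 := rfl
theorem F458280 : act 6 n210634 = n179846 := d7_2 (iv6 F343238) D210634 F280080
theorem F458281 : act 0 n210634 = n139490 := d21_4 (iv5 D191747) F304450 D179846 (iv6 F458280) (iv6 D139490) (iv5 D65462) (iv1 F84358) D115953 F334425 F384339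
def n210635 : Q := act 0 n139454
theorem D210635 : act 0 n139454 = n210635 := rfl
theorem F458282 : act 5 n210635 = n192731 := d17_3 (iv1 D139453) D139454 D210635 (iv4 F409189) F409190 (iv0 F412545) (iv5 D199530) D199529 F412540
theorem F458283 : act 3 n192732 = n210635 := d6_3 F458282 (iv3 D192731) D192732
def n210636 : Q := act 1 n139454
theorem D210636 : act 1 n139454 = n210636 := rfl
theorem F458284 : act 6 n204664 = n210636 := d21_3 (iv5 D209496) F452627 F452626 (iv1 D210636) F222643 (iv5 D65449) (iv1 F168883) D139389 D210552 F458011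
def n210637 : Q := act 4 n139454
theorem D210637 : act 4 n139454 = n210637 := rfl
theorem F458285 : act 6 n210637 = n139457 := d10_2 (iv6 F222643) D210637 (iv4 D139457)
def n210638 : Q := act 7 n139454
theorem D210638 : act 7 n139454 = n210638 := rfl
theorem F458286 : act 5 n210638 = n139455 := d13_1 D210638 (iv7 D139455) D139454
def n210639 : Q := act 0 n139457
theorem D210639 : act 0 n139457 = n210639 := rfl
theorem F458287 : act 4 n210639 = n198067 := d18_3 F101159 D139457 D210639 F406639 (iv4 F223467) F223466 (iv4 F172379) (iv0 D65092) D65094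
theorem F458288 : act 2 n210548 = n210639 := d15_3 (iv0 D210639) (iv0 F411509) (iv7 F457993)
theorem F458289 : act 5 n210639 = n198036 := d2_2 (iv5 F457994) F458288 (iv2 F412560)
theorem F458290 : act 7 n210639 = n199358 := d4_2 (iv7 F457993) F458288 F411840
theorem F458291 : act 1 n210409 = n210639 := d15_1 (iv0 F457425) F458290 F411840
def n210640 : Q := act 3 n139457
theorem D210640 : act 3 n139457 = n210640 := rfl
theorem F458292 : act 0 n185171 = n210640 := d20_4 F359551 (iv1 F290229) D88248 D185171 (iv3 D210640) (iv4 D139457) D139456 (iv4 F457997) F458002 F386204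
def n210641 : Q := act 5 n139457
theorem D210641 : act 5 n139457 = n210641 := rfl
theorem F458293 : act 4 n210641 = n140420 := d16_2 D139457 D210641 F223572 F101597 (iv5 F101614) (iv4 F180540) (iv5 F221804) F221803 F180537
theorem F458294 : act 1 n210641 = n198038 := d17_8 (iv1 F405580) F405578 (iv1 F168493) D108882 D198036 (iv5 F458289) (iv0 D210639) D210641 (iv4 D198038)
theorem F458295 : act 0 n210641 = n198040 := d18_0 (iv4 D198040) (iv1 D108884) D108885 D198044 F406575 F406644 (iv4 F458287) (iv0 D210639) D210641
theorem F458296 : act 3 n193290 = n178507 := d20_5 D198038 (iv1 F458294) F458293 F377743 D193290 (iv4 D178507) (iv1 F353056) (iv4 F352230) F168869 D108883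
theorem F458297 : act 4 n210150 = n193290 := d5_0 F458296 (iv4 D178507) (iv3 F354153) (iv4 F418858) (iv3 F456367)
theorem F458298 : act 6 n210149 = n193290 := d7_0 F458296 (iv6 F446699) (iv3 F456362)
theorem F458299 : act 3 n193282 = n210641 := d5_5 F458293 F377743 F156255 (iv3 F156253) (iv4 F389393)
theorem F458300 : act 6 n193280 = n210641 := d10_0 F458293 (iv6 F377745) (iv4 F389392)
theorem F458301 : act 7 n140419 = n210641 := d11_0 F458293 (iv7 D140420) D140419
theorem F458302 : act 5 n210640 = n193282 := d6_0 F458299 (iv5 D210641) D210640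
def n210642 : Q := act 7 n139457
theorem D210642 : act 7 n139457 = n210642 := rfl
theorem F458303 : act 2 n210642 = n210409 := d4_1 D210642 F457424 F424419
theorem F458304 : act 4 n210642 = n139458 := d11_1 D210642 (iv7 D139458) D139457
theorem F458305 : act 5 n210642 = n140419 := d13_1 D210642 F458301 (iv5 D210641)
theorem F458306 : act 1 n199358 = n210642 := d15_1 F424420 (iv7 D210642) (iv2 F424419)
theorem F458307 : act 1 n210642 = n210548 := d15_1 F458306 F457993 (iv2 F411840)
def n210643 : Q := act 6 n139461
theorem D210643 : act 6 n139461 = n210643 := rfl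
theorem F458308 : act 2 n210643 = n189163 := d3_1 D210643 F375896 (iv2 F362373)
theorem F458309 : act 4 n210643 = n139462 := d10_1 D210643 (iv6 D139462) D139461
theorem F458310 : act 0 n191968 = n210643 := d21_4 F408809 F408807 (iv5 F452918) F452919 (iv6 D210643) F222653 (iv1 F220498) (iv5 F225704) F361553 F408874
theorem F458311 : act 5 n193045 = n210643 := d21_8 (iv5 F402439) (iv1 F402440) F228390 D195920 F440414 (iv6 D206360) D206359 (iv1 F440409) (iv6 D210643) (iv1 F228410)
theorem F458312 : act 7 n210643 = n192962 := d16_8 (iv4 D101059) (iv5 D47080) F35207 D22649 D47100 D101116 D193045 F458311 F388351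
theorem F458313 : act 1 n191969 = n210643 := d15_1 (iv0 F385035) F458312 F388351
def n210644 : Q := act 1 n139467
theorem D210644 : act 1 n139467 = n210644 := rfl
theorem F458314 : act 1 n210644 = n139475 := d15_1 D210644 (iv7 D139475) (iv2 F222662)
theorem F458315 : act 7 n210644 = n139472 := d15_2 (iv0 F457073) D210644 (iv2 F457072)
theorem F458316 : act 2 n139473 = n210644 := d4_3 F458315 (iv2 F457072) (iv7 F457075)
theorem F458317 : act 5 n191434 = n210644 := d13_3 F458315 F349147 (iv7 F383483)
def n210645 : Q := act 5 n139467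
theorem D210645 : act 5 n139467 = n210645 := rfl
theorem F458318 : act 2 n210645 = n139474 := d2_1 D210645 (iv5 D139474) (iv2 F222662)
theorem F458319 : act 1 n210645 = n182266 := d17_8 D182265 (iv5 F294479) F294477 F151779 D191436 F457074 (iv0 F457073) D210645 (iv4 D182266)
def n210646 : Q := act 7 n139467
theorem D210646 : act 7 n139467 = n210646 := rfl
theorem F458320 : act 2 n210646 = n139475 := d4_1 D210646 (iv7 D139475) (iv2 F222662)
theorem F458321 : act 1 n139473 = n210646 := d15_1 D139473 (iv7 D210646) F222662
theorem F458322 : act 1 n210646 = n139472 := d15_1 F458321 (iv7 F458315) (iv2 F458316)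
def n210647 : Q := act 3 n139468
theorem D210647 : act 3 n139468 = n210647 := rfl
theorem F458323 : act 5 n210647 = n199047 := d6_2 F359136 D210647 F410466
theorem F458324 : act 6 n210647 = n192695 := d7_2 F454378 D210647 (iv3 F454376)
theorem F458325 : act 7 n210647 = n199045 := d8_2 (iv7 F359139) D210647 F410463
theorem F458326 : act 4 n210647 = n203462 := d20_6 F98201 (iv1 F81074) F81072 (iv3 F101160) D139468 D210647 (iv1 D203462) F354594 F168907 (iv1 F98204)
theorem F458327 : act 0 n201495 = n210647 := d18_0 F458326 (iv1 D203462) F354594 (iv5 D108902) (iv4 F162054) D195344 (iv4 F396771) F457882 (iv5 F457881)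
theorem F458328 : act 1 n201428 = n210647 := d18_6 (iv1 D54856) (iv4 F86799) F178545 (iv4 D114489) D114490 D201428 F458326 F428415 (iv5 D119207)
def n210648 : Q := act 4 n139468
theorem D210648 : act 4 n139468 = n210648 := rfl
theorem F458329 : act 2 n210648 = n199056 := d1_1 D210648 (iv4 D199056) (iv2 F359138)
theorem F458330 : act 7 n210648 = n199049 := d11_2 (iv7 F359139) D210648 (iv4 D199049)
theorem F458331 : act 0 n210648 = n201162 := d18_2 D139468 D210648 F419295 F411139 (iv4 F228409) F228410 (iv4 D139461) (iv0 D65451) D65454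
def n210649 : Q := act 0 n139470
theorem D210649 : act 0 n139470 = n210649 := rfl
theorem F458332 : act 5 n210649 = n210218 := d17_1 D210649 F456627 (iv5 F410514) (iv4 D199062) (iv5 D110899) (iv0 F359133) F359136 (iv0 D139468) D139470
theorem F458333 : act 4 n210649 = n199204 := d18_3 F359147 D139470 D210649 F411152 F172263 F181246 (iv4 F80661) (iv0 F359126) (iv5 F359150)
theorem F458334 : act 2 n199223 = n210649 := d15_3 (iv0 D210649) F454321 (iv7 F454320)
theorem F458335 : act 1 n210056 = n210649 := d15_0 (iv0 D210649) (iv7 F224268) (iv2 F455966)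
theorem F458336 : act 7 n210649 = n199202 := d15_2 F455970 F458335 (iv2 F454316)
def n210650 : Q := act 3 n139472
theorem D210650 : act 3 n139472 = n210650 := rfl
def n210651 : Q := act 4 n139472
theorem D210651 : act 4 n139472 = n210651 := rfl
theorem F458337 : act 6 n210651 = n203895 := d10_2 (iv6 F358664) D210651 F430285
theorem F458338 : act 5 n210651 = n203893 := d16_3 D185524 (iv5 F349147) D210651 F430274 (iv5 F393112) F393111 (iv5 F383435) F383438 F151780
theorem F458339 : act 3 n203897 = n210651 := d6_3 F458338 F430273 D203897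
theorem F458340 : act 0 n196919 = n210651 := d19_0 F458338 F430274 F378858 F378833 (iv5 D190093) (iv4 F367322) (iv3 D186585) (iv1 F136304) F337110 (iv4 D73485) F312228 (iv1 D31276) (iv5 F49104) (iv4 F101049) (iv3 F112431) F247989 (iv5 F333343) F180615 (iv3 F402287)
def n210652 : Q := act 3 n139473
theorem D210652 : act 3 n139473 = n210652 := rfl
def n210653 : Q := act 4 n139473
theorem D210653 : act 4 n139473 = n210653 := rfl
theorem F458341 : act 5 n210653 = n190952 := d16_1 D210653 (iv4 D190952) F149765 F135313 D88376 D185524 (iv5 F349147) (iv7 F458315) (iv2 F458316)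
theorem F458342 : act 3 n162605 = n210653 := d20_5 F104279 (iv1 F82124) (iv4 F104299) (iv3 F228383) F330952 (iv4 D210653) (iv1 D139473) (iv4 F104278) F104277 D68122
theorem F458343 : act 4 n210652 = n162604 := d5_4 D162605 F458342 (iv4 D210653) D210652 (iv3 D162604)
theorem F458344 : act 0 n210653 = n196919 := d20_4 (iv4 D78086) D78084 D162605 F458342 F402287 (iv4 F180615) (iv1 F333344) (iv4 F341147) (iv3 F341148) (iv1 D162611)
theorem F458345 : act 0 n184995 = n210652 := d20_4 F278933 F247761 F341133 F341132 (iv3 D210652) D210653 F458344 (iv4 F424547) F424546 F330624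
theorem F458346 : act 1 n205943 = n210652 := d15_0 (iv0 F458345) (iv7 F424423) (iv2 F438513)
theorem F458347 : act 6 n194707 = n210652 := d21_9 F438515 (iv1 F432308) F358776 (iv6 F358775) F343504 D184272 F286220 F439782 (iv5 F439781) (iv1 F458346)
theorem F458348 : act 6 n139473 = n210341 := d7_2 F458347 (iv3 D210652) (iv3 F457105)
def n210654 : Q := act 5 n139473
theorem D210654 : act 5 n139473 = n210654 := rfl
theorem F458349 : act 2 n210654 = n191434 := d2_1 D210654 F458317 (iv2 F458316)
theorem F458350 : act 4 n210654 = n191419 := d9_1 D210654 F383435 (iv4 F393111) F393112 (iv4 F430274) (iv5 F458338) (iv4 D210651) F349147 (iv4 D185524) (iv5 D88376) (iv4 F135313) (iv5 F149765) D190952 (iv5 F458341) (iv4 D210653)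
theorem F458351 : act 7 n210654 = n191436 := d13_2 (iv7 F457075) D210654 F457074
def n210655 : Q := act 4 n139474
theorem D210655 : act 4 n139474 = n210655 := rfl
theorem F458352 : act 5 n210655 = n193843 := d16_5 F400067 (iv5 D145300) F104278 D139474 D210655 F391179 F380581 (iv7 F381644) F381642
theorem F458353 : act 3 n210655 = n182180 := d19_3 (iv1 D139473) D139474 D210655 (iv1 F356425) (iv5 D171173) (iv4 D82033) D82032 (iv1 F335662) D89563 (iv4 F333330) (iv3 F428714) (iv1 F428718) (iv5 F428465) F428464 F273324 F273326 (iv5 F343427) (iv4 F458343) (iv3 D210652)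
theorem F458354 : act 6 n208381 = n210655 := d7_0 F458353 (iv6 F356424) (iv3 F449150)
theorem F458355 : act 4 n209599 = n208381 := d10_3 F458354 (iv4 D210655) (iv6 F454289)
def n210656 : Q := act 7 n139474
theorem D210656 : act 7 n139474 = n210656 := rfl
theorem F458356 : act 3 n210656 = n139483 := d8_1 D210656 (iv7 D139483) (iv3 F222665)
theorem F458357 : act 5 n210656 = n139475 := d13_1 D210656 (iv7 D139475) D139474
theorem F458358 : act 1 n182266 = n210656 := d15_1 F458319 (iv7 D210656) (iv2 F458318)
def n210657 : Q := act 3 n139476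
theorem D210657 : act 3 n139476 = n210657 := rfl
theorem F458359 : act 7 n210657 = n192599 := d8_2 (iv7 F372259) D210657 F387209
def n210658 : Q := act 5 n139476
theorem D210658 : act 5 n139476 = n210658 := rfl
theorem F458360 : act 2 n210658 = n204647 := d2_1 D210658 F433119 (iv2 F372261)
theorem F458361 : act 7 n210658 = n191478 := d13_2 (iv7 F372259) D210658 F383539
theorem F458362 : act 0 n210658 = n204229 := d21_1 D210658 (iv5 D204229) (iv6 D123176) F301671 (iv6 F329448) F80664 F39218 D30689 D65456 D139476
theorem F458363 : act 0 n204649 = n210658 := d21_1 (iv5 F433122) (iv5 D210658) F359223 F359225 F350345 F350341 F168732 (iv5 F216353) (iv6 F431563) (iv1 F431565)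
def n210659 : Q := act 4 n139478
theorem D210659 : act 4 n139478 = n210659 := rfl
theorem F458364 : act 3 n210659 = n208382 := d5_1 D210659 (iv4 D208382) (iv3 F449150) (iv4 F458355) F454288
theorem F458365 : act 6 n210659 = n139482 := d10_2 (iv6 F222667) D210659 (iv4 D139482)
def n210660 : Q := act 7 n139478
theorem D210660 : act 7 n139478 = n210660 := rfl
theorem F458366 : act 5 n210660 = n139479 := d13_1 D210660 (iv7 D139479) D139478
def n210661 : Q := act 1 n139482
theorem D210661 : act 1 n139482 = n210661 := rfl
theorem F458367 : act 7 n210661 = n210601 := d15_2 (iv0 F430852) D210661 F458173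
theorem F458368 : act 4 n210661 = n202525 := d18_7 (iv1 F180505) (iv4 F180508) (iv1 F98348) F50021 D65457 D139482 D210661 F424376 F222631
theorem F458369 : act 2 n210603 = n210661 := d1_3 F458368 (iv2 F424379) D210603
theorem F458370 : act 5 n208382 = n210661 := d9_0 F458368 F424378 F411718 (iv5 D131930) (iv4 F180509) D134249 D208383 F449152 F430851 (iv5 D177486) (iv4 F332919) (iv5 D131928) (iv4 F168468) D134247 D208382
def n210662 : Q := act 3 n139482
theorem D210662 : act 3 n139482 = n210662 := rfl
theorem F458371 : act 4 n210662 = n182180 := d5_2 D139482 D210662 (iv3 F458353) (iv4 D210655) F222665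
theorem F458372 : act 6 n210662 = n208382 := d7_2 F458365 D210662 (iv3 F458364)
theorem F458373 : act 0 n210662 = n204001 := d20_10 (iv4 D204001) F195849 D192297 F387148 (iv1 D191374) D191375 F384762 (iv1 D139481) D139482 D210662
theorem F458374 : act 0 n204003 = n210662 := d20_4 F430887 F345490 D208383 F449151 (iv3 D210662) (iv4 D139482) (iv1 F356530) (iv4 F430843) (iv3 F449179) F449181
def n210663 : Q := act 6 n139483
theorem D210663 : act 6 n139483 = n210663 := rfl
theorem F458375 : act 5 n210663 = n210410 := d12_1 D210663 (iv6 D210410) F221804 F180541 (iv5 F222670)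
theorem F458376 : act 0 n210663 = n191480 := d21_4 (iv5 D111213) F103415 (iv5 F222670) D210663 (iv6 D191480) (iv5 F151814) (iv1 F277450) D100025 (iv6 F386347) F386349
def n210664 : Q := act 5 n139485
theorem D210664 : act 5 n139485 = n210664 := rfl
theorem F458377 : act 2 n210664 = n139486 := d2_1 D210664 (iv5 D139486) D139485
theorem F458378 : act 7 n210664 = n205942 := d13_2 (iv7 F222672) D210664 (iv5 D205942)
theorem F458379 : act 1 n210664 = n199054 := d17_6 (iv1 D59547) D59549 D126889 (iv5 F204657) (iv4 F222671) D210664 (iv5 D199054) (iv0 F220522) F101822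
def n210665 : Q := act 6 n139485
theorem D210665 : act 6 n139485 = n210665 := rfl
theorem F458380 : act 2 n210665 = n139487 := d3_1 D210665 (iv6 D139487) D139485
theorem F458381 : act 4 n210665 = n147397 := d10_1 D210665 F337907 (iv4 F222671)
theorem F458382 : act 5 n210665 = n153840 := d21_6 (iv5 D41014) (iv1 F62504) D43652 D93323 (iv1 F362379) D210665 F310369 (iv5 F353759) (iv6 D103372) F293853
theorem F458383 : act 0 n210665 = n184993 := d21_10 F337993 F242632 F457375 F457372 F438694 (iv6 D199055) D199054 (iv1 F458379) (iv5 D210664) D210665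
theorem F458384 : act 7 n210665 = n147770 := d15_2 D184993 (iv0 F458383) F310368
theorem F458385 : act 0 n184992 = n210665 := d17_0 F458382 F310369 (iv5 F353759) F353758 (iv5 D154608) F109788 D73342 (iv0 F231574) (iv4 F337992)
def n210666 : Q := act 6 n139486
theorem D210666 : act 6 n139486 = n210666 := rfl
theorem F458386 : act 3 n210666 = n139490 := d7_1 D210666 (iv6 D139490) (iv3 F222674)
theorem F458387 : act 4 n210666 = n201359 := d10_1 D210666 F420162 F409126
theorem F458388 : act 5 n210666 = n154447 := d12_1 D210666 (iv6 D154447) (iv5 F336317) (iv6 D139487) D139486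
theorem F458389 : act 0 n204934 = n210666 := d21_4 (iv5 D58340) D58337 D124777 D204934 (iv6 D210666) (iv5 D139486) F222657 (iv5 F331757) (iv6 D184063) F308462
theorem F458390 : act 7 n185292 = n210666 := d13_0 F458388 F310896 D185292
def n210667 : Q := act 0 n139487
theorem D210667 : act 0 n139487 = n210667 := rfl
theorem F458391 : act 5 n210667 = n154497 := d17_1 D210667 (iv1 F242543) F231492 (iv4 D147747) (iv5 D69225) (iv0 D32192) D32194 D69233 (iv4 F336316)
theorem F458392 : act 1 n147770 = n210667 := d15_0 (iv0 D210667) F336318 (iv2 F310368)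
theorem F458393 : act 6 n194705 = n210667 := d21_9 F231511 (iv1 F242498) (iv5 F393136) F393137 F353932 (iv6 F313851) (iv5 F455697) (iv1 D210001) F424278 (iv1 F458392)
theorem F458394 : act 2 n210667 = n184993 := d3_1 F458393 F392540 (iv2 F424283)
theorem F458395 : act 3 n210667 = n210004 := d7_1 F458393 (iv6 D210004) (iv3 F424280)
theorem F458396 : act 7 n184992 = n210667 := d8_0 F458395 F455709 (iv3 F424414)
def n210668 : Q := act 1 n139487
theorem D210668 : act 1 n139487 = n210668 := rfl
theorem F458397 : act 1 n210668 = n147770 := d15_1 D210668 (iv7 F458384) F458380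
theorem F458398 : act 7 n210668 = n184993 := d15_2 (iv0 D210667) D210668 (iv2 F458394)
theorem F458399 : act 5 n210668 = n154498 := d17_7 (iv1 D33696) (iv5 D16284) D16282 D33688 D73159 (iv5 F336317) D210668 F242545 (iv4 D73188)
theorem F458400 : act 2 n184992 = n210668 := d2_3 F458399 (iv2 F242546) F337995
def n210669 : Q := act 6 n139489
theorem D210669 : act 6 n139489 = n210669 := rfl
theorem F458401 : act 4 n210669 = n139490 := d10_1 D210669 (iv6 D139490) D139489
theorem F458402 : act 0 n191762 = n210669 := d21_4 (iv5 D100419) D100417 (iv5 F338885) D191762 (iv6 D210669) (iv5 F413429) F413430 (iv5 F451070) F451072 F338828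
def n210670 : Q := act 0 n139490
theorem D210670 : act 0 n139490 = n210670 := rfl
theorem F458403 : act 6 n210670 = n192607 := d21_5 (iv5 D30694) D30691 D65462 D139490 D210670 F387227 F337086 F337090 (iv6 D139517) (iv1 D65471)
theorem F458404 : act 3 n192724 = n210670 := d7_3 F458403 F387229 D192724
def n210671 : Q := act 5 n139490
theorem D210671 : act 5 n139490 = n210671 := rfl
theorem F458405 : act 3 n210671 = n154447 := d6_1 D210671 (iv5 F458388) F458386
theorem F458406 : act 6 n210671 = n139493 := d12_2 D139490 D210671 (iv5 D139493) (iv6 D65463) D65462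
theorem F458407 : act 7 n185286 = n210671 := d14_0 F458406 F341131 F135129 D88281 D185286
def n210672 : Q := act 7 n139490
theorem D210672 : act 7 n139490 = n210672 := rfl
theorem F458408 : act 3 n210672 = n185292 := d8_1 D210672 F458390 F458386
theorem F458409 : act 5 n210672 = n185286 := d13_1 D210672 F458407 (iv5 D210671)
def n210673 : Q := act 5 n139491
theorem D210673 : act 5 n139491 = n210673 := rfl
theorem F458410 : act 1 n210673 = n154499 := d17_6 D118333 F348034 (iv1 F359175) (iv5 D139958) (iv4 F349411) D210673 F364524 (iv0 F233408) F185940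
def n210674 : Q := act 6 n139491
theorem D210674 : act 6 n139491 = n210674 := rfl
theorem F458411 : act 2 n210674 = n155604 := d3_1 D210674 (iv6 F366418) F349410
theorem F458412 : act 3 n210674 = n191920 := d7_1 D210674 (iv6 F457868) F457870
theorem F458413 : act 4 n210674 = n139959 := d10_1 D210674 (iv6 D139959) (iv4 F349411)
theorem F458414 : act 7 n210674 = n155603 := d14_2 F395977 D210674 F395983 (iv7 D195148) D195147
theorem F458415 : act 0 n210674 = n139535 := d21_4 (iv5 F364524) (iv1 F458410) (iv5 D210673) D210674 (iv6 D139535) (iv5 F328863) (iv1 F329246) F329247 D118332 F233408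
theorem F458416 : act 1 n210674 = n155606 := d15_1 (iv0 F458415) (iv7 D155606) (iv2 F323768)
theorem F458417 : act 4 n202393 = n192453 := d20_2 F423855 D202393 F386746 (iv1 F384832) (iv3 F458412) F458413 F359180 (iv4 F223303) (iv3 F455642) F455645
theorem F458418 : act 7 n192450 = n202393 := d11_0 F458417 (iv7 D192453) (iv4 F386745)
def n210675 : Q := act 5 n139495
theorem D210675 : act 5 n139495 = n210675 := rfl
theorem F458419 : act 3 n210675 = n192709 := d6_1 D210675 (iv5 F457832) (iv3 F457833)
theorem F458420 : act 4 n210675 = n194139 := d9_1 D210675 (iv5 D194139) F158028 F74939 (iv4 F75019) F356123 (iv4 F222635) (iv5 F413507) F448517 F448516 (iv4 F377175) F377176 (iv4 F357465) (iv5 D144139) (iv4 F222679)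
theorem F458421 : act 6 n210675 = n192593 := d12_2 F368783 D210675 (iv5 D192593) F177432 D184316
theorem F458422 : act 1 n210675 = n139515 := d17_6 F333131 (iv5 F103445) (iv1 F357463) (iv5 D144139) (iv4 F222679) D210675 F222694 (iv0 F224160) (iv4 F333133)
def n210676 : Q := act 5 n139497
theorem D210676 : act 5 n139497 = n210676 := rfl
theorem F458423 : act 2 n210676 = n139498 := d2_1 D210676 (iv5 D139498) D139497
theorem F458424 : act 3 n210676 = n205942 := d6_1 D210676 (iv5 D205942) (iv3 F222680)
def n210677 : Q := act 6 n139497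
theorem D210677 : act 6 n139497 = n210677 := rfl
theorem F458425 : act 2 n210677 = n139499 := d3_1 D210677 (iv6 D139499) D139497
theorem F458426 : act 3 n210677 = n205943 := d7_1 D210677 (iv6 D205943) (iv3 F222680)
theorem F458427 : act 4 n210677 = n208081 := d10_1 D210677 F447803 F425894
def n210678 : Q := act 0 n139498
theorem D210678 : act 0 n139498 = n210678 := rfl
theorem F458428 : act 5 n210678 = n202644 := d17_3 F390839 D139498 D210678 F424905 (iv5 F385934) (iv0 D144147) (iv5 D67532) D67530 (iv4 F222635)
theorem F458429 : act 3 n210678 = n207258 := d20_5 F372568 (iv1 F372567) (iv4 D139500) (iv3 F222681) D210678 (iv4 D207258) F363796 (iv4 F239986) (iv3 F363774) (iv1 F224429)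
def n210679 : Q := act 6 n139498
theorem D210679 : act 6 n139498 = n210679 := rfl
theorem F458430 : act 3 n210679 = n139501 := d7_1 D210679 (iv6 D139501) (iv3 F222681)
def n210680 : Q := act 0 n139499
theorem D210680 : act 0 n139499 = n210680 := rfl
def n210681 : Q := act 5 n139499
theorem D210681 : act 5 n139499 = n210681 := rfl
theorem F458431 : act 3 n210681 = n139504 := d6_1 D210681 (iv5 D139504) (iv3 F222682)
def n210682 : Q := act 7 n139499
theorem D210682 : act 7 n139499 = n210682 := rfl
theorem F458432 : act 3 n210682 = n139505 := d8_1 D210682 (iv7 D139505) (iv3 F222682)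
def n210683 : Q := act 5 n139500
theorem D210683 : act 5 n139500 = n210683 := rfl
theorem F458433 : act 3 n210683 = n191878 := d6_1 D210683 (iv5 D191878) (iv3 F372987)
theorem F458434 : act 4 n210683 = n140056 := d9_1 D210683 F223265 F323724 F322088 (iv4 D65461) D65462 D139489 (iv5 F413429) (iv4 F413431) F223266 (iv4 F181319) (iv5 F181595) F85077 D65466 D139500
theorem F458435 : act 1 n210683 = n192590 := d17_6 F180559 (iv5 D115953) (iv1 F84360) D65466 D139500 D210683 (iv5 F451070) (iv0 D208841) F350364
def n210684 : Q := act 6 n139500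
theorem D210684 : act 6 n139500 = n210684 := rfl
theorem F458436 : act 3 n210684 = n191879 := d7_1 D210684 (iv6 D191879) (iv3 F372987)
theorem F458437 : act 4 n210684 = n139501 := d10_1 D210684 (iv6 D139501) D139500
def n210685 : Q := act 0 n139501
theorem D210685 : act 0 n139501 = n210685 := rfl
def n210686 : Q := act 1 n139501
theorem D210686 : act 1 n139501 = n210686 := rfl
theorem F458438 : act 4 n209464 = n210686 := d20_6 F375657 F386791 (iv4 F390423) F390421 (iv1 F220053) D209464 (iv1 D210686) (iv4 F458437) F458436 F387557
theorem F458439 : act 6 n187153 = n210686 := d21_3 F135031 F142412 D187153 (iv1 D210686) (iv6 D139501) (iv5 D65466) (iv1 D30692) D30694 D65473 (iv1 F329566)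
theorem F458440 : act 2 n210686 = n192599 := d3_1 F458439 (iv6 D192599) (iv2 F369251)
theorem F458441 : act 3 n210686 = n187158 := d7_1 F458439 F369258 (iv3 F369252)
theorem F458442 : act 5 n210686 = n187152 := d12_1 F458439 (iv6 D187152) (iv5 D89611) D89612 D187153
def n210687 : Q := act 5 n139501
theorem D210687 : act 5 n139501 = n210687 := rfl
theorem F458443 : act 6 n210687 = n139504 := d12_2 D139501 D210687 (iv5 D139504) (iv6 D65467) D65466
def n210688 : Q := act 7 n139501
theorem D210688 : act 7 n139501 = n210688 := rfl
theorem F458444 : act 1 n192599 = n210688 := d15_1 (iv0 F387210) (iv7 D210688) (iv2 F224222)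
def n210689 : Q := act 5 n139503
theorem D210689 : act 5 n139503 = n210689 := rfl
theorem F458445 : act 3 n210689 = n192442 := d6_1 D210689 (iv5 F457914) F457913
theorem F458446 : act 4 n210689 = n191460 := d9_1 D210689 F450318 F450316 (iv5 D204151) F197123 F311028 (iv4 F111682) D156483 F430645 (iv5 F411704) F430644 (iv5 D203970) F195541 F341104 (iv4 F341111)
def n210690 : Q := act 1 n139504
theorem D210690 : act 1 n139504 = n210690 := rfl
theorem F458447 : act 1 n210690 = n185285 := d15_1 D210690 (iv7 F424433) F424431
theorem F458448 : act 5 n210690 = n155681 := d17_7 D74063 D155688 (iv1 F425885) (iv5 D202854) F182984 D139504 D210690 (iv0 D155681) F110814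
theorem F458449 : act 4 n210254 = n210690 := d9_15 F458448 F348149 F224439 (iv4 F429793) F429794 F217241 D208394 F449176 F430835 (iv4 F312221) (iv5 F223132) (iv4 F339043) (iv5 D138046) (iv4 F221293) D210254
def n210691 : Q := act 4 n139504
theorem D210691 : act 4 n139504 = n210691 := rfl
def n210692 : Q := act 7 n139504
theorem D210692 : act 7 n139504 = n210692 := rfl
theorem F458450 : act 2 n210692 = n185285 := d4_1 D210692 (iv7 F424433) F424431
theorem F458451 : act 5 n210692 = n139505 := d13_1 D210692 (iv7 D139505) D139504
theorem F458452 : act 6 n185281 = n210692 := d12_0 F458451 (iv6 F424456) F424455 F287390 D185281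
def n210693 : Q := act 3 n139506
theorem D210693 : act 3 n139506 = n210693 := rfl
theorem F458453 : act 2 n210693 = n209452 := d0_1 D210693 F453769 F412789 F172980 (iv2 F222683)
theorem F458454 : act 4 n210693 = n192756 := d5_2 D139506 D210693 F387680 F154662 (iv3 F329670)
theorem F458455 : act 5 n210693 = n209150 := d6_2 F424659 D210693 (iv3 F452472)
theorem F458456 : act 6 n210693 = n192625 := d7_2 F365353 D210693 F387272
theorem F458457 : act 7 n210693 = n193377 := d8_2 F424461 D210693 F424465
theorem F458458 : act 0 n210693 = n198327 := d20_10 (iv4 D198327) (iv1 D109201) (iv4 F169152) (iv3 D109171) D109169 D198307 (iv4 F407558) (iv1 F180564) D139506 D210693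
theorem F458459 : act 0 n198324 = n210693 := d20_4 F354742 F450217 F450213 (iv3 F407612) (iv3 D210693) (iv4 D139506) (iv1 F180565) D202554 F424475 (iv1 D191804)
def n210694 : Q := act 2 n139515
theorem D210694 : act 2 n139515 = n210694 := rfl
theorem F458460 : act 3 n210694 = n188395 := d0_2 D139515 D210694 (iv2 F373281) F369484 F181691
theorem F458461 : act 5 n210694 = n141184 := d2_2 (iv5 F222694) D210694 (iv2 D141184)
theorem F458462 : act 4 n210694 = n203036 := d16_0 (iv5 D203036) (iv4 F383045) (iv5 D191323) F355655 (iv5 D142363) (iv4 F181200) (iv5 F424469) F424470 D210694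
theorem F458463 : act 6 n201209 = n210694 := d10_0 F458462 (iv6 F454631) F454630
def n210695 : Q := act 4 n139515
theorem D210695 : act 4 n139515 = n210695 := rfl
theorem F458464 : act 2 n210695 = n203036 := d1_1 D210695 (iv4 F458462) (iv2 D210694)
theorem F458465 : act 3 n210695 = n189159 := d5_1 D210695 (iv4 F387561) F387559 (iv4 D139516) D139515
theorem F458466 : act 5 n210695 = n194228 := d16_3 F181718 (iv5 F222694) D210695 (iv4 D194228) (iv5 D103015) D103014 (iv5 F355618) (iv7 F425180) (iv2 D202701)
theorem F458467 : act 0 n210695 = n203750 := d18_2 (iv1 F424444) D210695 F429681 F357488 D139362 (iv0 F222582) F183001 (iv0 F390839) (iv5 F413507)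
theorem F458468 : act 1 n210695 = n146934 := d18_6 D65373 D139281 F222474 F181718 (iv5 F222694) D210695 (iv4 F357472) (iv0 D139289) (iv5 D65376)
theorem F458469 : act 6 n210695 = n189158 := d21_5 (iv5 D135355) (iv1 F167779) D197624 F405073 (iv1 F458468) (iv5 F390123) (iv1 F390124) (iv5 F450370) (iv6 D208662) F361760
def n210696 : Q := act 6 n139515
theorem D210696 : act 6 n139515 = n210696 := rfl
theorem F458470 : act 2 n210696 = n201209 := d3_1 D210696 F458463 (iv2 D210694)
theorem F458471 : act 3 n210696 = n139517 := d7_1 D210696 (iv6 D139517) D139515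
theorem F458472 : act 4 n210696 = n189158 := d10_1 D210696 (iv6 F458469) (iv4 D210695)
theorem F458473 : act 5 n210696 = n201200 := d12_1 D210696 (iv6 F457082) F457081 F322121 (iv5 F222694)
theorem F458474 : act 7 n201208 = n210696 := d13_0 F458473 F419423 D201208
def n210697 : Q := act 1 n139517
theorem D210697 : act 1 n139517 = n210697 := rfl
theorem F458475 : act 4 n210357 = n210697 := d20_6 (iv4 F367535) (iv1 F367994) (iv4 D93301) D93300 (iv1 F375876) (iv3 F457187) (iv1 D210697) (iv4 F424930) F424927 (iv1 F359442)
theorem F458476 : act 6 n188604 = n210697 := d21_3 D191740 F448682 (iv5 F448681) (iv1 D210697) (iv6 D139517) F105781 (iv1 D30950) D30952 D66236 (iv1 F338881)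
theorem F458477 : act 3 n210697 = n192743 := d7_1 F458476 (iv6 D192743) F374176
def n210698 : Q := act 7 n139517
theorem D210698 : act 7 n139517 = n210698 := rfl
theorem F458478 : act 3 n210698 = n201208 := d8_1 D210698 F458474 F458471
theorem F458479 : act 4 n210698 = n191773 := d11_1 D210698 (iv7 F424929) F424930
theorem F458480 : act 5 n210698 = n143133 := d13_1 D210698 F325375 F337090
def n210699 : Q := act 3 n139518
theorem D210699 : act 3 n139518 = n210699 := rfl
theorem F458481 : act 4 n210699 = n206864 := d5_2 (iv4 F222695) D210699 F442451 (iv4 F219495) F361545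
theorem F458482 : act 6 n210699 = n197692 := d7_2 F453498 D210699 (iv3 F453497)
theorem F458483 : act 0 n210699 = n204518 := d21_4 F450663 (iv1 F445958) (iv5 F445952) (iv6 F458482) F432789 (iv5 D123933) D123931 (iv5 F429698) (iv6 F429702) (iv1 F450665)
def n210700 : Q := act 5 n139518
theorem D210700 : act 5 n139518 = n210700 := rfl
theorem F458484 : act 2 n210700 = n191785 := d2_1 D210700 (iv5 F424486) F424485
theorem F458485 : act 4 n210700 = n140044 := d9_1 D210700 (iv5 D140044) (iv4 D65740) (iv5 F105780) D30987 D66351 F223160 F361418 F361419 (iv5 D140035) (iv4 D65735) (iv5 F105775) D30982 D66332 (iv4 F222695)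
theorem F458486 : act 0 n210700 = n141484 := d17_2 D139518 D210700 (iv5 F424923) (iv4 D202647) (iv5 D116252) F84537 (iv5 F180560) (iv0 D65470) D65472
theorem F458487 : act 1 n210700 = n141204 := d17_6 (iv1 F224429) (iv5 D141384) (iv1 D66330) D66332 (iv4 F222695) D210700 (iv5 D141204) D141203 F224232
theorem F458488 : act 6 n188175 = n210700 := d10_0 F458485 F359692 D188175
def n210701 : Q := act 3 n139519
theorem D210701 : act 3 n139519 = n210701 := rfl
theorem F458489 : act 4 n210701 = n187935 := d5_2 F223160 D210701 (iv3 F437511) F437514 F224459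
theorem F458490 : act 0 n151985 = n210701 := d20_10 F458489 (iv1 D187935) (iv4 F371869) (iv3 F449906) F449909 (iv3 F439729) (iv4 D206211) F325368 D140849 (iv3 F356691)
def n210702 : Q := act 0 n139520
theorem D210702 : act 0 n139520 = n210702 := rfl
theorem F458491 : act 5 n210702 = n139940 := d17_1 D210702 (iv1 F224208) (iv5 F388484) (iv4 F388485) (iv5 D116322) D116321 (iv5 F223266) (iv0 F424613) F424611
theorem F458492 : act 4 n210702 = n139990 := d18_3 (iv1 F424614) F424611 D210702 (iv5 D139990) (iv4 D65721) F181589 D66359 F181316 (iv5 F223265)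
theorem F458493 : act 1 n140058 = n210702 := d15_0 (iv0 D210702) (iv7 F424489) F424488
theorem F458494 : act 3 n204517 = n210702 := d20_3 (iv4 D209027) D209025 F451899 (iv1 F458493) F413433 F413434 F442906 F396506 (iv3 F452545) (iv1 F452548)
def n210703 : Q := act 1 n139520
theorem D210703 : act 1 n139520 = n210703 := rfl
theorem F458495 : act 1 n210703 = n140058 := d15_1 D210703 (iv7 F424660) F424658
theorem F458496 : act 5 n210703 = n139983 := d17_7 (iv1 F181591) (iv5 D65466) (iv1 D30692) D30694 D65472 D139520 D210703 (iv0 F224207) (iv4 D141190)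
theorem F458497 : act 4 n210703 = n139949 := d17_9 (iv1 F360240) F360241 (iv1 F181270) D140044 (iv4 F458485) (iv5 D210700) (iv0 D139518) D139520 D210703
theorem F458498 : act 3 n199788 = n210703 := d19_19 (iv1 D210703) (iv5 D139520) (iv4 D65472) F49139 F39267 F39266 F38962 (iv3 F45694) F45696 (iv5 F38022) F38021 F26053 (iv1 F24283) (iv5 F38988) (iv4 F38991) D30685 D65441 (iv5 F395998) D199788
theorem F458499 : act 6 n208775 = n210703 := d21_9 (iv5 D139520) D139518 D210700 (iv6 F458488) (iv1 F453568) (iv6 D209397) F219507 D136463 (iv5 F450817) (iv1 D210703)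
def n210704 : Q := act 6 n139520
theorem D210704 : act 6 n139520 = n210704 := rfl
def n210705 : Q := act 5 n139521
theorem D210705 : act 5 n139521 = n210705 := rfl
theorem F458500 : act 2 n210705 = n192630 := d2_1 D210705 F387276 (iv2 F365354)
theorem F458501 : act 7 n210705 = n192573 := d13_2 F365355 D210705 (iv5 D192573)
theorem F458502 : act 4 n210705 = n192539 := d16_2 (iv4 F222696) D210705 (iv5 D192539) (iv4 D100361) (iv5 D46827) F35049 D22516 D46879 F329568
theorem F458503 : act 1 n192627 = n210705 := d15_1 D192627 F458501 F387126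
theorem F458504 : act 1 n210705 = n192626 := d15_0 (iv0 D192626) D192630 (iv2 F458500)
def n210706 : Q := act 6 n139532
theorem D210706 : act 6 n139532 = n210706 := rfl
theorem F458505 : act 2 n210706 = n194703 := d3_1 D210706 (iv6 D194703) (iv2 F357434)
theorem F458506 : act 3 n210706 = n139535 := d7_1 D210706 (iv6 D139535) D139532
theorem F458507 : act 4 n210706 = n193473 := d10_1 D210706 (iv6 F389978) F380507
theorem F458508 : act 5 n210706 = n172402 := d12_1 D210706 F270634 D173892 (iv6 F369147) F369146
def n210707 : Q := act 5 n139549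
theorem D210707 : act 5 n139549 = n210707 := rfl
theorem F458509 : act 2 n210707 = n177954 := d2_1 D210707 (iv5 F457939) F457937
theorem F458510 : act 3 n210707 = n193638 := d6_1 D210707 F390535 (iv3 F365299)
theorem F458511 : act 6 n210707 = n177865 := d12_2 D139549 D210707 (iv5 F277451) (iv6 F343865) F343864
theorem F458512 : act 7 n210707 = n177953 := d13_2 F447657 D210707 F447659
theorem F458513 : act 0 n210707 = n177761 := d17_2 F413532 D210707 (iv5 F343237) (iv4 F412540) (iv5 F412541) (iv0 D192454) (iv5 F374511) (iv0 F374513) (iv4 F413530)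
theorem F458514 : act 0 n177955 = n210707 := d21_1 (iv5 F343252) (iv5 D210707) (iv6 D139549) (iv1 D65479) (iv6 D30696) (iv5 D14548) D14545 D30686 D65446 D139452
def n210708 : Q := act 3 n139566
theorem D210708 : act 3 n139566 = n210708 := rfl
theorem F458515 : act 5 n210708 = n192039 := d6_2 (iv5 F345079) D210708 F386142
theorem F458516 : act 6 n210708 = n187071 := d7_2 F345083 D210708 (iv3 D187071)
theorem F458517 : act 7 n210708 = n188075 := d8_2 (iv7 F345081) D210708 (iv3 D188075)
theorem F458518 : act 0 n210708 = n194482 := d20_4 F292869 (iv1 F335656) D139566 D210708 (iv3 F393958) F393957 F390864 F390862 (iv3 F329816) F329815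
theorem F458519 : act 0 n191472 = n210708 := d20_4 (iv4 F377081) (iv1 F377083) F376328 (iv3 F383534) (iv3 D210708) (iv4 D139566) (iv1 F222710) F357137 (iv3 F393392) (iv1 F393398)
def n210709 : Q := act 4 n139568
theorem D210709 : act 4 n139568 = n210709 := rfl
theorem F458520 : act 2 n210709 = n193880 := d1_1 D210709 F391288 F343871
theorem F458521 : act 3 n210709 = n199916 := d5_1 D210709 (iv4 D199916) F174055 (iv4 F219027) F363015
theorem F458522 : act 6 n210709 = n192199 := d10_2 (iv6 F343256) D210709 (iv4 D192199)
theorem F458523 : act 5 n210709 = n193880 := d16_1 D210709 F391288 F343872 (iv4 F406036) (iv5 F410587) F410588 (iv5 F391290) (iv7 D193881) F343871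
def n210710 : Q := act 0 n139595
theorem D210710 : act 0 n139595 = n210710 := rfl
theorem F458524 : act 5 n210710 = n196385 := d17_1 D210710 (iv1 F400539) (iv5 D108593) F79424 F38374 F78130 D106937 (iv0 F164811) (iv4 F222741)
theorem F458525 : act 4 n210710 = n143966 := d18_1 D210710 F410417 F410413 F404748 (iv4 F423069) (iv0 D202153) (iv4 F351862) (iv0 F386751) F386750
theorem F458526 : act 2 n202477 = n210710 := d15_3 (iv0 D210710) F226614 (iv7 F424170)
theorem F458527 : act 1 n143932 = n210710 := d15_0 (iv0 D210710) (iv7 F404765) F404763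
theorem F458528 : act 7 n210710 = n202437 := d15_2 (iv0 F226613) F458527 F423986
theorem F458529 : act 6 n139619 = n210710 := d14_5 F458528 (iv6 D202437) F202600 F216242 F226755
def n210711 : Q := act 5 n139596
theorem D210711 : act 5 n139596 = n210711 := rfl
theorem F458530 : act 3 n210711 = n139597 := d6_1 D210711 (iv5 D139597) D139596
def n210712 : Q := act 6 n139596
theorem D210712 : act 6 n139596 = n210712 := rfl
theorem F458531 : act 3 n210712 = n139598 := d7_1 D210712 (iv6 D139598) D139596
theorem F458532 : act 4 n210712 = n139605 := d10_1 D210712 (iv6 D139605) (iv4 F222742)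
def n210713 : Q := act 4 n139597
theorem D210713 : act 4 n139597 = n210713 := rfl
theorem F458533 : act 2 n210713 = n203243 := d1_1 D210713 F427518 F396840
theorem F458534 : act 6 n210713 = n145103 := d10_2 F351853 D210713 F228102
theorem F458535 : act 7 n210713 = n202769 := d11_2 F396838 D210713 F425502
theorem F458536 : act 5 n210713 = n205909 := d16_1 D210713 (iv4 D205909) (iv5 D126754) F111352 (iv5 F79802) D109280 D198400 F407887 F396840
theorem F458537 : act 0 n210713 = n209639 := d18_2 (iv1 F222743) D210713 F454431 F227560 F219993 F100137 (iv4 F203989) (iv0 D126764) D126767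
theorem F458538 : act 1 n210713 = n197385 := d18_6 F162093 (iv4 F111231) F111292 D65518 D139597 D210713 (iv4 D197385) (iv0 F396866) (iv5 D195378)
theorem F458539 : act 3 n210713 = n203256 := d20_3 (iv4 D205923) (iv1 F222743) D210713 (iv1 F427538) F396820 D195375 F404053 (iv4 F407878) (iv3 F425497) (iv1 F438439)
def n210714 : Q := act 5 n139603
theorem D210714 : act 5 n139603 = n210714 := rfl
theorem F458540 : act 2 n210714 = n139604 := d2_1 D210714 (iv5 D139604) D139603
theorem F458541 : act 3 n210714 = n188677 := d6_1 D210714 F374412 (iv3 F365060)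
theorem F458542 : act 6 n210714 = n193584 := d12_2 (iv6 F389827) D210714 (iv5 D193584) F328322 D193439
theorem F458543 : act 7 n210714 = n189034 := d13_2 F365061 D210714 F375506
theorem F458544 : act 4 n210714 = n190177 := d17_4 (iv1 D99516) D99517 (iv1 F365067) D210714 (iv5 F379040) (iv0 D184203) (iv5 D87859) D87858 (iv4 F157789)
theorem F458545 : act 1 n210714 = n188679 := d17_8 F369641 F138087 (iv1 F331237) (iv5 D103206) D103205 (iv5 F349994) F365066 D210714 F374427
def n210715 : Q := act 6 n139604
theorem D210715 : act 6 n139604 = n210715 := rfl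
theorem F458546 : act 2 n210715 = n193584 := d3_1 D210715 (iv6 F458542) F458540
theorem F458547 : act 3 n210715 = n139607 := d7_1 D210715 (iv6 D139607) (iv3 F222758)
theorem F458548 : act 4 n210715 = n190091 := d10_1 D210715 F393099 (iv4 F393098)
theorem F458549 : act 5 n210715 = n192076 := d12_1 D210715 (iv6 F389823) (iv5 F389824) (iv6 D139605) D139604
def n210716 : Q := act 0 n139605
theorem D210716 : act 0 n139605 = n210716 := rfl
def n210717 : Q := act 1 n139605
theorem D210717 : act 1 n139605 = n210717 := rfl
def n210718 : Q := act 4 n139610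
theorem D210718 : act 4 n139610 = n210718 := rfl
theorem F458550 : act 2 n210718 = n193886 := d1_1 D210718 F391296 (iv2 F357155)
theorem F458551 : act 6 n210718 = n192202 := d10_2 F356408 D210718 F385975
theorem F458552 : act 5 n210718 = n193886 := d16_1 D210718 F391296 F357156 F222565 (iv5 F168317) D143881 (iv5 F433715) F433717 (iv2 F357155)
theorem F458553 : act 0 n210718 = n202754 := d17_0 (iv5 F457811) (iv1 F457812) F411937 (iv4 D139308) (iv5 D65381) D65380 (iv5 F342821) (iv0 F342824) D210718
theorem F458554 : act 1 n210718 = n210503 := d18_6 (iv1 F226513) F222599 F101141 (iv4 F101198) D139610 D210718 (iv4 D210503) F391291 F391290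
theorem F458555 : act 3 n203545 = n210718 := d6_3 F458552 F391295 D203545
def n210719 : Q := act 4 n139613
theorem D210719 : act 4 n139613 = n210719 := rfl
theorem F458556 : act 2 n210719 = n210364 := d1_1 D210719 (iv4 D210364) (iv2 F357943)
theorem F458557 : act 7 n210719 = n210361 := d11_2 (iv7 F357942) D210719 (iv4 D210361)
theorem F458558 : act 5 n210719 = n174055 := d16_1 D210719 (iv4 D174055) F272690 (iv4 F310426) F310427 (iv4 F272733) F357938 (iv7 F357945) (iv2 F357943)
theorem F458559 : act 0 n210719 = n197466 := d17_0 (iv5 F404455) (iv1 F387315) F387313 (iv4 D108477) (iv5 F364111) F387340 F387337 F222766 D210719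
theorem F458560 : act 1 n210719 = n196414 := d18_6 (iv1 F384962) F154564 F152497 (iv4 F195698) (iv5 F357933) D210719 (iv4 F434265) F434266 (iv5 F389348)
def n210720 : Q := act 3 n139614
theorem D210720 : act 3 n139614 = n210720 := rfl
theorem F458561 : act 5 n210720 = n192800 := d6_2 F357938 D210720 F387825
theorem F458562 : act 7 n210720 = n210363 := d8_2 F357945 D210720 (iv3 D210363)
theorem F458563 : act 4 n189071 = n210720 := d20_2 F385070 F385621 (iv3 D210720) (iv1 D139614) (iv3 D65526) (iv4 D30711) F24198 D24442 D50113 D108524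
theorem F458564 : act 6 n210720 = n189070 := d10_2 D189071 F458563 (iv4 D189070)
theorem F458565 : act 0 n210720 = n199264 := d18_2 F385621 F458563 (iv4 D199264) F380326 (iv4 F368641) (iv0 D186952) F137094 D89417 (iv5 F155573)
theorem F458566 : act 0 n192910 = n210720 := d20_1 (iv4 F388187) (iv4 F458563) F457157 (iv1 D210352) (iv3 D138361) (iv4 D64993) (iv1 F53606) (iv4 F111674) (iv3 F172465) (iv1 F172470)
def n210721 : Q := act 4 n139614
theorem D210721 : act 4 n139614 = n210721 := rfl
theorem F458567 : act 2 n210721 = n210361 := d1_1 D210721 (iv4 D210361) (iv2 F357941)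
theorem F458568 : act 3 n210721 = n196391 := d5_1 D210721 (iv4 F457156) (iv3 F457157) F458563 (iv3 D210720)
theorem F458569 : act 5 n210721 = n166738 := d9_2 F357938 D210721 F262470 (iv5 F330849) (iv4 F317269) D98955 (iv4 F195698) (iv5 F357933) D210719 F458558 (iv4 D174055) F272690 (iv4 F310426) F310427 (iv4 F272733)
theorem F458570 : act 7 n210721 = n210364 := d11_2 F357945 D210721 (iv4 D210364)
theorem F458571 : act 0 n210721 = n196414 := d17_0 F400633 (iv1 F387402) F387399 (iv4 D108472) (iv5 F357957) F357956 (iv5 D139616) D139614 D210721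
theorem F458572 : act 1 n210721 = n197466 := d18_8 (iv1 F387315) (iv4 D192639) D192637 (iv4 F400728) F400729 F167298 D139614 D210721 (iv5 F404455)
def n210722 : Q := act 6 n139614
theorem D210722 : act 6 n139614 = n210722 := rfl
theorem F458573 : act 2 n210722 = n210362 := d3_1 D210722 (iv6 D210362) (iv2 F357941)
theorem F458574 : act 3 n210722 = n189070 := d7_1 D210722 (iv6 F458564) (iv3 D210720)
theorem F458575 : act 0 n210722 = n156338 := d21_4 F332989 D101149 F357938 D210722 F245681 (iv5 F375006) (iv1 F375010) D188830 F375028 F357646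
def n210723 : Q := act 0 n139618
theorem D210723 : act 0 n139618 = n210723 := rfl
theorem F458576 : act 5 n210723 = n210127 := d17_3 (iv1 F449042) F401879 D210723 (iv4 D210127) D210128 F456281 F423412 (iv0 F423384) F423382
theorem F458577 : act 4 n210723 = n208788 := d20_0 (iv1 F450877) F447584 (iv3 D198233) (iv1 D109066) (iv3 F169054) (iv4 F331083) (iv1 F159483) D192777 (iv3 F387726) D210723
theorem F458578 : act 6 n210723 = n198780 := d21_5 (iv5 F95114) F95115 D65527 D139618 D210723 F409206 (iv1 D134748) F98565 (iv6 D50138) D50135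
theorem F458579 : act 2 n198770 = n210723 := d15_3 (iv0 D210723) (iv0 F360047) D198770
theorem F458580 : act 1 n198768 = n210723 := d15_0 (iv0 D210723) F401877 F409152
theorem F458581 : act 7 n210723 = n198752 := d15_2 D198768 F458580 F409086
def n210724 : Q := act 3 n139619
theorem D210724 : act 3 n139619 = n210724 := rfl
theorem F458582 : act 4 n210724 = n210174 := d5_2 (iv4 F228694) D210724 (iv3 D210174) F344616 D145660
theorem F458583 : act 7 n210724 = n208345 := d8_2 F226755 D210724 (iv3 D208345)
theorem F458584 : act 5 n210286 = n210724 := d13_3 F458583 (iv5 F455577) F456856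
theorem F458585 : act 0 n197407 = n210724 := d20_1 (iv4 F404169) F458582 (iv3 D210174) (iv1 D137805) (iv3 F161983) F161984 F99652 (iv4 F162035) (iv3 F396741) (iv1 F404144)
def n210725 : Q := act 5 n139619
theorem D210725 : act 5 n139619 = n210725 := rfl
theorem F458586 : act 2 n210725 = n202625 := d2_1 D210725 F424813 F226754
theorem F458587 : act 3 n210725 = n210286 := d6_1 D210725 F458584 (iv3 D210724)
theorem F458588 : act 4 n210725 = n202160 := d9_1 D210725 F423092 (iv4 D137355) (iv5 F331009) (iv4 F410170) F410171 F226750 (iv5 F407716) F407715 (iv5 F422304) (iv4 F422439) (iv5 F430630) F430629 (iv5 F228691) (iv4 F228694)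
theorem F458589 : act 7 n210725 = n199822 := d13_2 F226755 D210725 F413649
theorem F458590 : act 0 n210725 = n196295 := d17_2 D139619 D210725 (iv5 D196295) (iv4 D106881) D106882 (iv0 F216879) F216877 (iv0 D65529) (iv4 F101249)
theorem F458591 : act 1 n210725 = n196298 := d17_6 (iv1 F220938) (iv5 F207325) F228697 (iv5 F228691) (iv4 F228694) D210725 (iv5 D196298) F216747 (iv4 F220935)
theorem F458592 : act 6 n202158 = n210725 := d14_5 F458589 (iv6 D199822) F173470 D198357 (iv7 F423086)
def n210726 : Q := act 3 n139622
theorem D210726 : act 3 n139622 = n210726 := rfl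
theorem F458593 : act 4 n210726 = n200810 := d5_2 D139622 D210726 F418001 (iv4 D138282) F168313
theorem F458594 : act 5 n210726 = n198875 := d6_2 (iv5 F331023) D210726 F409696
theorem F458595 : act 7 n210726 = n200506 := d8_2 (iv7 F222782) D210726 F416768
theorem F458596 : act 2 n210726 = n200816 := d15_3 F418036 F416772 (iv7 F458595)
theorem F458597 : act 0 n197632 = n210726 := d17_0 F458594 F409699 (iv5 D192504) F154230 (iv5 F136891) F352448 D209950 (iv0 F455501) (iv4 F405109)
def n210727 : Q := act 4 n139626
theorem D210727 : act 4 n139626 = n210727 := rfl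
theorem F458598 : act 3 n210727 = n208654 := d5_1 D210727 (iv4 D208654) F217087 (iv4 F101261) (iv3 F222791)
theorem F458599 : act 7 n210727 = n208354 := d11_2 (iv7 F222792) D210727 (iv4 D208354)
theorem F458600 : act 5 n210727 = n206900 := d16_5 (iv4 F403150) F403147 F209085 D139626 D210727 (iv4 F442553) F411692 F391594 F391592
theorem F458601 : act 0 n210727 = n206906 := d17_0 F442569 F443012 F443010 F388469 F332988 (iv0 F246658) (iv5 F405312) (iv0 F405313) D210727
theorem F458602 : act 6 n193047 = n210727 := d12_0 F458600 F442554 F388585 (iv6 D193048) (iv5 F388583)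
def n210728 : Q := act 6 n139626
theorem D210728 : act 6 n139626 = n210728 := rfl
theorem F458603 : act 2 n210728 = n192982 := d3_1 D210728 F405307 (iv2 F405304)
theorem F458604 : act 3 n210728 = n139627 := d7_1 D210728 (iv6 D139627) (iv3 F222791)
theorem F458605 : act 4 n210728 = n193047 := d10_1 D210728 F458602 (iv4 D210727)
theorem F458606 : act 5 n210728 = n192962 := d12_1 D210728 F388352 (iv5 D140677) F101687 D139626
theorem F458607 : act 0 n210728 = n196310 := d21_4 (iv5 F372901) (iv1 D139624) D139626 D210728 (iv6 D196310) (iv5 D106888) D106885 D196301 (iv6 F400284) (iv1 F388641)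
theorem F458608 : act 7 n193045 = n210728 := d13_0 F458606 (iv7 F458312) (iv5 F458311)
def n210729 : Q := act 1 n139627
theorem D210729 : act 1 n139627 = n210729 := rfl
theorem F458609 : act 1 n210729 = n210368 := d15_1 D210729 (iv7 D210368) (iv2 F222793)
theorem F458610 : act 7 n210729 = n210367 := d15_2 (iv0 F444184) D210729 (iv2 F457223)
theorem F458611 : act 4 n210729 = n207292 := d17_9 (iv1 D207292) D207293 F444190 F430803 F351134 (iv5 F393812) (iv0 F393814) F223768 D210729
theorem F458612 : act 6 n141976 = n210729 := d21_3 F405369 (iv1 D141974) D141976 (iv1 D210729) (iv6 D139627) (iv5 D65532) (iv1 F95116) F95114 D108584 D197688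
theorem F458613 : act 2 n210729 = n184080 := d3_1 F458612 F457133 F457129
def n210730 : Q := act 7 n139627
theorem D210730 : act 7 n139627 = n210730 := rfl
theorem F458614 : act 2 n210730 = n210368 := d4_1 D210730 (iv7 D210368) (iv2 F222793)
theorem F458615 : act 3 n210730 = n193045 := d8_1 D210730 F458608 F458604
theorem F458616 : act 4 n210730 = n208658 := d11_1 D210730 (iv7 D208658) (iv4 F222794)
theorem F458617 : act 6 n210730 = n198768 := d14_1 D210730 F409151 (iv6 D134213) (iv7 F101262) D139627
theorem F458618 : act 1 n184080 = n210730 := d15_1 (iv0 F450697) (iv7 D210730) F222793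
theorem F458619 : act 1 n210730 = n210367 := d15_1 F458618 (iv7 F458610) F458613
def n210731 : Q := act 3 n139629
theorem D210731 : act 3 n139629 = n210731 := rfl
theorem F458620 : act 4 n210731 = n210508 := d5_2 F222795 D210731 (iv3 D210508) (iv4 D139315) D139314
theorem F458621 : act 5 n210731 = n193896 := d6_2 (iv5 F330566) D210731 F391319
theorem F458622 : act 7 n210731 = n202228 := d8_2 F330568 D210731 F423317
theorem F458623 : act 0 n210731 = n202448 := d20_4 (iv4 F457831) (iv1 D210505) F222795 D210731 F424048 F401088 (iv1 F401055) (iv4 D115395) D115394 F422693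
theorem F458624 : act 0 n202450 = n210731 := d20_4 (iv4 D136911) D136908 (iv4 F400886) (iv3 F424056) (iv3 D210731) (iv4 F222795) F424393 F424390 (iv3 F423003) F220083
def n210732 : Q := act 6 n139629
theorem D210732 : act 6 n139629 = n210732 := rfl
theorem F458625 : act 2 n210732 = n202235 := d3_1 D210732 (iv6 D202235) F330567
theorem F458626 : act 4 n210732 = n210507 := d10_1 D210732 (iv6 D210507) F222795
theorem F458627 : act 5 n210732 = n185173 := d12_1 D210732 (iv6 D185173) D185172 F359549 (iv5 F330566)
theorem F458628 : act 0 n201953 = n210732 := d21_4 F359763 (iv1 D126685) (iv5 F179547) D201953 (iv6 D210732) F330566 F165203 (iv5 F330511) D53306 D115559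
theorem F458629 : act 0 n152868 = n185173 := d21_7 (iv5 F179550) F330575 (iv5 F330519) F339878 (iv1 F316170) D156171 (iv5 F366410) (iv5 F458627) (iv6 D210732) (iv1 D139629)
theorem F458630 : act 0 n210732 = n139649 := d20_7 F101113 (iv1 F79652) D108893 D198057 F406611 (iv3 F457842) (iv4 F458626) (iv4 F406620) (iv3 D198059) (iv1 F168896)
def n210733 : Q := act 5 n139631
theorem D210733 : act 5 n139631 = n210733 := rfl
theorem F458631 : act 2 n210733 = n202406 := d2_1 D210733 (iv5 D202406) F357051
theorem F458632 : act 3 n210733 = n139632 := d6_1 D210733 (iv5 D139632) (iv3 F222797)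
theorem F458633 : act 6 n210733 = n156297 := d12_2 D139631 D210733 (iv5 F422522) (iv6 D201958) F179550
theorem F458634 : act 4 n210733 = n199926 := d16_2 (iv4 F222798) D210733 (iv5 D199926) (iv4 F175084) (iv5 F340647) F155901 D101194 D193116 F388805
def n210734 : Q := act 4 n139632
theorem D210734 : act 4 n139632 = n210734 := rfl
theorem F458635 : act 3 n210734 = n199928 := d5_1 D210734 (iv4 D199928) (iv3 F414182) (iv4 F458634) F458632
theorem F458636 : act 6 n210734 = n177199 := d10_2 (iv6 F339869) D210734 (iv4 F351501)
theorem F458637 : act 5 n210734 = n199979 := d16_1 D210734 (iv4 D199979) F174336 (iv4 F175064) F175065 F168794 D141066 (iv7 F406360) F406358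
theorem F458638 : act 0 n210734 = n140879 := d17_0 (iv5 D140879) D140875 F348059 F320485 (iv5 F423471) F423469 (iv5 F425949) F425951 D210734
theorem F458639 : act 1 n210734 = n202177 := d18_6 (iv1 F179464) (iv4 F85073) F85074 (iv4 F101266) D139632 D210734 (iv4 D202177) F422298 F422297
def n210735 : Q := act 2 n139635
theorem D210735 : act 2 n139635 = n210735 := rfl
theorem F458640 : act 3 n210735 = n144078 := d0_2 D139635 D210735 (iv2 F422652) (iv3 D201993) (iv2 F179596)
theorem F458641 : act 4 n210735 = n202031 := d1_2 F227255 D210735 F422763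
theorem F458642 : act 5 n210735 = n207374 := d2_2 (iv5 F408058) D210735 F444571
theorem F458643 : act 6 n210735 = n152841 := d3_2 (iv6 F322285) D210735 (iv2 D152841)
theorem F458644 : act 1 n210735 = n202338 := d15_0 F423685 F404278 D210735
theorem F458645 : act 1 n202232 = n210735 := d15_0 F458644 F423683 (iv2 F423336)
def n210736 : Q := act 4 n139637
theorem D210736 : act 4 n139637 = n210736 := rfl
theorem F458646 : act 2 n210736 = n139639 := d1_1 D210736 (iv4 D139639) (iv2 F222801)
theorem F458647 : act 3 n210736 = n199154 := d5_1 D210736 (iv4 F424739) F424738 (iv4 F422595) F422594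
theorem F458648 : act 5 n210736 = n198520 := d9_2 D139637 D210736 F408203 F171171 (iv4 D66846) F49499 (iv4 F84041) D115314 D201995 F422659 F392593 (iv5 F222851) (iv4 D139679) (iv5 D65562) (iv4 F101268)
theorem F458649 : act 7 n210736 = n193953 := d11_2 (iv7 F222802) D210736 F391499
theorem F458650 : act 0 n210736 = n193954 := d17_0 F391505 F349846 F349843 F180033 F84182 (iv0 F173694) D115613 F222804 D210736
theorem F458651 : act 1 n210736 = n193952 := d18_6 F223192 (iv4 D115801) (iv1 F84254) (iv4 F101268) D139637 D210736 F391495 F423289 F423286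
def n210737 : Q := act 6 n139637
theorem D210737 : act 6 n139637 = n210737 := rfl
theorem F458652 : act 2 n210737 = n139640 := d3_1 D210737 (iv6 D139640) (iv2 F222801)
def n210738 : Q := act 0 n139638
theorem D210738 : act 0 n139638 = n210738 := rfl
theorem F458653 : act 4 n210738 = n139842 := d20_2 (iv4 F222806) D210738 (iv3 D139842) (iv1 F223021) (iv3 F318500) (iv4 F313789) (iv1 F321473) F321475 (iv3 F349395) (iv1 D139682)
theorem F458654 : act 6 n210738 = n152878 := d21_5 (iv5 F179993) (iv1 F222803) (iv5 D139637) D139638 D210738 F423831 (iv1 D202378) (iv5 D115670) (iv6 D53345) (iv1 F173700)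
theorem F458655 : act 1 n139644 = n210738 := d15_0 (iv0 D210738) (iv7 F426964) F426963
theorem F458656 : act 2 n139641 = n210738 := d3_3 F458654 F429018 (iv6 F429019)
theorem F458657 : act 7 n139642 = n210738 := d14_0 F458654 F429010 (iv6 F429013) (iv7 F444568) (iv6 F444572)
def n210739 : Q := act 1 n139638
theorem D210739 : act 1 n139638 = n210739 := rfl
theorem F458658 : act 1 n210739 = n139644 := d15_1 D210739 (iv7 D139644) (iv2 F222805)
theorem F458659 : act 7 n210739 = n139641 := d15_2 (iv0 D210738) D210739 F458656
theorem F458660 : act 6 n178669 = n210739 := d21_3 D141722 F330604 F408058 (iv1 D210739) (iv6 D139638) D139637 (iv1 F222804) (iv5 D115613) D115614 F366264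
theorem F458661 : act 2 n210739 = n139642 := d3_1 F458660 F444572 F444571
theorem F458662 : act 3 n210739 = n202350 := d7_1 F458660 (iv6 D202350) (iv3 F408057)
def n210740 : Q := act 5 n139638
theorem D210740 : act 5 n139638 = n210740 := rfl
theorem F458663 : act 2 n210740 = n139643 := d2_1 D210740 (iv5 D139643) (iv2 F222805)
theorem F458664 : act 1 n210740 = n156225 := d17_6 F318290 (iv5 F318292) (iv1 F183881) F319961 (iv4 F222806) D210740 (iv5 D156225) (iv0 F423710) (iv4 D151303)
theorem F458665 : act 4 n185261 = n210740 := d1_0 F458663 F363548 D185261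
def n210741 : Q := act 6 n139639
theorem D210741 : act 6 n139639 = n210741 := rfl
theorem F458666 : act 3 n210741 = n194330 := d7_1 D210741 F392846 F222809
theorem F458667 : act 4 n210741 = n139640 := d10_1 D210741 (iv6 D139640) D139639
theorem F458668 : act 7 n210741 = n194328 := d14_2 F422658 D210741 (iv6 D194328) (iv7 F363046) F422662
def n210742 : Q := act 0 n139640
theorem D210742 : act 0 n139640 = n210742 := rfl
def n210743 : Q := act 5 n139640
theorem D210743 : act 5 n139640 = n210743 := rfl
theorem F458669 : act 3 n210743 = n139647 := d6_1 D210743 (iv5 D139647) (iv3 F222813)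
theorem F458670 : act 6 n210743 = n139643 := d12_2 D139640 D210743 (iv5 D139643) (iv6 D65539) D65538
theorem F458671 : act 4 n185263 = n210743 := d10_3 F458670 F363548 D185263
def n210744 : Q := act 7 n139640
theorem D210744 : act 7 n139640 = n210744 := rfl
theorem F458672 : act 3 n210744 = n139648 := d8_1 D210744 (iv7 D139648) (iv3 F222813)
theorem F458673 : act 4 n210744 = n194328 := d11_1 D210744 (iv7 F458668) F458667
theorem F458674 : act 6 n210744 = n194327 := d14_1 D210744 F422666 (iv6 D201996) F179606 D139640
def n210745 : Q := act 3 n139641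
theorem D210745 : act 3 n139641 = n210745 := rfl
theorem F458675 : act 6 n210745 = n156294 := d7_2 (iv6 F429019) D210745 (iv3 F429020)
theorem F458676 : act 7 n210745 = n202350 := d8_2 F458659 D210745 (iv3 F458662)
theorem F458677 : act 0 n210745 = n202358 := d20_4 F422811 D202574 (iv4 F426967) D210745 F433003 (iv4 F415295) (iv1 D112767) (iv4 F84063) (iv3 F179632) D202054
theorem F458678 : act 0 n202357 = n210745 := d20_4 (iv4 F228358) F400248 (iv4 F401092) F423750 (iv3 D210745) F426967 F424571 F422813 (iv3 F423024) F426968
theorem F458679 : act 2 n202360 = n210745 := d15_3 (iv0 F458678) (iv0 D202357) D202360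
def n210746 : Q := act 5 n139641
theorem D210746 : act 5 n139641 = n210746 := rfl
def n210747 : Q := act 3 n139642
theorem D210747 : act 3 n139642 = n210747 := rfl
theorem F458680 : act 2 n210747 = n202356 := d0_1 D210747 F423748 (iv2 F423716) (iv3 F458662) F458661
theorem F458681 : act 6 n210747 = n197426 := d7_2 (iv6 F444572) D210747 F444570
def n210748 : Q := act 5 n139642
theorem D210748 : act 5 n139642 = n210748 := rfl
def n210749 : Q := act 0 n139643
theorem D210749 : act 0 n139643 = n210749 := rfl
theorem F458682 : act 5 n210749 = n156226 := d21_2 D139643 D210749 F366634 (iv1 F247910) F336239 D202338 (iv1 F458644) F458642 (iv6 F444572) (iv1 D139642)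
theorem F458683 : act 7 n156225 = n210749 := d13_0 F458682 (iv7 D156226) D156225
def n210750 : Q := act 1 n139643
theorem D210750 : act 1 n139643 = n210750 := rfl
theorem F458684 : act 5 n210750 = n156213 := d17_7 (iv1 F184269) (iv5 F183884) (iv1 F183887) (iv5 F318281) (iv4 F101271) D139643 D210750 (iv0 F426974) (iv4 D203102)
theorem F458685 : act 4 n203105 = n185259 := d18_5 F366573 F221880 (iv1 F318398) D117680 D203105 (iv0 D185259) (iv4 F363548) D210750 F458684
theorem F458686 : act 2 n156225 = n210750 := d2_3 F458684 F245490 D156225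
def n210751 : Q := act 7 n139643
theorem D210751 : act 7 n139643 = n210751 := rfl
theorem F458687 : act 3 n210751 = n139657 := d8_1 D210751 (iv7 D139657) (iv3 F222814)
theorem F458688 : act 4 n210751 = n183881 := d11_1 D210751 F285708 (iv4 F363548)
theorem F458689 : act 5 n210751 = n139644 := d13_1 D210751 (iv7 D139644) D139643
theorem F458690 : act 1 n156225 = n210751 := d15_1 F458664 (iv7 D210751) (iv2 F458663)
def n210752 : Q := act 5 n139645
theorem D210752 : act 5 n139645 = n210752 := rfl
theorem F458691 : act 4 n210752 = n193770 := d16_2 F415322 D210752 F390959 (iv4 F433909) (iv5 D204864) D204863 F433904 F415329 (iv2 F415327)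
def n210753 : Q := act 3 n139646
theorem D210753 : act 3 n139646 = n210753 := rfl
theorem F458692 : act 2 n210753 = n202412 := d0_1 D210753 F423905 (iv2 F245594) F422615 (iv2 F422614)
theorem F458693 : act 4 n210753 = n189190 := d5_2 F415332 D210753 (iv3 D189190) D189191 F415330
theorem F458694 : act 6 n210753 = n202288 := d7_2 F423833 D210753 (iv3 F423832)
def n210754 : Q := act 5 n139646
theorem D210754 : act 5 n139646 = n210754 := rfl
theorem F458695 : act 4 n204504 = n210754 := d16_0 (iv5 D210754) (iv4 F415332) (iv5 F433904) (iv4 D204863) D204864 F433909 (iv5 F390959) (iv7 F392029) (iv2 F432740)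
def n210755 : Q := act 0 n139647
theorem D210755 : act 0 n139647 = n210755 := rfl
theorem F458696 : act 5 n210755 = n202002 := d17_3 (iv1 D139646) D139647 D210755 (iv4 F428589) F428590 (iv0 F427681) (iv5 F351642) D200164 F415332
theorem F458697 : act 3 n185169 = n210755 := d6_3 F458696 (iv3 D202002) F359545
theorem F458698 : act 7 n192251 = n210755 := d13_0 F458696 F422684 (iv5 F403863)
theorem F458699 : act 4 n192260 = n210755 := d16_0 F458696 (iv4 F428589) F428590 F427679 (iv5 F432587) (iv4 D204453) (iv5 F386228) (iv7 F386229) (iv2 F386231)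
def n210756 : Q := act 1 n139647
theorem D210756 : act 1 n139647 = n210756 := rfl
def n210757 : Q := act 4 n139647
theorem D210757 : act 4 n139647 = n210757 := rfl
theorem F458700 : act 3 n210757 = n182278 := d5_1 D210757 F283733 (iv3 F287548) F458671 F458669
theorem F458701 : act 6 n210757 = n139656 := d10_2 (iv6 F222817) D210757 (iv4 D139656)
theorem F458702 : act 5 n210757 = n204867 := d16_3 F170771 D139647 D210757 (iv4 D204867) (iv5 F337051) F337050 (iv5 D174557) (iv7 F350650) F175525
theorem F458703 : act 1 n146907 = n210757 := d17_6 F426471 (iv5 F184895) (iv1 F237472) F86277 (iv4 F105055) D146907 F458702 F433928 F426472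
def n210758 : Q := act 7 n139647
theorem D210758 : act 7 n139647 = n210758 := rfl
theorem F458704 : act 5 n210758 = n139648 := d13_1 D210758 (iv7 D139648) D139647
theorem F458705 : act 1 n192251 = n210758 := d15_1 (iv0 F422619) (iv7 D210758) (iv2 F422617)
def n210759 : Q := act 0 n139649
theorem D210759 : act 0 n139649 = n210759 := rfl
theorem F458706 : act 1 n201953 = n210759 := d15_0 (iv0 D210759) (iv7 F422630) F422627
theorem F458707 : act 7 n210759 = n202235 := d15_2 (iv0 F458628) F458706 (iv2 F458625)
def n210760 : Q := act 2 n139649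
theorem D210760 : act 2 n139649 = n210760 := rfl
theorem F458708 : act 3 n210760 = n201957 := d0_2 D139649 D210760 F422514 (iv3 F362476) F182851
theorem F458709 : act 7 n210760 = n201953 := d4_2 F422630 D210760 (iv2 F422627)
theorem F458710 : act 1 n210760 = n202235 := d15_0 (iv0 F423348) F422630 D210760
theorem F458711 : act 6 n210760 = n202395 := d21_5 (iv5 F330513) (iv1 F179511) D115491 D202235 (iv1 F458710) (iv5 F452220) (iv1 D209093) (iv5 F422379) (iv6 D201920) (iv1 D115259)
def n210761 : Q := act 5 n139649
theorem D210761 : act 5 n139649 = n210761 := rfl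
theorem F458712 : act 3 n210761 = n139650 := d6_1 D210761 (iv5 D139650) D139649
def n210762 : Q := act 6 n139649
theorem D210762 : act 6 n139649 = n210762 := rfl
theorem F458713 : act 2 n210762 = n202395 := d3_1 D210762 (iv6 F458711) (iv2 D210760)
theorem F458714 : act 3 n210762 = n139651 := d7_1 D210762 (iv6 D139651) D139649
theorem F458715 : act 7 n210762 = n202388 := d14_2 F422630 D210762 (iv6 D202388) (iv7 F422493) (iv6 F422629)
theorem F458716 : act 5 n210762 = n207375 := d21_6 F330521 (iv1 F165204) (iv5 F330566) D210732 F458630 D210762 (iv1 D207375) (iv5 F365197) (iv6 D115542) (iv1 F179517)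
theorem F458717 : act 1 n202394 = n210762 := d15_1 D202394 F458715 F423843
theorem F458718 : act 1 n210762 = n202393 := d15_0 (iv0 D202393) D202395 (iv2 F458713)
theorem F458719 : act 2 n192450 = n202394 := d15_3 F458717 F458718 (iv7 F458418)
theorem F458720 : act 4 n202394 = n192446 := d1_2 (iv4 F386745) F458719 F386737
theorem F458721 : act 6 n202394 = n192445 := d3_2 D192450 F458719 F386734
def n210763 : Q := act 4 n139650
theorem D210763 : act 4 n139650 = n210763 := rfl
theorem F458722 : act 2 n210763 = n193830 := d1_1 D210763 F391128 (iv2 F359523)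
theorem F458723 : act 5 n210763 = n199941 := d9_2 D139650 D210763 (iv4 D199941) (iv5 F380384) F380385 F203192 (iv4 F182857) D139653 (iv4 F363545) (iv5 F414239) (iv4 D199940) (iv5 F380393) (iv4 F425591) (iv5 D202789) F182848
theorem F458724 : act 7 n210763 = n193760 := d11_2 F359527 D210763 (iv4 F390931)
theorem F458725 : act 1 n210763 = n191269 := d18_8 F372761 F372756 (iv1 F148067) F135287 D88355 (iv4 F340571) F245341 D210763 (iv5 D191269)
theorem F458726 : act 3 n210763 = n188233 := d19_3 D65541 D139650 D210763 (iv1 D188233) (iv5 D91105) (iv4 F292383) (iv3 D44537) (iv1 D21180) D21181 D44542 (iv3 F321872) (iv1 F130052) (iv5 F335059) F230533 (iv3 F183883) (iv1 F183887) (iv5 F318281) (iv4 F101271) F101270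
def n210764 : Q := act 6 n139650
theorem D210764 : act 6 n139650 = n210764 := rfl
def n210765 : Q := act 6 n139653
theorem D210765 : act 6 n139653 = n210765 := rfl
theorem F458727 : act 3 n210765 = n200466 := d7_1 D210765 F416566 (iv3 F365194)
theorem F458728 : act 5 n210765 = n192447 := d12_1 D210765 F386741 F176278 (iv6 F330591) D139653
theorem F458729 : act 0 n192399 = n210765 := d17_2 F376000 D192399 F458728 F386739 (iv5 F339894) F143950 D101197 (iv0 F348535) D189186
def n210766 : Q := act 3 n139654
theorem D210766 : act 3 n139654 = n210766 := rfl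
theorem F458730 : act 5 n210766 = n156175 := d6_2 (iv5 F222818) D210766 F245441
theorem F458731 : act 7 n210766 = n156174 := d8_2 F222819 D210766 F245440
def n210767 : Q := act 6 n139654
theorem D210767 : act 6 n139654 = n210767 := rfl
def n210768 : Q := act 3 n139655
theorem D210768 : act 3 n139655 = n210768 := rfl
theorem F458732 : act 5 n210768 = n156002 := d6_2 F222820 D210768 F245089
theorem F458733 : act 0 n202381 = n210768 := d17_2 (iv1 F422517) D202381 F458732 F245090 D197122 (iv0 F403144) (iv5 F406389) F406387 (iv4 F422515)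
theorem F458734 : act 0 n210768 = n202379 := d21_7 (iv5 F357060) F422354 (iv5 D201915) F359972 (iv1 D155999) D156002 (iv5 F458732) (iv5 D202379) F357048 F357043
def n210769 : Q := act 6 n139655
theorem D210769 : act 6 n139655 = n210769 := rfl
theorem F458735 : act 2 n210769 = n156180 := d3_1 D210769 F245447 (iv2 F222821)
theorem F458736 : act 5 n210769 = n156003 := d12_1 D210769 (iv6 D156003) (iv5 D74201) D74202 F222820
def n210770 : Q := act 6 n139657
theorem D210770 : act 6 n139657 = n210770 := rfl
theorem F458737 : act 4 n210770 = n184983 := d10_1 D210770 (iv6 F378219) F378221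
def n210771 : Q := act 3 n139658
theorem D210771 : act 3 n139658 = n210771 := rfl
theorem F458738 : act 4 n210771 = n139660 := d5_2 D139658 D210771 (iv3 D139660) (iv4 D65546) D65545
theorem F458739 : act 7 n210771 = n197433 := d8_2 (iv7 F222825) D210771 F404267
def n210772 : Q := act 5 n139658
theorem D210772 : act 5 n139658 = n210772 := rfl
theorem F458740 : act 2 n210772 = n200200 := d2_1 D210772 (iv5 D200200) (iv2 F222824)
theorem F458741 : act 7 n210772 = n200201 := d13_2 (iv7 F222825) D210772 (iv5 D200201)
theorem F458742 : act 0 n210772 = n197155 := d17_2 F222827 D210772 (iv5 D197155) (iv4 D107763) D107764 (iv0 F166518) (iv5 F162041) (iv0 D105531) (iv4 F162040)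
def n210773 : Q := act 1 n139660
theorem D210773 : act 1 n139660 = n210773 := rfl
def n210774 : Q := act 5 n139660
theorem D210774 : act 5 n139660 = n210774 := rfl
theorem F458743 : act 3 n210774 = n139661 := d6_1 D210774 (iv5 D139661) D139660
def n210775 : Q := act 6 n139660
theorem D210775 : act 6 n139660 = n210775 := rfl
theorem F458744 : act 3 n210775 = n139662 := d7_1 D210775 (iv6 D139662) D139660
theorem F458745 : act 7 n210775 = n202429 := d14_2 F422646 D210775 (iv6 F440612) F440608 (iv6 F422645)
theorem F458746 : act 0 n210775 = n202167 := d20_4 (iv4 D143916) F111223 (iv4 F222833) (iv3 F458744) (iv3 D202167) D202168 F423107 F402907 (iv3 F422519) F422521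
def n210776 : Q := act 6 n139661
theorem D210776 : act 6 n139661 = n210776 := rfl
def n210777 : Q := act 6 n139665
theorem D210777 : act 6 n139665 = n210777 := rfl
theorem F458747 : act 4 n210777 = n192726 := d10_1 D210777 F387605 F359514
theorem F458748 : act 5 n210777 = n192391 := d12_1 D210777 F423297 F423290 F209566 D139665
def n210778 : Q := act 5 n139668
theorem D210778 : act 5 n139668 = n210778 := rfl
theorem F458749 : act 3 n210778 = n139669 := d6_1 D210778 (iv5 D139669) D139668
theorem F458750 : act 0 n210778 = n205959 := d17_2 F223106 D210778 (iv5 D205959) (iv4 D126833) (iv5 F347037) (iv0 F438009) (iv5 D205824) F203716 D126728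
theorem F458751 : act 1 n210778 = n178779 := d17_6 (iv1 F350849) D202307 F423577 (iv5 F223105) F223104 D210778 F351459 (iv0 F326818) (iv4 F202678)
def n210779 : Q := act 6 n139673
theorem D210779 : act 6 n139673 = n210779 := rfl
theorem F458752 : act 2 n210779 = n202012 := d3_1 D210779 (iv6 F423779) F423774
theorem F458753 : act 3 n210779 = n209673 := d7_1 D210779 F454592 F422722
theorem F458754 : act 5 n210779 = n152816 := d12_1 D210779 (iv6 D152816) (iv5 D72109) F322219 D139673
theorem F458755 : act 7 n210779 = n202011 := d14_2 F423784 D210779 F422706 F245617 (iv6 F423783)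
theorem F458756 : act 0 n210779 = n202008 := d21_4 F362576 (iv1 F180184) D139673 D210779 (iv6 D202008) (iv5 F423188) (iv1 D115466) (iv5 F330553) F330556 (iv1 F362575)
theorem F458757 : act 1 n210779 = n202014 := d15_1 (iv0 F458756) (iv7 D202014) (iv2 F422697)
theorem F458758 : act 1 n202014 = n202427 := d15_1 F458757 F423954 (iv2 F458752)
def n210780 : Q := act 4 n139681
theorem D210780 : act 4 n139681 = n210780 := rfl
theorem F458759 : act 2 n210780 = n139693 := d1_1 D210780 (iv4 D139693) (iv2 F349389)
theorem F458760 : act 6 n210780 = n152883 := d10_2 (iv6 F349391) D210780 (iv4 D152883)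
theorem F458761 : act 7 n210780 = n139698 := d11_2 (iv7 F349392) D210780 (iv4 D139698)
theorem F458762 : act 0 n210780 = n202055 := d18_2 D139681 D210780 (iv4 F422813) (iv5 F341009) (iv4 F426389) (iv0 D202960) F183880 D117407 F319961
theorem F458763 : act 0 n202054 = n210780 := d20_7 (iv4 F424097) (iv1 F424099) F363685 (iv3 F341084) (iv1 D116021) (iv3 F180755) (iv4 F422811) (iv4 D210780) F425445 (iv1 F425443)
def n210781 : Q := act 6 n139685
theorem D210781 : act 6 n139685 = n210781 := rfl
theorem F458764 : act 2 n210781 = n197212 := d3_1 D210781 (iv6 D197212) F222864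
theorem F458765 : act 3 n210781 = n148874 := d7_1 D210781 (iv6 F403572) F403571
theorem F458766 : act 4 n210781 = n202333 := d10_1 D210781 (iv6 D202333) (iv4 F222863)
theorem F458767 : act 5 n210781 = n209388 := d12_1 D210781 F453522 F397331 (iv6 F166911) (iv5 F222862)
theorem F458768 : act 7 n210781 = n203631 := d14_2 F225469 D210781 (iv6 D203631) (iv7 F348538) (iv6 F348536)
theorem F458769 : act 0 n210781 = n144516 := d21_4 D53775 (iv1 F166913) (iv5 F222862) D210781 (iv6 D144516) D144515 (iv1 F425383) (iv5 D202743) (iv6 D116690) (iv1 D53774)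
theorem F458770 : act 0 n202698 = n210781 := d21_4 (iv5 F344153) (iv1 F402939) F402936 (iv6 F425163) (iv6 D210781) F222862 (iv1 F166914) (iv5 D69203) D69204 D147665
def n210782 : Q := act 0 n139693
theorem D210782 : act 0 n139693 = n210782 := rfl
theorem F458771 : act 4 n210782 = n202577 := d18_3 D65568 D139693 D210782 (iv5 F425985) (iv4 F425987) (iv0 D117648) F85520 D54206 (iv5 F318281)
theorem F458772 : act 2 n202055 = n210782 := d15_3 (iv0 D210782) (iv0 F423015) (iv7 F423014)
theorem F458773 : act 1 n139698 = n210782 := d15_0 (iv0 D210782) F349400 (iv2 F349399)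
theorem F458774 : act 7 n210782 = n202054 := d15_2 (iv0 F423013) F458773 (iv2 F423010)
def n210783 : Q := act 5 n139693
theorem D210783 : act 5 n139693 = n210783 := rfl
theorem F458775 : act 3 n210783 = n202083 := d6_1 D210783 F422852 F349401
theorem F458776 : act 7 n210783 = n202056 := d13_2 (iv7 F349400) D210783 (iv5 D202056)
def n210784 : Q := act 5 n139716
theorem D210784 : act 5 n139716 = n210784 := rfl
theorem F458777 : act 2 n210784 = n198110 := d2_1 D210784 F406861 (iv2 F402275)
theorem F458778 : act 3 n210784 = n144406 := d6_1 D210784 (iv5 D144406) (iv3 F222889)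
theorem F458779 : act 6 n210784 = n198100 := d12_2 (iv6 F364418) D210784 F406798 (iv6 F400877) F400875
theorem F458780 : act 4 n210784 = n198101 := d16_2 D139716 D210784 (iv5 F406802) (iv4 D193655) (iv5 F353228) (iv4 F317105) F324915 (iv7 F342459) F342455
theorem F458781 : act 1 n210784 = n206268 := d17_6 D72728 F317722 (iv1 F321384) F318384 D139716 D210784 F439998 (iv0 D153714) F109217
def n210785 : Q := act 5 n139734
theorem D210785 : act 5 n139734 = n210785 := rfl
theorem F458782 : act 3 n210785 = n139735 := d6_1 D210785 (iv5 D139735) D139734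
theorem F458783 : act 7 n210785 = n199814 := d13_2 F227176 D210785 F413612
theorem F458784 : act 0 n210785 = n199749 := d17_2 (iv1 F342464) D210785 F439982 (iv4 D147902) (iv5 F243027) (iv0 F335067) (iv5 F425439) (iv0 D202756) F182472
def n210786 : Q := act 3 n139766
theorem D210786 : act 3 n139766 = n210786 := rfl
theorem F458785 : act 6 n210786 = n208167 := d7_2 (iv6 F222947) D210786 (iv3 D208167)
def n210787 : Q := act 5 n139766
theorem D210787 : act 5 n139766 = n210787 := rfl
theorem F458786 : act 4 n210787 = n191738 := d9_1 D210787 F384300 (iv4 D166111) (iv5 D79753) D79752 F312358 (iv4 F342541) D192093 F385511 (iv5 D153631) F109179 (iv5 D40228) (iv4 F61210) (iv5 F310069) D139766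
theorem F458787 : act 6 n191737 = n210787 := d10_0 F458786 (iv6 D191738) (iv4 F384298)
def n210788 : Q := act 3 n139772
theorem D210788 : act 3 n139772 = n210788 := rfl
theorem F458788 : act 4 n210788 = n207447 := d5_2 (iv4 F342583) D210788 F444965 F239807 F234097
theorem F458789 : act 5 n210788 = n169824 := d6_2 (iv5 F342584) D210788 (iv3 F366807)
theorem F458790 : act 6 n210788 = n148963 := d7_2 (iv6 F342585) D210788 (iv3 D148963)
theorem F458791 : act 7 n210788 = n170091 := d8_2 (iv7 F342586) D210788 (iv3 F342547)
theorem F458792 : act 0 n159114 = n210788 := d20_4 F54964 D34735 D76018 D159114 (iv3 D210788) F342583 F234094 (iv4 F305221) F305220 (iv1 D75996)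
def n210789 : Q := act 3 n139773
theorem D210789 : act 3 n139773 = n210789 := rfl
theorem F458793 : act 4 n210789 = n184549 := d5_2 (iv4 F342568) D210789 F286487 (iv4 F309280) F309279
theorem F458794 : act 5 n210789 = n151375 := d6_2 F222949 D210789 F339085
theorem F458795 : act 6 n210789 = n184547 := d7_2 F342573 D210789 (iv3 F303965)
theorem F458796 : act 7 n210789 = n143574 := d8_2 F342574 D210789 (iv3 F349700)
theorem F458797 : act 0 n210789 = n207349 := d20_4 F305221 F234767 (iv4 F342568) D210789 F444465 (iv4 F217784) (iv1 D135458) (iv4 F207995) (iv3 F215882) (iv1 F222402)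
theorem F458798 : act 1 n210789 = n207346 := d15_1 (iv0 F458797) F444451 (iv2 F444464)
theorem F458799 : act 2 n155688 = n210789 := d15_3 F458798 (iv0 F444452) (iv7 F252479)
def n210790 : Q := act 6 n139800
theorem D210790 : act 6 n139800 = n210790 := rfl
theorem F458800 : act 2 n210790 = n145506 := d3_1 D210790 (iv6 D145506) F222995
theorem F458801 : act 3 n210790 = n195390 := d7_1 D210790 (iv6 D195390) F222996
theorem F458802 : act 4 n210790 = n145504 := d10_1 D210790 (iv6 D145504) (iv4 F222994)
theorem F458803 : act 0 n139848 = n210790 := d21_4 (iv5 F396774) (iv1 D195344) D195346 (iv6 F396789) (iv6 D210790) (iv5 F397327) (iv1 D195553) (iv5 D105692) D105693 F363487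
theorem F458804 : act 1 n139843 = n210790 := d18_6 (iv1 F393653) F393655 (iv1 D119047) (iv4 F187301) F333634 D139843 F458802 (iv0 F420839) (iv5 D201519)
def n210791 : Q := act 2 n139801
theorem D210791 : act 2 n139801 = n210791 := rfl
theorem F458805 : act 3 n210791 = n195351 := d0_2 D139801 D210791 (iv2 F396804) F226830 (iv2 F162348)
theorem F458806 : act 7 n210791 = n202031 := d4_2 F227256 D210791 F422763
theorem F458807 : act 1 n210791 = n195357 := d15_0 (iv0 F396818) F227256 D210791
theorem F458808 : act 1 n201894 = n210791 := d15_0 F458807 F396815 (iv2 F422265)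
def n210792 : Q := act 1 n139802
theorem D210792 : act 1 n139802 = n210792 := rfl
theorem F458809 : act 1 n210792 = n139807 := d15_1 D210792 (iv7 F227274) F227273
theorem F458810 : act 7 n210792 = n143019 := d15_2 F425124 D210792 (iv2 F425119)
theorem F458811 : act 5 n210792 = n141332 := d17_7 (iv1 D30973) F24344 D28472 (iv5 F94441) D65626 D139802 D210792 F224345 (iv4 D66305)
theorem F458812 : act 4 n210792 = n203653 := d17_9 (iv1 F429253) (iv5 F373708) (iv1 D188496) D188497 (iv4 F397323) F397322 (iv0 F182595) D139802 D210792
theorem F458813 : act 2 n142737 = n210792 := d1_3 F458812 (iv2 F429252) F416648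
theorem F458814 : act 3 n195393 = n210792 := d20_5 F84099 D53251 (iv4 F162186) D195426 (iv1 F396977) F458812 (iv1 F429253) F364300 F336174 (iv1 D115435)
def n210793 : Q := act 5 n139813
theorem D210793 : act 5 n139813 = n210793 := rfl
theorem F458815 : act 2 n210793 = n195335 := d2_1 D210793 (iv5 D195335) (iv2 F223006)
theorem F458816 : act 3 n210793 = n139814 := d6_1 D210793 (iv5 D139814) D139813
theorem F458817 : act 7 n210793 = n197408 := d13_2 F323667 D210793 F404170
theorem F458818 : act 1 n210793 = n197409 := d17_6 (iv1 F359107) F359109 F216488 (iv5 F321998) (iv4 F223007) D210793 F404175 (iv0 F396672) F162003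
theorem F458819 : act 4 n210793 = n199213 := d18_5 F454394 (iv4 D209631) (iv1 F219842) (iv4 F223007) D210793 (iv0 D199213) D199214 (iv0 F456468) F456465
theorem F458820 : act 1 n197399 = n210793 := d15_0 F458818 (iv7 D197409) (iv2 F404140)
def n210794 : Q := act 6 n139813
theorem D210794 : act 6 n139813 = n210794 := rfl
theorem F458821 : act 2 n210794 = n195336 := d3_1 D210794 (iv6 D195336) (iv2 F223006)
theorem F458822 : act 3 n210794 = n139815 := d7_1 D210794 (iv6 D139815) D139813
theorem F458823 : act 4 n210794 = n205862 := d10_1 D210794 (iv6 D205862) (iv4 F223007)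
theorem F458824 : act 0 n139828 = n210794 := d21_4 (iv5 D139825) (iv1 D65636) D65637 D139828 (iv6 D210794) D210793 (iv1 F458820) F404141 F396664 (iv1 F223030)
def n210795 : Q := act 6 n139814
theorem D210795 : act 6 n139814 = n210795 := rfl
theorem F458825 : act 2 n210795 = n139828 := d3_1 D210795 (iv6 D139828) (iv2 F223008)
theorem F458826 : act 4 n210795 = n201184 := d10_1 D210795 F419362 F402899
theorem F458827 : act 0 n210795 = n195336 := d21_4 F205122 (iv1 F103707) D139814 D210795 (iv6 D195336) D195335 (iv1 F404144) (iv5 F361839) F361840 D105634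
def n210796 : Q := act 0 n139815
theorem D210796 : act 0 n139815 = n210796 := rfl
theorem F458828 : act 4 n210796 = n198599 := d18_3 (iv1 D139819) (iv4 F223011) D210796 F408465 F178602 D114540 (iv4 F313876) (iv0 D146018) (iv5 F318731)
theorem F458829 : act 2 n139829 = n210796 := d1_3 F458828 F408464 (iv4 F364628)
theorem F458830 : act 6 n203258 = n210796 := d10_0 F458828 F408466 (iv4 F427545)
theorem F458831 : act 7 n139830 = n210796 := d11_0 F458828 F408467 F364530
theorem F458832 : act 1 n139832 = n210796 := d18_6 (iv1 F334977) F104573 (iv1 F334953) (iv4 D144982) F317365 (iv4 F223036) F458828 (iv0 F408469) F334980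
def n210797 : Q := act 1 n139815
theorem D210797 : act 1 n139815 = n210797 := rfl
theorem F458833 : act 1 n210797 = n139832 := d15_1 D210797 (iv7 D139832) (iv2 F223010)
theorem F458834 : act 7 n210797 = n139829 := d15_2 (iv0 D210796) D210797 F458829
theorem F458835 : act 4 n210797 = n201519 := d18_7 (iv1 F229653) (iv4 F420289) (iv1 F420291) F315727 (iv5 F319628) (iv4 F223011) D210797 F420840 (iv5 F334974)
theorem F458836 : act 6 n205031 = n210797 := d21_3 (iv5 F349985) D210573 F458086 (iv1 D210797) (iv6 D139815) D139814 F223009 (iv5 D67034) D67035 (iv1 F322901)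
theorem F458837 : act 2 n210797 = n139830 := d3_1 F458836 (iv6 F446689) F446687
def n210798 : Q := act 5 n139815
theorem D210798 : act 5 n139815 = n210798 := rfl
theorem F458838 : act 2 n210798 = n139831 := d2_1 D210798 (iv5 D139831) (iv2 F223010)
theorem F458839 : act 1 n210798 = n197394 := d17_6 (iv1 F317397) D108249 (iv1 F317362) (iv5 F319628) (iv4 F223011) D210798 (iv5 D197394) (iv0 F361408) (iv4 D156662)
def n210799 : Q := act 7 n139815
theorem D210799 : act 7 n139815 = n210799 := rfl
theorem F458840 : act 2 n210799 = n139832 := d4_1 D210799 (iv7 D139832) (iv2 F223010)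
theorem F458841 : act 4 n210799 = n139821 := d11_1 D210799 (iv7 D139821) (iv4 F223011)
theorem F458842 : act 1 n139830 = n210799 := d15_1 D139830 (iv7 D210799) F223010
theorem F458843 : act 1 n210799 = n139829 := d15_1 F458842 (iv7 F458834) F458837
def n210800 : Q := act 4 n139818
theorem D210800 : act 4 n139818 = n210800 := rfl
theorem F458844 : act 2 n210800 = n139843 := d1_1 D210800 (iv4 D139843) (iv2 F333632)
theorem F458845 : act 6 n210800 = n203261 := d10_2 (iv6 F333623) D210800 (iv4 D203261)
theorem F458846 : act 7 n210800 = n139848 := d11_2 (iv7 F333633) D210800 (iv4 D139848)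
theorem F458847 : act 1 n210800 = n145506 := d18_6 (iv1 D194540) (iv4 F393627) F393629 (iv4 F178797) F333622 D210800 F228557 D145510 (iv5 F393649)
def n210801 : Q := act 4 n139819
theorem D210801 : act 4 n139819 = n210801 := rfl
theorem F458848 : act 2 n210801 = n139848 := d1_1 D210801 (iv4 D139848) (iv2 F333636)
theorem F458849 : act 6 n210801 = n145066 := d10_2 (iv6 F318732) D210801 (iv4 D145066)
theorem F458850 : act 7 n210801 = n139843 := d11_2 (iv7 F333637) D210801 (iv4 D139843)
theorem F458851 : act 0 n210801 = n145506 := d18_2 (iv1 F223015) D210801 F228557 D145511 F356608 (iv0 F404566) (iv4 D197498) (iv0 F317363) F317365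
def n210802 : Q := act 6 n139827
theorem D210802 : act 6 n139827 = n210802 := rfl
theorem F458852 : act 2 n210802 = n201184 := d3_1 D210802 F419362 (iv2 F402900)
theorem F458853 : act 4 n210802 = n139828 := d10_1 D210802 (iv6 D139828) D139827
theorem F458854 : act 0 n188571 = n210802 := d21_4 (iv5 D83627) F328952 D155096 (iv6 F374019) (iv6 D210802) (iv5 F223032) (iv1 F175444) D200161 F415311 (iv1 D175104)
theorem F458855 : act 7 n201185 = n210802 := d15_2 (iv0 D201184) D201185 F458852
def n210803 : Q := act 1 n139828
theorem D210803 : act 1 n139828 = n210803 := rfl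
theorem F458856 : act 7 n210803 = n195336 := d15_2 (iv0 F458824) D210803 (iv2 F458821)
theorem F458857 : act 3 n195340 = n210803 := d20_3 (iv4 D112780) (iv1 F162053) (iv4 F396756) (iv1 D210803) F223033 F175593 F365095 (iv4 F226836) F226835 F203881
theorem F458858 : act 6 n195452 = n210803 := d21_3 (iv5 F396660) (iv1 F396662) D195452 (iv1 D210803) (iv6 D139828) (iv5 D65637) D65635 D139822 (iv6 F397035) (iv1 F397034)
theorem F458859 : act 4 n210803 = n205867 := d10_1 F458858 (iv6 F447677) F447675
def n210804 : Q := act 5 n139828
theorem D210804 : act 5 n139828 = n210804 := rfl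
theorem F458860 : act 3 n210804 = n200203 := d6_1 D210804 F415500 (iv3 F223033)
theorem F458861 : act 6 n210804 = n139831 := d12_2 D139828 D210804 (iv5 D139831) (iv6 D65638) D65637
theorem F458862 : act 4 n210804 = n186610 := d19_2 (iv1 D210803) D210804 F367444 F356256 (iv5 D185422) F135258 (iv3 D48421) F70128 (iv5 F70209) D95629 D190108 (iv1 F378872) (iv5 D174694) (iv4 F326926) (iv3 D52053) F82015 (iv5 F162050) (iv4 F396756) F458857
def n210805 : Q := act 7 n139828
theorem D210805 : act 7 n139828 = n210805 := rfl
theorem F458863 : act 3 n210805 = n200206 := d8_1 D210805 (iv7 D200206) (iv3 F223033)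
theorem F458864 : act 4 n210805 = n201185 := d11_1 D210805 F458855 F458853
def n210806 : Q := act 3 n139829
theorem D210806 : act 3 n139829 = n210806 := rfl
def n210807 : Q := act 5 n139829
theorem D210807 : act 5 n139829 = n210807 := rfl
def n210808 : Q := act 3 n139830
theorem D210808 : act 3 n139830 = n210808 := rfl
theorem F458865 : act 6 n210808 = n200014 := d7_2 F446689 D210808 (iv3 F446688)
theorem F458866 : act 4 n209768 = n210808 := d10_3 F458865 (iv4 F427036) (iv6 F454889)
def n210809 : Q := act 5 n139830
theorem D210809 : act 5 n139830 = n210809 := rfl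
theorem F458867 : act 4 n210809 = n201543 := d16_2 F364530 D210809 (iv5 D201543) (iv4 D114801) (iv5 D52972) (iv4 F83690) D114755 (iv7 F420838) F420835
def n210810 : Q := act 0 n139831
theorem D210810 : act 0 n139831 = n210810 := rfl
theorem F458868 : act 5 n210810 = n197395 := d17_3 (iv1 D139830) D139831 D210810 F404127 (iv5 D146315) (iv0 F334439) (iv5 D145511) D145510 F364530
theorem F458869 : act 7 n197394 = n210810 := d13_0 F458868 (iv7 D197395) D197394
def n210811 : Q := act 4 n139831
theorem D210811 : act 4 n139831 = n210811 := rfl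
theorem F458870 : act 6 n210811 = n186610 := d10_2 F458861 D210811 (iv4 F458862)
theorem F458871 : act 5 n210811 = n192713 := d16_3 (iv4 F101374) D139831 D210811 F387587 (iv5 F397504) (iv4 D195593) (iv5 F333653) (iv7 D139821) F101370
def n210812 : Q := act 7 n139831
theorem D210812 : act 7 n139831 = n210812 := rfl
theorem F458872 : act 3 n210812 = n197378 := d8_1 D210812 F404083 (iv3 F223034)
theorem F458873 : act 5 n210812 = n139832 := d13_1 D210812 (iv7 D139832) D139831
theorem F458874 : act 1 n197394 = n210812 := d15_1 F458839 (iv7 D210812) (iv2 F458838)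
def n210813 : Q := act 6 n139833
theorem D210813 : act 6 n139833 = n210813 := rfl
theorem F458875 : act 2 n210813 = n143042 := d3_1 D210813 (iv6 D143042) F223038
theorem F458876 : act 4 n210813 = n143027 := d10_1 D210813 (iv6 D143027) (iv4 F223037)
theorem F458877 : act 5 n210813 = n190744 := d12_1 D210813 F395060 F395059 F397365 F397360
theorem F458878 : act 7 n210813 = n149232 := d14_2 F224600 D210813 (iv6 D149232) (iv7 F199524) F346222
theorem F458879 : act 0 n210813 = n139836 := d21_4 D105726 D195564 F397360 D210813 (iv6 D139836) D139835 F223044 (iv5 D127608) (iv6 F346321) (iv1 D105725)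
theorem F458880 : act 1 n210813 = n146271 := d15_1 (iv0 F458879) F229596 (iv2 F358018)
def n210814 : Q := act 5 n139836
theorem D210814 : act 5 n139836 = n210814 := rfl
theorem F458881 : act 2 n210814 = n176902 := d2_1 D210814 F373627 (iv2 F358018)
theorem F458882 : act 3 n210814 = n146024 := d6_1 D210814 (iv5 D146024) (iv3 F223047)
theorem F458883 : act 6 n210814 = n158903 := d12_2 D139836 D210814 (iv5 F254080) (iv6 F353240) (iv5 D139835)
theorem F458884 : act 7 n210814 = n190342 := d13_2 F379303 D210814 F379466
theorem F458885 : act 0 n210814 = n189949 := d17_2 F458879 D210814 (iv5 D189949) D189948 F378342 (iv0 F380966) F380963 F346243 (iv4 F458876)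
theorem F458886 : act 1 n210814 = n189951 := d17_6 (iv1 F234582) (iv5 F311523) F333615 (iv5 D139839) (iv4 F223048) D210814 (iv5 D189951) F148701 (iv4 F183361)
def n210815 : Q := act 0 n139843
theorem D210815 : act 0 n139843 = n210815 := rfl
theorem F458887 : act 4 n210815 = n145512 := d18_3 D65643 D139843 D210815 (iv5 F334974) (iv4 F426003) (iv0 D202879) F183172 F321608 (iv5 D65645)
theorem F458888 : act 1 n139848 = n210815 := d15_0 (iv0 D210815) (iv7 F458850) F458848
theorem F458889 : act 7 n210815 = n145506 := d15_2 (iv0 F458803) F458888 (iv2 F458800)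
def n210816 : Q := act 3 n139843
theorem D210816 : act 3 n139843 = n210816 := rfl
def n210817 : Q := act 5 n139843
theorem D210817 : act 5 n139843 = n210817 := rfl
def n210818 : Q := act 2 n139847
theorem D210818 : act 2 n139847 = n210818 := rfl
theorem F458890 : act 4 n210818 = n144509 := d1_2 F408695 D210818 (iv2 F408693)
def n210819 : Q := act 5 n139847
theorem D210819 : act 5 n139847 = n210819 := rfl
theorem F458891 : act 3 n210819 = n139849 := d6_1 D210819 (iv5 D139849) D139847
theorem F458892 : act 6 n210819 = n145909 := d12_2 (iv6 F408692) D210819 (iv5 F368611) (iv6 F368614) (iv5 F408690)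
theorem F458893 : act 7 n210819 = n201511 := d13_2 F425942 D210819 (iv5 F425941)
theorem F458894 : act 0 n210819 = n202970 := d17_2 (iv1 F424202) D210819 (iv5 F427492) F427493 F379160 (iv0 D190241) (iv5 F361796) F425804 F425802
theorem F458895 : act 4 n210819 = n193593 := d17_4 F433934 F433936 (iv1 F424202) D210819 F390386 (iv0 D186482) D186484 F356806 (iv4 F227935)
theorem F458896 : act 1 n210819 = n190703 := d17_8 (iv1 F360634) F285099 (iv1 F136478) (iv5 F356589) (iv4 F397488) F397489 (iv0 F420705) D210819 (iv4 D190703)
def n210820 : Q := act 5 n139848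
theorem D210820 : act 5 n139848 = n210820 := rfl
def n210821 : Q := act 5 n139929
theorem D210821 : act 5 n139929 = n210821 := rfl
theorem F458897 : act 2 n210821 = n209559 := d2_1 D210821 F454130 (iv2 F223155)
theorem F458898 : act 3 n210821 = n139930 := d6_1 D210821 (iv5 D139930) D139929
theorem F458899 : act 6 n210821 = n192043 := d12_2 (iv6 F365843) D210821 F385329 (iv6 F366718) (iv5 F366719)
theorem F458900 : act 7 n210821 = n192049 := d13_2 (iv7 F223157) D210821 F385339
theorem F458901 : act 0 n210821 = n193100 := d17_2 F438475 D210821 F388747 (iv4 D137667) D137668 (iv0 F438912) F438909 (iv0 F454409) F454407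
theorem F458902 : act 1 n210821 = n210476 := d17_6 (iv1 D136026) (iv5 F218743) F452690 (iv5 D209198) (iv4 F223156) D210821 F457697 F226067 F218877
theorem F458903 : act 4 n210821 = n199774 := d18_5 (iv1 D65442) (iv4 F99432) D135946 (iv4 F223156) D210821 (iv0 D199774) F173430 D111740 F410209
def n210822 : Q := act 5 n139931
theorem D210822 : act 5 n139931 = n210822 := rfl
theorem F458904 : act 2 n210822 = n207328 := d2_1 D210822 F444368 (iv2 F366207)
theorem F458905 : act 3 n210822 = n152024 := d6_1 D210822 (iv5 F366719) F365842
theorem F458906 : act 4 n210822 = n208173 := d9_1 D210822 (iv5 F455059) (iv4 F455061) (iv5 D203400) F186939 D118882 (iv4 F397556) F397557 (iv4 F252707) F361530 (iv4 F456725) F456726 F222930 (iv5 F321953) (iv4 F223161)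
theorem F458907 : act 6 n210822 = n192031 := d12_2 D139931 D210822 F385283 F388431 (iv5 D139930)
theorem F458908 : act 7 n210822 = n188770 := d13_2 F366206 D210822 F374817
theorem F458909 : act 0 n210822 = n193110 := d17_2 F353382 D210822 (iv5 F457480) F457479 (iv5 F348043) F348041 (iv5 D116028) (iv0 F318713) D150910
theorem F458910 : act 1 n210822 = n150083 := d17_8 (iv1 F384706) (iv5 F433619) (iv1 F433622) F384328 (iv4 F384322) F384323 (iv0 F351437) D210822 (iv4 F308573)
def n210823 : Q := act 4 n139932
theorem D210823 : act 4 n139932 = n210823 := rfl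
theorem F458911 : act 2 n210823 = n208842 := d1_1 D210823 F451077 F424530
theorem F458912 : act 6 n210823 = n188193 := d10_2 F371695 D210823 (iv4 F372642)
theorem F458913 : act 7 n210823 = n208841 := d11_2 F424538 D210823 F451071
theorem F458914 : act 5 n210823 = n208846 := d16_1 D210823 (iv4 D208846) F360241 (iv4 D67187) F103141 (iv4 F101420) D139930 (iv7 F424533) F424530
theorem F458915 : act 0 n210823 = n202554 := d18_2 (iv1 F223163) D210823 (iv4 D202554) F181704 (iv4 F84534) D66753 F102947 F102246 D66351
theorem F458916 : act 1 n210823 = n198307 := d18_6 D53458 D115946 (iv1 F180550) F182489 D139932 D210823 (iv4 F407558) (iv0 D115955) (iv5 D53461)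
def n210824 : Q := act 4 n139936
theorem D210824 : act 4 n139936 = n210824 := rfl
theorem F458917 : act 2 n210824 = n201162 := d1_1 D210824 F419295 (iv2 F411141)
theorem F458918 : act 5 n210824 = n208325 := d16_1 D210824 F448922 D210187 F456503 F410833 (iv4 F424542) (iv5 F453593) F453592 (iv2 F411141)
theorem F458919 : act 0 n210824 = n199049 := d17_0 (iv5 F454742) F454743 (iv5 D207662) (iv4 F219600) (iv5 F220375) F361548 D199190 F411100 D210824
theorem F458920 : act 1 n210824 = n199056 := d18_6 (iv1 F180526) (iv4 F228374) F228375 F104312 D139936 D210824 (iv4 D199056) F224265 (iv5 D139466)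
theorem F458921 : act 6 n201166 = n210824 := d21_9 (iv5 F454742) F454743 (iv5 D207662) (iv6 D132200) (iv1 F161913) D195255 (iv5 F421855) (iv1 F421857) (iv5 F419300) F458919
theorem F458922 : act 0 n201806 = n201742 := d21_1 D201806 F421640 F388373 F388371 F442467 (iv5 F442468) D208325 (iv5 F458918) (iv6 F458921) (iv1 F419304)
def n210825 : Q := act 6 n139936
theorem D210825 : act 6 n139936 = n210825 := rfl
theorem F458923 : act 2 n210825 = n201085 := d3_1 D210825 F419036 (iv2 F411141)
theorem F458924 : act 3 n210825 = n139941 := d7_1 D210825 (iv6 D139941) (iv3 F223166)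
theorem F458925 : act 4 n210825 = n201166 := d10_1 D210825 F458921 (iv4 D210824)
theorem F458926 : act 7 n210825 = n201566 := d14_2 (iv7 F411136) D210825 (iv6 F421490) (iv7 F446131) (iv6 F446132)
theorem F458927 : act 5 n209487 = n210825 := d21_2 D136530 D209487 (iv6 D210825) (iv1 F411100) (iv6 F453573) F453570 (iv1 F456203) F456200 F388559 (iv1 D136529)
theorem F458928 : act 0 n201564 = n210825 := d21_4 (iv5 F280324) (iv1 D179981) D179983 F422885 (iv6 D210825) (iv5 D139936) F222579 (iv5 F453502) F453504 (iv1 F236273)
theorem F458929 : act 1 n201565 = n210825 := d15_1 D201565 F458926 (iv2 D201566)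
theorem F458930 : act 5 n201565 = n193786 := d21_2 F458927 (iv1 F458929) (iv6 D193786) (iv1 F346080) (iv6 F365478) F218773 (iv1 D64183) D64184 (iv6 F219629) D209487
theorem F458931 : act 3 n193788 = n201565 := d6_3 F458930 F391005 D193788
def n210826 : Q := act 5 n139937
theorem D210826 : act 5 n139937 = n210826 := rfl
theorem F458932 : act 3 n210826 = n139944 := d6_1 D210826 (iv5 D139944) (iv3 F223167)
theorem F458933 : act 6 n210826 = n209487 := d12_2 D139937 D210826 F458927 (iv6 D210825) (iv5 D139936)
def n210827 : Q := act 7 n139937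
theorem D210827 : act 7 n139937 = n210827 := rfl
theorem F458934 : act 3 n210827 = n139945 := d8_1 D210827 (iv7 D139945) (iv3 F223167)
def n210828 : Q := act 6 n139939
theorem D210828 : act 6 n139939 = n210828 := rfl
theorem F458935 : act 2 n210828 = n143248 := d3_1 D210828 (iv6 D143248) F223174
theorem F458936 : act 3 n210828 = n208254 := d7_1 D210828 (iv6 D208254) F223175
theorem F458937 : act 4 n210828 = n202586 := d10_1 D210828 (iv6 F424633) F384443
theorem F458938 : act 7 n210828 = n210700 := d14_2 F224427 D210828 (iv6 F458488) F372586 F372579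
theorem F458939 : act 0 n210828 = n193001 := d21_4 (iv5 D116296) F103068 (iv5 F223173) D210828 (iv6 D193001) (iv5 D101084) (iv1 F177398) (iv5 F385313) (iv6 F424532) F424534
theorem F458940 : act 5 n202556 = n210828 := d21_8 (iv5 D65699) D65696 D139930 (iv6 F388431) (iv1 F385280) (iv6 F424491) (iv5 D202558) D202556 (iv6 D210828) (iv1 D139939)
theorem F458941 : act 1 n210828 = n202649 := d17_6 (iv1 F223172) F223173 F103067 D116284 (iv4 F424478) F458940 (iv5 D202649) (iv0 F223209) (iv4 D139983)
def n210829 : Q := act 3 n139940
theorem D210829 : act 3 n139940 = n210829 := rfl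
theorem F458942 : act 5 n210829 = n204517 := d6_2 F458491 D210829 F458494
theorem F458943 : act 0 n202914 = n210829 := d21_10 F458942 (iv1 D204517) D204518 F432789 F357329 (iv6 D148106) (iv5 D69390) (iv1 F85545) (iv5 F183490) D202914
def n210830 : Q := act 6 n139940
theorem D210830 : act 6 n139940 = n210830 := rfl
theorem F458944 : act 4 n210830 = n139941 := d10_1 D210830 (iv6 D139941) D139940
def n210831 : Q := act 0 n139941
theorem D210831 : act 0 n139941 = n210831 := rfl
def n210832 : Q := act 1 n139941
theorem D210832 : act 1 n139941 = n210832 := rfl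
theorem F458945 : act 1 n210832 = n201463 := d15_1 D210832 F420605 (iv2 F363778)
theorem F458946 : act 6 n207329 = n210832 := d21_3 (iv5 D191752) F354634 (iv5 F444374) (iv1 D210832) (iv6 D139941) (iv5 D65699) D65696 D139930 (iv6 F388431) (iv1 F385280)
theorem F458947 : act 3 n210832 = n207330 := d7_1 F458946 (iv6 D207330) D207329
def n210833 : Q := act 5 n139941
theorem D210833 : act 5 n139941 = n210833 := rfl
theorem F458948 : act 2 n210833 = n203622 := d2_1 D210833 F429107 (iv2 F363778)
theorem F458949 : act 3 n210833 = n209487 := d6_1 D210833 F458927 F458924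
theorem F458950 : act 6 n210833 = n139944 := d12_2 D139941 D210833 (iv5 D139944) (iv6 D65700) D65699
def n210834 : Q := act 7 n139941
theorem D210834 : act 7 n139941 = n210834 := rfl
theorem F458951 : act 2 n210834 = n201463 := d4_1 D210834 F420605 (iv2 F363778)
theorem F458952 : act 3 n210834 = n201566 := d8_1 D210834 (iv7 F458926) F458924
theorem F458953 : act 6 n210834 = n209401 := d14_1 D210834 F453589 (iv6 D202569) F180686 D139941
theorem F458954 : act 1 n201463 = n210831 := d15_0 (iv0 D210831) D210834 F458951
def n210835 : Q := act 3 n139942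
theorem D210835 : act 3 n139942 = n210835 := rfl
theorem F458955 : act 6 n210835 = n192925 := d7_2 (iv6 F359207) D210835 F408897
theorem F458956 : act 4 n209201 = n210835 := d20_8 F424600 (iv1 F335044) (iv4 F222605) (iv3 D139392) F101535 (iv3 F101158) (iv4 F218696) D209201 (iv3 D210835) (iv1 F424603)
def n210836 : Q := act 5 n139942
theorem D210836 : act 5 n139942 = n210836 := rfl
def n210837 : Q := act 5 n139943
theorem D210837 : act 5 n139943 = n210837 := rfl
theorem F458957 : act 4 n210837 = n208495 := d16_2 F334971 D210837 (iv5 D208495) (iv4 F327837) F161513 (iv4 F161816) (iv5 F333246) F333248 (iv2 F333258)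
def n210838 : Q := act 0 n139944
theorem D210838 : act 0 n139944 = n210838 := rfl
theorem F458958 : act 5 n210838 = n202937 := d17_3 (iv1 D139943) D139944 D210838 (iv4 D202937) (iv5 D117318) D117317 F322278 D144494 F334971
theorem F458959 : act 4 n210838 = n193577 := d18_1 D210838 (iv1 D193577) F156918 (iv5 F341128) F341127 (iv0 F333245) F359173 (iv0 D139942) D139944
theorem F458960 : act 6 n183774 = n210838 := d10_0 F458959 (iv6 F418873) F364217
theorem F458961 : act 3 n210838 = n183776 := d7_1 F458960 (iv6 D183776) D183774
theorem F458962 : act 0 n183776 = n193796 := d20_4 (iv4 F450805) F450806 (iv4 F458959) F458961 (iv3 D193796) F361676 D189912 (iv4 F386225) F386224 (iv1 F424449)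
theorem F458963 : act 0 n154586 = n183776 := d20_4 F308729 (iv1 D73272) D73273 D154586 (iv3 F458961) F458959 (iv1 D193577) F156918 (iv3 D88182) D88180
def n210839 : Q := act 1 n139944
theorem D210839 : act 1 n139944 = n210839 := rfl
theorem F458964 : act 5 n210839 = n204973 := d17_7 (iv1 D65121) D65122 (iv1 F325726) (iv5 D65709) (iv4 F101422) D139944 D210839 F434400 (iv4 D138693)
theorem F458965 : act 4 n210839 = n185278 := d18_7 F390326 (iv4 F327837) D195138 F395927 D209794 F454979 D210839 F450808 D193579
theorem F458966 : act 6 n185276 = n210839 := d10_0 F458965 (iv6 D185278) D185276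
def n210840 : Q := act 7 n139944
theorem D210840 : act 7 n139944 = n210840 := rfl
theorem F458967 : act 5 n210840 = n139945 := d13_1 D210840 (iv7 D139945) D139944
def n210841 : Q := act 6 n139970
theorem D210841 : act 6 n139970 = n210841 := rfl
theorem F458968 : act 2 n210841 = n139974 := d3_1 D210841 (iv6 D139974) (iv2 F223189)
theorem F458969 : act 3 n210841 = n156087 := d7_1 D210841 F366111 (iv3 F223190)
theorem F458970 : act 4 n210841 = n139972 := d10_1 D210841 (iv6 D139972) D139970
theorem F458971 : act 0 n210841 = n202480 := d21_4 D116544 (iv1 F423288) F423286 D210841 F424195 F278653 (iv1 D178767) (iv5 D85190) F323217 (iv1 F181465)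
theorem F458972 : act 0 n202481 = n210841 := d21_4 (iv5 F454995) F454998 F453044 (iv6 F424198) (iv6 D210841) (iv5 F423286) (iv1 F423289) F181939 (iv6 F322129) D152715
def n210842 : Q := act 1 n139972
theorem D210842 : act 1 n139972 = n210842 := rfl
theorem F458973 : act 1 n210842 = n139980 := d15_1 D210842 (iv7 D139980) (iv2 F223197)
theorem F458974 : act 7 n210842 = n139977 := d15_2 (iv0 F349481) D210842 (iv2 F363474)
theorem F458975 : act 5 n210842 = n208217 := d18_9 (iv1 D208217) (iv4 F348267) F348263 (iv4 D157409) (iv5 F313691) D202480 (iv0 F458971) F458970 D210842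
theorem F458976 : act 4 n152754 = n210842 := d20_0 (iv1 D210842) (iv4 F458970) F458969 (iv1 D156087) F111125 F53461 D34066 D74253 D156102 (iv1 F422672)
theorem F458977 : act 3 n140721 = n210842 := d20_3 (iv4 F227414) (iv1 F425909) (iv4 F425913) (iv1 D210842) (iv3 F228406) F228407 D145362 F366101 (iv3 F324905) (iv1 F340946)
theorem F458978 : act 6 n152752 = n210842 := d21_3 F264606 (iv1 F330101) F280211 (iv1 D210842) (iv6 D139972) D139971 F223195 (iv5 D115641) D115642 F319615
theorem F458979 : act 2 n210842 = n139978 := d3_1 F458978 (iv6 F363479) (iv2 F239962)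
theorem F458980 : act 1 n139980 = n144467 := d15_1 F458973 (iv7 F363477) (iv2 F458979)
def n210843 : Q := act 5 n139972
theorem D210843 : act 5 n139972 = n210843 := rfl
theorem F458981 : act 2 n210843 = n139979 := d2_1 D210843 (iv5 D139979) (iv2 F223197)
theorem F458982 : act 3 n210843 = n203799 := d6_1 D210843 F429864 F228406
theorem F458983 : act 6 n210843 = n208222 := d12_2 D139972 D210843 F448447 (iv6 F361083) (iv5 D139971)
theorem F458984 : act 4 n210843 = n203757 := d17_4 (iv1 F448416) (iv5 F458975) (iv1 D210842) D210843 (iv5 F432970) (iv0 D204592) (iv5 D124029) (iv0 F315670) (iv4 F276301)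
theorem F458985 : act 0 n210843 = n192352 := d18_0 F386544 D192357 F386554 F313918 (iv4 F245273) (iv0 F366110) (iv4 F316712) (iv0 F349481) D210843
theorem F458986 : act 7 n207452 = n210843 := d11_0 F458984 (iv7 F444411) (iv4 F444995)
def n210844 : Q := act 7 n139972
theorem D210844 : act 7 n139972 = n210844 := rfl
theorem F458987 : act 2 n210844 = n139980 := d4_1 D210844 (iv7 D139980) (iv2 F223197)
theorem F458988 : act 3 n210844 = n177176 := d8_1 D210844 (iv7 F357276) F228406
theorem F458989 : act 5 n210844 = n207452 := d13_1 D210844 F458986 (iv5 D210843)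
theorem F458990 : act 6 n210844 = n177173 := d14_1 D210844 (iv7 F393580) F393579 F180700 D139972
theorem F458991 : act 1 n139978 = n210844 := d15_1 D139978 (iv7 D210844) F223197
theorem F458992 : act 1 n210844 = n139977 := d15_1 F458991 (iv7 F458974) F458979
def n210845 : Q := act 5 n139974
theorem D210845 : act 5 n139974 = n210845 := rfl
def n210846 : Q := act 7 n139974
theorem D210846 : act 7 n139974 = n210846 := rfl
theorem F458993 : act 4 n210846 = n139980 := d11_1 D210846 (iv7 D139980) (iv4 F223200)
theorem F458994 : act 6 n210846 = n210782 := d14_1 D210846 F458774 F422812 F180747 D139974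
theorem F458995 : act 1 n202481 = n210846 := d15_1 (iv0 F458972) (iv7 D210846) (iv2 F458968)
theorem F458996 : act 1 n210846 = n202480 := d15_1 F458995 F424196 (iv2 F424197)
def n210847 : Q := act 0 n139976
theorem D210847 : act 0 n139976 = n210847 := rfl
theorem F458997 : act 4 n210847 = n203808 := d18_1 D210847 (iv1 F443327) F443324 (iv5 D191325) F344401 (iv0 F302980) (iv4 F267772) (iv0 F383451) F383448
theorem F458998 : act 3 n210847 = n170463 := d20_5 (iv4 F114995) (iv1 F340976) F223212 (iv3 F223204) D210847 F344131 (iv1 F403176) F403173 F247846 (iv1 D76667)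
theorem F458999 : act 6 n210847 = n170463 := d21_5 (iv5 F101364) F179600 D65716 D139976 D210847 F344130 (iv1 D177203) (iv5 F267499) F354092 (iv1 D127695)
theorem F459000 : act 2 n149262 = n210847 := d15_3 (iv0 D210847) F362054 D149262
theorem F459001 : act 1 n149261 = n210847 := d15_0 (iv0 D210847) (iv7 F334129) (iv2 F362055)
theorem F459002 : act 7 n210847 = n149257 := d15_2 D149261 F459001 F234640
def n210848 : Q := act 0 n139979
theorem D210848 : act 0 n139979 = n210848 := rfl
theorem F459003 : act 5 n210848 = n206346 := d17_1 D210848 (iv1 D206346) (iv5 F215322) (iv4 F348267) (iv5 F432013) (iv0 F432014) (iv5 F429719) F431027 F431025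
theorem F459004 : act 6 n210848 = n192349 := d21_5 F205724 (iv1 F362054) (iv5 F383448) F383447 D210848 (iv5 F424837) (iv1 D202631) F344014 D204332 F432085
theorem F459005 : act 2 n192352 = n210848 := d3_3 F459004 F386534 D192352
theorem F459006 : act 4 n192351 = n210848 := d10_3 F459004 (iv4 D192349) D192351
theorem F459007 : act 0 n210848 = n207452 := d21_4 F346680 (iv1 F424836) F424837 (iv6 F459004) F444996 (iv5 F439912) F439586 F367682 F432080 (iv1 F432079)
def n210849 : Q := act 1 n139979
theorem D210849 : act 1 n139979 = n210849 := rfl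
theorem F459008 : act 1 n210849 = n207452 := d15_1 D210849 F458986 F458981
theorem F459009 : act 7 n210849 = n192352 := d15_2 (iv0 D210848) D210849 F459005
theorem F459010 : act 4 n210849 = n192360 := d17_9 F386562 (iv5 F242643) F366779 (iv5 D183393) (iv4 F312607) F363475 (iv0 D139977) D139979 D210849
theorem F459011 : act 5 n210849 = n206345 := d18_9 (iv1 F440344) (iv4 F422765) F423142 F423141 F360899 (iv4 F429718) F431027 F431025 D210849
theorem F459012 : act 6 n206242 = n210849 := d21_9 (iv5 D139979) D139977 (iv5 F363475) F312608 (iv1 F151889) F304148 (iv5 F313737) F313735 (iv5 F439879) (iv1 D210849)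
def n210850 : Q := act 7 n139979
theorem D210850 : act 7 n139979 = n210850 := rfl
theorem F459013 : act 2 n210850 = n207452 := d4_1 D210850 F458986 F458981
theorem F459014 : act 3 n210850 = n140009 := d8_1 D210850 (iv7 D140009) (iv3 F223205)
theorem F459015 : act 4 n210850 = n203758 := d11_1 D210850 F431029 F431025
theorem F459016 : act 5 n210850 = n139980 := d13_1 D210850 (iv7 D139980) D139979
theorem F459017 : act 6 n210850 = n197202 := d14_1 D210850 (iv7 F439908) F439905 F383450 F383447
theorem F459018 : act 0 n192352 = n210850 := d20_10 F459015 (iv1 D203758) (iv4 F381140) F381139 (iv1 F149154) D159114 (iv4 F303003) D167351 F357082 (iv3 F386543)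
def n210851 : Q := act 6 n139981
theorem D210851 : act 6 n139981 = n210851 := rfl
theorem F459019 : act 2 n210851 = n201529 := d3_1 D210851 F420870 (iv2 F410378)
theorem F459020 : act 3 n210851 = n139984 := d7_1 D210851 (iv6 D139984) (iv3 F223207)
theorem F459021 : act 4 n210851 = n201462 := d10_1 D210851 F420602 (iv4 F363772)
theorem F459022 : act 7 n210851 = n201461 := d14_2 F363773 D210851 F420598 F178612 D152774
theorem F459023 : act 0 n210851 = n201541 := d21_4 (iv5 D110848) F101434 D139981 D210851 (iv6 F434950) F434948 (iv1 F432882) (iv5 F219597) F410341 (iv1 D199017)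
theorem F459024 : act 0 n189010 = n210851 := d21_4 (iv5 F283461) F349304 F340061 D189010 (iv6 D210851) (iv5 D139981) (iv1 F222569) F354433 (iv6 D184529) F155772
def n210852 : Q := act 5 n139982
theorem D210852 : act 5 n139982 = n210852 := rfl
theorem F459025 : act 3 n210852 = n139987 := d6_1 D210852 (iv5 D139987) (iv3 F223208)
def n210853 : Q := act 3 n139983
theorem D210853 : act 3 n139983 = n210853 := rfl
theorem F459026 : act 5 n210853 = n199788 := d6_2 F458496 D210853 F458498
theorem F459027 : act 7 n210853 = n187623 := d8_2 F224231 D210853 (iv3 F372990)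
theorem F459028 : act 0 n210853 = n187624 := d20_4 (iv4 F372565) (iv1 F223168) D139983 D210853 F371029 (iv4 F140265) (iv1 F140267) (iv4 F378008) (iv3 F378689) (iv1 F372584)
theorem F459029 : act 0 n187614 = n210853 := d20_4 (iv4 D206201) F321180 (iv4 F356695) (iv3 F371018) (iv3 D210853) (iv4 D139983) (iv1 F223172) (iv4 F384443) F384442 (iv1 F439690)
theorem F459030 : act 6 n210853 = n210460 := d21_5 F295018 (iv1 F138651) D90395 D187614 F459029 (iv5 D210460) F341572 (iv5 F295024) (iv6 D93289) D93286
theorem F459031 : act 2 n187622 = n210853 := d15_3 (iv0 F459029) (iv0 F428020) F428018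
def n210854 : Q := act 6 n139983
theorem D210854 : act 6 n139983 = n210854 := rfl
theorem F459032 : act 3 n210854 = n210460 := d7_1 D210854 (iv6 F459030) (iv3 D210853)
theorem F459033 : act 4 n210854 = n139984 := d10_1 D210854 (iv6 D139984) D139983
theorem F459034 : act 5 n210854 = n209430 := d12_1 D210854 (iv6 D209430) (iv5 F450817) F458499 F458496
theorem F459035 : act 0 n202593 = n209460 := d21_10 (iv5 D209460) F453672 (iv5 F459034) (iv6 D210854) F223209 F424652 (iv5 D202590) (iv1 D116041) D116042 D202593
theorem F459036 : act 0 n209464 = n210854 := d20_4 (iv4 F453978) (iv1 F453981) (iv4 D209465) D209464 F459032 F457636 (iv1 F363438) F421129 F408422 F219660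
def n210855 : Q := act 0 n139984
theorem D210855 : act 0 n139984 = n210855 := rfl
theorem F459037 : act 6 n210855 = n208777 := d21_5 (iv5 D139930) (iv1 F101425) D65719 D139984 D210855 F450825 (iv1 D136376) D136378 F361544 (iv1 F223159)
theorem F459038 : act 3 n209010 = n210855 := d7_3 F459037 (iv3 F457666) (iv6 F451836)
theorem F459039 : act 4 n208778 = n210855 := d10_3 F459037 (iv4 D208777) D208778
def n210856 : Q := act 1 n139984
theorem D210856 : act 1 n139984 = n210856 := rfl
theorem F459040 : act 1 n210856 = n209401 := d15_1 D210856 F453589 F424548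
theorem F459041 : act 6 n192763 = n210856 := d21_3 F385307 F376332 (iv5 F387692) (iv1 D210856) (iv6 D139984) (iv5 D65719) (iv1 F101421) D139932 (iv6 F371695) (iv1 F385305)
theorem F459042 : act 3 n210856 = n192765 := d7_1 F459041 (iv6 D192765) D192763
def n210857 : Q := act 5 n139984
theorem D210857 : act 5 n139984 = n210857 := rfl
theorem F459043 : act 6 n210857 = n139987 := d12_2 D139984 D210857 (iv5 D139987) (iv6 D65720) D65719
def n210858 : Q := act 7 n139984
theorem D210858 : act 7 n139984 = n210858 := rfl
theorem F459044 : act 2 n210858 = n209401 := d4_1 D210858 F453589 F424548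
theorem F459045 : act 3 n210858 = n201461 := d8_1 D210858 (iv7 F459022) F459020
theorem F459046 : act 6 n210858 = n201463 := d14_1 D210858 F420605 F363776 F180760 D139984
theorem F459047 : act 1 n209401 = n210855 := d15_0 (iv0 D210855) D210858 F459044
def n210859 : Q := act 5 n139985
theorem D210859 : act 5 n139985 = n210859 := rfl
theorem F459048 : act 6 n210859 = n143501 := d12_2 F348292 D210859 (iv5 F349350) (iv6 F349348) (iv5 F338217)
theorem F459049 : act 0 n210859 = n191440 := d18_0 F383488 D191460 (iv4 F458446) (iv5 D210689) F341111 F341098 D156541 F361517 D210859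
def n210860 : Q := act 3 n139986
theorem D210860 : act 3 n139986 = n210860 := rfl
theorem F459050 : act 2 n210860 = n209753 := d0_1 D210860 (iv3 F458103) (iv2 F458101) (iv3 F424554) F424552
theorem F459051 : act 4 n210860 = n192089 := d5_2 F361510 D210860 F385492 F342541 D139768
theorem F459052 : act 6 n210860 = n192088 := d7_2 (iv6 F457185) D210860 F457184
theorem F459053 : act 7 n210860 = n209750 := d8_2 (iv7 F361507) D210860 F454836
def n210861 : Q := act 5 n139986
theorem D210861 : act 5 n139986 = n210861 := rfl
theorem F459054 : act 0 n191440 = n210861 := d19_0 (iv5 D210861) (iv4 F361510) (iv3 D139768) (iv1 D65613) D65614 (iv4 F342567) F315961 (iv1 F316957) (iv5 F188867) D203633 F429151 (iv1 F289471) (iv5 D89400) D89399 (iv3 F149748) (iv1 D46013) D46014 D98351 D191440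
def n210862 : Q := act 0 n139987
theorem D210862 : act 0 n139987 = n210862 := rfl
def n210863 : Q := act 1 n139987
theorem D210863 : act 1 n139987 = n210863 := rfl
def n210864 : Q := act 4 n139987
theorem D210864 : act 4 n139987 = n210864 := rfl
theorem F459055 : act 5 n210864 = n210207 := d17_5 F459054 (iv5 D210861) (iv1 D139986) D139987 D210864 F456574 (iv5 F450318) (iv0 D191460) (iv4 F383488)
theorem F459056 : act 1 n210864 = n210254 := d18_6 (iv1 F341121) F341111 (iv1 D65724) (iv4 F101435) D139987 D210864 F458449 F458447 F341129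
theorem F459057 : act 0 n210864 = n208394 := d21_1 (iv5 F459055) (iv5 D208394) (iv6 F217291) (iv1 F356313) F411676 (iv5 F450139) (iv1 F450141) (iv5 F371718) D208647 (iv1 F456574)
def n210865 : Q := act 7 n139987
theorem D210865 : act 7 n139987 = n210865 := rfl
theorem F459058 : act 5 n210865 = n139988 := d13_1 D210865 (iv7 D139988) D139987
def n210866 : Q := act 5 n139989
theorem D210866 : act 5 n139989 = n210866 := rfl
theorem F459059 : act 3 n210866 = n139990 := d6_1 D210866 (iv5 D139990) D139989
theorem F459060 : act 0 n210866 = n153315 := d17_2 F230277 D210866 (iv5 D153315) (iv4 F206189) F311877 (iv0 F171358) (iv5 F361982) (iv0 F361985) (iv4 F230276)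
theorem F459061 : act 1 n210866 = n147598 := d17_6 (iv1 F353619) F353600 D200624 (iv5 F425283) F425282 D210866 (iv5 D147598) D147597 (iv4 F231386)
theorem F459062 : act 4 n210866 = n188626 := d19_2 F230277 D210866 F451902 (iv1 F452347) F452344 F333186 F233562 (iv1 F106092) (iv5 F106099) (iv4 D69724) (iv3 F103900) (iv1 F176875) F176872 (iv4 F83034) F83035 (iv1 F77075) (iv5 F104019) (iv4 F105054) D146895
theorem F459063 : act 6 n210866 = n188468 := d21_3 F359700 F230277 D210866 (iv1 D188468) (iv6 D92005) (iv5 D43002) D42999 (iv5 F294368) D87421 D183145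
def n210867 : Q := act 3 n140008
theorem D210867 : act 3 n140008 = n210867 := rfl
theorem F459064 : act 2 n210867 = n207337 := d0_1 D210867 (iv3 D207337) F431274 F428390 F424556
theorem F459065 : act 6 n210867 = n192574 := d7_2 (iv6 F340975) D210867 F387127
theorem F459066 : act 0 n192986 = n210867 := d20_4 (iv4 F363924) (iv1 D147838) (iv4 F155745) (iv3 F388434) (iv3 D210867) (iv4 D140008) (iv1 F342392) (iv4 F339043) F221298 D138201
theorem F459067 : act 5 n210867 = n187674 := d19_1 F459066 (iv4 D187674) (iv3 D90443) (iv1 F68187) F68181 F32588 (iv3 F32570) (iv1 F290699) (iv5 D19862) (iv4 F15684) (iv3 F33094) D44050 F321217 (iv4 D69550) (iv3 F184824) (iv1 D69270) D69273 (iv4 F155745) (iv3 F388434)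
def n210868 : Q := act 5 n140008
theorem D210868 : act 5 n140008 = n210868 := rfl
theorem F459068 : act 2 n210868 = n193353 := d2_1 D210868 (iv5 F424558) F424556
theorem F459069 : act 3 n210868 = n187674 := d6_1 D210868 (iv5 F459067) (iv3 D210867)
theorem F459070 : act 0 n210868 = n186805 := d17_2 (iv1 F374702) D210868 (iv5 D186805) F304747 (iv5 F307714) (iv0 F424429) (iv5 F444467) (iv0 F458797) F458793
theorem F459071 : act 4 n210868 = n187676 := d17_4 (iv1 F385396) F287225 (iv1 F374702) D210868 (iv5 F386732) (iv0 F449177) (iv5 D208394) (iv0 F448726) F448724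
theorem F459072 : act 1 n210868 = n192061 := d17_6 (iv1 F311023) F341104 (iv1 D65724) D65725 D140008 D210868 (iv5 D192061) (iv0 D99593) (iv4 F153349)
theorem F459073 : act 7 n193354 = n210868 := d11_0 F459071 (iv7 F371443) F389552
def n210869 : Q := act 7 n140008
theorem D210869 : act 7 n140008 = n210869 := rfl
theorem F459074 : act 2 n210869 = n207338 := d4_1 D210869 F444407 F424556
theorem F459075 : act 4 n210869 = n140009 := d11_1 D210869 (iv7 D140009) D140008
theorem F459076 : act 5 n210869 = n193354 := d13_1 D210869 F459073 (iv5 D210868)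
theorem F459077 : act 1 n192005 = n210869 := d15_1 F424560 (iv7 D210869) (iv2 F424556)
theorem F459078 : act 1 n210869 = n157603 := d15_1 F459077 (iv7 F349696) (iv2 F385167)
theorem F459079 : act 6 n152005 = n210869 := d21_3 D73171 D154471 F364030 (iv1 F459077) (iv6 D192005) D192004 F385165 (iv5 F316793) F338140 (iv1 D73168)
def n210870 : Q := act 6 n140011
theorem D210870 : act 6 n140011 = n210870 := rfl
theorem F459080 : act 2 n210870 = n140059 := d3_1 D210870 (iv6 D140059) (iv2 F223218)
theorem F459081 : act 3 n210870 = n151959 := d7_1 D210870 F427993 F427991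
theorem F459082 : act 4 n210870 = n191752 := d10_1 D210870 (iv6 F424491) F424490
theorem F459083 : act 5 n210870 = n151995 := d12_1 D210870 (iv6 F342639) F154449 (iv6 F316570) D140011
theorem F459084 : act 0 n192592 = n210870 := d21_4 (iv5 F458491) (iv1 F458493) (iv5 F424462) F424460 (iv6 D210870) (iv5 D140011) (iv1 F180792) D202590 (iv6 F424652) (iv1 F223176)
theorem F459085 : act 1 n192565 = n210870 := d15_0 (iv0 F459084) (iv7 D192592) (iv2 F387094)
theorem F459086 : act 7 n192591 = n210870 := d13_0 F459083 F239013 F402780
def n210871 : Q := act 2 n140034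
theorem D210871 : act 2 n140034 = n210871 := rfl
theorem F459087 : act 3 n210871 = n147597 := d0_2 D140034 D210871 F347999 F348001 F181678
theorem F459088 : act 4 n210871 = n195202 := d1_2 F226337 D210871 F396228
theorem F459089 : act 7 n210871 = n195194 := d4_2 F424619 D210871 (iv2 F424615)
theorem F459090 : act 1 n210871 = n153331 := d15_0 (iv0 F424620) F424619 D210871
theorem F459091 : act 1 n195196 = n210871 := d15_0 F459090 (iv7 F448526) F448523
def n210872 : Q := act 5 n140036
theorem D210872 : act 5 n140036 = n210872 := rfl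
theorem F459092 : act 2 n210872 = n192609 := d2_1 D210872 (iv5 F424637) F424634
theorem F459093 : act 4 n210872 = n210335 := d9_1 D210872 (iv5 D210335) F221508 (iv5 F312930) (iv4 F309464) F320085 D148554 (iv5 F360918) (iv4 F360919) (iv5 D150690) (iv4 D71051) (iv5 F89222) (iv4 F194657) F320082 (iv4 F223250)
theorem F459094 : act 6 n210872 = n192604 := d12_2 D140036 D210872 F387220 (iv6 F361420) (iv5 D140035)
theorem F459095 : act 7 n210872 = n192568 := d13_2 F391994 D210872 (iv5 F391993)
theorem F459096 : act 0 n210872 = n192608 := d17_2 F356515 D210872 F387230 F196559 F114932 D157372 F342589 F342591 (iv4 F226223)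
theorem F459097 : act 1 n210872 = n192607 := d17_6 (iv1 D74001) F317592 (iv1 F309481) F320082 (iv4 F223250) D210872 F387227 F356830 (iv4 D155546)
def n210873 : Q := act 5 n140052
theorem D210873 : act 5 n140052 = n210873 := rfl
theorem F459098 : act 6 n210873 = n141484 := d12_2 D140052 D210873 (iv5 F424923) F424921 (iv5 D140051)
theorem F459099 : act 4 n210873 = n141485 := d16_2 (iv4 F366427) D210873 F364012 F278923 (iv5 F232646) F330111 (iv5 F243591) (iv7 F356522) (iv2 F356521)
theorem F459100 : act 0 n210873 = n160096 := d17_2 (iv1 F366426) D210873 (iv5 D160096) F115003 F106696 (iv0 F309480) F320082 (iv0 F320404) (iv4 F105888)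
theorem F459101 : act 1 n210873 = n155507 := d17_6 D143127 (iv5 F312141) F312138 (iv5 F235517) (iv4 F366427) D210873 (iv5 D155507) (iv0 F318752) F225977
def n210874 : Q := act 6 n140056
theorem D210874 : act 6 n140056 = n210874 := rfl
theorem F459102 : act 2 n210874 = n208705 := d3_1 D210874 (iv6 F450511) F224547
theorem F459103 : act 3 n210874 = n207078 := d7_1 D210874 F443217 F366165
theorem F459104 : act 5 n210874 = n176075 := d12_1 D210874 F364849 F425071 (iv6 D202680) (iv5 F223265)
theorem F459105 : act 7 n208895 = n210874 := d13_0 F459104 F364850 D208895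
theorem F459106 : act 0 n209446 = n210874 := d17_2 F449999 (iv5 F453742) F459104 (iv4 D176075) (iv5 D83999) (iv0 F336795) D76389 (iv0 F343524) (iv4 F449997)
def n210875 : Q := act 3 n140057
theorem D210875 : act 3 n140057 = n210875 := rfl
theorem F459107 : act 4 n210875 = n208239 := d5_2 (iv4 F413431) D210875 F448531 F409093 D199772
theorem F459108 : act 5 n210875 = n202681 := d6_2 (iv5 F223266) D210875 (iv3 D202681)
theorem F459109 : act 7 n210875 = n208706 := d8_2 F224548 D210875 F450512
def n210876 : Q := act 6 n140057
theorem D210876 : act 6 n140057 = n210876 := rfl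
theorem F459110 : act 4 n210876 = n192614 := d10_1 D210876 F413432 (iv4 F413431)
def n210877 : Q := act 6 n140058
theorem D210877 : act 6 n140058 = n210877 := rfl
theorem F459111 : act 2 n210877 = n191752 := d3_1 D210877 (iv6 F424491) F424488
theorem F459112 : act 3 n210877 = n150116 := d7_1 D210877 F388443 (iv3 F413433)
theorem F459113 : act 4 n210877 = n140059 := d10_1 D210877 (iv6 D140059) D140058
theorem F459114 : act 5 n210877 = n177818 := d12_1 D210877 F363202 (iv5 F387187) (iv6 F424460) F424462
theorem F459115 : act 0 n210877 = n192030 := d21_4 (iv5 D210700) (iv1 F424464) F424462 D210877 F385277 (iv5 D99545) D99543 D192032 F385288 (iv1 F458487)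
theorem F459116 : act 0 n204514 = n210877 := d21_4 (iv5 D116016) (iv1 F180620) D202566 (iv6 F432778) (iv6 D210877) (iv5 F424462) F424463 F361418 (iv6 D143248) F181557
theorem F459117 : act 7 n191755 = n210877 := d13_0 F459114 (iv7 F281958) D191755
def n210878 : Q := act 7 n140059
theorem D210878 : act 7 n140059 = n210878 := rfl
theorem F459118 : act 2 n210878 = n192591 := d4_1 D210878 F459086 F459080
theorem F459119 : act 3 n210878 = n148141 := d8_1 D210878 (iv7 D148141) (iv3 F223267)
theorem F459120 : act 4 n210878 = n191755 := d11_1 D210878 F459117 F459113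
theorem F459121 : act 5 n210878 = n192581 := d13_1 D210878 F387163 (iv5 F366713)
theorem F459122 : act 1 n192592 = n210878 := d15_1 (iv0 F459084) (iv7 D210878) (iv2 F459080)
theorem F459123 : act 1 n210878 = n192565 := d15_1 F459122 (iv7 F424495) F424492
def n210879 : Q := act 0 n140112
theorem D210879 : act 0 n140112 = n210879 := rfl
theorem F459124 : act 5 n210879 = n174103 := d17_3 F351483 F351490 D210879 F324290 (iv5 F444841) F444844 F336417 (iv0 F351478) (iv4 F351476)
theorem F459125 : act 4 n210879 = n152877 := d18_1 D210879 (iv1 F429027) F429023 (iv5 F403308) (iv4 F444953) F444957 F427726 F351504 F351490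
theorem F459126 : act 6 n210879 = n202361 := d21_5 (iv5 D54436) F77245 F323757 D140112 D210879 F423754 (iv1 F397460) (iv5 F422791) F422789 (iv1 D118164)
theorem F459127 : act 2 n177189 = n210879 := d15_3 (iv0 D210879) F351492 (iv7 F351495)
theorem F459128 : act 1 n167643 = n210879 := d15_0 (iv0 D210879) (iv7 F457193) F457190
theorem F459129 : act 7 n210879 = n177034 := d15_2 (iv0 F351482) F459128 F351494
def n210880 : Q := act 5 n140259
theorem D210880 : act 5 n140259 = n210880 := rfl
theorem F459130 : act 2 n210880 = n193128 := d2_1 D210880 (iv5 D193128) F339889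
theorem F459131 : act 3 n210880 = n140260 := d6_1 D210880 (iv5 D140260) D140259
theorem F459132 : act 7 n210880 = n210765 := d13_2 F386742 D210880 F458728
def n210881 : Q := act 6 n140260
theorem D210881 : act 6 n140260 = n210881 := rfl
theorem F459133 : act 5 n210881 = n203599 := d12_1 D210881 (iv6 F429053) (iv5 D202181) (iv6 F179720) D140260
theorem F459134 : act 0 n201999 = n210881 := d17_2 (iv1 D201998) D201999 F459133 (iv4 F448421) (iv5 F459003) (iv0 D210848) (iv5 D139979) D139978 F422674
def n210882 : Q := act 3 n140265
theorem D210882 : act 3 n140265 = n210882 := rfl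
theorem F459135 : act 5 n210882 = n156006 := d6_2 (iv5 F223381) D210882 F245102
theorem F459136 : act 6 n210750 = n210882 := d12_0 F459135 (iv6 D156006) (iv5 F167142) D156213 (iv5 F458684)
def n210883 : Q := act 4 n140265
theorem D210883 : act 4 n140265 = n210883 := rfl
theorem F459137 : act 2 n210883 = n156210 := d1_1 D210883 (iv4 D156210) F223383
theorem F459138 : act 5 n210883 = n209847 := d16_1 D210883 (iv4 D209847) (iv5 D137009) (iv4 F162026) (iv5 F175912) F175911 (iv5 F223386) F223385 F223383
theorem F459139 : act 0 n210883 = n202092 := d17_0 (iv5 F452772) (iv1 F455139) F455136 (iv4 D205851) (iv5 D126688) (iv0 F111275) D137018 F223382 D210883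
theorem F459140 : act 1 n210883 = n202086 := d18_6 (iv1 F111479) (iv4 F165797) F165800 (iv4 F111029) (iv5 F223381) D210883 (iv4 D202086) F220182 F220181
theorem F459141 : act 0 n152875 = n209877 := d20_4 (iv4 D210883) (iv1 F223382) (iv4 F455106) (iv3 F455109) (iv3 D209877) (iv4 D137045) D137043 (iv4 F455064) F455063 (iv1 F459140)
theorem F459142 : act 1 n152351 = n209877 := d15_0 (iv0 F459141) (iv7 D152875) (iv2 F239551)
def n210884 : Q := act 6 n140265
theorem D210884 : act 6 n140265 = n210884 := rfl
theorem F459143 : act 2 n210884 = n156208 := d3_1 D210884 F245479 F223383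
theorem F459144 : act 3 n210884 = n210750 := d7_1 D210884 F459136 (iv3 D210882)
theorem F459145 : act 5 n210884 = n156007 := d12_1 D210884 (iv6 D156007) (iv5 D74204) D74205 (iv5 F223381)
def n210885 : Q := act 3 n140266
theorem D210885 : act 3 n140266 = n210885 := rfl
theorem F459146 : act 5 n210885 = n156205 := d6_2 (iv5 F223386) D210885 F245478
theorem F459147 : act 7 n210885 = n156204 := d8_2 (iv7 F223385) D210885 F245477
theorem F459148 : act 0 n152876 = n210885 := d17_2 F388834 (iv5 F359978) F459146 (iv4 F415363) (iv5 F440463) F440461 (iv5 F392903) F364583 (iv4 F388832)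
def n210886 : Q := act 4 n140266
theorem D210886 : act 4 n140266 = n210886 := rfl
theorem F459149 : act 5 n210886 = n205858 := d9_2 (iv5 F223386) D210886 (iv4 D205858) (iv5 D126696) F93834 D59448 (iv4 F111029) (iv5 F223381) D210883 F459138 (iv4 D209847) (iv5 D137009) (iv4 F162026) (iv5 F175912) F175911
theorem F459150 : act 7 n210886 = n156210 := d11_2 (iv7 F223385) D210886 (iv4 D156210)
theorem F459151 : act 0 n210886 = n202086 := d17_0 F423449 (iv1 F423452) D209549 F454093 (iv5 D140260) (iv0 D65819) D65822 D140266 D210886
theorem F459152 : act 1 n210886 = n202092 := d18_6 D74282 (iv4 F203891) (iv1 F203895) F175911 (iv5 F223386) D210886 (iv4 D202092) F179642 (iv5 D74284)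
def n210887 : Q := act 6 n140266
theorem D210887 : act 6 n140266 = n210887 := rfl
def n210888 : Q := act 3 n140267
theorem D210888 : act 3 n140267 = n210888 := rfl
theorem F459153 : act 4 n210888 = n152871 := d5_2 D140267 D210888 (iv3 D152871) (iv4 D72129) (iv3 F323814)
theorem F459154 : act 5 n210888 = n209854 := d6_2 (iv5 F223387) D210888 (iv3 D209854)
theorem F459155 : act 6 n210888 = n202109 := d7_2 F362129 D210888 F422897
def n210889 : Q := act 5 n140326
theorem D210889 : act 5 n140326 = n210889 := rfl
theorem F459156 : act 2 n210889 = n202725 := d2_1 D210889 (iv5 D202725) (iv2 F223427)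
theorem F459157 : act 3 n210889 = n140328 := d6_1 D210889 (iv5 D140328) D140326
theorem F459158 : act 7 n210889 = n208492 := d13_2 (iv7 F223428) D210889 F449609
theorem F459159 : act 4 n210889 = n191868 := d16_2 (iv4 F223429) D210889 F384616 F172345 (iv5 F343204) (iv4 F391314) F391315 F181469 (iv2 F223430)
theorem F459160 : act 1 n210889 = n199567 := d17_6 (iv1 F400903) D202023 (iv1 F422732) (iv5 F391263) (iv4 F223429) D210889 F412695 (iv0 F424206) F424204
theorem F459161 : act 0 n210889 = n203749 := d18_0 (iv4 D203749) D203748 F429672 F345332 (iv4 F180852) D201933 (iv4 F422431) F405422 D210889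
theorem F459162 : act 6 n199270 = n210889 := d10_0 F459159 F384617 D199270
def n210890 : Q := act 6 n140326
theorem D210890 : act 6 n140326 = n210890 := rfl
theorem F459163 : act 2 n210890 = n202726 := d3_1 D210890 (iv6 D202726) (iv2 F223427)
theorem F459164 : act 3 n210890 = n140329 := d7_1 D210890 (iv6 D140329) D140326
theorem F459165 : act 4 n210890 = n202197 := d10_1 D210890 (iv6 D202197) (iv4 F223429)
theorem F459166 : act 7 n210890 = n202251 := d14_2 (iv7 F223428) D210890 (iv6 D202251) (iv7 F401370) F401369
theorem F459167 : act 0 n204064 = n210890 := d21_4 (iv5 F299586) (iv1 D122583) D122585 D204064 (iv6 D210890) D210889 F459161 F429678 (iv6 D178102) D178100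
theorem E103972 : n204693 = n202251 := (c15_2 F457849 D204693 (iv7 F459166) F459163)
theorem F459168 : act 0 n202251 = n124228 := (sb E103972 (iv1 D204693))
def n210891 : Q := act 0 n140329
theorem D210891 : act 0 n140329 = n210891 := rfl
theorem F459169 : act 2 n141841 = n210891 := d15_3 (iv0 D210891) F366181 (iv7 F224883)
theorem F459170 : act 3 n210891 = n141983 := d0_2 D141841 F459169 (iv2 D141983) (iv3 D66567) (iv2 F102437)
theorem F459171 : act 7 n210891 = n141994 := d4_2 (iv7 F224883) F459169 (iv2 D141994)
theorem F459172 : act 1 n141993 = n210891 := d15_1 D141993 F459171 (iv2 D141994)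
def n210892 : Q := act 5 n140329
theorem D210892 : act 5 n140329 = n210892 := rfl
theorem F459173 : act 2 n210892 = n208563 := d2_1 D210892 (iv5 D208563) (iv2 F223439)
theorem F459174 : act 6 n210892 = n198578 := d12_2 D140329 D210892 (iv5 F452498) F452497 (iv5 D140328)
theorem F459175 : act 4 n210892 = n198579 := d16_2 (iv4 F442688) D210892 F429226 (iv4 D203647) (iv5 F425405) F425404 F365586 F365588 (iv2 F442682)
def n210893 : Q := act 7 n140329
theorem D210893 : act 7 n140329 = n210893 := rfl
theorem F459176 : act 2 n210893 = n141993 := d4_1 D210893 F366180 (iv2 F223439)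
theorem F459177 : act 3 n210893 = n202251 := d8_1 D210893 (iv7 F459166) F459164
theorem F459178 : act 4 n210893 = n191349 := d11_1 D210893 (iv7 F442685) (iv4 F442688)
theorem F459179 : act 6 n210893 = n200476 := d14_1 D210893 F416617 (iv6 D134735) (iv7 F181481) D140329
theorem F459180 : act 1 n141994 = n210893 := d15_1 (iv0 F400455) (iv7 D210893) F223439
theorem F459181 : act 1 n210893 = n141841 := d15_1 F459180 F224883 D141994
theorem F459182 : act 0 n204763 = n196555 := d19_8 D172502 (iv5 F383152) (iv4 F459178) F459177 F459168 F198710 (iv4 F198792) (iv3 F433501) (iv5 D196555) F165054 F101621 D65923 (iv5 F341281) (iv4 F326106) F326105 (iv1 F121291) F57603 (iv4 F298879) (iv3 F127201)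
def n210894 : Q := act 5 n140333
theorem D210894 : act 5 n140333 = n210894 := rfl
theorem F459183 : act 3 n210894 = n202437 := d6_1 D210894 F423988 (iv3 F407165)
theorem F459184 : act 6 n210894 = n202436 := d12_2 F404290 D210894 (iv5 F433133) (iv6 F433137) F337717
theorem F459185 : act 0 n210894 = n192933 := d17_2 D140333 D210894 (iv5 F409569) (iv4 F403551) (iv5 D112735) D112734 (iv5 F366439) (iv0 F366441) F351688
theorem F459186 : act 1 n210894 = n195407 := d17_6 D78436 (iv5 F342299) F175508 F342296 (iv4 F404288) D210894 (iv5 F404838) (iv0 D163184) (iv4 D78438)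
def n210895 : Q := act 1 n140336
theorem D210895 : act 1 n140336 = n210895 := rfl
theorem F459187 : act 1 n210895 = n140339 := d15_1 D210895 (iv7 F400525) F400523
theorem F459188 : act 7 n210895 = n202478 := d15_2 (iv0 F386752) D210895 F424176
theorem F459189 : act 5 n210895 = n143932 := d17_7 F410417 F410414 F405451 (iv5 D134870) F168118 D140336 D210895 F458527 F458525
theorem F459190 : act 3 n195407 = n210895 := d19_19 (iv1 D210895) (iv5 D140336) (iv4 F168118) F168117 (iv1 F100711) F96594 (iv4 F179688) (iv3 F422989) F422993 (iv5 F361936) (iv4 F361937) (iv3 D123545) (iv1 D57578) D57579 D123551 F365423 (iv1 D105566) D105567 D195407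
def n210896 : Q := act 4 n140336
theorem D210896 : act 4 n140336 = n210896 := rfl
theorem F459191 : act 2 n210896 = n202156 := d1_1 D210896 F423082 F400523
theorem F459192 : act 3 n210896 = n152883 := d5_1 D210896 (iv4 D152883) (iv3 F243063) (iv4 F389212) F389216
theorem F459193 : act 5 n210896 = n209883 := d9_2 D140336 D210896 F455245 (iv5 F423988) F423987 (iv5 D134869) F169260 D140339 F351862 D202155 (iv4 F423076) (iv5 F424167) F424168 (iv5 D134870) F168118
theorem F459194 : act 7 n210896 = n202143 := d11_2 F400533 D210896 F423032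
theorem F459195 : act 0 n210896 = n202154 := d18_2 (iv1 D210895) D210896 F423073 (iv5 F226565) F180165 (iv0 F226611) (iv4 F226612) (iv0 F226613) (iv5 F459189)
theorem F459196 : act 1 n210896 = n202153 := d18_6 (iv1 F168123) F84416 (iv1 F98687) F168118 D140336 D210896 F423069 (iv0 D143927) (iv5 D67431)
def n210897 : Q := act 6 n140338
theorem D210897 : act 6 n140338 = n210897 := rfl
theorem F459197 : act 3 n210897 = n140340 := d7_1 D210897 (iv6 D140340) D140338
theorem F459198 : act 4 n210897 = n202872 := d10_1 D210897 (iv6 D202872) F351857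
theorem F459199 : act 0 n210897 = n192366 := d20_4 F223753 F204374 (iv4 F223447) (iv3 F459197) (iv3 D192366) (iv4 D100118) (iv1 F154037) D192342 F386517 (iv1 F223754)
def n210898 : Q := act 0 n140343
theorem D210898 : act 0 n140343 = n210898 := rfl
theorem F459200 : act 4 n210898 = n141868 := d18_3 (iv1 D140342) D140343 D210898 F224910 (iv4 D116823) F163964 (iv4 F180172) (iv0 F423989) F423988
theorem F459201 : act 3 n210898 = n193195 := d20_5 (iv4 F404316) (iv1 F423812) F403749 (iv3 F364778) D210898 (iv4 D193195) F310312 (iv4 F433589) (iv3 F433594) F433593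
theorem F459202 : act 1 n197605 = n210898 := d15_0 (iv0 D210898) (iv7 F405430) F405429
theorem F459203 : act 7 n204811 = n210898 := d8_0 F459201 F389137 D204811
def n210899 : Q := act 1 n140343
theorem D210899 : act 1 n140343 = n210899 := rfl
theorem F459204 : act 1 n210899 = n197605 := d15_1 D210899 F404996 F400542
theorem F459205 : act 4 n210899 = n141869 := d18_7 (iv1 F168104) (iv4 D65874) (iv1 D30823) (iv4 F49243) D65867 D140343 D210899 (iv0 F345290) F345293
theorem F459206 : act 5 n210899 = n202752 := d17_3 (iv1 D210899) (iv5 F404997) (iv1 F459204) (iv4 D202752) (iv5 D116821) F168106 D66514 D141869 (iv4 F459205)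
theorem F459207 : act 3 n204804 = n210899 := d20_9 (iv4 D140343) D140341 F423076 F423074 F351561 F351523 F351524 (iv1 F351530) (iv4 F433647) (iv1 D210899)
theorem F459208 : act 2 n210899 = n204811 := d0_1 F459207 (iv3 D204811) (iv2 F433533) F433534 (iv2 F433645)
def n210900 : Q := act 2 n140344
theorem D210900 : act 2 n140344 = n210900 := rfl
theorem F459209 : act 3 n210900 = n141881 := d0_2 D140344 D210900 F350157 (iv3 D67430) (iv2 F163973)
theorem F459210 : act 4 n210900 = n192341 := d1_2 (iv4 F391473) D210900 (iv2 F391468)
theorem F459211 : act 1 n210900 = n197548 := d15_0 (iv0 F404776) F400547 D210900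
theorem F459212 : act 1 n141818 = n210900 := d15_0 F459211 F404775 F400190
theorem F459213 : act 6 n192340 = n210900 := d10_0 F459210 (iv6 D192341) D192340
def n210901 : Q := act 5 n140344
theorem D210901 : act 5 n140344 = n210901 := rfl
theorem F459214 : act 3 n210901 = n140345 := d6_1 D210901 (iv5 D140345) D140344
def n210902 : Q := act 6 n140344
theorem D210902 : act 6 n140344 = n210902 := rfl
theorem F459215 : act 2 n210902 = n192340 := d3_1 D210902 F459213 (iv2 D210900)
theorem F459216 : act 3 n210902 = n140346 := d7_1 D210902 (iv6 D140346) D140344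
theorem F459217 : act 4 n210902 = n162025 := d10_1 D210902 (iv6 F391470) (iv4 F391473)
theorem F459218 : act 7 n210902 = n192342 := d14_2 F400547 D210902 F434770 F434766 (iv6 F400546)
theorem F459219 : act 0 n191973 = n210902 := d18_2 (iv1 F156796) D191973 F459217 (iv5 D162025) F117649 D77843 (iv4 F306920) (iv0 F156483) (iv5 F156795)
theorem F459220 : act 1 n191976 = n210902 := d18_6 (iv1 F73293) (iv4 F59365) (iv1 F127867) F155525 D99445 D191976 F459217 F343495 (iv5 D99306)
def n210903 : Q := act 4 n140345
theorem D210903 : act 4 n140345 = n210903 := rfl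
theorem F459221 : act 2 n210903 = n143929 := d1_1 D210903 (iv4 D143929) (iv2 F223451)
theorem F459222 : act 5 n210903 = n210898 := d9_2 D140345 D210903 F459200 F224910 (iv4 D116823) (iv5 D53828) D53827 D116821 D202752 (iv5 F459206) F459205 (iv5 F224911) (iv4 D140347) (iv5 D65875) D65874
theorem F459223 : act 3 n210903 = n201947 := d19_3 (iv1 F168104) D140345 D210903 F422484 F407476 (iv4 D124323) (iv3 F198798) (iv1 F348204) F348210 F166818 (iv3 F186384) F345700 (iv5 D116715) (iv4 F351563) (iv3 F423074) (iv1 F450307) F450306 (iv4 F345296) F345295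
theorem F459224 : act 6 n201946 = n210903 := d7_0 F459223 (iv6 D201947) D201946
def n210904 : Q := act 6 n140345
theorem D210904 : act 6 n140345 = n210904 := rfl
theorem F459225 : act 2 n210904 = n143930 := d3_1 D210904 (iv6 D143930) (iv2 F223451)
theorem F459226 : act 4 n210904 = n201946 := d10_1 D210904 F459224 (iv4 D210903)
theorem F459227 : act 0 n210904 = n195900 := d21_4 F345293 (iv1 F168104) D140345 D210904 F398655 (iv5 D112679) D112677 D200119 (iv6 F415100) (iv1 F345291)
theorem F459228 : act 0 n156309 = n210904 := d21_4 (iv5 F413571) F413574 F221899 D156309 (iv6 D210904) (iv5 D140345) F168103 D66514 (iv6 F223726) F345278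
def n210905 : Q := act 3 n140349
theorem D210905 : act 3 n140349 = n210905 := rfl
theorem F459229 : act 5 n210905 = n198216 := d6_2 (iv5 F378260) D210905 (iv3 D198216)
theorem F459230 : act 0 n210905 = n198429 := d20_10 (iv4 D198429) (iv1 F174064) F174062 (iv3 F223526) (iv1 F223531) D197867 F406063 F380549 F378266 D210905
theorem F459231 : act 0 n198431 = n210905 := d20_4 (iv4 F406127) D199539 F412581 (iv3 F407992) (iv3 D210905) (iv4 F378266) F408257 F408254 (iv3 F412347) F412350
def n210906 : Q := act 6 n140350
theorem D210906 : act 6 n140350 = n210906 := rfl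
theorem F459232 : act 2 n210906 = n140351 := d3_1 D210906 (iv6 D140351) D140350
theorem F459233 : act 3 n210906 = n140412 := d7_1 D210906 (iv6 D140412) (iv3 F223457)
theorem F459234 : act 4 n210906 = n210016 := d10_1 D210906 (iv6 D210016) (iv4 F223458)
theorem F459235 : act 0 n210906 = n194829 := d21_4 D109037 (iv1 F387478) (iv5 F387477) D210906 F455682 (iv5 D209996) F455552 (iv5 D109057) (iv6 D50350) D50345
def n210907 : Q := act 0 n140351
theorem D210907 : act 0 n140351 = n210907 := rfl
theorem F459236 : act 4 n210907 = n194833 := d20_2 (iv4 F223460) D210907 (iv3 F395153) (iv1 F395157) (iv3 F392645) F373679 F336468 D166408 F455774 (iv1 D210018)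
theorem F459237 : act 3 n210907 = n190785 := d20_5 F81208 F80309 (iv4 F101533) (iv3 F223459) D210907 F381066 F330415 (iv4 F405555) F405554 (iv1 F168493)
theorem F459238 : act 2 n194829 = n210907 := d15_3 (iv0 D210907) (iv0 F393427) (iv7 F394644)
theorem F459239 : act 5 n190784 = n210907 := d6_0 F459237 (iv5 D190785) D190784
def n210908 : Q := act 5 n140351
theorem D210908 : act 5 n140351 = n210908 := rfl
theorem F459240 : act 3 n210908 = n140352 := d6_1 D210908 (iv5 D140352) (iv3 F223459)
def n210909 : Q := act 4 n140352
theorem D210909 : act 4 n140352 = n210909 := rfl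
theorem F459241 : act 2 n210909 = n140419 := d1_1 D210909 (iv4 D140419) (iv2 F223461)
theorem F459242 : act 5 n210909 = n210409 := d9_2 D140352 D210909 (iv4 D210409) F221804 F180540 F101614 (iv4 F101597) (iv5 F223572) (iv4 F458293) (iv5 D210641) (iv4 D139457) (iv5 D65449) (iv4 F80615) F80616 (iv4 F101533)
theorem F459243 : act 6 n210909 = n156024 := d10_2 (iv6 F350389) D210909 (iv4 F245623)
theorem F459244 : act 0 n210909 = n198038 := d18_2 (iv1 F351250) D210909 (iv4 D198038) F173056 (iv4 F202184) (iv0 F222470) F222469 F223583 F341357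
theorem F459245 : act 1 n210909 = n198040 := d18_6 (iv1 F168493) F81208 F80309 (iv4 F101533) D140352 D210909 (iv4 D198040) F405579 F405578
def n210910 : Q := act 1 n140355
theorem D210910 : act 1 n140355 = n210910 := rfl
theorem F459246 : act 1 n210910 = n205852 := d15_1 D210910 (iv7 F456363) F456361
theorem F459247 : act 7 n210910 = n209717 := d15_2 (iv0 F424054) D210910 F454734
theorem F459248 : act 5 n210910 = n210142 := d17_7 (iv1 F411994) F411996 (iv1 D111308) D111310 D199412 F412061 D210910 (iv0 D210142) F220830
theorem F459249 : act 4 n210910 = n209206 := d17_9 F452715 (iv5 F225943) F345760 F294262 (iv4 F156248) D193254 (iv0 F412066) F412061 D210910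
theorem F459250 : act 3 n140555 = n210910 := d19_19 (iv1 D210910) (iv5 F412061) (iv4 D199412) F172724 (iv1 F81097) (iv5 D51369) (iv4 F39845) (iv3 D25259) (iv1 D11993) (iv5 D5662) F10128 (iv3 F10127) (iv1 F9990) D5174 D11249 D23998 D49181 (iv5 F228319) (iv4 F223696)
theorem F459251 : act 2 n210910 = n140494 := d0_1 F459250 (iv3 D140494) (iv2 F349743) (iv3 F401060) F401056
def n210911 : Q := act 6 n140355
theorem D210911 : act 6 n140355 = n210911 := rfl
theorem F459252 : act 2 n210911 = n193290 := d3_1 D210911 (iv6 F458298) F456361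
theorem F459253 : act 3 n210911 = n140358 := d7_1 D210911 (iv6 D140358) D140355
theorem F459254 : act 4 n210911 = n205855 := d10_1 D210911 (iv6 D205855) (iv4 F223470)
theorem F459255 : act 0 n210911 = n140415 := d21_4 D196793 (iv1 F412062) F412061 D210911 (iv6 F407600) (iv5 D198322) D198321 F434541 (iv6 F434542) (iv1 F219091)
theorem F459256 : act 0 n193159 = n210911 := d21_4 F360810 (iv1 F369620) F369617 D193159 (iv6 D210911) (iv5 F412061) F412066 (iv5 D193254) (iv6 D101414) (iv1 F156192)
theorem F459257 : act 7 n193291 = n210911 := d15_2 (iv0 D193290) D193291 F459252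
theorem F459258 : act 3 n197636 = n193291 := d8_3 F459257 F459253 (iv7 F431995)
def n210912 : Q := act 5 n140356
theorem D210912 : act 5 n140356 = n210912 := rfl
theorem F459259 : act 2 n210912 = n141823 := d2_1 D210912 F357505 F357506
theorem F459260 : act 4 n210912 = n141819 := d9_1 D210912 (iv5 D141819) (iv4 F171781) F387573 F387571 (iv5 D140362) D140361 (iv5 F400214) (iv4 D196286) (iv5 D106874) F78090 D66200 (iv4 F223471) (iv5 D140357) D140356
theorem F459261 : act 7 n210912 = n192950 := d13_2 (iv7 F357503) D210912 (iv5 D192950)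
theorem F459262 : act 0 n210912 = n188161 := d17_2 F357565 D210912 F400425 (iv4 D196346) D196347 (iv0 F457896) (iv5 D210519) F388226 F388224
theorem F459263 : act 1 n210912 = n210494 := d17_6 (iv1 D106872) D106874 (iv1 F350419) (iv5 D140357) D140356 D210912 (iv5 D210494) F400203 (iv4 D196284)
theorem F459264 : act 6 n210912 = n188144 := d21_3 F372462 F357565 D210912 (iv1 F372476) (iv6 D136432) (iv5 D64140) F329265 D102184 (iv6 F157068) (iv1 F372465)
def n210913 : Q := act 6 n140356
theorem D210913 : act 6 n140356 = n210913 := rfl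
theorem F459265 : act 2 n210913 = n192952 := d3_1 D210913 (iv6 D192952) F357506
theorem F459266 : act 4 n210913 = n140358 := d10_1 D210913 (iv6 D140358) D140356
theorem F459267 : act 0 n189067 = n210913 := d21_4 F385046 F375629 (iv5 D189066) D189067 (iv6 D210913) D210912 F459262 F400425 F400426 (iv1 F385048)
def n210914 : Q := act 5 n140360
theorem D210914 : act 5 n140360 = n210914 := rfl
theorem F459268 : act 3 n210914 = n140362 := d6_1 D210914 (iv5 D140362) D140360
theorem F459269 : act 1 n210914 = n201320 := d17_6 (iv1 F324046) (iv5 D129550) (iv1 F350882) (iv5 F442206) F442205 D210914 F420010 (iv0 F224900) F220828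
def n210915 : Q := act 6 n140360
theorem D210915 : act 6 n140360 = n210915 := rfl
theorem F459270 : act 3 n210915 = n140363 := d7_1 D210915 (iv6 D140363) D140360
theorem F459271 : act 4 n210915 = n205437 := d10_1 D210915 (iv6 F442207) F442205
theorem F459272 : act 5 n189930 = n210915 := d16_1 (iv4 F378278) F459271 (iv5 F436420) F347844 (iv5 F379132) F379131 F392209 F392207 (iv2 D189940)
def n210916 : Q := act 1 n140363
theorem D210916 : act 1 n140363 = n210916 := rfl
theorem F459273 : act 3 n140563 = n210916 := d19_19 (iv1 D210916) (iv5 F378263) (iv4 D95466) F70124 D44605 (iv5 F71798) F292170 (iv3 F291487) (iv1 F127437) F127435 (iv4 F62390) D47560 F293555 D96420 D190703 F380678 (iv1 F345648) (iv5 D140796) (iv4 F363685)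
theorem F459274 : act 2 n210916 = n140485 := d0_1 F459273 (iv3 D140485) (iv2 F169645) (iv3 F227175) F363686
def n210917 : Q := act 6 n140364
theorem D210917 : act 6 n140364 = n210917 := rfl
theorem F459275 : act 2 n210917 = n140369 := d3_1 D210917 (iv6 D140369) (iv2 F223474)
theorem F459276 : act 3 n210917 = n140567 := d7_1 D210917 (iv6 D140567) (iv3 F223475)
theorem F459277 : act 4 n210917 = n193101 := d10_1 D210917 (iv6 D193101) F372453
theorem F459278 : act 5 n142884 = n210917 := d6_0 F459276 F342506 D142884
def n210918 : Q := act 5 n140365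
theorem D210918 : act 5 n140365 = n210918 := rfl
theorem F459279 : act 2 n210918 = n140372 := d2_1 D210918 (iv5 D140372) (iv2 F223476)
theorem F459280 : act 3 n210918 = n140570 := d6_1 D210918 (iv5 D140570) (iv3 F223477)
theorem F459281 : act 6 n210918 = n142884 := d12_2 D140365 D210918 F459278 (iv6 D210917) (iv5 D140364)
theorem F459282 : act 7 n210918 = n191914 := d13_2 F331771 D210918 (iv5 D191914)
theorem F459283 : act 4 n210918 = n175004 := d16_2 (iv4 F331773) D210918 (iv5 D175004) (iv4 D83580) (iv5 D38529) F29539 D22406 D46740 (iv2 F152914)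
theorem F459284 : act 0 n210918 = n192388 := d17_2 (iv1 F343494) D210918 F386624 (iv4 D100946) (iv5 D47044) F73450 (iv5 F153180) F153184 (iv4 F343487)
theorem F459285 : act 1 n210918 = n192387 := d17_6 (iv1 D100101) (iv5 D46730) (iv1 F73295) (iv5 F152915) (iv4 F331773) D210918 F386623 (iv0 F386518) (iv4 D192342)
theorem F459286 : act 6 n175004 = n193240 := d10_2 (iv6 F459281) F459283 (iv4 F389280)
theorem F459287 : act 5 n193240 = n175034 := d12_1 F459286 (iv6 D175034) (iv5 D83589) (iv6 F128655) D175004
def n210919 : Q := act 3 n140367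
theorem D210919 : act 3 n140367 = n210919 := rfl
theorem F459288 : act 2 n210919 = n210141 := d0_1 D210919 F456327 F220829 (iv3 F400175) (iv2 F400176)
theorem F459289 : act 4 n210919 = n193377 := d5_2 F350395 D210919 F424465 (iv4 D202551) (iv3 F350398)
theorem F459290 : act 5 n210919 = n141815 := d6_2 (iv5 F350396) D210919 (iv3 D141815)
theorem F459291 : act 6 n210919 = n192688 := d7_2 F350397 D210919 F387489
theorem F459292 : act 7 n210919 = n192756 := d8_2 (iv7 F350394) D210919 F387680
theorem F459293 : act 0 n201439 = n210919 := d20_4 (iv4 D60011) D60009 (iv4 F178571) D201439 (iv3 D210919) (iv4 F350395) F350415 (iv4 F388744) (iv3 F388745) (iv1 D127791)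
def n210920 : Q := act 6 n140368
theorem D210920 : act 6 n140368 = n210920 := rfl
theorem F459294 : act 2 n210920 = n193101 := d3_1 D210920 (iv6 D193101) (iv2 F372457)
theorem F459295 : act 3 n210920 = n204369 := d7_1 D210920 F432252 (iv3 F345617)
theorem F459296 : act 4 n210920 = n140369 := d10_1 D210920 (iv6 D140369) D140368
theorem F459297 : act 7 n210920 = n204387 := d14_2 F364782 D210920 F432344 (iv7 F352827) (iv6 F157068)
theorem F459298 : act 5 n210920 = n186866 := d21_6 (iv5 D99495) (iv1 F73496) (iv5 F74352) D101154 (iv1 F372458) D210920 (iv1 D186866) F154739 (iv6 F357954) (iv1 F332206)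
theorem F459299 : act 0 n193081 = n210920 := d21_4 F385177 (iv1 F388689) (iv5 D193080) D193081 (iv6 D210920) (iv5 F400199) (iv1 F400203) D210494 F457776 (iv1 F385179)
def n210921 : Q := act 0 n140369
theorem D210921 : act 0 n140369 = n210921 := rfl
def n210922 : Q := act 1 n140369
theorem D210922 : act 1 n140369 = n210922 := rfl
theorem F459300 : act 6 n166737 = n210922 := d21_3 (iv5 D157926) F122842 D166737 (iv1 D210922) (iv6 D140369) (iv5 D65884) D65881 D140357 F350366 (iv1 F280785)
theorem F459301 : act 4 n210922 = n192743 := d10_1 F459300 (iv6 D192743) F354687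
def n210923 : Q := act 5 n140369
theorem D210923 : act 5 n140369 = n210923 := rfl
theorem F459302 : act 2 n210923 = n142884 := d2_1 D210923 F459278 F459275
theorem F459303 : act 3 n210923 = n140376 := d6_1 D210923 (iv5 D140376) (iv3 F223478)
theorem F459304 : act 6 n210923 = n140372 := d12_2 D140369 D210923 (iv5 D140372) (iv6 D65885) D65884
theorem F459305 : act 1 n210923 = n196350 := d17_6 D100647 (iv5 F378930) (iv1 F378932) (iv5 F459298) F459296 D210923 (iv5 F400444) (iv0 D187992) F295005
theorem F459306 : act 7 n196730 = n210923 := d8_0 F459303 (iv7 F363138) D196730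
def n210924 : Q := act 7 n140369
theorem D210924 : act 7 n140369 = n210924 := rfl
theorem F459307 : act 3 n210924 = n140377 := d8_1 D210924 (iv7 D140377) (iv3 F223478)
theorem F459308 : act 4 n210924 = n204387 := d11_1 D210924 (iv7 F459297) F459296
theorem F459309 : act 5 n210924 = n196730 := d13_1 D210924 F459306 (iv5 D210923)
theorem F459310 : act 6 n210924 = n197822 := d14_1 D210924 F405898 F351226 F164692 D140369
def n210925 : Q := act 3 n140370
theorem D210925 : act 3 n140370 = n210925 := rfl
theorem F459311 : act 4 n210925 = n210001 := d5_2 (iv4 F343490) D210925 (iv3 F455695) F385078 (iv3 D191979)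
theorem F459312 : act 7 n210925 = n192382 := d8_2 F343492 D210925 (iv3 D192382)
theorem F459313 : act 5 n194591 = n210925 := d13_3 F459312 F386618 D194591
def n210926 : Q := act 5 n140370
theorem D210926 : act 5 n140370 = n210926 := rfl
theorem F459314 : act 2 n210926 = n192385 := d2_1 D210926 (iv5 D192385) F343491
theorem F459315 : act 3 n210926 = n194591 := d6_1 D210926 F459313 (iv3 D210925)
theorem F459316 : act 7 n210926 = n192383 := d13_2 F343492 D210926 (iv5 D192383)
theorem F459317 : act 4 n210926 = n196978 := d16_2 (iv4 F343490) D210926 (iv5 F411055) F411054 F309557 (iv4 F308329) F153183 F156761 (iv2 F156764)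
theorem F459318 : act 0 n210926 = n145565 := d17_2 D140370 D210926 (iv5 F388150) (iv4 D192340) F154036 F275137 D98531 (iv0 F151927) (iv4 F329204)
theorem F459319 : act 1 n210926 = n196624 := d17_6 (iv1 F155069) (iv5 F156730) F156733 F153176 (iv4 F343490) D210926 F401239 F386519 (iv4 D100946)
theorem F459320 : act 6 n210926 = n145473 := d21_9 D145474 (iv1 F400439) (iv5 D196349) D196350 (iv1 F459305) F459304 (iv5 D140372) D140370 D210926 (iv1 D145473)
def n210927 : Q := act 6 n140370
theorem D210927 : act 6 n140370 = n210927 := rfl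
theorem F459321 : act 2 n210927 = n192386 := d3_1 D210927 (iv6 D192386) F343491
theorem F459322 : act 4 n210927 = n191980 := d10_1 D210927 (iv6 D191980) (iv4 F343490)
theorem F459323 : act 7 n210927 = n197534 := d14_2 F343492 D210927 (iv6 D197534) F385069 F385071
theorem F459324 : act 0 n210726 = n210927 := d18_2 F418005 (iv4 F458593) F459322 F385080 F352517 F345759 (iv4 F383750) F445031 F445029
def n210928 : Q := act 3 n140371
theorem D210928 : act 3 n140371 = n210928 := rfl
theorem F459325 : act 4 n210928 = n145632 := d5_2 F331767 D210928 (iv3 F342401) (iv4 D123662) (iv3 F306450)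
theorem F459326 : act 6 n210928 = n197535 := d7_2 (iv6 F385065) D210928 (iv3 D197535)
theorem F459327 : act 7 n210928 = n192384 := d8_2 (iv7 F331769) D210928 (iv3 D192384)
theorem F459328 : act 0 n196626 = n210928 := d20_4 D68173 D145413 (iv4 F228464) D196626 (iv3 D210928) (iv4 F331767) (iv1 F153181) (iv4 F155577) F331781 (iv1 D68172)
theorem F459329 : act 5 n210928 = n145421 := d17_1 F459328 (iv1 F402598) (iv5 F402600) (iv4 D175112) (iv5 D83631) D83630 (iv5 F357113) D205949 (iv4 F438550)
def n210929 : Q := act 5 n140371
theorem D210929 : act 5 n140371 = n210929 := rfl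
theorem F459330 : act 2 n210929 = n192383 := d2_1 D210929 (iv5 D192383) F343486
theorem F459331 : act 3 n210929 = n145421 := d6_1 D210929 (iv5 F459329) (iv3 D210928)
theorem F459332 : act 6 n210929 = n153518 := d12_2 (iv6 F385065) D210929 (iv5 F398535) F404719 (iv5 D197536)
theorem F459333 : act 7 n210929 = n192385 := d13_2 (iv7 F331769) D210929 (iv5 D192385)
theorem F459334 : act 0 n210929 = n196624 := d17_2 (iv1 F331770) D210929 F401239 (iv4 D192342) F310557 (iv0 F318849) F343489 (iv0 D99313) D99314
theorem F459335 : act 1 n210929 = n145565 := d17_6 F74546 (iv5 D47326) D47324 F153183 F331767 D210929 (iv5 F388150) F386514 (iv4 D100930)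
theorem F459336 : act 4 n210929 = n191981 := d18_5 F155453 (iv4 D99449) D99447 F331767 D210929 F402514 (iv4 F390077) F390080 F359735
def n210930 : Q := act 0 n140372
theorem D210930 : act 0 n140372 = n210930 := rfl
theorem F459337 : act 5 n210930 = n191976 := d17_3 (iv1 D140371) D140372 D210930 (iv4 D191976) (iv5 D99445) F73444 (iv5 F74293) F153181 F331767
theorem F459338 : act 1 n191914 = n210930 := d15_0 (iv0 D210930) F365350 (iv2 F384821)
theorem F459339 : act 2 n192388 = n210930 := d2_3 F459337 F385053 (iv5 F386624)
theorem F459340 : act 7 n192387 = n210930 := d13_0 F459337 F385054 (iv5 F386623)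
theorem F459341 : act 4 n145394 = n210930 := d16_2 F204056 D145394 F459337 (iv4 D191976) (iv5 D99445) (iv4 F155525) (iv5 F311770) F311771 (iv2 F331961)
def n210931 : Q := act 1 n140372
theorem D210931 : act 1 n140372 = n210931 := rfl
theorem F459342 : act 1 n210931 = n191914 := d15_1 D210931 (iv7 F459282) F459279
theorem F459343 : act 7 n210931 = n192388 := d15_2 (iv0 D210930) D210931 F459339
theorem F459344 : act 2 n192387 = n210931 := d4_3 F459343 F459339 (iv7 F459340)
theorem F459345 : act 5 n191973 = n210931 := d13_3 F459343 F386624 (iv7 F385043)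
def n210932 : Q := act 4 n140372
theorem D210932 : act 4 n140372 = n210932 := rfl
theorem F459346 : act 2 n210932 = n175004 := d1_1 D210932 (iv4 F459283) F459279
theorem F459347 : act 7 n210932 = n192389 := d11_2 (iv7 F365350) D210932 (iv4 D192389)
theorem F459348 : act 5 n210932 = n173374 := d16_1 D210932 (iv4 D173374) (iv5 D82966) F59045 D46435 D99314 D191914 (iv7 F459282) F459279
def n210933 : Q := act 3 n140374
theorem D210933 : act 3 n140374 = n210933 := rfl
theorem F459349 : act 2 n210933 = n196410 := d0_1 D210933 (iv3 F432951) F432953 (iv3 D140618) (iv2 F360108)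
theorem F459350 : act 4 n210933 = n201438 := d5_2 F360124 D210933 (iv3 F420518) F449982 (iv3 D197928)
theorem F459351 : act 6 n210933 = n198316 := d7_2 F363347 D210933 (iv3 D198316)
theorem F459352 : act 7 n210933 = n140623 := d8_2 (iv7 F360109) D210933 (iv3 D140623)
theorem F459353 : act 0 n210933 = n195917 := d20_10 (iv4 F420037) (iv1 F420040) (iv4 F350561) (iv3 F393678) (iv1 F400494) F400491 F164792 D108780 F360124 D210933
theorem F459354 : act 5 n145306 = n210933 := d17_1 (iv1 F228341) F459353 (iv5 D195917) (iv4 F163682) F94057 F94056 (iv5 F53886) F80692 (iv4 F164837)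
theorem F459355 : act 1 n210933 = n195915 := d15_1 (iv0 F459353) F398714 (iv2 F398719)
theorem F459356 : act 4 n198316 = n201097 := d10_1 F459351 (iv6 F420516) (iv4 F459350)
def n210934 : Q := act 5 n140374
theorem D210934 : act 5 n140374 = n210934 := rfl
theorem F459357 : act 2 n210934 = n140620 := d2_1 D210934 (iv5 D140620) (iv2 F360108)
theorem F459358 : act 3 n210934 = n145306 := d6_1 D210934 F459354 (iv3 D210933)
theorem F459359 : act 7 n210934 = n140625 := d13_2 (iv7 F360109) D210934 (iv5 D140625)
theorem F459360 : act 1 n210934 = n153699 := d17_6 (iv1 F449888) F406224 (iv1 F406222) (iv5 D197929) F360124 D210934 F331089 F405720 (iv4 F449884)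
theorem F459361 : act 0 n210934 = n153701 := d21_1 D210934 (iv5 F331093) (iv6 D108655) (iv1 F79564) (iv6 F336701) F49461 (iv1 F40854) D30829 D65886 D140374
theorem F459362 : act 6 n210934 = n145304 := d21_3 (iv5 D140376) D140374 D210934 F340815 (iv6 D107139) F180733 (iv1 F82132) (iv5 F78311) D107251 F342494
def n210935 : Q := act 5 n140375
theorem D210935 : act 5 n140375 = n210935 := rfl
theorem F459363 : act 2 n210935 = n140625 := d2_1 D210935 (iv5 D140625) (iv2 F360098)
theorem F459364 : act 3 n210935 = n196401 := d6_1 D210935 (iv5 F407383) F407381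
theorem F459365 : act 6 n210935 = n180403 := d12_2 (iv6 F359228) D210935 (iv5 D180403) (iv6 D86160) D86159
theorem F459366 : act 7 n210935 = n140620 := d13_2 (iv7 F360099) D210935 (iv5 D140620)
theorem F459367 : act 0 n210935 = n153699 := d17_2 (iv1 F223481) D210935 F331089 F169071 (iv5 F224995) (iv0 F433285) F433284 F363337 F169162
theorem F459368 : act 1 n210935 = n153701 := d17_6 F406882 F343789 (iv1 D163975) (iv5 F343787) (iv4 F359227) D210935 (iv5 F331093) (iv0 F331114) (iv4 F371834)
def n210936 : Q := act 4 n140376
theorem D210936 : act 4 n140376 = n210936 := rfl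
theorem F459369 : act 2 n210936 = n140629 := d1_1 D210936 (iv4 D140629) (iv2 F223482)
theorem F459370 : act 6 n210936 = n140382 := d10_2 (iv6 F223483) D210936 (iv4 D140382)
theorem F459371 : act 7 n210936 = n196731 := d11_2 F363138 D210936 (iv4 D196731)
theorem F459372 : act 3 n195440 = n210936 := d20_5 (iv4 D105607) (iv1 D48824) (iv4 F76899) (iv3 F162206) D195440 (iv4 D210936) F351240 (iv4 F401572) F401571 (iv1 F166098)
theorem F459373 : act 5 n198391 = n210936 := d12_5 F459370 F406995 F406996 F401561 D198391
def n210937 : Q := act 4 n140380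
theorem D210937 : act 4 n140380 = n210937 := rfl
theorem F459374 : act 2 n210937 = n140649 := d1_1 D210937 (iv4 D140649) (iv2 F223749)
theorem F459375 : act 3 n210937 = n196881 := d5_1 D210937 F402139 F165699 (iv4 F165700) F342476
theorem F459376 : act 6 n210937 = n196880 := d10_2 (iv6 F342477) D210937 F402135
theorem F459377 : act 7 n210937 = n140653 := d11_2 (iv7 F223750) D210937 (iv4 D140653)
theorem F459378 : act 1 n210937 = n197997 := d18_6 F400537 F400535 F217018 (iv4 F246267) (iv5 F246270) D210937 (iv4 D197997) D197996 (iv5 F406448)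
def n210938 : Q := act 3 n140381
theorem D210938 : act 3 n140381 = n210938 := rfl
theorem F459379 : act 5 n210938 = n141954 := d6_2 F223493 D210938 F224997
theorem F459380 : act 7 n210938 = n140648 := d8_2 F223747 D210938 (iv3 D140648)
def n210939 : Q := act 4 n140381
theorem D210939 : act 4 n140381 = n210939 := rfl
theorem F459381 : act 2 n210939 = n140653 := d1_1 D210939 (iv4 D140653) (iv2 F223748)
theorem F459382 : act 7 n210939 = n140649 := d11_2 F223747 D210939 (iv4 D140649)
theorem F459383 : act 0 n210939 = n197997 := d17_0 F407310 (iv1 D198237) (iv5 F364958) F165113 F331789 (iv0 D65887) D65888 D140381 D210939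
def n210940 : Q := act 6 n140381
theorem D210940 : act 6 n140381 = n210940 := rfl
theorem F459384 : act 2 n210940 = n140655 := d3_1 D210940 (iv6 D140655) (iv2 F223748)
theorem F459385 : act 5 n210940 = n141958 := d12_1 D210940 (iv6 D141958) (iv5 D66544) D66545 F223493
theorem F459386 : act 7 n210940 = n199996 := d14_2 F223747 D210940 (iv6 D199996) F174475 F351095
theorem F459387 : act 0 n196614 = n141958 := d21_1 D196614 (iv5 F459385) (iv6 D210940) (iv1 D140381) (iv6 F223483) (iv5 D140376) D140374 D210934 F459362 F340815
def n210941 : Q := act 0 n140382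
theorem D210941 : act 0 n140382 = n210941 := rfl
theorem F459388 : act 4 n210941 = n198142 := d18_3 (iv1 D140381) D140382 D210941 F406974 F246295 F111788 (iv4 F223453) F223495 F223493
theorem F459389 : act 5 n210941 = n209664 := d21_8 F220005 (iv1 F220006) (iv5 F344467) (iv6 F397092) (iv1 F401559) (iv6 F406996) (iv5 F406995) D210941 (iv6 D209664) (iv1 D136782)
theorem F459390 : act 2 n140656 = n210941 := d2_3 F459389 F454555 (iv5 F405738)
theorem F459391 : act 7 n140657 = n210941 := d13_0 F459389 F454557 F405739
theorem F459392 : act 1 n140660 = n210941 := d17_6 (iv1 F400695) F400692 (iv1 D111367) (iv5 F169072) (iv4 F406984) (iv5 F406991) F459389 F454559 (iv4 D199995)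
theorem F459393 : act 6 n198141 = n210941 := d10_0 F459388 (iv6 D198142) D198141
def n210942 : Q := act 1 n140382
theorem D210942 : act 1 n140382 = n210942 := rfl
theorem F459394 : act 1 n210942 = n140660 := d15_1 D210942 (iv7 D140660) (iv2 F223496)
theorem F459395 : act 7 n210942 = n140656 := d15_2 (iv0 D210941) D210942 F459390
theorem F459396 : act 5 n210942 = n195462 := d17_7 F342481 (iv5 F331098) F172821 F169075 (iv4 F406993) (iv5 F406995) D210942 (iv0 F402137) F402135
theorem F459397 : act 4 n210942 = n141991 := d17_9 F396902 (iv5 D195386) (iv1 F162131) D140385 (iv4 F406999) (iv5 D198152) D198150 (iv5 F406995) D210942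
theorem F459398 : act 3 n152633 = n210942 := d19_19 (iv1 D210942) F406995 F406993 (iv3 F365959) (iv1 F324504) (iv5 D109129) F323081 F44609 (iv1 F22022) (iv5 F13621) (iv4 F29941) (iv3 F52375) D71700 (iv5 F188089) (iv4 F324080) F324079 F155524 D72007 D152633
theorem F459399 : act 2 n140657 = n210942 := d1_3 F459397 (iv2 F406449) F406447
def n210943 : Q := act 3 n140382
theorem D210943 : act 3 n140382 = n210943 := rfl
theorem F459400 : act 5 n210943 = n197430 := d6_2 (iv5 F406995) D210943 F406997
theorem F459401 : act 6 n210943 = n195440 := d7_2 F459370 D210943 F459372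
def n210944 : Q := act 7 n140382
theorem D210944 : act 7 n140382 = n210944 := rfl
theorem F459402 : act 2 n210944 = n140660 := d4_1 D210944 (iv7 D140660) (iv2 F223496)
theorem F459403 : act 4 n210944 = n140383 := d11_1 D210944 (iv7 D140383) D140382
theorem F459404 : act 5 n210944 = n140696 := d13_1 D210944 (iv7 F406992) (iv5 F406995)
theorem F459405 : act 1 n140657 = n210944 := d15_1 D140657 (iv7 D210944) F223496
theorem F459406 : act 1 n210944 = n140656 := d15_1 F459405 (iv7 F459395) (iv2 F459399)
def n210945 : Q := act 0 n140384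
theorem D210945 : act 0 n140384 = n210945 := rfl
theorem F459407 : act 4 n210945 = n207437 := d18_3 F454444 (iv4 F223502) D210945 F444904 (iv4 F309800) F309798 F255812 F340785 (iv5 F454442)
theorem F459408 : act 2 n140675 = n210945 := d15_3 (iv0 D210945) (iv0 F342399) (iv7 F342420)
theorem F459409 : act 1 n140676 = n210945 := d15_0 (iv0 D210945) F223503 D140676
theorem F459410 : act 7 n210945 = n140460 := d15_2 (iv0 F405308) F459409 F354202
theorem F459411 : act 6 n206266 = n210945 := d14_5 F459410 (iv6 D140460) (iv7 F182468) D202442 (iv7 F439991)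
def n210946 : Q := act 5 n140384
theorem D210946 : act 5 n140384 = n210946 := rfl
theorem F459412 : act 2 n210946 = n196787 := d2_1 D210946 (iv5 F444925) F444923
theorem F459413 : act 3 n210946 = n140385 := d6_1 D210946 (iv5 D140385) D140384
theorem F459414 : act 4 n210946 = n150128 := d9_1 D210946 F236295 (iv4 F185493) F335220 (iv4 F188172) D203526 F428723 F388409 (iv4 D192976) (iv5 D101053) F74333 D69882 (iv4 F312052) (iv5 F333407) (iv4 F223502)
theorem F459415 : act 6 n210946 = n145366 := d12_2 F449028 D210946 (iv5 F336148) D196786 (iv5 F449027)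
theorem F459416 : act 7 n210946 = n140677 := d13_2 (iv7 F223503) D210946 (iv5 D140677)
theorem F459417 : act 0 n145383 = n210946 := d19_0 (iv5 D210946) F223502 (iv3 D137117) F100393 (iv5 F331946) (iv4 D33846) F190643 (iv1 D33649) (iv5 D16266) (iv4 F25828) (iv3 F52920) D72962 D154089 (iv4 F408888) F408887 F350104 (iv5 D140921) (iv4 F322618) D145383
def n210947 : Q := act 5 n140387
theorem D210947 : act 5 n140387 = n210947 := rfl
theorem F459418 : act 2 n210947 = n140388 := d2_1 D210947 (iv5 D140388) D140387
theorem F459419 : act 3 n210947 = n187834 := d6_1 D210947 F371653 (iv3 F223513)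
theorem F459420 : act 4 n210947 = n203024 := d9_1 D210947 (iv5 F428939) (iv4 F440267) F440268 (iv4 D199929) F174117 F81753 (iv5 F168710) F356118 F98828 (iv4 F216385) (iv5 F423659) F423658 F361856 (iv4 F223514)
theorem F459421 : act 7 n210947 = n197927 := d13_2 (iv7 F223515) D210947 F406213
theorem F459422 : act 0 n210947 = n197874 := d17_2 (iv1 F223516) D210947 (iv5 D197874) (iv4 F393417) F393418 (iv0 D142438) D142440 (iv0 F406754) (iv4 D198091)
theorem F459423 : act 1 n210947 = n197872 := d17_6 D111990 F347156 (iv1 F361859) F361856 (iv4 F223514) D210947 (iv5 D197872) (iv0 D108748) (iv4 F81550)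
theorem F459424 : act 6 n187832 = n210947 := d10_0 F459420 (iv6 F427836) F427835
def n210948 : Q := act 6 n140387
theorem D210948 : act 6 n140387 = n210948 := rfl
theorem F459425 : act 2 n210948 = n140389 := d3_1 D210948 (iv6 D140389) D140387
theorem F459426 : act 3 n210948 = n174859 := d7_1 D210948 (iv6 F334613) (iv3 F223513)
theorem F459427 : act 4 n210948 = n198627 := d10_1 D210948 (iv6 D198627) (iv4 F223514)
theorem F459428 : act 7 n210948 = n196471 := d14_2 (iv7 F223515) D210948 F409250 F409249 F173032
theorem F459429 : act 5 n196473 = n210948 := d21_8 D198095 F406775 F168950 D140399 (iv1 F360140) (iv6 F430293) F453993 F453992 (iv6 D210948) (iv1 F223517)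
theorem F459430 : act 0 n198811 = n210948 := d20_10 F459427 (iv1 F414311) (iv4 F414313) F207061 F95193 (iv3 F330457) F170404 (iv1 F80216) D110305 D198811
def n210949 : Q := act 6 n140388
theorem D210949 : act 6 n140388 = n210949 := rfl
theorem F459431 : act 2 n210949 = n187832 := d3_1 D210949 F459424 F459418
theorem F459432 : act 3 n210949 = n140390 := d7_1 D210949 (iv6 D140390) (iv3 F223518)
theorem F459433 : act 4 n210949 = n208835 := d10_1 D210949 (iv6 D208835) F356120
theorem F459434 : act 7 n210949 = n208833 := d14_2 (iv7 F223519) D210949 (iv6 D208833) (iv7 D135154) (iv6 F356119)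
theorem F459435 : act 0 n184093 = n210949 := d20_4 (iv4 D40918) D40916 D87810 D184093 F459432 F223523 F351111 (iv4 F345203) (iv3 D103984) (iv1 F294320)
def n210950 : Q := act 1 n140389
theorem D210950 : act 1 n140389 = n210950 := rfl
theorem F459436 : act 1 n210950 = n196471 := d15_1 D210950 (iv7 F459428) F459425
theorem F459437 : act 4 n194823 = n210950 := d20_0 (iv1 D210950) F223521 F169700 F169209 F363511 F287730 D185466 F363515 D194935 (iv1 F395084)
theorem F459438 : act 2 n210950 = n198811 := d1_1 F459437 F409358 (iv2 F394614)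
theorem F459439 : act 6 n210950 = n194822 := d10_2 D194823 F459437 (iv4 D194822)
theorem F459440 : act 3 n210950 = n196465 := d20_3 F395083 (iv1 F395084) F459437 (iv1 D196465) F164949 F78164 D107000 F164937 (iv3 F207061) F414595
theorem F459441 : act 5 n199088 = n210950 := d6_0 F459440 F400759 D199088
def n210951 : Q := act 7 n140390
theorem D210951 : act 7 n140390 = n210951 := rfl
theorem F459442 : act 2 n210951 = n187838 := d4_1 D210951 F371668 (iv2 F223522)
theorem F459443 : act 3 n210951 = n208833 := d8_1 D210951 (iv7 F459434) F459432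
theorem F459444 : act 4 n210951 = n140607 := d11_1 D210951 (iv7 D140607) (iv4 F223523)
theorem F459445 : act 6 n210951 = n196364 := d14_1 D210951 (iv7 F400479) (iv6 D108779) (iv7 F101573) D140390
theorem F459446 : act 1 n196376 = n210951 := d15_1 (iv0 F400512) (iv7 D210951) F223522
theorem F459447 : act 1 n210951 = n170854 := d15_1 F459446 (iv7 F449984) F449983
theorem F459448 : act 0 n184582 = n208833 := d20_4 F134788 (iv1 F75776) (iv4 F135021) D184582 (iv3 F459443) F459444 (iv1 F351128) (iv4 F351130) (iv3 F351131) F153803
def n210952 : Q := act 6 n140392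
theorem D210952 : act 6 n140392 = n210952 := rfl
theorem F459449 : act 2 n210952 = n197869 := d3_1 D210952 (iv6 D197869) F231239
theorem F459450 : act 3 n210952 = n196490 := d7_1 D210952 (iv6 F412365) F412364
theorem F459451 : act 4 n210952 = n164027 := d10_1 D210952 F353658 (iv4 F353654)
theorem F459452 : act 0 n210952 = n157976 := d21_4 D134820 D208627 F450231 D210952 (iv6 D157976) D157975 F354688 F354674 F358637 (iv1 D134818)
theorem F459453 : act 0 n196485 = n210952 := d21_4 (iv5 F412863) (iv1 F404412) (iv5 F342035) D196485 (iv6 D210952) (iv5 F450231) (iv1 F450233) F371653 F334613 (iv1 F412859)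
theorem F459454 : act 7 n197935 = n210952 := d11_0 F459451 (iv7 F363809) (iv4 F406237)
def n210953 : Q := act 3 n140393
theorem D210953 : act 3 n140393 = n210953 := rfl
theorem F459455 : act 2 n210953 = n198003 := d0_1 D210953 (iv3 F412347) F412346 (iv3 D197864) (iv2 F231238)
theorem F459456 : act 4 n210953 = n189858 := d5_2 (iv4 F230741) D210953 (iv3 D189858) F318907 (iv3 F230740)
theorem F459457 : act 5 n210953 = n192678 := d6_2 F450238 D210953 F450240
theorem F459458 : act 7 n210953 = n197867 := d8_2 F231237 D210953 (iv3 D197867)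
theorem F459459 : act 0 n210953 = n198004 := d20_4 F353648 (iv1 F353650) (iv4 F230741) D210953 F406470 (iv4 D111906) F323896 (iv4 F91650) (iv3 F198749) (iv1 F353646)
theorem F459460 : act 0 n197708 = n210953 := d20_4 F281187 (iv1 F338756) (iv4 F359826) D197708 (iv3 D210953) F230741 (iv1 F353659) F433379 (iv3 F433378) F406362
theorem F459461 : act 6 n210953 = n204296 := d21_5 F431789 F300898 (iv5 F272947) F405460 F459460 (iv5 F457213) F457212 F363365 F197886 D204273
def n210954 : Q := act 6 n140393
theorem D210954 : act 6 n140393 = n210954 := rfl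
theorem F459462 : act 2 n210954 = n197866 := d3_1 D210954 (iv6 D197866) (iv2 F231238)
theorem F459463 : act 3 n210954 = n204296 := d7_1 D210954 (iv6 F459461) (iv3 D210953)
theorem F459464 : act 0 n191383 = n210954 := d21_4 (iv5 F412472) (iv1 F412474) (iv5 F375342) (iv6 F383281) (iv6 D210954) (iv5 F450238) (iv1 D208628) (iv5 D134820) F98647 D133969
theorem F459465 : act 1 n140421 = n210954 := d15_0 (iv0 F459464) F383282 (iv2 F351715)
theorem F459466 : act 7 n198035 = n210954 := d15_2 F450230 D198035 F459462
def n210955 : Q := act 6 n140398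
theorem D210955 : act 6 n140398 = n210955 := rfl
theorem F459467 : act 2 n210955 = n140399 := d3_1 D210955 (iv6 D140399) D140398
theorem F459468 : act 3 n210955 = n173238 := d7_1 D210955 F365527 (iv3 F223540)
theorem F459469 : act 4 n210955 = n198433 := d10_1 D210955 (iv6 D198433) (iv4 F223541)
theorem F459470 : act 5 n210955 = n171069 := d12_1 D210955 F268790 (iv5 F375760) (iv6 F406918) F406917
theorem F459471 : act 7 n210955 = n174144 := d14_2 (iv7 F223542) D210955 (iv6 F334710) F406084 (iv6 D197876)
theorem F459472 : act 0 n204269 = n210955 := d21_4 (iv5 F455738) F455740 (iv5 F453132) F453130 (iv6 D210955) (iv5 F406917) (iv1 F406921) (iv5 F406779) (iv6 F455623) F455624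
def n210956 : Q := act 1 n140399
theorem D210956 : act 1 n140399 = n210956 := rfl
theorem F459473 : act 1 n210956 = n174144 := d15_1 D210956 (iv7 F459471) F459467
theorem F459474 : act 5 n210956 = n177499 := d17_7 (iv1 F199105) D177518 F353956 (iv5 D121082) F304242 (iv5 F341307) D210956 F405465 F405463
theorem F459475 : act 4 n202846 = n210956 := d20_0 (iv1 D210956) F223550 F169333 (iv1 F173566) F394667 F394665 (iv1 D104764) (iv4 F160483) (iv3 F395009) F425844
theorem F459476 : act 6 n209297 = n210956 := d21_3 (iv5 F408809) (iv1 F408873) (iv5 F453091) (iv1 D210956) (iv6 D140399) (iv5 F168950) F406759 (iv5 D198092) F365847 (iv1 F408808)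
theorem F459477 : act 2 n210956 = n204269 := d3_1 F459476 (iv6 F453130) F453128
def n210957 : Q := act 1 n140403
theorem D210957 : act 1 n140403 = n210957 := rfl
theorem F459478 : act 1 n210957 = n205970 := d15_1 D210957 F438652 F406361
theorem F459479 : act 7 n210957 = n180649 := d15_2 (iv0 F352240) D210957 F281186
theorem F459480 : act 4 n210957 = n180653 := d18_7 (iv1 F100489) (iv4 F100465) (iv1 F100468) (iv4 F165194) D126857 F352237 D210957 (iv0 F336489) F323136
theorem F459481 : act 3 n198429 = n210957 := d20_9 (iv4 F352237) (iv1 F352235) F167935 (iv3 D50146) (iv1 F49298) D65899 F101589 D109306 D198429 (iv1 D210957)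
theorem F459482 : act 6 n210957 = n203949 := d7_2 (iv6 F407989) F459481 F430541
def n210958 : Q := act 5 n140403
theorem D210958 : act 5 n140403 = n210958 := rfl
theorem F459483 : act 3 n210958 = n140405 := d6_1 D210958 (iv5 D140405) D140403
theorem F459484 : act 6 n210958 = n141890 := d12_2 (iv6 F352239) D210958 F224932 D202459 (iv5 F424090)
theorem F459485 : act 7 n210958 = n198248 := d13_2 F406363 D210958 F407341
theorem F459486 : act 4 n210958 = n198179 := d16_2 F352237 D210958 (iv5 F407122) (iv4 D137319) (iv5 D64544) (iv4 F102189) D126855 (iv7 F344741) F344739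
theorem F459487 : act 0 n210958 = n197800 := d17_2 (iv1 D210957) D210958 (iv5 D197800) F330495 (iv5 D64539) D64538 (iv5 F325294) F345345 (iv4 F459480)
theorem F459488 : act 1 n210958 = n206709 := d17_6 (iv1 F402871) F402869 (iv1 F203783) D126857 F352237 D210958 F441932 F438873 F405830
def n210959 : Q := act 0 n140404
theorem D210959 : act 0 n140404 = n210959 := rfl
theorem F459489 : act 5 n210959 = n205945 := d17_1 D210959 F438527 (iv5 D198242) (iv4 D109080) D109081 F405885 F405882 F176730 D140404
theorem F459490 : act 4 n210959 = n200869 := d18_1 D210959 (iv1 D200869) (iv4 D113581) D113582 F176741 F325894 (iv4 F204337) D206039 (iv5 F438959)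
theorem F459491 : act 3 n210959 = n198416 := d20_5 F360726 (iv1 D172571) (iv4 F270745) (iv3 F352238) D210959 (iv4 D198416) (iv1 F174030) (iv4 F175378) F175377 (iv1 F176430)
theorem F459492 : act 2 n145455 = n210959 := d15_3 (iv0 D210959) (iv0 F409797) F409796
theorem F459493 : act 1 n140409 = n210959 := d15_0 (iv0 D210959) (iv7 F418194) F418192
theorem F459494 : act 7 n210959 = n200621 := d15_2 F409798 F459493 F417250
theorem F459495 : act 6 n210959 = n190656 := d3_2 (iv6 F366015) F459492 (iv2 D190656)
def n210960 : Q := act 7 n140406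
theorem D210960 : act 7 n140406 = n210960 := rfl
theorem F459496 : act 5 n210960 = n202461 := d13_1 D210960 (iv7 D202461) F352246
theorem F459497 : act 6 n210960 = n204278 := d14_1 D210960 F431824 (iv6 D200862) F358903 D140406
theorem F459498 : act 0 n150851 = n210960 := d21_4 D111647 F406191 (iv5 F171698) F362488 F459497 (iv5 D204278) D204276 F431816 (iv6 D199430) (iv1 F172757)
def n210961 : Q := act 5 n140408
theorem D210961 : act 5 n140408 = n210961 := rfl
theorem F459499 : act 2 n210961 = n198275 := d2_1 D210961 (iv5 F407438) (iv2 F353647)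
theorem F459500 : act 3 n210961 = n140410 := d6_1 D210961 (iv5 D140410) D140408
theorem F459501 : act 7 n210961 = n198251 := d13_2 F358893 D210961 F407351
theorem F459502 : act 4 n210961 = n188046 := d16_2 (iv4 F353648) D210961 F387476 (iv4 F347975) F263839 (iv4 F253764) (iv5 F350703) F350704 F298818
theorem F459503 : act 0 n210961 = n198273 := d17_2 (iv1 F353646) D210961 (iv5 D198273) (iv4 F169984) (iv5 F231419) F325854 F324774 D110607 F320724
theorem F459504 : act 1 n210961 = n180493 := d17_6 F387320 F347988 (iv1 D77121) D77122 (iv4 F353648) D210961 (iv5 D180493) D180492 (iv4 F387319)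
def n210962 : Q := act 6 n140409
theorem D210962 : act 6 n140409 = n210962 := rfl
theorem F459505 : act 2 n210962 = n206623 := d3_1 D210962 F441627 F418192
theorem F459506 : act 3 n210962 = n150255 := d7_1 D210962 (iv6 F353644) (iv3 F223564)
theorem F459507 : act 4 n210962 = n140411 := d10_1 D210962 (iv6 D140411) D140409
theorem F459508 : act 5 n210962 = n170230 := d12_1 D210962 F345575 F211922 (iv6 F417696) F417695
theorem F459509 : act 0 n210962 = n167722 := d21_4 F358839 F417698 F417695 D210962 (iv6 F452120) F452119 F445037 (iv5 F441303) F441304 (iv1 F405690)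
theorem F459510 : act 0 n177457 = n210962 := d21_4 (iv5 D177334) (iv1 F276594) F276592 D177457 (iv6 D210962) (iv5 F417695) (iv1 F417699) (iv5 D198754) (iv6 F358844) F325523
def n210963 : Q := act 4 n140410
theorem D210963 : act 4 n140410 = n210963 := rfl
theorem F459511 : act 2 n210963 = n198249 := d1_1 D210963 (iv4 D198249) (iv2 F358905)
theorem F459512 : act 5 n210963 = n141175 := d9_2 D140410 D210963 (iv4 F438064) F438062 (iv4 F438958) (iv5 F438959) (iv4 D140404) D140405 (iv4 F410490) (iv5 D199054) (iv4 F401932) (iv5 F417811) F417810 F417695 (iv4 D140409)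
theorem F459513 : act 7 n210963 = n198252 := d11_2 (iv7 F358901) D210963 (iv4 D198252)
theorem F459514 : act 0 n210963 = n141196 := d17_0 F224218 F362377 F143912 (iv4 F286058) (iv5 F345102) (iv0 D108650) D108653 (iv0 F223565) D210963
theorem F459515 : act 1 n210963 = n210664 := d18_8 (iv1 F362380) (iv4 F454399) (iv1 F454400) (iv4 F354174) (iv5 F405710) (iv4 D197770) (iv0 F223565) D210963 (iv5 D210664)
theorem F459516 : act 6 n209614 = n210963 := d21_9 F224218 F362377 F143912 (iv6 D87821) (iv1 F75776) D104193 (iv5 F294759) D189895 (iv5 F454336) F459514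
def n210964 : Q := act 6 n140410
theorem D210964 : act 6 n140410 = n210964 := rfl
theorem F459517 : act 2 n210964 = n198250 := d3_1 D210964 (iv6 D198250) (iv2 F358905)
theorem F459518 : act 4 n210964 = n209614 := d10_1 D210964 F459516 (iv4 D210963)
theorem F459519 : act 5 n210964 = n170836 := d12_1 D210964 (iv6 F413315) F413314 (iv6 D140411) D140410
theorem F459520 : act 7 n210964 = n141895 := d14_2 (iv7 F358901) D210964 (iv6 D141895) (iv7 F182540) (iv6 F345106)
theorem F459521 : act 0 n210964 = n157935 := d21_4 F405882 (iv1 F176732) D140410 D210964 F362329 (iv5 F362328) F350385 F350383 F359813 (iv1 F405884)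
def n210965 : Q := act 0 n140412
theorem D210965 : act 0 n140412 = n210965 := rfl
theorem F459522 : act 4 n210965 = n177021 := d18_3 F435163 (iv4 F223567) D210965 F276430 F160974 F361738 (iv4 F206887) D206437 (iv5 F440799)
theorem F459523 : act 6 n210965 = n177020 := d21_5 F345102 F345104 F169163 D140412 D210965 F276427 (iv1 F308519) F331135 (iv6 D108654) D108650
theorem F459524 : act 2 n140413 = n210965 := d3_3 F459523 F276426 (iv6 F365119)
theorem F459525 : act 3 n204307 = n210965 := d7_3 F459523 (iv3 F433863) F433866
theorem F459526 : act 5 n210159 = n210965 := d12_5 F459523 F276427 D177290 (iv5 F355523) D210159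
theorem F459527 : act 7 n140414 = n210965 := d14_0 F459523 (iv7 F276428) D177289 (iv7 F361648) F406154
theorem F459528 : act 4 n208373 = n182254 := d16_0 (iv5 F365472) (iv4 F456407) F459526 F459522 F276430 F160974 D105056 D195017 (iv2 F449116)
theorem F459529 : act 0 n210965 = n140416 := d21_7 (iv5 F291432) (iv1 D95825) (iv5 F291433) D101393 (iv1 F357289) D210159 F459526 F377744 (iv6 D101436) (iv1 F134710)
theorem F459530 : act 1 n210159 = n193189 := d17_8 D193190 F389125 (iv1 D187054) F137174 (iv4 F156255) (iv5 F377744) (iv0 F459529) (iv5 F459526) F389123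
def n210966 : Q := act 1 n140412
theorem D210966 : act 1 n140412 = n210966 := rfl
theorem F459531 : act 1 n210966 = n140416 := d15_1 D210966 (iv7 D140416) (iv2 F223566)
theorem F459532 : act 7 n210966 = n140413 := d15_2 (iv0 D210965) D210966 F459524
theorem F459533 : act 4 n177464 = n210966 := d20_0 (iv1 D210966) F223567 F204609 F358174 F358171 F297643 F123858 D86716 D181689 F383871
theorem F459534 : act 6 n199012 = n210966 := d21_3 D111321 (iv1 F407494) (iv5 F410318) (iv1 D210966) (iv6 D140412) (iv5 F169163) (iv1 F405701) (iv5 D197768) (iv6 F412132) (iv1 D111319)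
theorem F459535 : act 2 n210966 = n140414 := d3_1 F459534 (iv6 F406154) F410319
def n210967 : Q := act 5 n140412
theorem D210967 : act 5 n140412 = n210967 := rfl
theorem F459536 : act 2 n210967 = n140415 := d2_1 D210967 (iv5 D140415) (iv2 F223566)
theorem F459537 : act 4 n210967 = n193161 := d9_1 D210967 F388988 (iv4 F395429) (iv5 F432238) F432237 (iv5 F417510) (iv4 F223570) F377744 F156255 (iv5 F137174) (iv4 F368932) (iv5 F444207) F444206 F417507 (iv4 F223567)
theorem F459538 : act 6 n210967 = n193273 := d12_2 D140412 D210967 F389373 (iv6 F387460) F169163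
theorem F459539 : act 7 n210967 = n193159 := d16_8 F156255 (iv5 F137174) (iv4 F368932) (iv5 F444207) F444206 F417507 (iv4 F223567) D210967 F388979
theorem F459540 : act 0 n193290 = n210967 := d19_0 (iv5 D210967) F223567 F204609 F358174 (iv5 D132639) (iv4 D62237) (iv3 D29451) (iv1 F23353) (iv5 F27065) (iv4 F49755) D65074 (iv1 F316231) F107515 (iv4 F303987) F123371 (iv1 F86875) D84951 D178507 (iv3 F458296)
theorem F459541 : act 5 n198257 = n193290 := d21_6 F203751 (iv1 D109086) (iv5 D50362) D50363 D109089 D198257 F459540 (iv5 D210967) (iv6 D140412) (iv1 F176731)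
theorem F459542 : act 1 n193291 = n210967 := d15_1 D193291 F459539 F388979
def n210968 : Q := act 7 n140412
theorem D210968 : act 7 n140412 = n210968 := rfl
theorem F459543 : act 2 n210968 = n140416 := d4_1 D210968 (iv7 D140416) (iv2 F223566)
theorem F459544 : act 4 n210968 = n205224 := d11_1 D210968 F435501 (iv4 F223567)
theorem F459545 : act 5 n210968 = n193159 := d13_1 D210968 (iv7 F459539) (iv5 D210967)
theorem F459546 : act 1 n140414 = n210968 := d15_1 D140414 (iv7 D210968) F223566
theorem F459547 : act 1 n210968 = n140413 := d15_1 F459546 (iv7 F459532) F459535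
def n210969 : Q := act 5 n140413
theorem D210969 : act 5 n140413 = n210969 := rfl
theorem F459548 : act 2 n210969 = n210159 := d2_1 D210969 F459526 (iv2 F459524)
theorem F459549 : act 3 n210969 = n178518 := d6_1 D210969 (iv5 F434109) F434107
theorem F459550 : act 6 n210969 = n194736 := d21_3 (iv5 D140415) D140413 D210969 F394302 F357296 D196793 (iv1 F412062) F412061 D210911 F459255
theorem F459551 : act 4 n194737 = n210969 := d10_3 F459550 (iv4 D194736) D194737
def n210970 : Q := act 4 n140414
theorem D210970 : act 4 n140414 = n210970 := rfl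
theorem F459552 : act 2 n210970 = n177464 := d1_1 D210970 F459533 F459535
theorem F459553 : act 3 n210970 = n200517 := d5_1 D210970 F416824 (iv3 F431971) (iv4 D204305) (iv3 F431977)
theorem F459554 : act 6 n210970 = n200514 := d10_2 F406154 D210970 F416816
theorem F459555 : act 7 n210970 = n177021 := d11_2 (iv7 F459527) D210970 (iv4 F459522)
theorem F459556 : act 0 n210970 = n177463 := d18_2 (iv1 F459546) D210970 (iv4 F414757) F414758 (iv4 F220034) (iv0 F438152) (iv4 F459254) (iv0 F459256) (iv5 F459545)
theorem F459557 : act 5 n210970 = n195011 := d18_4 (iv1 F435500) (iv4 F459544) (iv1 F459546) D210970 F395417 F336404 (iv4 F440804) F440807 F331161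
theorem F459558 : act 0 n177462 = n210970 := d20_10 (iv4 D210970) (iv1 D140414) F101596 F94222 D59826 D127372 (iv4 F393445) (iv1 F393448) F380277 (iv3 F380279)
def n210971 : Q := act 5 n140414
theorem D210971 : act 5 n140414 = n210971 := rfl
theorem F459559 : act 3 n210971 = n191930 := d6_1 D210971 (iv5 F384876) (iv3 F431977)
theorem F459560 : act 6 n210971 = n191929 := d12_2 F406154 D210971 (iv5 F393176) F393178 (iv5 F406153)
theorem F459561 : act 7 n210971 = n210159 := d13_2 (iv7 F459527) D210971 F459526
theorem F459562 : act 4 n210161 = n210971 := d11_3 F459561 F456407 D210161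
def n210972 : Q := act 0 n140415
theorem D210972 : act 0 n140415 = n210972 := rfl
theorem F459563 : act 4 n210972 = n209700 := d18_1 D210972 (iv1 F454669) F377076 D193305 (iv4 F389427) (iv0 D177462) (iv4 F365118) (iv0 D140413) D140415
theorem F459564 : act 2 n193291 = n210972 := d15_3 (iv0 D210972) (iv0 F459255) (iv7 F459257)
theorem F459565 : act 1 n193159 = n210972 := d15_0 (iv0 D210972) (iv7 F377742) (iv2 F388979)
theorem F459566 : act 7 n210972 = n193290 := d15_2 (iv0 F459256) F459565 (iv2 F459252)
theorem F459567 : act 3 n203513 = n210972 := d19_19 (iv1 F459565) (iv5 F459545) F459544 (iv3 F435503) (iv1 F418485) F358213 (iv4 D60605) (iv3 F168083) (iv1 D13773) (iv5 F20489) (iv4 F24238) (iv3 F49217) F313990 F60480 (iv4 F301198) F57449 D54918 D119337 D203513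
def n210973 : Q := act 0 n140419
theorem D210973 : act 0 n140419 = n210973 := rfl
theorem F459568 : act 5 n210973 = n210547 := d17_3 (iv1 F458307) F458305 D210973 (iv4 D210547) (iv5 D139383) F168897 (iv5 F406649) F406651 D210548
theorem F459569 : act 4 n210973 = n178119 := d18_1 D210973 (iv1 F405571) (iv4 F406577) F406578 (iv4 D139386) (iv0 F172520) D199358 F458306 F458305
theorem F459570 : act 6 n210973 = n177984 := d21_5 (iv5 D135738) D135735 (iv5 F404202) (iv6 F404204) D210973 (iv5 D177984) (iv1 F305171) F305173 (iv6 F345267) F332972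
theorem F459571 : act 2 n198038 = n210973 := d1_3 F459569 F363319 D198038
theorem F459572 : act 7 n198040 = n210973 := d11_0 F459569 (iv7 F363320) D198040
def n210974 : Q := act 1 n140419
theorem D210974 : act 1 n140419 = n210974 := rfl
theorem F459573 : act 7 n210974 = n198038 := d15_2 (iv0 D210973) D210974 F459571
theorem F459574 : act 5 n210974 = n210544 := d17_7 (iv1 F406605) (iv5 D198056) (iv1 F168888) (iv5 F222649) (iv4 F458304) F458305 D210974 F457985 (iv4 D210407)
theorem F459575 : act 4 n210974 = n197733 := d18_7 (iv1 F98655) F81102 (iv1 D30844) (iv4 F49301) D65908 D140419 D210974 F405567 F168874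
theorem F459576 : act 2 n198040 = n210974 := d1_3 F459575 (iv2 F405570) D198040
theorem F459577 : act 3 n210974 = n156265 := d19_3 (iv1 D198190) F405569 (iv4 F459575) (iv1 D156265) D156266 (iv4 F359546) F151872 D98477 (iv5 F274977) (iv4 D175649) (iv3 F309539) (iv1 D174862) F128819 (iv4 F336429) F346401 (iv1 D119366) D119368 F337715 (iv3 F407163)
def n210975 : Q := act 0 n140421
theorem D210975 : act 0 n140421 = n210975 := rfl
theorem F459578 : act 4 n210975 = n208911 := d18_3 (iv1 F351712) F351710 D210975 (iv5 D208911) (iv4 F451368) (iv0 F451370) F431689 F344935 (iv5 D125292)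
theorem F459579 : act 2 n198035 = n210975 := d15_3 (iv0 D210975) F459465 (iv7 F459466)
theorem F459580 : act 1 n191383 = n210975 := d15_0 (iv0 D210975) F223573 (iv2 F383280)
theorem F459581 : act 7 n210975 = n197866 := d15_2 (iv0 F459464) F459580 (iv2 F459462)
theorem F459582 : act 6 n197935 = n210975 := d14_5 F459581 (iv6 D197866) (iv7 F231240) D210952 (iv7 F459454)
def n210976 : Q := act 5 n140421
theorem D210976 : act 5 n140421 = n210976 := rfl
theorem F459583 : act 2 n210976 = n192439 := d2_1 D210976 F386720 (iv2 F351715)
theorem F459584 : act 3 n210976 = n140422 := d6_1 D210976 (iv5 D140422) D140421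
theorem F459585 : act 7 n210976 = n188088 := d13_2 (iv7 F223573) D210976 F372300
theorem F459586 : act 4 n210976 = n188091 := d18_5 F386926 F304199 (iv1 F351712) F351710 D210976 F372308 F384761 (iv0 F358734) D192515
theorem F459587 : act 0 n210976 = n192438 := d18_0 F386717 (iv1 D191932) (iv4 F384875) (iv5 F384876) D204305 (iv0 F451373) (iv4 F459578) (iv0 D210975) D210976
theorem F459588 : act 1 n210976 = n192437 := d15_1 (iv0 F459587) (iv7 F386944) F386942
theorem F459589 : act 6 n192410 = n210976 := d10_0 F459586 F372305 (iv4 F386661)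
def n210977 : Q := act 4 n140422
theorem D210977 : act 4 n140422 = n210977 := rfl
theorem F459590 : act 2 n210977 = n198032 := d1_1 D210977 (iv4 D198032) (iv2 F223574)
theorem F459591 : act 5 n210977 = n199358 := d9_2 D140422 D210977 (iv4 D199358) (iv5 D111230) F101611 (iv5 D65913) (iv4 F81102) D111389 D199533 (iv5 F457994) (iv4 D210548) F222593 F172406 (iv5 D65911) D65910
theorem F459592 : act 7 n210977 = n198036 := d11_2 (iv7 F223575) D210977 (iv4 D198036)
theorem F459593 : act 6 n200111 = n210977 := d3_0 F459590 F423029 (iv2 F415058)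
theorem F459594 : act 3 n210977 = n202300 := d7_1 F459593 (iv6 D202300) (iv3 F415059)
def n210978 : Q := act 6 n140422
theorem D210978 : act 6 n140422 = n210978 := rfl
theorem F459595 : act 2 n210978 = n198033 := d3_1 D210978 (iv6 D198033) (iv2 F223574)
theorem F459596 : act 3 n210978 = n192410 := d7_1 D210978 F459589 F459584
theorem F459597 : act 4 n210978 = n200111 := d10_1 D210978 F459593 (iv4 D210977)
theorem F459598 : act 7 n210978 = n192406 := d14_2 (iv7 F223575) D210978 (iv6 D192406) F365332 F370339
theorem F459599 : act 0 n210978 = n196655 := d21_4 (iv5 D108622) F101601 D140422 D210978 F401369 (iv5 F449609) F449610 F407155 (iv6 F406017) (iv1 D197733)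
theorem F459600 : act 0 n202244 = n210978 := d18_2 F180737 D202244 F459597 (iv5 D200111) (iv4 D112673) F82136 (iv4 F164992) F164994 D115396
def n210979 : Q := act 4 n140436
theorem D210979 : act 4 n140436 = n210979 := rfl
theorem F459601 : act 2 n210979 = n140440 := d1_1 D210979 (iv4 D140440) (iv2 F223622)
theorem F459602 : act 5 n210979 = n205963 := d9_2 D140436 D210979 (iv4 D205963) F204092 F100084 F78206 (iv4 F84191) D115732 (iv4 F363673) (iv5 F363675) F214723 (iv5 F319763) F330922 (iv5 F165048) F165047
theorem F459603 : act 6 n210979 = n188966 := d10_2 (iv6 F363352) D210979 F375260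
theorem F459604 : act 7 n210979 = n201424 := d11_2 F423968 D210979 (iv4 F423967)
theorem F459605 : act 0 n210979 = n196816 := d17_0 F401882 (iv1 D185794) (iv5 F138933) F336041 (iv5 D49395) D49393 D106912 F228372 D210979
theorem F459606 : act 1 n210979 = n196795 := d18_6 D140555 F223696 (iv1 F165050) F165047 D140436 D210979 (iv4 D196795) (iv0 F387843) (iv5 D140558)
theorem F459607 : act 3 n210979 = n209744 := d19_3 (iv1 F180052) D140436 D210979 F454821 F421141 (iv4 F453027) F453026 (iv1 F418042) F367709 F333104 D137487 F345457 (iv5 F415818) F415817 F175889 D112946 F331456 (iv4 F402520) F402519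
def n210980 : Q := act 4 n140438
theorem D210980 : act 4 n140438 = n210980 := rfl
theorem F459608 : act 2 n210980 = n188117 := d1_1 D210980 F372357 F228369
theorem F459609 : act 3 n210980 = n146340 := d5_1 D210980 (iv4 D146340) (iv3 F318941) D114502 (iv3 F340034)
theorem F459610 : act 5 n210980 = n146370 := d9_2 (iv5 F228371) D210980 F364113 (iv5 F330917) (iv4 F203939) (iv5 D111061) (iv4 F181252) F228366 (iv4 F418542) (iv5 D200967) F354327 (iv5 F322267) (iv4 F228512) F228513 (iv4 F225602)
theorem F459611 : act 6 n210980 = n187572 := d10_2 F371837 D210980 (iv4 F371836)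
theorem F459612 : act 7 n210980 = n196339 := d11_2 F228370 D210980 (iv4 D196339)
theorem F459613 : act 0 n210980 = n207266 := d17_0 (iv5 D207266) F350857 D130940 F336038 F223615 F180058 D202431 F423970 D210980
theorem F459614 : act 1 n210980 = n207359 := d18_6 D107330 F165389 (iv1 F225605) (iv4 F225602) (iv5 F228371) D210980 F444515 (iv0 D196794) (iv5 D107333)
def n210981 : Q := act 3 n140442
theorem D210981 : act 3 n140442 = n210981 := rfl
theorem F459615 : act 6 n210981 = n208065 := d7_2 (iv6 F357936) D210981 F447723
theorem F459616 : act 7 n210981 = n193316 := d8_2 F457282 D210981 (iv3 F457279)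
theorem F459617 : act 4 n210981 = n208066 := d20_6 F100850 (iv1 F48972) (iv4 F49312) (iv3 F101621) D140442 D210981 (iv1 F447834) (iv4 F405127) (iv3 D197637) (iv1 F167809)
theorem F459618 : act 0 n140732 = n210981 := d20_10 F459617 (iv1 F447834) (iv4 F405127) (iv3 D197637) (iv1 F167809) F315249 (iv4 D86024) F322904 (iv4 F101717) (iv3 F223830)
def n210982 : Q := act 4 n140442
theorem D210982 : act 4 n140442 = n210982 := rfl
theorem F459619 : act 6 n210982 = n210719 := d10_2 (iv6 F357936) D210982 (iv4 D210719)
theorem F459620 : act 0 n205488 = n210982 := d21_4 D111061 (iv1 F227076) (iv5 F202852) D205488 F459619 F458558 (iv1 F273781) F333018 F322257 F102891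
def n210983 : Q := act 5 n140442
theorem D210983 : act 5 n140442 = n210983 := rfl
theorem F459621 : act 2 n210983 = n204296 := d2_1 D210983 (iv5 F457213) F457211
theorem F459622 : act 6 n210983 = n198003 := d12_2 (iv6 F357936) D210983 F408255 (iv6 D193062) (iv5 F357933)
theorem F459623 : act 0 n204156 = n210983 := d21_7 (iv5 F387337) (iv1 F387340) F364111 D108479 F364767 D210439 F457540 (iv5 D210983) F357936 (iv1 F222766)
theorem F459624 : act 4 n210983 = n194495 := d20_2 (iv4 F431236) F459623 (iv3 F408273) F414148 (iv3 D109572) (iv4 F169331) (iv1 F171163) F174023 D199905 F414078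
theorem F459625 : act 1 n198021 = n210983 := d15_0 (iv0 F459623) F431238 (iv2 F406534)
theorem F459626 : act 7 n204295 = n210983 := d11_0 F459624 F394656 (iv4 F431923)
theorem F459627 : act 5 n210378 = n204295 := d13_3 F459626 (iv5 D210983) (iv7 F457282)
theorem F459628 : act 5 n194831 = n160913 := d17_5 (iv1 D204293) (iv5 F363365) D210378 F459627 F431923 (iv0 D160913) (iv5 F348742) D194967 F431907
def n210984 : Q := act 3 n140443
theorem D210984 : act 3 n140443 = n210984 := rfl
def n210985 : Q := act 4 n140443
theorem D210985 : act 4 n140443 = n210985 := rfl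
def n210986 : Q := act 5 n140443
theorem D210986 : act 5 n140443 = n210986 := rfl
theorem F459629 : act 2 n210986 = n204295 := d2_1 D210986 (iv5 F459627) (iv2 F457280)
theorem F459630 : act 7 n210986 = n204296 := d13_2 (iv7 F457215) D210986 (iv5 F457213)
theorem F459631 : act 0 n210986 = n204156 := d21_1 D210986 (iv5 F457540) (iv6 D210439) (iv1 F421697) F421694 F404889 (iv1 F277905) D178340 (iv6 F457287) (iv1 F457290)
theorem F459632 : act 6 n210986 = n203887 := d21_3 (iv5 F457286) (iv1 F457290) D210986 (iv1 D203887) (iv6 F398635) F404384 (iv1 D197450) (iv5 F400724) F431912 (iv1 F431921)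
theorem F459633 : act 6 n163938 = n204295 := d3_2 F459632 (iv2 F430249) (iv2 F459629)
theorem F459634 : act 4 n194496 = n210986 := d20_0 F459631 F431236 (iv3 D173319) (iv1 F136146) (iv3 F289066) (iv4 F345718) D205266 F435671 F395153 (iv1 F394661)
theorem F459635 : act 1 n210986 = n198021 := d15_1 (iv0 F459631) F412770 (iv2 F431235)
theorem F459636 : act 3 n210986 = n198035 := d20_3 F459236 (iv1 F394661) F459634 (iv1 D198035) (iv3 D108881) F81208 F80309 (iv4 F101533) (iv3 F223459) D210907
theorem F459637 : act 5 n198035 = n210984 := d6_2 D210986 F459636 (iv3 D210984)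
theorem F459638 : act 0 n210984 = n198039 := d17_2 (iv1 F406569) F459637 F406571 (iv4 D180178) (iv5 F333767) (iv0 D130155) (iv5 F320828) D86059 D180112
theorem F459639 : act 6 n192482 = n210984 := d21_5 (iv5 F354458) (iv1 F143363) F292328 D100204 D192482 (iv5 F459637) (iv1 D198035) (iv5 F372300) (iv6 D188088) (iv1 F154228)
def n210987 : Q := act 6 n140443
theorem D210987 : act 6 n140443 = n210987 := rfl
theorem F459640 : act 2 n210987 = n193313 := d3_1 D210987 F457283 (iv2 F457280)
theorem F459641 : act 3 n210987 = n192482 := d7_1 D210987 F459639 (iv3 D210984)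
theorem F459642 : act 7 n210987 = n210722 := d14_2 (iv7 F457215) D210987 (iv6 D210722) (iv7 F357945) D210365
theorem F459643 : act 1 n197545 = n210987 := d15_1 (iv0 F457204) F459642 F458573
def n210988 : Q := act 0 n140449
theorem D210988 : act 0 n140449 = n210988 := rfl
theorem F459644 : act 6 n210988 = n199604 := d21_5 F343118 F332976 F167919 (iv6 F223630) D210988 (iv5 D199604) (iv1 F361609) (iv5 F404847) (iv6 D197562) (iv1 F167887)
theorem F459645 : act 2 n198037 = n210988 := d15_3 (iv0 D210988) (iv0 F406026) (iv7 F406570)
theorem F459646 : act 1 n193302 = n210988 := d15_0 (iv0 D210988) (iv7 F424045) F424041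
def n210989 : Q := act 2 n140449
theorem D210989 : act 2 n140449 = n210989 := rfl
theorem F459647 : act 3 n210989 = n193306 := d0_2 D140449 D210989 F389428 F217001 F101624
theorem F459648 : act 4 n210989 = n197296 := d1_2 (iv4 F223629) D210989 F403875
theorem F459649 : act 5 n210989 = n194487 := d2_2 (iv5 F363364) D210989 F393412
theorem F459650 : act 6 n210989 = n197288 := d3_2 (iv6 F223630) D210989 (iv2 D197288)
theorem F459651 : act 7 n210989 = n193302 := d4_2 F424045 D210989 (iv2 F424041)
theorem F459652 : act 1 n198037 = n210989 := d15_1 (iv0 F424046) F459651 (iv2 F424041)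
def n210990 : Q := act 1 n140451
theorem D210990 : act 1 n140451 = n210990 := rfl
theorem F459653 : act 1 n210990 = n193306 := d15_1 D210990 (iv7 D193306) F352705
theorem F459654 : act 7 n210990 = n193292 := d15_2 (iv0 F406432) D210990 (iv2 F406428)
theorem F459655 : act 4 n192153 = n210990 := d20_0 (iv1 D210990) (iv4 F352696) F352695 (iv1 D135576) D135577 (iv4 F245277) F452212 F452210 F389398 (iv1 F388986)
theorem F459656 : act 2 n210990 = n193294 := d1_1 F459655 (iv4 D193294) (iv2 F385786)
def n210991 : Q := act 6 n140457
theorem D210991 : act 6 n140457 = n210991 := rfl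
theorem F459657 : act 3 n210991 = n140460 := d7_1 D210991 (iv6 D140460) D140457
theorem F459658 : act 4 n210991 = n202022 := d10_1 D210991 (iv6 D202022) (iv4 F223640)
theorem F459659 : act 0 n192374 = n210991 := d20_10 F459658 F423877 F179714 (iv3 D65987) (iv1 F101560) F329675 (iv4 D46739) D46737 D100126 D192374
def n210992 : Q := act 5 n140460
theorem D210992 : act 5 n140460 = n210992 := rfl
theorem F459660 : act 4 n210992 = n149012 := d16_2 (iv4 F354203) D210992 (iv5 D149012) F232732 F310272 F132663 (iv5 F324095) (iv7 D145635) D145633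
def n210993 : Q := act 5 n140462
theorem D210993 : act 5 n140462 = n210993 := rfl
theorem F459661 : act 3 n210993 = n149735 := d6_1 D210993 (iv5 D149735) (iv3 F354206)
theorem F459662 : act 7 n210993 = n206267 := d13_2 (iv7 F354208) D210993 (iv5 D206267)
theorem F459663 : act 0 n210993 = n154764 := d17_2 F424161 D210993 (iv5 D154764) D154763 (iv5 F438314) (iv0 D205895) (iv5 F364581) D194382 (iv4 F424158)
theorem F459664 : act 1 n210993 = n154769 := d17_6 (iv1 F106024) D74132 (iv1 F349911) F107547 (iv4 F354207) D210993 (iv5 D154769) F231737 F231733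
def n210994 : Q := act 4 n140463
theorem D210994 : act 4 n140463 = n210994 := rfl
theorem F459665 : act 2 n210994 = n140467 := d1_1 D210994 (iv4 D140467) (iv2 F223641)
theorem F459666 : act 5 n210994 = n209627 := d9_2 D140463 D210994 F454373 (iv5 D207815) (iv4 F330968) F204088 F100102 D115743 D202445 (iv5 F424034) (iv4 F442608) F442609 F441962 (iv5 F362000) F203929
theorem F459667 : act 7 n210994 = n183044 := d11_2 F424017 D210994 F424020
theorem F459668 : act 0 n210994 = n209507 := d17_0 F453956 F358545 (iv5 F337490) F169152 F79761 D65862 D140330 F350893 D210994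
theorem F459669 : act 1 n210994 = n209170 := d18_8 D209169 F452555 (iv1 F442986) (iv4 F219606) F373160 F373157 F350893 D210994 (iv5 D209170)
def n210995 : Q := act 1 n140464
theorem D210995 : act 1 n140464 = n210995 := rfl
theorem F459670 : act 1 n210995 = n140472 := d15_1 D210995 (iv7 D140472) (iv2 F223642)
theorem F459671 : act 7 n210995 = n140469 := d15_2 (iv0 F436427) D210995 (iv2 F436421)
theorem F459672 : act 4 n210995 = n200154 := d17_9 (iv1 F436417) (iv5 F436420) F347843 F130725 (iv4 F231677) (iv5 F412504) (iv0 F412505) F406082 D210995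
theorem F459673 : act 5 n204058 = n210995 := d21_6 (iv5 F426731) F426733 (iv5 D140388) D140389 F409348 (iv6 F430929) (iv1 D210995) (iv5 F406082) (iv6 D197876) (iv1 F223544)
theorem F459674 : act 3 n210995 = n178101 := d6_1 F459673 (iv5 F299584) D204058
theorem F459675 : act 0 n204755 = n199671 := d21_7 F459673 (iv1 D210995) (iv5 F406082) (iv6 D197876) (iv1 F223544) (iv6 F362622) (iv5 F433471) (iv5 D199671) D199672 F430931
theorem F459676 : act 6 n210995 = n200153 := d21_3 (iv5 F413074) F430931 F459673 F449016 F449013 D208353 F449053 (iv5 D197661) D197662 F405279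
theorem F459677 : act 2 n140470 = n210995 := d3_3 F459676 (iv2 F449009) F449010
def n210996 : Q := act 7 n140464
theorem D210996 : act 7 n140464 = n210996 := rfl
theorem F459678 : act 2 n210996 = n140472 := d4_1 D210996 (iv7 D140472) (iv2 F223642)
theorem F459679 : act 3 n210996 = n178340 := d8_1 D210996 F423976 F423973
theorem F459680 : act 4 n210996 = n154972 := d11_1 D210996 (iv7 F438213) F438212
theorem F459681 : act 5 n210996 = n178339 := d13_1 D210996 F406084 F406082
theorem F459682 : act 6 n210996 = n154971 := d14_1 D210996 (iv7 F424029) (iv6 D202444) F180085 D140464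
theorem F459683 : act 1 n140470 = n210996 := d15_1 D140470 (iv7 D210996) F223642
theorem F459684 : act 1 n210996 = n140469 := d15_1 F459683 (iv7 F459671) (iv2 F459677)
def n210997 : Q := act 0 n140467
theorem D210997 : act 0 n140467 = n210997 := rfl
theorem F459685 : act 5 n210997 = n209171 := d17_1 D210997 (iv1 F452564) (iv5 F407564) F407563 F169166 F101518 D134734 F354212 D140467
theorem F459686 : act 2 n209507 = n210997 := d15_3 (iv0 D210997) (iv0 F358543) D209507
theorem F459687 : act 1 n183044 = n210997 := d15_0 (iv0 D210997) (iv7 F424033) F424030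
theorem F459688 : act 7 n210997 = n209170 := d15_2 (iv0 F384563) F459687 F452559
def n210998 : Q := act 5 n140470
theorem D210998 : act 5 n140470 = n210998 := rfl
theorem F459689 : act 2 n210998 = n204058 := d2_1 D210998 F459673 (iv2 F459677)
theorem F459690 : act 3 n210998 = n204681 := d6_1 D210998 F433238 F424238
theorem F459691 : act 4 n210998 = n194886 := d9_1 D210998 F394856 (iv4 F381615) (iv5 D109900) (iv4 F169910) D198716 F408977 F406099 (iv4 F394624) F394625 (iv4 F381342) (iv5 F408912) F408911 (iv5 F436431) F436430
theorem F459692 : act 7 n210998 = n204684 := d13_2 (iv7 F436425) D210998 F436426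
theorem F459693 : act 1 n210998 = n204683 := d17_6 (iv1 F405302) (iv5 D147812) (iv1 F360254) (iv5 F436431) F436430 D210998 F433248 (iv0 D197670) (iv4 F405300)
theorem F459694 : act 1 n198140 = n210998 := d15_1 (iv0 F407675) F459692 (iv2 D204684)
def n210999 : Q := act 0 n140477
theorem D210999 : act 0 n140477 = n210999 := rfl
theorem F459695 : act 5 n210999 = n199402 := d19_1 D210999 F433874 (iv3 F441688) F441690 (iv5 D201013) (iv4 D113745) (iv3 F176998) (iv1 F326589) F326591 (iv4 F159104) F159103 (iv1 F158379) D103094 D194268 (iv3 F407669) F407671 (iv5 F202894) (iv4 F180078) D140477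
theorem F459696 : act 3 n210999 = n140780 := d20_5 F84223 D108706 (iv4 F180078) D140477 D210999 F223870 (iv1 F350160) D144401 F227175 F169647
theorem F459697 : act 6 n193294 = n210999 := d7_0 F459696 (iv6 F366152) (iv3 F389409)
theorem F459698 : act 7 n140774 = n210999 := d8_0 F459696 (iv7 D140780) (iv3 F223868)
theorem F459699 : act 4 n210999 = n193207 := d10_1 F459697 F389413 D193294
def n211000 : Q := act 2 n140477
theorem D211000 : act 2 n140477 = n211000 := rfl
theorem F459700 : act 3 n211000 = n204687 := d0_2 D140477 D211000 F433261 (iv3 D202436) F202606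
theorem F459701 : act 6 n211000 = n193141 := d3_2 (iv6 F407421) D211000 (iv2 F388893)
theorem F459702 : act 1 n211000 = n140774 := d15_0 (iv0 F423995) F423994 D211000
theorem F459703 : act 5 n204686 = n211000 := d17_5 (iv1 F435658) F435656 F418943 D209069 F452098 F459702 (iv5 F405521) (iv0 F405522) (iv4 F405220)
def n211001 : Q := act 5 n140477
theorem D211001 : act 5 n140477 = n211001 := rfl
theorem F459704 : act 2 n211001 = n204686 := d2_1 D211001 F459703 (iv2 D211000)
theorem F459705 : act 3 n211001 = n140478 := d6_1 D211001 (iv5 D140478) D140477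
theorem F459706 : act 6 n211001 = n210416 := d12_2 (iv6 F407421) D211001 F457442 (iv6 F389184) (iv5 D193210)
theorem F459707 : act 7 n211001 = n198348 := d13_2 F423994 D211001 (iv5 F423992)
theorem F459708 : act 4 n207116 = n211001 := d11_3 F459707 F407706 D207116
def n211002 : Q := act 1 n140480
theorem D211002 : act 1 n140480 = n211002 := rfl
theorem F459709 : act 7 n211002 = n178098 := d15_2 (iv0 F406015) D211002 (iv2 F406013)
theorem F459710 : act 5 n211002 = n165648 := d17_7 (iv1 F409623) (iv5 D158345) (iv1 F319727) (iv5 F433258) (iv4 D204685) (iv5 F360094) D211002 (iv0 F361596) (iv4 F361594)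
theorem F459711 : act 2 n199604 = n211002 := d2_3 F459710 F361602 D199604
theorem F459712 : act 3 n177506 = n211002 := d6_3 F459710 F302253 D177506
theorem F459713 : act 6 n198037 = n211002 := d12_0 F459710 F302254 (iv5 F341340) D199648 (iv5 F412987)
theorem F459714 : act 0 n204687 = n211002 := d17_2 (iv1 F433152) D204687 F459710 (iv4 D165648) (iv5 F318543) (iv0 F339280) (iv5 D125355) F201460 (iv4 F433147)
def n211003 : Q := act 2 n140480
theorem D211003 : act 2 n140480 = n211003 := rfl
theorem F459715 : act 5 n211003 = n204653 := d2_2 (iv5 F360094) D211003 (iv2 F433145)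
theorem F459716 : act 7 n211003 = n204687 := d4_2 F423984 D211003 F433261
theorem F459717 : act 1 n211003 = n199604 := d15_0 (iv0 F423985) F423984 D211003
theorem F459718 : act 1 n178098 = n211003 := d15_0 F459717 F412816 F406013
def n211004 : Q := act 0 n140490
theorem D211004 : act 0 n140490 = n211004 := rfl
theorem F459719 : act 4 n211004 = n178102 := d18_3 D65942 D140490 D211004 (iv5 F429678) (iv4 D203749) (iv0 F411656) F411657 (iv0 D140500) (iv5 D65945)
theorem F459720 : act 3 n211004 = n201965 := d20_5 (iv4 F164989) (iv1 F387844) (iv4 F415008) (iv3 F415010) D211004 (iv4 D201965) (iv1 F227210) F227208 F179450 F164990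
theorem F459721 : act 2 n210731 = n211004 := d15_3 (iv0 D211004) (iv0 F423321) (iv7 F458622)
theorem F459722 : act 1 n140495 = n211004 := d15_0 (iv0 D211004) (iv7 F424049) F424047
theorem F459723 : act 6 n177987 = n211004 := d21_9 (iv5 F429659) F429660 (iv5 D202291) F339879 (iv1 F349774) F345267 (iv5 F305173) F305170 D177987 (iv1 F459722)
def n211005 : Q := act 5 n140490
theorem D211005 : act 5 n140490 = n211005 := rfl
theorem F459724 : act 2 n211005 = n201944 := d2_1 D211005 F424058 F424055
theorem F459725 : act 4 n211005 = n160309 := d9_1 D211005 F253211 (iv4 F191568) (iv5 F404707) F404706 (iv5 D140496) D140495 (iv5 F429659) (iv4 D203746) (iv5 D120457) F87755 D55457 D120471 F345333 D140490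
theorem F459726 : act 7 n211005 = n160308 := d13_2 F424049 D211005 (iv5 F424050)
theorem F459727 : act 1 n211005 = n202291 := d17_6 (iv1 D66506) (iv5 F101671) (iv1 F349745) F345333 D140490 D211005 (iv5 D202291) (iv0 F345485) (iv4 D141851)
theorem F459728 : act 0 n211005 = n178664 := d18_0 (iv4 F431720) (iv1 D204260) D204261 F431727 (iv4 F424204) F424208 (iv4 F459719) (iv0 D211004) D211005
def n211006 : Q := act 6 n140490
theorem D211006 : act 6 n140490 = n211006 := rfl
theorem F459729 : act 4 n211006 = n140492 := d10_1 D211006 (iv6 D140492) D140490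
theorem F459730 : act 0 n192448 = n211006 := d18_2 F365474 (iv4 F386744) F459729 F413245 (iv4 F413247) F406689 F406687 (iv0 F412536) F412534
def n211007 : Q := act 6 n140494
theorem D211007 : act 6 n140494 = n211007 := rfl
theorem F459731 : act 3 n211007 = n140497 := d7_1 D211007 (iv6 D140497) D140494
theorem F459732 : act 4 n211007 = n209942 := d10_1 D211007 (iv6 D209942) F223848
theorem F459733 : act 0 n192382 = n211007 := d18_0 F459732 F455466 (iv4 F360844) (iv5 D107503) (iv4 F165822) F359496 D194588 (iv0 F393768) (iv5 F386618)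
def n211008 : Q := act 6 n140495
theorem D211008 : act 6 n140495 = n211008 := rfl
theorem F459734 : act 3 n211008 = n201975 := d7_1 D211008 (iv6 D201975) F223657
theorem F459735 : act 4 n211008 = n140497 := d10_1 D211008 (iv6 D140497) D140495
theorem F459736 : act 0 n156026 = n211008 := d21_4 (iv5 D156018) (iv1 D74207) D74209 D156026 (iv6 D211008) (iv5 F429659) F429660 (iv5 D202291) F339879 (iv1 F349774)
def n211009 : Q := act 5 n140497
theorem D211009 : act 5 n140497 = n211009 := rfl
theorem F459737 : act 6 n211009 = n195910 := d12_2 D140497 D211009 (iv5 F432955) F432956 (iv5 D140496)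
theorem F459738 : act 0 n211009 = n140648 := d21_1 D211009 (iv5 F360028) (iv6 D178163) (iv1 D84804) D84806 F130011 D157937 F357951 F415126 (iv1 F415128)
def n211010 : Q := act 4 n140520
theorem D211010 : act 4 n140520 = n211010 := rfl
theorem F459739 : act 3 n211010 = n202810 := d5_1 D211010 (iv4 D202810) F223671 (iv4 D140521) D140520
theorem F459740 : act 0 n140572 = n201323 := d19_0 F420016 D211010 F459739 F425686 (iv5 D197432) D197431 F404263 F218248 (iv5 F179778) F330540 F179851 F103068 (iv5 F223173) (iv4 F384443) F384442 (iv1 F439690) F439688 (iv4 D140573) D140572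
theorem F459741 : act 0 n211010 = n201964 := d20_1 D211010 F422540 F400474 (iv1 F424208) (iv3 D202485) F180217 F180750 (iv4 D65962) D65961 (iv1 F340492)
def n211011 : Q := act 6 n140520
theorem D211011 : act 6 n140520 = n211011 := rfl
theorem F459742 : act 2 n211011 = n154700 := d3_1 D211011 (iv6 F454439) (iv2 F424084)
theorem F459743 : act 3 n211011 = n140523 := d7_1 D211011 (iv6 D140523) D140520
theorem F459744 : act 7 n211011 = n154699 := d14_2 F424070 D211011 (iv6 F415140) F415132 (iv6 F424069)
theorem F459745 : act 0 n147909 = n211011 := d20_4 (iv4 D72643) (iv1 F52845) D69297 D147909 F459743 F367026 F369978 F365236 (iv3 D127948) F109171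
theorem F459746 : act 0 n211011 = n154701 := d20_4 F388297 F372074 (iv4 F367026) (iv3 F459743) F242866 F241515 (iv1 F373214) (iv4 F374996) F374994 (iv1 F388299)
def n211012 : Q := act 5 n140523
theorem D211012 : act 5 n140523 = n211012 := rfl
theorem F459747 : act 2 n211012 = n194380 := d2_1 D211012 (iv5 D194380) F367025
theorem F459748 : act 6 n211012 = n209356 := d12_2 D140523 D211012 F453377 (iv6 D201324) F339978
def n211013 : Q := act 0 n140525
theorem D211013 : act 0 n140525 = n211013 := rfl
theorem F459749 : act 6 n211013 = n193539 := d21_5 (iv5 F331551) F331549 (iv5 D140524) D140525 D211013 (iv5 F401482) (iv1 F345306) (iv5 D141867) (iv6 D66511) D66508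
theorem F459750 : act 5 n211013 = n205052 := d21_0 (iv1 F441234) (iv5 F441236) (iv6 D141963) (iv1 F390437) (iv6 D141858) (iv5 F331551) F331549 (iv5 D140524) D140525 D211013
theorem F459751 : act 2 n140530 = n211013 := d15_3 (iv0 D211013) (iv0 F401473) F441244
theorem F459752 : act 7 n211013 = n140531 := d4_2 F441244 F459751 (iv2 F401471)
theorem F459753 : act 4 n193540 = n211013 := d11_3 F459752 (iv4 F407970) F407971
theorem F459754 : act 1 n140533 = n211013 := d15_1 F401474 F459752 (iv2 F401471)
theorem F459755 : act 3 n205053 = n211013 := d6_3 F459750 (iv3 D205052) D205053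
def n211014 : Q := act 7 n140525
theorem D211014 : act 7 n140525 = n211014 := rfl
theorem F459756 : act 2 n211014 = n140533 := d4_1 D211014 (iv7 D140533) (iv2 F223673)
theorem F459757 : act 3 n211014 = n177795 := d8_1 D211014 F277295 (iv3 F345329)
theorem F459758 : act 5 n211014 = n177794 := d13_1 D211014 F277293 (iv5 F345330)
theorem F459759 : act 1 n140531 = n211014 := d15_1 D140531 (iv7 D211014) F223673
theorem F459760 : act 1 n211014 = n140530 := d15_1 F459759 (iv7 F441244) F401471
def n211015 : Q := act 3 n140530
theorem D211015 : act 3 n140530 = n211015 := rfl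
def n211016 : Q := act 4 n140530
theorem D211016 : act 4 n140530 = n211016 := rfl
theorem F459761 : act 2 n211016 = n193540 := d1_1 D211016 F459753 (iv2 F459751)
theorem F459762 : act 3 n211016 = n194392 := d20_9 (iv4 D128218) D128216 (iv4 F346565) (iv3 D144061) (iv1 D67495) (iv3 F103355) F103356 D140530 D211016 F440314
theorem F459763 : act 6 n144000 = n211016 := d7_0 F459762 (iv6 D194392) (iv3 F390201)
theorem F459764 : act 0 n202836 = n211016 := d21_4 (iv5 F340496) F340495 F225392 D202836 (iv6 F459763) (iv5 D144000) (iv1 F168337) D113086 (iv6 F396260) F396262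
def n211017 : Q := act 6 n140530
theorem D211017 : act 6 n140530 = n211017 := rfl
theorem F459765 : act 2 n211017 = n193539 := d3_1 D211017 (iv6 F459749) (iv2 F459751)
theorem F459766 : act 4 n211017 = n144000 := d10_1 D211017 F459763 (iv4 D211016)
theorem F459767 : act 7 n211017 = n193542 := d14_2 F441244 D211017 F398664 F398660 D196682
theorem F459768 : act 5 n211017 = n208643 := d21_6 F331553 F331562 (iv5 D65953) D65954 D140530 D211017 (iv1 D208643) (iv5 F345303) (iv6 D141864) (iv1 F180866)
def n211018 : Q := act 3 n140531
theorem D211018 : act 3 n140531 = n211018 := rfl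
theorem F459769 : act 5 n211018 = n205041 := d6_2 (iv5 F401442) D211018 F434746
theorem F459770 : act 7 n211018 = n205053 := d8_2 F459752 D211018 F459755
theorem F459771 : act 2 n205049 = n211018 := d2_3 F459769 F434743 D205049
def n211019 : Q := act 4 n140542
theorem D211019 : act 4 n140542 = n211019 := rfl
theorem F459772 : act 3 n211019 = n144408 := d5_1 D211019 (iv4 F389760) (iv3 F389758) D205869 F438201
theorem F459773 : act 0 n201964 = n211019 := d20_10 (iv4 D211019) (iv1 D140542) D140544 F227254 (iv1 D144451) D144452 F227255 (iv1 F422551) (iv4 D201965) D201964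
def n211020 : Q := act 5 n140542
theorem D211020 : act 5 n140542 = n211020 := rfl
theorem F459774 : act 2 n211020 = n201440 := d2_1 D211020 (iv5 F424068) F424086
theorem F459775 : act 0 n211020 = n140572 := d17_2 (iv1 F424087) D211020 F223710 D141873 (iv5 F448551) (iv0 F448554) F360518 F396588 (iv4 F424080)
def n211021 : Q := act 6 n140542
theorem D211021 : act 6 n140542 = n211021 := rfl
theorem F459776 : act 2 n211021 = n196627 := d3_1 D211021 (iv6 F424069) F424086
def n211022 : Q := act 5 n140543
theorem D211022 : act 5 n140543 = n211022 := rfl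
theorem F459777 : act 2 n211022 = n140545 := d2_1 D211022 (iv5 D140545) D140543
theorem F459778 : act 3 n211022 = n196794 := d6_1 D211022 (iv5 F424103) F424101
theorem F459779 : act 1 n211022 = n201318 := d17_6 F224914 D195300 (iv1 F403884) (iv5 D195387) F223685 D211022 F419999 (iv0 F224905) D141873
def n211023 : Q := act 1 n140545
theorem D211023 : act 1 n140545 = n211023 := rfl
theorem F459780 : act 5 n211023 = n202606 := d17_7 (iv1 F396627) F403759 (iv1 F403761) F403878 (iv4 D140544) D140545 D211023 F424718 (iv4 F224917)
theorem F459781 : act 2 n201318 = n211023 := d2_3 F459780 (iv2 F424720) (iv5 F419999)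
def n211024 : Q := act 4 n140545
theorem D211024 : act 4 n140545 = n211024 := rfl
theorem F459782 : act 7 n211024 = n210279 := d11_2 F224933 D211024 F456843
theorem F459783 : act 5 n211024 = n210280 := d16_3 (iv4 D140544) D140545 D211024 F456845 (iv5 F456853) F456852 F403886 F396589 (iv2 F223684)
theorem F459784 : act 0 n211024 = n206695 := d18_2 (iv1 D211023) D211024 F441881 (iv5 D134729) F98540 D105592 (iv4 F180869) D202606 (iv5 F459780)
def n211025 : Q := act 6 n140545
theorem D211025 : act 6 n140545 = n211025 := rfl
theorem F459785 : act 3 n211025 = n140550 := d7_1 D211025 (iv6 D140550) (iv3 F223686)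
theorem F459786 : act 5 n211025 = n176826 := d12_1 D211025 (iv6 F394754) F394755 (iv6 D140546) D140545
def n211026 : Q := act 0 n140546
theorem D211026 : act 0 n140546 = n211026 := rfl
theorem F459787 : act 5 n211026 = n194828 := d17_3 (iv1 F394756) F394755 D211026 F394641 (iv5 F382771) (iv0 F382774) (iv5 F378822) (iv0 D189864) D189866
theorem F459788 : act 1 n194964 = n211026 := d15_0 (iv0 D211026) (iv7 F457272) (iv2 F457273)
def n211027 : Q := act 1 n140546
theorem D211027 : act 1 n140546 = n211027 := rfl
theorem F459789 : act 1 n211027 = n194964 := d15_1 D211027 F395203 F394761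
theorem F459790 : act 5 n211027 = n190697 := d17_7 D104624 (iv5 F160325) (iv1 F370024) F370021 D194852 F394755 D211027 F380644 (iv4 D104626)
theorem F459791 : act 4 n211027 = n197273 := d18_7 (iv1 D137809) F100627 (iv1 F328974) D102485 D193929 F391426 D211027 (iv0 F456477) (iv5 D210179)
def n211028 : Q := act 0 n140550
theorem D211028 : act 0 n140550 = n211028 := rfl
theorem F459792 : act 5 n211028 = n157861 := d17_3 D170835 (iv5 F386113) D211028 (iv4 F267334) (iv5 F377705) F377707 F358301 (iv0 F360457) F148280
theorem F459793 : act 2 n157862 = n211028 := d15_3 (iv0 D211028) F386114 F248833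
theorem F459794 : act 1 n210964 = n211028 := d15_0 (iv0 D211028) (iv7 F407345) (iv2 F459517)
theorem F459795 : act 3 n157926 = n211028 := d20_9 F459518 (iv1 F454337) F384304 F172891 D111421 (iv3 F365752) (iv4 F380036) (iv1 F385179) F385176 (iv1 F459794)
def n211029 : Q := act 6 n140555
theorem D211029 : act 6 n140555 = n211029 := rfl
theorem F459796 : act 4 n211029 = n145346 := d10_1 D211029 (iv6 D145346) (iv4 F223696)
theorem F459797 : act 0 n140592 = n211029 := d21_4 (iv5 F345256) (iv1 F387330) (iv5 F387332) (iv6 F363146) (iv6 D211029) (iv5 F371910) (iv1 F371912) D187976 F371988 F345258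
theorem F459798 : act 5 n175001 = n211029 := d21_8 F424103 (iv1 F401836) (iv5 D107352) D107353 (iv1 F389287) (iv6 F459286) (iv5 D175004) D175001 (iv6 D211029) (iv1 F424105)
def n211030 : Q := act 5 n140557
theorem D211030 : act 5 n140557 = n211030 := rfl
theorem F459799 : act 2 n211030 = n140558 := d2_1 D211030 (iv5 D140558) D140557
theorem F459800 : act 7 n211030 = n196794 := d13_2 F424104 D211030 (iv5 F424103)
theorem F459801 : act 4 n211030 = n208154 := d16_2 (iv4 F223697) D211030 (iv5 D208154) (iv4 F366068) F249924 F343455 (iv5 D145474) F182555 F182480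
theorem F459802 : act 0 n211030 = n196783 := d17_2 F401043 D211030 (iv5 D196783) (iv4 D107321) F336114 F165023 F165019 F165045 D196548
theorem F459803 : act 1 n211030 = n196797 := d17_6 F181495 D196349 (iv1 F400441) F180740 (iv4 F223697) D211030 F401835 F336130 (iv4 F181493)
def n211031 : Q := act 6 n140557
theorem D211031 : act 6 n140557 = n211031 := rfl
theorem F459804 : act 2 n211031 = n140559 := d3_1 D211031 (iv6 D140559) D140557
theorem F459805 : act 4 n211031 = n196616 := d10_1 D211031 (iv6 D196616) (iv4 F223697)
theorem F459806 : act 5 n211031 = n166467 := d21_6 F374974 (iv1 F399020) F399018 F401045 F401043 D211031 F262023 (iv5 F277712) (iv6 F419843) F419846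
theorem F459807 : act 0 n211031 = n204678 := d21_10 (iv5 D204678) D204675 F433224 (iv6 F356034) F388932 F388929 (iv5 F401835) (iv1 F459803) (iv5 D211030) D211031
theorem F459808 : act 7 n178150 = n211031 := d13_0 F459806 F358914 D178150
def n211032 : Q := act 0 n140559
theorem D211032 : act 0 n140559 = n211032 := rfl
theorem F459809 : act 5 n211032 = n204677 := d17_3 D84798 (iv5 F358911) D211032 F433229 (iv5 F334690) F334689 (iv5 D84857) (iv0 D39261) (iv4 F60163)
theorem F459810 : act 3 n211032 = n193206 := d20_5 F424236 (iv1 F322077) F182472 (iv3 F223699) D211032 F389176 D193207 (iv4 F459699) F459696 (iv1 F424234)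
theorem F459811 : act 6 n193205 = n211032 := d7_0 F459810 (iv6 D193206) D193205
theorem F459812 : act 2 n204678 = n211032 := d2_3 F459809 (iv2 D204677) D204678
theorem F459813 : act 4 n145351 = n211032 := d16_2 (iv4 F375131) (iv5 F428096) F459809 F433229 (iv5 F334690) F178895 F374403 F374400 (iv2 F374398)
theorem F459814 : act 0 n211032 = n178150 := d21_7 F318836 F276216 F273808 F434763 (iv1 F434761) (iv6 F433230) (iv5 F459809) (iv5 D178150) (iv6 F358888) (iv1 F318834)
def n211033 : Q := act 1 n140559
theorem D211033 : act 1 n140559 = n211033 := rfl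
theorem F459815 : act 1 n211033 = n178150 := d15_1 D211033 F459808 F459804
theorem F459816 : act 7 n211033 = n204678 := d15_2 (iv0 D211032) D211033 F459812
theorem F459817 : act 5 n166155 = n211033 := d21_6 (iv5 F414849) (iv1 F407537) F371686 F387316 F387314 F358802 (iv1 D211033) F358911 D178147 (iv1 F414848)
theorem F459818 : act 3 n211033 = n178130 := d6_1 F459817 (iv5 F301768) F301767
theorem F459819 : act 4 n211033 = n145352 := d9_1 F459817 (iv5 F424808) (iv4 F375427) (iv5 F374403) (iv4 F178895) F334690 (iv4 F433229) (iv5 F459809) (iv4 F459813) F428096 F375131 F374394 F321088 (iv5 F320068) D166155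
def n211034 : Q := act 7 n140559
theorem D211034 : act 7 n140559 = n211034 := rfl
theorem F459820 : act 2 n211034 = n178150 := d4_1 D211034 F459808 F459804
theorem F459821 : act 3 n211034 = n140565 := d8_1 D211034 (iv7 D140565) (iv3 F223699)
theorem F459822 : act 5 n211034 = n174131 := d13_1 D211034 F358887 (iv5 F358911)
theorem F459823 : act 0 n204678 = n211034 := d17_2 (iv1 D204676) D204678 F459822 F272933 (iv5 F301482) F358939 D201403 (iv0 F430101) (iv4 F433226)
def n211035 : Q := act 3 n140560
theorem D211035 : act 3 n140560 = n211035 := rfl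
theorem F459824 : act 2 n211035 = n192695 := d0_1 D211035 (iv3 F454376) F454375 F410496 F224934
theorem F459825 : act 4 n211035 = n203471 := d5_2 D140560 D211035 (iv3 F444048) F444050 F223698
theorem F459826 : act 7 n211035 = n192694 := d8_2 F224940 D211035 F387530
theorem F459827 : act 0 n192696 = n211035 := d20_4 D188154 (iv1 F387542) F387540 (iv3 F387512) (iv3 D211035) (iv4 D140560) F180972 (iv4 F331053) F295006 D90918
theorem F459828 : act 1 n192692 = n211035 := d15_0 (iv0 F459827) (iv7 D192696) (iv2 F387506)
def n211036 : Q := act 5 n140560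
theorem D211036 : act 5 n140560 = n211036 := rfl
theorem F459829 : act 2 n211036 = n201327 := d2_1 D211036 F420032 F224934
theorem F459830 : act 4 n211036 = n140847 := d9_1 D211036 F223917 (iv4 F223691) (iv5 D140547) (iv4 D65962) D65963 D140549 (iv5 F439731) (iv4 D206211) F325370 (iv4 F180967) (iv5 F180723) F84885 D65967 D140560
theorem F459831 : act 1 n211036 = n183090 := d17_6 F180139 (iv5 D115768) (iv1 F84234) D65967 D140560 D211036 F366835 F366753 (iv4 D140573)
theorem F459832 : act 6 n183130 = n211036 := d21_5 (iv5 D19185) D19183 D40623 D87413 D183130 (iv5 D211036) (iv1 F358484) F159723 (iv6 D87424) (iv1 D40631)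
def n211037 : Q := act 5 n140563
theorem D211037 : act 5 n140563 = n211037 := rfl
theorem F459833 : act 2 n211037 = n199814 := d2_1 D211037 F413612 F363686
theorem F459834 : act 1 n211037 = n199749 := d17_6 D74483 (iv5 F316998) (iv1 F345648) (iv5 D140796) (iv4 F363685) D211037 F439982 F316989 F111765
theorem F459835 : act 6 n211037 = n199733 := d21_3 F459496 (iv1 F424099) D211037 (iv1 D199733) (iv6 D111648) D111647 F406191 (iv5 F171698) F362488 F459498
def n211038 : Q := act 1 n140564
theorem D211038 : act 1 n140564 = n211038 := rfl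
theorem F459836 : act 1 n211038 = n210960 := d15_1 D211038 (iv7 D210960) F352247
theorem F459837 : act 7 n211038 = n206264 := d15_2 (iv0 F363684) D211038 F439977
theorem F459838 : act 5 n211038 = n156580 := d17_7 (iv1 D124887) F92224 (iv1 F105124) (iv5 F322079) F182472 D140564 D211038 F353409 F237581
theorem F459839 : act 4 n200881 = n211038 := d20_0 (iv1 D211038) (iv4 F417256) F417255 (iv1 F395542) (iv3 F356024) (iv4 F405536) (iv1 F405539) (iv4 F350071) (iv3 F430519) F430522
theorem F459840 : act 3 n189929 = n211038 := d20_9 (iv4 F417256) F417257 F282288 (iv3 D178092) (iv1 F129976) D84787 (iv4 F300491) F395106 F395105 (iv1 D211038)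
theorem F459841 : act 2 n211038 = n156585 := d0_1 F459840 F246251 (iv2 F167680) F394992 F394995
def n211039 : Q := act 7 n140564
theorem D211039 : act 7 n140564 = n211039 := rfl
theorem F459842 : act 2 n211039 = n210960 := d4_1 D211039 (iv7 D210960) F352247
theorem F459843 : act 3 n211039 = n174131 := d8_1 D211039 F358887 (iv3 F358910)
theorem F459844 : act 4 n211039 = n181228 := d11_1 D211039 F417260 F417256
theorem F459845 : act 5 n211039 = n140565 := d13_1 D211039 (iv7 D140565) D140564
theorem F459846 : act 6 n211039 = n174129 := d14_1 D211039 (iv7 F353653) (iv6 D140411) (iv7 F358898) (iv6 F345108)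
theorem F459847 : act 1 n156585 = n211039 := d15_1 (iv0 F352243) (iv7 D211039) (iv2 F352247)
theorem F459848 : act 1 n211039 = n206264 := d15_1 F459847 (iv7 F459837) F459841
def n211040 : Q := act 0 n140567
theorem D211040 : act 0 n140567 = n211040 := rfl
theorem F459849 : act 5 n211040 = n153455 := d17_3 F342508 (iv5 F342506) D211040 F241035 (iv5 F308733) (iv0 F330110) (iv5 F319689) F319688 (iv4 F225600)
theorem F459850 : act 4 n211040 = n204955 := d18_1 D211040 (iv1 D204955) (iv4 F434326) F434329 (iv4 F353398) (iv0 D150534) (iv4 F322372) (iv0 D142882) (iv5 F342506)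
theorem F459851 : act 1 n140585 = n211040 := d15_0 (iv0 D211040) (iv7 F432413) F432411
theorem F459852 : act 2 n140582 = n211040 := d2_3 F459849 F241039 (iv5 F360598)
theorem F459853 : act 7 n140583 = n211040 := d13_0 F459849 (iv7 F241038) (iv5 F363137)
def n211041 : Q := act 1 n140567
theorem D211041 : act 1 n140567 = n211041 := rfl
theorem F459854 : act 1 n211041 = n140585 := d15_1 D211041 (iv7 D140585) (iv2 F223701)
theorem F459855 : act 7 n211041 = n140582 := d15_2 (iv0 D211040) D211041 F459852
theorem F459856 : act 5 n211041 = n153456 := d17_7 F313655 (iv5 F311891) (iv1 F190866) F320567 D66963 (iv5 F342506) D211041 F241040 F109215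
theorem F459857 : act 6 n210294 = n211041 := d21_3 (iv5 D157862) D157859 (iv5 F456894) (iv1 D211041) (iv6 D140567) (iv5 D65969) F84230 (iv5 F180318) D141895 F380481
theorem F459858 : act 2 n211041 = n140583 := d3_1 F459857 F394057 (iv2 F456892)
theorem F459859 : act 4 n211041 = n204954 := d10_1 F459857 F434332 D210294
def n211042 : Q := act 3 n140568
theorem D211042 : act 3 n140568 = n211042 := rfl
theorem F459860 : act 4 n211042 = n145565 := d5_2 F223708 D211042 (iv3 D145565) (iv4 D68248) D68247
theorem F459861 : act 5 n211042 = n140925 := d6_2 (iv5 F342423) D211042 (iv3 D140925)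
theorem F459862 : act 7 n211042 = n140592 := d8_2 (iv7 F342411) D211042 (iv3 D140592)
def n211043 : Q := act 0 n140570
theorem D211043 : act 0 n140570 = n211043 := rfl
theorem F459863 : act 5 n211043 = n145571 := d17_1 D211043 F350129 (iv5 D145586) (iv4 D68253) D68254 F228620 F228616 F351583 (iv4 F342504)
theorem F459864 : act 4 n211043 = n140889 := d18_1 D211043 (iv1 D140889) D140890 F348833 F320492 F322221 F223708 (iv0 D140568) D140570
theorem F459865 : act 6 n211043 = n142748 := d21_5 (iv5 F459856) (iv1 D211041) F342506 (iv6 F342505) D211043 (iv5 F405714) (iv1 D197772) (iv5 F331135) (iv6 D153707) (iv1 F241040)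
theorem F459866 : act 2 n140596 = n211043 := d3_3 F459865 (iv2 F366256) (iv6 F440005)
theorem F459867 : act 3 n175005 = n211043 := d7_3 F459865 (iv3 F433758) (iv6 F433761)
theorem F459868 : act 7 n140597 = n211043 := d14_0 F459865 (iv7 F366257) F360017 (iv7 D175031) (iv6 F362764)
theorem F459869 : act 0 n211043 = n140599 := d19_4 (iv1 F127873) (iv5 F128657) (iv4 F273909) F459867 F223721 F101670 F49356 (iv1 F48928) D31777 F324255 (iv3 F53192) D73635 D155136 (iv4 F274025) F274022 F439547 F439544 (iv4 F331951) F331950
def n211044 : Q := act 1 n140570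
theorem D211044 : act 1 n140570 = n211044 := rfl
theorem F459870 : act 1 n211044 = n140599 := d15_1 D211044 (iv7 D140599) (iv2 F223703)
theorem F459871 : act 7 n211044 = n140596 := d15_2 (iv0 D211043) D211044 F459866
theorem F459872 : act 5 n211044 = n141908 := d17_7 F350118 F223892 (iv1 D140820) (iv5 D66070) (iv4 F101666) D140570 D211044 F351589 (iv4 F350123)
theorem F459873 : act 4 n211044 = n140888 := d17_9 (iv1 F223949) (iv5 D66098) (iv1 D30907) D30908 D66102 (iv5 F342423) (iv0 D140568) D140570 D211044
theorem F459874 : act 6 n175029 = n211044 := d21_3 D202766 (iv1 F425487) (iv5 F378964) (iv1 D211044) F342505 (iv5 F342506) D211040 F459849 F425482 (iv1 D202765)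
theorem F459875 : act 2 n211044 = n140597 := d3_1 F459874 F362764 D175029
def n211045 : Q := act 7 n140570
theorem D211045 : act 7 n140570 = n211045 := rfl
theorem F459876 : act 2 n211045 = n140599 := d4_1 D211045 (iv7 D140599) (iv2 F223703)
theorem F459877 : act 3 n211045 = n191914 := d8_1 D211045 (iv7 F459282) F459280
theorem F459878 : act 4 n211045 = n142896 := d11_1 D211045 (iv7 D142896) (iv4 F342504)
theorem F459879 : act 5 n211045 = n140571 := d13_1 D211045 (iv7 D140571) D140570
theorem F459880 : act 6 n211045 = n203276 := d14_1 D211045 F427623 F366251 F322376 (iv6 F342505)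
theorem F459881 : act 1 n140597 = n211045 := d15_1 D140597 (iv7 D211045) F223703
theorem F459882 : act 1 n211045 = n140596 := d15_1 F459881 (iv7 F459871) F459875
def n211046 : Q := act 4 n140572
theorem D211046 : act 4 n140572 = n211046 := rfl
theorem F459883 : act 3 n211046 = n208404 := d5_1 D211046 F449212 (iv3 F358544) (iv4 D140573) D140572
theorem F459884 : act 7 n211046 = n208401 := d11_2 F424114 D211046 F449202
theorem F459885 : act 0 n211046 = n196362 := d18_2 F459775 D211046 (iv4 D196362) F164789 (iv4 F161950) (iv0 F223683) (iv4 D140544) D140542 D211020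
theorem F459886 : act 5 n207677 = n211046 := d17_1 F445968 F459885 F442866 F442865 (iv5 D141310) D141308 F366348 F450562 F450559
def n211047 : Q := act 1 n140573
theorem D211047 : act 1 n140573 = n211047 := rfl
theorem F459887 : act 1 n211047 = n140576 := d15_1 D211047 (iv7 F424119) F424116
theorem F459888 : act 7 n211047 = n184057 := d15_2 F366753 D211047 (iv2 F366813)
theorem F459889 : act 4 n211047 = n202486 := d17_9 F424213 (iv5 D116139) (iv1 F180923) (iv5 F223832) F358480 (iv5 F283454) (iv0 F439689) F439688 D211047
theorem F459890 : act 3 n208846 = n211047 := d19_19 (iv1 D211047) (iv5 F439688) (iv4 D206201) F205404 D127775 F205408 F177800 (iv3 F161898) (iv1 F354842) (iv5 D151658) D151657 F377160 F419733 F392356 F226337 (iv3 D140034) F103140 (iv5 F360241) D208846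
theorem F459891 : act 6 n204956 = n211047 := d21_9 (iv5 F439688) F439689 F283454 (iv6 D87804) (iv1 F133588) (iv6 F283718) (iv5 D182273) D182271 (iv5 F434336) (iv1 D211047)
theorem F459892 : act 2 n204938 = n211047 := d1_3 F459889 F424209 (iv4 F434257)
def n211048 : Q := act 3 n140576
theorem D211048 : act 3 n140576 = n211048 := rfl
theorem F459893 : act 2 n211048 = n209165 := d0_1 D211048 F452545 F218603 (iv3 F219649) F358532
theorem F459894 : act 4 n211048 = n209001 := d5_2 D140576 D211048 (iv3 F451786) F387839 (iv3 D140575)
theorem F459895 : act 6 n211048 = n209160 := d7_2 (iv6 F358547) D211048 F452518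
theorem F459896 : act 0 n211048 = n209117 := d20_4 F386075 (iv1 F180141) D140576 D211048 F452338 (iv4 D152521) (iv1 D71936) D71937 (iv3 F340008) (iv1 F386078)
theorem F459897 : act 0 n207421 = n211048 := d20_4 (iv4 F409108) (iv1 F409111) F388630 (iv3 F444815) (iv3 D211048) (iv4 D140576) (iv1 D65972) D65973 (iv3 F169160) (iv1 F373141)
def n211049 : Q := act 5 n140576
theorem D211049 : act 5 n140576 = n211049 := rfl
theorem F459898 : act 2 n211049 = n183151 := d2_1 D211049 (iv5 F358534) F358532
theorem F459899 : act 4 n211049 = n140842 := d9_1 D211049 (iv5 D140842) F319138 (iv5 F320462) F84763 (iv5 F180140) D140573 (iv5 F439688) (iv4 D206201) (iv5 D127773) F290352 (iv5 F320386) F84645 (iv5 F103129) D140576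
theorem F459900 : act 6 n211049 = n209501 := d12_2 (iv6 F358547) D211049 (iv5 D209501) (iv6 D136553) D136552
theorem F459901 : act 7 n211049 = n183152 := d13_2 F424119 D211049 (iv5 F424117)
theorem F459902 : act 0 n211049 = n183153 := d17_2 F366752 D211049 (iv5 F394218) F394217 (iv5 D116624) (iv0 F84765) D116132 F407623 F407620
theorem F459903 : act 1 n211049 = n182040 := d17_6 F180882 (iv5 D116092) (iv1 F84426) (iv5 F103129) D140576 D211049 F283454 (iv0 F358552) (iv4 D141891)
def n211050 : Q := act 3 n140582
theorem D211050 : act 3 n140582 = n211050 := rfl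
theorem F459904 : act 5 n211050 = n153691 := d6_2 (iv5 F360598) D211050 (iv3 D153691)
def n211051 : Q := act 4 n140582
theorem D211051 : act 4 n140582 = n211051 := rfl
theorem F459905 : act 2 n211051 = n204955 := d1_1 D211051 (iv4 F459850) (iv2 F459852)
theorem F459906 : act 7 n211051 = n204954 := d11_2 F459855 D211051 (iv4 F459859)
theorem F459907 : act 5 n211051 = n153673 := d16_1 D211051 (iv4 D153673) (iv5 F199468) F199467 F185581 (iv4 F205962) (iv5 F363137) F459853 (iv2 F459852)
theorem F459908 : act 0 n211051 = n184055 := d17_0 F286004 (iv1 D182272) D182273 (iv4 F373402) F373403 F348359 (iv5 F432414) (iv0 F432415) D211051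
theorem F459909 : act 1 n211051 = n204956 := d18_6 D157160 F361911 (iv1 F241562) (iv4 D153692) (iv5 F360598) D211051 F434335 F361915 (iv5 D157162)
theorem F459910 : act 3 n211051 = n204637 := d20_3 F223713 D140582 D211051 (iv1 D204637) F198610 (iv4 F198614) (iv1 F409323) F436651 (iv3 F394058) (iv1 F432423)
theorem F459911 : act 0 n211050 = n196740 := d20_4 (iv4 F434335) (iv1 F459909) (iv4 D211051) D211050 F401652 D196741 F401655 (iv4 D157171) (iv3 F247334) (iv1 F361915)
def n211052 : Q := act 6 n140582
theorem D211052 : act 6 n140582 = n211052 := rfl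
def n211053 : Q := act 3 n140583
theorem D211053 : act 3 n140583 = n211053 := rfl
theorem F459912 : act 5 n211053 = n153695 := d6_2 (iv5 F363137) D211053 (iv3 D153695)
theorem F459913 : act 4 n209003 = n211053 := d16_2 F374733 (iv5 F451796) F459912 F241569 F345589 (iv4 D101478) D101479 (iv7 F389489) F389488
def n211054 : Q := act 4 n140583
theorem D211054 : act 4 n140583 = n211054 := rfl
theorem F459914 : act 2 n211054 = n204954 := d1_1 D211054 (iv4 F459859) F459858
theorem F459915 : act 3 n211054 = n209004 := d5_1 D211054 (iv4 D209004) D209003 F459913 (iv3 D211053)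
theorem F459916 : act 5 n211054 = n153670 := d9_2 (iv5 F363137) D211054 (iv4 D153670) F240087 (iv4 F330120) (iv5 F306652) (iv4 D153692) (iv5 F360598) D211051 F459907 (iv4 D153673) (iv5 F199468) F199467 F185581 (iv4 F205962)
theorem F459917 : act 6 n211054 = n184103 := d10_2 (iv6 F394057) D211054 (iv4 F394028)
theorem F459918 : act 7 n211054 = n204955 := d11_2 (iv7 F459853) D211054 (iv4 F459850)
theorem F459919 : act 0 n211054 = n204956 := d18_2 (iv1 F432416) D211054 F434335 (iv5 D142811) (iv4 F350097) (iv0 D127210) (iv4 F204484) F348359 (iv5 F432414)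
theorem F459920 : act 0 n184055 = n211054 := d21_4 F394186 (iv1 F198599) F308576 D184055 F459917 (iv5 F380789) (iv1 F441546) F441544 F384305 D194710
def n211055 : Q := act 1 n140587
theorem D211055 : act 1 n140587 = n211055 := rfl
def n211056 : Q := act 4 n140587
theorem D211056 : act 4 n140587 = n211056 := rfl
theorem F459921 : act 3 n211056 = n197439 := d5_1 D211056 (iv4 F428129) (iv3 F428127) F342412 D140587
theorem F459922 : act 6 n211056 = n205841 := d10_2 F411107 D211056 F438098
theorem F459923 : act 7 n211056 = n195396 := d11_2 F434348 D211056 (iv4 F434345)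
theorem F459924 : act 0 n211056 = n195398 := d20_7 (iv4 D30882) (iv1 D14623) (iv4 F24300) (iv3 F49324) D65975 D140587 D211056 F396910 (iv3 D140662) (iv1 F101684)
theorem F459925 : act 5 n197438 = n211056 := d16_5 F402565 (iv5 F390049) F423942 (iv5 D202423) (iv4 F404316) (iv4 D211056) F402236 F402234 F402566
theorem F459926 : act 2 n211056 = n195395 := d15_3 (iv0 D195395) D195396 (iv7 F459923)
theorem F459927 : act 4 n195395 = n199211 := d1_2 D211056 F459926 F411185
theorem F459928 : act 6 n195395 = n199214 := d3_2 (iv6 F459922) F459926 (iv2 F438097)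
theorem F459929 : act 7 n195395 = n197294 := d4_2 (iv7 F459923) F459926 F403871
theorem F459930 : act 1 n211056 = n195391 := d15_0 F403874 (iv7 F459929) (iv2 F459926)
def n211057 : Q := act 1 n140592
theorem D211057 : act 1 n140592 = n211057 := rfl
def n211058 : Q := act 2 n140592
theorem D211058 : act 2 n140592 = n211058 := rfl
theorem F459931 : act 5 n211058 = n193427 := d2_2 (iv5 F360587) D211058 F389807
theorem F459932 : act 4 n211058 = n196624 := d16_0 F401239 (iv4 D192342) F310557 (iv4 F121528) F325020 (iv4 F223959) (iv5 F459861) F459862 D211058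
def n211059 : Q := act 4 n140592
theorem D211059 : act 4 n140592 = n211059 := rfl
theorem F459933 : act 2 n211059 = n196624 := d1_1 D211059 (iv4 F459932) (iv2 D211058)
theorem F459934 : act 3 n211059 = n140924 := d5_1 D211059 F322616 (iv3 F318450) F318451 D140592
theorem F459935 : act 6 n211059 = n197466 := d10_2 (iv6 F363146) D211059 F404453
theorem F459936 : act 7 n211059 = n145565 := d11_2 F459862 D211059 (iv4 F459860)
theorem F459937 : act 1 n211059 = n192383 := d18_6 F386495 (iv4 F204056) F331959 D162045 (iv5 F360587) D211059 F386615 (iv0 D140664) D140667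
theorem F459938 : act 4 n145401 = n211057 := d20_0 (iv1 D211057) D211059 F459934 (iv1 D140924) D140925 F223959 (iv1 F325018) (iv4 F362960) (iv3 F390076) F390079
theorem F459939 : act 0 n211059 = n192385 := d20_7 F155575 F151926 D99314 (iv3 F331772) (iv1 F223707) D140592 D211059 F386620 (iv3 F385088) (iv1 F385091)
theorem F459940 : act 5 n211057 = n175002 := d18_9 (iv1 D175002) (iv4 D83580) D83578 (iv4 F273893) F386481 (iv4 F386620) (iv0 F459939) (iv4 D211059) D211057
theorem F459941 : act 6 n154686 = n211057 := d21_5 (iv5 F367261) D190308 (iv5 F389349) F389345 (iv1 F242846) F459940 (iv1 D175002) D175004 F459286 (iv1 D193240)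
theorem F459942 : act 3 n211057 = n140631 := d7_1 F459941 (iv6 F424131) F424128
def n211060 : Q := act 5 n140596
theorem D211060 : act 5 n140596 = n211060 := rfl
theorem F459943 : act 2 n211060 = n145571 := d2_1 D211060 (iv5 F459863) (iv2 F459866)
theorem F459944 : act 7 n211060 = n141908 := d13_2 F459871 D211060 (iv5 F459872)
theorem F459945 : act 4 n211060 = n145542 := d16_2 F440004 D211060 (iv5 D145542) (iv4 F342415) F342438 F226564 D143955 (iv7 F350115) F350117
theorem F459946 : act 1 n211060 = n143926 := d17_6 D66100 D140916 (iv1 F350105) F341075 F440004 D211060 (iv5 F342438) (iv0 D140923) (iv4 D66102)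
theorem F459947 : act 6 n211060 = n150849 := d21_3 D65977 D140596 D211060 (iv1 F353409) (iv6 D156580) D156579 (iv1 F246245) F245792 F342409 (iv1 D65976)
def n211061 : Q := act 5 n140597
theorem D211061 : act 5 n140597 = n211061 := rfl
theorem F459948 : act 2 n211061 = n141908 := d2_1 D211061 (iv5 F459872) F459875
theorem F459949 : act 3 n211061 = n175004 := d6_1 D211061 (iv5 D175004) (iv3 F362762)
theorem F459950 : act 7 n211061 = n145571 := d13_2 (iv7 F459868) D211061 (iv5 F459863)
theorem F459951 : act 4 n211061 = n142880 := d16_6 (iv4 F342415) F342438 F226564 D143955 (iv4 F362763) D211061 F320592 F319072 (iv2 F319073)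
theorem F459952 : act 0 n211061 = n143926 := d17_2 (iv1 F459881) D211061 (iv5 F342438) F342415 D145542 (iv0 F423131) F434351 F434349 (iv4 F459878)
theorem F459953 : act 6 n211061 = n141886 := d21_3 (iv5 F459879) (iv1 F459881) D211061 (iv1 F224928) (iv6 F180894) (iv5 F424740) (iv1 F424741) F411095 (iv6 D140590) (iv1 F223709)
def n211062 : Q := act 5 n140618
theorem D211062 : act 5 n140618 = n211062 := rfl
theorem F459954 : act 2 n211062 = n196405 := d2_1 D211062 F432950 F432953
theorem F459955 : act 3 n211062 = n140620 := d6_1 D211062 (iv5 D140620) D140618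
theorem F459956 : act 7 n211062 = n196401 := d13_2 F407384 D211062 (iv5 F407383)
theorem F459957 : act 0 n211062 = n196403 := d21_1 D211062 F400598 (iv6 D109125) D109122 F345331 F224960 (iv1 F180104) D140496 (iv6 F432956) (iv1 F432957)
theorem F459958 : act 6 n211062 = n196572 := d21_3 (iv5 F432955) (iv1 F432957) D211062 (iv1 D196572) (iv6 D107086) (iv5 F182523) (iv1 D59117) (iv5 F77664) D106426 D195910
theorem F459959 : act 0 n194459 = n211062 := d19_0 (iv5 D211062) F404739 (iv3 F452502) F452504 (iv5 D136810) (iv4 F175578) (iv3 D112779) (iv1 F162053) F162050 F326669 F88976 (iv1 F350685) (iv5 F346922) (iv4 F340701) (iv3 D103604) (iv1 D47986) D47987 D103609 D194459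
theorem F459960 : act 4 n211062 = n210124 := d18_1 F459959 (iv1 F456271) (iv4 F409156) (iv5 D198769) (iv4 F409142) F447587 F447584 F457254 F457252
def n211063 : Q := act 3 n140619
theorem D211063 : act 3 n140619 = n211063 := rfl
theorem F459961 : act 4 n211063 = n209157 := d5_2 D140619 D211063 F452502 (iv4 F404739) (iv3 D140618)
theorem F459962 : act 7 n211063 = n197930 := d8_2 (iv7 F360119) D211063 (iv3 D197930)
theorem F459963 : act 0 n211063 = n197584 := d20_4 F79759 D65983 D140619 D211063 F404918 F167719 (iv1 F343174) F343818 (iv3 F363340) (iv1 D109188)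
theorem F459964 : act 2 n211063 = n209475 := d16_9 (iv4 D209475) (iv5 D136506) (iv4 D64173) (iv5 F161308) (iv4 F170554) D198818 F409385 (iv5 F406225) (iv7 F459962)
theorem F459965 : act 0 n209687 = n211063 := d18_2 F452480 D209687 F459961 (iv5 D209157) (iv4 D135892) F99379 (iv4 F99881) F218581 D209152
def n211064 : Q := act 4 n140620
theorem D211064 : act 4 n140620 = n211064 := rfl
theorem F459966 : act 0 n211064 = n198132 := d18_2 (iv1 F363350) D211064 (iv4 D198132) (iv5 D108947) (iv4 F164769) D196327 F400344 F331095 (iv5 D153700)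
def n211065 : Q := act 5 n140621
theorem D211065 : act 5 n140621 = n211065 := rfl
theorem F459967 : act 2 n211065 = n141947 := d2_1 D211065 F363351 (iv2 F363345)
theorem F459968 : act 3 n211065 = n141968 := d6_1 D211065 F404736 (iv3 F404737)
theorem F459969 : act 7 n211065 = n141946 := d13_2 F363344 D211065 (iv5 F363342)
theorem F459970 : act 0 n211065 = n141831 := d17_2 (iv1 F363348) D211065 (iv5 D141831) (iv4 F168579) F331093 (iv0 F459361) (iv5 D210934) (iv0 D140374) (iv4 F168618)
theorem F459971 : act 0 n141949 = n211065 := d21_1 (iv5 F224995) (iv5 D211065) (iv6 D140621) (iv1 F223487) F337453 D197823 F405903 (iv5 F413559) (iv6 F413562) (iv1 F224858)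
def n211066 : Q := act 3 n140624
theorem D211066 : act 3 n140624 = n211066 := rfl
theorem F459972 : act 4 n211066 = n188007 := d5_2 D140624 D211066 (iv3 F430437) F430438 (iv3 D140623)
theorem F459973 : act 5 n211066 = n190130 := d6_2 F360116 D211066 F382754
theorem F459974 : act 6 n211066 = n157891 := d7_2 (iv6 F360101) D211066 F248805
theorem F459975 : act 7 n211066 = n197928 := d8_2 F360125 D211066 (iv3 D197928)
def n211067 : Q := act 4 n140627
theorem D211067 : act 4 n140627 = n211067 := rfl
theorem F459976 : act 2 n211067 = n196714 := d1_1 D211067 F401572 F363139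
theorem F459977 : act 6 n211067 = n196597 := d10_2 (iv6 F424792) D211067 (iv4 F424788)
theorem F459978 : act 7 n211067 = n196706 := d11_2 (iv7 F363140) D211067 F401553
theorem F459979 : act 1 n211067 = n196711 := d18_6 F405619 (iv4 F216761) D208558 F449884 F405718 D211067 (iv4 F449975) (iv0 F449976) (iv5 F398757)
theorem F459980 : act 1 n196712 = n211067 := d15_0 F459979 (iv7 F456512) F456511
def n211068 : Q := act 0 n140629
theorem D211068 : act 0 n140629 = n211068 := rfl
theorem F459981 : act 4 n211068 = n198124 := d18_3 F342500 D140629 D211068 (iv5 D198124) (iv4 F406942) (iv0 D141829) (iv4 F168579) (iv0 F331114) (iv5 D107254)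
theorem F459982 : act 1 n196731 = n211068 := d18_6 D196369 (iv4 F406220) (iv1 F405895) F405892 (iv5 F363143) D196731 F459981 F407587 (iv5 D196370)
def n211069 : Q := act 1 n140629
theorem D211069 : act 1 n140629 = n211069 := rfl
theorem F459983 : act 1 n211069 = n196731 := d15_1 D211069 (iv7 F459371) F459369
theorem F459984 : act 4 n198129 = n211069 := d18_5 (iv1 F405720) F169071 (iv1 F224854) F406945 D198129 F459983 (iv4 D196731) F363141 (iv5 F405718)
theorem F459985 : act 6 n211069 = n196725 := d10_2 F406949 F459984 (iv4 F401614)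
theorem F459986 : act 3 n208245 = n211069 := d7_3 F459985 F401616 D208245
def n211070 : Q := act 7 n140629
theorem D211070 : act 7 n140629 = n211070 := rfl
theorem F459987 : act 2 n211070 = n196731 := d4_1 D211070 (iv7 F459371) F459369
theorem F459988 : act 3 n211070 = n142901 := d8_1 D211070 F427422 (iv3 F427419)
theorem F459989 : act 4 n211070 = n140630 := d11_1 D211070 (iv7 D140630) D140629
def n211071 : Q := act 4 n140631
theorem D211071 : act 4 n140631 = n211071 := rfl
def n211072 : Q := act 5 n140631
theorem D211072 : act 5 n140631 = n211072 := rfl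
theorem F459990 : act 3 n211072 = n175002 := d6_1 D211072 (iv5 F459940) F459942
theorem F459991 : act 6 n211072 = n196429 := d12_2 F424131 D211072 (iv5 F431479) F431480 (iv5 F424130)
theorem F459992 : act 0 n140648 = n211072 := d21_10 (iv5 D211072) (iv1 F415131) F415122 F175346 (iv1 F393348) (iv6 F393349) (iv5 D124334) F119112 D162074 (iv6 F351096)
def n211073 : Q := act 0 n140635
theorem D211073 : act 0 n140635 = n211073 := rfl
theorem F459993 : act 5 n211073 = n196416 := d17_1 D211073 F441208 F441206 (iv4 D202137) (iv5 D115400) F164995 D196517 F400936 (iv4 F359954)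
theorem F459994 : act 2 n204674 = n211073 := d15_3 (iv0 D211073) (iv0 F401238) (iv7 F433221)
theorem F459995 : act 1 n202148 = n211073 := d15_0 (iv0 D211073) (iv7 F245632) (iv2 F423053)
theorem F459996 : act 7 n211073 = n210904 := d15_2 F423058 F459995 F459225
theorem F459997 : act 6 n178130 = n211073 := d21_3 F360035 (iv1 F196314) F301768 (iv1 F459995) (iv6 F423057) (iv5 F407292) F407291 (iv5 F349753) F349754 (iv1 F360033)
def n211074 : Q := act 3 n140636
theorem D211074 : act 3 n140636 = n211074 := rfl
theorem F459998 : act 2 n211074 = n145565 := d0_1 D211074 (iv3 D145565) (iv2 F342413) F342414 F331802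
theorem F459999 : act 5 n211074 = n210902 := d6_2 (iv5 F223733) D211074 F459216
theorem F460000 : act 7 n211074 = n196624 := d8_2 F363741 D211074 (iv3 D196624)
theorem F460001 : act 1 n192383 = n211074 := d15_1 F459937 F460000 (iv2 F459933)
theorem F460002 : act 1 n211074 = n192385 := d15_1 F460001 (iv7 F459333) F459330
def n211075 : Q := act 4 n140636
theorem D211075 : act 4 n140636 = n211075 := rfl
theorem F460003 : act 2 n211075 = n196622 := d1_1 D211075 (iv4 D196622) F331802
theorem F460004 : act 7 n211075 = n196625 := d11_2 F363741 D211075 (iv4 D196625)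
theorem F460005 : act 5 n211075 = n199995 := d16_1 D211075 (iv4 D199995) (iv5 D112203) (iv4 D51747) D51748 D112204 F223736 (iv7 F331804) F331802
theorem F460006 : act 0 n211075 = n140678 := d17_0 (iv5 F407005) (iv1 F407006) (iv5 D140659) (iv4 D65995) (iv5 D30876) D30875 D65992 F223734 D211075
theorem F460007 : act 1 n211075 = n140671 := d18_6 (iv1 D141990) F102421 F101530 (iv4 F223453) (iv5 F223733) D211075 (iv4 D140671) D140670 F246298
theorem F460008 : act 3 n195395 = n211075 := d20_5 (iv4 D105569) (iv1 D48809) (iv4 F76877) (iv3 F162141) D195395 (iv4 D211075) (iv1 F223734) D140645 F331812 F162159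
def n211076 : Q := act 6 n140636
theorem D211076 : act 6 n140636 = n211076 := rfl
theorem F460009 : act 2 n211076 = n196623 := d3_1 D211076 (iv6 D196623) F331802
theorem F460010 : act 5 n211076 = n210904 := d12_1 D211076 (iv6 D210904) (iv5 D140345) D140346 (iv5 F223733)
theorem F460011 : act 7 n211076 = n196416 := d14_2 F363741 D211076 (iv6 D196416) (iv7 F398583) (iv6 F398585)
theorem F460012 : act 0 n198235 = n211076 := d21_4 (iv5 F331098) F172821 F169075 D198235 (iv6 D211076) F223733 (iv1 F246271) (iv5 F246270) F342477 F342481
def n211077 : Q := act 4 n140637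
theorem D211077 : act 4 n140637 = n211077 := rfl
theorem F460013 : act 2 n211077 = n196625 := d1_1 D211077 (iv4 D196625) F363740
theorem F460014 : act 3 n211077 = n145582 := d5_1 D211077 (iv4 D145582) (iv3 D68252) D68253 (iv3 F331808)
theorem F460015 : act 5 n211077 = n196880 := d9_2 F223736 D211077 F402135 F342480 (iv4 D108636) (iv5 F101529) (iv4 F223453) (iv5 F223733) D211075 F460005 (iv4 D199995) (iv5 D112203) (iv4 D51747) D51748 D112204
theorem F460016 : act 6 n211077 = n196413 := d10_2 F345395 D211077 (iv4 D196413)
theorem F460017 : act 7 n211077 = n196622 := d11_2 F331804 D211077 (iv4 D196622)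
theorem F460018 : act 0 n211077 = n140671 := d17_0 (iv5 F405629) F405630 (iv5 F459404) F459403 F223498 F101560 D65989 D140637 D211077
theorem F460019 : act 1 n211077 = n140678 := d18_6 F246299 F246295 (iv1 F163910) D112204 F223736 D211077 (iv4 D140678) F223762 F223761
def n211078 : Q := act 1 n140638
theorem D211078 : act 1 n140638 = n211078 := rfl
theorem F460020 : act 1 n211078 = n140645 := d15_1 D211078 F331813 F364956
theorem F460021 : act 7 n211078 = n196600 := d15_2 (iv0 F401567) D211078 (iv2 F401564)
theorem F460022 : act 4 n211078 = n198158 := d18_7 F162130 F162129 (iv1 F101682) (iv4 D65988) D65989 D140638 D211078 (iv0 D198158) (iv5 D108969)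
theorem F460023 : act 6 n196411 = n211078 := d21_3 F167203 (iv1 F220004) (iv5 F400625) (iv1 D211078) F364955 D196596 (iv1 F401195) (iv5 D195463) (iv6 F397090) (iv1 D108119)
theorem F460024 : act 2 n211078 = n196601 := d3_1 F460023 (iv6 F401205) F400626
theorem F460025 : act 5 n211078 = n198141 := d12_1 F460023 F459393 F459389 (iv6 D209664) (iv5 F400625)
def n211079 : Q := act 4 n140648
theorem D211079 : act 4 n140648 = n211079 := rfl
theorem F460026 : act 2 n211079 = n199989 := d1_1 D211079 F414499 F411353
theorem F460027 : act 6 n211079 = n202242 := d10_2 (iv6 F351096) D211079 F423370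
theorem F460028 : act 5 n211079 = n202022 := d17_5 D112677 D200119 F415099 F360028 D211079 F423878 (iv5 D202159) (iv0 D115408) F84089
def n211080 : Q := act 0 n140649
theorem D211080 : act 0 n140649 = n211080 := rfl
theorem F460029 : act 5 n211080 = n198144 := d17_1 D211080 (iv1 F407315) F407313 (iv4 D140645) (iv5 D65992) F101559 (iv5 F223498) F223501 D140649
theorem F460030 : act 4 n211080 = n197998 := d18_3 D65993 D140649 D211080 F406451 F168847 F101676 (iv4 D65988) (iv0 D30874) D30876
theorem F460031 : act 1 n140653 = n211080 := d15_0 (iv0 D211080) (iv7 F459382) F459381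
theorem F460032 : act 7 n197997 = n211080 := d11_0 F460030 (iv7 D197998) D197997
theorem F460033 : act 6 n211080 = n197369 := d21_3 (iv5 F405742) (iv1 F406979) (iv5 F460029) (iv1 D197369) (iv6 D108121) F167203 (iv1 F220004) (iv5 F400625) F460023 (iv1 D211078)
def n211081 : Q := act 1 n140649
theorem D211081 : act 1 n140649 = n211081 := rfl
theorem F460034 : act 1 n211081 = n140653 := d15_1 D211081 (iv7 F459377) F459374
theorem F460035 : act 4 n211081 = n195386 := d18_7 F223448 F223447 (iv1 F415346) F415344 (iv5 D140650) D140649 D211081 (iv0 F396902) (iv5 D141991)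
theorem F460036 : act 5 n211081 = n198147 := d18_9 F406982 (iv4 D197775) F168581 D140696 (iv5 F459404) F459403 F223501 D140649 D211081
theorem F460037 : act 2 n197997 = n211081 := d2_3 F460036 F407309 (iv5 F407310)
theorem F460038 : act 6 n196711 = n211081 := d12_0 F460036 F436666 (iv5 D205489) D205490 (iv5 F436671)
def n211082 : Q := act 3 n140649
theorem D211082 : act 3 n140649 = n211082 := rfl
def n211083 : Q := act 5 n140649
theorem D211083 : act 5 n140649 = n211083 := rfl
theorem F460039 : act 4 n211083 = n140690 := d9_1 D211083 (iv5 D140690) F175463 (iv5 F204373) (iv4 F223753) (iv5 D140654) D140653 F401620 F401619 F331101 (iv4 F175460) D200166 F415344 (iv5 D140650) D140649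
theorem F460040 : act 6 n211083 = n197492 := d12_2 F407012 D211083 F404548 (iv6 F403868) (iv5 F407011)
theorem F460041 : act 3 n197493 = n211083 := d7_3 F460040 (iv3 D197492) D197493
theorem F460042 : act 5 n211082 = n197493 := d6_0 F460041 (iv5 D211083) D211082
def n211084 : Q := act 3 n140653
theorem D211084 : act 3 n140653 = n211084 := rfl
theorem F460043 : act 4 n211084 = n196723 := d5_2 D140653 D211084 F401608 F342468 (iv3 D140652)
theorem F460044 : act 5 n211084 = n202871 := d6_2 (iv5 F401620) D211084 F425963
theorem F460045 : act 7 n211084 = n196881 := d8_2 F459377 D211084 (iv3 F459375)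
theorem F460046 : act 2 n199981 = n211084 := d4_3 F460045 F402138 (iv7 F414455)
theorem F460047 : act 1 n196721 = n211084 := d15_1 (iv0 F401597) F460045 F402138
theorem F460048 : act 1 n211084 = n145704 := d15_1 F460047 (iv7 F397052) (iv2 F401595)
def n211085 : Q := act 6 n140653
theorem D211085 : act 6 n140653 = n211085 := rfl
theorem F460049 : act 4 n211085 = n140655 := d10_1 D211085 (iv6 D140655) D140653
def n211086 : Q := act 1 n140655
theorem D211086 : act 1 n140655 = n211086 := rfl
theorem F460050 : act 1 n211086 = n199996 := d15_1 D211086 (iv7 F459386) F459384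
theorem F460051 : act 6 n195899 = n211086 := d21_3 (iv5 D202616) D202615 F424756 (iv1 D211086) (iv6 D140655) D140654 (iv1 F223756) (iv5 F331803) D196623 (iv1 F424768)
def n211087 : Q := act 5 n140655
theorem D211087 : act 5 n140655 = n211087 := rfl
theorem F460052 : act 2 n211087 = n141958 := d2_1 D211087 (iv5 F459385) F459384
theorem F460053 : act 3 n211087 = n196911 := d6_1 D211087 F402256 (iv3 F399945)
theorem F460054 : act 6 n211087 = n141834 := d12_2 D140655 D211087 (iv5 D141834) (iv6 F223755) (iv5 D140654)
theorem F460055 : act 7 n211087 = n199682 := d13_2 F407009 D211087 F413114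
theorem F460056 : act 0 n205492 = n211087 := d21_1 D205492 (iv5 D211087) (iv6 D140655) (iv1 D65994) (iv6 F101673) (iv5 D65985) D65983 D140620 F436674 (iv1 D205491)
theorem F460057 : act 4 n141944 = n211087 := d11_3 F460055 F413113 F407586
def n211088 : Q := act 6 n140656
theorem D211088 : act 6 n140656 = n211088 := rfl
theorem F460058 : act 2 n211088 = n198141 := d3_1 D211088 F459393 (iv2 F459390)
theorem F460059 : act 4 n211088 = n196842 := d10_1 D211088 F406441 (iv4 F406443)
theorem F460060 : act 5 n211088 = n196601 := d12_1 D211088 (iv6 F401205) (iv5 F358807) D197365 (iv5 F405738)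
theorem F460061 : act 7 n198135 = n211088 := d13_0 F460060 (iv7 F401566) (iv5 F406960)
theorem F460062 : act 0 n211083 = n211088 := d17_0 F460060 (iv1 D196601) F364958 (iv4 D109071) (iv5 D50357) (iv0 F100841) D108966 (iv0 F223780) (iv4 F460039)
theorem F460063 : act 1 n196729 = n211088 := d17_6 (iv1 F363742) (iv5 F363739) (iv1 F223754) (iv5 D140654) D140653 F401620 F460060 (iv0 F457238) (iv4 D210370)
def n211089 : Q := act 3 n140657
theorem D211089 : act 3 n140657 = n211089 := rfl
theorem F460064 : act 5 n211089 = n195516 := d6_2 F405739 D211089 (iv3 F401540)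
def n211090 : Q := act 6 n140657
theorem D211090 : act 6 n140657 = n211090 := rfl
theorem F460065 : act 5 n211090 = n211067 := d12_1 D211090 F459977 F401198 D196704 F405739
def n211091 : Q := act 6 n140660
theorem D211091 : act 6 n140660 = n211091 := rfl
theorem F460066 : act 4 n211091 = n140661 := d10_1 D211091 (iv6 D140661) (iv4 F223757)
def n211092 : Q := act 1 n140662
theorem D211092 : act 1 n140662 = n211092 := rfl
theorem F460067 : act 7 n211092 = n208631 := d15_2 (iv0 F388177) D211092 F450251
theorem F460068 : act 2 n192379 = n211092 := d4_3 F460067 F450251 F388176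
def n211093 : Q := act 2 n140662
theorem D211093 : act 2 n140662 = n211093 := rfl
theorem F460069 : act 3 n211093 = n206271 := d0_2 D140662 D211093 F440007 (iv3 F402494) F168846
theorem F460070 : act 6 n211093 = n192479 := d3_2 F388256 D211093 (iv2 F388259)
theorem F460071 : act 1 n211093 = n192379 := d15_0 (iv0 F396899) F396898 D211093
theorem F460072 : act 1 n208631 = n211093 := d15_0 F460071 (iv7 F388176) (iv2 F450251)
def n211094 : Q := act 5 n140662
theorem D211094 : act 5 n140662 = n211094 := rfl
theorem F460073 : act 3 n211094 = n140663 := d6_1 D211094 (iv5 D140663) D140662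
def n211095 : Q := act 4 n140663
theorem D211095 : act 4 n140663 = n211095 := rfl
theorem F460074 : act 2 n211095 = n211080 := d1_1 D211095 F460030 F406450
theorem F460075 : act 5 n211095 = n198236 := d9_2 D140663 D211095 F407304 F405618 (iv4 D108851) (iv5 D50263) (iv4 F79642) D108846 D197997 F407310 F407308 F405626 F172870 (iv5 F162136) F162135
theorem F460076 : act 7 n211095 = n211081 := d11_2 F396901 D211095 F460035
theorem F460077 : act 0 n211095 = n210939 := d18_2 (iv1 F406444) D211095 (iv4 D210939) (iv5 F223493) (iv4 F224999) (iv0 F225002) D205500 F436725 (iv5 F406439)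
theorem F460078 : act 1 n211095 = n210937 := d18_6 D65887 (iv4 F101679) (iv1 F162139) F162135 D140663 D211095 (iv4 D210937) (iv0 D140380) (iv5 D65888)
def n211096 : Q := act 6 n140663
theorem D211096 : act 6 n140663 = n211096 := rfl
theorem F460079 : act 5 n211096 = n199640 := d12_1 D211096 (iv6 F412946) F406031 F168661 D140663
def n211097 : Q := act 1 n140668
theorem D211097 : act 1 n140668 = n211097 := rfl
theorem F460080 : act 1 n211097 = n196804 := d15_1 D211097 (iv7 D196804) (iv2 F386489)
theorem F460081 : act 7 n211097 = n196802 := d15_2 (iv0 F410993) D211097 (iv2 F410992)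
theorem F460082 : act 3 n209957 = n211097 := d20_3 (iv4 F417981) F417984 D209957 (iv1 D211097) F223759 F101685 (iv1 F98358) D134203 (iv3 F416768) (iv1 F416772)
theorem F460083 : act 4 n209971 = n211097 := d20_6 (iv4 D132511) F100278 (iv4 F103628) (iv3 F227026) F408545 D209971 (iv1 D211097) (iv4 F401246) F401245 F212659
theorem F460084 : act 5 n196803 = n211097 := d21_6 F37907 D49181 (iv5 F228319) D145346 (iv1 F390080) (iv6 F401851) (iv1 D211097) (iv5 F386488) (iv6 D107323) (iv1 F336118)
theorem F460085 : act 2 n211097 = n196764 := d2_1 F460084 F401716 (iv2 F401850)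
theorem F460086 : act 6 n211097 = n209963 := d12_2 (iv6 F401851) F460084 F455550 F390063 D193498
def n211098 : Q := act 3 n140669
theorem D211098 : act 3 n140669 = n211098 := rfl
theorem F460087 : act 5 n211098 = n210897 := d6_2 (iv5 F223761) D211098 F459197
theorem F460088 : act 0 n211098 = n209976 := d20_10 (iv4 D209976) (iv1 D137216) (iv4 F104330) (iv3 D68180) F82148 (iv3 F78250) (iv4 F165113) D196600 F401203 D211098
def n211099 : Q := act 3 n140671
theorem D211099 : act 3 n140671 = n211099 := rfl
theorem F460089 : act 4 n211099 = n203640 := d5_2 D140671 D211099 F429198 (iv4 F386480) F223758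
theorem F460090 : act 6 n211099 = n205860 := d7_2 (iv6 F436630) D211099 F438170
theorem F460091 : act 0 n211099 = n195560 := d19_4 F82150 D65999 D140671 D211099 (iv5 F456442) F456443 (iv3 D143550) (iv1 F321334) (iv5 F339068) (iv4 D152069) (iv3 F339070) (iv1 F307342) F78740 (iv4 F110768) (iv3 F328899) D184337 F406421 F406420 F168845
def n211100 : Q := act 5 n140675
theorem D211100 : act 5 n140675 = n211100 := rfl
theorem F460092 : act 3 n211100 = n206269 := d6_1 D211100 (iv5 D206269) F342417
theorem F460093 : act 4 n211100 = n149015 := d9_1 D211100 (iv5 D149015) F155455 D75059 (iv4 F312351) (iv5 F325024) (iv4 F354203) D210992 F459660 (iv5 D149012) F232732 F310272 F132663 (iv5 F324095) (iv4 F342418)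
def n211101 : Q := act 0 n140677
theorem D211101 : act 0 n140677 = n211101 := rfl
theorem F460094 : act 5 n211101 = n178496 := d17_3 (iv1 D140675) D140677 D211101 (iv4 D178496) (iv5 D84941) D84940 D178492 F356996 (iv4 F342418)
theorem F460095 : act 4 n211101 = n149017 := d18_1 D211101 (iv1 F236195) (iv4 F402172) (iv5 F402175) F386619 F344054 (iv4 F354203) F354201 D140677
theorem F460096 : act 3 n211101 = n198357 := d20_5 D211075 F460006 (iv4 D140678) (iv3 F223767) D211101 F407745 F400954 F179707 F331809 D140636
theorem F460097 : act 1 n196787 = n211101 := d15_0 (iv0 D211101) (iv7 F459416) F459412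
theorem F460098 : act 6 n198356 = n211101 := d21_3 F410258 F358653 D198356 (iv1 F460097) (iv6 D196787) (iv5 D107327) (iv1 F220494) F172103 (iv6 F361558) (iv1 F410259)
theorem F460099 : act 2 n211101 = n145383 := d3_1 F460098 (iv6 F362454) (iv2 F407743)
def n211102 : Q := act 1 n140677
theorem D211102 : act 1 n140677 = n211102 := rfl
theorem F460100 : act 1 n211102 = n196787 := d15_1 D211102 F401797 F388405
theorem F460101 : act 7 n211102 = n145383 := d15_2 (iv0 D211101) D211102 (iv2 F460099)
theorem F460102 : act 4 n211102 = n149018 := d17_9 (iv1 D149018) (iv5 D69886) D69884 D149012 (iv4 F459660) (iv5 D210992) F354201 D140677 D211102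
theorem F460103 : act 3 n145373 = n211102 := d19_19 (iv1 D211102) (iv5 D140677) (iv4 F204058) (iv3 D126809) (iv1 D59507) D59508 (iv4 F331976) (iv3 F190609) (iv1 F92095) F52928 (iv4 F52921) (iv3 F109473) (iv1 F197564) (iv5 F386506) (iv4 F414544) F414543 F330035 (iv5 F348845) (iv4 F228415)
theorem F460104 : act 5 n161910 = n211102 := d21_6 (iv5 F388637) (iv1 F388642) F388640 D197660 (iv1 F405268) (iv6 F351691) (iv1 D211102) (iv5 D140677) F101687 D139623
theorem F460105 : act 6 n209968 = n211102 := d10_0 F460102 (iv6 F390012) D209968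
def n211103 : Q := act 6 n140678
theorem D211103 : act 6 n140678 = n211103 := rfl
theorem F460106 : act 2 n211103 = n153576 := d3_1 D211103 (iv6 F407040) F407030
theorem F460107 : act 3 n211103 = n184236 := d7_1 D211103 F432117 (iv3 F432115)
theorem F460108 : act 4 n211103 = n140679 := d10_1 D211103 (iv6 D140679) D140678
theorem F460109 : act 7 n211103 = n153577 := d14_2 (iv7 F407003) D211103 (iv6 F436637) F436633 F407002
theorem F460110 : act 1 n153580 = n211103 := d15_1 (iv0 F454430) F460109 (iv2 F454425)
theorem F460111 : act 1 n211103 = n153578 := d15_1 F460110 (iv7 F436706) F436704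
def n211104 : Q := act 1 n140679
theorem D211104 : act 1 n140679 = n211104 := rfl
theorem F460112 : act 1 n211104 = n196811 := d15_1 D211104 (iv7 F407037) F407034
theorem F460113 : act 4 n198393 = n211104 := d20_0 (iv1 D211104) (iv4 F460108) F460107 F365566 (iv3 D139596) (iv4 D65518) (iv1 F111291) (iv4 F79801) (iv3 F169283) D198393
theorem F460114 : act 5 n197600 = n211104 := d21_6 (iv5 D50083) (iv1 D24425) D24427 D50093 D108495 D197600 (iv1 D211104) F223768 (iv6 D139627) F101263
theorem F460115 : act 2 n211104 = n184221 := d2_1 F460114 F362246 (iv2 F404973)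
def n211105 : Q := act 7 n140679
theorem D211105 : act 7 n140679 = n211105 := rfl
theorem F460116 : act 2 n211105 = n196811 := d4_1 D211105 (iv7 F407037) F407034
theorem F460117 : act 3 n211105 = n210643 := d8_1 D211105 F458312 (iv3 F388354)
theorem F460118 : act 4 n211105 = n153577 := d11_1 D211105 (iv7 F460109) F460108
theorem F460119 : act 5 n211105 = n210730 := d13_1 D211105 (iv7 D210730) (iv5 F223768)
theorem F460120 : act 6 n211105 = n196805 := d14_1 D211105 (iv7 F402417) (iv6 F402423) F223505 D140679
theorem F460121 : act 1 n184221 = n211105 := d15_1 (iv0 F407038) (iv7 D211105) (iv2 F407034)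
def n211106 : Q := act 5 n140683
theorem D211106 : act 5 n140683 = n211106 := rfl
theorem F460122 : act 3 n211106 = n140684 := d6_1 D211106 (iv5 D140684) D140683
theorem F460123 : act 4 n211106 = n209518 := d9_1 D211106 F454000 F387360 F364462 F243921 D164554 F433698 F433701 F401735 F391943 F387388 F331999 F256999 (iv5 F409868) F409867
theorem F460124 : act 6 n211106 = n209516 := d12_2 (iv6 F351061) D211106 (iv5 F453993) F430293 F351059
theorem F460125 : act 7 n211106 = n210167 := d13_2 F412394 D211106 (iv5 F456438)
theorem F460126 : act 0 n211106 = n210037 := d17_2 (iv1 F364762) D211106 F455865 (iv4 D173967) (iv5 D83184) F128235 (iv5 F330279) (iv0 D166450) (iv4 F305789)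
theorem F460127 : act 1 n211106 = n160395 := d17_6 F449811 (iv5 D174807) F272356 (iv5 F409868) F409867 D211106 (iv5 D160395) D160393 (iv4 F449813)
def n211107 : Q := act 3 n140685
theorem D211107 : act 3 n140685 = n211107 := rfl
theorem F460128 : act 4 n211107 = n203528 := d5_2 D140685 D211107 (iv3 F428733) F397582 F218956
theorem F460129 : act 6 n211107 = n141841 := d7_2 (iv6 F223775) D211107 (iv3 D141841)
theorem F460130 : act 0 n167235 = n211107 := d20_4 F459945 (iv1 F342470) F342466 (iv3 F350963) (iv3 D211107) (iv4 D140685) F163953 (iv4 F103291) (iv3 F226563) (iv1 F459946)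
def n211108 : Q := act 0 n140686
theorem D211108 : act 0 n140686 = n211108 := rfl
theorem F460131 : act 5 n211108 = n209995 := d17_1 D211108 (iv1 F455689) F365120 F390452 (iv5 D193611) D193610 F431687 (iv0 F414116) F414113
theorem F460132 : act 1 n174908 = n211108 := d15_0 (iv0 D211108) (iv7 F412391) F412388
theorem F460133 : act 2 n209996 = n211108 := d2_3 F460131 (iv2 D209995) D209996
theorem F460134 : act 6 n210907 = n211108 := d21_5 D197782 F405781 F168619 D140351 D210907 F460131 (iv1 F455689) F365120 (iv6 D109046) (iv1 F168591)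
def n211109 : Q := act 1 n140686
theorem D211109 : act 1 n140686 = n211109 := rfl
theorem F460135 : act 7 n211109 = n209996 := d15_2 (iv0 D211108) D211109 F460133
theorem F460136 : act 3 n198674 = n211109 := d20_3 (iv4 D209306) F219352 (iv4 F408825) (iv1 D211109) (iv3 D140686) (iv4 F175460) (iv1 F175461) (iv4 F168872) (iv3 F406558) (iv1 F453134)
theorem F460137 : act 6 n140699 = n211109 := d21_9 F401618 (iv1 F425111) (iv5 D198220) D198221 (iv1 F412239) (iv6 D199440) D199439 (iv1 F412206) (iv5 F412220) (iv1 D211109)
theorem F460138 : act 0 n174908 = n211109 := d21_4 F343712 (iv1 F300902) D83545 D174908 (iv6 F460137) F412220 (iv1 D111620) (iv5 D51478) D51479 D111623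
theorem F460139 : act 5 n209997 = n211109 := d21_8 (iv5 F172800) F412182 (iv5 D199435) (iv6 F405750) (iv1 F168587) D109046 (iv5 F365120) F455686 (iv6 F460137) (iv1 D140699)
def n211110 : Q := act 2 n140686
theorem D211110 : act 2 n140686 = n211110 := rfl
theorem F460140 : act 3 n211110 = n202690 := d0_2 D140686 D211110 F425114 F331102 (iv2 F175471)
theorem F460141 : act 5 n211110 = n202689 := d2_2 (iv5 F401618) D211110 F425106
theorem F460142 : act 7 n211110 = n174908 := d4_2 F412391 D211110 (iv2 F412388)
theorem F460143 : act 1 n209996 = n211110 := d15_1 (iv0 F455683) F460142 (iv2 F412388)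
def n211111 : Q := act 6 n140686
theorem D211111 : act 6 n140686 = n211111 := rfl
theorem F460144 : act 3 n211111 = n140688 := d7_1 D211111 (iv6 D140688) D140686
theorem F460145 : act 5 n211111 = n179254 := d12_1 D211111 (iv6 F360000) F172119 D196727 (iv5 F401618)
def n211112 : Q := act 3 n140696
theorem D211112 : act 3 n140696 = n211112 := rfl
theorem F460146 : act 7 n211112 = n197430 := d8_2 F406992 D211112 F406997
def n211113 : Q := act 6 n140696
theorem D211113 : act 6 n140696 = n211113 := rfl
theorem F460147 : act 2 n211113 = n200199 := d3_1 D211113 F415494 (iv2 F406988)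
theorem F460148 : act 4 n211113 = n140697 := d10_1 D211113 (iv6 D140697) D140696
theorem F460149 : act 0 n198390 = n211113 := d21_4 D107235 D196707 F401556 D198390 (iv6 D211113) (iv5 F459404) (iv1 F459405) (iv5 F405739) (iv6 D196704) (iv1 D107233)
def n211114 : Q := act 4 n140698
theorem D211114 : act 4 n140698 = n211114 := rfl
theorem F460150 : act 2 n211114 = n191068 := d1_1 D211114 F410283 F410287
theorem F460151 : act 3 n211114 = n200596 := d5_1 D211114 (iv4 D200596) (iv3 D113256) D113257 (iv3 F223789)
theorem F460152 : act 0 n189927 = n211114 := d20_1 F412764 (iv4 D211114) F223789 F380724 (iv3 D140705) F325619 F324521 D112047 D199944 F414262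
theorem F460153 : act 6 n194497 = n211114 := d7_0 F460151 F417125 (iv3 F393442)
def n211115 : Q := act 6 n140698
theorem D211115 : act 6 n140698 = n211115 := rfl
theorem F460154 : act 2 n211115 = n194491 := d3_1 D211115 (iv6 F410284) F410287
theorem F460155 : act 3 n211115 = n154717 := d7_1 D211115 (iv6 F350074) (iv3 F223789)
theorem F460156 : act 4 n211115 = n194497 := d10_1 D211115 F460153 (iv4 D211114)
theorem F460157 : act 5 n211115 = n154713 := d12_1 D211115 (iv6 D154713) D154712 F412065 (iv5 F412064)
theorem F460158 : act 0 n211115 = n210906 := d21_4 D51478 D111619 (iv5 F412064) D211115 (iv6 D210906) F387477 (iv1 F387468) (iv5 D109042) F378714 (iv1 D51475)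
theorem F460159 : act 1 n211115 = n198047 := d15_1 (iv0 F460158) F406582 (iv2 F459232)
theorem F460160 : act 7 n211115 = n210907 := d15_2 (iv0 F459235) (iv0 F460158) (iv2 F459238)
def n211116 : Q := act 3 n140699
theorem D211116 : act 3 n140699 = n211116 := rfl
theorem F460161 : act 2 n211116 = n200592 := d0_1 D211116 (iv3 D200592) (iv2 F395568) (iv3 F410279) (iv2 F410286)
theorem F460162 : act 4 n211116 = n191065 := d5_2 F407786 D211116 F382071 F357998 D198369
theorem F460163 : act 5 n211116 = n199711 := d6_2 (iv5 F412220) D211116 (iv3 D199711)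
theorem F460164 : act 6 n211116 = n198674 := d7_2 (iv6 F460137) D211116 F460136
theorem F460165 : act 7 n211116 = n191064 := d8_2 F410285 D211116 F410282
theorem F460166 : act 0 n199841 = n211116 := d20_4 (iv4 D197897) D197894 (iv4 F411940) (iv3 F413765) (iv3 D211116) (iv4 F407786) F412767 (iv4 F412764) (iv3 F412762) F406130
theorem F460167 : act 1 n199839 = n211116 := d15_0 (iv0 F460166) F413763 (iv2 F413756)
def n211117 : Q := act 1 n140703
theorem D211117 : act 1 n140703 = n211117 := rfl
theorem F460168 : act 1 n211117 = n180408 := d15_1 D211117 (iv7 F415349) F415347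
theorem F460169 : act 7 n211117 = n180414 := d15_2 (iv0 F431976) D211117 (iv2 F431972)
theorem F460170 : act 5 n211117 = n199716 := d18_9 (iv1 D199716) (iv4 F413228) F413231 F370335 F173046 F170745 F324544 (iv4 F324531) D211117
theorem F460171 : act 4 n163841 = n211117 := d20_0 (iv1 D211117) F324531 F130077 (iv1 F60700) D80070 (iv4 F323177) (iv1 F380636) F380633 D198871 (iv1 F415409)
theorem F460172 : act 2 n211117 = n180413 := d1_1 F460171 (iv4 F455854) F455849
def n211118 : Q := act 2 n140705
theorem D211118 : act 2 n140705 = n211118 := rfl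
theorem F460173 : act 3 n211118 = n180408 := d0_2 D140705 D211118 F280782 F132134 (iv2 F325618)
theorem F460174 : act 4 n211118 = n196645 := d1_2 F380720 D211118 F401311
theorem F460175 : act 6 n211118 = n170828 := d3_2 (iv6 F326436) D211118 (iv2 D170828)
theorem F460176 : act 7 n211118 = n200591 := d4_2 F412424 D211118 (iv2 F417101)
theorem F460177 : act 1 n211118 = n195046 := d15_0 (iv0 F412425) F412424 D211118
theorem F460178 : act 1 n195047 = n211118 := d15_0 F460177 F395567 (iv2 F395568)
def n211119 : Q := act 1 n140722
theorem D211119 : act 1 n140722 = n211119 := rfl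
theorem F460179 : act 1 n211119 = n206946 := d15_1 D211119 (iv7 F457754) F457750
theorem F460180 : act 5 n211119 = n177051 := d18_9 (iv1 D177051) (iv4 F344497) (iv1 F447049) F447045 (iv5 F222977) (iv4 F363407) (iv0 D172502) (iv4 F324355) D211119
theorem F460181 : act 4 n207992 = n211119 := d20_0 (iv1 D211119) F324355 F127201 F126964 (iv3 F327820) (iv4 F383268) F383270 F359064 D205985 F447319
theorem F460182 : act 6 n159078 = n211119 := d21_3 (iv5 F307936) F351942 F351940 (iv1 D211119) F324356 (iv5 F324345) (iv1 F438250) F438248 F213640 F307934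
theorem F460183 : act 2 n211119 = n170277 := d3_1 F460182 (iv6 D170277) (iv2 F359870)
def n211120 : Q := act 6 n140727
theorem D211120 : act 6 n140727 = n211120 := rfl
theorem F460184 : act 2 n211120 = n142811 := d3_1 D211120 (iv6 F424211) F424209
theorem F460185 : act 3 n211120 = n208567 := d7_1 D211120 (iv6 D208567) (iv3 F404826)
theorem F460186 : act 5 n211120 = n142772 := d12_1 D211120 F348834 F348829 F323822 D140727
theorem F460187 : act 7 n211120 = n142816 := d14_2 F407619 D211120 F360597 (iv7 F309408) F407621
theorem F460188 : act 0 n211120 = n152940 := d21_10 (iv5 D152940) D152939 (iv5 F330096) (iv6 F358851) (iv1 F345630) (iv6 D140776) (iv5 D66058) (iv1 F101716) D140727 D211120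
theorem F460189 : act 0 n153689 = n211120 := d21_4 (iv5 F405215) (iv1 F412603) F412608 (iv6 F394050) (iv6 D211120) (iv5 D140727) (iv1 D66036) D66038 D140735 F405214
def n211121 : Q := act 6 n140730
theorem D211121 : act 6 n140730 = n211121 := rfl
theorem F460190 : act 2 n211121 = n140732 := d3_1 D211121 (iv6 D140732) D140730
theorem F460191 : act 3 n211121 = n193292 := d7_1 D211121 F389405 (iv3 F223827)
theorem F460192 : act 4 n211121 = n193678 := d10_1 D211121 F390668 (iv4 F223828)
theorem F460193 : act 1 n211121 = n193316 := d15_0 (iv0 F457319) F457318 (iv2 F460190)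
def n211122 : Q := act 6 n140731
theorem D211122 : act 6 n140731 = n211122 := rfl
theorem F460194 : act 3 n211122 = n140735 := d7_1 D211122 (iv6 D140735) (iv3 F223829)
theorem F460195 : act 4 n211122 = n183159 := d10_1 D211122 (iv6 F365000) F339977
def n211123 : Q := act 1 n140732
theorem D211123 : act 1 n140732 = n211123 := rfl
theorem F460196 : act 4 n208089 = n211123 := d20_0 (iv1 D211123) (iv4 F226873) F226872 F340800 F112208 F53917 D34260 F103407 D133378 D208089
theorem F460197 : act 2 n211123 = n193316 := d1_1 F460196 (iv4 F447729) F447832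
theorem F460198 : act 6 n211123 = n193312 := d10_2 F447833 F460196 (iv4 F397738)
def n211124 : Q := act 5 n140732
theorem D211124 : act 5 n140732 = n211124 := rfl
theorem F460199 : act 3 n211124 = n140738 := d6_1 D211124 (iv5 D140738) (iv3 F223830)
theorem F460200 : act 0 n211124 = n196452 := d18_0 F400727 F411361 (iv4 F434753) F434754 F405127 F447834 (iv4 F459617) (iv0 F459618) D211124
def n211125 : Q := act 5 n140735
theorem D211125 : act 5 n140735 = n211125 := rfl
theorem F460201 : act 2 n211125 = n197757 := d2_1 D211125 (iv5 F412659) (iv2 F412662)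
theorem F460202 : act 6 n211125 = n140738 := d12_2 D140735 D211125 (iv5 D140738) (iv6 D66039) D66038
theorem F460203 : act 7 n211125 = n197758 := d13_2 F412663 D211125 F412666
theorem F460204 : act 4 n211125 = n166326 := d17_4 (iv1 D199544) D199545 F412613 D211125 (iv5 F358301) (iv0 D182766) (iv5 F148454) (iv0 F358299) F412605
theorem F460205 : act 1 n211125 = n197754 := d17_8 D205349 F436020 F417206 F417205 F176468 F405215 (iv0 F405214) D211125 F405642
theorem F460206 : act 0 n211125 = n197760 := d18_0 F405660 F417521 F417519 (iv5 F407346) F407344 (iv0 F453943) F453940 (iv0 F405214) D211125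
def n211126 : Q := act 1 n140738
theorem D211126 : act 1 n140738 = n211126 := rfl
theorem F460207 : act 7 n211126 = n207108 := d15_2 (iv0 F413635) D211126 F443362
theorem F460208 : act 5 n211126 = n177057 := d17_7 (iv1 F301075) (iv5 D75997) F324365 (iv5 D66048) (iv4 F101717) D140738 D211126 (iv0 F366384) (iv4 D121687)
theorem F460209 : act 4 n211126 = n189789 := d17_9 F377756 (iv5 D181222) (iv1 F132773) (iv5 F354276) F202155 F354280 F324357 D140738 D211126
theorem F460210 : act 6 n204686 = n211126 := d21_3 F405521 (iv1 F459702) (iv5 F459703) (iv1 D211126) (iv6 F460202) (iv5 D211125) F405214 (iv5 F405215) (iv6 F405219) F405522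
theorem F460211 : act 2 n211126 = n210416 := d3_1 F460210 (iv6 F459706) F459704
theorem F460212 : act 3 n211126 = n178547 := d7_1 F460210 (iv6 F360092) D204686
def n211127 : Q := act 5 n140740
theorem D211127 : act 5 n140740 = n211127 := rfl
theorem F460213 : act 3 n211127 = n208253 := d6_1 D211127 F448595 F360652
theorem F460214 : act 4 n211127 = n183153 := d9_1 D211127 (iv5 F394218) F394217 (iv5 D116624) (iv4 D53739) D53740 D116627 D202729 F425312 F283454 (iv4 F358480) F223832 F322867 (iv5 F316382) F322871
theorem F460215 : act 7 n211127 = n183150 := d13_2 F225104 D211127 F358475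
theorem F460216 : act 0 n211127 = n187874 := d17_2 (iv1 F223836) D211127 F371740 (iv4 D115858) F180352 (iv0 D25927) D25930 (iv0 F180970) D66060
theorem F460217 : act 1 n211127 = n188304 := d17_6 (iv1 F318357) (iv5 F320462) (iv1 F321146) (iv5 F316382) F322871 D211127 F373035 (iv0 F182061) (iv4 D116678)
def n211128 : Q := act 6 n140742
theorem D211128 : act 6 n140742 = n211128 := rfl
theorem F460218 : act 2 n211128 = n189114 := d3_1 D211128 (iv6 F375798) F225122
theorem F460219 : act 3 n211128 = n201419 := d7_1 D211128 (iv6 D201419) F352412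
theorem F460220 : act 4 n211128 = n183174 := d10_1 D211128 (iv6 F373229) F373228
theorem F460221 : act 5 n211128 = n143762 := d12_1 D211128 F364345 (iv5 F324350) (iv6 D140743) D140742
theorem F460222 : act 7 n211128 = n189117 := d14_2 F225109 D211128 (iv6 F450044) F450045 (iv6 F332720)
theorem F460223 : act 1 n201530 = n211128 := d17_6 (iv1 F313300) (iv5 F315706) (iv1 D139269) (iv5 F313291) (iv4 F192426) D201530 F460221 F315722 (iv4 D153925)
theorem F460224 : act 0 n201604 = n201419 := d20_4 (iv4 F403451) (iv1 F421113) (iv4 D201605) (iv3 F421108) (iv3 F460219) F460220 (iv1 F295358) F356758 (iv3 F356757) (iv1 F355813)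
def n211129 : Q := act 6 n140764
theorem D211129 : act 6 n140764 = n211129 := rfl
theorem F460225 : act 2 n211129 = n193208 := d3_1 D211129 (iv6 F389177) (iv2 F223844)
theorem F460226 : act 3 n211129 = n140766 := d7_1 D211129 (iv6 D140766) D140764
theorem F460227 : act 4 n211129 = n140774 := d10_1 D211129 (iv6 D140774) (iv4 F223845)
theorem F460228 : act 5 n211129 = n208674 := d12_1 D211129 (iv6 D208674) (iv5 D134904) D134905 F349662
theorem F460229 : act 7 n211129 = n193207 := d14_2 (iv7 F223846) D211129 F389413 (iv7 F388984) F388981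
theorem F460230 : act 0 n211129 = n157617 := d21_4 F293822 (iv1 F349658) F349662 D211129 (iv6 D157617) F112555 (iv1 F108922) (iv5 F307564) F345441 F345442
theorem F460231 : act 1 n211129 = n189590 := d15_1 (iv0 F460230) F377052 (iv2 F366848)
def n211130 : Q := act 0 n140766
theorem D211130 : act 0 n140766 = n211130 := rfl
theorem F460232 : act 5 n211130 = n189123 := d17_1 D211130 (iv1 D189123) F295024 (iv4 F334898) (iv5 F319871) (iv0 D103694) D103696 F334899 (iv4 F223856)
theorem F460233 : act 4 n211130 = n198598 := d18_1 D211130 (iv1 F408462) (iv4 F408424) (iv5 F453960) F453959 (iv0 F370716) D201598 F457712 F457711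
theorem F460234 : act 6 n211130 = n192051 := d21_5 (iv5 F103040) (iv1 F223853) (iv5 D140765) D140766 D211130 F385346 F339001 F339099 (iv6 D137529) F103003
theorem F460235 : act 2 n192070 = n211130 := d3_3 F460234 (iv2 F385349) D192070
theorem F460236 : act 7 n198600 = n211130 := d14_0 F460234 (iv7 F385350) F348213 (iv7 F426747) F426750
theorem F460237 : act 0 n211130 = n193521 := d21_10 F457720 (iv1 D210481) (iv5 D139109) (iv6 D65292) D65288 D139094 (iv5 F339068) F339065 (iv5 F385346) (iv6 F460234)
theorem F460238 : act 3 n209201 = n211130 := d5_5 F460233 (iv3 F408463) F359173 D210835 (iv4 F458956)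
theorem F460239 : act 7 n203043 = n209201 := d8_0 F460238 (iv7 F460236) (iv3 F426755)
def n211131 : Q := act 1 n140766
theorem D211131 : act 1 n140766 = n211131 := rfl
theorem F460240 : act 1 n211131 = n193521 := d15_1 D211131 F390154 (iv2 F223855)
theorem F460241 : act 7 n211131 = n192070 := d15_2 (iv0 D211130) D211131 F460235
theorem F460242 : act 4 n211131 = n148015 := d17_9 (iv1 F353446) (iv5 F222316) (iv1 F334965) F183672 (iv4 F186935) (iv5 F421093) F457712 F457711 D211131
theorem F460243 : act 5 n189122 = n211131 := d21_0 (iv1 D211131) (iv5 F457711) (iv6 F457714) F450409 (iv6 D187617) F295171 (iv1 D46340) (iv5 F294373) D93289 D189122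
theorem F460244 : act 6 n148014 = n211131 := d21_3 (iv5 F335427) (iv1 F426742) (iv5 F426744) (iv1 D211131) (iv6 D140766) D140765 F223852 (iv5 D67018) D67019 D142996
theorem F460245 : act 2 n211131 = n198600 := d3_1 F460244 (iv6 F426750) F426745
theorem F460246 : act 3 n211131 = n209768 := d7_1 F460244 F454889 F427035
def n211132 : Q := act 7 n140766
theorem D211132 : act 7 n140766 = n211132 := rfl
theorem F460247 : act 2 n211132 = n193521 := d4_1 D211132 F390154 (iv2 F223855)
theorem F460248 : act 3 n211132 = n193207 := d8_1 D211132 (iv7 F460229) F460226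
theorem F460249 : act 4 n211132 = n140772 := d11_1 D211132 (iv7 D140772) (iv4 F223856)
theorem F460250 : act 5 n211132 = n201610 := d13_1 D211132 F457716 F457711
theorem F460251 : act 6 n211132 = n192092 := d14_1 D211132 (iv7 F424261) (iv6 D202495) F180299 D140766
theorem F460252 : act 1 n198600 = n211132 := d15_1 (iv0 F408470) (iv7 D211132) F223855
theorem F460253 : act 1 n211132 = n192070 := d15_1 F460252 (iv7 F460241) F460245
def n211133 : Q := act 3 n140767
theorem D211133 : act 3 n140767 = n211133 := rfl
theorem F460254 : act 4 n211133 = n140781 := d5_2 D140767 D211133 (iv3 D140781) (iv4 D66060) (iv3 F101727)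
theorem F460255 : act 5 n211133 = n201293 := d6_2 F226168 D211133 (iv3 F455457)
theorem F460256 : act 7 n211133 = n143131 := d8_2 (iv7 F223858) D211133 (iv3 D143131)
def n211134 : Q := act 0 n140776
theorem D211134 : act 0 n140776 = n211134 := rfl
theorem F460257 : act 5 n211134 = n198093 := d17_1 D211134 (iv1 F406766) D198759 F409115 F355067 F204023 F171679 (iv0 F345629) (iv4 F345624)
theorem F460258 : act 4 n211134 = n210664 := d18_1 D211134 (iv1 F459515) (iv4 D210963) (iv5 D140410) D140409 F459493 F459490 F418219 F345626
theorem F460259 : act 6 n211134 = n200942 := d21_5 (iv5 D140725) (iv1 F101720) D66058 D140776 D211134 (iv5 F420143) (iv1 F420142) F178379 F340010 (iv1 F223820)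
theorem F460260 : act 2 n198762 = n211134 := d15_3 (iv0 D211134) F345630 D198762
theorem F460261 : act 1 n198761 = n211134 := d15_0 (iv0 D211134) (iv7 F406110) (iv2 F409123)
theorem F460262 : act 7 n211134 = n198760 := d15_2 D198761 F460261 F409118
theorem F460263 : act 3 n198095 = n211134 := d8_3 F460262 F409119 F406777
def n211135 : Q := act 5 n140777
theorem D211135 : act 5 n140777 = n211135 := rfl
theorem F460264 : act 2 n211135 = n204059 := d2_1 D211135 F430933 (iv2 F424231)
theorem F460265 : act 3 n211135 = n204684 := d6_1 D211135 F436426 F436422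
theorem F460266 : act 7 n211135 = n204681 := d13_2 F424235 D211135 F433238
theorem F460267 : act 0 n211135 = n204680 := d17_2 D140777 D211135 F433235 (iv4 D156637) (iv5 F316998) (iv0 F319652) (iv5 D139739) (iv0 F337758) (iv4 F101729)
theorem F460268 : act 1 n211135 = n204679 := d17_6 (iv1 F200567) (iv5 F425157) F425159 F306848 F360590 D211135 F433232 (iv0 F359424) (iv4 D147065)
def n211136 : Q := act 7 n140779
theorem D211136 : act 7 n140779 = n211136 := rfl
theorem F460269 : act 3 n211136 = n199402 := d8_1 D211136 F412003 F405520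
theorem F460270 : act 4 n211136 = n200882 := d11_1 D211136 (iv7 D200882) F350091
theorem F460271 : act 5 n211136 = n140780 := d13_1 D211136 (iv7 D140780) D140779
theorem F460272 : act 1 n204972 = n211136 := d15_1 (iv0 F434394) (iv7 D211136) (iv2 F424240)
theorem F460273 : act 1 n211136 = n178092 := d15_1 F460272 (iv7 F282172) (iv2 F434390)
def n211137 : Q := act 4 n140799
theorem D211137 : act 4 n140799 = n211137 := rfl
theorem F460274 : act 2 n211137 = n147440 := d1_1 D211137 F317007 (iv2 F324396)
theorem F460275 : act 3 n211137 = n166401 := d5_1 D211137 F340162 (iv3 F341094) (iv4 F335048) (iv3 F324397)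
theorem F460276 : act 5 n211137 = n166399 := d9_2 (iv5 F324398) D211137 F277850 F356071 (iv4 F362486) (iv5 D150851) F107639 (iv5 F104530) (iv4 F105414) D147439 F339608 (iv5 F418270) F459839 F459838 F246247
theorem F460277 : act 6 n211137 = n147406 := d10_2 F335050 D211137 F231485
theorem F460278 : act 7 n211137 = n147317 := d11_2 (iv7 F335047) D211137 F230979
theorem F460279 : act 0 n211137 = n147062 := d18_2 F335053 D211137 (iv4 D147062) (iv5 F322079) F182472 D140563 F363685 F180273 F335054
theorem F460280 : act 1 n211137 = n147058 := d18_6 (iv1 F200567) (iv4 F237581) (iv1 F353409) F246247 (iv5 F324398) D211137 (iv4 D147058) (iv0 D68954) D68956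
def n211138 : Q := act 5 n140802
theorem D211138 : act 5 n140802 = n211138 := rfl
theorem F460281 : act 2 n211138 = n147934 := d2_1 D211138 (iv5 D147934) (iv2 F223876)
theorem F460282 : act 3 n211138 = n140803 := d6_1 D211138 (iv5 D140803) D140802
theorem F460283 : act 7 n211138 = n159404 := d13_2 (iv7 F318940) D211138 F251012
theorem F460284 : act 0 n211138 = n203466 := d17_2 F349953 D211138 F428429 (iv4 F430338) F430339 F427948 F427947 (iv0 F419899) (iv4 D201296)
theorem F460285 : act 0 n152054 = n211138 := d19_0 (iv5 D211138) (iv4 F424605) (iv3 D202582) (iv1 F180775) D140054 (iv4 F384459) F384458 (iv1 F223798) (iv5 F407448) (iv4 D198279) (iv3 F405828) (iv1 F405825) (iv5 D108675) D108674 (iv3 F173027) (iv1 F215896) (iv5 F419911) (iv4 D201298) F386973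
def n211139 : Q := act 0 n140827
theorem D211139 : act 0 n140827 = n211139 := rfl
theorem F460286 : act 5 n211139 = n142080 := d17_1 D211139 (iv1 F225100) D142091 (iv4 F375805) F375806 (iv0 D141896) (iv5 F356696) (iv0 F372980) F372976
theorem F460287 : act 2 n211127 = n211139 := d15_3 (iv0 D211139) F358478 (iv7 F460215)
theorem F460288 : act 1 n140835 = n211139 := d15_0 (iv0 D211139) F371741 F371738
theorem F460289 : act 7 n211139 = n202729 := d15_2 (iv0 F358477) F460288 F425311
theorem F460290 : act 6 n207255 = n211139 := d21_3 (iv5 F417273) F417274 D207255 (iv1 F460288) (iv6 F364352) F292119 D100254 F364346 D188626 F376613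
theorem F460291 : act 3 n211139 = n207256 := d7_1 F460290 F444005 (iv3 F444001)
def n211140 : Q := act 6 n140827
theorem D211140 : act 6 n140827 = n211140 := rfl
theorem F460292 : act 3 n211140 = n192784 := d7_1 D211140 F387754 (iv3 F366475)
theorem F460293 : act 5 n211140 = n208142 := d12_1 D211140 F448070 F420847 (iv6 D140828) D140827
theorem F460294 : act 7 n211140 = n192782 := d14_2 (iv7 F371741) D211140 (iv6 D192782) F364364 D187874
theorem F460295 : act 0 n201062 = n211140 := d21_4 F371549 (iv1 F139446) (iv5 F237950) (iv6 F418951) (iv6 D211140) (iv5 D140827) (iv1 F105797) D148234 (iv6 F370580) (iv1 F371552)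
theorem F460296 : act 1 n209127 = n211140 := d15_0 (iv0 F460295) (iv7 F451828) (iv2 F452380)
def n211141 : Q := act 6 n140842
theorem D211141 : act 6 n140842 = n211141 := rfl
theorem F460297 : act 2 n211141 = n200935 := d3_1 D211141 F418432 F366366
theorem F460298 : act 3 n211141 = n195873 := d7_1 D211141 F398559 F397725
theorem F460299 : act 4 n211141 = n209501 := d10_1 D211141 (iv6 F459900) F459899
theorem F460300 : act 0 n195753 = n211141 := d21_4 F94501 (iv1 F114674) F163401 (iv6 F398049) (iv6 D211141) (iv5 D140842) F319136 D106299 F163375 (iv1 F164497)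
theorem F460301 : act 4 n195873 = n201786 := d20_6 (iv4 D151345) D151343 (iv4 F335932) (iv3 F398048) F460300 F460298 (iv1 F421808) F421217 F421208 F421206
def n211142 : Q := act 0 n140850
theorem D211142 : act 0 n140850 = n211142 := rfl
theorem F460302 : act 4 n211142 = n149794 := d18_1 D211142 F307404 D183097 F335103 (iv4 D95944) (iv0 D44781) D44783 D95953 (iv5 F350239)
theorem F460303 : act 2 n153319 = n211142 := d15_3 (iv0 D211142) (iv0 F439862) F439861
theorem F460304 : act 1 n184721 = n211142 := d15_0 (iv0 D211142) (iv7 F383115) F383112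
theorem F460305 : act 7 n211142 = n201817 := d15_2 F439863 F460304 (iv2 F439859)
theorem F460306 : act 3 n159376 = n211142 := d8_3 F460305 (iv3 D201817) F399595
def n211143 : Q := act 6 n140877
theorem D211143 : act 6 n140877 = n211143 := rfl
theorem F460307 : act 2 n211143 = n140880 := d3_1 D211143 (iv6 D140880) D140877
theorem F460308 : act 3 n211143 = n205037 := d7_1 D211143 (iv6 F434725) (iv3 F348047)
theorem F460309 : act 4 n211143 = n202841 := d10_1 D211143 (iv6 D202841) F348049
theorem F460310 : act 5 n211143 = n208476 := d12_1 D211143 (iv6 F449531) (iv5 F393552) D210424 F457472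
theorem F460311 : act 0 n145075 = n211143 := d17_0 F460310 (iv1 D208476) (iv5 F423659) F423658 F361856 F174557 (iv5 F361862) (iv0 F347167) (iv4 F347168)
def n211144 : Q := act 0 n140879
theorem D211144 : act 0 n140879 = n211144 := rfl
theorem F460312 : act 5 n211144 = n198443 := d17_3 F348055 D140879 D211144 (iv4 D198443) (iv5 D109313) (iv0 F161386) (iv5 F348127) (iv0 F414285) F414287
theorem F460313 : act 4 n211144 = n141066 := d18_1 D211144 (iv1 F423468) F423465 (iv5 F320588) D117078 (iv0 F408717) (iv4 F408714) (iv0 D140875) D140879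
theorem F460314 : act 3 n211144 = n140998 := d20_5 (iv4 F226472) F342467 (iv4 D140890) (iv3 F223938) D211144 F396706 (iv1 F405732) (iv4 F434314) F434312 F342465
theorem F460315 : act 1 n202177 = n211144 := d15_0 (iv0 D211144) (iv7 F457294) F457291
def n211145 : Q := act 3 n140882
theorem D211145 : act 3 n140882 = n211145 := rfl
theorem F460316 : act 4 n211145 = n202169 := d5_2 (iv4 F320492) D211145 F423112 (iv4 D141075) (iv3 F318326)
theorem F460317 : act 6 n211145 = n153619 := d7_2 (iv6 F320493) D211145 (iv3 D153619)
theorem F460318 : act 0 n211145 = n192374 := d20_4 (iv4 F223708) (iv1 F322221) (iv4 F320492) D211145 (iv3 D192374) (iv4 D100126) (iv1 F152918) (iv4 F331773) F223477 D140568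
def n211146 : Q := act 0 n140890
theorem D211146 : act 0 n140890 = n211146 := rfl
theorem F460319 : act 4 n211146 = n204959 := d18_1 D211146 (iv1 D204959) F342437 (iv5 D65977) F49325 D30907 D66097 F223945 (iv5 F348833)
theorem F460320 : act 2 n205577 = n211146 := d15_3 (iv0 D211146) (iv0 F342467) (iv7 F437069)
theorem F460321 : act 1 n140907 = n211146 := d15_0 (iv0 D211146) F353393 (iv2 F353392)
def n211147 : Q := act 3 n140890
theorem D211147 : act 3 n140890 = n211147 := rfl
theorem F460322 : act 4 n211147 = n202175 := d5_2 D140890 D211147 (iv3 D202175) (iv4 F359947) F223938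
theorem F460323 : act 5 n211147 = n211145 := d6_2 (iv5 F348833) D211147 (iv3 D211145)
theorem F460324 : act 0 n211079 = n202175 := d20_7 F460319 (iv1 D204959) F342437 F101668 D65993 D140648 D211079 (iv4 F460322) (iv3 D211147) D211146
def n211148 : Q := act 3 n140901
theorem D211148 : act 3 n140901 = n211148 := rfl
theorem F460325 : act 2 n211148 = n193277 := d0_1 D211148 F389384 F352812 D137182 (iv2 F353385)
theorem F460326 : act 4 n211148 = n140904 := d5_2 D140901 D211148 (iv3 D140904) (iv4 D66097) D66096
theorem F460327 : act 6 n211148 = n193154 := d7_2 F353384 D211148 (iv3 F388963)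
theorem F460328 : act 7 n211148 = n209959 := d8_2 F424686 D211148 F455531
theorem F460329 : act 0 n211148 = n209942 := d19_4 F342378 F327728 D140901 D211148 F455465 (iv4 F388852) F403274 F403272 (iv5 F438929) F438930 (iv3 D198672) (iv1 D109745) (iv5 D50612) F38650 F19012 D11678 D24667 D50655 D109845
theorem F460330 : act 5 n205980 = n211148 := d17_1 F438684 F460329 F455465 (iv4 F388852) F231458 F333960 D84589 (iv0 F336594) (iv4 F331988)
theorem F460331 : act 0 n193329 = n211148 := d19_0 (iv5 F460330) (iv4 F455830) F455829 F357887 F357891 (iv4 F417627) F417624 F348390 (iv5 F348385) (iv4 D110472) (iv3 F172822) (iv1 F168860) (iv5 F162136) F162135 D140662 F388177 F455596 (iv4 D209976) F453666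
def n211149 : Q := act 5 n140901
theorem D211149 : act 5 n140901 = n211149 := rfl
theorem F460332 : act 2 n211149 = n209961 := d2_1 D211149 (iv5 D209961) (iv2 F353385)
theorem F460333 : act 3 n211149 = n205980 := d6_1 D211149 F460330 (iv3 D211148)
theorem F460334 : act 6 n211149 = n143244 := d12_2 F353384 D211149 (iv5 F457697) (iv6 D210476) (iv5 F245803)
theorem F460335 : act 4 n211149 = n204092 := d16_2 D140901 D211149 (iv5 D204092) (iv4 F388786) (iv5 F457480) F457479 (iv5 F348043) F237100 F327726
def n211150 : Q := act 3 n140907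
theorem D211150 : act 3 n140907 = n211150 := rfl
theorem F460336 : act 4 n211150 = n150084 := d5_2 D140907 D211150 (iv3 F425091) F425092 F327727
theorem F460337 : act 5 n211150 = n145605 := d6_2 (iv5 F348829) D211150 (iv3 D145605)
theorem F460338 : act 7 n211150 = n211100 := d8_2 F440002 D211150 F460092
theorem F460339 : act 0 n174501 = n211150 := d20_4 (iv4 D174497) (iv1 D83398) D83399 D174501 (iv3 D211150) (iv4 D140907) (iv1 F223946) (iv4 F459864) (iv3 F459867) (iv1 F273910)
theorem F460340 : act 2 n211150 = n210992 := d16_9 F459660 (iv5 D149012) F232732 F310272 F132663 (iv5 F324095) (iv4 F342418) D211100 (iv7 F460338)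
def n211151 : Q := act 5 n140914
theorem D211151 : act 5 n140914 = n211151 := rfl
theorem F460341 : act 3 n211151 = n140916 := d6_1 D211151 (iv5 D140916) D140914
theorem F460342 : act 4 n211151 = n198411 := d9_1 D211151 F407931 F174345 (iv5 F165842) (iv4 F179456) (iv5 F351446) F351445 D202598 F424684 (iv5 D155965) (iv4 F163185) (iv5 F166052) F166051 (iv5 F351440) F351439
theorem F460343 : act 7 n211151 = n142134 := d13_2 F351422 D211151 (iv5 F351418)
theorem F460344 : act 1 n211151 = n199928 := d17_8 F174338 F174337 (iv1 F174260) (iv5 F408715) (iv4 F408714) F348059 (iv0 F348832) D211151 (iv4 D199928)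
theorem F460345 : act 6 n211151 = n150853 := d21_3 (iv5 F424564) (iv1 F424567) D211151 F404531 (iv6 D197488) F314600 (iv1 F133062) D86792 D181746 (iv1 F348056)
def n211152 : Q := act 4 n140916
theorem D211152 : act 4 n140916 = n211152 := rfl
theorem F460346 : act 6 n211152 = n147904 := d10_2 (iv6 F319709) D211152 F363743
theorem F460347 : act 7 n211152 = n142140 := d11_2 (iv7 F321648) D211152 F225166
theorem F460348 : act 5 n211152 = n143829 := d16_1 D211152 F226472 D143836 F342466 (iv5 D145385) F322618 D140921 (iv7 F350119) (iv2 F350121)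
theorem F460349 : act 3 n211152 = n196631 := d19_3 D66100 D140916 D211152 (iv1 F401248) (iv5 D107159) (iv4 D49508) F53447 (iv1 D30352) D30353 (iv4 F80472) (iv3 F171220) F308696 (iv5 D82890) (iv4 F127661) F127660 F117747 F323714 (iv4 D30921) (iv3 F49355)
def n211153 : Q := act 4 n140921
theorem D211153 : act 4 n140921 = n211153 := rfl
theorem F460350 : act 2 n211153 = n142140 := d1_1 D211153 F225166 (iv2 F321324)
theorem F460351 : act 5 n211153 = n211146 := d9_2 D140921 D211153 F460319 (iv5 F434351) F423129 (iv5 D145380) (iv4 F348826) D140916 D211152 F460348 F226472 D143836 F342466 (iv5 D145385) F322618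
theorem F460352 : act 6 n211153 = n142067 := d10_2 (iv6 F223958) D211153 (iv4 D142067)
def n211154 : Q := act 6 n140923
theorem D211154 : act 6 n140923 = n211154 := rfl
theorem F460353 : act 2 n211154 = n145567 := d3_1 D211154 (iv6 D145567) (iv2 F342413)
theorem F460354 : act 3 n211154 = n196623 := d7_1 D211154 (iv6 D196623) (iv3 F342414)
theorem F460355 : act 4 n211154 = n145543 := d10_1 D211154 (iv6 D145543) (iv4 F342415)
theorem F460356 : act 5 n211154 = n157589 := d12_1 D211154 F248346 F319708 D143926 (iv5 F342438)
theorem F460357 : act 7 n211154 = n197470 := d14_2 (iv7 F342416) D211154 (iv6 D197470) F212157 F321161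
theorem F460358 : act 0 n211154 = n210156 := d21_10 (iv5 D210156) F365537 F357281 (iv6 F366094) (iv1 D175028) (iv6 F362764) D211061 F459952 (iv5 F342438) D211154
theorem F460359 : act 0 n177290 = n211154 := d21_4 D202690 F425117 F276427 D177290 (iv6 D211154) F342438 (iv1 F459946) (iv5 D211060) F440005 (iv1 F347185)
def n211155 : Q := act 5 n140924
theorem D211155 : act 5 n140924 = n211155 := rfl
theorem F460360 : act 2 n211155 = n145586 := d2_1 D211155 (iv5 D145586) (iv2 F321163)
theorem F460361 : act 4 n211155 = n177055 := d9_1 D211155 F341075 F440004 D211060 F459945 (iv5 D145542) (iv4 F342415) F342438 F226564 D143955 (iv4 F362763) D211061 F459951 F320592 (iv4 F322616)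
theorem F460362 : act 6 n211155 = n154716 := d12_2 (iv6 F322617) D211155 F383310 F404461 (iv5 D197467)
theorem F460363 : act 7 n211155 = n145566 := d13_2 (iv7 F321164) D211155 (iv5 D145566)
theorem F460364 : act 0 n211155 = n211061 := d17_2 (iv1 F322615) D211155 (iv5 D211061) F362763 (iv5 D143955) (iv0 F319710) (iv5 D140921) F223897 F320770
theorem F460365 : act 1 n211155 = n211060 := d17_6 F342465 D143836 F342469 F320592 (iv4 F322616) D211155 (iv5 D211060) (iv0 D140596) (iv4 F342437)
def n211156 : Q := act 3 n140995
theorem D211156 : act 3 n140995 = n211156 := rfl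
theorem F460366 : act 4 n211156 = n203395 := d5_2 F316910 D211156 F428135 F186939 (iv3 F186937)
theorem F460367 : act 5 n211156 = n210712 := d6_2 F351845 D211156 F458531
theorem F460368 : act 6 n211156 = n203183 := d7_2 F343142 D211156 (iv3 D203183)
def n211157 : Q := act 3 n141048
theorem D211157 : act 3 n141048 = n211157 := rfl
theorem F460369 : act 5 n211157 = n210489 := d6_2 (iv5 F224051) D211157 F457756
theorem F460370 : act 4 n211157 = n198387 := d20_6 F324262 (iv1 F324868) (iv4 D66154) (iv3 F101773) D141048 D211157 F407842 (iv4 D140999) F101764 (iv1 F101760)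
theorem F460371 : act 1 n145583 = n211157 := d17_8 F407842 (iv5 F351844) F438743 F438741 (iv4 F408473) F408474 F245708 D145583 F460370
def n211158 : Q := act 4 n141048
theorem D211158 : act 4 n141048 = n211158 := rfl
theorem F460372 : act 7 n211158 = n204337 := d11_2 F333271 D211158 F432100
theorem F460373 : act 5 n211158 = n191741 := d17_5 F232947 (iv5 F319186) (iv1 F333274) (iv5 F224051) D211158 (iv0 D191741) (iv5 F351773) (iv0 F356809) F244608
theorem F460374 : act 0 n211158 = n202685 := d17_0 F425093 (iv1 F458910) (iv5 D210822) F223161 F321953 F208258 D198693 (iv0 F408904) D211158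
theorem F460375 : act 1 n211158 = n210427 := d18_6 (iv1 F424678) F363125 F457762 F457760 (iv5 F224051) D211158 F457479 F414548 (iv5 F424675)
theorem F460376 : act 3 n211158 = n204320 := d19_3 (iv1 F333274) (iv5 F224051) D211158 F432028 (iv5 D171027) F307746 (iv3 F307745) F307744 F96008 (iv4 F109238) (iv3 F241635) F331124 (iv5 F169075) F101698 F49338 (iv1 F39340) (iv5 F39341) (iv4 F49487) (iv3 F102606)
def n211159 : Q := act 4 n141049
theorem D211159 : act 4 n141049 = n211159 := rfl
theorem F460377 : act 2 n211159 = n204337 := d1_1 D211159 F432100 (iv2 F333267)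
theorem F460378 : act 3 n211159 = n192068 := d5_1 D211159 (iv4 F456212) F456213 F226268 (iv3 F339081)
theorem F460379 : act 6 n211159 = n143567 := d10_2 (iv6 F339082) D211159 (iv4 D143567)
theorem F460380 : act 5 n211159 = n191742 := d17_5 (iv1 F352796) D202867 F425948 (iv5 F333269) D211159 (iv0 F424673) (iv5 D202595) (iv0 F361194) (iv4 D179036)
theorem F460381 : act 0 n211159 = n210427 := d17_0 F457480 F388785 (iv5 F397557) F397556 (iv5 D118882) F314634 D66150 D141049 D211159
theorem F460382 : act 1 n211159 = n202685 := d18_8 (iv1 F458910) F458906 F448232 (iv4 D191897) (iv5 F348381) (iv4 D141050) D141049 D211159 F425093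
def n211160 : Q := act 4 n141057
theorem D211160 : act 4 n141057 = n211160 := rfl
theorem F460383 : act 2 n211160 = n145380 := d1_1 D211160 (iv4 F423129) F423128
theorem F460384 : act 3 n211160 = n161910 := d5_1 D211160 (iv4 D161910) (iv3 D77759) (iv4 F322785) D141057
theorem F460385 : act 6 n211160 = n193213 := d10_2 F351581 D211160 F389186
theorem F460386 : act 7 n211160 = n145385 := d11_2 F226475 D211160 (iv4 F342466)
theorem F460387 : act 5 n211160 = n145373 := d16_5 (iv4 F225166) (iv5 F437068) F437067 (iv5 F224062) D211160 F228415 F348845 F350119 F321324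
theorem F460388 : act 0 n211160 = n211152 := d17_0 F460348 F342467 F348833 F320492 F318462 F104402 D68249 (iv0 F350131) D211160
theorem F460389 : act 1 n211160 = n211153 := d18_6 F341032 (iv4 F440000) F440003 F437067 (iv5 F224062) D211160 (iv4 D211153) (iv0 F350104) F341075
def n211161 : Q := act 6 n141066
theorem D211161 : act 6 n141066 = n211161 := rfl
theorem F460390 : act 2 n211161 = n203599 := d3_1 D211161 (iv6 F429053) F423143
theorem F460391 : act 3 n211161 = n202404 := d7_1 D211161 (iv6 D202404) (iv3 F357085)
theorem F460392 : act 7 n211161 = n203598 := d14_2 F406360 D211161 F429048 (iv7 F359986) (iv6 F406359)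
theorem F460393 : act 0 n211161 = n157412 := d21_4 F339857 F179468 D141066 D211161 F247900 (iv5 F240055) (iv1 D152833) (iv5 D72117) D72118 (iv1 F351411)
theorem F460394 : act 0 n203601 = n211161 := d21_4 (iv5 F408058) (iv1 F422551) F423335 (iv6 F429056) (iv6 D211161) (iv5 D141066) (iv1 D66156) D66158 D141073 (iv1 F360888)
def n211162 : Q := act 0 n141082
theorem D211162 : act 0 n141082 = n211162 := rfl
theorem F460395 : act 5 n211162 = n152599 := d17_3 (iv1 D173201) (iv5 F324975) D211162 (iv4 F351973) F351974 F345799 F334247 F318965 F314131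
theorem F460396 : act 6 n211162 = n162950 := d21_5 (iv5 F334511) F343379 (iv5 F390487) (iv6 F390488) D211162 (iv5 D162950) (iv1 F193010) (iv5 F277118) F392764 (iv1 F392762)
theorem F460397 : act 2 n206339 = n211162 := d15_3 (iv0 D211162) (iv0 F364919) D206339
theorem F460398 : act 1 n206338 = n211162 := d15_0 (iv0 D211162) F324976 F440322
theorem F460399 : act 7 n211162 = n152598 := d15_2 D206338 F460398 F364916
theorem F460400 : act 3 n152613 = n211162 := d8_3 F460399 F239791 D152613
def n211163 : Q := act 2 n141082
theorem D211163 : act 2 n141082 = n211163 := rfl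
theorem F460401 : act 3 n211163 = n194695 := d0_2 D141082 D211163 F394127 (iv3 D161173) (iv2 F323639)
theorem F460402 : act 5 n211163 = n173199 := d2_2 (iv5 F324975) D211163 F271471
theorem F460403 : act 6 n211163 = n194295 := d3_2 (iv6 F390488) D211163 (iv2 F392713)
theorem F460404 : act 7 n211163 = n206338 := d4_2 (iv7 F324976) D211163 (iv2 F440322)
theorem F460405 : act 1 n211163 = n152598 := d15_0 F345793 (iv7 F324976) D211163
theorem F460406 : act 1 n206339 = n211163 := d15_0 F460405 (iv7 F460399) (iv2 F460397)
def n211164 : Q := act 6 n141124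
theorem D211164 : act 6 n141124 = n211164 := rfl
theorem F460407 : act 2 n211164 = n202287 := d3_1 D211164 (iv6 D202287) (iv2 F361318)
theorem F460408 : act 3 n211164 = n141127 := d7_1 D211164 (iv6 D141127) D141124
theorem F460409 : act 4 n211164 = n201920 := d10_1 D211164 (iv6 D201920) (iv4 F224101)
def n211165 : Q := act 5 n141127
theorem D211165 : act 5 n141127 = n211165 := rfl
theorem F460410 : act 2 n211165 = n209923 := d2_1 D211165 F455370 F410421
theorem F460411 : act 6 n211165 = n193658 := d12_2 D141127 D211165 (iv5 F457922) (iv6 D210526) F361316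
theorem F460412 : act 7 n211165 = n209922 := d13_2 F411429 D211165 F455366
theorem F460413 : act 1 n211165 = n192468 := d17_6 (iv1 F388278) F404907 (iv1 D197581) D197582 (iv4 F404912) D211165 (iv5 D192468) F384837 (iv4 F388275)
theorem F460414 : act 4 n211165 = n193659 := d18_5 (iv1 D193494) D193495 (iv1 F404911) (iv4 F404912) D211165 (iv0 F390600) F220256 F220337 F390060
theorem F460415 : act 0 n211165 = n192464 := d21_1 D211165 (iv5 D192464) F383748 F383819 (iv6 D100132) (iv5 F136722) F343473 D162025 (iv6 F391470) F391472
def n211166 : Q := act 3 n141135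
theorem D211166 : act 3 n141135 = n211166 := rfl
theorem F460416 : act 4 n211166 = n202237 := d5_2 F400428 D211166 F423354 F372357 (iv3 F400427)
theorem F460417 : act 5 n211166 = n199579 := d6_2 (iv5 F350418) D211166 (iv3 D199579)
theorem F460418 : act 7 n211166 = n210506 := d8_2 F406009 D211166 F457837
theorem F460419 : act 0 n211166 = n202240 := d20_10 (iv4 D202240) (iv1 F363767) (iv4 F410330) F411142 (iv1 D199201) (iv3 F411129) (iv4 F457894) F457896 F400428 D211166
theorem F460420 : act 1 n211166 = n202225 := d15_1 (iv0 F460419) (iv7 F444015) F444014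
def n211167 : Q := act 6 n141136
theorem D211167 : act 6 n141136 = n211167 := rfl
theorem F460421 : act 2 n211167 = n210512 := d3_1 D211167 (iv6 D210512) F406011
theorem F460422 : act 3 n211167 = n188104 := d7_1 D211167 (iv6 F420477) F420475
theorem F460423 : act 4 n211167 = n199146 := d10_1 D211167 (iv6 F420500) F420499
theorem F460424 : act 1 n210632 = n211167 := d18_6 (iv1 F401897) (iv4 F203975) F346524 (iv4 F109224) D153755 (iv4 F458269) F460423 (iv0 F457220) F457218
def n211168 : Q := act 3 n141139
theorem D211168 : act 3 n141139 = n211168 := rfl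
theorem F460425 : act 5 n211168 = n191662 := d6_2 F360367 D211168 F384081
theorem F460426 : act 6 n211168 = n192432 := d7_2 F360368 D211168 F386713
theorem F460427 : act 7 n211168 = n191661 := d8_2 (iv7 F360356) D211168 F384078
theorem F460428 : act 2 n210282 = n211168 := d4_3 F460427 F384077 (iv7 F456849)
def n211169 : Q := act 4 n141139
theorem D211169 : act 4 n141139 = n211169 := rfl
theorem F460429 : act 2 n211169 = n192410 := d1_1 D211169 F386661 (iv2 F360361)
theorem F460430 : act 6 n211169 = n192439 := d10_2 F360368 D211169 F386719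
theorem F460431 : act 7 n211169 = n191671 := d11_2 (iv7 F360356) D211169 (iv4 D191671)
theorem F460432 : act 1 n211169 = n192407 := d18_6 D182488 F417328 F417331 F384095 F360367 D211169 F386879 (iv0 D103453) F295239
theorem F460433 : act 0 n211169 = n192408 := d20_1 D211169 F386660 (iv3 F380083) F411140 F350286 (iv4 D66385) (iv1 F102270) (iv4 F224213) (iv3 F360358) (iv1 F360362)
def n211170 : Q := act 6 n141157
theorem D211170 : act 6 n141157 = n211170 := rfl
theorem F460434 : act 2 n211170 = n192877 := d3_1 D211170 F453174 F453168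
theorem F460435 : act 3 n211170 = n141159 := d7_1 D211170 (iv6 D141159) D141157
theorem F460436 : act 7 n211170 = n192837 := d14_2 (iv7 F224144) D211170 (iv6 D192837) F154979 (iv6 F329956)
theorem F460437 : act 0 n192517 = n211170 := d21_4 F385711 (iv1 F275149) (iv5 F411647) (iv6 F411651) (iv6 D211170) F394428 F394427 D209238 F452834 F385713
theorem F460438 : act 1 n192875 = n211170 := d15_1 D192875 F460436 F387979
def n211171 : Q := act 5 n141161
theorem D211171 : act 5 n141161 = n211171 := rfl
theorem F460439 : act 2 n211171 = n210678 := d2_1 D211171 F458428 (iv2 F424906)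
theorem F460440 : act 3 n211171 = n141163 := d6_1 D211171 (iv5 D141163) D141161
theorem F460441 : act 7 n211171 = n210615 := d13_2 F410196 D211171 F458221
theorem F460442 : act 4 n211171 = n210535 := d16_2 F333133 D211171 F457961 (iv4 F226337) (iv5 F392356) (iv4 F416223) (iv5 D200382) (iv7 F345463) (iv2 F345461)
theorem F460443 : act 0 n211171 = n141199 := d17_2 (iv1 F424914) D211171 F224223 F180554 D144502 (iv0 F457770) (iv5 D210492) F225284 (iv4 F424911)
theorem F460444 : act 1 n211171 = n210676 := d17_6 (iv1 F182912) D144145 F391897 (iv5 D194055) F333133 D211171 (iv5 D210676) F424436 F424434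
def n211172 : Q := act 4 n141163
theorem D211172 : act 4 n141163 = n211172 := rfl
theorem F460445 : act 2 n211172 = n210617 := d1_1 D211172 (iv4 D210617) (iv2 F225850)
theorem F460446 : act 3 n211172 = n143248 := d5_1 D211172 F361419 F457962 (iv4 F460442) F460440
theorem F460447 : act 7 n211172 = n210616 := d11_2 F225854 D211172 (iv4 D210616)
theorem F460448 : act 5 n211172 = n210701 := d16_1 D211172 F458489 (iv5 F437507) F437506 (iv5 D136150) F101819 D141166 F225851 (iv2 F225850)
theorem F460449 : act 0 n211172 = n187576 := d17_0 F370860 D187622 (iv5 F375825) F410218 F410217 F180516 D139442 (iv0 F224185) D211172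
theorem F460450 : act 6 n143245 = n211172 := d21_3 F457697 (iv1 D143244) D143245 F460449 (iv6 D187576) (iv5 D90364) D90361 F335403 (iv6 F420732) F457696
def n211173 : Q := act 6 n141163
theorem D211173 : act 6 n141163 = n211173 := rfl
theorem F460451 : act 2 n211173 = n210618 := d3_1 D211173 (iv6 D210618) (iv2 F225850)
theorem F460452 : act 4 n211173 = n143245 := d10_1 D211173 F460450 (iv4 D211172)
theorem F460453 : act 5 n211173 = n194033 := d12_1 D211173 (iv6 D194033) (iv5 D102600) F333136 D141163
theorem F460454 : act 7 n211173 = n209589 := d14_2 F225854 D211173 (iv6 D209589) F454184 F454179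
theorem F460455 : act 0 n141225 = n211173 := d18_2 F224190 D141225 F460452 (iv5 D143245) F103071 (iv0 F99525) F99523 D66216 D141166
theorem F460456 : act 1 n210609 = n211173 := d15_0 (iv0 F460455) F224250 (iv2 F458201)
def n211174 : Q := act 6 n141165
theorem D211174 : act 6 n141165 = n211174 := rfl
theorem F460457 : act 2 n211174 = n192402 := d3_1 D211174 F423280 (iv2 F330551)
theorem F460458 : act 3 n211174 = n141167 := d7_1 D211174 (iv6 D141167) D141165
theorem F460459 : act 4 n211174 = n196658 := d10_1 D211174 F401379 F330550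
theorem F460460 : act 5 n211174 = n207829 := d12_1 D211174 F446620 (iv5 F454241) F454242 F444556
theorem F460461 : act 0 n211174 = n192393 := d21_4 D210506 F457839 F444556 D211174 (iv6 D192393) (iv5 D100145) (iv1 F139731) D188081 (iv6 F457835) (iv1 D210505)
theorem F460462 : act 1 n211174 = n192403 := d15_1 (iv0 F460461) (iv7 D192403) (iv2 F386630)
theorem F460463 : act 7 n192401 = n211174 := d13_0 F460460 F446621 F386815
def n211175 : Q := act 4 n141166
theorem D211175 : act 4 n141166 = n211175 := rfl
theorem F460464 : act 2 n211175 = n210616 := d1_1 D211175 (iv4 D210616) (iv2 F225852)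
theorem F460465 : act 6 n211175 = n209587 := d10_2 F364131 D211175 (iv4 D209587)
theorem F460466 : act 7 n211175 = n210617 := d11_2 (iv7 F225851) D211175 (iv4 D210617)
theorem F460467 : act 0 n187576 = n211175 := d20_10 (iv4 D211175) F224190 D141225 F224249 (iv1 F341352) (iv3 F384648) F384649 (iv1 F370874) F370869 (iv3 F370859)
def n211176 : Q := act 3 n141169
theorem D211176 : act 3 n141169 = n211176 := rfl
theorem F460468 : act 4 n211176 = n192127 := d5_2 (iv4 F433581) D211176 F456136 F456132 (iv3 F433578)
theorem F460469 : act 5 n211176 = n167095 := d6_2 (iv5 F456230) D211176 F456229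
theorem F460470 : act 7 n211176 = n193432 := d8_2 F456806 D211176 (iv3 F456804)
theorem F460471 : act 2 n211176 = n193434 := d15_3 F424918 (iv0 F424919) (iv7 F460470)
def n211177 : Q := act 6 n141169
theorem D211177 : act 6 n141169 = n211177 := rfl
theorem F460472 : act 7 n211177 = n204254 := d14_2 F456806 D211177 (iv6 D204254) (iv7 F431663) (iv6 F456805)
theorem F460473 : act 0 n192290 = n211177 := d21_4 (iv5 F357355) (iv1 D100015) D100017 D192290 (iv6 D211177) F456230 (iv1 D210115) D210116 F456233 (iv1 F385225)
theorem F460474 : act 1 n210251 = n211177 := d15_0 (iv0 F460473) F386322 (iv2 F456743)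
def n211178 : Q := act 3 n141170
theorem D211178 : act 3 n141170 = n211178 := rfl
theorem F460475 : act 6 n211178 = n192330 := d7_2 F424510 D211178 (iv3 F386457)
def n211179 : Q := act 3 n141172
theorem D211179 : act 3 n141172 = n211179 := rfl
theorem F460476 : act 2 n211179 = n192464 := d0_1 D211179 (iv3 F431706) (iv2 F454566) F454567 F360371
theorem F460477 : act 5 n211179 = n191919 := d6_2 (iv5 F224194) D211179 F391229
theorem F460478 : act 6 n211179 = n209197 := d7_2 F332955 D211179 (iv3 D209197)
theorem F460479 : act 7 n211179 = n192468 := d8_2 F360374 D211179 F390043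
theorem F460480 : act 0 n211179 = n209922 := d20_10 (iv4 D209922) F390878 F390875 F385583 F385581 F357400 D139308 D210501 F457809 D211179
theorem F460481 : act 1 n211179 = n209923 := d15_1 (iv0 F460480) F455369 (iv2 F455364)
def n211180 : Q := act 0 n141174
theorem D211180 : act 0 n141174 = n211180 := rfl
theorem F460482 : act 4 n211180 = n199329 := d18_3 (iv1 D141173) D141174 D211180 F411728 (iv4 F410244) F410243 F406036 F222535 (iv5 F224195)
theorem F460483 : act 6 n211180 = n196508 := d21_5 D156013 (iv1 F349773) (iv5 F359214) F359212 D211180 F400894 (iv1 D115281) (iv5 D53184) (iv6 F53411) D74206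
theorem F460484 : act 1 n201902 = n211180 := d15_0 (iv0 D211180) (iv7 F423148) F423146
theorem F460485 : act 2 n201975 = n211180 := d3_3 F460483 F415019 D201975
theorem F460486 : act 7 n202182 = n211180 := d14_0 F460483 (iv7 F415018) D201977 (iv7 F422592) F455007
def n211181 : Q := act 1 n141174
theorem D211181 : act 1 n141174 = n211181 := rfl
theorem F460487 : act 1 n211181 = n201902 := d15_1 D211181 F422302 F359211
theorem F460488 : act 7 n211181 = n201975 := d15_2 (iv0 D211180) D211181 F460485
theorem F460489 : act 4 n211181 = n199328 := d18_7 D111197 F172442 F166987 F80594 D66221 D141174 D211181 (iv0 D199328) (iv5 D111199)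
theorem F460490 : act 2 n202182 = n211181 := d1_3 F460489 (iv2 F411724) (iv4 F423145)
theorem F460491 : act 6 n211181 = n202108 := d3_2 F455007 F460490 (iv2 F422893)
def n211182 : Q := act 6 n141176
theorem D211182 : act 6 n141176 = n211182 := rfl
theorem F460492 : act 2 n211182 = n141177 := d3_1 D211182 (iv6 D141177) D141176
theorem F460493 : act 4 n211182 = n147712 := d10_1 D211182 F336322 (iv4 F224196)
theorem F460494 : act 5 n211182 = n210000 := d12_1 D211182 (iv6 F455694) F448159 F404937 F369487
theorem F460495 : act 0 n204916 = n211182 := d21_4 F109478 (iv1 F92125) D124691 D204916 (iv6 D211182) (iv5 F369487) (iv1 F373290) F373287 (iv6 D184303) (iv1 F306642)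
def n211183 : Q := act 0 n141177
theorem D211183 : act 0 n141177 = n211183 := rfl
theorem F460496 : act 4 n211183 = n174461 := d20_2 (iv4 F324987) D211183 F273335 D174592 (iv3 F423638) (iv4 F423634) (iv1 F423641) (iv4 F428807) F428806 F336594
theorem F460497 : act 3 n211183 = n198687 := d20_5 (iv4 D143567) (iv1 F339078) (iv4 F323828) (iv3 F224199) D211183 (iv4 F408872) (iv1 F408873) (iv4 D137213) (iv3 F220354) F361533
theorem F460498 : act 6 n211183 = n174460 := d21_5 (iv5 F140436) F373278 F222693 D141177 D211183 F432314 (iv1 F432311) (iv5 F438515) (iv6 D205943) F331753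
theorem F460499 : act 7 n204916 = n211183 := d14_0 F460498 (iv7 D174460) F332005 (iv7 F199470) D204916
def n211184 : Q := act 5 n141177
theorem D211184 : act 5 n141177 = n211184 := rfl
theorem F460500 : act 2 n211184 = n210000 := d2_1 D211184 (iv5 F460494) F460492
theorem F460501 : act 3 n211184 = n141181 := d6_1 D211184 (iv5 D141181) (iv3 F224199)
theorem F460502 : act 6 n211184 = n205081 := d12_2 D141177 D211184 F434902 (iv6 F404936) F222693
theorem F460503 : act 7 n211184 = n210001 := d13_2 (iv7 F324988) D211184 F455697
theorem F460504 : act 4 n211184 = n192382 := d16_2 (iv4 F324987) D211184 F386618 (iv4 F373255) F373256 F257340 D163002 (iv7 F336329) F336327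
theorem F460505 : act 1 n211184 = n210002 := d17_6 (iv1 F333975) (iv5 D147385) F333961 D84589 (iv4 F324987) D211184 F455700 F394167 F394164
theorem F460506 : act 0 n211184 = n197991 := d21_1 D211184 (iv5 F406421) (iv6 F453046) F453047 (iv6 D184297) (iv5 F307393) (iv1 F92131) D72978 D154123 F373284
def n211185 : Q := act 5 n141183
theorem D211185 : act 5 n141183 = n211185 := rfl
theorem F460507 : act 2 n211185 = n210615 := d2_1 D211185 F458221 F410194
theorem F460508 : act 3 n211185 = n202225 := d6_1 D211185 (iv5 D202225) (iv3 F365195)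
theorem F460509 : act 7 n211185 = n210678 := d13_2 F424908 D211185 F458428
theorem F460510 : act 4 n211185 = n183142 := d16_6 (iv4 F226337) (iv5 F392356) (iv4 F416223) (iv5 D200382) (iv4 F224203) D211185 (iv5 F396194) (iv7 F459089) (iv2 D210871)
theorem F460511 : act 1 n211185 = n141199 := d17_6 (iv1 D116998) D117000 (iv1 F416226) (iv5 D200382) (iv4 F224203) D211185 F224223 (iv0 F424386) F424383
theorem F460512 : act 6 n211185 = n183141 := d21_3 F222694 D141183 D211185 (iv1 F375674) F375671 (iv5 D184035) (iv1 F315087) D207083 F443244 (iv1 F424444)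
theorem F460513 : act 1 n210676 = n211185 := d15_0 F460511 F224224 (iv2 F458423)
def n211186 : Q := act 6 n141183
theorem D211186 : act 6 n141183 = n211186 := rfl
theorem F460514 : act 2 n211186 = n210250 := d3_1 D211186 F456742 F410194
theorem F460515 : act 3 n211186 = n192402 := d7_1 D211186 F423280 (iv3 F365195)
theorem F460516 : act 4 n211186 = n200383 := d10_1 D211186 (iv6 D200383) (iv4 F224203)
theorem F460517 : act 0 n211186 = n194698 := d21_4 (iv5 F224223) (iv1 F460511) (iv5 D211185) D211186 (iv6 D194698) (iv5 D104140) D104139 D194697 (iv6 F424381) F424386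
theorem F460518 : act 0 n141216 = n211186 := d20_10 F460516 F416230 (iv4 F364298) (iv3 F448577) (iv1 F448579) (iv3 F366347) (iv4 F319489) F319487 F340833 D141216
def n211187 : Q := act 3 n141192
theorem D211187 : act 3 n141192 = n211187 := rfl
theorem F460519 : act 2 n211187 = n194698 := d0_1 D211187 F394141 F159642 F329562 (iv2 F321271)
theorem F460520 : act 4 n211187 = n142565 := d5_2 F224216 D211187 (iv3 D142565) (iv4 D66831) D66830
theorem F460521 : act 5 n211187 = n210242 := d6_2 F395918 D211187 F456711
theorem F460522 : act 6 n211187 = n150783 := d7_2 (iv6 F320815) D211187 (iv3 D150783)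
theorem F460523 : act 7 n211187 = n141216 := d8_2 (iv7 F321272) D211187 (iv3 D141216)
theorem F460524 : act 0 n210250 = n211187 := d20_4 F386811 F357291 F221288 D210250 (iv3 D211187) (iv4 F224216) (iv1 F340843) (iv4 F224799) (iv3 F426791) F426795
def n211188 : Q := act 6 n141196
theorem D211188 : act 6 n141196 = n211188 := rfl
theorem F460525 : act 2 n211188 = n194657 := d3_1 D211188 F438512 F438508
theorem F460526 : act 3 n211188 = n141198 := d7_1 D211188 (iv6 D141198) D141196
theorem F460527 : act 4 n211188 = n142818 := d10_1 D211188 (iv6 F358851) (iv4 F345631)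
theorem F460528 : act 5 n211188 = n203736 := d12_1 D211188 F429603 (iv5 F424424) (iv6 D202543) (iv5 F224218)
theorem F460529 : act 7 n211188 = n194658 := d14_2 (iv7 F224219) D211188 (iv6 F393983) F458390 (iv6 D210666)
theorem F460530 : act 0 n211188 = n194659 := d21_4 F373287 (iv1 F362378) (iv5 F224218) D211188 F393986 F218649 D208158 F448159 F404937 (iv1 F373290)
theorem F460531 : act 0 n182273 = n211188 := d21_4 F292876 (iv1 F292875) D87032 (iv6 F283718) (iv6 D211188) F224218 F362377 F143912 (iv6 D87821) (iv1 F75776)
def n211189 : Q := act 5 n141197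
theorem D211189 : act 5 n141197 = n211189 := rfl
theorem F460532 : act 2 n211189 = n210683 := d2_1 D211189 (iv5 D210683) (iv2 F224220)
theorem F460533 : act 3 n211189 = n179866 := d6_1 D211189 (iv5 F362608) F345632
theorem F460534 : act 7 n211189 = n199772 := d13_2 (iv7 F224221) D211189 F413429
theorem F460535 : act 4 n211189 = n141482 := d16_2 D141197 D211189 (iv5 D141482) F181560 (iv5 D67719) F84355 (iv5 F181556) (iv7 F183039) (iv2 F183038)
theorem F460536 : act 0 n211189 = n208846 := d17_2 F372583 D211189 (iv5 F458914) (iv4 D210823) (iv5 D139932) F101421 D65719 F223168 F372565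
theorem F460537 : act 6 n211189 = n199794 := d21_3 (iv5 F372563) F372583 D211189 F450510 F350365 F180560 (iv1 F84537) D116252 F387215 (iv1 D192603)
def n211190 : Q := act 6 n141197
theorem D211190 : act 6 n141197 = n211190 := rfl
theorem F460538 : act 2 n211190 = n210684 := d3_1 D211190 (iv6 D210684) (iv2 F224220)
theorem F460539 : act 3 n211190 = n198766 := d7_1 D211190 (iv6 D198766) F345632
theorem F460540 : act 4 n211190 = n141198 := d10_1 D211190 (iv6 D141198) D141197
theorem F460541 : act 5 n211190 = n209182 := d12_1 D211190 (iv6 D209182) (iv5 F413533) (iv6 F460537) (iv5 D211189)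
theorem E103973 : n209182 = n194023 := (c21_7 (iv5 D42653) D42650 (iv5 F294854) D188174 F372583 D211190 F460541 (iv1 D194023) F157699 (iv6 D98914) F292361)
theorem F460542 : act 3 n194023 = n135914 := (sb E103973 F452614)
theorem F460543 : act 4 n194023 = n210388 := (sb E103973 (iv4 F457343))
theorem F460544 : act 5 n194023 = n211190 := (sb E103973 (iv5 F460541))
theorem F460545 : act 6 n194023 = n135911 := (sb E103973 (iv6 D209182))
theorem F460546 : act 0 n211190 = n208778 := d20_1 (iv4 F460540) F459039 (iv3 F459038) (iv1 F458126) F458122 (iv4 F412496) (iv1 F412945) F412948 (iv3 F387209) F387210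
def n211191 : Q := act 0 n141198
theorem D211191 : act 0 n141198 = n211191 := rfl
theorem F460547 : act 4 n211191 = n209202 := d20_8 (iv4 F453819) (iv1 F453822) F408368 (iv3 F447583) (iv1 F447587) (iv3 F460539) F460540 D211191 F452699 F219615
theorem F460548 : act 2 n210657 = n211191 := d15_3 (iv0 D211191) (iv0 F387210) (iv7 F458359)
theorem F460549 : act 7 n211191 = n210686 := d4_2 (iv7 F458359) F460548 F458440
theorem E103974 : n210685 = n210657 := ((c15_4 (iv0 D210685) D210686 (iv7 F460549) (iv2 F460548))).symm
theorem F460550 : act 1 n210657 = n139501 := (sb E103974 (iv0 D210685))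
theorem F460551 : act 6 n208781 = n211191 := d14_5 F460549 (iv6 F458439) F369253 D188125 (iv7 F450841)
theorem F460552 : act 1 n210688 = n211191 := d15_1 F458444 F460549 F458440
def n211192 : Q := act 5 n141198
theorem D211192 : act 5 n141198 = n211192 := rfl
theorem F460553 : act 2 n211192 = n210687 := d2_1 D211192 (iv5 D210687) (iv2 F224222)
theorem F460554 : act 3 n211192 = n203736 := d6_1 D211192 (iv5 F460528) F460526
theorem F460555 : act 6 n211192 = n202545 := d12_2 D141198 D211192 (iv5 D202545) (iv6 D115948) (iv5 F181569)
def n211193 : Q := act 7 n141198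
theorem D211193 : act 7 n141198 = n211193 := rfl
theorem F460556 : act 2 n211193 = n210688 := d4_1 D211193 (iv7 D210688) (iv2 F224222)
theorem F460557 : act 3 n211193 = n194658 := d8_1 D211193 (iv7 F460529) F460526
theorem F460558 : act 6 n211193 = n210672 := d14_1 D211193 (iv7 D210672) (iv6 D139490) (iv7 F183036) D141198
theorem F460559 : act 1 n210686 = n211193 := d15_1 D210686 (iv7 D211193) F224222
theorem F460560 : act 1 n211193 = n210657 := d15_1 F460559 F458359 (iv2 F458440)
def n211194 : Q := act 2 n141199
theorem D211194 : act 2 n141199 = n211194 := rfl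
theorem F460561 : act 3 n211194 = n210664 := d0_2 D141199 D211194 F458377 F222674 F183037
theorem F460562 : act 5 n211194 = n202547 := d2_2 (iv5 F224223) D211194 (iv2 D202547)
theorem F460563 : act 7 n211194 = n210676 := d4_2 (iv7 F224224) D211194 F458423
theorem F460564 : act 1 n211194 = n210678 := d15_0 (iv0 D210678) (iv7 F224224) D211194
theorem F460565 : act 1 n210615 = n211194 := d15_0 F460564 (iv7 F460509) F460507
def n211195 : Q := act 6 n141199
theorem D211195 : act 6 n141199 = n211195 := rfl
theorem F460566 : act 3 n211195 = n141201 := d7_1 D211195 (iv6 D141201) D141199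
def n211196 : Q := act 5 n141200
theorem D211196 : act 5 n141200 = n211196 := rfl
theorem F460567 : act 2 n211196 = n199772 := d2_1 D211196 F413429 (iv2 F224225)
theorem F460568 : act 4 n211196 = n141479 := d9_1 D211196 (iv5 D141479) D141478 F224540 (iv4 D115946) (iv5 F181569) D141197 D211189 F460535 (iv5 D141482) F181560 (iv5 D67719) F84355 (iv5 F181556) D141200
theorem F460569 : act 7 n211196 = n210683 := d13_2 (iv7 F224226) D211196 (iv5 D210683)
theorem F460570 : act 1 n211196 = n208846 := d17_6 (iv1 F180564) (iv5 D65468) (iv1 F84359) (iv5 F181556) D141200 D211196 (iv5 F458914) F458916 (iv4 F407558)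
def n211197 : Q := act 6 n141200
theorem D211197 : act 6 n141200 = n211197 := rfl
theorem F460571 : act 2 n211197 = n210669 := d3_1 D211197 (iv6 D210669) (iv2 F224225)
theorem F460572 : act 4 n211197 = n141201 := d10_1 D211197 (iv6 D141201) D141200
def n211198 : Q := act 0 n141201
theorem D211198 : act 0 n141201 = n211198 := rfl
def n211199 : Q := act 1 n141201
theorem D211199 : act 1 n141201 = n211199 := rfl
theorem F460573 : act 1 n211199 = n210672 := d15_1 D211199 (iv7 D210672) (iv2 F224227)
theorem F460574 : act 6 n191749 = n211199 := d21_3 (iv5 F310661) (iv1 F197499) (iv5 F384342) (iv1 D211199) (iv6 D141201) F181556 (iv1 D53459) D53461 D115958 (iv1 F364539)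
theorem F460575 : act 2 n211199 = n210634 := d3_1 F460574 F458280 (iv2 F384341)
theorem F460576 : act 7 n211199 = n210670 := d14_2 D191749 F460574 F458403 (iv7 F387228) F252624
theorem F460577 : act 2 n210670 = n211198 := d15_3 (iv0 D211198) D211199 F460576
theorem F460578 : act 7 n210634 = n211198 := d4_2 (iv7 F460576) F460575 (iv2 F460577)
theorem F460579 : act 3 n211198 = n141234 := d8_1 F460578 F343249 D210634
theorem F460580 : act 1 n210672 = n211198 := d15_1 F460573 (iv7 F460578) (iv2 F460575)
def n211200 : Q := act 5 n141201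
theorem D211200 : act 5 n141201 = n211200 := rfl
theorem F460581 : act 2 n211200 = n210671 := d2_1 D211200 (iv5 D210671) (iv2 F224227)
theorem F460582 : act 6 n211200 = n202549 := d12_2 D141201 D211200 (iv5 D202549) (iv6 D115952) (iv5 F181556)
def n211201 : Q := act 7 n141201
theorem D211201 : act 7 n141201 = n211201 := rfl
theorem F460583 : act 2 n211201 = n210672 := d4_1 D211201 (iv7 D210672) (iv2 F224227)
theorem F460584 : act 6 n211201 = n210688 := d14_1 D211201 (iv7 D210688) (iv6 D139501) F183039 D141201
theorem F460585 : act 1 n210634 = n211201 := d15_1 (iv0 F458281) (iv7 D211201) F224227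
theorem F460586 : act 1 n211201 = n210670 := d15_1 F460585 (iv7 F460576) F460575
def n211202 : Q := act 3 n141202
theorem D211202 : act 3 n141202 = n211202 := rfl
theorem F460587 : act 7 n211202 = n210829 := d8_2 F224230 D211202 (iv3 D210829)
theorem F460588 : act 0 n211202 = n146940 := d20_4 (iv4 F372568) F224428 (iv4 F224228) D211202 (iv3 F407508) F407452 (iv1 F325622) (iv4 F409147) F409146 (iv1 F372566)
theorem F460589 : act 5 n208204 = n211202 := d13_3 F460587 F458942 F448346
def n211203 : Q := act 5 n141202
theorem D211203 : act 5 n141202 = n211203 := rfl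
theorem F460590 : act 2 n211203 = n210703 := d2_1 D211203 F458496 F224229
theorem F460591 : act 3 n211203 = n208204 := d6_1 D211203 F460589 (iv3 D211202)
theorem F460592 : act 7 n211203 = n210702 := d13_2 F224230 D211203 F458491
theorem F460593 : act 4 n211203 = n141471 := d16_2 (iv4 F224228) D211203 (iv5 D141471) (iv4 D66372) (iv5 F181554) D53478 D116016 F180760 F180696
theorem F460594 : act 0 n211203 = n202592 := d17_2 D141202 D211203 F424659 (iv4 D139506) (iv5 D65468) F84354 (iv5 F181569) (iv0 D66233) D66235
theorem F460595 : act 1 n211203 = n202558 := d17_6 (iv1 F424540) (iv5 D202566) (iv1 D115995) D115997 (iv4 F224228) D211203 (iv5 D202558) D202557 (iv4 F424484)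
theorem F460596 : act 6 n211203 = n209383 := d21_3 (iv5 D141204) D141202 D211203 (iv1 D209383) F361544 (iv5 D66332) F49553 D67111 D143248 F385290
def n211204 : Q := act 6 n141202
theorem D211204 : act 6 n141202 = n211204 := rfl
theorem F460597 : act 2 n211204 = n210854 := d3_1 D211204 (iv6 D210854) F224229
theorem F460598 : act 4 n211204 = n202569 := d10_1 D211204 (iv6 D202569) (iv4 F224228)
def n211205 : Q := act 5 n141203
theorem D211205 : act 5 n141203 = n211205 := rfl
theorem F460599 : act 2 n211205 = n210702 := d2_1 D211205 F458491 F224233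
theorem F460600 : act 4 n211205 = n141461 := d9_1 D211205 (iv5 D141461) (iv4 D66367) (iv5 F181543) D53473 D115997 (iv4 F224228) D211203 F460593 (iv5 D141471) (iv4 D66372) (iv5 F181554) D53478 D116016 (iv4 F224232)
theorem F460601 : act 7 n211205 = n210703 := d13_2 (iv7 F224231) D211205 F458496
theorem F460602 : act 0 n211205 = n202558 := d17_2 F424924 D211205 (iv5 D202558) (iv4 D115957) (iv5 D53461) D53459 (iv5 F181556) F181208 D202647
theorem F460603 : act 1 n211205 = n202592 := d17_6 (iv1 F424535) (iv5 D202565) (iv1 F180625) D116016 (iv4 F224232) D211205 F424659 F424479 F424478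
def n211206 : Q := act 6 n141203
theorem D211206 : act 6 n141203 = n211206 := rfl
theorem F460604 : act 2 n211206 = n210830 := d3_1 D211206 (iv6 D210830) F224233
theorem F460605 : act 3 n211206 = n152771 := d7_1 D211206 F372992 (iv3 F372990)
theorem F460606 : act 4 n211206 = n152773 := d10_1 D211206 F363776 (iv4 F224232)
theorem F460607 : act 7 n203352 = n211206 := d11_0 F460606 (iv7 F420605) (iv4 F428008)
def n211207 : Q := act 0 n141208
theorem D211207 : act 0 n141208 = n211207 := rfl
theorem F460608 : act 5 n211207 = n188601 := d17_1 D211207 (iv1 F374170) (iv5 F384464) (iv4 F451950) F451951 F384216 F396386 (iv0 F396387) F365492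
theorem F460609 : act 3 n211207 = n183477 := d20_5 F167993 (iv1 F167602) (iv4 F329153) (iv3 F224235) D211207 F399464 (iv1 D196112) F164300 F98714 D63402
theorem F460610 : act 2 n188605 = n211207 := d15_3 (iv0 D211207) (iv0 F367655) (iv7 F374178)
theorem F460611 : act 7 n211207 = n183467 := d4_2 (iv7 F374178) F460610 (iv2 F367653)
def n211208 : Q := act 1 n141216
theorem D211208 : act 1 n141216 = n211208 := rfl
theorem F460612 : act 7 n211208 = n210250 := d15_2 (iv0 F460518) D211208 (iv2 F460514)
theorem F460613 : act 3 n141252 = n211208 := d19_19 (iv1 D211208) F375185 (iv4 D188912) (iv3 F335953) (iv1 D146420) (iv5 F335950) F335949 (iv3 F318924) D188046 F387476 (iv4 F347975) (iv3 F425154) F425152 (iv5 F354088) (iv4 F394308) (iv3 F394309) (iv1 F225866) (iv5 F321296) (iv4 F353575)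
theorem F460614 : act 4 n211208 = n192193 := d5_2 (iv4 F353575) F460613 F385941 F153709 (iv3 F153698)
theorem F460615 : act 6 n211208 = n192177 := d7_2 F353579 F460613 (iv3 D192177)
theorem F460616 : act 0 n194698 = n211208 := d20_4 F360197 F394149 F394146 (iv3 F394141) (iv3 F460613) F353575 D192179 (iv4 F456593) (iv3 F456597) (iv1 F375944)
def n211209 : Q := act 2 n141216
theorem D211209 : act 2 n141216 = n211209 := rfl
theorem F460617 : act 3 n211209 = n194702 := d0_2 D141216 D211209 F394151 F348157 F348154
theorem F460618 : act 5 n211209 = n194773 := d2_2 (iv5 F375185) D211209 F394407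
theorem F460619 : act 7 n211209 = n194698 := d4_2 F460523 D211209 (iv2 F460519)
theorem F460620 : act 1 n210250 = n211209 := d15_1 (iv0 F460524) F460619 (iv2 F460519)
def n211210 : Q := act 4 n141216
theorem D211210 : act 4 n141216 = n211210 := rfl
theorem F460621 : act 3 n211210 = n142455 := d5_1 D211210 (iv4 D142455) (iv3 F340832) F340833 D141216
theorem F460622 : act 7 n211210 = n142565 := d11_2 F460523 D211210 (iv4 F460520)
theorem F460623 : act 5 n211210 = n198430 := d16_7 F380621 (iv5 D188901) F143275 D92901 D188912 (iv5 F375185) D211210 F407990 (iv2 F380619)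
theorem F460624 : act 1 n211210 = n199700 := d18_6 (iv1 F452841) F452838 (iv1 D188911) D188912 (iv5 F375185) D211210 (iv4 F413196) (iv0 D141288) D141291
theorem F460625 : act 0 n211210 = n199694 := d20_1 D211210 (iv4 F413149) (iv3 F380082) (iv1 D100246) (iv3 F154222) (iv4 F385888) (iv1 D192180) (iv4 F353575) F460613 (iv1 D211208)
theorem F460626 : act 0 n191068 = n198430 := d19_0 (iv5 F460623) (iv4 D211210) (iv3 D141216) (iv1 D66238) D66239 (iv4 F324065) F327578 (iv1 D64621) (iv5 F327035) F54328 (iv3 D13555) D13553 D28396 F317116 (iv3 F316808) (iv1 D45422) D45423 D97206 D191068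
def n211211 : Q := act 6 n141216
theorem D211211 : act 6 n141216 = n211211 := rfl
theorem F460627 : act 3 n211211 = n141219 := d7_1 D211211 (iv6 D141219) D141216
theorem F460628 : act 5 n211211 = n187016 := d12_1 D211211 (iv6 D187016) (iv5 F365789) (iv6 F375184) (iv5 F375185)
def n211212 : Q := act 5 n141219
theorem D211212 : act 5 n141219 = n211212 := rfl
theorem F460629 : act 3 n211212 = n187016 := d6_1 D211212 (iv5 F460628) F460627
theorem F460630 : act 6 n211212 = n187015 := d12_2 D141219 D211212 F368842 F359591 F363446
def n211213 : Q := act 3 n141221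
theorem D211213 : act 3 n141221 = n211213 := rfl
theorem F460631 : act 4 n211213 = n206137 := d5_2 (iv4 F324061) D211213 (iv3 D206137) (iv4 D127472) F114799
theorem F460632 : act 7 n211213 = n195573 := d8_2 (iv7 F324062) D211213 (iv3 D195573)
def n211214 : Q := act 5 n141221
theorem D211214 : act 5 n141221 = n211214 := rfl
theorem F460633 : act 2 n211214 = n195146 := d2_1 D211214 F395969 (iv2 F324060)
theorem F460634 : act 4 n211214 = n144876 := d9_1 D211214 (iv5 D144876) (iv4 D67908) (iv5 F54336) D48887 (iv5 F114802) (iv4 F324057) (iv5 F363453) F200674 (iv5 F321487) (iv4 D67905) F54342 (iv4 F77064) (iv5 F114797) (iv4 F324061)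
theorem F460635 : act 6 n211214 = n150906 := d12_2 F367640 D211214 (iv5 F334423) (iv6 F334422) D186677
theorem F460636 : act 7 n211214 = n156474 := d13_2 (iv7 F324062) D211214 (iv5 F363451)
theorem F460637 : act 0 n211214 = n195137 := d17_2 (iv1 F324059) D211214 (iv5 D195137) (iv4 D105321) (iv5 D48694) F50300 (iv5 F103977) (iv0 D67902) D67903
theorem F460638 : act 1 n211214 = n195148 := d17_6 (iv1 F163282) (iv5 D68717) (iv1 F77066) (iv5 F114797) (iv4 F324061) D211214 F395981 F395911 F395910
def n211215 : Q := act 4 n141224
theorem D211215 : act 4 n141224 = n211215 := rfl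
theorem F460639 : act 2 n211215 = n141225 := d1_1 D211215 (iv4 D141225) D141224
theorem F460640 : act 3 n211215 = n209627 := d5_1 D211215 F454373 F446574 F446166 (iv3 F224243)
theorem F460641 : act 7 n211215 = n210609 := d11_2 (iv7 F224245) D211215 (iv4 D210609)
theorem F460642 : act 0 n211215 = n210618 := d18_2 (iv1 F224246) D211215 F458231 (iv5 D210040) (iv4 D137341) F218887 F218884 F171616 (iv5 F225853)
theorem F460643 : act 0 n209589 = n211215 := d20_7 D199056 (iv1 F458920) (iv4 D210824) F223166 D139938 (iv3 F455874) F455877 (iv4 D211215) F224243 (iv1 F224265)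
def n211216 : Q := act 6 n141224
theorem D211216 : act 6 n141224 = n211216 := rfl
theorem F460644 : act 2 n211216 = n141226 := d3_1 D211216 (iv6 D141226) D141224
theorem F460645 : act 3 n211216 = n207724 := d7_1 D211216 (iv6 F446164) (iv3 F224243)
theorem F460646 : act 0 n211216 = n209569 := d21_4 F395998 (iv1 F180515) (iv5 F224244) D211216 (iv6 D209569) F219788 (iv1 F219483) (iv5 F337459) (iv6 D111742) D111739
theorem F460647 : act 1 n211216 = n209582 := d15_1 (iv0 F460646) (iv7 D209582) (iv2 F454174)
theorem F460648 : act 7 n209580 = n211216 := d8_0 F460645 F446161 F454220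
def n211217 : Q := act 1 n141225
theorem D211217 : act 1 n141225 = n211217 := rfl
theorem F460649 : act 1 n211217 = n210609 := d15_1 D211217 (iv7 F460641) F460639
theorem F460650 : act 7 n211217 = n210618 := d15_2 (iv0 F460455) D211217 (iv2 F460451)
theorem F460651 : act 4 n208246 = n211217 := d20_6 F80652 D51432 F81204 (iv3 F168907) F355996 (iv3 F448563) (iv1 D211217) (iv4 D141225) (iv3 D66241) (iv1 F80655)
theorem F460652 : act 2 n211217 = n209589 := d1_1 F460651 (iv4 F455877) F455873
theorem F460653 : act 6 n209571 = n211217 := d3_0 F460652 (iv6 D209589) (iv2 F454188)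
def n211218 : Q := act 5 n141225
theorem D211218 : act 5 n141225 = n211218 := rfl
theorem F460654 : act 3 n211218 = n198279 := d6_1 D211218 F407448 (iv3 F224249)
theorem F460655 : act 7 n211218 = n210619 := d13_2 (iv7 F224250) D211218 (iv5 D210619)
theorem F460656 : act 4 n211218 = n201376 := d16_2 D141225 D211218 (iv5 F456016) (iv4 D210065) F220606 F218687 D139442 (iv7 F224245) (iv2 D141224)
theorem F460657 : act 1 n211218 = n209560 := d17_6 (iv1 F410215) F410217 (iv1 D115934) (iv5 F101831) D141225 D211218 (iv5 D209560) (iv0 F413445) F413442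
def n211219 : Q := act 1 n141226
theorem D211219 : act 1 n141226 = n211219 := rfl
theorem F460658 : act 1 n211219 = n209580 := d15_1 D211219 F460648 F460644
theorem F460659 : act 7 n211219 = n209569 := d15_2 (iv0 F387712) D211219 F454174
theorem F460660 : act 4 n211219 = n192770 := d18_7 F374092 (iv4 F374091) (iv1 D188584) D188585 F419901 (iv4 F449430) D211219 (iv0 D192770) (iv5 F368492)
theorem F460661 : act 6 n209575 = n211219 := d10_0 F460660 F457734 (iv4 F454204)
theorem F460662 : act 2 n209582 = n211219 := d4_3 F460659 F454174 D209582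
def n211220 : Q := act 7 n141226
theorem D211220 : act 7 n141226 = n211220 := rfl
theorem F460663 : act 2 n211220 = n209580 := d4_1 D211220 F460648 F460644
theorem F460664 : act 3 n211220 = n141230 := d8_1 D211220 (iv7 D141230) (iv3 F224251)
theorem F460665 : act 6 n211220 = n210621 := d14_1 D211220 (iv7 D210621) (iv6 D139447) (iv7 F101832) D141226
theorem F460666 : act 1 n209582 = n211220 := d15_1 F460647 (iv7 D211220) (iv2 F460644)
theorem F460667 : act 1 n211220 = n209569 := d15_1 F460666 (iv7 F460659) (iv2 F460662)
def n211221 : Q := act 0 n141229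
theorem D211221 : act 0 n141229 = n211221 := rfl
theorem F460668 : act 5 n211221 = n204228 := d21_2 D141229 D211221 F431563 (iv1 F216354) (iv6 F350362) (iv5 D98429) (iv1 F345088) D188076 F372257 (iv1 D141228)
theorem F460669 : act 6 n211221 = n207526 := d21_5 F246042 (iv1 F111700) D115937 (iv6 F224254) D211221 F445298 (iv1 F211400) D134258 (iv6 F356528) F246043
theorem F460670 : act 2 n204643 = n211221 := d3_3 F460669 F445297 (iv6 F433106)
theorem F460671 : act 7 n204137 = n211221 := d14_0 F460669 (iv7 D207526) (iv6 F429535) F429532 D204137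
theorem F460672 : act 0 n211221 = n210660 := d21_10 F458366 (iv1 F224252) (iv5 F383539) (iv6 D191478) (iv1 F369210) F369213 (iv5 D134256) (iv1 F211401) (iv5 F445298) (iv6 F460669)
def n211222 : Q := act 1 n141229
theorem D211222 : act 1 n141229 = n211222 := rfl
theorem F460673 : act 1 n211222 = n210660 := d15_1 D211222 (iv7 D210660) (iv2 F224253)
theorem F460674 : act 7 n211222 = n204643 := d15_2 (iv0 D211221) D211222 F460670
theorem F460675 : act 5 n211222 = n199079 := d17_7 F436647 (iv5 D205486) F365132 F223788 (iv4 F101834) D141229 D211222 F410564 (iv4 F409220)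
theorem F460676 : act 6 n203717 = n211222 := d21_3 F431145 F431066 (iv5 F429527) (iv1 D211222) F224254 (iv5 D115937) F84349 D111213 (iv6 F356526) D204129
theorem F460677 : act 2 n211222 = n204137 := d3_1 F460676 (iv6 D204137) F429528
def n211223 : Q := act 4 n141229
theorem D211223 : act 4 n141229 = n211223 := rfl
theorem F460678 : act 2 n211223 = n210659 := d1_1 D211223 (iv4 D210659) (iv2 F224253)
theorem F460679 : act 3 n211223 = n204001 := d5_1 D211223 (iv4 D204001) (iv3 F364395) D191729 (iv3 F449433)
theorem F460680 : act 6 n211223 = n202535 := d10_2 (iv6 F224254) D211223 (iv4 D202535)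
theorem F460681 : act 0 n204026 = n211223 := d20_4 (iv4 D98167) (iv1 F301691) (iv4 F304427) D204026 F460679 (iv4 D204001) F195849 D192297 F387148 (iv1 D191374)
def n211224 : Q := act 7 n141229
theorem D211224 : act 7 n141229 = n211224 := rfl
theorem F460682 : act 2 n211224 = n210660 := d4_1 D211224 (iv7 D210660) (iv2 F224253)
theorem F460683 : act 5 n211224 = n141230 := d13_1 D211224 (iv7 D141230) D141229
theorem F460684 : act 1 n204137 = n211224 := d15_1 F431168 (iv7 D211224) F224253
theorem F460685 : act 1 n211224 = n204643 := d15_1 F460684 (iv7 F460674) F460677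
def n211225 : Q := act 6 n141231
theorem D211225 : act 6 n141231 = n211225 := rfl
theorem F460686 : act 2 n211225 = n141233 := d3_1 D211225 (iv6 D141233) D141231
theorem F460687 : act 3 n211225 = n210610 := d7_1 D211225 (iv6 D210610) (iv3 F224261)
theorem F460688 : act 7 n211225 = n209598 := d14_2 (iv7 F224263) D211225 (iv6 D209598) (iv7 F446161) (iv6 F446164)
theorem F460689 : act 5 n209544 = n211225 := d21_2 D136593 D209544 (iv6 D211225) (iv1 F359148) (iv6 D136689) D136688 F407350 D206810 F442273 (iv1 D136592)
theorem F460690 : act 0 n209630 = n211225 := d21_4 (iv5 D85905) D85902 (iv5 F318995) D209630 (iv6 D211225) F224262 (iv1 F180527) (iv5 F180528) (iv6 F338281) (iv1 F236301)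
def n211226 : Q := act 6 n141232
theorem D211226 : act 6 n141232 = n211226 := rfl
theorem F460691 : act 3 n211226 = n201784 := d7_1 D211226 F421795 F413240
theorem F460692 : act 4 n211226 = n141233 := d10_1 D211226 (iv6 D141233) D141232
theorem F460693 : act 7 n211226 = n207722 := d14_2 (iv7 F224268) D211226 (iv6 D207722) F445859 (iv6 F446147)
theorem F460694 : act 0 n209360 = n211226 := d21_4 (iv5 D129454) D129451 F355266 D209360 (iv6 D211226) (iv5 F448988) (iv1 F454760) F454762 F443098 (iv1 F388474)
theorem F460695 : act 5 n206912 = n211226 := d21_8 F411143 F221246 F338277 (iv6 D129456) F95397 D62188 D132555 (iv1 F442584) (iv6 D211226) (iv1 F411144)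
def n211227 : Q := act 5 n141233
theorem D211227 : act 5 n141233 = n211227 := rfl
theorem F460696 : act 2 n211227 = n209544 := d2_1 D211227 F460689 F460686
theorem F460697 : act 3 n211227 = n141236 := d6_1 D211227 (iv5 D141236) (iv3 F224269)
theorem F460698 : act 6 n211227 = n202540 := d12_2 D141233 D211227 (iv5 D202540) (iv6 D115941) (iv5 F101835)
theorem F460699 : act 0 n211227 = n209547 := d17_2 F421842 D211227 F454092 (iv4 F453313) F453314 F421861 (iv5 F419300) F419302 D201803
theorem F460700 : act 1 n211227 = n209178 := d17_6 (iv1 D132554) D132555 (iv1 F442584) F460695 F460692 D211227 (iv5 D209178) F446924 (iv4 D207897)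
theorem F460701 : act 7 n209545 = n211227 := d15_2 (iv0 D209544) D209545 F460696
def n211228 : Q := act 7 n141233
theorem D211228 : act 7 n141233 = n211228 := rfl
theorem F460702 : act 2 n211228 = n209598 := d4_1 D211228 (iv7 F460688) F460686
theorem F460703 : act 3 n211228 = n141237 := d8_1 D211228 (iv7 D141237) (iv3 F224269)
theorem F460704 : act 4 n211228 = n207722 := d11_1 D211228 (iv7 F460693) F460692
theorem F460705 : act 5 n211228 = n209545 := d13_1 D211228 F460701 (iv5 D211227)
theorem F460706 : act 6 n211228 = n207720 := d14_1 D211228 (iv7 F446143) F364002 (iv7 F101836) D141233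
theorem F460707 : act 1 n209630 = n211228 := d15_1 (iv0 F460690) (iv7 D211228) (iv2 F460686)
def n211229 : Q := act 5 n141234
theorem D211229 : act 5 n141234 = n211229 := rfl
theorem F460708 : act 2 n211229 = n177955 := d2_1 D211229 F343252 (iv2 F343250)
theorem F460709 : act 6 n211229 = n177931 := d12_2 F431141 D211229 F341424 (iv6 F341425) (iv5 F431140)
theorem F460710 : act 7 n211229 = n177761 := d13_2 (iv7 F343249) D211229 (iv5 F343237)
theorem F460711 : act 1 n211229 = n177953 := d17_6 F409192 F375162 D192938 (iv5 F412929) F412925 D211229 F447659 (iv0 F447658) (iv4 F409189)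
theorem F460712 : act 0 n211229 = n177954 := d21_1 D211229 (iv5 F457939) (iv6 D210529) (iv1 D139334) (iv6 D65396) (iv5 D30666) (iv1 F40924) (iv5 F49391) D66244 D141234
def n211230 : Q := act 0 n141236
theorem D211230 : act 0 n141236 = n211230 := rfl
theorem F460713 : act 5 n211230 = n199773 := d21_2 D141236 D211230 (iv6 D199773) (iv1 D111716) F337483 (iv5 D27599) D27596 D57808 D124070 F343242
theorem F460714 : act 2 n210635 = n211230 := d2_3 F460713 F413435 (iv5 F458282)
theorem F460715 : act 1 n210638 = n211230 := d17_6 (iv1 D199769) D199770 F413419 (iv5 F412430) F412429 (iv5 F458286) F460713 (iv0 F413437) F413414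
theorem F460716 : act 6 n211230 = n208852 := d21_3 (iv5 D210707) F413437 (iv5 F460713) (iv1 F451123) (iv6 F431452) (iv5 D204199) (iv1 F360535) (iv5 F431127) F431128 F458514
theorem F460717 : act 7 n210636 = n211230 := d15_2 (iv0 D210635) D210636 (iv2 F460714)
def n211231 : Q := act 1 n141236
theorem D211231 : act 1 n141236 = n211231 := rfl
theorem F460718 : act 1 n211231 = n210638 := d15_1 D211231 (iv7 D210638) (iv2 F224271)
theorem F460719 : act 7 n211231 = n210635 := d15_2 (iv0 D211230) D211231 F460714
theorem F460720 : act 5 n199793 = n211231 := d21_6 (iv5 D14653) D14651 (iv5 F39266) D51520 D111743 D199793 (iv1 D211231) (iv5 D141236) (iv6 D66244) (iv1 D30955)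
theorem F460721 : act 6 n211231 = n177999 := d12_2 D199793 F460720 (iv5 F341523) (iv6 D135919) (iv5 F357722)
theorem F460722 : act 2 n210636 = n211231 := d3_3 F460721 (iv2 F452629) F458284
def n211232 : Q := act 4 n141236
theorem D211232 : act 4 n141236 = n211232 := rfl
theorem F460723 : act 2 n211232 = n210637 := d1_1 D211232 (iv4 D210637) (iv2 F224271)
theorem F460724 : act 6 n211232 = n202542 := d10_2 (iv6 F224272) D211232 (iv4 D202542)
def n211233 : Q := act 7 n141236
theorem D211233 : act 7 n141236 = n211233 := rfl
theorem F460725 : act 2 n211233 = n210638 := d4_1 D211233 (iv7 D210638) (iv2 F224271)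
theorem F460726 : act 3 n211233 = n209545 := d8_1 D211233 F460701 F460697
theorem F460727 : act 5 n211233 = n141237 := d13_1 D211233 (iv7 D141237) D141236
theorem F460728 : act 6 n211233 = n177980 := d14_1 D211233 F457429 (iv6 D210410) F221803 (iv6 F224272)
theorem F460729 : act 1 n210636 = n211233 := d15_1 D210636 (iv7 D211233) F224271
theorem F460730 : act 1 n211233 = n210635 := d15_1 F460729 (iv7 F460719) (iv2 F460722)
def n211234 : Q := act 1 n141256
theorem D211234 : act 1 n141256 = n211234 := rfl
theorem F460731 : act 1 n211234 = n192287 := d15_1 D211234 F386314 F357358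
theorem F460732 : act 7 n211234 = n192289 := d15_2 (iv0 F457339) D211234 (iv2 F457335)
theorem F460733 : act 5 n211234 = n188682 := d18_9 F374440 (iv4 F393055) F393058 F289386 (iv5 F352993) F352996 (iv0 F365490) F365489 D211234
theorem F460734 : act 4 n192491 = n211234 := d20_0 (iv1 D211234) (iv4 F365489) F184224 (iv1 F328848) D115383 F179672 F352786 F353002 F353001 (iv1 F386805)
theorem F460735 : act 3 n188083 = n211234 := d20_3 F349185 D203604 F429070 (iv1 D211234) F224283 (iv4 F171638) (iv1 D110821) (iv4 F80882) (iv3 F172413) F349187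
theorem F460736 : act 2 n211234 = n192288 := d0_1 F460735 (iv3 F387970) (iv2 F386639) (iv3 D192395) F372282
def n211235 : Q := act 4 n141262
theorem D211235 : act 4 n141262 = n211235 := rfl
theorem F460737 : act 3 n211235 = n195926 := d5_1 D211235 (iv4 F415390) (iv3 F415396) (iv4 F415397) F415398
theorem F460738 : act 7 n211235 = n195920 := d11_2 (iv7 F410455) D211235 (iv4 F410451)
theorem F460739 : act 5 n211235 = n208630 := d17_5 (iv1 F453049) (iv5 F453051) F442161 F442159 D211235 (iv0 F450250) (iv5 F455577) F456863 F456862
theorem F460740 : act 0 n211235 = n196759 := d18_2 (iv1 F357365) D211235 (iv4 F452872) (iv5 D209244) (iv4 F362705) F437987 F437985 F362695 D138022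
theorem F460741 : act 1 n211235 = n196313 := d18_6 (iv1 F364963) (iv4 F438287) F442080 (iv4 F442158) F442159 D211235 (iv4 F452862) (iv0 F452865) (iv5 F411104)
def n211236 : Q := act 6 n141263
theorem D211236 : act 6 n141263 = n211236 := rfl
theorem F460742 : act 2 n211236 = n141265 := d3_1 D211236 (iv6 D141265) D141263
theorem F460743 : act 3 n211236 = n210251 := d7_1 D211236 (iv6 D210251) (iv3 F357363)
theorem F460744 : act 7 n211236 = n192978 := d14_2 F357361 D211236 (iv6 D192978) (iv7 F285853) (iv6 F357359)
theorem F460745 : act 0 n211236 = n174458 := d21_4 F221327 (iv1 F360531) (iv5 F357364) D211236 (iv6 F364901) (iv5 D154110) (iv1 F301980) (iv5 F328498) (iv6 F442715) F442718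
theorem F460746 : act 0 n210011 = n211236 := d21_4 F457120 F413726 F220780 D210011 (iv6 D211236) F357364 F360530 D136227 (iv6 F406425) (iv1 F457123)
def n211237 : Q := act 0 n141265
theorem D211237 : act 0 n141265 = n211237 := rfl
theorem F460747 : act 5 n211237 = n191429 := d19_1 D211237 (iv4 D191429) F151775 (iv1 F135276) (iv5 D88335) F62452 (iv3 F62453) F69230 (iv5 D44006) F63116 (iv3 F62357) F68147 (iv5 F325464) (iv4 F163794) F163793 F211964 F211960 F171717 (iv3 F224289)
theorem F460748 : act 6 n211237 = n204149 := d21_5 F453056 (iv1 F219263) (iv5 F362701) D141265 D211237 (iv5 D204149) F397614 F397613 (iv6 F427280) (iv1 F453058)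
theorem F460749 : act 2 n174458 = n211237 := d3_3 F460748 F431202 F364901
theorem F460750 : act 7 n210011 = n211237 := d14_0 F460748 (iv7 F456972) F456971 F221407 D210011
theorem F460751 : act 0 n211237 = n192978 := d21_4 F328876 D122993 D204149 (iv6 F460748) (iv6 D192978) (iv5 D101055) (iv1 D47079) D47080 (iv6 F155721) (iv1 F364471)
theorem F460752 : act 4 n211237 = n174585 := d1_2 (iv4 F273333) F460749 (iv2 D174585)
def n211238 : Q := act 1 n141265
theorem D211238 : act 1 n141265 = n211238 := rfl
theorem F460753 : act 1 n211238 = n192978 := d15_1 D211238 (iv7 F460744) F460742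
theorem F460754 : act 7 n211238 = n174458 := d15_2 (iv0 D211237) D211238 F460749
theorem F460755 : act 3 n174460 = n211238 := d20_3 (iv4 F144144) F358736 (iv4 F273334) (iv1 D211238) F224289 (iv4 F171717) F211965 F332919 (iv3 F358763) (iv1 D93445)
theorem F460756 : act 4 n174587 = n211238 := d20_6 (iv4 D196252) F245360 F245356 F332381 (iv1 F271718) (iv3 F273440) (iv1 D211238) (iv4 F401464) F401463 (iv1 F400066)
theorem F460757 : act 6 n198687 = n211238 := d21_3 F438498 (iv1 F452980) F452983 (iv1 D211238) (iv6 D141265) F362701 (iv1 D64891) D64892 (iv6 F204039) D205940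
theorem F460758 : act 2 n211238 = n210011 := d3_1 F460757 (iv6 D210011) F408869
theorem F460759 : act 5 n211238 = n191431 := d12_1 F460757 F451210 F399183 F452984 F452983
def n211239 : Q := act 5 n141265
theorem D211239 : act 5 n141265 = n211239 := rfl
theorem F460760 : act 3 n211239 = n141268 := d6_1 D211239 (iv5 D141268) (iv3 F224289)
theorem F460761 : act 6 n211239 = n207932 := d12_2 D141265 D211239 (iv5 D207932) F362702 (iv5 F362701)
theorem F460762 : act 1 n211239 = n191436 := d17_8 (iv1 D98350) (iv5 D46014) D46012 D98346 D191429 (iv5 F460747) (iv0 D211237) D211239 (iv4 D191436)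
theorem F460763 : act 4 n211239 = n191327 := d19_2 (iv1 D211238) D211239 F383064 D191328 F383066 F157208 (iv3 F153721) (iv1 F153724) D102641 F337099 (iv3 F223259) F318792 (iv5 D178498) (iv4 D84945) (iv3 F187965) (iv1 F128483) (iv5 F128505) (iv4 F273334) F460755
theorem F460764 : act 0 n211239 = n191434 := d20_7 (iv4 F283640) (iv1 F283641) (iv4 D86995) D86994 (iv1 F352774) (iv3 F383064) (iv4 F460763) (iv4 D191434) F283275 (iv1 F135237)
def n211240 : Q := act 7 n141265
theorem D211240 : act 7 n141265 = n211240 := rfl
theorem F460765 : act 2 n211240 = n192978 := d4_1 D211240 (iv7 F460744) F460742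
theorem F460766 : act 3 n211240 = n141269 := d8_1 D211240 (iv7 D141269) (iv3 F224289)
theorem F460767 : act 6 n211240 = n183984 := d14_1 D211240 F285869 F329688 F224119 D141265
theorem F460768 : act 1 n210011 = n211240 := d15_1 (iv0 F460746) (iv7 D211240) (iv2 F460742)
theorem F460769 : act 1 n211240 = n174458 := d15_1 F460768 (iv7 F460754) F460758
def n211241 : Q := act 4 n141268
theorem D211241 : act 4 n141268 = n211241 := rfl
theorem F460770 : act 3 n211241 = n191329 := d5_1 D211241 (iv4 D191329) (iv3 F383064) (iv4 F460763) F460760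
theorem F460771 : act 6 n211241 = n208396 := d10_2 (iv6 F356528) D211241 (iv4 D208396)
theorem F460772 : act 0 n211241 = n210598 := d18_2 (iv1 F224290) D211241 (iv4 D210598) (iv5 D139425) (iv4 F166275) F166278 F101618 (iv0 F103415) D111213
theorem F460773 : act 1 n211241 = n208336 := d18_6 F411720 F411718 F211963 F171717 D141268 D211241 (iv4 D208336) D208335 F448959
def n211242 : Q := act 1 n141302
theorem D211242 : act 1 n141302 = n211242 := rfl
theorem F460774 : act 1 n211242 = n195290 := d15_1 D211242 F396597 (iv2 F336176)
theorem F460775 : act 7 n211242 = n195392 := d15_2 (iv0 F448554) D211242 (iv2 F448549)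
theorem F460776 : act 5 n211242 = n195298 := d17_7 D106885 D196301 (iv1 F449959) F449957 F396891 (iv5 F360518) D211242 (iv0 D195298) F161968
theorem F460777 : act 2 n195393 = n211242 := d2_3 F460776 (iv2 F396621) (iv5 F405340)
theorem F460778 : act 3 n196728 = n211242 := d6_3 F460776 F396620 D196728
theorem F460779 : act 6 n144442 = n211242 := d21_5 (iv5 F427576) (iv1 D144434) D144435 F227235 D144442 F460776 (iv1 F396622) D195435 (iv6 F432123) (iv1 F432124)
def n211243 : Q := act 6 n141302
theorem D211243 : act 6 n141302 = n211243 := rfl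
theorem F460780 : act 2 n211243 = n195394 := d3_1 D211243 (iv6 D195394) (iv2 F336176)
theorem F460781 : act 3 n211243 = n141304 := d7_1 D211243 (iv6 D141304) D141302
theorem F460782 : act 4 n211243 = n141311 := d10_1 D211243 (iv6 D141311) (iv4 F224324)
def n211244 : Q := act 6 n141303
theorem D211244 : act 6 n141303 = n211244 := rfl
theorem F460783 : act 2 n211244 = n195294 := d3_1 D211244 (iv6 D195294) (iv2 F360500)
theorem F460784 : act 3 n211244 = n195391 := d7_1 D211244 (iv6 D195391) F360501
theorem F460785 : act 4 n211244 = n205936 := d10_1 D211244 (iv6 D205936) F360502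
def n211245 : Q := act 5 n141304
theorem D211245 : act 5 n141304 = n211245 := rfl
theorem F460786 : act 2 n211245 = n197307 := d2_1 D211245 F403915 F396979
theorem F460787 : act 7 n211245 = n197308 := d13_2 F438411 D211245 (iv5 F438413)
theorem F460788 : act 0 n211245 = n144449 := d17_2 (iv1 F397236) D211245 (iv5 D144449) (iv4 D67688) (iv5 F96824) F96828 D129111 (iv0 F207340) (iv4 F397234)
theorem F460789 : act 1 n211245 = n144447 := d17_6 F78236 (iv5 F97394) D133181 F213964 (iv4 F224325) D211245 (iv5 D144447) F162071 F162068
def n211246 : Q := act 3 n141305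
theorem D211246 : act 3 n141305 = n211246 := rfl
theorem F460790 : act 4 n211246 = n141318 := d5_2 D141305 D211246 (iv3 D141318) (iv4 D66292) (iv3 F102192)
theorem F460791 : act 5 n211246 = n205825 := d6_2 (iv5 F360509) D211246 F438010
theorem F460792 : act 6 n211246 = n205807 := d7_2 (iv6 F224326) D211246 (iv3 D205807)
theorem F460793 : act 7 n211246 = n205901 := d8_2 (iv7 F360488) D211246 F438345
theorem F460794 : act 0 n211246 = n206938 := d19_4 F102195 D66287 D141305 D211246 (iv5 D206938) F207665 (iv3 F207661) (iv1 F398762) (iv5 D195931) (iv4 D106439) D106438 D195927 (iv5 F401345) (iv4 D196651) D196650 (iv1 F401341) F179782 F84118 (iv3 F84103)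
def n211247 : Q := act 4 n141306
theorem D211247 : act 4 n141306 = n211247 := rfl
theorem F460795 : act 2 n211247 = n208518 := d1_1 D211247 (iv4 D208518) F224329
theorem F460796 : act 3 n211247 = n211085 := d5_1 D211247 F460049 F399945 (iv4 D196217) F224332
theorem F460797 : act 6 n211247 = n211084 := d10_2 (iv6 F401606) D211247 F460043
theorem F460798 : act 7 n211247 = n195522 := d11_2 (iv7 F224331) D211247 F397210
theorem F460799 : act 5 n211247 = n144442 := d17_5 (iv1 D65429) (iv5 F83826) F168431 (iv5 F224328) D211247 (iv0 D144442) (iv5 D67684) D67683 (iv4 F110995)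
theorem F460800 : act 0 n211247 = n205915 := d17_0 F438401 F403821 (iv5 D156075) F111116 (iv5 F97394) D133182 (iv5 F219986) F224330 D211247
theorem F460801 : act 1 n211247 = n195430 := d18_6 (iv1 D29439) (iv4 F47185) D62189 F164579 (iv5 F224328) D211247 F396989 (iv0 F170837) (iv5 D62200)
def n211248 : Q := act 4 n141308
theorem D211248 : act 4 n141308 = n211248 := rfl
theorem F460802 : act 3 n211248 = n141636 := d5_1 D211248 F350010 (iv3 F350012) F319489 F366347
theorem F460803 : act 6 n211248 = n207917 := d10_2 (iv6 F425005) D211248 F446984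
theorem F460804 : act 7 n211248 = n195497 := d11_2 (iv7 F424311) D211248 (iv4 F424308)
theorem F460805 : act 5 n211248 = n196300 := d18_4 (iv1 F448553) (iv4 F448574) (iv1 F448579) D211248 (iv4 D196300) (iv0 D106885) (iv4 F161968) (iv0 F224914) (iv5 F448551)
def n211249 : Q := act 6 n141309
theorem D211249 : act 6 n141309 = n211249 := rfl
theorem F460806 : act 2 n211249 = n141311 := d3_1 D211249 (iv6 D141311) D141309
theorem F460807 : act 3 n211249 = n192877 := d7_1 D211249 F453174 F453169
theorem F460808 : act 4 n211249 = n195394 := d10_1 D211249 (iv6 D195394) F364299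
theorem F460809 : act 7 n211249 = n192864 := d14_2 F448578 D211249 (iv6 D192864) (iv7 F349221) (iv6 F448575)
def n211250 : Q := act 1 n141311
theorem D211250 : act 1 n141311 = n211250 := rfl
theorem F460810 : act 1 n211250 = n192864 := d15_1 D211250 (iv7 F460809) F460806
theorem F460811 : act 3 n155687 = n211250 := d20_3 F110814 D74063 D155687 (iv1 D211250) F224334 F102197 (iv1 F168240) D135242 F348153 (iv1 D155682)
theorem F460812 : act 6 n211250 = n199382 := d7_2 (iv6 F425036) F460811 (iv3 F425037)
theorem F460813 : act 5 n211250 = n210589 := d21_6 (iv5 F349983) D201498 F420725 D202505 (iv1 F424316) (iv6 F460812) (iv1 D210589) (iv5 D139418) (iv6 D65435) D65431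
def n211251 : Q := act 5 n141311
theorem D211251 : act 5 n141311 = n211251 := rfl
theorem F460814 : act 3 n211251 = n141316 := d6_1 D211251 (iv5 D141316) (iv3 F224334)
def n211252 : Q := act 7 n141311
theorem D211252 : act 7 n141311 = n211252 := rfl
theorem F460815 : act 2 n211252 = n192864 := d4_1 D211252 (iv7 F460809) F460806
theorem F460816 : act 3 n211252 = n141317 := d8_1 D211252 (iv7 D141317) (iv3 F224334)
theorem F460817 : act 6 n211252 = n151378 := d14_1 D211252 (iv7 F349223) F246511 F224138 D141311
def n211253 : Q := act 4 n141316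
theorem D211253 : act 4 n141316 = n211253 := rfl
theorem F460818 : act 5 n211253 = n170659 := d16_3 (iv4 F102197) D141316 D211253 F268125 (iv5 F329398) (iv4 D134881) (iv5 F111913) F111914 (iv2 F102134)
theorem F460819 : act 1 n211253 = n199346 := d18_6 F329709 F222503 F101084 (iv4 F102197) D141316 D211253 (iv4 D199346) (iv0 F386349) (iv5 D192296)
def n211254 : Q := act 3 n141324
theorem D211254 : act 3 n141324 = n211254 := rfl
theorem F460820 : act 4 n211254 = n207677 := d5_2 F447620 D211254 F445967 F442192 (iv3 F447622)
theorem F460821 : act 6 n211254 = n207284 := d7_2 (iv6 F342777) D211254 (iv3 D207284)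
def n211255 : Q := act 3 n141325
theorem D211255 : act 3 n141325 = n211255 := rfl
theorem F460822 : act 5 n211255 = n194701 := d6_2 F410452 D211255 (iv3 F410450)
theorem F460823 : act 6 n211255 = n183475 := d7_2 F364601 D211255 (iv3 F407348)
theorem F460824 : act 0 n211255 = n190737 := d20_10 F436314 (iv1 F436316) F398846 F375981 D208703 (iv3 F456033) F456034 F446735 F446733 D211255
theorem F460825 : act 0 n183433 = n211255 := d20_4 (iv4 D121371) F88618 D105763 F360923 (iv3 D211255) (iv4 F446733) (iv1 F446734) (iv4 F426411) (iv3 D202965) (iv1 F193609)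
def n211256 : Q := act 6 n141332
theorem D211256 : act 6 n141332 = n211256 := rfl
theorem F460826 : act 2 n211256 = n142738 := d3_1 D211256 (iv6 D142738) (iv2 F224348)
theorem F460827 : act 3 n211256 = n145653 := d7_1 D211256 F404006 (iv3 F224349)
theorem F460828 : act 4 n211256 = n142735 := d10_1 D211256 (iv6 D142735) F224347
theorem F460829 : act 7 n211256 = n204961 := d14_2 (iv7 F224346) D211256 (iv6 D204961) (iv7 F315149) F325038
theorem F460830 : act 0 n211256 = n141363 := d21_10 F404272 (iv1 F404271) F357030 (iv6 D153584) (iv1 F109145) F322609 D139807 (iv1 F458809) F458811 D211256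
theorem F460831 : act 0 n141368 = n211256 := d21_4 (iv5 D195521) (iv1 F166983) D197248 F403723 (iv6 D211256) (iv5 F458811) (iv1 D210792) (iv5 D139802) D139803 (iv1 F397209)
def n211257 : Q := act 1 n141333
theorem D211257 : act 1 n141333 = n211257 := rfl
theorem F460832 : act 1 n211257 = n141342 := d15_1 D211257 F224369 (iv2 F224350)
theorem F460833 : act 7 n211257 = n195553 := d15_2 F228555 D211257 (iv2 F397328)
theorem F460834 : act 5 n211257 = n144451 := d17_7 (iv1 D31439) (iv5 F49420) (iv1 F173672) (iv5 D66301) D66300 D141333 D211257 F227250 (iv4 D67696)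
theorem F460835 : act 4 n211257 = n164135 := d17_9 (iv1 F397155) (iv5 F414726) (iv1 F414730) F409071 (iv4 F425122) (iv5 D202691) (iv0 F181515) D141333 D211257
theorem F460836 : act 3 n195437 = n211257 := d19_19 (iv1 D211257) (iv5 D141333) (iv4 D66300) (iv3 F84175) F173698 (iv5 F105779) F105778 D148203 F353601 F353609 (iv4 D113302) D113301 F409635 F409634 F384095 (iv3 F384081) (iv1 F384082) D210276 F456833
theorem F460837 : act 2 n211257 = n195552 := d0_1 F460836 (iv3 F401225) (iv2 F436662) F436663 F403882
theorem F460838 : act 6 n205076 = n211257 := d10_0 F460835 F258684 D205076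
def n211258 : Q := act 6 n141333
theorem D211258 : act 6 n141333 = n211258 := rfl
theorem F460839 : act 2 n211258 = n195560 := d3_1 D211258 (iv6 D195560) (iv2 F224350)
theorem F460840 : act 4 n211258 = n152605 := d10_1 D211258 (iv6 F409453) F409449
def n211259 : Q := act 4 n141348
theorem D211259 : act 4 n141348 = n211259 := rfl
theorem F460841 : act 2 n211259 = n195557 := d1_1 D211259 (iv4 D195557) (iv2 F224378)
theorem F460842 : act 3 n211259 = n202939 := d5_1 D211259 (iv4 F448776) F448775 (iv4 F449520) F449519
theorem F460843 : act 5 n211259 = n203439 := d9_2 D141348 D211259 F428306 F420725 (iv4 F396932) F396933 (iv4 D141626) D141627 (iv4 F353541) (iv5 F353540) (iv4 D134010) (iv5 D62950) (iv4 F98193) D133994 F336187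
theorem F460844 : act 6 n211259 = n147239 := d10_2 (iv6 F315937) D211259 F230834
theorem F460845 : act 7 n211259 = n203467 := d11_2 (iv7 F315938) D211259 F428433
theorem F460846 : act 1 n211259 = n203431 := d18_6 (iv1 F340761) D202693 F425139 F336187 D141348 D211259 F428272 (iv0 F425148) F225915
def n211260 : Q := act 6 n141351
theorem D211260 : act 6 n141351 = n211260 := rfl
theorem F460847 : act 2 n211260 = n141357 := d3_1 D211260 (iv6 D141357) (iv2 F224390)
theorem F460848 : act 4 n211260 = n172028 := d10_1 D211260 F409441 F409437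
theorem F460849 : act 7 n211260 = n195314 := d14_2 (iv7 F224391) D211260 (iv6 D195314) F396665 F396664
theorem F460850 : act 1 n195458 = n211260 := d18_6 D82390 D172020 (iv1 F340209) D191497 (iv5 F383587) (iv4 F397053) F460848 (iv0 D172028) (iv5 D82392)
def n211261 : Q := act 5 n141352
theorem D211261 : act 5 n141352 = n211261 := rfl
theorem F460851 : act 2 n211261 = n141360 := d2_1 D211261 (iv5 D141360) (iv2 F224394)
theorem F460852 : act 4 n211261 = n201960 := d9_1 D211261 (iv5 D201960) (iv4 F388839) F388840 (iv4 F338961) (iv5 D108286) (iv4 F167231) D197412 (iv4 F422534) (iv5 D201961) F357067 F331936 (iv4 F185603) F318003 (iv4 F224395)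
theorem F460853 : act 7 n211261 = n202407 := d13_2 F404108 D211261 F423888
def n211262 : Q := act 0 n141357
theorem D211262 : act 0 n141357 = n211262 := rfl
theorem F460854 : act 4 n211262 = n205843 := d18_3 D203493 (iv4 F428544) D211262 F438105 (iv4 F277181) F340213 (iv4 F310881) (iv0 D119281) D119283
theorem F460855 : act 3 n211262 = n142249 := d20_5 (iv4 F397012) (iv1 D136289) (iv4 F162242) (iv3 F224408) D211262 (iv4 D142249) (iv1 F319706) (iv4 F162329) (iv3 F397346) F397349
theorem F460856 : act 2 n195458 = n211262 := d15_3 (iv0 D211262) (iv0 F438038) F401591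
theorem F460857 : act 1 n195314 = n211262 := d18_6 (iv1 F353872) (iv4 F444453) F444456 (iv4 F366445) F428549 (iv4 F447322) F460854 F451455 F451453
def n211263 : Q := act 5 n141357
theorem D211263 : act 5 n141357 = n211263 := rfl
theorem F460858 : act 3 n211263 = n195519 := d6_1 D211263 (iv5 D195519) (iv3 F224408)
theorem F460859 : act 6 n211263 = n141360 := d12_2 D141357 D211263 (iv5 D141360) (iv6 D66312) D66311
theorem F460860 : act 4 n202404 = n211263 := d10_3 F460859 F350931 D202404
def n211264 : Q := act 7 n141357
theorem D211264 : act 7 n141357 = n211264 := rfl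
theorem F460861 : act 2 n211264 = n195314 := d4_1 D211264 (iv7 F460849) F460847
theorem F460862 : act 3 n211264 = n194291 := d8_1 D211264 F392690 (iv3 F224408)
theorem F460863 : act 4 n211264 = n172029 := d11_1 D211264 F428545 (iv4 F428544)
theorem F460864 : act 6 n211264 = n195310 := d14_1 D211264 (iv7 D195310) F361840 (iv7 F102220) D141357
theorem F460865 : act 0 n195458 = n211264 := d18_2 (iv1 F438112) (iv4 F397053) F460863 (iv5 F366650) (iv4 F217749) (iv0 F451441) (iv4 D208927) F239229 (iv5 F438110)
def n211265 : Q := act 3 n141358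
theorem D211265 : act 3 n141358 = n211265 := rfl
theorem F460866 : act 4 n211265 = n199382 := d5_2 (iv4 F342366) D211265 (iv3 F425037) F425032 (iv3 F339014)
def n211266 : Q := act 5 n141358
theorem D211266 : act 5 n141358 = n211266 := rfl
theorem F460867 : act 7 n211266 = n200423 := d13_2 F404182 D211266 (iv5 F416368)
theorem F460868 : act 0 n211266 = n155895 := d17_2 D141358 D211266 (iv5 D155895) F110864 (iv5 F79187) D108361 F343406 (iv0 D66313) (iv4 F102222)
theorem F460869 : act 1 n211266 = n156278 := d17_6 F428231 F308517 (iv1 F339004) F339013 (iv4 F342366) D211266 (iv5 F427488) F427491 (iv4 F428232)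
theorem F460870 : act 6 n211266 = n200422 := d21_5 D202200 (iv1 F423221) F396953 (iv6 F404274) (iv1 F460869) F416363 (iv1 D136312) D136314 (iv6 F397317) (iv1 F397315)
def n211267 : Q := act 6 n141358
theorem D211267 : act 6 n141358 = n211267 := rfl
theorem F460871 : act 4 n211267 = n155686 := d10_1 D211267 F340774 (iv4 F342366)
theorem F460872 : act 5 n211267 = n209326 := d12_1 D211267 (iv6 D209326) (iv5 F416363) (iv6 F460870) (iv5 D211266)
theorem F460873 : act 0 n145126 = n211267 := d21_4 D118275 (iv1 F228111) F228109 D145126 (iv6 D211267) D211266 F460868 (iv5 D155895) (iv6 D74143) (iv1 F86009)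
def n211268 : Q := act 3 n141359
theorem D211268 : act 3 n141359 = n211268 := rfl
theorem F460874 : act 4 n211268 = n210043 := d5_2 F224409 D211268 (iv3 F455895) (iv4 D139219) D139218
theorem F460875 : act 7 n211268 = n210168 := d8_2 F338997 D211268 (iv3 F456444)
theorem F460876 : act 0 n211268 = n209271 := d19_4 (iv1 F339003) (iv5 F333276) F224409 D211268 F452988 F389784 (iv3 F273236) (iv1 F332010) (iv5 F343436) (iv4 F343439) (iv3 F334231) (iv1 F356182) F332069 F188123 F190548 (iv1 F110015) F110017 F185279 (iv3 F112400)
theorem F460877 : act 1 n211268 = n209519 := d15_1 (iv0 F460876) F454005 (iv2 F452986)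
theorem F460878 : act 2 n211268 = n210169 := d16_9 F456446 (iv5 D204339) F346682 (iv5 D150078) F155530 D164521 (iv4 F397350) (iv5 F456442) (iv7 F460875)
def n211269 : Q := act 0 n141360
theorem D211269 : act 0 n141360 = n211269 := rfl
theorem F460879 : act 5 n211269 = n203257 := d17_3 (iv1 D141359) D141360 D211269 F427539 F360995 (iv0 D84469) F322337 (iv0 F339009) F224409
theorem F460880 : act 1 n202407 = n211269 := d15_0 (iv0 D211269) (iv7 F404184) (iv2 F423887)
theorem F460881 : act 4 n203545 = n211269 := d16_2 D119491 D203545 F460879 F427539 F360995 (iv4 F316594) (iv5 F428567) (iv7 D203498) F187753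
theorem F460882 : act 3 n211269 = n210177 := d5_1 F460881 F456472 F389822 D210718 (iv3 F458555)
theorem F460883 : act 6 n210175 = n211269 := d7_0 F460882 (iv6 D210177) D210175
def n211270 : Q := act 1 n141360
theorem D211270 : act 1 n141360 = n211270 := rfl
theorem F460884 : act 1 n211270 = n202407 := d15_1 D211270 (iv7 F460853) F460851
theorem F460885 : act 5 n211270 = n203258 := d17_7 (iv1 F185833) (iv5 F343410) (iv1 D141372) (iv5 D66315) (iv4 F102222) D141360 D211270 F427543 F244886
def n211271 : Q := act 3 n141363
theorem D211271 : act 3 n141363 = n211271 := rfl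
theorem F460886 : act 4 n211271 = n209093 := d5_2 D141363 D211271 (iv3 F452218) (iv4 F245566) (iv3 D141362)
theorem F460887 : act 0 n211271 = n197263 := d20_4 F102222 D66313 D141363 D211271 (iv3 F403953) F403954 (iv1 F455892) (iv4 F460874) (iv3 D211268) (iv1 D141359)
theorem F460888 : act 1 n211271 = n202201 := d15_1 (iv0 F460887) F423225 F403978
def n211272 : Q := act 6 n141363
theorem D211272 : act 6 n141363 = n211272 := rfl
theorem F460889 : act 4 n211272 = n141365 := d10_1 D211272 (iv6 D141365) D141363
theorem F460890 : act 5 n211272 = n194291 := d12_1 D211272 F392689 (iv5 F167243) D197434 (iv5 F404272)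
theorem F460891 : act 7 n211272 = n195519 := d14_2 F404313 D211272 F397203 (iv7 F167251) (iv6 F404312)
theorem F460892 : act 0 n150038 = n211272 := d21_4 D118266 (iv1 F236058) (iv5 D150037) D150038 (iv6 D211272) F404272 (iv1 F404271) F357030 (iv6 D153584) (iv1 F109145)
def n211273 : Q := act 5 n141365
theorem D211273 : act 5 n141365 = n211273 := rfl
theorem F460893 : act 2 n211273 = n144475 := d2_1 D211273 (iv5 F333692) (iv2 F359895)
theorem F460894 : act 3 n211273 = n210849 := d6_1 D211273 F459011 (iv3 F440345)
theorem F460895 : act 4 n211273 = n178439 := d9_1 D211273 F364625 F175182 F110952 (iv4 F219367) D209323 F453224 (iv5 F228113) (iv4 F392687) (iv5 D194290) (iv4 D103156) D103157 D194291 (iv5 F460890) F460889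
theorem F460896 : act 6 n211273 = n150013 := d12_2 D141365 D211273 F343401 F343404 F343406
theorem F460897 : act 7 n211273 = n144474 := d13_2 F359894 D211273 (iv5 F357080)
theorem F460898 : act 0 n211273 = n144465 := d17_2 (iv1 F359897) D211273 (iv5 D144465) (iv4 F227227) F397013 F453241 (iv5 F460872) (iv0 F460873) F228112
theorem F460899 : act 0 n144477 = n211273 := d21_10 (iv5 D211273) F359896 (iv5 F307725) (iv6 D114622) (iv1 F106897) D149842 (iv5 F374034) F374035 (iv5 F278611) (iv6 F333708)
def n211274 : Q := act 3 n141368
theorem D211274 : act 3 n141368 = n211274 := rfl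
theorem F460900 : act 5 n211274 = n156271 := d6_2 (iv5 F357024) D211274 F245579
theorem F460901 : act 0 n200420 = n211274 := d20_4 F163991 F168293 (iv4 F176199) (iv3 F416353) (iv3 D211274) (iv4 D141368) (iv1 D66314) (iv4 F102222) F102221 D105648
def n211275 : Q := act 3 n141372
theorem D211275 : act 3 n141372 = n211275 := rfl
theorem F460902 : act 2 n211275 = n177030 := d0_1 D211275 F276447 (iv2 F147884) (iv3 F312334) (iv2 F343408)
theorem F460903 : act 4 n211275 = n204234 := d5_2 (iv4 F343409) D211275 F431598 (iv4 F255693) F255692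
theorem F460904 : act 5 n211275 = n203260 := d6_2 (iv5 F343410) D211275 (iv3 D203260)
theorem F460905 : act 6 n211275 = n149840 := d7_2 (iv6 F343411) D211275 (iv3 D149840)
theorem F460906 : act 7 n211275 = n204331 := d8_2 (iv7 F343412) D211275 F432078
theorem F460907 : act 0 n211275 = n176958 := d20_4 (iv4 D77747) F316557 (iv4 F343409) D211275 (iv3 D176958) (iv4 F339102) (iv1 F153319) F332495 (iv3 F332494) F314160
theorem F460908 : act 0 n204321 = n211275 := d20_4 (iv4 F310911) F310908 (iv4 F344024) (iv3 F432031) (iv3 D211275) F343409 (iv1 F316556) F255195 F309669 (iv1 F309641)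
def n211276 : Q := act 3 n141390
theorem D211276 : act 3 n141390 = n211276 := rfl
theorem F460909 : act 4 n211276 = n209262 := d5_2 (iv4 F339087) D211276 F452953 (iv4 D139224) F339084
theorem F460910 : act 0 n211149 = n211276 := d18_0 F460909 (iv1 F455723) (iv4 D210006) (iv5 D137238) F100434 (iv0 F208257) (iv4 F222930) F353383 D211149
def n211277 : Q := act 5 n141390
theorem D211277 : act 5 n141390 = n211277 := rfl
theorem F460911 : act 2 n211277 = n210112 := d2_1 D211277 F456215 (iv2 F425033)
theorem F460912 : act 7 n211277 = n210111 := d13_2 (iv7 F361585) D211277 F456211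
theorem F460913 : act 4 n211277 = n154261 := d16_2 (iv4 F339087) D211277 (iv5 D154261) F311102 (iv5 D69833) D69832 (iv5 F308073) (iv7 F279099) F252470
theorem F460914 : act 0 n211277 = n197197 := d17_2 D141390 D211277 F403488 F223303 (iv5 F322749) (iv0 F307426) F320989 (iv0 D66340) (iv4 F102248)
theorem F460915 : act 1 n211277 = n209461 := d17_6 (iv1 F238089) (iv5 F304000) F232768 (iv5 F308071) (iv4 F339087) D211277 (iv5 F453785) (iv0 F360992) (iv4 D155609)
theorem F460916 : act 6 n143486 = n211277 := d21_5 (iv5 D67204) (iv1 D31272) D31273 D67209 D143486 (iv5 D211277) F351502 F361591 F361592 (iv1 F226205)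
theorem F460917 : act 5 n209755 = n143486 := d21_2 D136885 D209755 F460916 F460914 F403487 D210109 F456208 (iv5 F385488) F453491 (iv1 D136884)
theorem F460918 : act 6 n209755 = n210863 := d21_9 (iv5 D139987) D139985 D210859 F459048 (iv1 D143501) (iv6 F226214) (iv5 D143488) D143486 (iv5 F460917) (iv1 D210863)
def n211278 : Q := act 6 n141390
theorem D211278 : act 6 n141390 = n211278 := rfl
theorem F460919 : act 2 n211278 = n155687 := d3_1 D211278 F425036 (iv2 F425033)
theorem F460920 : act 4 n211278 = n151375 := d10_1 D211278 (iv6 F252467) (iv4 F339087)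
theorem F460921 : act 5 n211278 = n210863 := d12_1 D211278 (iv6 F460918) F460917 F460916 (iv5 D211277)
theorem F460922 : act 0 n211278 = n141540 := d21_4 F453785 (iv1 F460915) (iv5 D211277) D211278 (iv6 D141540) (iv5 F330621) (iv1 F229931) (iv5 F434414) F434413 F360992
theorem F460923 : act 0 n150774 = n211278 := d21_4 (iv5 F331248) F331245 (iv5 D150773) D150774 (iv6 D211278) D211277 F460914 F403488 (iv6 D140115) (iv1 F323742)
theorem F460924 : act 7 n155692 = n211278 := d11_0 F460920 F252476 D155692
def n211279 : Q := act 5 n141391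
theorem D211279 : act 5 n141391 = n211279 := rfl
theorem F460925 : act 2 n211279 = n210111 := d2_1 D211279 F456211 F361584
theorem F460926 : act 3 n211279 = n193436 := d6_1 D211279 F430768 (iv3 F424323)
theorem F460927 : act 4 n211279 = n154266 := d9_1 D211279 (iv5 D154266) F309675 (iv5 D69828) D69827 (iv5 F308071) (iv4 F339087) D211277 F460913 (iv5 D154261) F311102 (iv5 D69833) D69832 (iv5 F308073) (iv4 F361578)
theorem F460928 : act 6 n211279 = n209263 := d12_2 F432101 D211279 F452956 F383623 D204337
theorem F460929 : act 7 n211279 = n210112 := d13_2 F425035 D211279 F456215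
theorem F460930 : act 0 n211279 = n209461 := d17_2 (iv1 F361577) D211279 (iv5 F453785) F360988 (iv5 D69823) (iv0 F307429) F316243 (iv0 F318059) (iv4 F246534)
theorem F460931 : act 1 n211279 = n197197 := d17_6 (iv1 D74027) (iv5 F78740) F307341 (iv5 F308073) (iv4 F361578) D211279 F403488 F366164 (iv4 D155613)
def n211280 : Q := act 7 n141418
theorem D211280 : act 7 n141418 = n211280 := rfl
theorem F460932 : act 2 n211280 = n209447 := d4_1 D211280 F453745 F425028
theorem F460933 : act 3 n211280 = n204179 := d8_1 D211280 F452042 (iv3 F452041)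
theorem F460934 : act 5 n211280 = n143126 := d13_1 D211280 F316512 F348308
theorem F460935 : act 6 n211280 = n209445 := d14_1 D211280 F453737 (iv6 D202675) F181286 D141418
theorem F460936 : act 1 n203155 = n211280 := d15_1 (iv0 F427205) (iv7 D211280) (iv2 F425028)
def n211281 : Q := act 5 n141437
theorem D211281 : act 5 n141437 = n211281 := rfl
theorem F460937 : act 2 n211281 = n146824 := d2_1 D211281 (iv5 D146824) (iv2 F224468)
theorem F460938 : act 3 n211281 = n141438 := d6_1 D211281 (iv5 D141438) D141437
theorem F460939 : act 7 n211281 = n188323 := d13_2 F425052 D211281 (iv5 F425054)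
theorem F460940 : act 4 n211281 = n203311 := d16_2 F424850 D211281 (iv5 D203311) (iv4 F427016) F427015 F373083 (iv5 D146401) (iv7 F183703) (iv2 F424849)
theorem F460941 : act 1 n188324 = n211281 := d15_1 (iv0 F426135) F460939 (iv2 F426130)
theorem F460942 : act 1 n211281 = n188321 := d15_1 F460941 (iv7 F427956) F427954
def n211282 : Q := act 6 n141437
theorem D211282 : act 6 n141437 = n211282 := rfl
theorem F460943 : act 2 n211282 = n146825 := d3_1 D211282 (iv6 D146825) (iv2 F224468)
theorem F460944 : act 3 n211282 = n141439 := d7_1 D211282 (iv6 D141439) D141437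
theorem F460945 : act 5 n204974 = n211282 := d6_0 F460944 (iv5 F338219) D204974
theorem F460946 : act 0 n201878 = n211282 := d20_4 F348682 (iv1 F336346) F345976 (iv3 F422181) F460944 F224471 D141440 F350256 (iv3 F279110) F360537
def n211283 : Q := act 6 n141438
theorem D211283 : act 6 n141438 = n211283 := rfl
theorem F460947 : act 2 n211283 = n141485 := d3_1 D211283 (iv6 D141485) (iv2 F224469)
theorem F460948 : act 5 n211283 = n195602 := d12_1 D211283 (iv6 F397551) F338219 (iv6 D141439) D141438
def n211284 : Q := act 3 n141440
theorem D211284 : act 3 n141440 = n211284 := rfl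
theorem F460949 : act 2 n211284 = n142079 := d0_1 D211284 F225098 F180313 F334917 (iv2 F350254)
theorem F460950 : act 5 n211284 = n191072 := d6_2 F337014 D211284 (iv3 D191072)
theorem F460951 : act 6 n211284 = n142078 := d7_2 F350251 D211284 F225092
theorem F460952 : act 7 n211284 = n141496 := d8_2 (iv7 F350255) D211284 (iv3 D141496)
theorem F460953 : act 0 n211284 = n199380 := d19_4 (iv1 F316920) D85502 (iv4 F350256) D211284 (iv5 D199380) (iv4 D111256) F80948 D51313 (iv5 F98219) (iv4 D62953) F47906 D49900 F78925 F45603 F23759 F23756 F20353 D14501 D30566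
theorem F460954 : act 4 n211284 = n179651 := d20_6 D191110 (iv1 F424860) F424857 F180953 D141440 D211284 (iv1 F339413) (iv4 D146977) (iv3 F348974) (iv1 F334475)
theorem F460955 : act 0 n195545 = n211284 := d18_0 F460954 (iv1 F339413) (iv4 D146977) (iv5 D68896) D68895 F230353 (iv4 F397422) F397425 F397303
def n211285 : Q := act 6 n141450
theorem D211285 : act 6 n141450 = n211285 := rfl
theorem F460956 : act 2 n211285 = n141540 := d3_1 D211285 (iv6 D141540) (iv2 F321253)
theorem F460957 : act 3 n211285 = n191441 := d7_1 D211285 (iv6 F452869) F452868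
theorem F460958 : act 4 n211285 = n141452 := d10_1 D211285 (iv6 D141452) D141450
theorem F460959 : act 7 n211285 = n150774 := d14_2 (iv7 F321254) D211285 (iv6 D150774) (iv7 F185934) F321266
theorem F460960 : act 5 n191440 = n211285 := d21_2 D210859 F459049 (iv6 D211285) (iv1 F350017) (iv6 D142986) (iv5 F223169) (iv1 F223168) (iv5 D65719) D65720 D139985
theorem F460961 : act 1 n211285 = n155687 := d17_8 (iv1 F238097) (iv5 F340836) F331872 (iv5 F361511) F361510 D210861 (iv0 F459054) F460960 (iv4 D155687)
theorem F460962 : act 1 n155692 = n211285 := d15_1 F403434 F460959 (iv2 F403431)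
def n211286 : Q := act 1 n141460
theorem D211286 : act 1 n141460 = n211286 := rfl
theorem F460963 : act 1 n211286 = n194140 := d15_1 D211286 (iv7 D194140) (iv2 F346096)
theorem F460964 : act 7 n211286 = n194137 := d15_2 F457966 D211286 (iv2 F457963)
theorem F460965 : act 4 n211286 = n145917 := d17_9 (iv1 F322603) F290703 (iv1 F355668) F176072 (iv4 F240903) F355662 D210496 (iv5 F457786) D211286
theorem F460966 : act 3 n208294 = n211286 := d20_3 (iv4 F421309) F421304 (iv4 F448780) (iv1 D211286) (iv3 D141460) (iv4 D66367) (iv1 F84565) D116304 D202678 (iv1 F425053)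
theorem F460967 : act 2 n194138 = n211286 := d1_3 F460965 F366237 (iv4 F392174)
def n211287 : Q := act 6 n141461
theorem D211287 : act 6 n141461 = n211287 := rfl
theorem F460968 : act 2 n211287 = n188608 := d3_1 D211287 (iv6 F384426) (iv2 F224501)
theorem F460969 : act 3 n211287 = n193756 := d7_1 D211287 (iv6 F457789) F457788
theorem F460970 : act 5 n211287 = n193755 := d12_1 D211287 F390909 (iv5 F346092) (iv6 D141462) D141461
theorem F460971 : act 7 n211287 = n188607 := d14_2 (iv7 F224502) D211287 F450078 F450074 F359694
theorem F460972 : act 0 n211287 = n188602 := d21_4 F373130 (iv1 D141459) D141461 D211287 (iv6 D188602) (iv5 D92564) (iv1 F67966) (iv5 F294858) (iv6 F359692) F373131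
theorem F460973 : act 1 n211287 = n188609 := d15_1 (iv0 F460972) (iv7 D188609) (iv2 F374172)
theorem F460974 : act 0 n185506 = n194120 := d21_10 F392111 (iv1 F460973) F460970 F390909 D193757 (iv6 F390915) (iv5 D138624) D138622 D210394 (iv6 F457380)
def n211288 : Q := act 4 n141463
theorem D211288 : act 4 n141463 = n211288 := rfl
theorem F460975 : act 2 n211288 = n155508 := d1_1 D211288 F244527 (iv2 F332427)
theorem F460976 : act 3 n211288 = n203911 := d5_1 D211288 F430355 F398335 F313927 (iv3 F332425)
theorem F460977 : act 6 n211288 = n155506 := d10_2 (iv6 F332428) D211288 F244524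
theorem F460978 : act 7 n211288 = n160041 := d11_2 F332429 D211288 F252526
theorem F460979 : act 0 n211288 = n160093 := d18_2 D141463 D211288 (iv4 D160093) (iv5 F332483) (iv4 F301999) (iv0 D122344) F89627 D81549 F332430
theorem F460980 : act 1 n211288 = n141480 := d18_6 F232793 D133627 F361499 F197407 (iv5 F332426) D211288 F366078 (iv0 F317624) (iv5 F107929)
def n211289 : Q := act 0 n141470
theorem D211289 : act 0 n141470 = n211289 := rfl
theorem F460981 : act 4 n211289 = n178955 := d18_3 (iv1 F436754) (iv4 F359704) D211289 (iv5 F350802) (iv4 F395720) (iv0 D195089) F353615 F353612 D205506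
theorem F460982 : act 3 n211289 = n178886 := d20_5 (iv4 D116304) (iv1 F84564) D66372 D141470 D211289 (iv4 D178886) F318112 (iv4 F366073) (iv3 D141477) (iv1 F181302)
theorem F460983 : act 6 n211289 = n178896 := d21_5 F347342 (iv1 F440768) F440764 F359702 D211289 (iv5 F342625) (iv1 F434152) F434150 F199458 (iv1 F199535)
theorem F460984 : act 2 n146895 = n211289 := d15_3 (iv0 D211289) (iv0 F233614) F233613
theorem F460985 : act 1 n194136 = n211289 := d15_0 (iv0 D211289) F224525 (iv2 F392165)
theorem F460986 : act 7 n211289 = n208479 := d15_2 F392169 F460985 F449540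
def n211290 : Q := act 5 n141470
theorem D211290 : act 5 n141470 = n211290 := rfl
theorem F460987 : act 3 n211290 = n141471 := d6_1 D211290 (iv5 D141471) D141470
theorem F460988 : act 7 n211290 = n210866 := d13_2 (iv7 F224525) D211290 (iv5 D210866)
theorem F460989 : act 0 n153977 = n211290 := d19_0 (iv5 D211290) F359704 F359705 F224522 F349848 F349826 F349828 (iv1 D111616) D111617 (iv4 F388041) (iv3 F396996) (iv1 F450576) F456668 F456666 (iv3 D200907) (iv1 F230132) (iv5 F442559) F442558 F366697
def n211291 : Q := act 0 n141477
theorem D211291 : act 0 n141477 = n211291 := rfl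
theorem F460990 : act 4 n211291 = n208476 := d18_3 F318112 (iv4 F366073) D211291 (iv5 F460310) F460309 (iv0 F425815) (iv4 D178884) (iv0 D85284) D85286
theorem F460991 : act 3 n211291 = n146932 := d20_5 F343188 (iv1 F224541) (iv4 D141478) D141477 D211291 (iv4 F365208) (iv1 F377179) F377175 (iv3 D139948) (iv1 F343186)
theorem F460992 : act 1 n142460 = n211291 := d15_0 (iv0 D211291) F366075 (iv2 F225375)
theorem F460993 : act 2 n142605 = n211291 := d0_5 F460991 F426175 F426172 F378678 F393569
theorem F460994 : act 7 n142604 = n211291 := d8_0 F460991 F411605 (iv3 F411606)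
def n211292 : Q := act 1 n141477
theorem D211292 : act 1 n141477 = n211292 := rfl
theorem F460995 : act 1 n211292 = n142460 := d15_1 D211292 (iv7 F428917) F428915
theorem F460996 : act 7 n211292 = n142605 := d15_2 (iv0 D211291) D211292 F460993
theorem F460997 : act 4 n211292 = n202638 := d18_7 F423660 (iv4 F225346) F225347 F102663 (iv5 F102676) (iv4 F366073) D211292 (iv0 F424880) (iv5 F423659)
theorem F460998 : act 3 n188328 = n211292 := d20_3 (iv4 F204855) D206134 F439396 (iv1 D211292) (iv3 D141477) D141478 (iv1 F224542) F223183 F230298 (iv1 D146912)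
theorem F460999 : act 2 n211292 = n142604 := d0_1 F460998 F411606 F411601 (iv3 F373187) F378692
theorem F461000 : act 5 n211292 = n188326 := d6_2 D188328 F460998 (iv3 D188326)
theorem F461001 : act 6 n146656 = n211292 := d21_5 D208537 F453484 F453482 F431365 (iv1 F259426) F461000 F426696 (iv5 D203028) D203029 F449776
theorem F461002 : act 0 n188253 = n188326 := d21_1 (iv5 F372855) (iv5 F461000) (iv6 F461001) (iv1 D146656) (iv6 D68725) F328188 F327690 (iv5 D54173) D54174 (iv1 F251050)
def n211293 : Q := act 5 n141477
theorem D211293 : act 5 n141477 = n211293 := rfl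
theorem F461003 : act 2 n211293 = n203037 := d2_1 D211293 F428919 F428915
theorem F461004 : act 3 n211293 = n141479 := d6_1 D211293 (iv5 D141479) D141477
theorem F461005 : act 7 n211293 = n142607 := d13_2 (iv7 F366075) D211293 (iv5 D142607)
theorem F461006 : act 0 n211293 = n203039 := d17_2 (iv1 D211292) D211293 F426736 F337285 (iv5 F439063) (iv0 F439067) (iv5 F440268) (iv0 F440269) (iv4 F460997)
theorem F461007 : act 1 n211293 = n202997 := d17_6 (iv1 D117493) F85455 F319189 (iv5 F102676) (iv4 F366073) D211293 (iv5 D202997) (iv0 F426567) (iv4 D202994)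
def n211294 : Q := act 6 n141479
theorem D211294 : act 6 n141479 = n211294 := rfl
theorem F461008 : act 2 n211294 = n210876 := d3_1 D211294 (iv6 D210876) (iv2 F224543)
theorem F461009 : act 0 n211294 = n203358 := d21_4 (iv5 D66377) D66375 D141479 D211294 F428030 F375817 (iv1 F370462) (iv5 F384448) (iv6 F384452) F223264
def n211295 : Q := act 5 n141480
theorem D211295 : act 5 n141480 = n211295 := rfl
theorem F461010 : act 3 n211295 = n155375 := d6_1 D211295 (iv5 D155375) (iv3 F366077)
theorem F461011 : act 0 n211295 = n203056 := d17_2 (iv1 F366076) D211295 (iv5 D203056) F348306 (iv5 D81550) D81549 F332430 (iv0 F333348) (iv4 F115016)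
theorem F461012 : act 1 n211295 = n203058 := d17_6 (iv1 F184492) (iv5 F318168) D151798 F317628 (iv4 F366078) D211295 (iv5 D203058) F426788 F426786
def n211296 : Q := act 2 n141481
theorem D211296 : act 2 n141481 = n211296 := rfl
theorem F461013 : act 3 n211296 = n142460 := d0_2 D141481 D211296 F225375 (iv3 F323723) F183046
theorem F461014 : act 6 n211296 = n208262 := d3_2 (iv6 F363635) D211296 F448637
theorem F461015 : act 0 n211296 = n199384 := d21_4 (iv5 D134275) (iv1 F216020) (iv5 F448635) (iv6 F461014) (iv6 D199384) (iv5 F215954) F246112 (iv5 F332241) (iv6 F341466) (iv1 F360209)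
def n211297 : Q := act 7 n141485
theorem D211297 : act 7 n141485 = n211297 := rfl
theorem F461016 : act 3 n211297 = n146948 := d8_1 D211297 (iv7 D146948) (iv3 F224551)
theorem F461017 : act 5 n211297 = n195601 := d13_1 D211297 (iv7 F397547) (iv5 F364012)
def n211298 : Q := act 3 n141492
theorem D211298 : act 3 n141492 = n211298 := rfl
theorem F461018 : act 4 n211298 = n189416 := d5_2 D141492 D211298 F376558 F223871 F334917
theorem F461019 : act 5 n211298 = n156694 := d6_2 (iv5 F337096) D211298 (iv3 D156694)
theorem F461020 : act 6 n211298 = n211133 := d7_2 (iv6 F337097) D211298 (iv3 D211133)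
theorem F461021 : act 7 n211298 = n210336 := d8_2 (iv7 F337098) D211298 (iv3 D210336)
def n211299 : Q := act 6 n141538
theorem D211299 : act 6 n141538 = n211299 := rfl
theorem F461022 : act 3 n211299 = n141540 := d7_1 D211299 (iv6 D141540) D141538
theorem F461023 : act 7 n211299 = n193121 := d14_2 (iv7 F423543) D211299 (iv6 D193121) F349186 (iv6 F423540)
def n211300 : Q := act 0 n141540
theorem D211300 : act 0 n141540 = n211300 := rfl
theorem F461024 : act 4 n211300 = n151376 := d18_3 F363156 (iv4 F224585) D211300 (iv5 F239078) (iv4 F389576) F389577 (iv4 D140008) D140007 (iv5 F224439)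
theorem F461025 : act 6 n211300 = n211158 := d21_5 F434418 F229692 F330621 D141540 D211300 F460373 (iv1 F424674) (iv5 D202595) (iv6 F362452) (iv1 F434421)
theorem F461026 : act 2 n155692 = n211300 := d15_3 (iv0 D211300) (iv0 F460922) (iv7 F460924)
theorem F461027 : act 1 n150774 = n211300 := d15_0 (iv0 D211300) (iv7 F403433) F403431
theorem F461028 : act 7 n211300 = n155687 := d15_2 (iv0 F460923) F461027 (iv2 F460919)
theorem F461029 : act 5 n210862 = n211300 := d21_8 F425093 (iv1 F458910) (iv5 D210822) (iv6 D139931) (iv1 F101425) D65720 D139987 D210862 F461025 F460374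
def n211301 : Q := act 5 n141540
theorem D211301 : act 5 n141540 = n211301 := rfl
theorem F461030 : act 2 n211301 = n191440 := d2_1 D211301 F460960 F460956
theorem F461031 : act 4 n211301 = n191462 := d16_2 (iv4 F224585) D211301 F448728 F448724 F385395 F332411 (iv5 F313276) (iv7 F321258) F321256
def n211302 : Q := act 3 n141626
theorem D211302 : act 3 n141626 = n211302 := rfl
theorem F461032 : act 2 n211302 = n198384 := d0_1 D211302 F407834 F169249 D195366 (iv2 F396828)
theorem F461033 : act 5 n211302 = n198383 := d6_2 F396933 D211302 F407829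
theorem F461034 : act 7 n211302 = n195551 := d8_2 F366424 D211302 F397320
theorem F461035 : act 0 n211302 = n202208 := d20_10 (iv4 D202208) (iv1 D115466) (iv4 F179736) F179735 F102035 (iv3 F102333) (iv4 D66431) D66428 D141626 D211302
theorem F461036 : act 0 n202206 = n211302 := d20_4 D195500 F397158 (iv4 F223002) (iv3 F423239) (iv3 D211302) (iv4 D141626) F317973 F349976 (iv3 F349979) F223024
def n211303 : Q := act 1 n141722
theorem D211303 : act 1 n141722 = n211303 := rfl
theorem F461037 : act 1 n211303 = n201965 := d15_1 D211303 (iv7 F423683) F423682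
theorem F461038 : act 7 n211303 = n210735 := d15_2 (iv0 F330604) D211303 (iv2 D210735)
theorem F461039 : act 5 n211303 = n178668 := d17_7 D85102 F130440 (iv1 D54217) F318782 (iv4 F102354) D141722 D211303 (iv0 D178668) F130439
theorem F461040 : act 4 n211303 = n210791 := d18_7 F426661 (iv4 F427069) (iv1 F432049) F432046 F397120 F330602 D211303 F458807 (iv5 F426660)
theorem F461041 : act 3 n202790 = n211303 := d19_19 (iv1 D211303) (iv5 D141722) F102354 (iv3 D31025) F47160 (iv5 F84682) F321563 F103777 (iv1 F181564) (iv5 D25985) D25984 F41070 (iv1 F40078) D52203 (iv4 F85006) (iv3 F182826) F365090 (iv5 F226839) D202790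
theorem F461042 : act 2 n211303 = n156280 := d0_1 F461041 F404277 F179597 D139633 (iv2 F425594)
theorem F461043 : act 6 n211303 = n156031 := d7_2 (iv6 F425595) F461041 (iv3 F423741)
theorem F461044 : act 6 n202343 = n202402 := d21_5 (iv5 D141722) (iv1 F360885) F336234 D115640 D202343 F423880 (iv1 F428803) F428802 (iv6 F461043) (iv1 D211303)
def n211304 : Q := act 6 n141722
theorem D211304 : act 6 n141722 = n211304 := rfl
theorem F461045 : act 2 n211304 = n156265 := d3_1 D211304 (iv6 F423686) F423682
theorem F461046 : act 3 n211304 = n141726 := d7_1 D211304 (iv6 D141726) (iv3 F224769)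
theorem F461047 : act 4 n211304 = n201968 := d10_1 D211304 (iv6 D201968) F330602
theorem F461048 : act 5 n211304 = n178073 := d12_1 D211304 F364658 (iv5 D119627) (iv6 F318781) D141722
theorem F461049 : act 0 n211304 = n156030 := d21_4 F423478 F366264 D141722 D211304 (iv6 D156030) F111042 (iv1 F99220) (iv5 F111501) (iv6 F360875) (iv1 F423476)
theorem F461050 : act 1 n211304 = n156267 := d15_1 (iv0 F461049) (iv7 D156267) (iv2 F245145)
def n211305 : Q := act 5 n141725
theorem D211305 : act 5 n141725 = n211305 := rfl
theorem F461051 : act 2 n211305 = n211166 := d2_1 D211305 F460417 (iv2 F412752)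
theorem F461052 : act 3 n211305 = n201495 := d6_1 D211305 F457881 F457879
theorem F461053 : act 4 n211305 = n152545 := d9_1 D211305 F354444 F218540 F99364 D107185 (iv5 F330566) (iv4 F222795) D210506 F457838 (iv5 D141728) (iv4 D66460) (iv5 D31024) D31023 D66459 D141725
theorem F461054 : act 7 n211305 = n152542 := d13_2 F423345 D211305 (iv5 F423346)
theorem F461055 : act 0 n211305 = n207258 := d17_2 (iv1 F424394) D211305 F444016 F423314 F179782 F165190 F330597 D202131 (iv4 F424390)
theorem F461056 : act 1 n211305 = n207371 := d17_6 (iv1 D53302) F330511 F102027 D66459 D141725 D211305 F444556 (iv0 F224188) (iv4 D115545)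
def n211306 : Q := act 6 n141725
theorem D211306 : act 6 n141725 = n211306 := rfl
theorem F461057 : act 4 n211306 = n141726 := d10_1 D211306 (iv6 D141726) D141725
def n211307 : Q := act 0 n141726
theorem D211307 : act 0 n141726 = n211307 := rfl
theorem F461058 : act 6 n211307 = n156234 := d21_5 F330511 F102027 D66459 D141726 D211307 F245542 (iv1 F314631) (iv5 F316899) F339877 (iv1 D53302)
theorem F461059 : act 2 n156240 = n211307 := d3_3 F461058 (iv2 F245543) D156240
theorem F461060 : act 4 n208330 = n211307 := d10_3 F461058 F245544 D208330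
def n211308 : Q := act 1 n141726
theorem D211308 : act 1 n141726 = n211308 := rfl
theorem F461061 : act 7 n211308 = n156240 := d15_2 (iv0 D211307) D211308 F461059
theorem F461062 : act 3 n156101 = n211308 := d20_3 F226799 (iv1 F203856) (iv4 F245268) (iv1 D211308) (iv3 F461046) F461047 F422555 F245160 F245045 (iv1 F226802)
theorem F461063 : act 5 n209878 = n211308 := d21_6 (iv5 D200466) F176283 D115375 F362129 F223388 D209878 (iv1 D211308) (iv5 F455187) (iv6 D209863) (iv1 F416569)
theorem F461064 : act 4 n211308 = n202523 := d5_2 (iv4 F245268) F461062 (iv3 D202523) (iv4 F180508) F203858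
theorem F461065 : act 6 n211308 = n210117 := d7_2 F245272 F461062 (iv3 D210117)
def n211309 : Q := act 7 n141726
theorem D211309 : act 7 n141726 = n211309 := rfl
theorem F461066 : act 6 n211309 = n210759 := d14_1 D211309 F458707 (iv6 D202235) F179789 D141726
def n211310 : Q := act 4 n141776
theorem D211310 : act 4 n141776 = n211310 := rfl
theorem F461067 : act 7 n211310 = n143552 := d11_2 (iv7 F342580) D211310 F226255
theorem F461068 : act 0 n211310 = n149331 := d18_2 D141776 D211310 (iv4 D149331) (iv5 D70118) (iv4 D32531) D32529 D70110 (iv0 F304745) (iv5 F310062)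
theorem F461069 : act 1 n211310 = n143115 := d18_6 D139203 F308026 F215741 (iv4 F342583) F342584 D211310 F335441 (iv0 F309989) (iv5 D139205)
def n211311 : Q := act 5 n141818
theorem D211311 : act 5 n141818 = n211311 := rfl
theorem F461070 : act 2 n211311 = n210430 := d2_1 D211311 F457489 F400190
theorem F461071 : act 6 n211311 = n192691 := d12_2 D141818 D211311 F387503 F350397 F350396
theorem F461072 : act 7 n211311 = n196792 := d13_2 F405134 D211311 (iv5 F405133)
theorem F461073 : act 0 n211311 = n196847 := d18_0 (iv4 D196847) (iv1 D107389) (iv4 F164788) D196359 (iv4 F411428) F411431 (iv4 F400545) (iv0 F400548) D211311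
theorem F461074 : act 1 n211311 = n193188 := d15_0 (iv0 F389190) (iv7 F457490) (iv2 F461070)
def n211312 : Q := act 6 n141819
theorem D211312 : act 6 n141819 = n211312 := rfl
theorem F461075 : act 2 n211312 = n141824 := d3_1 D211312 (iv6 D141824) (iv2 F224832)
theorem F461076 : act 3 n211312 = n141885 := d7_1 D211312 (iv6 D141885) (iv3 F224833)
theorem F461077 : act 4 n211312 = n188144 := d10_1 D211312 (iv6 F459264) F459260
theorem F461078 : act 0 n187991 = n211312 := d21_4 (iv5 F362674) F139543 (iv5 F139623) D187991 (iv6 D211312) (iv5 D141819) (iv1 F164711) F350393 (iv6 D100597) (iv1 F147828)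
def n211313 : Q := act 0 n141820
theorem D211313 : act 0 n141820 = n211313 := rfl
theorem F461079 : act 4 n211313 = n191974 := d18_3 (iv1 F410430) F410426 D211313 F385046 F368024 (iv0 F371053) (iv4 F373133) F384773 (iv5 F386527)
theorem F461080 : act 6 n211313 = n191973 := d21_5 D140357 F350417 (iv5 D141819) D141820 D211313 F459345 (iv1 D210931) (iv5 D140372) (iv6 D65885) D65881
theorem F461081 : act 2 n141825 = n211313 := d15_3 (iv0 D211313) (iv0 F389272) F389271
theorem F461082 : act 1 n141828 = n211313 := d15_0 (iv0 D211313) (iv7 F439963) F439960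
theorem F461083 : act 7 n211313 = n141826 := d15_2 (iv0 F389273) F461082 F389274
def n211314 : Q := act 5 n141820
theorem D211314 : act 5 n141820 = n211314 := rfl
theorem F461084 : act 2 n211314 = n141827 := d2_1 D211314 (iv5 D141827) (iv2 F224834)
theorem F461085 : act 3 n211314 = n141888 := d6_1 D211314 (iv5 D141888) (iv3 F224835)
theorem F461086 : act 1 n211314 = n190305 := d17_6 F374452 (iv5 F293939) D186292 (iv5 F410427) F410426 D211314 F379333 (iv0 F374447) (iv4 F172343)
def n211315 : Q := act 3 n141822
theorem D211315 : act 3 n141822 = n211315 := rfl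
theorem F461087 : act 4 n211315 = n188247 := d5_2 (iv4 F224849) D211315 F372822 (iv4 D141190) (iv3 F224105)
theorem F461088 : act 5 n211315 = n196276 := d6_2 F224847 D211315 (iv3 D196276)
theorem F461089 : act 6 n211315 = n188246 := d7_2 F350367 D211315 F372821
theorem F461090 : act 7 n211315 = n210914 := d8_2 (iv7 F224845) D211315 F459268
theorem F461091 : act 0 n206206 = n211315 := d20_4 F424218 (iv1 D127776) D127777 D206206 (iv3 D211315) F224849 F224850 D210521 F457902 (iv1 F424220)
def n211316 : Q := act 0 n141824
theorem D211316 : act 0 n141824 = n211316 := rfl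
theorem F461092 : act 4 n211316 = n188080 := d20_2 (iv4 F394072) D211316 F372264 (iv1 F224258) (iv3 F446140) (iv4 D207720) (iv1 F445860) F445849 (iv3 F344187) D194680
theorem F461093 : act 7 n187991 = n211316 := d11_0 F461092 (iv7 D188080) (iv4 F372044)
def n211317 : Q := act 5 n141824
theorem D211317 : act 5 n141824 = n211317 := rfl
theorem F461094 : act 3 n211317 = n141831 := d6_1 D211317 (iv5 D141831) (iv3 F224851)
theorem F461095 : act 6 n211317 = n141827 := d12_2 D141824 D211317 (iv5 D141827) (iv6 D66493) D66492
def n211318 : Q := act 7 n141824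
theorem D211318 : act 7 n141824 = n211318 := rfl
theorem F461096 : act 3 n211318 = n141832 := d8_1 D211318 (iv7 D141832) (iv3 F224851)
theorem F461097 : act 4 n211318 = n188145 := d11_1 D211318 (iv7 F446149) (iv4 F394072)
theorem F461098 : act 1 n187991 = n211318 := d15_1 (iv0 F461078) (iv7 D211318) (iv2 F461075)
def n211319 : Q := act 3 n141826
theorem D211319 : act 3 n141826 = n211319 := rfl
theorem F461099 : act 2 n211319 = n194727 := d0_1 D211319 (iv3 D194727) F159837 D193236 (iv2 F389274)
theorem F461100 : act 4 n211319 = n206948 := d20_6 (iv4 D66645) F319289 D128009 D206259 (iv1 F439965) D211319 (iv1 D206948) F366158 (iv3 F225049) F348342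
def n211320 : Q := act 5 n141826
theorem D211320 : act 5 n141826 = n211320 := rfl
theorem F461101 : act 2 n211320 = n190868 := d2_1 D211320 (iv5 F389270) (iv2 F389274)
theorem F461102 : act 0 n211320 = n197538 := d21_1 D211320 (iv5 D197538) (iv6 D108433) D108429 D197534 F417958 F417956 (iv5 F386663) (iv6 F439962) (iv1 F439965)
def n211321 : Q := act 6 n141826
theorem D211321 : act 6 n141826 = n211321 := rfl
theorem F461103 : act 2 n211321 = n197555 := d3_1 D211321 (iv6 F404806) (iv2 F389274)
theorem F461104 : act 4 n211321 = n192498 := d10_1 D211321 (iv6 F386836) (iv4 F375861)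
theorem F461105 : act 7 n211321 = n192901 := d14_2 F461083 D211321 (iv6 D192901) (iv7 F385043) (iv6 F461080)
theorem F461106 : act 5 n211321 = n191257 := d21_6 F417958 F417956 (iv5 F386663) (iv6 F439962) (iv1 F439965) D211321 F407661 F407659 (iv6 F416769) (iv1 F416772)
theorem F461107 : act 0 n197551 = n211321 := d21_4 D197533 (iv1 F404785) (iv5 D197550) D197551 (iv6 D211321) D211320 F461102 (iv5 D197538) (iv6 D108433) D108429
theorem F461108 : act 1 n192404 = n211321 := d15_0 (iv0 F461107) F404789 (iv2 F386654)
def n211322 : Q := act 7 n141827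
theorem D211322 : act 7 n141827 = n211322 := rfl
theorem F461109 : act 3 n211322 = n141840 := d8_1 D211322 (iv7 D141840) (iv3 F224852)
theorem F461110 : act 5 n211322 = n141828 := d13_1 D211322 (iv7 D141828) D141827
theorem F461111 : act 1 n190305 = n211322 := d15_1 F461086 (iv7 D211322) (iv2 F461084)
theorem F461112 : act 6 n175025 = n211322 := d12_0 F461110 F393145 F393141 (iv6 D175026) D175025
def n211323 : Q := act 3 n141829
theorem D211323 : act 3 n141829 = n211323 := rfl
theorem F461113 : act 2 n211323 = n201106 := d0_1 D211323 (iv3 F424958) F424957 (iv3 D141937) (iv2 F406941)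
theorem F461114 : act 4 n211323 = n195166 := d5_2 (iv4 F406942) D211323 F396058 F406939 (iv3 D198122)
theorem F461115 : act 7 n211323 = n141942 := d8_2 (iv7 F406943) D211323 (iv3 D141942)
theorem F461116 : act 0 n211323 = n196580 := d20_4 F164769 D108945 (iv4 F406942) D211323 (iv3 F453977) F453978 (iv1 F220027) (iv4 F408368) F408366 (iv1 D196327)
theorem F461117 : act 1 n211323 = n201103 := d15_1 (iv0 F461116) F419100 F418438
def n211324 : Q := act 4 n141831
theorem D211324 : act 4 n141831 = n211324 := rfl
theorem F461118 : act 2 n211324 = n141948 := d1_1 D211324 (iv4 D141948) (iv2 F224855)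
theorem F461119 : act 6 n211324 = n141839 := d10_2 (iv6 F224856) D211324 (iv4 D141839)
theorem F461120 : act 0 n211324 = n163973 := d18_2 F459970 D211324 F258445 (iv5 F343787) (iv4 F359227) F223481 (iv4 F169162) F363338 D211065
theorem F461121 : act 1 n211324 = n203898 := d18_6 (iv1 F406883) F371834 F331114 F168579 D141831 D211324 F430290 F406222 (iv5 F406224)
def n211325 : Q := act 7 n141831
theorem D211325 : act 7 n141831 = n211325 := rfl
theorem F461122 : act 2 n211325 = n141949 := d4_1 D211325 (iv7 D141949) (iv2 F224855)
theorem F461123 : act 5 n211325 = n141832 := d13_1 D211325 (iv7 D141832) D141831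
theorem F461124 : act 1 n141947 = n211325 := d15_1 D141947 (iv7 D211325) F224855
theorem F461125 : act 1 n211325 = n141946 := d15_1 F461124 (iv7 F459969) F459967
theorem F461126 : act 4 n203896 = n211325 := d18_3 F400343 F258396 D203896 F461123 (iv4 F331088) F331091 (iv4 F402322) (iv0 D196326) D196328
theorem F461127 : act 7 n211324 = n203896 := d11_0 F461126 (iv7 D211325) D211324
def n211326 : Q := act 2 n141833
theorem D211326 : act 2 n141833 = n211326 := rfl
theorem F461128 : act 3 n211326 = n141952 := d0_2 D141833 D211326 (iv2 D141952) (iv3 D66542) (iv2 F166454)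
theorem F461129 : act 4 n211326 = n206055 := d1_2 (iv4 F224861) D211326 (iv2 D206055)
theorem F461130 : act 6 n211326 = n196990 := d3_2 (iv6 F342475) D211326 (iv2 F402582)
theorem F461131 : act 7 n211326 = n141961 := d4_2 (iv7 F224862) D211326 (iv2 D141961)
theorem F461132 : act 1 n211326 = n141858 := d15_0 F390437 (iv7 F224862) D211326
theorem F461133 : act 1 n141960 = n211326 := d15_0 F461132 (iv7 F392745) F392743
def n211327 : Q := act 5 n141833
theorem D211327 : act 5 n141833 = n211327 := rfl
theorem F461134 : act 3 n211327 = n141834 := d6_1 D211327 (iv5 D141834) D141833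
theorem F461135 : act 6 n211327 = n196911 := d12_2 (iv6 F342475) D211327 F402256 F399941 F342472
theorem F461136 : act 7 n211327 = n141962 := d13_2 (iv7 F224862) D211327 (iv5 D141962)
theorem F461137 : act 0 n211327 = n193727 := d17_2 F424716 D211327 (iv5 D193727) (iv4 D102261) D102262 F390788 F390441 F453166 F453163
theorem F461138 : act 0 n193718 = n211327 := d21_7 (iv5 D68178) F82146 (iv5 F175351) F331799 (iv1 F245640) F379511 D193718 (iv5 D211327) F342475 (iv1 D145427)
def n211328 : Q := act 4 n141834
theorem D211328 : act 4 n141834 = n211328 := rfl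
theorem F461139 : act 2 n211328 = n141957 := d1_1 D211328 (iv4 D141957) (iv2 F224863)
theorem F461140 : act 6 n211328 = n141944 := d10_2 F460054 D211328 F460057
theorem F461141 : act 7 n211328 = n141964 := d11_2 (iv7 F224864) D211328 (iv4 D141964)
theorem F461142 : act 5 n211328 = n201104 := d16_1 D211328 F419101 (iv5 D199034) (iv4 D110874) D110875 F171744 D141836 F224868 (iv2 F224863)
theorem F461143 : act 0 n211328 = n160409 := d17_0 (iv5 F343817) (iv1 F404732) (iv5 F404736) (iv4 D141968) F171765 F167654 (iv5 F341384) F341383 D211328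
theorem F461144 : act 1 n211328 = n197541 := d18_6 (iv1 F166087) (iv4 F94995) F166200 F102386 D141834 D211328 F404742 F225017 (iv5 D66580)
theorem F461145 : act 3 n201105 = n211328 := d6_3 F461142 (iv3 D201104) D201105
def n211329 : Q := act 4 n141836
theorem D211329 : act 4 n141836 = n211329 := rfl
theorem F461146 : act 2 n211329 = n141964 := d1_1 D211329 (iv4 D141964) (iv2 F224867)
theorem F461147 : act 3 n211329 = n141939 := d5_1 D211329 F409047 (iv3 F429383) F429384 F343772
theorem F461148 : act 5 n211329 = n141937 := d9_2 D141836 D211329 (iv4 F363284) (iv5 F332942) (iv4 D110872) F166202 F102386 D141834 D211328 F461142 F419101 (iv5 D199034) (iv4 D110874) D110875 F171744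
theorem F461149 : act 6 n211329 = n199679 := d10_2 (iv6 F343771) D211329 (iv4 D199679)
theorem F461150 : act 7 n211329 = n141957 := d11_2 (iv7 F224868) D211329 (iv4 D141957)
theorem F461151 : act 0 n211329 = n197541 := d17_0 (iv5 D197541) D197539 F404728 (iv4 D141971) (iv5 F167646) (iv0 D108435) D108437 (iv0 F224869) D211329
theorem F461152 : act 1 n211329 = n160409 := d18_6 D66565 F166082 (iv1 F171757) F171744 D141836 D211329 (iv4 F343803) (iv0 D141986) (iv5 D66568)
def n211330 : Q := act 3 n141837
theorem D211330 : act 3 n141837 = n211330 := rfl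
theorem F461153 : act 5 n211330 = n156335 := d6_2 (iv5 F224870) D211330 (iv3 D156335)
theorem F461154 : act 7 n211330 = n141970 := d8_2 F224872 D211330 (iv3 D141970)
def n211331 : Q := act 4 n141837
theorem D211331 : act 4 n141837 = n211331 := rfl
theorem F461155 : act 2 n211331 = n141968 := d1_1 D211331 (iv4 D141968) F224871
theorem F461156 : act 5 n211331 = n156331 := d9_2 (iv5 F224870) D211331 (iv4 F343833) F215966 (iv4 F215965) (iv5 F215963) (iv4 F167652) (iv5 F224876) (iv4 F413947) F413948 (iv4 F343818) F181225 F172346 F112152 F112157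
theorem F461157 : act 7 n211331 = n141971 := d11_2 F224872 D211331 (iv4 D141971)
theorem F461158 : act 1 n211331 = n196332 := d18_6 (iv1 F223638) F223635 (iv1 F171775) F112157 (iv5 F224870) D211331 (iv4 D196332) D196331 F400356
def n211332 : Q := act 0 n141839
theorem D211332 : act 0 n141839 = n211332 := rfl
theorem F461159 : act 5 n211332 = n197586 := d17_1 D211332 (iv1 D197586) F343178 (iv4 D156336) (iv5 D74360) D74359 (iv5 F224870) (iv0 D141837) D141839
theorem F461160 : act 4 n211332 = n156341 := d18_3 (iv1 D141838) D141839 D211332 (iv5 D156341) (iv4 D74363) F79266 (iv4 F167659) F167661 (iv5 F224876)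
theorem F461161 : act 1 n141977 = n211332 := d15_0 (iv0 D211332) (iv7 F457126) F457124
theorem F461162 : act 2 n141973 = n211332 := d1_3 F461160 F400351 (iv4 F400353)
theorem F461163 : act 7 n141974 = n211332 := d11_0 F461160 (iv7 F400355) (iv4 F400358)
def n211333 : Q := act 1 n141839
theorem D211333 : act 1 n141839 = n211333 := rfl
theorem F461164 : act 1 n211333 = n141977 := d15_1 D211333 (iv7 D141977) (iv2 F224878)
theorem F461165 : act 7 n211333 = n141973 := d15_2 (iv0 D211332) D211333 F461162
theorem F461166 : act 5 n211333 = n197585 := d17_7 (iv1 F343174) F181225 (iv1 F172350) (iv5 F221529) (iv4 F457131) F457132 D211333 (iv0 D197585) F167719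
theorem F461167 : act 4 n211333 = n156339 := d18_7 F360797 (iv4 D66504) (iv1 D31044) (iv4 F49451) D66497 D141839 D211333 (iv0 F365368) (iv5 F365369)
theorem F461168 : act 2 n141974 = n211333 := d1_3 F461167 F400357 (iv4 F400358)
theorem F461169 : act 6 n197717 = n211333 := d10_0 F461167 F413066 F413065
def n211334 : Q := act 3 n141839
theorem D211334 : act 3 n141839 = n211334 := rfl
theorem F461170 : act 5 n211334 = n184082 := d6_2 F457132 D211334 (iv3 F457130)
def n211335 : Q := act 6 n141840
theorem D211335 : act 6 n141840 = n211335 := rfl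
theorem F461171 : act 2 n211335 = n141978 := d3_1 D211335 (iv6 D141978) (iv2 F224879)
theorem F461172 : act 3 n211335 = n175025 := d7_1 D211335 F461112 F461109
theorem F461173 : act 5 n211335 = n175024 := d12_1 D211335 (iv6 F364949) (iv5 F364939) F164726 (iv5 F224880)
theorem F461174 : act 0 n197963 = n211335 := d21_4 (iv5 D197959) (iv1 F168717) D108802 D197963 (iv6 D211335) F224880 (iv1 F102385) D66549 D141965 (iv1 F406287)
def n211336 : Q := act 5 n141841
theorem D211336 : act 5 n141841 = n211336 := rfl
theorem F461175 : act 3 n211336 = n141842 := d6_1 D211336 (iv5 D141842) D141841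
theorem F461176 : act 7 n211336 = n141995 := d13_2 (iv7 F224883) D211336 (iv5 D141995)
theorem F461177 : act 0 n211336 = n204744 := d20_4 D197543 (iv1 F433481) F433483 (iv3 F461175) F433462 D204771 (iv1 F436691) F429384 F343772 F224869
def n211337 : Q := act 6 n141842
theorem D211337 : act 6 n141842 = n211337 := rfl
theorem F461178 : act 2 n211337 = n141989 := d3_1 D211337 (iv6 D141989) (iv2 F224884)
theorem F461179 : act 7 n211337 = n197951 := d14_2 (iv7 F224885) D211337 (iv6 D197951) (iv7 F202535) F343793
def n211338 : Q := act 5 n141843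
theorem D211338 : act 5 n141843 = n211338 := rfl
theorem F461180 : act 3 n211338 = n141844 := d6_1 D211338 (iv5 D141844) D141843
theorem F461181 : act 7 n211338 = n141984 := d13_2 (iv7 F224888) D211338 (iv5 D141984)
theorem F461182 : act 6 n197947 = n211338 := d14_5 F461181 F348940 (iv7 F271725) D174710 (iv7 F406260)
def n211339 : Q := act 0 n141846
theorem D211339 : act 0 n141846 = n211339 := rfl
theorem F461183 : act 5 n211339 = n178664 := d17_1 D211339 F429662 F429659 (iv4 D140495) D140496 F345322 (iv5 F345311) F180856 D141846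
theorem F461184 : act 4 n211339 = n197700 := d18_1 D211339 F405427 F181992 (iv5 F360847) F157407 D102457 D193898 F422453 (iv5 F422427)
theorem F461185 : act 3 n211339 = n178670 := d20_5 (iv4 F165171) (iv1 F336120) D196782 F401779 D211339 F336242 (iv1 F179728) (iv4 F179472) F179471 F165173
theorem F461186 : act 2 n201919 = n211339 := d15_3 (iv0 D211339) F360819 (iv7 F422373)
theorem F461187 : act 1 n141851 = n211339 := d15_0 (iv0 D211339) (iv7 F401864) F401862
theorem F461188 : act 7 n211339 = n201933 := d15_2 (iv0 F345485) F461187 (iv2 F422433)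
theorem F461189 : act 6 n197701 = n211339 := d14_5 F461188 F422432 F245444 F332968 (iv7 F405430)
def n211340 : Q := act 6 n141846
theorem D211340 : act 6 n141846 = n211340 := rfl
theorem F461190 : act 2 n211340 = n201934 := d3_1 D211340 (iv6 D201934) (iv2 F360818)
theorem F461191 : act 3 n211340 = n201931 := d7_1 D211340 (iv6 F422421) F401779
theorem F461192 : act 4 n211340 = n141848 := d10_1 D211340 (iv6 D141848) D141846
theorem F461193 : act 5 n211340 = n196665 := d12_1 D211340 (iv6 F422422) (iv5 D115270) D115271 (iv5 F422427)
theorem F461194 : act 7 n201940 = n211340 := d13_0 F461193 F401409 D201940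
theorem F461195 : act 0 n200111 = n211340 := d17_2 (iv1 F415009) D200111 F461193 F401706 (iv5 F402418) F402416 F401866 F400930 (iv4 F415008)
theorem F461196 : act 1 n200104 = n211340 := d17_6 (iv1 D49523) F37885 D49497 F180733 D112668 D200104 F461193 F401408 (iv4 D107194)
def n211341 : Q := act 5 n141848
theorem D211341 : act 5 n141848 = n211341 := rfl
theorem F461197 : act 2 n211341 = n195898 := d2_1 D211341 F424696 F424692
theorem F461198 : act 3 n211341 = n199195 := d6_1 D211341 (iv5 F411122) F401791
theorem F461199 : act 6 n211341 = n196446 := d12_2 D141848 D211341 (iv5 F420456) F420457 (iv5 D141847)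
theorem F461200 : act 7 n211341 = n195899 := d13_2 F424760 D211341 (iv5 F424756)
theorem F461201 : act 0 n211341 = n195901 := d17_2 F400253 D211341 (iv5 F423055) (iv4 D202148) F179708 F165178 D196653 F401360 (iv4 F400249)
theorem F461202 : act 0 n195897 = n211341 := d19_0 (iv5 D211341) (iv4 F461192) F461191 F422420 F179878 F164983 (iv3 D63921) (iv1 F76836) F76834 (iv4 F93770) (iv3 F203719) F423588 (iv5 D202311) (iv4 F326816) F326815 (iv1 F224170) (iv5 F401366) F401365 (iv3 F398648)
def n211342 : Q := act 5 n141851
theorem D211342 : act 5 n141851 = n211342 := rfl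
theorem F461203 : act 2 n211342 = n201939 := d2_1 D211342 F422467 F401862
theorem F461204 : act 3 n211342 = n201938 := d6_1 D211342 F422463 F345478
theorem F461205 : act 4 n211342 = n204441 := d9_1 D211342 (iv5 D204441) F357130 D204433 F432516 (iv5 D141847) D141846 F422427 (iv4 F422447) F422448 F342805 D199385 F411920 (iv5 D141852) D141851
theorem F461206 : act 7 n211342 = n201932 := d13_2 (iv7 F349724) D211342 F422426
theorem F461207 : act 0 n211342 = n193896 := d17_2 (iv1 F461187) D211342 (iv5 F458621) F458620 F457847 (iv0 F429473) (iv5 D202725) (iv0 F405427) (iv4 F461184)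
theorem F461208 : act 1 n211342 = n193898 := d17_8 (iv1 D102457) D102458 (iv1 F360245) (iv5 F426664) F426663 (iv5 D202291) (iv0 F345485) D211342 (iv4 D193898)
theorem F461209 : act 6 n193872 = n211342 := d14_5 F461206 (iv6 D201932) (iv7 F179536) D115276 (iv7 F391270)
def n211343 : Q := act 6 n141852
theorem D211343 : act 6 n141852 = n211343 := rfl
theorem F461210 : act 2 n211343 = n208299 := d3_1 D211343 F448803 (iv2 F349728)
theorem F461211 : act 4 n211343 = n202667 := d10_1 D211343 (iv6 F424998) F411920
theorem F461212 : act 0 n211343 = n141937 := d21_4 (iv5 F345311) (iv1 F180857) D141852 D211343 F363283 F192030 (iv1 F191948) (iv5 D120504) (iv6 F191913) (iv1 F349749)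
theorem F461213 : act 0 n201104 = n211343 := d21_4 F351197 (iv1 F362683) (iv5 F362680) (iv6 F419102) (iv6 D211343) (iv5 D141852) (iv1 D66506) (iv5 F101671) D140604 (iv1 F351196)
def n211344 : Q := act 6 n141855
theorem D211344 : act 6 n141855 = n211344 := rfl
theorem F461214 : act 3 n211344 = n141858 := d7_1 D211344 (iv6 D141858) D141855
theorem F461215 : act 4 n211344 = n207994 := d10_1 D211344 F447331 (iv4 F224899)
theorem F461216 : act 0 n194727 = n211344 := d18_2 F365585 (iv4 F394273) F461215 (iv5 D207994) (iv4 F364617) (iv0 F444867) F444864 (iv0 F337057) F365586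
def n211345 : Q := act 5 n141858
theorem D211345 : act 5 n141858 = n211345 := rfl
theorem F461217 : act 1 n211345 = n141970 := d17_6 D102253 (iv5 F366707) (iv1 F314181) F390435 (iv4 F390438) D211345 (iv5 F390771) (iv0 D193715) (iv4 D102256)
def n211346 : Q := act 3 n141865
theorem D211346 : act 3 n141865 = n211346 := rfl
theorem F461218 : act 4 n211346 = n198849 := d5_2 F416474 D211346 F409556 (iv4 F393792) F416478
theorem F461219 : act 0 n211346 = n205009 := d20_10 F434582 F350815 (iv4 F351690) F389191 F389188 (iv3 F416487) (iv4 D200454) D200452 F416474 D211346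
theorem F461220 : act 0 n205441 = n211346 := d20_4 F400526 F351802 (iv4 F220831) (iv3 F436442) (iv3 D211346) (iv4 F416474) (iv1 F416475) D206046 F438989 (iv1 F400530)
theorem F461221 : act 6 n203533 = n211346 := d10_0 F461218 F409557 (iv4 F428759)
def n211347 : Q := act 6 n141865
theorem D211347 : act 6 n141865 = n211347 := rfl
theorem F461222 : act 3 n211347 = n203533 := d7_1 D211347 F461221 (iv3 D211346)
theorem F461223 : act 7 n211347 = n196996 := d14_2 (iv7 F345309) D211347 (iv6 D196996) F165885 D145429
theorem F461224 : act 0 n204302 = n211347 := d20_4 (iv4 F404669) F404671 (iv4 F344449) (iv3 F431957) F461222 F428759 (iv1 F188191) (iv4 F330682) F262003 D178239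
def n211348 : Q := act 3 n141866
theorem D211348 : act 3 n141866 = n211348 := rfl
theorem F461225 : act 4 n211348 = n195404 := d5_2 F416482 D211348 (iv3 F432118) F432119 F416485
theorem F461226 : act 6 n211348 = n196988 := d7_2 F339995 D211348 F402575
theorem F461227 : act 0 n204964 = n211348 := d20_4 F389181 (iv1 D124863) (iv4 F200539) (iv3 F434375) (iv3 D211348) (iv4 F416482) (iv1 D200453) D200454 F416487 (iv1 F389183)
def n211349 : Q := act 3 n141869
theorem D211349 : act 3 n141869 = n211349 := rfl
theorem F461228 : act 2 n211349 = n193188 := d0_1 D211349 (iv3 D193188) (iv2 F388874) (iv3 F388879) F226580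
theorem F461229 : act 4 n211349 = n196488 := d5_2 F459205 D211349 (iv3 F400816) (iv4 F433647) F459207
theorem F461230 : act 5 n211349 = n188958 := d6_2 F224911 D211349 F424173
theorem F461231 : act 7 n211349 = n196847 := d8_2 F424701 D211349 (iv3 F424698)
theorem F461232 : act 0 n211349 = n210430 := d20_4 D197605 (iv1 F459204) F459205 D211349 F457487 F316710 (iv1 F345690) F345692 (iv3 F407426) (iv1 F223449)
theorem F461233 : act 1 n211349 = n196792 := d15_1 (iv0 F461232) (iv7 F461072) F461070
def n211350 : Q := act 0 n141870
theorem D211350 : act 0 n141870 = n211350 := rfl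
theorem F461234 : act 4 n211350 = n196385 := d18_3 (iv1 D141869) D141870 D211350 (iv5 F458524) F458525 (iv0 F226607) (iv4 F180165) (iv0 F226566) F224911
theorem F461235 : act 5 n211350 = n202143 := d19_1 D211350 F423032 F400532 (iv1 F388905) (iv5 F388903) (iv4 D101232) (iv3 F153314) D192051 F385346 F166808 (iv3 F166807) F386538 (iv5 F424837) (iv4 F424838) F425554 (iv1 D202779) (iv5 F415977) F415976 F401333
theorem F461236 : act 1 n196648 = n211350 := d15_0 (iv0 D211350) (iv7 F450305) F450302
theorem F461237 : act 6 n202145 = n211350 := d21_9 (iv5 F401331) D211350 F461235 (iv6 D202143) (iv1 F400948) (iv6 F415118) (iv5 F415119) F400954 D202145 (iv1 F461236)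
theorem F461238 : act 2 n211350 = n202155 := d3_1 F461237 F423075 (iv2 F423041)
theorem F461239 : act 7 n209883 = n211350 := d15_2 (iv0 F423077) D209883 F461238
def n211351 : Q := act 1 n141870
theorem D211351 : act 1 n141870 = n211351 := rfl
theorem F461240 : act 1 n211351 = n196648 := d15_1 D211351 F401330 F345299
theorem F461241 : act 7 n211351 = n202155 := d15_2 (iv0 D211350) D211351 (iv2 F461238)
theorem F461242 : act 4 n211351 = n196386 := d18_7 (iv1 F164800) (iv4 F168142) (iv1 D67448) F49598 D66514 D141870 D211351 F400540 (iv5 D108593)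
theorem F461243 : act 5 n211351 = n202156 := d18_9 F423083 (iv4 F425416) (iv1 F425418) D210903 F459222 F459200 (iv0 D141868) D141870 D211351
theorem F461244 : act 3 n157101 = n211351 := d20_3 F179943 (iv1 F112092) D157101 (iv1 D211351) (iv3 F401333) (iv4 F415976) (iv1 F425550) F425553 (iv3 F351507) (iv1 F245564)
theorem F461245 : act 2 n209883 = n211351 := d2_3 F461243 (iv2 F459191) F459193
def n211352 : Q := act 5 n141871
theorem D211352 : act 5 n141871 = n211352 := rfl
theorem F461246 : act 2 n211352 = n206210 := d2_1 D211352 F439726 F424713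
theorem F461247 : act 7 n211352 = n211023 := d13_2 F424719 D211352 F459780
theorem F461248 : act 0 n211352 = n141890 := d17_2 (iv1 F401812) D211352 F224932 F180123 D195389 F403762 (iv5 D195435) F396622 (iv4 F401809)
theorem F461249 : act 0 n211022 = n211352 := d19_0 (iv5 D211352) (iv4 F396676) (iv3 D195311) (iv1 D105514) D105516 D195318 F396682 (iv1 F400242) (iv5 F400241) F207058 F165687 (iv1 D61441) (iv5 D29083) (iv4 F46723) (iv3 F95933) D130938 D207359 F444515 (iv3 F459778)
def n211353 : Q := act 6 n141871
theorem D211353 : act 6 n141871 = n211353 := rfl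
def n211354 : Q := act 3 n141884
theorem D211354 : act 3 n141884 = n211354 := rfl
theorem F461250 : act 6 n211354 = n204396 := d7_2 F359726 D211354 (iv3 D204396)
theorem F461251 : act 7 n211354 = n184120 := d8_2 (iv7 F331065) D211354 F286059
theorem F461252 : act 0 n211354 = n211172 := d19_4 (iv1 F84420) D66523 D141884 D211354 F460448 F458489 (iv3 F437511) F437515 (iv5 D201082) (iv4 F363764) (iv3 F421979) F421983 (iv5 D115438) (iv4 F162186) D195426 (iv1 F396977) F405340 (iv4 F180869) (iv3 D116088)
theorem F461253 : act 1 n211354 = n211175 := d15_1 (iv0 F461252) F460466 (iv2 F460445)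
def n211355 : Q := act 5 n141885
theorem D211355 : act 5 n141885 = n211355 := rfl
theorem F461254 : act 2 n211355 = n141902 := d2_1 D211355 (iv5 D141902) (iv2 F224923)
theorem F461255 : act 6 n211355 = n141888 := d12_2 D141885 D211355 (iv5 D141888) (iv6 D66524) D66523
def n211356 : Q := act 5 n141886
theorem D211356 : act 5 n141886 = n211356 := rfl
theorem F461256 : act 2 n211356 = n141907 := d2_1 D211356 (iv5 D141907) (iv2 F321328)
theorem F461257 : act 3 n211356 = n175034 := d6_1 D211356 (iv5 F459287) (iv3 F389279)
theorem F461258 : act 6 n211356 = n175030 := d12_2 F459953 D211356 (iv5 D175030) (iv6 F362764) D211061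
theorem F461259 : act 7 n211356 = n141912 := d13_2 (iv7 F321329) D211356 (iv5 D141912)
theorem F461260 : act 4 n211356 = n190847 := d16_2 F224930 D211356 F381313 F362491 F344689 F264190 (iv5 F242246) (iv7 F322139) F322369
theorem F461261 : act 0 n211356 = n203262 := d17_2 D141886 D211356 (iv5 D203262) (iv4 D118291) F86020 (iv0 F201233) F319307 (iv0 D66621) (iv4 F102396)
theorem F461262 : act 1 n211356 = n206261 := d17_6 (iv1 F110071) (iv5 F109547) F200418 F322370 F224930 D211356 (iv5 D206261) F242880 F242879
def n211357 : Q := act 3 n141887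
theorem D211357 : act 3 n141887 = n211357 := rfl
theorem F461263 : act 4 n211357 = n195441 := d5_2 (iv4 F319313) D211357 (iv3 F427427) F427425 F357850
theorem F461264 : act 7 n211357 = n141905 := d8_2 (iv7 F321331) D211357 (iv3 D141905)
def n211358 : Q := act 5 n141887
theorem D211358 : act 5 n141887 = n211358 := rfl
theorem F461265 : act 2 n211358 = n141912 := d2_1 D211358 (iv5 D141912) (iv2 F321330)
theorem F461266 : act 6 n211358 = n199748 := d12_2 (iv6 F319314) D211358 (iv5 D199748) D199749 F439982
theorem F461267 : act 7 n211358 = n141907 := d13_2 (iv7 F321331) D211358 (iv5 D141907)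
theorem F461268 : act 0 n211358 = n206261 := d17_2 (iv1 F224924) D211358 (iv5 D206261) (iv4 D128010) F190679 F123837 F319312 F102558 (iv4 F102400)
theorem F461269 : act 1 n211358 = n203262 := d17_6 D72639 D153614 (iv1 F242243) (iv5 F242246) (iv4 F319313) D211358 (iv5 D203262) (iv0 F190919) (iv4 D72641)
def n211359 : Q := act 2 n141890
theorem D211359 : act 2 n141890 = n211359 := rfl
theorem F461270 : act 3 n211359 = n211030 := d0_2 D141890 D211359 F459799 F223698 (iv2 F182539)
theorem F461271 : act 5 n211359 = n202458 := d2_2 (iv5 F224932) D211359 (iv2 D202458)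
theorem F461272 : act 7 n211359 = n211022 := d4_2 (iv7 F224933) D211359 F459777
theorem F461273 : act 1 n211359 = n206210 := d15_0 (iv0 F439728) (iv7 F224933) D211359
theorem F461274 : act 1 n211023 = n211359 := d15_0 F461273 F439727 F459781
def n211360 : Q := act 4 n141893
theorem D211360 : act 4 n141893 = n211360 := rfl
theorem F461275 : act 2 n211360 = n207359 := d1_1 D211360 F444515 (iv2 F401818)
theorem F461276 : act 3 n211360 = n208869 := d5_1 D211360 F451178 F387530 (iv4 D141894) D141893
theorem F461277 : act 5 n211360 = n207267 := d9_2 (iv5 F224937) D211360 F444054 (iv5 F415046) (iv4 D200109) F180740 (iv4 F223697) D211030 F459801 (iv5 D208154) (iv4 F366068) F249924 F343455 (iv5 D145474) (iv4 F180134)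
theorem F461278 : act 7 n211360 = n207266 := d11_2 (iv7 F224938) D211360 F444050
theorem F461279 : act 0 n211360 = n188117 := d17_0 (iv5 F418547) (iv1 F418549) F374583 F371064 D187976 F371991 (iv5 F401835) (iv0 F401838) D211360
theorem F461280 : act 1 n211360 = n196339 := d18_6 D115729 F228518 (iv1 D145473) (iv4 F180134) (iv5 F224937) D211360 (iv4 D196339) F223624 (iv5 D115732)
def n211361 : Q := act 6 n141893
theorem D211361 : act 6 n141893 = n211361 := rfl
theorem F461281 : act 3 n211361 = n141895 := d7_1 D211361 (iv6 D141895) D141893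
theorem F461282 : act 5 n197784 = n211361 := d21_8 F401835 (iv1 F371991) (iv5 D187976) (iv6 D90707) (iv1 F138950) D187556 F370799 D197784 (iv6 D211361) F401838
def n211362 : Q := act 5 n141894
theorem D211362 : act 5 n141894 = n211362 := rfl
theorem F461283 : act 2 n211362 = n206211 := d2_1 D211362 F439731 (iv2 F224939)
theorem F461284 : act 4 n211362 = n142098 := d9_1 D211362 (iv5 D142098) (iv4 F181998) F181997 (iv4 D115761) (iv5 F180883) D141891 (iv5 F420032) (iv4 D201327) F324164 (iv4 F166903) (iv5 D68209) F84229 (iv5 F180318) D141894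
theorem F461285 : act 7 n211362 = n211036 := d13_2 (iv7 F224940) D211362 (iv5 D211036)
def n211363 : Q := act 6 n141894
theorem D211363 : act 6 n141894 = n211363 := rfl
theorem F461286 : act 2 n211363 = n209193 := d3_1 D211363 F452657 (iv2 F224939)
theorem F461287 : act 3 n211363 = n209620 := d7_1 D211363 F454365 F387530
theorem F461288 : act 4 n211363 = n141895 := d10_1 D211363 (iv6 D141895) D141894
theorem F461289 : act 7 n211363 = n209614 := d14_2 (iv7 F224940) D211363 F459516 F459513 F407356
theorem F461290 : act 5 n211363 = n183476 := d21_6 (iv5 D19282) D19280 D40909 D87804 (iv1 F358551) D211363 (iv1 D183476) (iv5 F134786) (iv6 D87815) (iv1 D40917)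
theorem F461291 : act 0 n184041 = n211363 := d17_0 F461290 (iv1 D183476) (iv5 F134786) (iv4 F286050) (iv5 F405661) (iv0 F460206) (iv5 D211125) (iv0 F412613) (iv4 F412612)
theorem F461292 : act 0 n211363 = n209500 := d21_1 (iv5 F461290) F453941 (iv6 D137672) F219112 D64880 D138067 F431646 F358619 (iv6 F378149) (iv1 F378151)
theorem F461293 : act 0 n191337 = n211361 := d20_4 F336755 (iv1 D98084) D98085 D191337 F461281 (iv4 F461288) F461292 F453940 F405212 F343096
def n211364 : Q := act 1 n141895
theorem D211364 : act 1 n141895 = n211364 := rfl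
theorem F461294 : act 1 n211364 = n198250 := d15_1 D211364 F407345 (iv2 F224941)
theorem F461295 : act 7 n211364 = n211028 := d15_2 (iv0 F380481) D211364 (iv2 F459793)
theorem F461296 : act 5 n211364 = n170828 := d17_7 (iv1 D200598) D200599 F417138 (iv5 F436020) F436018 (iv5 F364846) D211364 F268411 (iv4 F417135)
theorem F461297 : act 4 n211364 = n184552 := d17_9 F332731 (iv5 D134914) F332721 (iv5 F75625) (iv4 F159434) F332729 D180778 (iv5 F364846) D211364
theorem F461298 : act 6 n184551 = n211364 := d21_3 (iv5 F350384) (iv1 F413584) F413582 (iv1 D211364) (iv6 D141895) F180318 (iv1 D53382) D53384 D115773 F331046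
theorem F461299 : act 2 n211364 = n157935 := d3_1 F461298 F362329 (iv2 F366882)
theorem F461300 : act 3 n180407 = n211364 := d0_0 F461299 (iv3 D157935) F112783 (iv3 F132132) (iv2 F280778)
def n211365 : Q := act 3 n141896
theorem D211365 : act 3 n141896 = n211365 := rfl
theorem F461301 : act 2 n211365 = n199026 := d0_1 D211365 F410379 (iv2 F204124) F343835 F331058
theorem F461302 : act 4 n211365 = n152495 := d5_2 (iv4 F224942) D211365 (iv3 F354425) (iv4 F424218) F424216
theorem F461303 : act 6 n211365 = n199023 := d7_2 F438688 D211365 (iv3 F438686)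
theorem F461304 : act 7 n211365 = n188381 := d8_2 F331057 D211365 (iv3 D188381)
theorem F461305 : act 0 n211365 = n184499 := d19_4 (iv1 D115825) D115827 (iv4 F224942) D211365 F413031 (iv4 D199657) (iv3 F412054) F412056 (iv5 F219128) (iv4 F176740) (iv3 D113580) (iv1 F94217) D127358 D206071 F439113 F354183 (iv5 F223102) F223101 (iv3 F182464)
def n211366 : Q := act 3 n141900
theorem D211366 : act 3 n141900 = n211366 := rfl
theorem F461306 : act 6 n211366 = n208762 := d7_2 F434119 D211366 F450746
def n211367 : Q := act 5 n141900
theorem D211367 : act 5 n141900 = n211367 := rfl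
def n211368 : Q := act 5 n141901
theorem D211368 : act 5 n141901 = n211368 := rfl
theorem F461307 : act 3 n211368 = n188114 := d6_1 D211368 (iv5 D188114) (iv3 F387641)
theorem F461308 : act 0 n193269 = n211368 := d21_10 (iv5 D211368) (iv1 D141901) D141902 F224951 D141914 F366255 F291432 F134709 D101424 D193269
def n211369 : Q := act 0 n141902
theorem D211369 : act 0 n141902 = n211369 := rfl
def n211370 : Q := act 1 n141902
theorem D211370 : act 1 n141902 = n211370 := rfl
theorem F461309 : act 6 n190296 = n211370 := d21_3 F382284 (iv1 F425476) F425479 (iv1 D211370) F224951 (iv5 D66531) D66529 D141907 (iv6 F378968) (iv1 F382286)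
theorem F461310 : act 4 n211370 = n190856 := d10_1 F461309 (iv6 D190856) (iv4 F379310)
def n211371 : Q := act 4 n141902
theorem D211371 : act 4 n141902 = n211371 := rfl
theorem F461311 : act 6 n211371 = n141916 := d10_2 (iv6 F224951) D211371 (iv4 D141916)
theorem F461312 : act 5 n211371 = n199901 := d17_5 F461308 (iv5 D211368) (iv1 D141901) D141902 D211371 (iv0 F414061) (iv5 F392949) (iv0 D194363) (iv4 F389367)
theorem F461313 : act 3 n199903 = n211371 := d6_3 F461312 F414060 D199903
theorem F461314 : act 0 n190293 = n211371 := d21_1 (iv5 F392491) F461312 (iv6 D199901) F407759 (iv6 F443501) F443500 (iv1 F378546) (iv5 F372124) F372125 (iv1 F392489)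
theorem F461315 : act 4 n211369 = n194419 := d18_3 F461314 (iv4 D211371) D211369 (iv5 D194419) D194418 F393126 F392485 D194249 (iv5 F392491)
theorem F461316 : act 6 n203690 = n211369 := d10_0 F461315 F393131 (iv4 F429433)
def n211372 : Q := act 0 n141905
theorem D211372 : act 0 n141905 = n211372 := rfl
def n211373 : Q := act 1 n141905
theorem D211373 : act 1 n141905 = n211373 := rfl
def n211374 : Q := act 2 n141905
theorem D211374 : act 2 n141905 = n211374 := rfl
def n211375 : Q := act 4 n141905
theorem D211375 : act 4 n141905 = n211375 := rfl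
theorem F461317 : act 3 n211375 = n195561 := d5_1 D211375 F397351 (iv3 F322137) F322936 D141905
theorem F461318 : act 7 n211375 = n195441 := d11_2 F461264 D211375 (iv4 F461263)
theorem F461319 : act 0 n211375 = n195443 := d20_7 (iv4 D31068) (iv1 D14693) (iv4 F24369) (iv3 F49459) D66529 D141905 D211375 F397002 (iv3 D141979) (iv1 F102424)
theorem F461320 : act 4 n211372 = n209321 := d20_8 (iv4 D193615) D193612 (iv4 F397347) F397346 D195561 (iv3 F461317) (iv4 D211375) D211372 F453216 F390459
theorem F461321 : act 0 n194741 = n211375 := d20_7 (iv4 D128009) (iv1 F319290) D66650 (iv3 F360804) F156180 D104279 (iv4 F394319) (iv4 D211375) (iv3 D141905) F321311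
theorem F461322 : act 3 n141960 = n211372 := d5_5 F461320 F453216 F219367 (iv3 F219359) F382002
theorem F461323 : act 6 n196678 = n211372 := d10_0 F461320 (iv6 D209321) (iv4 F401461)
theorem F461324 : act 2 n211375 = n195440 := d15_3 (iv0 D195440) D195441 (iv7 F461318)
theorem F461325 : act 4 n195440 = n211374 := d1_2 D211375 F461324 (iv2 D211374)
def n211376 : Q := act 5 n141905
theorem D211376 : act 5 n141905 = n211376 := rfl
theorem F461326 : act 3 n211376 = n141907 := d6_1 D211376 (iv5 D141907) D141905
def n211377 : Q := act 6 n141905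
theorem D211377 : act 6 n141905 = n211377 := rfl
theorem F461327 : act 3 n211377 = n141908 := d7_1 D211377 (iv6 D141908) D141905
theorem F461328 : act 0 n211377 = n196988 := d19_4 (iv1 F104401) D68254 (iv4 F351590) (iv3 F461327) (iv5 D196988) (iv4 F218846) (iv3 D136014) F99488 (iv5 F100432) (iv4 F220376) (iv3 F455685) F455687 F407282 (iv4 F407252) F407251 (iv1 F245005) (iv5 F352750) (iv4 F352792) F183095
def n211378 : Q := act 0 n141907
theorem D211378 : act 0 n141907 = n211378 := rfl
theorem F461329 : act 5 n211378 = n154705 := d17_3 D66529 D141907 D211378 F242873 F185836 F322949 (iv5 D66646) (iv0 D31087) (iv4 F49460)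
theorem F461330 : act 4 n211378 = n187270 := d18_1 D211378 (iv1 D187270) F360806 (iv5 D142158) (iv4 D66650) F319290 D128009 (iv0 F321311) D141907
theorem F461331 : act 6 n211378 = n204706 := d21_5 D191015 F381880 F378964 F378968 D211378 (iv5 D204706) (iv1 F253364) (iv5 F429427) F429429 F378999
theorem F461332 : act 2 n203262 = n211378 := d15_3 (iv0 D211378) (iv0 F351591) (iv7 F427555)
theorem F461333 : act 1 n141912 = n211378 := d15_0 (iv0 D211378) (iv7 F461267) F461265
theorem F461334 : act 7 n211378 = n206261 := d15_2 (iv0 F353408) F461333 F439971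
def n211379 : Q := act 4 n141910
theorem D211379 : act 4 n141910 = n211379 := rfl
theorem F461335 : act 2 n211379 = n196730 := d1_1 D211379 (iv4 F401621) (iv2 F389282)
theorem F461336 : act 3 n211379 = n142789 := d5_1 D211379 (iv4 D142789) (iv3 F322346) F322347 D141910
theorem F461337 : act 7 n211379 = n142884 := d11_2 F389281 D211379 F389280
theorem F461338 : act 0 n211379 = n196350 := d20_7 F386526 (iv1 F384581) (iv4 F439961) (iv3 D206259) (iv1 F321312) D141910 D211379 F400443 (iv3 F400430) (iv1 F400433)
def n211380 : Q := act 5 n141910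
theorem D211380 : act 5 n141910 = n211380 := rfl
theorem F461339 : act 3 n211380 = n141912 := d6_1 D211380 (iv5 D141912) D141910
theorem F461340 : act 6 n211380 = n204712 := d12_2 (iv6 F356034) D211380 F433356 F433225 F433224
theorem F461341 : act 7 n211380 = n175034 := d13_2 F389281 D211380 (iv5 F459287)
theorem F461342 : act 0 n211380 = n193267 := d21_7 (iv5 F434267) F387335 F345256 (iv6 D178157) D178154 (iv6 F356034) D211380 (iv5 D193267) D193268 (iv1 F434266)
def n211381 : Q := act 4 n141912
theorem D211381 : act 4 n141912 = n211381 := rfl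
theorem F461343 : act 7 n211381 = n190847 := d11_2 F461259 D211381 (iv4 F461260)
theorem F461344 : act 0 n211381 = n162667 := d17_0 (iv5 D162667) D162664 (iv5 F381469) F381468 (iv5 D154706) (iv0 F190974) D150710 (iv0 F353408) D211381
def n211382 : Q := act 6 n141912
theorem D211382 : act 6 n141912 = n211382 := rfl
theorem F461345 : act 2 n211382 = n199748 := d3_1 D211382 (iv6 F461266) F461265
theorem F461346 : act 3 n211382 = n204712 := d7_1 D211382 (iv6 F461340) F461339
theorem F461347 : act 7 n211382 = n199750 := d14_2 F461259 D211382 F413356 F378977 (iv6 F461258)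
theorem F461348 : act 0 n211382 = n190432 := d21_4 (iv5 D206260) (iv1 F321312) D141912 D211382 F379754 (iv5 D101435) (iv1 F134710) (iv5 F291432) (iv6 F366255) (iv1 F439970)
theorem F461349 : act 5 n211382 = n199736 := d21_6 (iv5 F429434) (iv1 F253360) D204706 (iv6 F461331) (iv1 F461333) D211382 (iv1 F413317) (iv5 F413361) F413362 D203690
def n211383 : Q := act 5 n141913
theorem D211383 : act 5 n141913 = n211383 := rfl
theorem F461350 : act 2 n211383 = n199749 := d2_1 D211383 F439982 (iv2 F322938)
theorem F461351 : act 3 n211383 = n204675 := d6_1 D211383 F433224 F356033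
theorem F461352 : act 6 n211383 = n199736 := d12_2 D141913 D211383 (iv5 F461349) (iv6 D211382) (iv5 D141912)
theorem F461353 : act 4 n211383 = n200628 := d16_6 (iv4 D166490) D166491 F346916 F308699 (iv4 F322939) D211383 (iv5 D200628) (iv7 F416861) (iv2 F416859)
theorem F461354 : act 0 n211383 = n199814 := d17_2 F353407 D211383 F413612 (iv4 D144401) D144402 F350166 (iv5 D142164) (iv0 F322976) (iv4 F246247)
def n211384 : Q := act 3 n141914
theorem D211384 : act 3 n141914 = n211384 := rfl
theorem F461355 : act 6 n211384 = n190307 := d7_2 (iv6 F366255) D211384 (iv3 D190307)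
def n211385 : Q := act 3 n141915
theorem D211385 : act 3 n141915 = n211385 := rfl
theorem F461356 : act 5 n211385 = n153617 := d6_2 (iv5 F322942) D211385 (iv3 D153617)
theorem F461357 : act 7 n211385 = n190309 := d8_2 F379058 D211385 (iv3 F389458)
theorem F461358 : act 2 n211385 = n190308 := d15_3 (iv0 D190308) D190309 (iv7 F461357)
theorem F461359 : act 0 n211385 = n190311 := d21_1 (iv5 F461356) (iv5 F388928) F388929 (iv1 F371991) F371988 (iv5 D100514) D100511 D192681 F389366 F419976
theorem F461360 : act 1 n211385 = n190310 := d15_1 (iv0 F461359) (iv7 F379344) (iv2 F379346)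
def n211386 : Q := act 6 n141915
theorem D211386 : act 6 n141915 = n211386 := rfl
theorem F461361 : act 4 n211386 = n190886 := d10_1 D211386 F381449 F379061
theorem F461362 : act 5 n211386 = n153627 := d12_1 D211386 (iv6 D153627) (iv5 D72646) (iv6 F109165) (iv5 F322942)
theorem F461363 : act 7 n211386 = n190306 := d14_2 F379058 D211386 (iv6 D190306) (iv7 F147508) D190195
theorem F461364 : act 0 n211386 = n199677 := d21_4 (iv5 D206261) F205998 (iv5 F322942) D211386 F413088 (iv5 D111661) D111659 D199748 (iv6 F461266) F461268
def n211387 : Q := act 6 n141917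
theorem D211387 : act 6 n141917 = n211387 := rfl
theorem F461365 : act 3 n211387 = n141978 := d7_1 D211387 (iv6 D141978) (iv3 F224956)
def n211388 : Q := act 6 n141929
theorem D211388 : act 6 n141929 = n211388 := rfl
theorem F461366 : act 2 n211388 = n141931 := d3_1 D211388 (iv6 D141931) D141929
theorem F461367 : act 3 n211388 = n156588 := d7_1 D211388 (iv6 F360782) (iv3 F224976)
theorem F461368 : act 4 n211388 = n201433 := d10_1 D211388 (iv6 D201433) (iv4 F339989)
theorem F461369 : act 7 n211388 = n198195 := d14_2 (iv7 F224978) D211388 F407185 (iv7 F405826) (iv6 F405827)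
theorem F461370 : act 0 n211388 = n208637 := d21_4 F339987 (iv1 F180116) (iv5 F224977) D211388 (iv6 D208637) (iv5 D134850) D134846 F351255 (iv6 D140612) (iv1 F331521)
theorem F461371 : act 5 n211388 = n180482 := d21_6 (iv5 F339955) (iv1 F201847) (iv5 F202869) F339931 F339984 D211388 (iv1 F281406) (iv5 F401127) (iv6 D196577) F350546
def n211389 : Q := act 1 n141931
theorem D211389 : act 1 n141931 = n211389 := rfl
theorem F461372 : act 1 n211389 = n198195 := d15_1 D211389 (iv7 F461369) F461366
theorem F461373 : act 7 n211389 = n208637 := d15_2 (iv0 F341313) D211389 F450273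
theorem F461374 : act 5 n180391 = n211389 := d21_0 (iv1 D211389) F341314 (iv6 F280521) F400576 (iv6 D196395) (iv5 D106942) (iv1 D49406) D49408 D106948 F337385
def n211390 : Q := act 0 n141937
theorem D211390 : act 0 n141937 = n211390 := rfl
theorem F461375 : act 5 n211390 = n196332 := d17_1 D211390 (iv1 F461158) F461156 (iv4 F343833) F215966 F172351 (iv5 F221529) (iv0 F364785) F363284
theorem F461376 : act 4 n211390 = n202666 := d18_1 D211390 (iv1 F424994) D202671 F425016 (iv4 D141988) D141987 (iv4 F404742) (iv0 F461151) F461148
theorem F461377 : act 3 n211390 = n187924 := d20_5 F216761 (iv1 F406933) (iv4 D141938) D141937 D211390 (iv4 D187924) (iv1 D90674) (iv4 F139594) (iv3 F371833) F406882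
theorem F461378 : act 6 n211390 = n210435 := d21_5 (iv5 D57775) D57772 (iv5 F192030) (iv6 F363283) D211390 (iv5 F457519) (iv1 F440425) F400710 F342487 (iv1 F304860)
theorem F461379 : act 1 n201104 = n211390 := d15_0 (iv0 D211390) (iv7 F424965) F424963
theorem F461380 : act 7 n211390 = n208299 := d15_2 (iv0 F461213) F461379 (iv2 F461210)
def n211391 : Q := act 3 n141938
theorem D211391 : act 3 n141938 = n211391 := rfl
theorem F461381 : act 4 n211391 = n203785 := d5_2 D141938 D211391 F429801 F363284 (iv3 D141937)
theorem F461382 : act 7 n211391 = n198127 := d8_2 (iv7 F406931) D211391 (iv3 D198127)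
theorem F461383 : act 6 n193386 = n211391 := d10_0 F461381 (iv6 D203785) (iv4 F389660)
def n211392 : Q := act 5 n141938
theorem D211392 : act 5 n141938 = n211392 := rfl
theorem F461384 : act 2 n211392 = n198124 := d2_1 D211392 (iv5 D198124) (iv2 F406930)
theorem F461385 : act 7 n211392 = n198129 := d13_2 (iv7 F406931) D211392 (iv5 D198129)
theorem F461386 : act 1 n211392 = n208577 := d17_6 F363336 D197820 F405890 (iv5 D141939) D141938 D211392 (iv5 D208577) (iv0 F363355) (iv4 F280734)
def n211393 : Q := act 6 n141938
theorem D211393 : act 6 n141938 = n211393 := rfl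
theorem F461387 : act 2 n211393 = n198125 := d3_1 D211393 (iv6 D198125) (iv2 F406930)
theorem F461388 : act 3 n211393 = n193386 := d7_1 D211393 F461383 (iv3 D211391)
theorem F461389 : act 4 n211393 = n141940 := d10_1 D211393 (iv6 D141940) D141938
theorem F461390 : act 0 n211393 = n203979 := d21_4 D208577 (iv1 F461386) (iv5 D211392) D211393 (iv6 D203979) F195613 F116028 D86153 D180387 F363355
theorem F461391 : act 5 n211393 = n197406 := d21_6 (iv5 D63353) F48108 D50159 D108631 (iv1 F406933) D211393 (iv1 F405563) (iv5 D197732) (iv6 D108621) (iv1 F98653)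
def n211394 : Q := act 5 n141942
theorem D211394 : act 5 n141942 = n211394 := rfl
theorem F461392 : act 2 n211394 = n201105 := d2_1 D211394 (iv5 D201105) (iv2 F362689)
theorem F461393 : act 3 n211394 = n141944 := d6_1 D211394 (iv5 D141944) D141942
theorem F461394 : act 6 n211394 = n201105 := d12_2 F362685 D211394 (iv5 D201105) F177206 (iv5 F163118)
def n211395 : Q := act 3 n141947
theorem D211395 : act 3 n141947 = n211395 := rfl
theorem F461395 : act 5 n211395 = n198316 := d6_2 (iv5 F363351) D211395 (iv3 D198316)
theorem F461396 : act 6 n145305 = n211395 := d12_0 F461395 (iv6 F459351) (iv5 F459354) (iv6 D145306) D145305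
def n211396 : Q := act 4 n141947
theorem D211396 : act 4 n141947 = n211396 := rfl
theorem F461397 : act 7 n211396 = n196419 := d11_2 (iv7 F433287) D211396 (iv4 F433283)
theorem F461398 : act 5 n211396 = n145304 := d17_5 (iv1 D198318) (iv5 D109189) D109187 (iv5 F363351) D211396 F436695 F436693 F413117 (iv4 F407583)
theorem F461399 : act 3 n145305 = n211396 := d6_3 F461398 (iv3 D145304) D145305
theorem F461400 : act 6 n141947 = n211396 := d12_0 F461398 (iv6 F459362) (iv5 D210934) (iv6 F363347) (iv5 F363351)
def n211397 : Q := act 1 n141948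
theorem D211397 : act 1 n141948 = n211397 := rfl
theorem F461401 : act 1 n211397 = n203896 := d15_1 D211397 (iv7 F461127) F461118
theorem F461402 : act 7 n211397 = n163973 := d15_2 (iv0 F405896) D211397 F258444
theorem F461403 : act 6 n197929 = n211397 := d21_3 (iv5 D108782) D108780 D197929 (iv1 D211397) F224994 D141976 (iv1 F425018) F425016 F406232 (iv1 D197932)
theorem F461404 : act 2 n211397 = n203898 := d3_1 F461403 F430291 (iv2 F406216)
theorem F461405 : act 4 n211397 = n163977 := d10_1 F461403 (iv6 F430291) F430290
def n211398 : Q := act 3 n141948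
theorem D211398 : act 3 n141948 = n211398 := rfl
theorem F461406 : act 4 n211398 = n199903 := d5_2 D141948 D211398 F461313 (iv4 D211371) F224950
theorem F461407 : act 6 n211398 = n141975 := d7_2 (iv6 F224994) D211398 (iv3 D141975)
def n211399 : Q := act 5 n141948
theorem D211399 : act 5 n141948 = n211399 := rfl
theorem F461408 : act 0 n173308 = n211399 := d21_10 (iv5 D211399) F405896 D203897 F430288 (iv1 F409346) F409343 F246298 (iv1 D141990) D141991 (iv6 F348946)
def n211400 : Q := act 7 n141948
theorem D211400 : act 7 n141948 = n211400 := rfl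
theorem F461409 : act 2 n211400 = n203896 := d4_1 D211400 (iv7 F461127) F461118
theorem F461410 : act 4 n211400 = n141949 := d11_1 D211400 (iv7 D141949) D141948
theorem F461411 : act 1 n203898 = n211400 := d15_1 F461121 (iv7 D211400) (iv2 F461118)
theorem F461412 : act 1 n211400 = n163973 := d15_1 F461411 (iv7 F461402) F461404
def n211401 : Q := act 6 n141949
theorem D211401 : act 6 n141949 = n211401 := rfl
theorem F461413 : act 7 n211401 = n141978 := d14_2 D141949 D211401 (iv6 D141978) (iv7 D66554) (iv6 F102407)
theorem F461414 : act 0 n211401 = n197963 := d21_4 F407585 (iv1 F224858) (iv5 F224995) D211401 (iv6 D197963) (iv5 D108802) F168436 D196273 F400149 D198317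
def n211402 : Q := act 4 n141950
theorem D211402 : act 4 n141950 = n211402 := rfl
theorem F461415 : act 3 n211402 = n201942 := d5_1 D211402 F422477 F401878 (iv4 F389284) F389283
theorem F461416 : act 6 n211402 = n201940 := d10_2 (iv6 F424761) D211402 (iv4 F424757)
theorem F461417 : act 0 n211402 = n204691 := d20_1 D211402 F433270 (iv3 F433263) F433265 F216758 F98548 (iv1 F166499) (iv4 D66543) D66542 D141950
def n211403 : Q := act 5 n141952
theorem D211403 : act 5 n141952 = n211403 := rfl
theorem F461418 : act 2 n211403 = n141953 := d2_1 D211403 (iv5 D141953) D141952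
theorem F461419 : act 7 n211403 = n203681 := d13_2 (iv7 F360083) D211403 F429392
theorem F461420 : act 0 n211403 = n193289 := d21_1 D211403 (iv5 D193289) F377745 F351251 (iv6 D65946) D65945 D140500 F349729 (iv6 F389328) (iv1 F389331)
def n211404 : Q := act 6 n141952
theorem D211404 : act 6 n141952 = n211404 := rfl
theorem F461421 : act 2 n211404 = n141954 := d3_1 D211404 (iv6 D141954) D141952
theorem F461422 : act 3 n211404 = n196990 := d7_1 D211404 (iv6 F461130) F461128
theorem F461423 : act 0 n200122 = n211404 := d21_4 (iv5 F341357) (iv1 F223583) (iv5 F406592) (iv6 F415112) (iv6 D211404) D211403 F461420 (iv5 D193289) F377745 F351251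
def n211405 : Q := act 0 n141953
theorem D211405 : act 0 n141953 = n211405 := rfl
theorem F461424 : act 4 n211405 = n204765 := d18_1 D211405 (iv1 D204765) F198792 (iv5 F198710) (iv4 F433270) (iv0 F461417) (iv4 D211402) (iv0 D141950) D141953
theorem F461425 : act 5 n211405 = n193288 := d21_2 D141953 D211405 F406591 F406586 F351309 D140498 (iv1 F360793) (iv5 D141852) (iv6 F345475) F360794
theorem F461426 : act 1 n203681 = n211405 := d15_0 (iv0 D211405) F360079 (iv2 F429391)
theorem F461427 : act 6 n199678 = n211405 := d21_3 (iv5 D111945) D111943 (iv5 F413092) (iv1 F461426) (iv6 D203681) (iv5 D120268) (iv1 D55347) D55349 (iv6 F343766) (iv1 F173944)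
theorem F461428 : act 2 n211405 = n193289 := d3_1 F461427 (iv6 F406284) F413093
theorem F461429 : act 4 n193289 = n160467 := d1_2 (iv4 F461424) F461428 (iv2 F433509)
theorem F461430 : act 3 n160467 = n194754 := d5_1 F461429 (iv4 D194754) F159944 (iv4 F156254) (iv3 F389404)
def n211406 : Q := act 1 n141953
theorem D211406 : act 1 n141953 = n211406 := rfl
theorem F461431 : act 1 n211406 = n203681 := d15_1 D211406 (iv7 F461419) F461418
theorem F461432 : act 7 n211406 = n193289 := d15_2 (iv0 D211405) D211406 (iv2 F461428)
theorem F461433 : act 3 n187244 = n211406 := d19_19 (iv1 D211406) (iv5 D141953) (iv4 F179805) (iv3 D115517) F179490 (iv5 F388343) F388344 F283706 F133561 (iv5 D41207) (iv4 F35319) F35318 (iv1 D5043) F7448 (iv4 F17901) F290646 (iv1 F290641) (iv5 F137902) D187244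
theorem F461434 : act 5 n211406 = n193152 := d6_2 (iv5 F369607) F461433 (iv3 D193152)
theorem F461435 : act 4 n204764 = n211406 := d20_8 (iv4 D97004) F292152 (iv4 F156257) (iv3 F389420) F433266 F198784 (iv4 F198792) D204764 (iv3 F461433) F369608
def n211407 : Q := act 4 n141953
theorem D211407 : act 4 n141953 = n211407 := rfl
theorem F461436 : act 3 n211407 = n141958 := d5_1 D211407 (iv4 F407583) (iv3 F407579) (iv4 D141957) (iv3 F224996)
theorem F461437 : act 7 n211407 = n203678 := d11_2 (iv7 F360079) D211407 F429384
theorem F461438 : act 1 n211407 = n200107 := d18_6 F459167 F459165 (iv1 F423210) F179805 D141953 D211407 (iv4 F436683) (iv0 D204079) (iv5 F430957)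
theorem F461439 : act 6 n141953 = n211407 := d14_5 F461437 (iv6 D203678) F191494 D162293 (iv7 F360079)
def n211408 : Q := act 0 n141954
theorem D211408 : act 0 n141954 = n211408 := rfl
theorem F461440 : act 5 n211408 = n200115 := d21_0 F415081 (iv5 F415122) (iv6 F415126) (iv1 F245629) F388957 (iv5 F461434) (iv1 D211406) (iv5 D141953) D141954 D211408
theorem E103975 : n202271 = n202162 := (c17_10 (iv1 D202162) (iv5 D115410) D115408 D202159 (iv4 F423089) F415122 (iv0 F415081) (iv5 F461440) (iv0 D211408) (iv4 F423433))
theorem F461441 : act 3 n202162 = n115519 := (sb E103975 F423432)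
theorem F461442 : act 4 n202162 = n141954 := (sb E103975 F423433)
theorem F461443 : act 6 n202162 = n115517 := (sb E103975 (iv6 D202271))
theorem F461444 : act 2 n200119 = n211408 := d2_3 F461440 F415082 D200119
theorem F461445 : act 6 n202602 = n211408 := d12_0 F461440 F415077 (iv5 F331023) (iv6 F400556) (iv5 F424697)
theorem F461446 : act 7 n200122 = n211408 := d13_0 F461440 (iv7 F415080) D200122
theorem F461447 : act 1 n200119 = n211404 := d15_0 (iv0 F461423) F461446 (iv2 F461444)
def n211409 : Q := act 1 n141954
theorem D211409 : act 1 n141954 = n211409 := rfl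
theorem F461448 : act 7 n211409 = n200119 := d15_2 (iv0 D211408) D211409 F461444
theorem F461449 : act 5 n211409 = n198346 := d18_9 F407699 (iv4 F179707) D202144 F423033 (iv5 F423094) (iv4 D202163) D202162 F461442 D211409
theorem F461450 : act 6 n198347 = n211409 := d21_3 (iv5 F405680) F405682 D198347 (iv1 D211409) (iv6 D141954) D141953 D211405 F461425 F406591 F406586
theorem F461451 : act 2 n211409 = n200122 := d3_1 F461450 F415112 (iv2 F407701)
def n211410 : Q := act 5 n141960
theorem D211410 : act 5 n141960 = n211410 := rfl
theorem F461452 : act 6 n211410 = n196422 := d12_2 (iv6 F382003) D211410 F400645 (iv6 D107206) D107205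
theorem F461453 : act 0 n211410 = n141970 := d17_2 (iv1 F461133) D211410 (iv5 F390771) F390767 (iv5 D106137) D106136 D195652 F439030 (iv4 F461129)
def n211411 : Q := act 5 n141961
theorem D211411 : act 5 n141961 = n211411 := rfl
theorem F461454 : act 2 n211411 = n141962 := d2_1 D211411 (iv5 D141962) D141961
theorem F461455 : act 3 n211411 = n203681 := d6_1 D211411 F429392 (iv3 F360082)
theorem F461456 : act 6 n211411 = n203679 := d12_2 F360086 D211411 (iv5 D203679) D203680 (iv5 F429390)
theorem F461457 : act 0 n211411 = n193718 := d17_2 (iv1 F392748) D211411 (iv5 D193718) (iv4 D102256) D102257 F378434 (iv5 F375894) (iv0 F392712) D194301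
theorem F461458 : act 1 n211411 = n193727 := d15_0 (iv0 F461137) F461136 (iv2 F461454)
def n211412 : Q := act 0 n141962
theorem D211412 : act 0 n141962 = n211412 := rfl
theorem F461459 : act 5 n211412 = n193711 := d19_1 D211412 (iv4 D193711) F378400 (iv1 D47826) (iv5 D23014) (iv4 F36071) (iv3 F75107) (iv1 F317657) D146097 (iv4 F332531) (iv3 F368667) (iv1 F390395) F390397 F378949 F448807 F448805 F424961 (iv4 D141964) (iv3 F225007)
theorem F461460 : act 2 n193718 = n211412 := d2_3 F461459 F390749 D193718
theorem F461461 : act 7 n193727 = n211412 := d13_0 F461459 F390750 D193727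
def n211413 : Q := act 1 n141962
theorem D211413 : act 1 n141962 = n211413 := rfl
theorem F461462 : act 7 n211413 = n193718 := d15_2 (iv0 D211412) D211413 F461460
theorem F461463 : act 2 n193727 = n211413 := d4_3 F461462 F461460 (iv7 F461461)
theorem F461464 : act 4 n207638 = n211413 := d11_3 F461462 (iv4 F437464) (iv7 F445799)
theorem F461465 : act 5 n193719 = n211413 := d13_3 F461462 (iv5 D193718) D193719
def n211414 : Q := act 4 n141962
theorem D211414 : act 4 n141962 = n211414 := rfl
def n211415 : Q := act 6 n141962
theorem D211415 : act 6 n141962 = n211415 := rfl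
theorem F461466 : act 2 n211415 = n203679 := d3_1 D211415 (iv6 F461456) F461454
theorem F461467 : act 3 n211415 = n141965 := d7_1 D211415 (iv6 D141965) (iv3 F225007)
theorem F461468 : act 5 n211415 = n199422 := d12_1 D211415 F441239 (iv5 F441236) (iv6 D141963) D141962
theorem F461469 : act 7 n211415 = n199680 := d14_2 F461136 D211415 F413104 (iv7 F402258) (iv6 F461135)
def n211416 : Q := act 3 n141964
theorem D211416 : act 3 n141964 = n211416 := rfl
theorem F461470 : act 5 n211416 = n201106 := d6_2 F424961 D211416 (iv3 F424958)
theorem F461471 : act 7 n211416 = n201105 := d8_2 F461141 D211416 F461145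
def n211417 : Q := act 4 n141967
theorem D211417 : act 4 n141967 = n211417 := rfl
theorem F461472 : act 6 n211417 = n141968 := d10_2 (iv6 F404751) D211417 (iv4 D141968)
theorem F461473 : act 7 n211417 = n197963 := d11_2 F381920 D211417 F413944
theorem F461474 : act 5 n211417 = n196572 := d16_7 F228332 D156088 (iv4 F388349) F388350 (iv4 F389400) (iv5 F389402) D211417 F415033 (iv2 F415030)
theorem F461475 : act 0 n141978 = n211417 := d21_10 F461474 (iv1 D196572) D196573 (iv6 F436678) F460056 F460054 (iv5 D141834) (iv1 F102384) (iv5 F102411) D141978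
def n211418 : Q := act 2 n141970
theorem D211418 : act 2 n141970 = n211418 := rfl
def n211419 : Q := act 4 n141970
theorem D211419 : act 4 n141970 = n211419 := rfl
def n211420 : Q := act 6 n141970
theorem D211420 : act 6 n141970 = n211420 := rfl
theorem F461476 : act 3 n211420 = n141972 := d7_1 D211420 (iv6 D141972) D141970
def n211421 : Q := act 3 n141971
theorem D211421 : act 3 n141971 = n211421 := rfl
theorem F461477 : act 6 n211421 = n197960 := d7_2 F362796 D211421 F406289
def n211422 : Q := act 7 n141972
theorem D211422 : act 7 n141972 = n211422 := rfl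
theorem F461478 : act 2 n211422 = n197962 := d4_1 D211422 (iv7 F413938) F413936
theorem F461479 : act 4 n211422 = n197721 := d11_1 D211422 F405511 (iv4 F362795)
theorem F461480 : act 5 n211422 = n208053 := d13_1 D211422 F447654 F444336
theorem F461481 : act 1 n160420 = n211422 := d15_1 F413941 (iv7 D211422) (iv2 F413936)
theorem F461482 : act 1 n211422 = n199421 := d15_1 F461481 F412117 (iv2 F253408)
def n211423 : Q := act 3 n141973
theorem D211423 : act 3 n141973 = n211423 := rfl
def n211424 : Q := act 6 n141973
theorem D211424 : act 6 n141973 = n211424 := rfl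
theorem F461483 : act 7 n211424 = n197945 := d14_2 F461165 D211424 (iv6 D197945) (iv7 F405496) F461169
def n211425 : Q := act 3 n141974
theorem D211425 : act 3 n141974 = n211425 := rfl
theorem F461484 : act 6 n211425 = n197937 := d7_2 F405370 D211425 F406239
def n211426 : Q := act 0 n141975
theorem D211426 : act 0 n141975 = n211426 := rfl
theorem F461485 : act 5 n211426 = n209475 := d17_3 D209684 F454618 D211426 (iv4 D209475) (iv5 D136506) F218609 (iv5 F220019) (iv0 D136814) D136815
theorem F461486 : act 4 n211426 = n190108 := d18_1 D211426 (iv1 F378872) (iv4 F453975) (iv5 D209511) (iv4 D136569) D136568 (iv4 F453802) F454621 F454618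
theorem F461487 : act 3 n211426 = n190107 := d20_5 (iv4 D141971) (iv1 D66552) D66553 D141975 D211426 (iv4 D190107) F147307 D95656 D190134 (iv1 F378947)
theorem F461488 : act 1 n209469 = n211426 := d15_0 (iv0 D211426) (iv7 F408378) (iv2 F453813)
theorem F461489 : act 6 n190952 = n211426 := d10_0 F461486 F378870 D190952
def n211427 : Q := act 6 n141977
theorem D211427 : act 6 n141977 = n211427 := rfl
theorem F461490 : act 3 n211427 = n210892 := d7_1 D211427 F459174 F408377
theorem F461491 : act 4 n211427 = n141978 := d10_1 D211427 (iv6 D141978) (iv4 F225009)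
theorem F461492 : act 5 n211427 = n210890 := d12_1 D211427 (iv6 D210890) D210889 (iv6 F459162) F411402
def n211428 : Q := act 1 n141978
theorem D211428 : act 1 n141978 = n211428 := rfl
theorem F461493 : act 5 n145302 = n211428 := d21_0 (iv1 D211428) (iv5 F424804) (iv6 D202623) (iv1 F331818) (iv6 D107197) F78287 (iv1 F93290) F182523 D107086 F362963
theorem F461494 : act 6 n197721 = n211428 := d21_3 F413092 (iv1 F173934) D197721 (iv1 D211428) (iv6 D141978) F102411 (iv1 F102380) D141836 F343771 D199678
theorem F461495 : act 2 n211428 = n197963 := d3_1 F461494 (iv6 D197963) (iv2 F405510)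
theorem F461496 : act 3 n211428 = n145303 := d7_1 F461494 (iv6 F435104) F435103
def n211429 : Q := act 4 n141980
theorem D211429 : act 4 n141980 = n211429 := rfl
theorem F461497 : act 2 n211429 = n190134 := d1_1 D211429 F378945 (iv2 F365371)
theorem F461498 : act 3 n211429 = n191031 := d5_1 D211429 F381938 (iv3 F381848) F381849 F381482
theorem F461499 : act 5 n211429 = n211343 := d9_2 D141980 D211429 F461211 F424997 F215957 F98224 F94995 D106901 D196332 (iv5 F461375) F461376 F424993 F216112 (iv5 F162203) (iv4 F166082)
theorem F461500 : act 7 n211429 = n208560 := d11_2 (iv7 F225011) D211429 (iv4 D208560)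
theorem F461501 : act 0 n211429 = n199880 := d17_0 F413948 (iv1 F343831) F343829 (iv4 F198786) (iv5 F343795) F223638 (iv5 F400356) F400354 D211429
theorem F461502 : act 1 n211429 = n211331 := d18_6 D66495 (iv4 F102386) F166084 (iv4 F166082) D141980 D211429 (iv4 D211331) (iv0 D141837) (iv5 D66497)
theorem F461503 : act 6 n191029 = n211429 := d21_3 F429392 (iv1 F360795) (iv5 F381931) F461501 (iv6 D199880) (iv5 D111945) D111943 (iv5 F413092) F461427 (iv1 F461426)
def n211430 : Q := act 6 n141980
theorem D211430 : act 6 n141980 = n211430 := rfl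
theorem F461504 : act 2 n211430 = n190159 := d3_1 D211430 F379006 (iv2 F365371)
theorem F461505 : act 3 n211430 = n191004 := d7_1 D211430 (iv6 F381846) F381482
theorem F461506 : act 4 n211430 = n191029 := d10_1 D211430 F461503 (iv4 D211429)
theorem F461507 : act 0 n211430 = n211424 := d21_4 (iv5 D66568) D66565 D141980 D211430 (iv6 D211424) (iv5 F405375) (iv1 D197689) (iv5 F404757) F404755 (iv1 D141987)
theorem F461508 : act 7 n191002 = n211430 := d11_0 F461506 (iv7 D191029) (iv4 F381841)
theorem F461509 : act 1 n197945 = n191002 := d15_1 (iv0 F406257) F461508 F461504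
def n211431 : Q := act 4 n141981
theorem D211431 : act 4 n141981 = n211431 := rfl
theorem F461510 : act 5 n211431 = n187993 := d18_4 (iv1 F388220) F165314 D141981 D211431 F372227 F384996 F401762 F401764 (iv5 D107358)
theorem F461511 : act 0 n211431 = n211379 := d20_1 D211431 (iv4 D211379) (iv3 D141910) (iv1 D66530) F49459 F24369 D14692 D31063 D66567 D141981
theorem F461512 : act 1 n211431 = n210923 := d15_1 (iv0 F461511) (iv7 F459306) (iv2 F461335)
def n211432 : Q := act 5 n141981
theorem D211432 : act 5 n141981 = n211432 := rfl
def n211433 : Q := act 0 n141984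
theorem D211433 : act 0 n141984 = n211433 := rfl
theorem F461513 : act 5 n211433 = n193313 := d21_2 D141984 D211433 F457283 (iv1 F457281) (iv6 D140437) D140436 (iv1 F228372) (iv5 D106912) D106913 F400434
theorem F461514 : act 5 n210921 = n194549 := d17_3 (iv1 F459305) (iv5 D210923) D210921 F393679 (iv5 F461513) (iv0 D211433) (iv5 D141984) (iv0 F400434) (iv4 F400443)
theorem F461515 : act 3 n194550 = n210921 := d6_3 F461514 (iv3 D194549) D194550
theorem F461516 : act 3 n193315 = n211433 := d6_3 F461513 (iv3 D193313) D193315
theorem F461517 : act 6 n204075 = n211433 := d12_0 F461513 F457283 F459627 (iv6 F459633) (iv5 F433491)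
def n211434 : Q := act 1 n141984
theorem D211434 : act 1 n141984 = n211434 := rfl
theorem F461518 : act 5 n210722 = n211434 := d21_6 (iv5 D145394) D145391 (iv5 F407022) F407023 (iv1 F222770) D210722 (iv1 D211434) (iv5 D141984) D141985 F364905
def n211435 : Q := act 1 n141985
theorem D211435 : act 1 n141985 = n211435 := rfl
theorem F461519 : act 7 n211435 = n193497 := d15_2 (iv0 F364905) D211435 F390070
theorem F461520 : act 5 n211435 = n196637 := d17_7 F385596 (iv5 D100116) (iv1 F155452) D82932 D173292 F348943 D211435 F401285 (iv4 F385598)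
theorem F461521 : act 4 n211435 = n210931 := d17_9 (iv1 D210931) (iv5 D140372) D140370 D210926 F459317 (iv5 F411055) (iv0 F411057) F348943 D211435
theorem F461522 : act 3 n192343 = n211435 := d19_19 (iv1 D211435) (iv5 F348943) (iv4 D173292) F127785 F305107 (iv5 D77465) (iv4 F301348) F87262 (iv1 F53095) D33928 F310928 (iv3 F188523) (iv1 F232781) F307793 (iv4 F109594) (iv3 F307518) F156723 (iv5 F156795) (iv4 F386522)
theorem F461523 : act 2 n211435 = n196638 := d0_1 F461522 F401287 F165139 (iv3 F228434) F386523
def n211436 : Q := act 3 n141986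
theorem D211436 : act 3 n141986 = n211436 := rfl
theorem F461524 : act 2 n211436 = n193301 := d0_1 D211436 F389420 F369632 F369633 (iv2 F343802)
theorem F461525 : act 5 n211436 = n193299 := d6_2 (iv5 F225014) D211436 F389417
theorem F461526 : act 6 n211436 = n160464 := d7_2 (iv6 F343804) D211436 (iv3 D160464)
theorem F461527 : act 7 n211436 = n204751 := d8_2 F225016 D211436 (iv3 F433468)
theorem F461528 : act 0 n211436 = n204742 := d21_7 (iv5 D199593) F361596 (iv5 F459710) (iv6 F459713) F424046 F424044 (iv5 F461525) (iv5 F433457) (iv6 F433459) F412794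
theorem F461529 : act 1 n211436 = n204752 := d15_1 (iv0 F461528) (iv7 D204752) (iv2 F433456)
def n211437 : Q := act 0 n141989
theorem D211437 : act 0 n141989 = n211437 := rfl
theorem F461530 : act 4 n211437 = n197820 := d20_0 F405890 F409047 (iv3 F429383) F433757 F401112 (iv4 D162671) (iv1 F301423) (iv4 F271724) F348942 D211437
theorem F461531 : act 1 n197951 = n211437 := d15_0 (iv0 D211437) F348950 (iv2 F406266)
theorem F461532 : act 2 n198319 = n211437 := d1_3 F461530 F405887 D198319
theorem F461533 : act 6 n200867 = n211437 := d10_0 F461530 F405888 D200867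
def n211438 : Q := act 1 n141989
theorem D211438 : act 1 n141989 = n211438 := rfl
theorem F461534 : act 1 n211438 = n197951 := d15_1 D211438 (iv7 F461179) F461178
theorem F461535 : act 7 n211438 = n198319 := d15_2 (iv0 D211437) D211438 F461532
theorem F461536 : act 4 n211438 = n198320 := d17_9 (iv1 F407590) (iv5 D141944) (iv1 D66538) D66539 D141948 D211399 (iv0 F461408) (iv5 F348947) D211438
theorem F461537 : act 5 n196947 = n211438 := d21_6 (iv5 D195386) (iv1 F162131) D140385 F402423 (iv1 D196946) D196947 (iv1 D211438) F348947 F348946 F396902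
theorem F461538 : act 3 n211438 = n196953 := d6_1 F461537 (iv5 D196953) (iv3 F402424)
theorem F461539 : act 6 n211438 = n160466 := d12_2 D196947 F461537 F401351 (iv6 D145360) F166891
def n211439 : Q := act 3 n141990
theorem D211439 : act 3 n141990 = n211439 := rfl
theorem F461540 : act 5 n211439 = n196965 := d6_2 F246298 D211439 F402461
theorem F461541 : act 7 n211439 = n196970 := d8_2 F400536 D211439 F402483
theorem F461542 : act 2 n196974 = n211439 := d2_3 F461540 (iv2 F402477) D196974
def n211440 : Q := act 5 n141993
theorem D211440 : act 5 n141993 = n211440 := rfl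
theorem F461543 : act 7 n211440 = n208563 := d13_2 (iv7 F366180) D211440 (iv5 D208563)
def n211441 : Q := act 5 n141994
theorem D211441 : act 5 n141994 = n211441 := rfl
theorem F461544 : act 2 n211441 = n141995 := d2_1 D211441 (iv5 D141995) D141994
theorem F461545 : act 6 n211441 = n204732 := d12_2 F405316 D211441 (iv5 D204732) (iv6 F433250) F433248
theorem F461546 : act 0 n204744 = n211441 := d19_0 (iv5 D211441) (iv4 F438696) F438695 F432145 (iv5 D158585) (iv4 F249761) F304271 (iv1 D81805) D81806 F329054 (iv3 F209501) (iv1 D130906) F95914 (iv4 F104279) D145302 (iv1 F415042) (iv5 F436690) (iv4 D204771) (iv3 F433462)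
def n211442 : Q := act 0 n141995
theorem D211442 : act 0 n141995 = n211442 := rfl
theorem F461547 : act 5 n211442 = n203575 := d17_3 (iv1 D141993) D141995 D211442 (iv4 D203575) (iv5 D119596) F303530 D166202 (iv0 F365585) F366178
theorem F461548 : act 3 n211442 = n204079 := d20_5 (iv4 F253468) (iv1 F363312) (iv4 D141997) (iv3 F225020) D211442 F436683 (iv1 F461438) (iv4 D211407) F224996 (iv1 F341377)
theorem F461549 : act 7 n204744 = n211442 := d8_0 F461548 F431006 (iv3 F433462)
def n211443 : Q := act 1 n141995
theorem D211443 : act 1 n141995 = n211443 := rfl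
theorem F461550 : act 6 n160459 = n211443 := d21_3 (iv5 D163964) F193376 F254090 (iv1 D211443) F413071 (iv5 D199671) F358384 D160444 (iv6 F353992) (iv1 F258434)
theorem F461551 : act 5 n206262 = n211443 := d21_6 (iv5 F406093) (iv1 F406091) (iv5 F459681) F459682 (iv1 F424035) (iv6 F439974) (iv1 D211443) (iv5 D141995) D141996 (iv1 F405321)
theorem F461552 : act 3 n211443 = n206263 := d6_1 F461551 (iv5 D206263) D206262
theorem F461553 : act 4 n211443 = n157235 := d16_2 (iv4 F439973) F461551 (iv5 D157235) F112209 D74785 (iv4 F311239) D119596 (iv7 F383145) F383143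
theorem F461554 : act 2 n204744 = n211443 := d16_9 F461553 (iv5 D157235) F112209 D74785 (iv4 F311239) D119596 D203575 (iv5 F461547) (iv7 F461549)
def n211444 : Q := act 4 n141995
theorem D211444 : act 4 n141995 = n211444 := rfl
def n211445 : Q := act 3 n141997
theorem D211445 : act 3 n141997 = n211445 := rfl
def n211446 : Q := act 5 n142008
theorem D211446 : act 5 n142008 = n211446 := rfl
theorem F461555 : act 2 n211446 = n208492 := d2_1 D211446 F449609 (iv2 F225035)
theorem F461556 : act 3 n211446 = n142009 := d6_1 D211446 (iv5 D142009) D142008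
theorem F461557 : act 4 n211446 = n204134 := d9_1 D211446 (iv5 D204134) F356499 (iv5 F343222) (iv4 F391259) (iv5 F391263) (iv4 F223429) D210889 F459159 F384616 F172345 (iv5 F343204) (iv4 F391314) F391315 (iv4 F225036)
theorem F461558 : act 7 n211446 = n202725 := d13_2 (iv7 F225037) D211446 (iv5 D202725)
theorem F461559 : act 0 n211446 = n199567 := d17_2 (iv1 F405420) D211446 F412695 (iv4 F423318) (iv5 D202228) F422428 F422426 D201933 (iv4 F422431)
theorem F461560 : act 1 n211446 = n203749 := d17_6 (iv1 D196511) (iv5 F179772) F391318 F391315 (iv4 F225036) D211446 F429678 (iv0 F424006) F424003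
theorem F461561 : act 6 n211446 = n194715 := d21_9 F457228 (iv1 F460112) (iv5 F460114) (iv6 D197600) (iv1 F167930) D197699 F405417 (iv1 F405420) D211446 F457522
def n211447 : Q := act 6 n142008
theorem D211447 : act 6 n142008 = n211447 := rfl
theorem F461562 : act 2 n211447 = n196655 := d3_1 D211447 F401369 (iv2 F225035)
theorem F461563 : act 3 n211447 = n142010 := d7_1 D211447 (iv6 D142010) D142008
theorem F461564 : act 4 n211447 = n196653 := d10_1 D211447 (iv6 F401362) (iv4 F225036)
theorem F461565 : act 5 n211447 = n195504 := d12_1 D211447 (iv6 F397178) (iv5 F394214) (iv6 F461561) (iv5 D211446)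
theorem F461566 : act 0 n211447 = n192406 := d21_4 (iv5 F429678) (iv1 F461560) (iv5 D211446) D211447 (iv6 D192406) (iv5 F375355) (iv1 F412538) (iv5 F412541) F424004 F424006
theorem F461567 : act 0 n198033 = n211447 := d21_4 (iv5 D50274) D50272 D108879 D198033 (iv6 D211447) D211446 F461559 F412695 (iv6 D198041) (iv1 D108884)
theorem F461568 : act 7 n211447 = n202244 := d15_2 (iv0 F400252) (iv0 F461566) F423380
def n211448 : Q := act 6 n142013
theorem D211448 : act 6 n142013 = n211448 := rfl
theorem F461569 : act 2 n211448 = n206390 := d3_1 D211448 (iv6 D206390) (iv2 F225053)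
theorem F461570 : act 3 n211448 = n189143 := d7_1 D211448 F400419 F400415
theorem F461571 : act 4 n211448 = n143974 := d10_1 D211448 (iv6 D143974) F225052
theorem F461572 : act 7 n211448 = n199169 := d14_2 (iv7 F225051) D211448 (iv6 D199169) F172190 F340041
theorem F461573 : act 0 n211448 = n142138 := d21_4 (iv5 F439702) F439704 F331516 D211448 F388152 (iv5 F228433) F203160 F172224 D196979 (iv1 F402523)
theorem F461574 : act 1 n211448 = n189599 := d15_1 (iv0 F461573) (iv7 F389267) F389264
def n211449 : Q := act 0 n142042
theorem D211449 : act 0 n142042 = n211449 := rfl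
theorem F461575 : act 5 n211449 = n163186 := d17_1 D211449 F366553 (iv5 D101364) (iv4 D47181) (iv5 D22696) D22695 D47177 F156110 (iv4 F351572)
theorem F461576 : act 4 n211449 = n154124 := d18_1 D211449 F242193 D157636 F338938 F316710 (iv0 F310753) (iv4 F346604) (iv0 D142040) D142042
theorem F461577 : act 3 n211449 = n163187 := d20_5 (iv4 D157460) F314714 (iv4 F314713) F351593 D211449 (iv4 F396925) (iv1 F396926) (iv4 F424724) F424723 (iv1 F344007)
theorem F461578 : act 2 n196382 = n211449 := d15_3 (iv0 D211449) (iv0 F351595) (iv7 F400527)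
theorem F461579 : act 1 n193187 = n211449 := d15_0 (iv0 D211449) (iv7 F351594) (iv2 F389117)
theorem F461580 : act 7 n211449 = n210143 := d15_2 (iv0 F389121) F461579 F456336
def n211450 : Q := act 3 n142071
theorem D211450 : act 3 n142071 = n211450 := rfl
theorem F461581 : act 2 n211450 = n189599 := d0_1 D211450 (iv3 D189599) (iv2 F156179) F360804 (iv2 F321326)
theorem F461582 : act 4 n211450 = n202713 := d5_2 D142071 D211450 (iv3 D202713) (iv4 F225083) (iv3 D142070)
theorem F461583 : act 7 n211450 = n142138 := d8_2 (iv7 F321327) D211450 (iv3 D142138)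
theorem F461584 : act 0 n211450 = n206390 := d20_10 F440561 F392747 (iv4 F224861) (iv3 D141833) (iv1 F102384) (iv3 F102399) F102400 (iv1 F102558) D142071 D211450
theorem F461585 : act 5 n206390 = n193319 := d17_1 F461584 (iv1 D193319) (iv5 D101449) F74482 D47463 D102268 F390435 (iv0 F425242) (iv4 F461582)
theorem F461586 : act 1 n211450 = n199169 := d15_1 (iv0 F461584) (iv7 F461572) F461569
def n211451 : Q := act 5 n142071
theorem D211451 : act 5 n142071 = n211451 := rfl
theorem F461587 : act 2 n211451 = n142158 := d2_1 D211451 (iv5 D142158) (iv2 F321326)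
theorem F461588 : act 4 n211451 = n187271 := d9_1 D211451 (iv5 F408370) F408371 (iv5 D130312) (iv4 F314468) F319307 D142067 F369849 F369847 D187351 F369924 F333981 F330134 F319312 D142071
theorem F461589 : act 6 n211451 = n204723 := d12_2 F363748 D211451 (iv5 D204723) (iv6 F433237) F433235
theorem F461590 : act 7 n211451 = n142139 := d13_2 (iv7 F321327) D211451 (iv5 D142139)
theorem F461591 : act 0 n211451 = n204768 := d17_2 (iv1 F319311) D211451 (iv5 F436687) F206001 F199425 F268177 (iv5 F322142) F322140 D153610
theorem F461592 : act 1 n211451 = n206263 := d17_6 F190682 F86020 D80551 F319312 D142071 D211451 (iv5 D206263) (iv0 D128012) (iv4 D60153)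
def n211452 : Q := act 6 n142098
theorem D211452 : act 6 n142098 = n211452 := rfl
theorem F461593 : act 2 n211452 = n206212 := d3_1 D211452 (iv6 D206212) F325369
theorem F461594 : act 3 n211452 = n206380 := d7_1 D211452 (iv6 D206380) (iv3 F366042)
theorem F461595 : act 5 n211452 = n196168 := d12_1 D211452 F447794 F447788 (iv6 D142099) D142098
theorem F461596 : act 0 n211452 = n208675 := d21_4 (iv5 D66637) D66635 D142098 D211452 F450415 (iv5 F420123) F377094 (iv5 F439692) (iv6 D206202) F321180
theorem F461597 : act 0 n208677 = n211452 := d21_4 (iv5 F397941) (iv1 F417299) D205555 F450420 (iv6 D211452) (iv5 D142098) (iv1 F180951) (iv5 F373025) F420058 (iv1 D201335)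
def n211453 : Q := act 5 n142116
theorem D211453 : act 5 n142116 = n211453 := rfl
theorem F461598 : act 2 n211453 = n206293 := d2_1 D211453 F440109 (iv2 F320168)
theorem F461599 : act 3 n211453 = n187538 := d6_1 D211453 (iv5 F390397) (iv3 F390398)
theorem F461600 : act 4 n211453 = n206287 := d9_1 D211453 (iv5 D206287) (iv4 D128118) (iv5 D60207) F46189 D28620 D60221 D128129 D206292 F440106 F375590 (iv5 D119497) (iv4 F305018) F320171 D142116
theorem F461601 : act 7 n211453 = n187923 := d13_2 (iv7 F320170) D211453 F371842
theorem F461602 : act 0 n211453 = n143763 := d17_2 (iv1 F320167) D211453 (iv5 D143763) (iv4 D67337) F311050 F109307 (iv5 F199575) F199578 (iv4 F206216)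
theorem F461603 : act 1 n211453 = n187508 := d17_6 (iv1 F188440) (iv5 D60212) F188425 F320171 D142116 D211453 F370628 (iv0 F333386) F333389
def n211454 : Q := act 3 n142136
theorem D211454 : act 3 n142136 = n211454 := rfl
theorem F461604 : act 2 n211454 = n202251 := d0_1 D211454 (iv3 F459177) F459176 F366179 (iv2 F322946)
theorem F461605 : act 4 n211454 = n152737 := d5_2 (iv4 F322947) D211454 (iv3 D152737) (iv4 D72067) (iv3 F108527)
theorem F461606 : act 6 n211454 = n202244 := d7_2 F424864 D211454 (iv3 F424863)
theorem F461607 : act 7 n211454 = n202726 := d8_2 F322146 D211454 F425298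
theorem F461608 : act 1 n204064 = n211454 := d15_1 (iv0 F459167) F461607 (iv2 F459163)
theorem F461609 : act 1 n211454 = n204694 := d15_1 F461608 (iv7 D204694) (iv2 F430956)
theorem F461610 : act 1 n204694 = n210890 := d15_1 F461609 F459166 (iv2 F461604)
def n211455 : Q := act 5 n142138
theorem D211455 : act 5 n142138 = n211455 := rfl
theorem F461611 : act 2 n211455 = n190203 := d2_1 D211455 (iv5 F389266) F389264
theorem F461612 : act 3 n211455 = n142139 := d6_1 D211455 (iv5 D142139) D142138
theorem F461613 : act 6 n211455 = n196558 := d12_2 (iv6 F388152) D211455 F401076 F208144 F228433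
theorem F461614 : act 1 n211455 = n193310 := d17_6 D47460 D102257 F390443 F390441 F390440 D211455 (iv5 D193310) (iv0 D101446) F74482
theorem F461615 : act 0 n211455 = n193315 := d21_1 D211455 (iv5 D193315) D193316 (iv1 F460193) (iv6 D211121) (iv5 F439702) F439704 F331516 D211448 F461573
def n211456 : Q := act 0 n142139
theorem D211456 : act 0 n142139 = n211456 := rfl
theorem F461616 : act 5 n211456 = n153613 := d17_1 D211456 (iv1 F352708) (iv5 F381478) F381477 F149875 D104645 F369919 F369918 F369912
theorem F461617 : act 4 n211456 = n174707 := d18_3 (iv1 F369915) F369912 D211456 (iv5 F303296) F256908 (iv0 F340265) (iv4 F378108) F378110 F369666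
theorem F461618 : act 6 n211456 = n197925 := d21_5 D190860 (iv1 F440378) F440380 F381860 D211456 F406210 F341831 D206626 F441640 (iv1 D190858)
theorem F461619 : act 1 n142158 = n211456 := d15_0 (iv0 D211456) (iv7 F461590) F461587
theorem F461620 : act 3 n197957 = n211456 := d7_3 F461618 F406208 D197957
theorem F461621 : act 2 n211456 = n206263 := d0_1 F461620 (iv3 F461552) (iv2 F461554) F433462 (iv2 F406275)
theorem F461622 : act 7 n211456 = n204768 := d8_2 (iv7 F406276) F461620 (iv3 D204768)
def n211457 : Q := act 1 n142139
theorem D211457 : act 1 n142139 = n211457 := rfl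
theorem F461623 : act 1 n211457 = n142158 := d15_1 D211457 (iv7 F369848) F369850
theorem F461624 : act 7 n211457 = n206263 := d15_2 (iv0 D211456) D211457 (iv2 F461621)
theorem F461625 : act 5 n211457 = n153616 := d17_7 F190970 F56331 F322950 (iv5 D66646) D66645 D142139 D211457 (iv0 F352707) F352710
theorem F461626 : act 2 n204768 = n211457 := d2_3 F461625 F241487 F436687
def n211458 : Q := act 6 n142158
theorem D211458 : act 6 n142158 = n211458 := rfl
theorem F461627 : act 2 n211458 = n204723 := d3_1 D211458 (iv6 F461589) F461587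
theorem F461628 : act 3 n211458 = n187251 := d7_1 D211458 (iv6 D187251) (iv3 F360805)
theorem F461629 : act 4 n211458 = n187273 := d10_1 D211458 (iv6 D187273) F360806
theorem F461630 : act 7 n211458 = n204721 := d14_2 F369848 D211458 (iv6 F433394) F381863 F379297
theorem F461631 : act 0 n211458 = n193303 := d21_4 F389452 (iv1 F225169) D142158 D211458 (iv6 D193303) (iv5 D101444) (iv1 D47208) D47210 D101454 D193321
theorem F461632 : act 5 n160432 = n211458 := d18_9 F461631 F389423 F378980 F413357 (iv5 D199750) (iv4 F377828) F377827 F377819 F253421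
theorem F461633 : act 1 n211458 = n160462 := d15_1 (iv0 F461631) F253466 (iv2 F389422)
def n211459 : Q := act 5 n142159
theorem D211459 : act 5 n142159 = n211459 := rfl
theorem F461634 : act 2 n211459 = n204680 := d2_1 D211459 F433235 (iv2 F363747)
theorem F461635 : act 6 n211459 = n160432 := d12_2 D142159 D211459 F461632 (iv6 D211458) (iv5 D142158)
theorem F461636 : act 7 n211459 = n204679 := d13_2 (iv7 F363746) D211459 F433232
theorem F461637 : act 0 n211459 = n204681 := d17_2 (iv1 F434233) D211459 F433238 F424236 (iv5 D146720) D146719 F243027 F200402 (iv4 F434230)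
theorem F461638 : act 1 n211459 = n204059 := d17_6 D115835 D202494 F424254 (iv5 D142164) (iv4 F225177) D211459 F430933 (iv0 D202490) F180226
def n211460 : Q := act 5 n142249
theorem D211460 : act 5 n142249 = n211460 := rfl
theorem F461639 : act 2 n211460 = n142253 := d2_1 D211460 (iv5 D142253) (iv2 F225219)
theorem F461640 : act 0 n211460 = n203226 := d17_2 (iv1 F348355) D211460 (iv5 D203226) (iv4 F190931) (iv5 F190928) D203634 F429160 F357854 (iv4 F280254)
theorem F461641 : act 1 n211460 = n144446 := d17_6 D54460 F185571 (iv1 F131909) F319580 D142249 D211460 F404357 (iv0 D118244) (iv4 D54462)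
def n211461 : Q := act 1 n142253
theorem D211461 : act 1 n142253 = n211461 := rfl
theorem F461642 : act 7 n211461 = n203226 := d15_2 F454685 D211461 (iv2 F454680)
theorem F461643 : act 5 n211461 = n203178 := d17_7 D118180 F185699 (iv1 F131907) (iv5 F319581) D66682 D142253 D211461 (iv0 D203178) (iv4 D118181)
theorem F461644 : act 3 n197296 = n211461 := d19_19 (iv1 D211461) (iv5 D142253) (iv4 D66682) (iv3 D31101) (iv1 D14702) (iv5 F316304) (iv4 D8334) D8333 (iv1 F296259) F7220 (iv4 F16687) (iv3 F34460) D45913 D98236 D191383 (iv3 F412513) F412517 (iv5 F459649) F459648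
theorem F461645 : act 6 n197223 = n211461 := d21_9 (iv5 D142253) (iv1 F323826) (iv5 F427476) (iv6 F429381) F403957 (iv6 D197319) F167126 F366549 (iv5 F403623) (iv1 D211461)
theorem F461646 : act 2 n211461 = n144446 := d3_1 F461645 F227243 D197223
def n211462 : Q := act 4 n142253
theorem D211462 : act 4 n142253 = n211462 := rfl
theorem F461647 : act 3 n211462 = n192144 := d5_1 D211462 F385744 (iv3 F419354) F419357 (iv3 F225221)
theorem F461648 : act 7 n211462 = n209236 := d11_2 F366324 D211462 F452828
theorem F461649 : act 0 n210786 = n211462 := d20_10 (iv4 D211462) (iv1 F454685) (iv4 D209705) (iv3 D136838) (iv1 D64331) (iv3 F100287) F100288 D65612 D139766 D210786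
theorem F461650 : act 6 n209770 = n211462 := d14_5 F461648 (iv6 D209236) F218794 D136898 D209770
def n211463 : Q := act 6 n142253
theorem D211463 : act 6 n142253 = n211463 := rfl
theorem F461651 : act 3 n211463 = n201186 := d7_1 D211463 F419363 (iv3 F225221)
theorem F461652 : act 4 n211463 = n209770 := d10_1 D211463 F461650 (iv4 D211462)
theorem F461653 : act 7 n211463 = n209766 := d14_2 F366324 D211463 (iv6 D209766) F220068 (iv6 F404355)
def n211464 : Q := act 4 n142314
theorem D211464 : act 4 n142314 = n211464 := rfl
theorem F461654 : act 7 n211464 = n143572 := d11_2 (iv7 F338993) D211464 F226268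
theorem F461655 : act 5 n211464 = n211276 := d16_1 D211464 F460909 (iv5 F452954) F384317 (iv5 F460373) (iv4 D211158) F224051 (iv7 F457486) (iv2 F457484)
theorem F461656 : act 0 n211464 = n143291 := d17_0 F364512 D192924 F408493 F408490 F313707 (iv0 D85413) (iv5 F319186) D142314 D211464
theorem F461657 : act 1 n211464 = n202597 := d18_6 F342378 (iv4 F425092) (iv1 F460382) (iv4 D211159) F333269 D211464 (iv4 D202597) (iv0 F342379) F228726
theorem F461658 : act 3 n211464 = n211277 := d19_3 F408903 F333269 D211464 F460914 F403488 F223303 (iv3 F223302) D210879 F459124 F324290 F271873 F321092 F414436 (iv4 D199975) (iv3 D112128) (iv1 D51708) D51709 D112132 (iv3 F408899)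
def n211465 : Q := act 6 n142325
theorem D211465 : act 6 n142325 = n211465 := rfl
theorem F461659 : act 3 n211465 = n142329 := d7_1 D211465 (iv6 D142329) (iv3 F225255)
theorem F461660 : act 7 n211465 = n142329 := d14_2 F423459 D211465 (iv6 D142329) (iv7 F179813) (iv6 F423462)
def n211466 : Q := act 3 n142326
theorem D211466 : act 3 n142326 = n211466 := rfl
theorem F461661 : act 5 n211466 = n197253 := d6_2 (iv5 F225256) D211466 F403744
theorem F461662 : act 6 n211466 = n152758 := d7_2 F245575 D211466 F366512
def n211467 : Q := act 6 n142360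
theorem D211467 : act 6 n142360 = n211467 := rfl
theorem F461663 : act 2 n211467 = n198630 := d3_1 D211467 F408626 (iv2 F227349)
theorem F461664 : act 3 n211467 = n210443 := d7_1 D211467 F457559 (iv3 F365080)
theorem F461665 : act 5 n211467 = n198627 := d12_1 D211467 (iv6 D198627) (iv5 F361856) (iv6 D142361) D142360
theorem F461666 : act 0 n211467 = n189691 := d21_4 (iv5 D66780) (iv1 F102627) D142360 D211467 (iv6 D189691) F326852 (iv1 F174549) (iv5 F365718) (iv6 F365720) (iv1 F225288)
def n211468 : Q := act 3 n142365
theorem D211468 : act 3 n142365 = n211468 := rfl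
theorem F461667 : act 2 n211468 = n144087 := d0_1 D211468 (iv3 F226837) (iv2 F365101) (iv3 F413856) F413855
theorem F461668 : act 4 n211468 = n144083 := d5_2 F419698 D211468 (iv3 F419747) (iv4 D201263) (iv3 F419700)
theorem F461669 : act 5 n211468 = n144497 := d6_2 (iv5 F225287) D211468 (iv3 D144497)
theorem F461670 : act 0 n209913 = n211468 := d17_2 F397316 (iv5 F455340) F461669 F227340 F422702 (iv0 F422703) (iv5 D198384) (iv0 F336228) F219382
def n211469 : Q := act 6 n142367
theorem D211469 : act 6 n142367 = n211469 := rfl
theorem F461671 : act 2 n211469 = n196137 := d3_1 D211469 F425214 F425208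
theorem F461672 : act 3 n211469 = n207202 := d7_1 D211469 F443778 (iv3 F330351)
theorem F461673 : act 4 n211469 = n142368 := d10_1 D211469 (iv6 D142368) D142367
theorem F461674 : act 7 n211469 = n198949 := d14_2 (iv7 F362026) D211469 (iv6 F426034) F426031 F420808
theorem F461675 : act 0 n211469 = n198950 := d21_4 D142488 (iv1 F330349) F330350 D211469 (iv6 F419000) F418999 F327980 D115198 (iv6 F363061) (iv1 D142486)
theorem F461676 : act 0 n198947 = n211469 := d21_4 F80531 (iv1 F80524) (iv5 F171429) D198947 (iv6 D211469) (iv5 F330350) F330348 (iv5 F316732) F316733 (iv1 F171433)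
def n211470 : Q := act 3 n142369
theorem D211470 : act 3 n142369 = n211470 := rfl
theorem F461677 : act 5 n211470 = n203491 := d6_2 F408015 D211470 (iv3 F428537)
theorem F461678 : act 0 n211470 = n202709 := d19_4 F248072 (iv5 F404603) F404605 D211470 (iv5 D202709) F181755 (iv3 F320423) (iv1 F92357) F92358 F307314 (iv3 F232616) (iv1 D119783) (iv5 D55116) D55115 (iv3 F313127) (iv1 F74459) (iv5 F307179) F162876 D157456
theorem F461679 : act 0 n210075 = n211470 := d20_4 (iv4 D191519) (iv1 F383634) F383639 (iv3 F456066) (iv3 D211470) (iv4 F404605) (iv1 F404607) (iv4 F346677) (iv3 F346676) (iv1 F383650)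
theorem F461680 : act 6 n198373 = n211470 := d21_5 F393795 (iv1 F381203) (iv5 F340550) F174130 (iv1 F407796) F461677 (iv1 D203491) (iv5 F393810) (iv6 D194609) D194607
def n211471 : Q := act 6 n142369
theorem D211471 : act 6 n142369 = n211471 := rfl
theorem F461681 : act 2 n211471 = n203646 := d3_1 D211471 F429221 (iv2 F425219)
theorem F461682 : act 3 n211471 = n198373 := d7_1 D211471 F461680 (iv3 D211470)
theorem F461683 : act 7 n211471 = n198470 := d14_2 (iv7 F408012) D211471 F408613 (iv7 D198444) (iv6 F408010)
theorem F461684 : act 0 n203268 = n211471 := d21_4 (iv5 F244743) F381637 F381635 D203268 (iv6 D211471) (iv5 F408015) (iv1 F408016) F393810 (iv6 D119279) (iv1 F187544)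
theorem E103976 : n198474 = n198373 := (c8_3 F461683 (iv3 D198470) D198474 (iv3 F461682))
theorem F461685 : act 2 n198373 = n109347 := (sb E103976 F408128)
theorem F461686 : act 7 n198373 = n109346 := (sb E103976 (iv7 D198474))
theorem F461687 : act 1 n142587 = n211471 := d15_1 (iv0 F414454) F461683 (iv2 F414453)
theorem E103977 : n198469 = n198372 := (c15_4 (iv0 D198372) D198373 F461686 D198469)
theorem F461688 : act 2 n198372 = n109346 := (sb E103977 (iv2 D198469))
theorem F461689 : act 7 n198372 = n109347 := (sb E103977 (iv7 F408127))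
theorem F461690 : act 2 n198478 = n211470 := d3_3 (iv6 F461680) F461685 D198478
theorem F461691 : act 3 n202778 = n198478 := d0_0 F461690 (iv3 D211470) F425219 (iv3 F425222) F425548
theorem F461692 : act 6 n198475 = n202778 := d7_0 F461691 (iv6 D198478) D198475
theorem F461693 : act 0 n198478 = n142371 := d19_4 F245343 (iv5 F245599) (iv4 F425546) F461691 (iv5 D142371) F102628 (iv3 F102624) (iv1 F325034) F308071 (iv4 D69827) D69826 (iv1 F205751) F107376 (iv4 F215537) F345695 F345699 F186435 (iv4 F239979) F366326
theorem F461694 : act 0 n204996 = n198478 := d20_4 (iv4 D196866) F401543 (iv4 F410948) (iv3 F434517) (iv3 F461691) F425546 (iv1 F245598) D201962 (iv3 F422538) F410905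
def n211472 : Q := act 0 n142371
theorem D211472 : act 0 n142371 = n211472 := rfl
theorem F461695 : act 5 n211472 = n198434 := d17_3 (iv1 D142370) D142371 D211472 F407997 (iv5 F432076) (iv0 D204331) (iv5 F344014) D202631 (iv4 F424838)
theorem F461696 : act 3 n211472 = n198440 := d20_5 F456132 (iv1 F384955) F384956 (iv3 F361828) D211472 F408011 (iv1 F357083) F225383 (iv3 F220728) D210095
theorem F461697 : act 6 n211472 = n198437 := d21_5 D200021 (iv1 F415848) (iv5 F401179) F401180 D211472 (iv5 D198437) D198435 F408742 (iv6 F414567) (iv1 F414568)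
theorem F461698 : act 1 n204996 = n211472 := d15_0 (iv0 D211472) (iv7 F456068) F456065
theorem F461699 : act 7 n211472 = n211470 := d15_2 (iv0 F461694) F461698 (iv2 F461690)
theorem F461700 : act 4 n211274 = n211472 := d20_0 (iv1 F461698) (iv4 F434520) (iv3 F401540) (iv1 F401542) (iv3 D195520) F163991 F168293 (iv4 F176199) (iv3 F416353) F460901
def n211473 : Q := act 4 n142371
theorem D211473 : act 4 n142371 = n211473 := rfl
theorem F461701 : act 6 n211473 = n200431 := d10_2 F401180 D211473 F416407
def n211474 : Q := act 0 n142375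
theorem D211474 : act 0 n142375 = n211474 := rfl
theorem F461702 : act 5 n211474 = n198546 := d17_3 (iv1 F409858) (iv5 F382022) D211474 (iv4 D198546) F169515 D109872 (iv5 F377991) F377992 (iv4 F409855)
theorem F461703 : act 4 n211474 = n202896 := d18_1 D211474 (iv1 D202896) F183421 (iv5 F182682) (iv4 F320035) F320034 F354555 (iv0 F382021) (iv5 F382022)
theorem F461704 : act 3 n211474 = n145753 := d20_5 (iv4 D31284) F181696 D66766 D142375 D211474 (iv4 F361649) (iv1 F178479) D114469 F321310 (iv1 D67250)
theorem F461705 : act 2 n147365 = n211474 := d15_3 (iv0 D211474) (iv0 F419644) F419643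
theorem F461706 : act 1 n147486 = n211474 := d15_0 (iv0 D211474) (iv7 F425197) F425194
theorem F461707 : act 7 n211474 = n201407 := d15_2 (iv0 F419645) F461706 F420378
theorem F461708 : act 6 n147050 = n211474 := d21_3 D175353 (iv1 F354864) (iv5 F354868) (iv1 F461706) F357760 (iv5 F354872) F233693 D131514 F354862 (iv1 D175352)
def n211475 : Q := act 2 n142375
theorem D211475 : act 2 n142375 = n211475 := rfl
theorem F461709 : act 3 n211475 = n147334 := d0_2 D142375 D211475 F241109 (iv3 F316674) F181756
theorem F461710 : act 5 n211475 = n198909 := d2_2 (iv5 F382022) D211475 F409847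
theorem F461711 : act 7 n211475 = n147486 := d4_2 F425197 D211475 (iv2 F425194)
theorem F461712 : act 1 n211475 = n201407 := d15_0 (iv0 F425198) F425197 D211475
theorem F461713 : act 1 n147365 = n211475 := d15_0 F461712 (iv7 F461707) (iv2 F461705)
def n211476 : Q := act 6 n142375
theorem D211476 : act 6 n142375 = n211476 := rfl
theorem F461714 : act 3 n211476 = n142377 := d7_1 D211476 (iv6 D142377) D142375
theorem F461715 : act 7 n211476 = n175279 := d14_2 F425197 D211476 (iv6 D175279) (iv7 F357774) (iv6 F425200)
theorem F461716 : act 5 n211476 = n208045 := d21_6 (iv5 F305815) (iv1 D118527) (iv5 F305816) D201247 F419644 D211476 (iv1 D208045) F319156 (iv6 F251193) F251195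
def n211477 : Q := act 3 n142384
theorem D211477 : act 3 n142384 = n211477 := rfl
theorem F461717 : act 2 n211477 = n143999 := d0_1 D211477 (iv3 D143999) (iv2 F168137) F162376 (iv2 F323792)
theorem F461718 : act 4 n211477 = n196852 := d5_2 D142384 D211477 F402039 (iv4 F322213) F323791
theorem F461719 : act 5 n211477 = n194256 := d6_2 F407925 D211477 (iv3 F407923)
theorem F461720 : act 7 n211477 = n194391 := d8_2 F407921 D211477 (iv3 F407916)
theorem F461721 : act 0 n211477 = n199151 := d19_4 (iv1 F305751) (iv5 F322123) D142384 D211477 (iv5 F438787) F438786 (iv3 F351380) F348469 (iv5 D162792) F305662 (iv3 D77223) (iv1 F60056) F315532 F162926 D62704 (iv1 F232779) F107946 (iv4 F193619) F193618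
theorem F461722 : act 1 n211477 = n199152 := d15_1 (iv0 F461721) F410909 (iv2 F410903)
theorem F461723 : act 6 n188391 = n211477 := d21_5 F291425 (iv1 D42730) D42732 D91303 D188391 F461719 (iv1 D194256) (iv5 F158997) (iv6 D103624) (iv1 F75380)
def n211478 : Q := act 6 n142384
theorem D211478 : act 6 n142384 = n211478 := rfl
theorem F461724 : act 2 n211478 = n143793 := d3_1 D211478 (iv6 D143793) (iv2 F323792)
theorem F461725 : act 3 n211478 = n188391 := d7_1 D211478 F461723 (iv3 D211477)
theorem F461726 : act 4 n211478 = n142386 := d10_1 D211478 (iv6 D142386) D142384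
theorem F461727 : act 7 n211478 = n203647 := d14_2 F407921 D211478 F429223 (iv7 D198413) (iv6 F407917)
theorem F461728 : act 0 n211478 = n142503 := d21_4 D192134 (iv1 F407927) F407925 D211478 (iv6 D142503) D142502 F435640 F435639 (iv6 F385692) (iv1 D192132)
theorem F461729 : act 0 n203270 = n211478 := d21_4 D67552 (iv1 F365311) F365313 D203270 (iv6 D211478) (iv5 F407925) (iv1 F407926) F392818 (iv6 D144198) (iv1 D67551)
def n211479 : Q := act 5 n142394
theorem D211479 : act 5 n142394 = n211479 := rfl
theorem F461730 : act 2 n211479 = n192353 := d2_1 D211479 F386545 F346696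
theorem F461731 : act 3 n211479 = n204149 := d6_1 D211479 (iv5 D204149) (iv3 F346697)
theorem F461732 : act 7 n211479 = n192354 := d13_2 (iv7 F346698) D211479 (iv5 F386551)
theorem F461733 : act 4 n211479 = n211089 := d16_2 D142394 D211479 F460064 F434520 (iv5 D204996) F200883 (iv5 F314092) (iv7 F110421) (iv2 F322124)
theorem F461734 : act 0 n211479 = n191899 := d17_2 F346695 D211479 (iv5 D191899) F311804 (iv5 F404603) (iv0 F404606) F344014 (iv0 F333734) F276448
theorem F461735 : act 1 n211479 = n192350 := d17_6 (iv1 F209040) F318304 F325036 D66771 D142394 D211479 (iv5 D192350) F311802 F112469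
theorem F461736 : act 6 n211479 = n192430 := d21_3 (iv5 F384819) F346695 D211479 (iv1 D192430) (iv6 D100175) (iv5 D46752) F65947 D41005 (iv6 F134894) D184245
theorem F461737 : act 3 n192430 = n211237 := d7_1 F461736 F460748 (iv3 F461731)
def n211480 : Q := act 1 n142408
theorem D211480 : act 1 n142408 = n211480 := rfl
theorem F461738 : act 1 n211480 = n189635 := d15_1 D211480 F425193 F425189
theorem F461739 : act 4 n211480 = n203437 := d18_7 (iv1 F397760) F397757 (iv1 F230821) (iv4 F230846) D202886 (iv4 F426043) D211480 F428299 F392237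
def n211481 : Q := act 7 n142408
theorem D211481 : act 7 n142408 = n211481 := rfl
theorem F461740 : act 2 n211481 = n189635 := d4_1 D211481 F425193 F425189
theorem F461741 : act 4 n211481 = n201523 := d11_1 D211481 (iv7 F426040) (iv4 F426043)
def n211482 : Q := act 0 n142415
theorem D211482 : act 0 n142415 = n211482 := rfl
theorem F461742 : act 5 n211482 = n158383 := d17_1 D211482 F343953 D175259 F339381 F322153 F87060 (iv5 F308971) F318072 (iv4 F225324)
theorem F461743 : act 4 n211482 = n149152 := d18_3 F318073 (iv4 F225324) D211482 (iv5 D149152) (iv4 F155234) (iv0 D55057) F42628 D26615 D55069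
theorem F461744 : act 3 n211482 = n158384 := d20_5 F231625 (iv1 F242936) (iv4 F427088) F427087 D211482 F425387 F425386 (iv4 F383678) F383683 (iv1 F334518)
theorem F461745 : act 6 n211482 = n147666 := d21_5 (iv5 F419657) (iv1 F419659) F330347 D142415 D211482 (iv5 F349876) (iv1 D107678) D107679 F331697 D142509
theorem F461746 : act 2 n147686 = n211482 := d15_3 (iv0 D211482) (iv0 F353142) (iv7 F346280)
theorem F461747 : act 1 n143712 = n211482 := d15_0 (iv0 D211482) F366560 F362038
theorem F461748 : act 7 n211482 = n175455 := d15_2 (iv0 F346291) F461747 (iv2 F355213)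
def n211483 : Q := act 5 n142415
theorem D211483 : act 5 n142415 = n211483 := rfl
theorem F461749 : act 2 n211483 = n152711 := d2_1 D211483 (iv5 F425204) F425201
theorem F461750 : act 3 n211483 = n207997 := d6_1 D211483 F447349 F427087
theorem F461751 : act 4 n211483 = n148540 := d9_1 D211483 (iv5 F322167) (iv4 F425350) F425351 F239814 F313421 D143712 F346292 F108515 D72055 D152721 (iv5 F353457) F239889 F318076 (iv4 F225324)
theorem F461752 : act 6 n211483 = n148539 := d12_2 D142415 D211483 (iv5 F419678) (iv6 D201252) F330347
theorem F461753 : act 7 n211483 = n152314 := d13_2 (iv7 F366560) D211483 (iv5 F346283)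
theorem F461754 : act 0 n211483 = n152709 := d17_2 F353142 D211483 F348541 (iv4 F440071) F440072 (iv0 F353454) (iv5 F261566) F362047 (iv4 F353141)
theorem F461755 : act 1 n211483 = n152609 := d17_6 (iv1 F322164) F322167 F233302 F318076 (iv4 F225324) D211483 F339378 (iv0 F304863) F304864
def n211484 : Q := act 0 n142437
theorem D211484 : act 0 n142437 = n211484 := rfl
theorem F461756 : act 3 n211484 = n207155 := d20_5 F398293 (iv1 D114558) (iv4 F340324) F356886 D211484 F443550 (iv1 F210026) D207388 F444642 F399690
theorem F461757 : act 4 n211484 = n200285 := d20_8 (iv4 F448363) F448366 F403364 F398871 F177549 D114599 (iv4 F356885) D211484 (iv3 F448374) (iv1 D208209)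
theorem F461758 : act 6 n211484 = n200035 := d21_5 (iv5 D116487) (iv1 F84699) D66789 D142437 D211484 (iv5 D200035) (iv1 F174622) D112271 F346896 (iv1 F181795)
theorem F461759 : act 1 n142493 = n211484 := d15_0 (iv0 D211484) (iv7 F379574) F379571
theorem F461760 : act 2 n142490 = n211484 := d3_3 F461758 F414708 F413878
theorem F461761 : act 7 n142491 = n211484 := d14_0 F461758 F414709 F362511 F210013 F361835
def n211485 : Q := act 1 n142437
theorem D211485 : act 1 n142437 = n211485 := rfl
theorem F461762 : act 1 n211485 = n142493 := d15_1 D211485 (iv7 D142493) (iv2 F225345)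
theorem F461763 : act 7 n211485 = n142490 := d15_2 (iv0 D211484) D211485 F461760
theorem F461764 : act 4 n211485 = n200284 := d18_7 D152577 F454117 (iv1 D209556) (iv4 F420659) (iv5 D201478) (iv4 F356885) D211485 (iv0 D200284) F175880
theorem F461765 : act 6 n200433 = n211485 := d21_3 (iv5 F361841) (iv1 F214386) (iv5 F416411) (iv1 D211485) (iv6 D142437) (iv5 D66789) (iv1 F84700) (iv5 F355188) F178448 D114421
theorem F461766 : act 5 n164106 = n211485 := d21_6 F406772 F363387 (iv5 F435639) (iv6 F435899) F435900 F430042 (iv1 D211485) F356887 F356967 F406771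
theorem F461767 : act 3 n211485 = n164107 := d6_1 F461766 (iv5 D164107) D164106
theorem F461768 : act 2 n142491 = n211485 := d0_5 F461767 (iv2 F430203) F430204 F210024 (iv3 F361836)
def n211486 : Q := act 6 n142439
theorem D211486 : act 6 n142439 = n211486 := rfl
theorem F461769 : act 2 n211486 = n142503 := d3_1 D211486 (iv6 D142503) (iv2 F344488)
theorem F461770 : act 3 n211486 = n193478 := d7_1 D211486 F389992 F344510
theorem F461771 : act 4 n211486 = n177038 := d10_1 D211486 (iv6 F439064) F439062
theorem F461772 : act 7 n211486 = n203270 := d14_2 (iv7 F344489) D211486 (iv6 D203270) (iv7 F186076) F344495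
theorem F461773 : act 1 n203647 = n211486 := d15_1 (iv0 F429224) F461772 F427590
theorem F461774 : act 1 n211486 = n143793 := d15_1 F461773 (iv7 F447047) F447044
def n211487 : Q := act 6 n142455
theorem D211487 : act 6 n142455 = n211487 := rfl
theorem F461775 : act 2 n211487 = n142587 := d3_1 D211487 (iv6 D142587) (iv2 F322327)
theorem F461776 : act 4 n211487 = n142457 := d10_1 D211487 (iv6 D142457) D142455
theorem F461777 : act 7 n211487 = n203268 := d14_2 (iv7 F322328) D211487 (iv6 D203268) F186068 F322322
theorem F461778 : act 0 n211487 = n198470 := d21_4 F408683 (iv1 F174066) F347155 D211487 F408613 F408028 (iv1 F174052) D199915 F414129 (iv1 F408685)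
theorem F461779 : act 0 n203646 = n211487 := d21_4 F428516 (iv1 F408711) (iv5 F425223) (iv6 F429221) (iv6 D211487) (iv5 F347155) (iv1 D109307) D109309 D198434 F428518
theorem F461780 : act 5 n211444 = n211487 := d16_7 F189500 (iv5 F87497) (iv4 F189768) F364930 F204151 D141995 D211444 F461777 F427584
def n211488 : Q := act 0 n142462
theorem D211488 : act 0 n142462 = n211488 := rfl
theorem F461781 : act 5 n211488 = n184242 := d17_1 D211488 F351945 (iv5 F420709) F420708 (iv5 F392818) F407926 F407925 F347184 (iv4 F225383)
theorem F461782 : act 4 n211488 = n202708 := d20_2 (iv4 F225383) D211488 (iv3 F425222) (iv1 D200340) F175970 F82445 F168092 D59798 (iv3 F182374) F347186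
theorem F461783 : act 3 n211488 = n202375 := d20_5 D67231 (iv1 F346692) (iv4 F221128) (iv3 F225382) D211488 (iv4 D202375) (iv1 F245489) F245486 F112043 (iv1 F101011)
theorem F461784 : act 6 n211488 = n177051 := d21_5 F101367 D127704 F205305 D142462 D211488 (iv5 F460180) (iv1 D211119) (iv5 D140722) (iv6 D66033) (iv1 F180644)
theorem F461785 : act 2 n197505 = n211488 := d15_3 (iv0 D211488) F357083 (iv7 F404604)
theorem F461786 : act 1 n156605 = n211488 := d15_0 (iv0 D211488) F359917 F361944
theorem F461787 : act 7 n211488 = n202631 := d15_2 F361945 F461786 F424840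
def n211489 : Q := act 3 n142463
theorem D211489 : act 3 n142463 = n211489 := rfl
theorem F461788 : act 2 n211489 = n203434 := d0_1 D211489 F428283 F238183 (iv3 F355190) F352139
theorem F461789 : act 5 n211489 = n201250 := d6_2 (iv5 F330338) D211489 (iv3 D201250)
theorem F461790 : act 7 n211489 = n201254 := d8_2 F352128 D211489 F419688
def n211490 : Q := act 0 n142467
theorem D211490 : act 0 n142467 = n211490 := rfl
theorem F461791 : act 5 n211490 = n194598 := d17_3 F347186 D142467 D211490 (iv4 F427582) F427577 F323795 (iv5 D66771) (iv0 F325036) D116806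
theorem F461792 : act 3 n211490 = n194600 := d20_5 F357631 (iv1 F411546) F411542 F390178 D211490 F393787 F345640 (iv4 F440525) F440524 (iv1 D193515)
theorem F461793 : act 1 n143971 = n211490 := d15_0 (iv0 D211490) (iv7 F457565) F457562
theorem F461794 : act 7 n200449 = n211490 := d8_0 F461792 F440312 F440309
theorem F461795 : act 2 n211490 = n200448 := d15_3 (iv0 D200448) D200449 F461794
def n211491 : Q := act 1 n142467
theorem D211491 : act 1 n142467 = n211491 := rfl
theorem F461796 : act 1 n211491 = n143971 := d15_1 D211491 F226622 F355195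
theorem F461797 : act 7 n211491 = n200448 := d15_2 (iv0 D211490) D211491 (iv2 F461795)
theorem F461798 : act 3 n200416 = n211491 := d20_3 F331493 (iv1 F450298) F450300 (iv1 D211491) (iv3 F390178) (iv4 F411542) F411544 F357397 (iv3 F357408) (iv1 F226652)
theorem F461799 : act 5 n153173 = n211491 := d21_0 (iv1 D211491) (iv5 D142467) (iv6 D66799) (iv1 F84691) (iv6 F337686) (iv5 D103722) D103718 (iv5 F352735) (iv6 F385694) (iv1 F385705)
theorem F461800 : act 2 n211491 = n200449 := d2_1 F461799 (iv5 F416462) (iv2 F385687)
theorem F461801 : act 6 n211491 = n209315 := d21_3 (iv5 F407905) (iv1 F385705) F461799 (iv1 D209315) (iv6 D136305) F99679 F76844 D50433 D109288 D198405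
def n211492 : Q := act 4 n142467
theorem D211492 : act 4 n142467 = n211492 := rfl
theorem F461802 : act 2 n211492 = n200420 := d1_1 D211492 F416354 F355195
theorem F461803 : act 6 n211492 = n197268 := d10_2 (iv6 F355194) D211492 F403792
def n211493 : Q := act 3 n142469
theorem D211493 : act 3 n142469 = n211493 := rfl
theorem F461804 : act 2 n211493 = n194300 := d0_1 D211493 F392738 (iv2 F173979) F347195 F340507
theorem F461805 : act 4 n211493 = n205954 := d5_2 (iv4 F225384) D211493 (iv3 D205954) (iv4 F424705) (iv3 D202603)
theorem F461806 : act 5 n211493 = n191129 := d6_2 (iv5 F331558) D211493 F382341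
theorem F461807 : act 6 n211493 = n189204 := d7_2 F401445 D211493 F401449
theorem F461808 : act 7 n211493 = n191128 := d8_2 (iv7 F340500) D211493 F382331
theorem F461809 : act 0 n211493 = n194299 := d20_4 (iv4 F84417) D116085 (iv4 F225384) D211493 (iv3 F392736) F172088 (iv1 F180292) F206757 (iv3 D128544) (iv1 D60460)
theorem F461810 : act 1 n211493 = n194298 := d15_1 (iv0 F461809) (iv7 F392731) F392735
def n211494 : Q := act 0 n142474
theorem D211494 : act 0 n142474 = n211494 := rfl
theorem F461811 : act 4 n211494 = n201468 := d18_3 (iv1 F426059) (iv4 F426061) D211494 (iv5 D201468) (iv4 F317837) (iv0 F339770) F334455 F259008 (iv5 F392247)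
theorem F461812 : act 3 n211494 = n144216 := d20_5 (iv4 F351263) (iv1 F214524) F178454 F355226 D211494 F415712 F415723 F415720 F175810 D112895
theorem F461813 : act 1 n200442 = n211494 := d15_0 (iv0 D211494) F355225 (iv2 F416445)
theorem F461814 : act 7 n200446 = n211494 := d8_0 F461812 F420321 F425192
theorem F461815 : act 2 n211494 = n200447 := d15_3 F425238 (iv0 F425239) F461814
def n211495 : Q := act 1 n142474
theorem D211495 : act 1 n142474 = n211495 := rfl
theorem F461816 : act 1 n211495 = n200442 := d15_1 D211495 (iv7 F425237) F425235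
theorem F461817 : act 7 n211495 = n200447 := d15_2 (iv0 D211494) D211495 (iv2 F461815)
theorem F461818 : act 4 n211495 = n201467 := d17_9 (iv1 F426042) (iv5 D202886) (iv1 D117192) (iv5 F333589) D198967 (iv5 F416324) (iv0 F457571) F457569 D211495
theorem F461819 : act 3 n194995 = n211495 := d20_3 (iv4 F450431) F450432 F443823 (iv1 D211495) (iv3 F355226) (iv4 F178454) (iv1 F214519) (iv4 F365010) D200260 (iv1 F447776)
theorem F461820 : act 6 n194993 = n211495 := d21_3 F430196 F443828 (iv5 F395336) (iv1 D211495) (iv6 D142474) (iv5 D66801) (iv1 D31139) D31140 D66806 D142490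
theorem F461821 : act 2 n211495 = n200446 := d0_1 F461819 (iv3 F425192) (iv2 F420318) F410020 (iv2 F395337)
def n211496 : Q := act 6 n142479
theorem D211496 : act 6 n142479 = n211496 := rfl
theorem F461822 : act 2 n211496 = n208196 := d3_1 D211496 F448309 F225391
theorem F461823 : act 3 n211496 = n142481 := d7_1 D211496 (iv6 D142481) D142479
theorem F461824 : act 4 n211496 = n189526 := d10_1 D211496 (iv6 F456095) (iv4 F456093)
def n211497 : Q := act 5 n142481
theorem D211497 : act 5 n142481 = n211497 := rfl
theorem F461825 : act 6 n211497 = n202835 := d12_2 D142481 D211497 (iv5 D202835) (iv6 D117006) (iv5 F181606)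
def n211498 : Q := act 6 n142482
theorem D211498 : act 6 n142482 = n211498 := rfl
theorem F461826 : act 2 n211498 = n201705 := d3_1 D211498 F421482 F340494
theorem F461827 : act 3 n211498 = n142484 := d7_1 D211498 (iv6 D142484) D142482
theorem F461828 : act 4 n211498 = n144784 := d10_1 D211498 F227662 (iv4 F340493)
theorem F461829 : act 7 n211498 = n208194 := d14_2 F226871 D211498 (iv6 D208194) (iv7 F402350) (iv6 F402353)
def n211499 : Q := act 4 n142490
theorem D211499 : act 4 n142490 = n211499 := rfl
theorem F461830 : act 2 n211499 = n200285 := d1_1 D211499 (iv4 F461757) (iv2 F461760)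
theorem F461831 : act 7 n211499 = n200284 := d11_2 F461763 D211499 (iv4 F461764)
theorem F461832 : act 3 n211499 = n196013 := d20_3 F225400 D142490 D211499 (iv1 D196013) F163786 (iv4 F96439) D131848 (iv4 F343654) D196131 F399545
theorem F461833 : act 0 n200283 = n211499 := d20_10 (iv4 D211499) (iv1 F379576) F379573 (iv3 F356874) (iv1 F178690) (iv3 F351262) F351263 (iv1 F175977) F175973 (iv3 F415820)
theorem F461834 : act 1 n200271 = n211499 := d15_0 (iv0 F461833) F415823 (iv2 F415776)
def n211500 : Q := act 4 n142491
theorem D211500 : act 4 n142491 = n211500 := rfl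
theorem F461835 : act 2 n211500 = n200284 := d1_1 D211500 (iv4 F461764) (iv2 F461768)
theorem F461836 : act 3 n211500 = n207201 := d5_1 D211500 F443776 F209176 (iv4 F209133) (iv3 F361836)
theorem F461837 : act 6 n211500 = n186401 := d10_2 F361835 D211500 F367387
theorem F461838 : act 7 n211500 = n200285 := d11_2 (iv7 F461761) D211500 (iv4 F461757)
theorem F461839 : act 0 n211500 = n200283 := d18_2 (iv1 F379575) D211500 F415821 (iv5 D198630) (iv4 F223521) D210950 (iv4 F459437) F395084 F395081
theorem F461840 : act 1 n211500 = n200271 := d15_0 F461834 F461831 (iv2 F461835)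
def n211501 : Q := act 5 n142491
theorem D211501 : act 5 n142491 = n211501 := rfl
theorem F461841 : act 2 n211501 = n164106 := d2_1 D211501 F461766 (iv2 F461768)
theorem F461842 : act 3 n211501 = n207154 := d6_1 D211501 (iv5 D207154) (iv3 F361836)
theorem F461843 : act 6 n211501 = n207153 := d12_2 F361835 D211501 (iv5 D207153) (iv6 D130545) D130544
theorem F461844 : act 1 n211501 = n194151 := d17_8 (iv1 F435012) (iv5 D205109) (iv1 F201852) D125507 F395311 (iv5 D142492) D142491 D211501 (iv4 F435085)
theorem F461845 : act 0 n211501 = n205134 := d18_0 (iv4 D205134) (iv1 D125513) D125514 (iv5 F377413) F410063 F410062 F225400 D142491 D211501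
def n211502 : Q := act 0 n142492
theorem D211502 : act 0 n142492 = n211502 := rfl
theorem F461846 : act 4 n211502 = n198808 := d20_2 F395311 D211502 (iv3 D198808) (iv1 F362616) (iv3 F358651) F358652 D158972 (iv4 F410746) F435060 (iv1 F435059)
theorem F461847 : act 3 n211502 = n162654 := d20_5 F377933 (iv1 F362253) (iv4 F397247) F397245 D211502 F256893 D162655 (iv4 F362592) (iv3 F414352) F414356
theorem F461848 : act 6 n162652 = n211502 := d7_0 F461847 (iv6 D162654) D162652
theorem F461849 : act 7 n176672 = n211502 := d8_0 F461847 F300521 (iv3 F276046)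
theorem F461850 : act 0 n211502 = n194935 := d19_4 D88662 (iv5 F298092) (iv4 F256893) (iv3 F461847) F395081 F379573 (iv3 F356874) (iv1 F178690) D164231 (iv4 F311796) F154525 D100478 F312631 F310441 (iv3 F311019) (iv1 F91419) F320329 F88245 (iv3 F63835)
theorem F461851 : act 2 n211502 = n194985 := d15_3 (iv0 D194985) (iv0 F380403) F461849
theorem F461852 : act 7 n194823 = n194985 := d4_2 (iv7 F461849) (iv2 F394614) (iv2 F461851)
theorem F461853 : act 3 n194985 = n199884 := d8_1 F461852 F413976 (iv3 F394615)
theorem F461854 : act 6 n194985 = n194886 := d14_1 F461852 F394859 (iv6 D194485) (iv7 F160308) D194823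
def n211503 : Q := act 7 n142492
theorem D211503 : act 7 n142492 = n211503 := rfl
theorem F461855 : act 2 n211503 = n194935 := d4_1 D211503 F395082 (iv2 F356968)
theorem F461856 : act 3 n211503 = n194990 := d8_1 D211503 (iv7 F397248) F397245
theorem F461857 : act 4 n211503 = n205110 := d11_1 D211503 F435015 F395311
theorem F461858 : act 5 n211503 = n142493 := d13_1 D211503 (iv7 D142493) D142492
theorem F461859 : act 1 n176672 = n211503 := d15_1 (iv0 F380403) (iv7 D211503) F356968
theorem F461860 : act 1 n211503 = n194985 := d15_1 F461859 (iv7 F461852) F394614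
theorem F461861 : act 6 n200046 = n211503 := d10_0 F461857 (iv6 F435017) F417447
def n211504 : Q := act 0 n142496
theorem D211504 : act 0 n142496 = n211504 := rfl
theorem F461862 : act 5 n211504 = n208477 := d17_1 D211504 (iv1 F449537) F393566 (iv4 F411022) F411023 (iv0 F407222) F407221 F225353 D142496
theorem F461863 : act 4 n211504 = n155738 := d18_1 D211504 (iv1 F361871) (iv4 D142455) (iv5 F321228) (iv4 F184146) F426557 F426553 F337289 (iv5 F344493)
theorem F461864 : act 3 n211504 = n202335 := d20_5 (iv4 F103008) D142996 F321995 (iv3 F344492) D211504 F423673 (iv1 F423333) F423331 F181153 F320526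
theorem F461865 : act 6 n211504 = n201490 := d21_5 (iv5 D68020) (iv1 F106662) (iv5 F114296) (iv6 F344494) D211504 (iv5 D201490) (iv1 D114614) D114615 F178710 F115167
theorem F461866 : act 2 n199929 = n211504 := d15_3 (iv0 D211504) F344490 (iv7 F414189)
theorem F461867 : act 1 n142501 = n211504 := d15_0 (iv0 D211504) (iv7 F439065) F439061
theorem F461868 : act 7 n211504 = n202332 := d15_2 (iv0 F344474) F461867 F423656
def n211505 : Q := act 5 n142503
theorem D211505 : act 5 n142503 = n211505 := rfl
def n211506 : Q := act 5 n142506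
theorem D211506 : act 5 n142506 = n211506 := rfl
theorem F461869 : act 3 n211506 = n153782 := d6_1 D211506 F406698 F406694
theorem F461870 : act 4 n211506 = n203037 := d9_1 D211506 F428919 F428916 (iv5 F319193) (iv4 F225351) (iv5 F407221) (iv4 D198204) D198205 F407225 (iv5 D142607) (iv4 D66841) (iv5 D31148) (iv4 F49494) D66809 D142506
theorem F461871 : act 6 n211506 = n153781 := d12_2 (iv6 F395312) D211506 (iv5 F366758) (iv6 D125508) D125507
theorem F461872 : act 0 n211506 = n208834 := d17_2 (iv1 F405811) D211506 F451050 F406038 F347157 (iv0 F361858) F361856 F174557 (iv4 F405810)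
theorem F461873 : act 1 n211506 = n203025 := d17_8 D203024 (iv5 F428939) (iv1 F428941) D208480 F449547 (iv5 F420070) F405819 D211506 (iv4 D203025)
def n211507 : Q := act 6 n142507
theorem D211507 : act 6 n142507 = n211507 := rfl
theorem F461874 : act 2 n211507 = n199698 := d3_1 D211507 F413163 F407218
theorem F461875 : act 3 n211507 = n155949 := d7_1 D211507 (iv6 F355937) (iv3 F349588)
theorem F461876 : act 4 n211507 = n199455 := d10_1 D211507 F412270 F405809
theorem F461877 : act 5 n211507 = n186983 := d12_1 D211507 (iv6 D186983) F352748 F321234 (iv5 F225405)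
theorem F461878 : act 7 n211507 = n200046 := d14_2 D142507 D211507 F461861 (iv7 D211503) F225401
theorem F461879 : act 0 n211507 = n191060 := d21_10 (iv5 D191060) (iv1 D97191) D97192 F149945 D103658 D194488 F393418 F225347 (iv5 F225405) D211507
theorem F461880 : act 0 n190220 = n186983 := d21_1 F379117 (iv5 F461877) (iv6 D211507) F406755 F406752 (iv5 F354539) (iv1 D111803) D111804 (iv6 F382073) (iv1 F382074)
theorem F461881 : act 0 n206165 = n190219 := d21_1 D206165 (iv5 D190219) D190220 F461880 (iv6 D186983) F352748 (iv1 F356237) (iv5 F382173) F439530 (iv1 D206163)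
theorem F461882 : act 1 n211507 = n191056 := d15_1 (iv0 F461879) F382025 (iv2 F382040)
def n211508 : Q := act 1 n142528
theorem D211508 : act 1 n142528 = n211508 := rfl
theorem F461883 : act 7 n211508 = n157697 := d15_2 (iv0 F355110) D211508 F347969
theorem F461884 : act 5 n211508 = n160733 := d17_7 F352159 (iv5 D112567) D112564 (iv5 F403576) F403577 F229440 D211508 F253897 D167574
theorem F461885 : act 4 n211508 = n159881 := d18_7 (iv1 D201823) (iv4 F371685) F405125 F405124 (iv5 F371663) (iv4 F225420) D211508 F252114 F421921
theorem F461886 : act 3 n146163 = n211508 := d19_19 (iv1 D211508) (iv5 F229440) (iv4 F403577) F403578 (iv1 F272133) (iv5 F336016) D205062 F434837 F412136 (iv5 F436044) (iv4 D205353) D205352 F437013 F437010 (iv4 D198527) (iv3 F382024) (iv1 F461882) F461877 F368750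
theorem F461887 : act 2 n211508 = n167585 := d0_1 F461886 (iv3 F425154) F425149 (iv3 D157702) (iv2 F347919)
theorem F461888 : act 6 n211508 = n166468 := d7_2 (iv6 F347918) F461886 F262025
theorem F461889 : act 1 n211508 = n167582 := d15_0 (iv0 D167582) D167585 (iv2 F461887)
def n211509 : Q := act 2 n142528
theorem D211509 : act 2 n142528 = n211509 := rfl
theorem F461890 : act 3 n211509 = n147467 := d0_2 D142528 D211509 (iv2 F425252) (iv3 D202715) (iv2 F181816)
theorem F461891 : act 4 n211509 = n201418 := d1_2 (iv4 F225420) D211509 F420439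
theorem F461892 : act 5 n211509 = n162578 := d2_2 F229440 D211509 F355109
theorem F461893 : act 7 n211509 = n167582 := d4_2 F425256 D211509 (iv2 F425258)
theorem F461894 : act 1 n211509 = n167585 := d15_0 (iv0 F425257) F425256 D211509
theorem F461895 : act 1 n157697 = n211509 := d15_0 F461894 (iv7 D167585) (iv2 F347969)
theorem F461896 : act 6 n147276 = n211509 := d21_3 (iv5 F392265) (iv1 F398596) (iv5 F398597) (iv1 F461895) F347971 (iv5 D80412) F57504 D75703 D158707 (iv1 F392263)
def n211510 : Q := act 6 n142528
theorem D211510 : act 6 n142528 = n211510 := rfl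
theorem F461897 : act 2 n211510 = n147276 := d3_1 D211510 F461896 (iv2 D211509)
theorem F461898 : act 3 n211510 = n142529 := d7_1 D211510 (iv6 D142529) D142528
theorem F461899 : act 4 n211510 = n189698 := d10_1 D211510 F377441 (iv4 F225420)
theorem F461900 : act 7 n211510 = n147277 := d14_2 F425256 D211510 F366623 F352398 (iv6 F425255)
theorem F461901 : act 0 n211510 = n147279 := d21_4 F397722 F361643 F229440 D211510 (iv6 F343363) (iv5 D174491) D174489 (iv5 F383206) (iv6 F420385) F420387
theorem F461902 : act 5 n179226 = n211510 := d21_2 (iv5 D179255) (iv1 F398609) (iv6 D211510) F355110 F123619 (iv5 D36656) D36654 D80429 D167592 (iv1 F355847)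
theorem F461903 : act 1 n211510 = n147275 := d15_1 (iv0 F461901) (iv7 F429857) F429854
def n211511 : Q := act 0 n142565
theorem D211511 : act 0 n142565 = n211511 := rfl
theorem F461904 : act 5 n211511 = n199434 := d17_3 F412767 F378277 D211511 (iv4 D199434) D199435 (iv0 F412182) F172800 D140699 (iv4 F407786)
theorem F461905 : act 4 n211511 = n194429 := d18_1 D211511 F393162 (iv4 F397259) (iv5 F397262) (iv4 F410290) F410293 D211114 (iv0 F460152) F378277
theorem F461906 : act 3 n211511 = n199168 := d20_5 F49494 D31146 D66831 D142565 D211511 (iv4 D199168) (iv1 F410975) F410978 F361855 (iv1 D66808)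
theorem F461907 : act 6 n211511 = n192841 := d21_5 (iv5 F357428) D188432 F373445 (iv6 F354456) D211511 (iv5 D192841) (iv1 D100794) D100795 F154892 (iv1 F329987)
theorem F461908 : act 2 n199700 = n211511 := d15_3 (iv0 D211511) (iv0 F448476) (iv7 F448474)
theorem F461909 : act 7 n211511 = n199694 := d4_2 (iv7 F448474) F461908 (iv2 F448471)
def n211512 : Q := act 5 n142587
theorem D211512 : act 5 n142587 = n211512 := rfl
theorem F461910 : act 2 n211512 = n211444 := d2_1 D211512 F461780 F461775
theorem F461911 : act 3 n211512 = n190069 := d6_1 D211512 (iv5 F393043) F393041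
theorem F461912 : act 7 n211512 = n190945 := d13_2 (iv7 F366260) D211512 F381649
theorem F461913 : act 4 n211512 = n211441 := d16_2 (iv4 F225458) D211512 (iv5 D211441) (iv4 F438696) F438697 F429334 F189761 F340825 F322329
def n211513 : Q := act 4 n142604
theorem D211513 : act 4 n142604 = n211513 := rfl
theorem F461914 : act 2 n211513 = n202638 := d1_1 D211513 (iv4 F460997) F460999
theorem F461915 : act 3 n211513 = n150314 := d5_1 D211513 F339796 (iv3 F377167) (iv4 F411602) (iv3 F411606)
theorem F461916 : act 6 n211513 = n150313 := d10_2 F411607 D211513 (iv4 F259419)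
theorem F461917 : act 7 n211513 = n208476 := d11_2 (iv7 F460994) D211513 (iv4 F460990)
theorem F461918 : act 0 n211513 = n208477 := d18_2 D142604 D211513 F449535 (iv5 F217359) F356120 (iv0 F426733) (iv4 D203038) (iv0 F365651) (iv5 D142607)
theorem F461919 : act 1 n211513 = n208474 := d18_8 (iv1 F344490) (iv4 D142496) (iv1 F225353) F225351 F319193 (iv4 F428916) F428920 D211513 F449521
def n211514 : Q := act 5 n142604
theorem D211514 : act 5 n142604 = n211514 := rfl
theorem F461920 : act 2 n211514 = n188326 := d2_1 D211514 (iv5 F461000) F460999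
theorem F461921 : act 4 n211514 = n197877 := d16_2 (iv4 D211513) D211514 (iv5 F406779) (iv4 F223507) (iv5 F411023) F411022 (iv5 F393566) (iv7 F424879) (iv2 F461914)
theorem F461922 : act 0 n148051 = n211514 := d21_1 D148051 (iv5 D211514) (iv6 F411607) (iv1 D164568) F120253 D79049 (iv1 F184070) (iv5 D117502) D117503 F243184
def n211515 : Q := act 1 n142607
theorem D211515 : act 1 n142607 = n211515 := rfl
theorem F461923 : act 1 n211515 = n203037 := d15_1 D211515 F451318 F451314
theorem F461924 : act 7 n211515 = n202997 := d15_2 (iv0 F365651) D211515 F426580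
theorem F461925 : act 5 n211515 = n170358 := d17_7 F322323 (iv5 D66837) (iv1 D31147) D31148 D66841 D142607 D211515 (iv0 F346011) (iv4 D117548)
theorem F461926 : act 4 n211515 = n197690 := d17_9 (iv1 F406215) F406213 F223508 F406779 (iv4 F461921) (iv5 D211514) (iv0 D142604) D142607 D211515
theorem F461927 : act 3 n186863 = n211515 := d19_19 (iv1 D211515) (iv5 D142607) (iv4 D66841) F49497 D31158 F49509 (iv4 D29097) (iv3 F46724) D61440 (iv5 F179282) F363764 D201081 (iv1 F419027) F183415 (iv4 F325485) F154574 D100536 D192705 F387554
theorem F461928 : act 6 n186859 = n211515 := d21_3 (iv5 F312670) F312668 D186859 (iv1 D211515) (iv6 F443217) (iv5 D207078) F208413 D135275 F347398 (iv1 F156350)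
theorem F461929 : act 2 n211515 = n203039 := d3_1 F461928 F426737 (iv2 F368317)
def n211516 : Q := act 5 n142648
theorem D211516 : act 5 n142648 = n211516 := rfl
theorem F461930 : act 2 n211516 = n142650 := d2_1 D211516 (iv5 D142650) D142648
theorem F461931 : act 3 n211516 = n199374 := d6_1 D211516 F411904 F364175
theorem F461932 : act 4 n211516 = n176020 := d9_1 D211516 F335034 F218078 (iv5 D135601) D135600 F425071 F425068 F318644 (iv4 F349079) F349080 F218074 (iv5 D135605) D135604 D209031 F451923
theorem F461933 : act 6 n211516 = n152011 := d12_2 (iv6 F364174) D211516 (iv5 D152011) (iv6 F332484) F332483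
theorem F461934 : act 7 n211516 = n143153 := d13_2 (iv7 F326893) D211516 (iv5 D143153)
theorem F461935 : act 0 n211516 = n159611 := d17_2 (iv1 F364173) D211516 (iv5 F334938) F359684 (iv5 D134048) D134046 (iv5 F391099) (iv0 F391102) F333151
theorem F461936 : act 1 n211516 = n159617 := d17_6 D202955 (iv5 F450116) F450117 D209031 F451923 D211516 (iv5 F359682) (iv0 D117375) D117377
def n211517 : Q := act 4 n142670
theorem D211517 : act 4 n142670 = n211517 := rfl
theorem F461937 : act 2 n211517 = n142671 := d1_1 D211517 (iv4 D142671) D142670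
theorem F461938 : act 3 n211517 = n145936 := d5_1 D211517 F341542 (iv3 F432633) F432632 (iv3 F314490)
theorem F461939 : act 6 n211517 = n151386 := d10_2 (iv6 F396293) D211517 (iv4 F396291)
theorem F461940 : act 7 n211517 = n143212 := d11_2 (iv7 F225557) D211517 (iv4 D143212)
theorem F461941 : act 0 n211517 = n175930 := d17_0 (iv5 F359059) (iv1 D147991) (iv5 D69324) F51168 D32224 F320285 D67026 F225559 D211517
theorem F461942 : act 1 n211517 = n155325 := d18_6 (iv1 F282915) F355807 F455717 F455713 (iv5 F225556) D211517 (iv4 F456569) F456573 (iv5 D181743)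
def n211518 : Q := act 6 n142696
theorem D211518 : act 6 n142696 = n211518 := rfl
theorem F461943 : act 2 n211518 = n198941 := d3_1 D211518 (iv6 D198941) (iv2 F225587)
theorem F461944 : act 3 n211518 = n142698 := d7_1 D211518 (iv6 D142698) D142696
theorem F461945 : act 4 n211518 = n175018 := d10_1 D211518 F360725 (iv4 F225588)
theorem F461946 : act 5 n211518 = n210927 := d12_1 D211518 (iv6 D210927) D210926 F459320 F228520
theorem F461947 : act 7 n200800 = n211518 := d13_0 F461946 F459323 F417958
theorem F461948 : act 0 n175026 = n211518 := d17_2 D194425 F393141 F461946 F459322 F385080 D193358 (iv5 F389565) (iv0 D103453) (iv4 F158760)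
def n211519 : Q := act 5 n142698
theorem D211519 : act 5 n142698 = n211519 := rfl
theorem F461949 : act 3 n211519 = n210927 := d6_1 D211519 (iv5 F461946) F461944
theorem F461950 : act 6 n211519 = n210925 := d12_2 D142698 D211519 (iv5 F459313) F393774 (iv5 D142697)
theorem F461951 : act 4 n211519 = n202983 := d17_4 F365537 F357281 F357290 D211519 (iv5 D202983) F350045 F350038 F329316 D137710
def n211520 : Q := act 6 n142701
theorem D211520 : act 6 n142701 = n211520 := rfl
theorem F461952 : act 2 n211520 = n196350 := d3_1 D211520 (iv6 D196350) (iv2 F225604)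
theorem F461953 : act 3 n211520 = n199217 := d7_1 D211520 (iv6 D199217) F225603
theorem F461954 : act 4 n211520 = n196343 := d10_1 D211520 (iv6 D196343) F225602
theorem F461955 : act 5 n211520 = n194686 := d12_1 D211520 F394088 (iv5 D153755) (iv6 F324040) F228513
theorem F461956 : act 0 n211520 = n142884 := d21_4 F202852 F228514 F228513 D211520 (iv6 F459281) (iv5 D210918) (iv1 F331775) D192385 (iv6 F386621) (iv1 F223621)
theorem F461957 : act 1 n211520 = n196730 := d15_1 (iv0 F461956) F459306 F459302
theorem F461958 : act 7 n211431 = n211520 := d13_0 F461955 (iv7 F411220) (iv5 F461510)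
def n211521 : Q := act 6 n142703
theorem D211521 : act 6 n142703 = n211521 := rfl
theorem F461959 : act 3 n211521 = n142705 := d7_1 D211521 (iv6 D142705) (iv3 F225613)
theorem F461960 : act 4 n211521 = n174593 := d10_1 D211521 (iv6 F451382) F401928
theorem F461961 : act 0 n211521 = n199245 := d21_4 F228513 (iv1 D142701) D142703 D211521 (iv6 F411304) F303414 (iv1 F302243) F302245 F343460 F228514
theorem F461962 : act 1 n211521 = n204833 := d15_1 (iv0 F461961) F433759 (iv2 F411302)
def n211522 : Q := act 0 n142705
theorem D211522 : act 0 n142705 = n211522 := rfl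
theorem F461963 : act 5 n211522 = n198219 := d17_1 D211522 F436866 (iv5 F393353) F393352 F158997 D194256 (iv5 F461719) F461722 F410907
theorem F461964 : act 3 n211522 = n198220 := d20_5 D196843 (iv1 F402022) (iv4 F461960) F461959 D211522 F407264 (iv1 F404872) F404869 (iv3 F401916) (iv1 F401920)
def n211523 : Q := act 7 n142705
theorem D211523 : act 7 n142705 = n211523 := rfl
theorem F461965 : act 4 n211523 = n194574 := d11_1 D211523 (iv7 F410909) F410907
theorem F461966 : act 6 n211523 = n194572 := d14_1 D211523 (iv7 F410770) F410767 (iv7 F172271) D142705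
def n211524 : Q := act 1 n142736
theorem D211524 : act 1 n142736 = n211524 := rfl
theorem F461967 : act 1 n211524 = n195431 := d15_1 D211524 F396993 F225642
theorem F461968 : act 7 n211524 = n196725 := d15_2 (iv0 F398755) D211524 F401615
theorem F461969 : act 4 n211524 = n196834 := d18_7 F401349 (iv4 F220501) (iv1 F398695) (iv4 D195906) F172093 (iv4 F225640) D211524 F401968 (iv5 F401345)
theorem F461970 : act 3 n195412 = n211524 := d20_3 (iv4 F420718) (iv1 D199043) F396930 (iv1 D211524) (iv3 D142736) (iv4 D66914) D66912 F102838 (iv3 F215937) (iv1 F353533)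
theorem F461971 : act 2 n211524 = n196724 := d0_1 F461970 F401610 (iv2 F438068) F438069 (iv2 F410458)
def n211525 : Q := act 5 n142736
theorem D211525 : act 5 n142736 = n211525 := rfl
theorem F461972 : act 2 n211525 = n196728 := d2_1 D211525 (iv5 D196728) F225642
theorem F461973 : act 3 n211525 = n142737 := d6_1 D211525 (iv5 D142737) D142736
theorem F461974 : act 7 n211525 = n196726 := d13_2 (iv7 F225641) D211525 (iv5 D196726)
def n211526 : Q := act 6 n142736
theorem D211526 : act 6 n142736 = n211526 := rfl
theorem F461975 : act 2 n211526 = n196729 := d3_1 D211526 (iv6 D196729) F225642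
theorem F461976 : act 3 n211526 = n142738 := d7_1 D211526 (iv6 D142738) D142736
theorem F461977 : act 4 n211526 = n142745 := d10_1 D211526 (iv6 D142745) (iv4 F225640)
theorem F461978 : act 7 n211526 = n211083 := d14_2 (iv7 F225641) D211526 F460040 F404549 F400682
theorem F461979 : act 5 n210939 = n211526 := d13_3 F461978 (iv5 D211083) (iv7 F459382)
theorem F461980 : act 0 n211526 = n198135 := d17_2 F460077 F461979 F406960 F402468 F402472 (iv0 F400537) F406448 F406446 D211095
theorem F461981 : act 1 n211526 = n198141 := d17_6 (iv1 F223735) (iv5 F223736) F223494 F223493 D210939 F461979 (iv5 F460025) F460020 (iv4 D140645)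
def n211527 : Q := act 6 n142737
theorem D211527 : act 6 n142737 = n211527 := rfl
theorem F461982 : act 4 n211527 = n208930 := d10_1 D211527 F451454 F416648
theorem F461983 : act 7 n211527 = n208929 := d14_2 F425121 D211527 F451449 (iv7 D205839) F425126
theorem F461984 : act 3 n211068 = n211527 := d5_5 F461982 F451452 F416681 F406937 (iv4 F459981)
theorem F461985 : act 0 n172030 = n211527 := d18_2 (iv1 D172029) D172030 F461982 F451453 (iv4 F388787) F430753 (iv4 F302492) (iv0 F384812) F366650
theorem F461986 : act 6 n211525 = n211068 := d7_0 F461984 (iv6 D211527) (iv3 F461973)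
def n211528 : Q := act 5 n142738
theorem D211528 : act 5 n142738 = n211528 := rfl
theorem F461987 : act 3 n211528 = n210939 := d6_1 D211528 F461979 F461976
theorem F461988 : act 7 n211528 = n211082 := d13_2 F404551 D211528 F460042
def n211529 : Q := act 6 n142765
theorem D211529 : act 6 n142765 = n211529 := rfl
theorem F461989 : act 2 n211529 = n143829 := d3_1 D211529 (iv6 D143829) (iv2 F322209)
theorem F461990 : act 4 n211529 = n142767 := d10_1 D211529 (iv6 D142767) D142765
theorem F461991 : act 0 n211529 = n206269 := d21_4 (iv5 F325521) (iv1 F417834) F417831 D211529 F440001 (iv5 F439998) (iv1 F458781) (iv5 D210784) F364418 F299632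
theorem F461992 : act 0 n142812 = n211529 := d21_4 D157162 (iv1 F361915) (iv5 D142811) D142812 (iv6 D211529) (iv5 F417831) F417833 (iv5 D167690) (iv6 F361907) (iv1 D157161)
theorem F461993 : act 7 n211529 = n211146 := d15_2 (iv0 F440003) (iv0 F461991) (iv2 F460320)
def n211530 : Q := act 3 n142772
theorem D211530 : act 3 n142772 = n211530 := rfl
theorem F461994 : act 4 n211530 = n202683 := d5_2 (iv4 F225666) D211530 (iv3 D202683) (iv4 D116330) D116329
theorem F461995 : act 5 n211530 = n208567 := d6_2 F460186 D211530 (iv3 F460185)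
theorem F461996 : act 6 n211530 = n211150 := d7_2 (iv6 F348834) D211530 (iv3 D211150)
theorem F461997 : act 7 n211530 = n142814 := d8_2 (iv7 F353395) D211530 (iv3 D142814)
theorem F461998 : act 0 n196826 = n211530 := d21_4 (iv5 F410833) (iv1 F410836) F220040 D196826 F461996 F460337 F342399 D210946 F459415 (iv1 F402285)
def n211531 : Q := act 0 n142774
theorem D211531 : act 0 n142774 = n211531 := rfl
theorem F461999 : act 5 n211531 = n157161 := d17_3 (iv1 D142773) D142774 D211531 F361906 (iv5 D80463) (iv0 F304635) (iv5 F321588) F321587 F353398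
theorem F462000 : act 6 n211531 = n198760 := d21_5 (iv5 F294998) F325008 (iv5 F345145) (iv6 F345148) D211531 (iv5 D198760) (iv1 F204666) (iv5 F361217) (iv6 D184593) (iv1 F135028)
theorem F462001 : act 1 n142821 = n211531 := d15_0 (iv0 D211531) (iv7 F330105) (iv2 F330104)
theorem F462002 : act 4 n194657 = n211531 := d20_0 (iv1 F462001) (iv4 F373193) F420897 (iv1 D201541) D201542 F420898 D201735 (iv4 F453289) F393976 D194657
theorem F462003 : act 2 n211531 = n142818 := d1_1 F462002 (iv4 F460527) F460525
theorem F462004 : act 7 n211531 = n142819 := d11_2 F432310 F462002 (iv4 F350094)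
def n211532 : Q := act 1 n142774
theorem D211532 : act 1 n142774 = n211532 := rfl
theorem F462005 : act 1 n211532 = n142821 := d15_1 D211532 (iv7 D142821) (iv2 F225669)
theorem F462006 : act 7 n211532 = n142818 := d15_2 (iv0 D211531) D211532 (iv2 F462003)
theorem F462007 : act 5 n211532 = n157160 := d17_7 (iv1 F313654) (iv5 D33474) F190102 F320562 (iv4 F102880) D142774 D211532 (iv0 D157160) F112142
theorem F462008 : act 3 n198770 = n211532 := d19_19 (iv1 D211532) (iv5 D142774) F102880 (iv3 F84698) (iv1 F321237) (iv5 D39370) (iv4 F60323) (iv3 F130466) (iv1 F314280) F332088 (iv4 F327660) F219928 F169541 (iv5 D64170) D64169 (iv3 F329305) D193874 F450886 (iv4 F450883)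
theorem F462009 : act 4 n194658 = n211532 := d20_6 (iv4 F172868) D199517 F412958 D210657 (iv1 F460560) F460557 (iv1 D211532) (iv4 F345151) (iv3 F364133) (iv1 D139421)
theorem F462010 : act 6 n200941 = n211532 := d21_3 (iv5 F178379) F400513 F418448 (iv1 D211532) F345148 F345145 (iv1 F325007) F294999 (iv6 F358491) (iv1 D127824)
theorem F462011 : act 2 n211532 = n142819 := d3_1 F462010 (iv6 F420168) F420166
def n211533 : Q := act 6 n142801
theorem D211533 : act 6 n142801 = n211533 := rfl
theorem F462012 : act 2 n211533 = n196826 := d3_1 D211533 (iv6 D196826) F359132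
theorem F462013 : act 3 n211533 = n198129 := d7_1 D211533 (iv6 F406949) F398751
theorem F462014 : act 4 n211533 = n199052 := d10_1 D211533 (iv6 D199052) F359135
theorem F462015 : act 0 n142814 = n211533 := d20_10 F462014 F410480 F401633 F401629 (iv1 F401646) F434359 F434355 (iv1 F321313) F321586 D142814
theorem F462016 : act 5 n211533 = n198127 := d16_1 (iv4 F462014) (iv4 F424967) (iv5 D202657) (iv4 F398717) F451026 F451024 (iv5 F410505) (iv7 D199060) (iv2 F410479)
def n211534 : Q := act 5 n142803
theorem D211534 : act 5 n142803 = n211534 := rfl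
theorem F462017 : act 2 n211534 = n204817 := d2_1 D211534 F433692 F361554
theorem F462018 : act 3 n211534 = n142806 := d6_1 D211534 (iv5 D142806) (iv3 F225707)
theorem F462019 : act 4 n211534 = n198677 := d9_1 D211534 (iv5 D198677) F169739 (iv5 D107510) (iv4 F99487) D136015 D209251 (iv5 F453132) (iv4 D209306) (iv5 D136292) (iv4 F173175) F173176 (iv4 F99502) D136018 F361540
theorem F462020 : act 7 n211534 = n209297 := d13_2 (iv7 F361559) D211534 F453091
theorem F462021 : act 0 n211534 = n198029 := d17_2 F455733 D211534 (iv5 F406981) (iv4 F406985) (iv5 D126785) F99507 D64505 F220383 D210008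
theorem F462022 : act 1 n211534 = n198543 := d17_6 (iv1 F218865) F100432 (iv1 F99489) D136018 F361540 D211534 (iv5 F455703) F455706 (iv4 D209253)
def n211535 : Q := act 6 n142809
theorem D211535 : act 6 n142809 = n211535 := rfl
theorem F462023 : act 3 n211535 = n142812 := d7_1 D211535 (iv6 D142812) D142809
theorem F462024 : act 7 n211147 = n211535 := d8_0 F462023 (iv7 F353393) D211147
def n211536 : Q := act 0 n142811
theorem D211536 : act 0 n142811 = n211536 := rfl
theorem F462025 : act 5 n211536 = n152937 := d17_1 D211536 (iv1 F361904) (iv5 F461999) (iv4 F462002) F432309 F248315 (iv5 F459907) F459909 F434335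
theorem F462026 : act 2 n152940 = n211536 := d15_3 (iv0 D211536) F361915 F366543
theorem F462027 : act 1 n142816 = n211536 := d15_0 (iv0 D211536) (iv7 F434327) F434324
theorem F462028 : act 7 n211536 = n153689 := d15_2 (iv0 F359209) F462027 (iv2 F366687)
theorem F462029 : act 3 n194545 = n211536 := d6_3 F462025 (iv3 F361901) D194545
def n211537 : Q := act 1 n142814
theorem D211537 : act 1 n142814 = n211537 := rfl
theorem F462030 : act 7 n211537 = n196826 := d15_2 (iv0 F462015) D211537 (iv2 F462012)
theorem F462031 : act 4 n199060 = n211537 := d20_0 (iv1 D211537) F411237 (iv3 F411238) (iv1 D143250) (iv3 F226069) F226070 (iv1 F362226) (iv4 F362215) D194025 (iv1 F410504)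
theorem F462032 : act 3 n196833 = n211537 := d20_3 (iv4 D193342) D193340 (iv4 F415393) (iv1 D211537) (iv3 D142814) (iv4 F321586) (iv1 D127211) (iv4 F204484) (iv3 F439069) (iv1 F439071)
theorem F462033 : act 6 n211537 = n211235 := d7_2 (iv6 F401962) F462032 F460737
def n211538 : Q := act 2 n142814
theorem D211538 : act 2 n142814 = n211538 := rfl
theorem F462034 : act 5 n211538 = n189151 := d2_2 (iv5 F451037) D211538 (iv2 F451033)
def n211539 : Q := act 6 n142814
theorem D211539 : act 6 n142814 = n211539 := rfl
theorem F462035 : act 3 n211539 = n142817 := d7_1 D211539 (iv6 D142817) D142814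
theorem F462036 : act 4 n211539 = n210422 := d10_1 D211539 F457467 (iv4 F411237)
theorem F462037 : act 0 n199116 = n210422 := d20_1 (iv4 F410743) (iv4 F462036) F462035 F353414 F317569 F164946 (iv1 F80701) (iv4 F164891) D196433 (iv1 F410730)
def n211540 : Q := act 5 n142817
theorem D211540 : act 5 n142817 = n211540 := rfl
theorem F462038 : act 6 n211540 = n210431 := d12_2 D142817 D211540 F457493 (iv6 F360597) (iv5 D142816)
theorem F462039 : act 7 n211540 = n206268 := d13_2 F353406 D211540 F439998
theorem F462040 : act 4 n211540 = n194557 := d16_2 (iv4 F353401) D211540 (iv5 F411226) F411225 (iv5 D190056) F340933 D103706 F315975 (iv2 F311194)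
theorem F462041 : act 1 n211540 = n198110 := d17_6 (iv1 D103709) (iv5 D48030) D48028 D103701 (iv4 F353401) D211540 F406861 (iv0 D196916) (iv4 F336842)
def n211541 : Q := act 3 n142819
theorem D211541 : act 3 n142819 = n211541 := rfl
theorem F462042 : act 5 n211541 = n206256 := d6_2 (iv5 F350093) D211541 (iv3 D206256)
theorem F462043 : act 6 n211541 = n193089 := d7_2 F420168 D211541 (iv3 F420167)
theorem F462044 : act 0 n211541 = n198127 := d21_7 F398732 (iv1 F336128) F336129 (iv6 F375896) F375898 (iv6 F439949) (iv5 F462042) (iv5 F462016) (iv6 D211533) (iv1 F398730)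
def n211542 : Q := act 3 n142833
theorem D211542 : act 3 n142833 = n211542 := rfl
theorem F462045 : act 2 n211542 = n190031 := d0_1 D211542 F378616 (iv2 F366047) (iv3 F413774) F413773
theorem F462046 : act 4 n211542 = n142835 := d5_2 D142833 D211542 (iv3 D142835) (iv4 D66950) D66949
theorem F462047 : act 5 n211542 = n190595 := d6_2 (iv5 F225729) D211542 (iv3 F380251)
theorem F462048 : act 6 n211542 = n159835 := d7_2 (iv6 F362063) D211542 F362062
theorem F462049 : act 0 n211542 = n195653 := d20_4 (iv4 D67038) (iv1 F225634) D142833 D211542 F397737 F276574 (iv1 F341030) D116181 (iv3 F358016) F223013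
def n211543 : Q := act 6 n142848
theorem D211543 : act 6 n142848 = n211543 := rfl
theorem F462050 : act 4 n211543 = n190504 := d10_1 D211543 (iv6 D190504) F340516
theorem F462051 : act 0 n207213 = n211543 := d21_4 F398282 F164404 D130612 D207213 (iv6 D211543) F225742 (iv1 F318197) D195809 F398278 D195810
def n211544 : Q := act 1 n142854
theorem D211544 : act 1 n142854 = n211544 := rfl
theorem F462052 : act 1 n211544 = n154053 := d15_1 D211544 (iv7 F434213) F434211
theorem F462053 : act 7 n211544 = n187793 := d15_2 (iv0 F374937) D211544 (iv2 F374933)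
theorem F462054 : act 5 n211544 = n201891 := d17_7 F190386 (iv5 F190833) (iv1 D72157) F318071 (iv4 F102901) D142854 D211544 (iv0 D201891) F327337
theorem F462055 : act 3 n187796 = n211544 := d19_19 (iv1 D211544) (iv5 D142854) F102901 F49521 F313406 (iv5 D7593) F5430 (iv3 F5710) F297106 (iv5 F12891) (iv4 F28285) (iv3 F56475) D78634 (iv5 F341884) F249087 F307470 (iv1 F128278) D174020 (iv4 F371523)
theorem F462056 : act 2 n211544 = n201521 := d0_1 F462055 (iv3 F420848) (iv2 F371438) (iv3 F374874) F374873
def n211545 : Q := act 4 n142854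
theorem D211545 : act 4 n142854 = n211545 := rfl
theorem F462057 : act 3 n211545 = n195944 := d5_1 D211545 F398801 F165667 F329188 (iv3 F225748)
theorem F462058 : act 6 n211545 = n195943 := d10_2 F365567 D211545 F398798
theorem F462059 : act 7 n211545 = n201522 := d11_2 (iv7 F320234) D211545 (iv4 D201522)
theorem F462060 : act 5 n211545 = n154021 := d16_1 D211545 (iv4 F242089) (iv5 F242088) (iv4 D154054) (iv5 D72932) D72931 D154053 (iv7 F434213) F434211
theorem F462061 : act 1 n211545 = n205559 := d18_6 (iv1 F163387) F163384 F318068 (iv4 F102901) D142854 D211545 F436994 (iv0 D195824) (iv5 D106318)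
def n211546 : Q := act 3 n142882
theorem D211546 : act 3 n142882 = n211546 := rfl
theorem F462062 : act 2 n211546 = n176162 := d0_1 D211546 (iv3 F391201) (iv2 F401645) F434359 (iv2 F434356)
theorem F462063 : act 4 n211546 = n150549 := d5_2 (iv4 F322372) D211546 (iv3 D150549) (iv4 D70961) (iv3 F107504)
theorem F462064 : act 6 n211546 = n200800 := d7_2 (iv6 F322374) D211546 F417955
theorem F462065 : act 7 n211546 = n206062 := d8_2 (iv7 F342510) D211546 F439069
def n211547 : Q := act 0 n142884
theorem D211547 : act 0 n142884 = n211547 := rfl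
theorem F462066 : act 5 n211547 = n194687 := d17_1 D211547 (iv1 D194687) D194688 (iv4 F394095) F389349 (iv0 D190308) F367261 D193240 (iv4 F389280)
theorem F462067 : act 3 n211547 = n196733 := d20_5 F49519 D31182 D66963 D142884 D211547 (iv4 F401628) (iv1 F411236) (iv4 F411237) (iv3 D142814) (iv1 D66940)
theorem F462068 : act 4 n211547 = n196353 := d20_0 (iv1 F400458) F224887 (iv3 D111046) (iv1 D51214) (iv3 F49518) F49519 D31182 D66963 D142884 D211547
theorem F462069 : act 2 n211431 = n211547 := d15_3 (iv0 D211547) (iv0 F461956) (iv7 F461958)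
theorem F462070 : act 1 n196730 = n211547 := d15_0 (iv0 D211547) (iv7 F461337) F461335
theorem F462071 : act 7 n211547 = n196350 := d15_2 F461957 F462070 (iv2 F461952)
theorem F462072 : act 6 n199198 = n211547 := d14_5 F462071 (iv6 D196350) F181248 D111062 D199198
def n211548 : Q := act 5 n142901
theorem D211548 : act 5 n142901 = n211548 := rfl
theorem F462073 : act 0 n211548 = n203224 := d17_2 (iv1 F356233) D211548 (iv5 D203224) (iv4 D118243) F155287 F131908 F319580 (iv0 F319630) D179937
theorem F462074 : act 1 n211548 = n203221 := d17_6 (iv1 F241298) F232971 (iv1 F242148) F322380 D142901 D211548 (iv5 D203221) F241380 (iv4 D153526)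
theorem F462075 : act 4 n209703 = n211548 := d18_7 (iv1 F241385) F241383 (iv1 F241291) (iv4 F427332) F454684 (iv4 D209705) D209703 F462074 (iv5 D203221)
def n211549 : Q := act 5 n142906
theorem D211549 : act 5 n142906 = n211549 := rfl
theorem F462076 : act 3 n211549 = n198331 := d6_1 D211549 (iv5 F434996) F434995
theorem F462077 : act 4 n211549 = n198111 := d9_1 D211549 F406865 (iv4 F356926) (iv5 D103606) D103605 (iv5 F335074) D203276 F427624 (iv4 D196777) (iv5 D107311) (iv4 F350559) (iv5 D103602) D103601 F342454 (iv4 F225783)
theorem F462078 : act 6 n211549 = n198330 := d12_2 D142906 D211549 (iv5 D198330) (iv6 F351233) F342499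
theorem F462079 : act 7 n211549 = n203265 := d13_2 (iv7 F350192) D211549 F427568
theorem F462080 : act 1 n211549 = n177184 := d17_6 D116860 F342457 (iv1 F342450) F342454 (iv4 F225783) D211549 (iv5 D177184) (iv0 F342463) F182483
def n211550 : Q := act 3 n142994
theorem D211550 : act 3 n142994 = n211550 := rfl
theorem F462081 : act 4 n211550 = n207352 := d5_2 D142994 D211550 (iv3 F451719) F451720 F220524
theorem F462082 : act 5 n211550 = n211208 := d6_2 F353577 D211550 (iv3 F460613)
theorem F462083 : act 6 n211550 = n207351 := d7_2 F361805 D211550 F444477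
theorem F462084 : act 7 n211550 = n143281 := d8_2 (iv7 F225843) D211550 (iv3 D143281)
theorem F462085 : act 0 n211550 = n211213 := d20_4 (iv4 F223854) F223852 D142994 D211550 (iv3 D211213) F324061 (iv1 F193614) (iv4 F221220) (iv3 D137955) (iv1 F221171)
theorem F462086 : act 2 n211550 = n207959 := d15_3 (iv0 F456591) (iv0 F397404) (iv7 F462084)
def n211551 : Q := act 5 n142995
theorem D211551 : act 5 n142995 = n211551 := rfl
theorem F462087 : act 2 n211551 = n143103 := d2_1 D211551 (iv5 D143103) (iv2 F225855)
theorem F462088 : act 3 n211551 = n210205 := d6_1 D211551 F456563 (iv3 F448964)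
theorem F462089 : act 6 n211551 = n142998 := d12_2 D142995 D211551 (iv5 D142998) (iv6 D67019) D67018
theorem F462090 : act 0 n211551 = n201665 := d17_2 (iv1 F335423) D211551 (iv5 F449085) (iv4 F449087) (iv5 F450418) (iv0 F456605) (iv5 D210213) (iv0 F441107) F441104
theorem F462091 : act 1 n211551 = n154386 := d17_6 F410156 (iv5 F216919) (iv1 F450163) F450165 F361804 D211551 (iv5 F406337) (iv0 F410154) (iv4 F410158)
def n211552 : Q := act 1 n142998
theorem D211552 : act 1 n142998 = n211552 := rfl
theorem F462092 : act 1 n211552 = n143119 := d15_1 D211552 (iv7 D143119) (iv2 F225857)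
theorem F462093 : act 7 n211552 = n143116 := d15_2 (iv0 F368744) D211552 (iv2 F368735)
theorem F462094 : act 4 n211552 = n151658 := d17_9 (iv1 F354840) D210215 F456615 (iv5 D151437) (iv4 F335458) F335427 (iv0 D142996) D142998 D211552
theorem F462095 : act 3 n193246 = n211552 := d19_19 (iv1 D211552) (iv5 D142998) F103008 (iv3 F102997) (iv1 F326856) F317215 (iv4 D48911) D48910 (iv1 F77126) F50105 F26587 F26807 F20614 (iv5 F24715) (iv4 F50374) (iv3 F105001) F227416 (iv5 F350795) (iv4 F389309)
theorem F462096 : act 6 n201855 = n211552 := d21_3 F356864 (iv1 F411880) (iv5 F422081) (iv1 D211552) (iv6 F462089) (iv5 D211551) (iv1 F448853) F448850 F251555 (iv1 F242368)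
theorem F462097 : act 2 n211552 = n143117 := d0_1 F462095 F353336 F359230 (iv3 F368235) F389310
def n211553 : Q := act 6 n143021
theorem D211553 : act 6 n143021 = n211553 := rfl
theorem F462098 : act 2 n211553 = n149178 := d3_1 D211553 F346255 (iv2 F225885)
theorem F462099 : act 3 n211553 = n189829 := d7_1 D211553 (iv6 D189829) F318875
theorem F462100 : act 4 n211553 = n143022 := d10_1 D211553 (iv6 D143022) D143021
theorem F462101 : act 5 n211553 = n210091 := d21_6 F225903 (iv1 D109540) F94442 (iv6 F321629) (iv1 F225889) D211553 (iv1 F456118) (iv5 D149223) (iv6 F317369) (iv1 F225905)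
theorem F462102 : act 0 n211553 = n149057 := d21_10 (iv5 F428502) F428506 D207186 F443702 (iv1 F234595) (iv6 F317369) (iv5 F174302) (iv1 F174307) (iv5 F225888) D211553
theorem F462103 : act 1 n211553 = n149061 := d15_1 (iv0 F462102) F234417 (iv2 F234408)
theorem F462104 : act 7 n211553 = n149177 := d15_2 F439052 (iv0 F462102) (iv2 F439048)
def n211554 : Q := act 1 n143034
theorem D211554 : act 1 n143034 = n211554 := rfl
theorem F462105 : act 1 n211554 = n163223 := d15_1 D211554 (iv7 F353476) F353521
theorem F462106 : act 7 n211554 = n164135 := d15_2 F373712 D211554 (iv2 F373709)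
theorem F462107 : act 5 n211554 = n163863 := d17_7 (iv1 F224604) (iv5 D141566) D141565 F224601 (iv4 F407086) F407087 D211554 (iv0 D163863) (iv4 F325302)
theorem F462108 : act 4 n211554 = n195553 := d17_9 (iv1 D195553) (iv5 D105692) F102872 D142737 (iv4 F416648) (iv5 D200481) (iv0 F407089) F407087 D211554
theorem F462109 : act 6 n205866 = n211554 := d21_3 (iv5 F429193) (iv1 F429195) (iv5 F438191) (iv1 D211554) F353523 F318489 (iv1 F339409) F330654 D179229 (iv1 F403215)
theorem F462110 : act 2 n205036 = n211554 := d1_3 F462108 (iv2 F397328) (iv4 F434721)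
def n211555 : Q := act 6 n143037
theorem D211555 : act 6 n143037 = n211555 := rfl
theorem F462111 : act 2 n211555 = n202639 := d3_1 D211555 (iv6 D202639) (iv2 F349977)
theorem F462112 : act 3 n211555 = n195453 := d7_1 D211555 F397035 F349979
theorem F462113 : act 4 n211555 = n155943 := d10_1 D211555 (iv6 F311538) F349976
theorem F462114 : act 7 n211555 = n155940 := d14_2 (iv7 F349978) D211555 (iv6 D155940) F110885 D128496
theorem F462115 : act 5 n211555 = n197281 := d21_6 (iv5 F427482) F446979 F446980 F360678 (iv1 F350008) D211555 F427466 F427467 F427327 (iv1 F427329)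
theorem F462116 : act 0 n211267 = n211555 := d21_4 F427488 (iv1 F460869) (iv5 D211266) D211267 (iv6 D211555) F349980 F422552 (iv5 F434694) (iv6 F434696) (iv1 F427491)
theorem F462117 : act 0 n198471 = n195402 := d20_10 (iv4 F453194) (iv1 F453196) F440305 F397000 D195453 (iv3 F462112) F462113 (iv1 F244949) (iv4 F453224) (iv3 F453226)
def n211556 : Q := act 6 n143040
theorem D211556 : act 6 n143040 = n211556 := rfl
theorem F462118 : act 3 n211556 = n206142 := d7_1 D211556 (iv6 D206142) (iv3 F225902)
theorem F462119 : act 4 n211556 = n143041 := d10_1 D211556 (iv6 D143041) D143040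
theorem F462120 : act 5 n211556 = n207183 := d12_1 D211556 F443692 (iv5 D188495) F351022 (iv5 F225903)
theorem F462121 : act 0 n211556 = n202890 := d21_4 (iv5 F173628) (iv1 F173632) (iv5 F225903) D211556 F426064 (iv5 F408124) (iv1 F408126) F353147 F346255 (iv1 F205298)
theorem F462122 : act 0 n195556 = n211556 := d21_4 F225888 (iv1 D109875) F162323 D195556 (iv6 D211556) F225903 (iv1 D109540) F94442 (iv6 F321629) (iv1 F225889)
def n211557 : Q := act 4 n143044
theorem D211557 : act 4 n143044 = n211557 := rfl
theorem F462123 : act 3 n211557 = n190034 := d5_1 D211557 F378623 (iv3 F382275) (iv4 D191110) F364503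
theorem F462124 : act 6 n211557 = n190032 := d10_2 F364504 D211557 F378619
theorem F462125 : act 0 n211557 = n195556 := d18_2 F434191 D211557 F397337 F333612 D117197 F230835 F227886 D147230 (iv5 F434189)
theorem F462126 : act 1 n211557 = n202890 := d18_6 (iv1 F334454) F334455 (iv1 F258972) F258973 (iv5 F364505) D211557 (iv4 D202890) F363630 D139839
def n211558 : Q := act 3 n143050
theorem D211558 : act 3 n143050 = n211558 := rfl
theorem F462127 : act 4 n211558 = n195898 := d5_2 D143050 D211558 F398651 (iv4 D147338) F340740
theorem F462128 : act 5 n211558 = n205483 := d6_2 F396774 D211558 (iv3 F436636)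
theorem F462129 : act 6 n211558 = n150039 := d7_2 (iv6 F340742) D211558 (iv3 D150039)
theorem F462130 : act 0 n211558 = n211525 := d19_4 F315235 (iv5 F340738) D143050 D211558 (iv5 D211525) F225640 (iv3 D66917) (iv1 F102752) (iv5 F363556) (iv4 F373266) F373265 (iv1 D144500) D144502 (iv4 F377159) (iv3 F377160) (iv1 F355699) (iv5 D114394) F316817 (iv3 F315236)
def n211559 : Q := act 3 n143055
theorem D211559 : act 3 n143055 = n211559 := rfl
theorem F462131 : act 5 n211559 = n209633 := d6_2 F396768 D211559 F454406
theorem F462132 : act 6 n211559 = n192273 := d7_2 (iv6 F340749) D211559 F386262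
theorem F462133 : act 0 n211559 = n195301 := d19_4 F290486 F340746 D143055 D211559 (iv5 F396948) (iv4 F438370) F438368 (iv1 D127156) (iv5 F322560) (iv4 F324038) F85427 (iv1 D54114) (iv5 D26187) (iv4 D12419) D12418 (iv1 F41545) D54067 (iv4 F162467) (iv3 F316467)
def n211560 : Q := act 4 n143058
theorem D211560 : act 4 n143058 = n211560 := rfl
theorem F462134 : act 3 n211560 = n159880 := d5_1 D211560 F355113 (iv3 F233858) F355111 (iv3 F360676)
theorem F462135 : act 6 n211560 = n144944 := d10_2 F360675 D211560 F229135
theorem F462136 : act 7 n211560 = n203431 := d11_2 F425145 D211560 F428272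
theorem F462137 : act 5 n211560 = n210580 := d16_7 F458119 (iv5 D199045) F396930 (iv5 F458038) F458039 F404463 D211560 (iv7 F458116) (iv2 F458121)
theorem F462138 : act 0 n211560 = n203467 := d17_0 (iv5 D203467) (iv1 D119210) (iv5 D54857) (iv4 F86799) F340746 F225896 F350013 F360674 D211560
theorem F462139 : act 1 n211560 = n195557 := d18_6 (iv1 F317331) D145066 (iv1 F458036) F458039 F404463 D211560 (iv4 D195557) (iv0 F181097) F181095
def n211561 : Q := act 4 n143059
theorem D211561 : act 4 n143059 = n211561 := rfl
theorem F462140 : act 2 n211561 = n203431 := d1_1 D211561 F428272 F425144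
theorem F462141 : act 3 n211561 = n194537 := d5_1 D211561 F393632 F159187 (iv4 F159188) F340735
theorem F462142 : act 6 n211561 = n194536 := d10_2 (iv6 F340736) D211561 F393627
theorem F462143 : act 5 n211561 = n210581 := d16_1 D211561 F458119 (iv5 D199045) F396930 (iv5 F458038) F458039 F404463 (iv7 F425145) F425144
theorem F462144 : act 0 n211561 = n195557 := d17_0 F397341 (iv1 F428303) (iv5 D203438) F315233 (iv5 F340738) (iv0 D67041) D67043 D143059 D211561
theorem F462145 : act 1 n211561 = n203467 := d18_8 (iv1 D119210) D119211 F387682 (iv4 F387681) F349969 (iv4 D143060) D143059 D211561 (iv5 D203467)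
def n211562 : Q := act 5 n143059
theorem D211562 : act 5 n143059 = n211562 := rfl
theorem F462146 : act 3 n211562 = n194542 := d6_1 D211562 (iv5 D194542) F340735
theorem F462147 : act 7 n211562 = n204928 := d13_2 F429827 D211562 F434218
theorem F462148 : act 4 n211562 = n210558 := d16_6 (iv4 F396930) D199045 (iv4 F458119) (iv5 F462143) (iv4 D211561) D211562 F458030 F410461 (iv2 F410458)
theorem F462149 : act 0 n211562 = n148003 := d17_2 F360646 D211562 (iv5 D148003) (iv4 F315234) D157726 (iv0 F420894) (iv5 D201538) F360658 (iv4 F229829)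
theorem F462150 : act 1 n211562 = n204976 := d17_6 (iv1 F315231) D145078 (iv1 F458117) (iv5 F462143) (iv4 D211561) D211562 F434409 (iv0 F349958) F187350
theorem F462151 : act 6 n211562 = n203391 := d21_3 F350013 F360646 D211562 (iv1 D203391) (iv6 D118876) F86522 (iv1 F104029) (iv5 F107736) F340743 (iv1 F225897)
def n211563 : Q := act 6 n143068
theorem D211563 : act 6 n143068 = n211563 := rfl
theorem F462152 : act 2 n211563 = n193360 := d3_1 D211563 F389570 (iv2 F225923)
theorem F462153 : act 3 n211563 = n191702 := d7_1 D211563 F384207 F352464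
theorem F462154 : act 4 n211563 = n143069 := d10_1 D211563 (iv6 D143069) D143068
theorem F462155 : act 7 n211563 = n191700 := d14_2 (iv7 F225924) D211563 (iv6 D191700) F152101 F350427
theorem F462156 : act 0 n211563 = n210265 := d21_4 (iv5 F426794) F426795 F386812 D211563 F456791 F410152 F347362 (iv5 F336395) (iv6 F352548) F225951
theorem F462157 : act 1 n211563 = n210266 := d15_1 (iv0 F462156) F456793 (iv2 F456789)
def n211564 : Q := act 4 n143089
theorem D211564 : act 4 n143089 = n211564 := rfl
theorem F462158 : act 2 n211564 = n195421 := d1_1 D211564 (iv4 F455898) F455897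
theorem F462159 : act 3 n211564 = n202208 := d5_1 D211564 (iv4 D202208) F423187 (iv4 F429653) F429651
theorem F462160 : act 7 n211564 = n195420 := d11_2 F455923 D211564 F455926
theorem F462161 : act 5 n211564 = n210791 := d16_1 D211564 (iv4 F461040) F461039 (iv4 F446745) F446742 F227931 F349478 (iv7 F455900) F455897
theorem F462162 : act 0 n211564 = n195419 := d17_0 F397312 (iv1 D195548) D195550 (iv4 F453515) F453516 (iv0 F347295) (iv5 D143090) D143089 D211564
theorem F462163 : act 1 n211564 = n195422 := d18_6 (iv1 D117536) (iv4 F184119) (iv1 F349477) (iv4 F264372) F347294 D211564 F396957 F391548 F391545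
def n211565 : Q := act 1 n143092
theorem D211565 : act 1 n143092 = n211565 := rfl
theorem F462164 : act 1 n211565 = n192073 := d15_1 D211565 (iv7 F394608) F394606
theorem F462165 : act 7 n211565 = n192076 := d15_2 (iv0 F363136) D211565 F385978
theorem F462166 : act 4 n194740 = n211565 := d20_0 (iv1 D211565) F391421 F391422 F322290 (iv3 F321643) (iv4 D105603) F161998 (iv4 F396659) F396658 (iv1 F394315)
theorem F462167 : act 3 n193144 = n211565 := d20_3 D47532 D102451 (iv4 F388908) (iv1 D211565) F225941 F103044 (iv1 F320547) (iv4 F356210) (iv3 D102447) (iv1 D47531)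
theorem F462168 : act 2 n211565 = n192075 := d0_1 F462167 F385444 F328312 (iv3 F356193) F388909
def n211566 : Q := act 6 n143093
theorem D211566 : act 6 n143093 = n211566 := rfl
theorem F462169 : act 2 n211566 = n208670 := d3_1 D211566 F450399 (iv2 F225942)
theorem F462170 : act 3 n211566 = n143095 := d7_1 D211566 (iv6 D143095) D143093
theorem F462171 : act 4 n211566 = n193357 := d10_1 D211566 F389563 F225944
theorem F462172 : act 7 n211566 = n208590 := d14_2 F349663 D211566 (iv6 D208590) F352494 D134905
theorem F462173 : act 0 n211566 = n154231 := d21_4 (iv5 F452713) F452715 (iv5 F225943) D211566 (iv6 D154231) (iv5 F190092) D152899 F307567 D184747 (iv1 F436833)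
theorem F462174 : act 5 n211566 = n208375 := d21_6 (iv5 F349806) (iv1 F368233) F368231 (iv6 F349681) F349683 D211566 (iv1 D208375) (iv5 D134236) (iv6 D63058) D63054
theorem F462175 : act 0 n189784 = n211566 := d21_4 (iv5 F353721) (iv1 D185233) (iv5 F337939) D189784 (iv6 D211566) F225943 (iv1 F389487) (iv5 F436849) F436847 (iv1 F358578)
def n211567 : Q := act 0 n143095
theorem D211567 : act 0 n143095 = n211567 := rfl
theorem F462176 : act 4 n211567 = n204108 := d18_3 (iv1 D193354) (iv4 F352522) D211567 (iv5 D204108) F425887 F425885 (iv4 F385169) F459077 F459076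
theorem F462177 : act 6 n211567 = n210868 := d21_5 (iv5 D198603) F180300 F180301 D143095 D211567 (iv5 D210868) (iv1 F389577) (iv5 D193361) F349702 (iv1 F408486)
theorem F462178 : act 3 n209746 = n211567 := d7_3 F462177 F459069 F454829
theorem F462179 : act 0 n211567 = n204363 := d20_10 (iv4 D204363) (iv1 F389550) (iv4 F389552) (iv3 D187768) (iv1 D90546) D90547 (iv4 F371404) F371405 (iv4 F454828) F462178
def n211568 : Q := act 1 n143095
theorem D211568 : act 1 n143095 = n211568 := rfl
theorem F462180 : act 1 n211568 = n204363 := d15_1 D211568 (iv7 F456148) F456145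
def n211569 : Q := act 5 n143095
theorem D211569 : act 5 n143095 = n211569 := rfl
theorem F462181 : act 3 n211569 = n208375 := d6_1 D211569 (iv5 F462174) F462170
def n211570 : Q := act 7 n143095
theorem D211570 : act 7 n143095 = n211570 := rfl
theorem F462182 : act 2 n211570 = n204363 := d4_1 D211570 (iv7 F456148) F456145
theorem F462183 : act 3 n211570 = n208590 := d8_1 D211570 (iv7 F462172) F462170
theorem F462184 : act 4 n211570 = n186805 := d11_1 D211570 F368071 (iv4 F352522)
theorem F462185 : act 6 n211570 = n208589 := d14_1 D211570 F450030 (iv6 F352552) F223851 D143095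
def n211571 : Q := act 0 n143098
theorem D211571 : act 0 n143098 = n211571 := rfl
theorem F462186 : act 4 n211571 = n208692 := d18_3 D201035 F418827 D211571 F450469 F438341 (iv0 F359760) (iv4 F438966) (iv0 F438969) F251339
theorem F462187 : act 2 n191528 = n211571 := d1_3 F462186 (iv2 F450471) F442837
theorem F462188 : act 6 n191525 = n211571 := d10_0 F462186 F450470 F437332
def n211572 : Q := act 1 n143098
theorem D211572 : act 1 n143098 = n211572 := rfl
theorem F462189 : act 7 n211572 = n191528 := d15_2 (iv0 D211571) D211572 F462187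
theorem F462190 : act 3 n191546 = n211572 := d8_3 F462189 F383666 D191546
theorem F462191 : act 4 n208693 = n211572 := d11_3 F462189 (iv4 F442837) (iv7 F450473)
def n211573 : Q := act 2 n143098
theorem D211573 : act 2 n143098 = n211573 := rfl
theorem F462192 : act 3 n211573 = n207959 := d0_2 D143098 D211573 (iv2 F462086) (iv3 D211550) F225842
theorem F462193 : act 4 n211573 = n205738 := d1_2 F418827 D211573 F437640
theorem F462194 : act 6 n205737 = n211573 := d10_0 F462193 (iv6 D205738) D205737
theorem F462195 : act 1 n191528 = n211573 := d17_8 F437642 F233521 (iv1 F438893) F456736 (iv4 D210248) D210249 (iv0 F456738) (iv5 F423556) F462193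
def n211574 : Q := act 6 n143098
theorem D211574 : act 6 n143098 = n211574 := rfl
theorem F462196 : act 2 n211574 = n205737 := d3_1 D211574 F462194 (iv2 D211573)
theorem F462197 : act 3 n211574 = n143099 := d7_1 D211574 (iv6 D143099) D143098
theorem F462198 : act 4 n211574 = n205736 := d10_1 D211574 F437633 F418827
theorem F462199 : act 7 n208645 = n211574 := d11_0 F462198 F437634 (iv4 F450309)
theorem F462200 : act 5 n208617 = n211574 := d16_1 F450179 F462198 (iv5 D205736) (iv4 F208154) D207014 F442966 F432796 F431494 D204536
theorem F462201 : act 0 n191816 = n208617 := d17_2 F437775 (iv5 F437776) F462200 F462198 (iv5 D205736) F203549 (iv5 F437218) (iv0 D205612) D205613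
theorem F462202 : act 0 n206474 = n211574 := d18_2 (iv1 F217843) (iv4 F440999) F462198 (iv5 D205736) (iv4 F208154) F212699 (iv4 F437780) (iv0 F437781) F437433
theorem F462203 : act 1 n208688 = n211574 := d18_6 (iv1 F203522) (iv4 F211736) (iv1 F211740) (iv4 F437367) F437369 D208688 F462198 (iv0 F437636) F437272
def n211575 : Q := act 4 n143117
theorem D211575 : act 4 n143117 = n211575 := rfl
theorem F462204 : act 2 n211575 = n151658 := d1_1 D211575 (iv4 F462094) F462097
theorem F462205 : act 3 n211575 = n196116 := d5_1 D211575 F399494 F359234 F353333 (iv3 F353336)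
theorem F462206 : act 7 n211575 = n151663 := d11_2 F368737 D211575 F368738
theorem F462207 : act 0 n211575 = n159732 := d17_0 F355730 (iv1 D151632) (iv5 D71466) D71465 F334861 (iv0 D67061) D67063 D143117 D211575
theorem F462208 : act 0 n151554 = n211575 := d20_10 (iv4 D211575) (iv1 D143117) D143118 (iv3 F361806) F373942 F373939 F342080 (iv1 F272126) (iv4 F334784) (iv3 F259144)
theorem F462209 : act 5 n211575 = n151444 := d17_1 F462208 (iv1 F238187) F108004 (iv4 F107999) (iv5 F238483) F455716 F455714 F426446 F353549
theorem F462210 : act 6 n211575 = n159744 := d21_5 (iv5 D201658) (iv1 F259189) (iv5 D151553) D151554 F462208 (iv5 F347574) (iv1 F179375) F327770 D148710 (iv1 F421274)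
def n211576 : Q := act 5 n143117
theorem D211576 : act 5 n143117 = n211576 := rfl
theorem F462211 : act 3 n211576 = n192124 := d6_1 D211576 F385659 (iv3 F353336)
theorem F462212 : act 7 n211576 = n193525 := d13_2 F368737 D211576 F390165
theorem F462213 : act 4 n211576 = n205037 := d16_2 (iv4 D211575) D211576 F434724 F396382 D195234 F396392 (iv5 F238182) (iv7 F251618) (iv2 F462204)
theorem F462214 : act 1 n211576 = n143459 := d17_6 (iv1 D71391) D71392 D151444 (iv5 F462209) (iv4 D211575) D211576 (iv5 D143459) D143456 F330357
theorem F462215 : act 0 n211576 = n148014 := d18_0 (iv4 D148014) (iv1 F233150) (iv4 F353550) (iv5 F354836) F354832 (iv0 F341544) (iv4 D143118) D143117 D211576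
theorem F462216 : act 6 n211576 = n203399 := d21_3 (iv5 F341552) (iv1 F341553) D211576 (iv1 D203399) (iv6 D118879) D118878 D203396 F428136 F335437 (iv1 F319174)
def n211577 : Q := act 6 n143117
theorem D211577 : act 6 n143117 = n211577 := rfl
theorem F462217 : act 2 n211577 = n201855 := d3_1 D211577 F462096 F462097
theorem F462218 : act 3 n211577 = n193634 := d7_1 D211577 (iv6 D193634) (iv3 F353336)
theorem F462219 : act 4 n211577 = n159744 := d10_1 D211577 (iv6 F462210) (iv4 D211575)
theorem F462220 : act 7 n211577 = n159739 := d14_2 F368737 D211577 (iv6 D159739) F251623 (iv6 F368736)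
theorem F462221 : act 0 n211577 = n208489 := d21_10 (iv5 F450578) F450579 (iv5 D154256) (iv6 D73083) (iv1 F107807) F321918 D143459 (iv1 F462214) (iv5 D211576) D211577
theorem F462222 : act 0 n211282 = n211577 := d21_4 F427015 (iv1 F460942) (iv5 D211281) D211282 (iv6 D211577) D211576 F462215 F426744 F426740 D203112
def n211578 : Q := act 5 n143118
theorem D211578 : act 5 n143118 = n211578 := rfl
theorem F462223 : act 2 n211578 = n190501 := d2_1 D211578 F379928 (iv2 F341546)
theorem F462224 : act 3 n211578 = n151665 := d6_1 D211578 F355205 F361806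
theorem F462225 : act 4 n211578 = n145022 := d9_1 D211578 F227971 (iv4 F323334) F318372 D141767 (iv5 F341552) F341543 (iv5 F420304) (iv4 D201391) F324996 (iv4 D67099) (iv5 D31231) (iv4 F49544) D67063 D143118
theorem F462226 : act 6 n211578 = n151979 := d12_2 F444757 D211578 (iv5 F379806) (iv6 F430451) (iv5 F444756)
theorem F462227 : act 0 n211578 = n208211 := d17_2 (iv1 F341545) D211578 (iv5 F448384) F343297 (iv5 D137923) (iv0 D64821) D64823 (iv0 F329160) F183937
theorem F462228 : act 1 n211578 = n202876 := d17_6 F341183 F334856 (iv1 D67062) D67063 D143118 D211578 (iv5 D202876) F343310 F343311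
def n211579 : Q := act 6 n143121
theorem D211579 : act 6 n143121 = n211579 := rfl
theorem F462229 : act 2 n211579 = n143291 := d3_1 D211579 (iv6 D143291) (iv2 F342527)
theorem F462230 : act 3 n211579 = n190911 := d7_1 D211579 (iv6 D190911) F342530
theorem F462231 : act 4 n211579 = n150911 := d10_1 D211579 (iv6 F319304) (iv4 F342528)
theorem F462232 : act 5 n211579 = n192024 := d12_1 D211579 (iv6 D192024) (iv5 F293323) F158570 F342531
theorem F462233 : act 7 n211579 = n202597 := d14_2 (iv7 F342529) D211579 F457632 F457630 F363418
theorem F462234 : act 0 n211579 = n143572 := d21_4 (iv5 F157305) F342533 F342531 D211579 (iv6 D143572) F346691 (iv1 D46561) D46562 F73559 D46574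
def n211580 : Q := act 0 n143131
theorem D211580 : act 0 n143131 = n211580 := rfl
theorem F462235 : act 5 n211580 = n176167 := d17_1 D211580 F394298 F394292 (iv4 F369537) (iv5 F393192) F393195 (iv5 F390377) (iv0 F390378) (iv4 F225985)
theorem F462236 : act 4 n211580 = n201207 := d18_3 F356502 (iv4 F225985) D211580 F419456 (iv4 F409281) (iv0 F409282) F375050 D188847 (iv5 F377186)
theorem F462237 : act 3 n211580 = n191413 := d20_5 (iv4 D127145) (iv1 F103088) (iv4 F103087) D143131 D211580 F383404 (iv1 D175352) (iv4 F333957) F259446 F225491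
theorem F462238 : act 6 n153342 = n211580 := d7_0 F462237 (iv6 D191413) (iv3 F355681)
def n211581 : Q := act 5 n143131
theorem D211581 : act 5 n143131 = n211581 := rfl
theorem F462239 : act 2 n211581 = n201294 := d2_1 D211581 (iv5 F426479) F426476
theorem F462240 : act 3 n211581 = n143132 := d6_1 D211581 (iv5 D143132) D143131
theorem F462241 : act 6 n211581 = n209362 := d12_2 F361681 D211581 (iv5 F454151) (iv6 F454153) (iv5 D201208)
theorem F462242 : act 7 n211581 = n201293 := d13_2 F460256 D211581 (iv5 F460255)
theorem F462243 : act 0 n211581 = n201276 := d17_2 F456536 D211581 (iv5 D201276) F178059 D114249 (iv0 F419502) (iv5 D201221) D201220 (iv4 F456535)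
theorem F462244 : act 4 n211581 = n209363 := d17_4 F394295 D210199 F456536 D211581 (iv5 F455857) (iv0 D210035) (iv5 D137306) D137305 (iv4 F394294)
theorem F462245 : act 1 n211581 = n201295 := d17_6 F369532 (iv5 F375019) (iv1 F421698) F421699 (iv4 F225985) D211581 F419894 (iv0 F369533) F369530
def n211582 : Q := act 6 n143132
theorem D211582 : act 6 n143132 = n211582 := rfl
theorem F462246 : act 3 n211582 = n209362 := d7_1 D211582 (iv6 F462241) F462240
theorem F462247 : act 0 n211582 = n209366 := d20_4 (iv4 F99712) D136346 D209362 (iv3 F462246) (iv3 D209366) D209367 (iv1 F453535) (iv4 D209390) (iv3 D136386) (iv1 D64119)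
def n211583 : Q := act 5 n143213
theorem D211583 : act 5 n143213 = n211583 := rfl
theorem F462248 : act 2 n211583 = n151657 := d2_1 D211583 F355700 (iv2 F340690)
theorem F462249 : act 4 n211583 = n151444 := d9_1 D211583 (iv5 F462209) (iv4 D211575) D211576 F462213 F434724 F396382 D195234 F396392 (iv5 F238182) (iv4 F355735) F355736 F282906 D181743 F340689
theorem F462250 : act 6 n211583 = n207403 := d12_2 (iv6 F340688) D211583 F444713 (iv6 F377391) (iv5 F340673)
theorem F462251 : act 7 n211583 = n151662 := d13_2 (iv7 F361630) D211583 (iv5 F361626)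
theorem F462252 : act 0 n211583 = n148028 := d17_2 D143213 D211583 (iv5 D148028) (iv4 D69333) D69334 (iv0 F233149) (iv5 F312194) (iv0 D67097) D67099
theorem F462253 : act 1 n211583 = n148009 := d17_6 F251048 (iv5 F201279) F282911 D181743 F340689 D211583 (iv5 D148009) (iv0 F316810) F316812
def n211584 : Q := act 5 n143238
theorem D211584 : act 5 n143238 = n211584 := rfl
theorem F462254 : act 2 n211584 = n143251 := d2_1 D211584 (iv5 D143251) (iv2 F226057)
theorem F462255 : act 3 n211584 = n208255 := d6_1 D211584 (iv5 D208255) (iv3 F226058)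
theorem F462256 : act 6 n211584 = n202556 := d12_2 D143238 D211584 F458940 (iv6 D210828) F223173
theorem F462257 : act 4 n211584 = n202674 := d16_2 (iv4 F226059) D211584 F425029 F319414 F311569 F306601 (iv5 F320544) (iv7 D67120) (iv2 F103070)
theorem F462258 : act 1 n211584 = n195603 := d17_6 F187242 (iv5 F106995) F190224 (iv5 F320543) (iv4 F226059) D211584 (iv5 D195603) D195602 (iv4 F397549)
def n211585 : Q := act 7 n143238
theorem D211585 : act 7 n143238 = n211585 := rfl
theorem F462259 : act 2 n211585 = n143252 := d4_1 D211585 (iv7 D143252) (iv2 F226057)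
theorem F462260 : act 3 n211585 = n202669 := d8_1 D211585 F425004 (iv3 F226058)
theorem F462261 : act 4 n211585 = n143243 := d11_1 D211585 (iv7 D143243) (iv4 F226059)
theorem F462262 : act 6 n211585 = n159926 := d14_1 D211585 F330618 (iv6 D141385) (iv7 F103065) D143238
theorem F462263 : act 1 n143250 = n211585 := d15_1 D143250 (iv7 D211585) F226057
theorem F462264 : act 1 n211585 = n143249 := d15_1 F462263 F361412 (iv2 F361413)
def n211586 : Q := act 0 n143245
theorem D211586 : act 0 n143245 = n211586 := rfl
theorem F462265 : act 5 n211586 = n192949 := d17_3 (iv1 D143244) D143245 D211586 (iv4 F456376) (iv5 D210151) (iv0 F391769) (iv5 D194013) D194012 F391762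
theorem F462266 : act 4 n211586 = n184120 := d18_1 D211586 F458227 (iv4 D210616) F225853 (iv4 F333128) F333126 D137667 (iv0 F220834) D143245
theorem F462267 : act 3 n211586 = n192950 := d20_5 D139500 (iv1 F226072) (iv4 D143247) (iv3 F226068) D211586 (iv4 F400206) F400209 F224849 F224105 (iv1 F181591)
theorem F462268 : act 1 n208246 = n211586 := d15_0 (iv0 D211586) (iv7 F455876) F455873
theorem F462269 : act 6 n184119 = n211586 := d10_0 F462266 (iv6 D184120) D184119
def n211587 : Q := act 1 n143245
theorem D211587 : act 1 n143245 = n211587 := rfl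
theorem F462270 : act 1 n211587 = n208246 := d15_1 D211587 (iv7 F455880) F455878
theorem F462271 : act 5 n211587 = n199009 := d17_7 (iv1 D64343) D64345 (iv1 F220983) (iv5 D67122) (iv4 F103071) D143245 D211587 F410305 (iv4 D136874)
theorem F462272 : act 3 n199010 = n211587 := d19_19 (iv1 D211587) (iv5 D143245) F103071 (iv3 D31240) (iv1 F49543) D67049 D143074 F352439 D182325 (iv5 F450564) F450563 (iv3 F352232) F209078 (iv5 F402861) (iv4 F402862) (iv3 D109074) (iv1 F168571) D197769 (iv4 F410308)
def n211588 : Q := act 5 n143246
theorem D211588 : act 5 n143246 = n211588 := rfl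
theorem F462273 : act 2 n211588 = n188693 := d2_1 D211588 F391781 (iv2 F391782)
theorem F462274 : act 3 n211588 = n143251 := d6_1 D211588 (iv5 D143251) (iv3 F226069)
theorem F462275 : act 6 n211588 = n210701 := d12_2 D143246 D211588 (iv5 F460448) (iv6 F460450) (iv5 D143245)
theorem F462276 : act 7 n211588 = n188694 := d13_2 (iv7 F391779) D211588 (iv5 F391775)
theorem F462277 : act 4 n211588 = n201090 := d16_2 (iv4 F226070) D211588 (iv5 D201090) F349122 (iv5 D90527) D90526 (iv5 F362222) F359471 F220535
theorem F462278 : act 0 n211588 = n188695 := d17_2 F385864 D211588 F374485 (iv4 D187739) (iv5 D90523) F73642 D47583 F153689 D192173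
theorem F462279 : act 0 n183168 = n211588 := d19_0 (iv5 D211588) F226070 F103093 D67126 (iv5 F334878) F137263 (iv3 D89540) F64467 (iv5 D22792) D22791 D47448 (iv1 F329591) D130587 (iv4 F350593) F234847 (iv1 F234845) F356650 F284771 (iv3 F284762)
def n211589 : Q := act 3 n143247
theorem D211589 : act 3 n143247 = n211589 := rfl
theorem F462280 : act 5 n211589 = n188340 := d6_2 F387220 D211589 (iv3 F387218)
theorem F462281 : act 6 n211589 = n210535 := d7_2 F361420 D211589 (iv3 F457962)
def n211590 : Q := act 5 n143249
theorem D211590 : act 5 n143249 = n211590 := rfl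
theorem F462282 : act 2 n211590 = n202684 := d2_1 D211590 (iv5 D202684) (iv2 F361410)
theorem F462283 : act 7 n211590 = n202687 := d13_2 (iv7 F361412) D211590 (iv5 D202687)
theorem F462284 : act 4 n211590 = n192608 := d16_2 (iv4 F361411) D211590 F387230 F196559 F114932 (iv4 F312033) F194682 F319697 (iv2 F319685)
theorem F462285 : act 0 n211590 = n211297 := d17_2 D143249 D211590 F461017 F397545 F342592 F215277 F348319 (iv0 D67117) (iv4 F103072)
theorem F462286 : act 1 n211590 = n211283 := d17_6 F312929 (iv5 F312930) F194685 (iv5 F191355) (iv4 F361411) D211590 F460948 F397548 (iv4 D150624)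
theorem F462287 : act 6 n211590 = n204241 := d21_5 F223265 (iv1 F181316) D141438 D211283 (iv1 F462286) F431631 F342634 (iv5 F366713) (iv6 D140059) D140056
def n211591 : Q := act 6 n143249
theorem D211591 : act 6 n143249 = n211591 := rfl
theorem F462288 : act 2 n211591 = n202685 := d3_1 D211591 (iv6 D202685) (iv2 F361410)
theorem F462289 : act 3 n211591 = n203992 := d7_1 D211591 (iv6 F430740) F410380
theorem F462290 : act 4 n211591 = n167922 := d10_1 D211591 (iv6 D167922) (iv4 F361411)
theorem F462291 : act 5 n211591 = n203991 := d12_1 D211591 F430732 (iv5 F431631) (iv6 F462287) (iv5 D211590)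
theorem F462292 : act 7 n211591 = n210427 := d14_2 (iv7 F361412) D211591 (iv6 D210427) F425102 (iv6 D202688)
theorem F462293 : act 0 n211591 = n204337 := d21_4 (iv5 F460948) (iv1 F462286) (iv5 D211590) D211591 F432101 D211279 F460930 (iv5 F453785) (iv6 F360989) (iv1 F397548)
def n211592 : Q := act 5 n143250
theorem D211592 : act 5 n143250 = n211592 := rfl
theorem F462294 : act 2 n211592 = n202687 := d2_1 D211592 (iv5 D202687) (iv2 F361413)
theorem F462295 : act 4 n211592 = n192607 := d9_1 D211592 F387227 F252625 F312455 F133097 (iv5 F191355) (iv4 F361411) D211590 F462284 F387230 F196559 F114932 (iv4 F312033) F194682 (iv4 F361414)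
theorem F462296 : act 7 n211592 = n202684 := d13_2 (iv7 F361415) D211592 (iv5 D202684)
theorem F462297 : act 0 n211592 = n211283 := d17_2 (iv1 F462263) D211592 F460948 (iv4 F397549) F187241 (iv0 F311662) (iv5 F348314) F226065 (iv4 F462261)
theorem F462298 : act 1 n211592 = n211297 := d17_6 (iv1 F189965) (iv5 F89222) D121944 F194682 (iv4 F361414) D211592 F461017 (iv0 D195601) (iv4 D105935)
def n211593 : Q := act 7 n143251
theorem D211593 : act 7 n143251 = n211593 := rfl
theorem F462299 : act 3 n211593 = n188694 := d8_1 D211593 (iv7 F462276) F462274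
theorem F462300 : act 4 n211593 = n211280 := d11_1 D211593 (iv7 D211280) F348309
theorem F462301 : act 5 n211593 = n143252 := d13_1 D211593 (iv7 D143252) D143251
theorem F462302 : act 1 n195603 = n211593 := d15_1 F462258 (iv7 D211593) (iv2 F462254)
def n211594 : Q := act 5 n143275
theorem D211594 : act 5 n143275 = n211594 := rfl
theorem F462303 : act 3 n211594 = n199780 := d6_1 D211594 (iv5 F448118) (iv3 F448119)
theorem F462304 : act 0 n203135 = n211594 := d19_0 (iv5 D211594) (iv4 D143275) F103092 (iv1 F103038) (iv5 F180639) F103430 F103426 (iv1 F103429) D140713 F323313 (iv3 F346415) (iv1 D145763) (iv5 F182661) (iv4 F184395) (iv3 D117734) (iv1 D54237) D54238 D117736 D203135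
def n211595 : Q := act 6 n143275
theorem D211595 : act 6 n143275 = n211595 := rfl
theorem F462305 : act 2 n211595 = n209100 := d3_1 D211595 F452258 F451742
theorem F462306 : act 3 n211595 = n208981 := d7_1 D211595 (iv6 F451686) (iv3 F448119)
theorem F462307 : act 4 n211595 = n143276 := d10_1 D211595 (iv6 D143276) D143275
theorem F462308 : act 7 n211595 = n209096 := d14_2 (iv7 F451721) D211595 (iv6 D209096) F218281 D208988
theorem F462309 : act 1 n186681 = n211595 := d15_1 F391774 F462308 F452236
theorem F462310 : act 5 n190456 = n211595 := d16_7 (iv4 F452252) F452253 (iv4 D187165) D187166 F369306 F147693 D190456 F462308 F452236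
theorem F462311 : act 1 n211595 = n186679 := d15_1 F462309 (iv7 F391857) F391856
def n211596 : Q := act 1 n143281
theorem D211596 : act 1 n143281 = n211596 := rfl
theorem F462312 : act 3 n154026 = n211596 := d19_19 (iv1 D211596) (iv5 F456741) F456740 F413191 F344519 F344518 F324863 (iv3 F296832) F132974 F133014 (iv4 F299410) (iv3 F358202) (iv1 D125523) D125525 D205143 F435132 F435340 (iv5 F435339) (iv4 F398848)
theorem F462313 : act 6 n153972 = n211596 := d21_9 (iv5 F456741) F460524 F460521 F456712 F378884 F378881 (iv5 D174722) (iv1 F331917) (iv5 F241987) (iv1 D211596)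
theorem F462314 : act 0 n207959 = n211596 := d21_4 F447140 (iv1 D204527) F366658 D207959 (iv6 F462313) F241987 (iv1 F241968) (iv5 F450111) (iv6 D208604) (iv1 F447144)
theorem F462315 : act 2 n211213 = n211596 := d15_3 (iv0 F462314) (iv0 F456591) (iv7 F460632)
def n211597 : Q := act 2 n143281
theorem D211597 : act 2 n143281 = n211597 := rfl
theorem F462316 : act 4 n211597 = n207364 := d1_2 (iv4 F448120) D211597 F448121
theorem F462317 : act 5 n211597 = n211186 := d2_2 F456741 D211597 F460514
theorem F462318 : act 7 n211597 = n207959 := d4_2 F462084 D211597 (iv2 F462086)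
theorem F462319 : act 1 n211597 = n211213 := d15_0 (iv0 F462085) F462084 D211597
def n211598 : Q := act 6 n143281
theorem D211598 : act 6 n143281 = n211598 := rfl
theorem F462320 : act 3 n211598 = n143282 := d7_1 D211598 (iv6 D143282) D143281
theorem F462321 : act 4 n211598 = n208981 := d10_1 D211598 (iv6 F451686) (iv4 F448120)
theorem F462322 : act 5 n211598 = n189087 := d12_1 D211598 (iv6 F458222) F458221 (iv6 F456742) F456741
theorem F462323 : act 0 n189894 = n211598 := d21_4 (iv5 D190113) F294755 (iv5 F147039) D189894 (iv6 D211598) (iv5 F456741) F460524 F460521 F456712 F378884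
def n211599 : Q := act 6 n143376
theorem D211599 : act 6 n143376 = n211599 := rfl
theorem F462324 : act 2 n211599 = n209266 := d3_1 D211599 (iv6 D209266) (iv2 F365530)
theorem F462325 : act 3 n211599 = n143378 := d7_1 D211599 (iv6 D143378) (iv3 F226132)
theorem F462326 : act 0 n210036 = n211599 := d21_4 (iv5 D170755) (iv1 F351618) F351621 D210036 (iv6 D211599) (iv5 D143376) (iv1 F184083) D203001 F426595 (iv1 F351827)
def n211600 : Q := act 5 n143377
theorem D211600 : act 5 n143377 = n211600 := rfl
theorem F462327 : act 3 n211600 = n143381 := d6_1 D211600 (iv5 D143381) (iv3 F226133)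
theorem F462328 : act 4 n211600 = n198388 := d16_2 F406409 D211600 (iv5 D198388) F169262 F79798 (iv4 F168777) D197975 F406353 (iv2 F406407)
theorem F462329 : act 1 n211600 = n197379 := d17_6 (iv1 F414866) (iv5 D112777) (iv1 F168818) (iv5 F406410) F406409 D211600 F404085 (iv0 F357302) (iv4 F414864)
def n211601 : Q := act 0 n143378
theorem D211601 : act 0 n143378 = n211601 := rfl
theorem F462330 : act 6 n211601 = n210112 := d21_5 (iv5 D117607) (iv1 F85506) D67152 D143378 D211601 F456215 (iv1 F425034) (iv5 D137207) D137208 F328184
theorem F462331 : act 2 n143486 = n211601 := d3_3 F462330 (iv2 F460911) (iv6 F460916)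
theorem F462332 : act 7 n143487 = n211601 := d15_2 (iv0 D143486) D143487 (iv2 F462331)
def n211602 : Q := act 1 n143378
theorem D211602 : act 1 n143378 = n211602 := rfl
theorem F462333 : act 1 n211602 = n143489 := d15_1 D211602 (iv7 D143489) (iv2 F226134)
theorem F462334 : act 7 n211602 = n143486 := d15_2 (iv0 D211601) D211602 F462331
theorem F462335 : act 6 n209262 = n211602 := d21_3 (iv5 D154066) D154064 F452954 (iv1 D211602) (iv6 D143378) (iv5 D67152) (iv1 F85510) D117610 D203046 F426766
theorem F462336 : act 3 n211602 = n210491 := d7_1 F462335 (iv6 D210491) (iv3 F452953)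
theorem F462337 : act 2 n143487 = n211602 := d4_3 F462334 F462331 (iv7 F462332)
theorem F462338 : act 1 n143489 = n211601 := d15_1 F462333 (iv7 F462332) F462337
def n211603 : Q := act 5 n143378
theorem D211603 : act 5 n143378 = n211603 := rfl
theorem F462339 : act 2 n211603 = n143488 := d2_1 D211603 (iv5 D143488) (iv2 F226134)
theorem F462340 : act 6 n211603 = n143381 := d12_2 D143378 D211603 (iv5 D143381) (iv6 D67153) D67152
theorem F462341 : act 0 n211603 = n209754 := d21_1 D211603 (iv5 D209754) (iv6 F453491) F385489 (iv6 F242115) (iv5 D154066) D154064 F452954 F462335 (iv1 D211602)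
theorem F462342 : act 0 n209751 = n211603 := d21_1 D209751 (iv5 D211603) (iv6 D143378) (iv1 F184220) (iv6 F359465) F220986 (iv1 D136880) (iv5 D64345) D64346 D136883
def n211604 : Q := act 7 n143378
theorem D211604 : act 7 n143378 = n211604 := rfl
theorem F462343 : act 2 n211604 = n143489 := d4_1 D211604 (iv7 D143489) (iv2 F226134)
theorem F462344 : act 6 n211604 = n209490 := d14_1 D211604 F453904 (iv6 D203047) F184213 D143378
theorem F462345 : act 1 n143487 = n211604 := d15_1 D143487 (iv7 D211604) F226134
theorem F462346 : act 1 n211604 = n143486 := d15_1 F462345 (iv7 F462334) (iv2 F462337)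
def n211605 : Q := act 3 n143380
theorem D211605 : act 3 n143380 = n211605 := rfl
theorem F462347 : act 4 n211605 = n159982 := d5_2 (iv4 F323284) D211605 F261790 (iv4 D166272) F122582
theorem F462348 : act 6 n211605 = n151557 := d7_2 F426369 D211605 (iv3 F426367)
theorem F462349 : act 7 n211605 = n143491 := d8_2 (iv7 F323285) D211605 (iv3 D143491)
theorem F462350 : act 0 n211605 = n151648 := d20_4 F314565 (iv1 F122447) (iv4 F323284) D211605 (iv3 F390510) F391884 (iv1 F391883) F369049 (iv3 D143512) D143510
def n211606 : Q := act 5 n143380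
theorem D211606 : act 5 n143380 = n211606 := rfl
theorem F462351 : act 2 n211606 = n143498 := d2_1 D211606 (iv5 D143498) (iv2 F323283)
theorem F462352 : act 7 n211606 = n143493 := d13_2 (iv7 F323285) D211606 (iv5 D143493)
theorem F462353 : act 0 n211606 = n203510 := d17_2 (iv1 F226135) D211606 (iv5 D203510) (iv4 D119331) (iv5 D54913) D54912 (iv5 F308020) F103103 (iv4 F103153)
def n211607 : Q := act 1 n143381
theorem D211607 : act 1 n143381 = n211607 := rfl
theorem F462354 : act 1 n211607 = n143503 := d15_1 D211607 (iv7 D143503) (iv2 F226136)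
theorem F462355 : act 7 n211607 = n143500 := d15_2 F366177 D211607 (iv2 F349352)
theorem F462356 : act 5 n211607 = n160113 := d17_7 D76683 (iv5 F313498) (iv1 D139183) F101046 (iv4 F103102) D143381 D211607 (iv0 D160113) F115040
theorem F462357 : act 2 n143501 = n211607 := d2_3 F462356 (iv2 F252711) F349350
def n211608 : Q := act 7 n143381
theorem D211608 : act 7 n143381 = n211608 := rfl
theorem F462358 : act 2 n211608 = n143503 := d4_1 D211608 (iv7 D143503) (iv2 F226136)
theorem F462359 : act 4 n211608 = n210268 := d11_1 D211608 F456798 F454663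
theorem F462360 : act 5 n211608 = n143382 := d13_1 D211608 (iv7 D143382) D143381
theorem F462361 : act 1 n143501 = n211608 := d15_1 D143501 (iv7 D211608) F226136
theorem F462362 : act 1 n211608 = n143500 := d15_1 F462361 (iv7 F462355) (iv2 F462357)
def n211609 : Q := act 5 n143384
theorem D211609 : act 5 n143384 = n211609 := rfl
theorem F462363 : act 2 n211609 = n143513 := d2_1 D211609 (iv5 D143513) (iv2 F226144)
theorem F462364 : act 3 n211609 = n203717 := d6_1 D211609 F429527 F364180
theorem F462365 : act 7 n211609 = n143529 := d13_2 (iv7 F226145) D211609 (iv5 D143529)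
theorem F462366 : act 1 n211609 = n195607 := d17_6 (iv1 D119330) (iv5 D54913) D54911 (iv5 F308019) D143384 D211609 (iv5 D195607) D195606 F397570
def n211610 : Q := act 3 n143388
theorem D211610 : act 3 n143388 = n211610 := rfl
theorem F462367 : act 2 n211610 = n207520 := d0_1 D211610 F445267 F211389 F329851 (iv2 F226151)
theorem F462368 : act 6 n211610 = n207517 := d7_2 (iv6 F359681) D211610 F445249
theorem F462369 : act 7 n211610 = n143512 := d8_2 (iv7 F226152) D211610 (iv3 D143512)
def n211611 : Q := act 5 n143388
theorem D211611 : act 5 n143388 = n211611 := rfl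
theorem F462370 : act 2 n211611 = n143529 := d2_1 D211611 (iv5 D143529) (iv2 F226151)
theorem F462371 : act 6 n211611 = n208430 := d12_2 (iv6 F359681) D211611 (iv5 D208430) (iv6 D134312) D134311
theorem F462372 : act 7 n211611 = n143513 := d13_2 (iv7 F226152) D211611 (iv5 D143513)
theorem F462373 : act 4 n211611 = n210073 := d16_2 D143388 D211611 (iv5 D210073) F220672 F310062 F308050 (iv5 F308019) F215270 (iv2 F215266)
theorem F462374 : act 0 n211611 = n195607 := d17_2 (iv1 F346250) D211611 (iv5 D195607) (iv4 D105979) (iv5 D48991) F191157 D32532 D70121 D149339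
def n211612 : Q := act 5 n143397
theorem D211612 : act 5 n143397 = n211612 := rfl
def n211613 : Q := act 6 n143402
theorem D211613 : act 6 n143402 = n211613 := rfl
theorem F462375 : act 2 n211613 = n179166 := d3_1 D211613 (iv6 F364181) F226170
theorem F462376 : act 3 n211613 = n193424 := d7_1 D211613 F455458 (iv3 F455457)
theorem F462377 : act 4 n211613 = n154271 := d10_1 D211613 (iv6 F456578) F456579
theorem F462378 : act 5 n211613 = n156695 := d12_1 D211613 (iv6 D156695) (iv5 F337096) F337097 (iv5 F226168)
theorem F462379 : act 0 n211613 = n204258 := d21_10 F431707 (iv1 D155604) D155605 F365553 (iv1 D99824) D99826 F321296 (iv1 F223860) (iv5 F226168) D211613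
theorem F462380 : act 0 n204257 = n211613 := d21_4 D194038 (iv1 F395996) F395997 (iv6 F431703) (iv6 D211613) F226168 F223859 (iv5 F343214) (iv6 D136151) (iv1 F333118)
theorem F462381 : act 7 n211613 = n154270 := d15_2 (iv0 F431709) (iv0 F462379) F342358
def n211614 : Q := act 6 n143403
theorem D211614 : act 6 n143403 = n211614 := rfl
theorem F462382 : act 2 n211614 = n211582 := d3_1 D211614 (iv6 D211582) F226175
theorem F462383 : act 3 n211614 = n208159 := d7_1 D211614 (iv6 F448165) (iv3 F426707)
theorem F462384 : act 7 n211614 = n208840 := d14_2 (iv7 F226173) D211614 F451068 (iv7 F342360) (iv6 F364181)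
theorem F462385 : act 0 n211614 = n210327 := d21_10 F457046 (iv1 F450834) (iv5 F391828) (iv6 D194036) F333115 D136151 F343214 D143000 (iv5 F226174) D211614
theorem F462386 : act 0 n192550 = n211614 := d21_4 F153688 (iv1 F367362) F367364 D192550 (iv6 D211614) F226174 (iv1 F225866) (iv5 F321296) (iv6 D99826) D99823
theorem F462387 : act 5 n211614 = n208623 := d17_3 (iv1 F450835) F450840 F462386 (iv4 D208623) F216923 D197621 (iv5 F405054) F332675 (iv4 F372593)
def n211615 : Q := act 4 n143434
theorem D211615 : act 4 n143434 = n211615 := rfl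
theorem F462388 : act 2 n211615 = n202019 := d1_1 D211615 (iv4 F431733) F431731
theorem F462389 : act 5 n211615 = n196511 := d9_2 D143434 D211615 (iv4 F424003) F424001 (iv4 D135195) F350733 (iv4 F90559) D123248 D204261 F431727 (iv4 F424204) (iv5 F424207) (iv4 D135190) (iv5 F360238) (iv4 F323601)
theorem F462390 : act 7 n211615 = n202021 := d11_2 F349516 D211615 F422725
theorem F462391 : act 0 n211615 = n196527 := d17_0 F400973 F165166 (iv5 F360847) F157407 D102458 D193899 (iv5 F431719) F431717 D211615
theorem F462392 : act 1 n211615 = n202071 := d18_6 D76828 (iv4 F350731) (iv1 F197548) (iv4 F323601) D143434 D211615 F422824 F342819 (iv5 D76830)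
theorem F462393 : act 0 n209876 = n203427 := d21_1 (iv5 F455234) (iv5 D203427) F319280 (iv1 F245327) F245325 (iv5 F422825) (iv1 F462392) F462389 F400912 F400994
def n211616 : Q := act 0 n143436
theorem D211616 : act 0 n143436 = n211616 := rfl
theorem F462394 : act 5 n211616 = n208778 := d21_2 F451100 D211616 (iv6 D208778) (iv1 F364852) (iv6 D91023) (iv5 D42635) D42632 D91011 D188168 F451102
theorem F462395 : act 6 n211616 = n210151 := d21_5 F226001 (iv1 F103134) D67190 D143436 D211616 (iv5 D210151) (iv1 F391853) F391851 F353581 D143141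
theorem F462396 : act 1 n210623 = n211616 := d15_0 (iv0 D211616) (iv7 F433625) (iv2 F458244)
theorem F462397 : act 3 n210152 = n211616 := d7_3 F462395 F456372 D210152
def n211617 : Q := act 1 n143436
theorem D211617 : act 1 n143436 = n211617 := rfl
theorem F462398 : act 1 n211617 = n210623 := d15_1 D211617 F458245 F427118
def n211618 : Q := act 6 n143456
theorem D211618 : act 6 n143456 = n211618 := rfl
theorem F462399 : act 2 n211618 = n151648 := d3_1 D211618 (iv6 D151648) (iv2 F335446)
theorem F462400 : act 3 n211618 = n157586 := d7_1 D211618 (iv6 D157586) (iv3 F350757)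
theorem F462401 : act 4 n211618 = n151443 := d10_1 D211618 (iv6 D151443) (iv4 F330357)
theorem F462402 : act 1 n143491 = n211618 := d18_6 F189732 D151531 F427797 F427794 (iv5 F440085) F440084 F462401 F363932 (iv5 F189731)
def n211619 : Q := act 3 n143462
theorem D211619 : act 3 n143462 = n211619 := rfl
theorem F462403 : act 2 n211619 = n164575 := d0_1 D211619 F259450 F328181 (iv3 F220355) F328186
theorem F462404 : act 5 n211619 = n164574 := d6_2 (iv5 F226203) D211619 F259446
theorem F462405 : act 6 n211619 = n209250 := d7_2 F361592 D211619 F452898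
theorem F462406 : act 7 n211619 = n209374 := d8_2 (iv7 F226206) D211619 F453445
theorem F462407 : act 0 n203744 = n211619 := d20_4 F431720 F429662 (iv4 D203746) (iv3 F429646) (iv3 D211619) (iv4 F454638) F454639 F221273 (iv3 F226192) (iv1 F431717)
theorem F462408 : act 1 n209377 = n211619 := d15_0 (iv0 F462407) F429648 F453465
def n211620 : Q := act 0 n143463
theorem D211620 : act 0 n143463 = n211620 := rfl
theorem F462409 : act 5 n211620 = n154063 := d17_3 F384731 F361530 D211620 F242113 (iv5 F327045) (iv0 F327591) (iv5 D99293) D99292 D191897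
theorem F462410 : act 3 n211620 = n193102 := d20_5 F427923 F231842 (iv4 F348214) (iv3 F361529) D211620 F455656 F455655 (iv4 F348200) (iv3 F239076) (iv1 F427927)
theorem F462411 : act 6 n211620 = n192029 := d21_5 (iv5 D31273) D31271 D67199 D143463 D211620 (iv5 D192029) F290148 (iv5 F362222) (iv6 D143483) (iv1 D67207)
theorem F462412 : act 2 n154066 = n211620 := d15_3 (iv0 D211620) (iv0 F365830) (iv7 F365829)
theorem F462413 : act 7 n211620 = n209814 := d4_2 (iv7 F365829) F462412 F455042
theorem F462414 : act 1 n209819 = n211620 := d15_1 D209819 F462413 F455042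
def n211621 : Q := act 7 n143463
theorem D211621 : act 7 n143463 = n211621 := rfl
theorem F462415 : act 2 n211621 = n209819 := d4_1 D211621 F455058 F426763
theorem F462416 : act 3 n211621 = n192051 := d8_1 D211621 (iv7 F385350) (iv3 F361529)
theorem F462417 : act 4 n211621 = n192925 := d11_1 D211621 (iv7 F456729) F456725
theorem F462418 : act 5 n211621 = n197185 := d13_1 D211621 F403443 F361530
theorem F462419 : act 6 n211621 = n209201 := d14_1 D211621 (iv7 F460239) (iv6 D203043) F184206 D143463
theorem F462420 : act 1 n209814 = n211621 := d15_1 (iv0 F455044) (iv7 D211621) (iv2 F426763)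
theorem F462421 : act 1 n211621 = n154066 := d15_1 F462420 F365829 (iv2 F455042)
def n211622 : Q := act 1 n143475
theorem D211622 : act 1 n143475 = n211622 := rfl
theorem F462422 : act 1 n211622 = n209201 := d15_1 D211622 (iv7 F460239) F426754
theorem F462423 : act 7 n211622 = n209200 := d15_2 (iv0 F365750) D211622 F452695
theorem F462424 : act 2 n209203 = n211622 := d4_3 F462423 F452695 D209203
theorem F462425 : act 3 n209722 = n211622 := d8_3 F462423 F452696 D209722
theorem F462426 : act 4 n210614 = n211622 := d11_3 F462423 F452697 D210614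
theorem F462427 : act 6 n209408 = n211622 := d14_5 F462423 (iv6 D209200) F218688 D136878 (iv7 F453599)
def n211623 : Q := act 7 n143475
theorem D211623 : act 7 n143475 = n211623 := rfl
theorem F462428 : act 2 n211623 = n209201 := d4_1 D211623 (iv7 F460239) F426754
theorem F462429 : act 3 n211623 = n209767 := d8_1 D211623 (iv7 F454887) F427060
theorem F462430 : act 6 n211623 = n209819 := d14_1 D211623 F455058 (iv6 D203046) F184210 D143475
theorem F462431 : act 1 n209203 = n211623 := d15_1 F452704 (iv7 D211623) (iv2 F426754)
theorem F462432 : act 1 n211623 = n209200 := d15_1 F462431 (iv7 F462423) (iv2 F462424)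
def n211624 : Q := act 1 n143485
theorem D211624 : act 1 n143485 = n211624 := rfl
theorem F462433 : act 4 n204787 = n211624 := d20_6 (iv4 D135236) F179667 (iv4 F422938) F433603 (iv1 D204793) (iv3 F433586) (iv1 D211624) F226213 F329192 (iv1 F336167)
theorem F462434 : act 6 n211624 = n204786 := d10_2 D204787 F462433 (iv4 D204786)
theorem F462435 : act 2 n211177 = n211624 := d3_3 F462434 F433582 D211177
def n211625 : Q := act 5 n143485
theorem D211625 : act 5 n143485 = n211625 := rfl
theorem F462436 : act 3 n211625 = n156494 := d6_1 D211625 F246035 (iv3 F365416)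
def n211626 : Q := act 3 n143486
theorem D211626 : act 3 n143486 = n211626 := rfl
theorem F462437 : act 6 n211626 = n211464 := d7_2 (iv6 F460916) D211626 F461658
theorem F462438 : act 7 n211626 = n210491 := d8_2 F462334 D211626 (iv3 F462336)
theorem F462439 : act 4 n211626 = n151184 := d20_6 (iv4 F221377) F336166 F220640 (iv3 F329192) D143486 D211626 (iv1 D151184) (iv4 F237885) F366471 F221379
theorem F462440 : act 2 n211310 = n211626 := d1_3 F462439 (iv2 F342579) D211310
theorem F462441 : act 0 n166054 = n211626 := d18_2 F308024 D166054 F462439 F342559 (iv4 D150653) (iv0 D71014) (iv4 F107559) (iv0 F309027) (iv5 F222356)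
theorem F462442 : act 1 n208216 = n211626 := d18_6 (iv1 F190020) (iv4 D79752) (iv1 F57041) F306074 D133731 D208216 F462439 (iv0 F342561) F342544
def n211627 : Q := act 4 n143486
theorem D211627 : act 4 n143486 = n211627 := rfl
theorem F462443 : act 3 n211627 = n155692 := d5_1 D211627 (iv4 D155692) (iv3 F342556) (iv4 F462439) (iv3 D211626)
theorem F462444 : act 6 n211627 = n154261 := d10_2 (iv6 F460916) D211627 (iv4 F460913)
theorem F462445 : act 0 n211627 = n191928 := d21_4 (iv5 D73086) D73084 D154261 (iv6 F462444) (iv6 D191928) (iv5 D99328) F157767 D46528 (iv6 F153288) F335223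
def n211628 : Q := act 3 n143487
theorem D211628 : act 3 n143487 = n211628 := rfl
def n211629 : Q := act 4 n143487
theorem D211629 : act 4 n143487 = n211629 := rfl
theorem F462446 : act 0 n191928 = n211629 := d20_10 (iv4 D211629) (iv1 D143487) (iv4 F226213) F365416 (iv1 F332936) (iv3 F372303) (iv4 F434767) F434768 F384875 (iv3 F384871)
def n211630 : Q := act 5 n143487
theorem D211630 : act 5 n143487 = n211630 := rfl
def n211631 : Q := act 6 n143487
theorem D211631 : act 6 n143487 = n211631 := rfl
theorem F462447 : act 2 n211631 = n209262 := d3_1 D211631 F462335 (iv2 F462337)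
theorem F462448 : act 7 n211631 = n209263 := d14_2 (iv7 F462332) D211631 (iv6 F460928) F460929 (iv6 F462330)
theorem F462449 : act 3 n210042 = n211631 := d8_3 F462448 (iv3 F452958) F455891
theorem F462450 : act 1 n202128 = n211631 := d15_1 (iv0 F422993) F462448 (iv2 F452957)
theorem F462451 : act 1 n211631 = n209261 := d15_1 F462450 (iv7 F455722) F455718
theorem E103978 : n211630 = n209756 := (c21_7 D136871 (iv1 F452743) F452741 D209261 (iv1 F462451) (iv6 D211631) D211630 (iv1 D209756) (iv5 D136885) (iv6 D64346) D64342)
theorem F462452 : act 5 n209756 = n143487 := (sb E103978 (iv5 D211630))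
theorem F462453 : act 5 n211628 = n203216 := d6_2 F462452 D211628 F454840
theorem F462454 : act 6 n210042 = n211628 := d12_0 F462453 F444681 (iv5 D207396) F385414 (iv5 F455888)
theorem F462455 : act 4 n203212 = n211628 := d16_0 F462453 (iv4 D203216) (iv5 D118234) (iv4 D54457) D54458 D118236 D203220 F427459 (iv2 F427428)
theorem F462456 : act 0 n203229 = n211628 := d19_0 F462453 (iv4 D203216) (iv3 F427435) F427437 (iv5 D193454) F355374 F95616 F316412 (iv5 D35632) (iv4 D17266) (iv3 F28203) D35624 (iv5 F121394) D121958 (iv3 F353799) F383292 F383290 (iv4 F389881) (iv3 F438430)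
theorem F462457 : act 0 n211628 = n203201 := d21_7 F372918 (iv1 F356474) D204422 F432470 F444680 (iv6 F444681) (iv5 F462453) (iv5 D203201) (iv6 F284571) (iv1 F372919)
def n211632 : Q := act 0 n143488
theorem D211632 : act 0 n143488 = n211632 := rfl
theorem F462458 : act 5 n211632 = n192089 := d21_8 (iv5 D192029) F290148 (iv5 F362222) (iv6 D143483) (iv1 D67207) D67209 D143488 D211632 (iv6 D192089) (iv1 F385274)
theorem F462459 : act 2 n209754 = n211632 := d2_3 F462458 (iv2 F453490) D209754
theorem F462460 : act 3 n192093 = n211632 := d6_3 F462458 F385492 D192093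
theorem F462461 : act 7 n209751 = n211632 := d13_0 F462458 F385516 D209751
def n211633 : Q := act 1 n143488
theorem D211633 : act 1 n143488 = n211633 := rfl
theorem F462462 : act 7 n211633 = n209754 := d15_2 (iv0 D211632) D211633 F462459
theorem F462463 : act 3 n203199 = n211633 := d19_19 (iv1 D211633) (iv5 D143488) (iv4 F226213) F365416 (iv1 F332936) (iv5 F424399) (iv4 F429592) (iv3 D203734) (iv1 F302102) F195868 (iv4 D122416) (iv3 F195861) F384370 (iv5 D191759) (iv4 F384358) F384357 (iv1 F280231) D179936 (iv4 F427387)
theorem F462464 : act 5 n209382 = n211633 := d21_0 (iv1 D211633) (iv5 D143488) (iv6 D67209) D67206 (iv6 F327471) D137338 F225845 (iv5 D136877) D136878 F453488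
theorem F462465 : act 2 n211633 = n209751 := d2_1 F462464 (iv5 D209751) (iv2 F453487)
def n211634 : Q := act 4 n143488
theorem D211634 : act 4 n143488 = n211634 := rfl
theorem F462466 : act 6 n211634 = n143502 := d10_2 (iv6 F226214) D211634 (iv4 D143502)
theorem F462467 : act 5 n211177 = n211634 := d19_1 F460473 (iv4 D211634) (iv3 F365485) (iv1 F390630) (iv5 D193667) F328967 F100110 (iv1 D64286) F48701 (iv4 F93628) (iv3 F203404) D205663 F437383 F207612 (iv3 F206953) (iv1 F216202) (iv5 F386343) F386342 (iv3 F386320)
def n211635 : Q := act 7 n143488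
theorem D211635 : act 7 n143488 = n211635 := rfl
theorem F462468 : act 3 n211635 = n193670 := d8_1 D211635 (iv7 F390642) F365485
theorem F462469 : act 5 n211635 = n143489 := d13_1 D211635 (iv7 D143489) D143488
theorem F462470 : act 1 n209751 = n211635 := d15_1 (iv0 F462342) (iv7 D211635) (iv2 F462339)
theorem F462471 : act 1 n211635 = n209754 := d15_1 F462470 (iv7 F462462) F462465
def n211636 : Q := act 0 n143491
theorem D211636 : act 0 n143491 = n211636 := rfl
theorem F462472 : act 4 n211636 = n151654 := d20_8 F352664 (iv1 F220696) F353121 F353116 (iv1 F261816) D206288 F440084 D211636 (iv3 F363929) F259234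
theorem F462473 : act 6 n203914 = n211636 := d10_0 F462472 F363930 D203914
theorem F462474 : act 7 n151648 = n211636 := d11_0 F462472 (iv7 D151654) (iv4 F238510)
def n211637 : Q := act 2 n143491
theorem D211637 : act 2 n143491 = n211637 := rfl
theorem F462475 : act 3 n211637 = n148519 := d0_2 D143491 D211637 F233270 (iv3 F317789) (iv2 F315910)
theorem F462476 : act 1 n211637 = n151648 := d15_0 (iv0 F462350) F462349 D211637
theorem F462477 : act 6 n148517 = n211637 := d7_0 F462475 (iv6 D148519) D148517
def n211638 : Q := act 5 n143491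
theorem D211638 : act 5 n143491 = n211638 := rfl
theorem F462478 : act 3 n211638 = n143493 := d6_1 D211638 (iv5 D143493) D143491
theorem F462479 : act 4 n211638 = n208432 := d16_6 (iv4 F359568) (iv5 F427795) F427794 (iv5 F440085) F440084 D211638 (iv5 D208432) (iv7 F449326) F449330
theorem F462480 : act 1 n211638 = n151518 := d17_6 (iv1 D118673) D118674 D203304 (iv5 F440085) F440084 D211638 (iv5 D151518) D151517 (iv4 F348656)
def n211639 : Q := act 6 n143491
theorem D211639 : act 6 n143491 = n211639 := rfl
theorem F462481 : act 2 n211639 = n148517 := d3_1 D211639 F462477 (iv2 D211637)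
theorem F462482 : act 3 n211639 = n143494 := d7_1 D211639 (iv6 D143494) D143491
theorem F462483 : act 4 n211639 = n187432 := d10_1 D211639 (iv6 F440086) F440084
def n211640 : Q := act 0 n143493
theorem D211640 : act 0 n143493 = n211640 := rfl
theorem F462484 : act 5 n211640 = n149376 := d17_3 D67210 D143493 D211640 (iv4 F234897) F187909 (iv0 F307072) (iv5 D67217) (iv0 D31275) (iv4 F49563)
theorem F462485 : act 1 n143498 = n211640 := d15_0 (iv0 D211640) (iv7 F462352) F462351
theorem F462486 : act 7 n211640 = n203510 := d15_2 (iv0 F314580) F462485 F428627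
theorem F462487 : act 4 n209693 = n211640 := d9_15 F462484 (iv4 F234897) F187909 F130261 D149328 F366628 D209695 F454662 (iv5 D160114) F115040 (iv5 F86854) F86853 D106007 (iv4 F366632) D209693
def n211641 : Q := act 4 n143493
theorem D211641 : act 4 n143493 = n211641 := rfl
theorem F462488 : act 3 n211641 = n182168 := d5_1 D211641 (iv4 F364083) (iv3 F449337) (iv4 F462479) F462478
theorem F462489 : act 5 n211641 = n149331 := d9_2 D143493 D211641 (iv4 D149331) (iv5 D70118) (iv4 D32531) D32532 (iv4 F312233) D143498 F390683 F390682 F335441 (iv5 D166050) F122414 D79760 F318078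
def n211642 : Q := act 6 n143493
theorem D211642 : act 6 n143493 = n211642 := rfl
theorem F462490 : act 0 n211642 = n210857 := d21_4 (iv5 D67212) D67210 D143493 D211642 F459043 (iv5 D139987) D139985 D210859 F459048 (iv1 D143501)
def n211643 : Q := act 5 n143494
theorem D211643 : act 5 n143494 = n211643 := rfl
theorem F462491 : act 2 n211643 = n148528 := d2_1 D211643 (iv5 D148528) (iv2 F366556)
theorem F462492 : act 4 n211643 = n191774 := d9_1 D211643 F384411 (iv4 F427800) F427801 (iv4 F186900) F315621 (iv4 F184790) D203155 F427204 F372544 F189444 (iv5 F106995) F106994 F320081 (iv4 F366557)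
theorem F462493 : act 7 n211643 = n191772 := d13_2 F427197 D211643 F427200
theorem F462494 : act 0 n211643 = n211280 := d17_2 (iv1 F427194) D211643 F460934 F225977 (iv5 F311699) (iv0 D105919) F314153 D143520 (iv4 F427192)
theorem F462495 : act 1 n211643 = n202674 := d17_6 D74000 (iv5 F321724) (iv1 F185045) F320081 (iv4 F366557) D211643 F425029 (iv0 D155504) F110737
def n211644 : Q := act 1 n143496
theorem D211644 : act 1 n143496 = n211644 := rfl
theorem F462496 : act 1 n211644 = n148519 := d15_1 D211644 (iv7 F250274) (iv2 F314577)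
theorem F462497 : act 7 n211644 = n148535 := d15_2 (iv0 F427067) D211644 (iv2 F427063)
theorem F462498 : act 4 n211644 = n206131 := d18_7 D186944 F369423 (iv1 D187190) F345993 F130902 (iv4 F314578) D211644 F439383 (iv5 D186946)
theorem F462499 : act 6 n188576 = n211644 := d21_3 D204313 F432589 F392028 (iv1 D211644) F314579 (iv5 F336958) F207391 (iv5 F216175) (iv6 F341481) (iv1 F354938)
theorem F462500 : act 3 n211644 = n188577 := d7_1 F462499 (iv6 D188577) D188576
theorem F462501 : act 2 n148534 = n211644 := d0_5 F462500 F374048 F370316 (iv2 F369015) F369018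
def n211645 : Q := act 6 n143498
theorem D211645 : act 6 n143498 = n211645 := rfl
theorem F462502 : act 5 n211645 = n209083 := d12_1 D211645 (iv6 D209083) F336885 (iv6 D143499) D143498
def n211646 : Q := act 3 n143500
theorem D211646 : act 3 n143500 = n211646 := rfl
theorem F462503 : act 5 n211646 = n151340 := d6_2 (iv5 F349353) D211646 F348663
def n211647 : Q := act 4 n143500
theorem D211647 : act 4 n143500 = n211647 := rfl
theorem F462504 : act 2 n211647 = n193682 := d1_1 D211647 F390677 F349352
theorem F462505 : act 5 n211647 = n192092 := d16_1 D211647 F385507 F282935 F305221 F107563 D117983 F349350 F349351 F349352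
theorem F462506 : act 3 n193295 = n211647 := d6_3 F462505 F385508 D193295
def n211648 : Q := act 6 n143500
theorem D211648 : act 6 n143500 = n211648 := rfl
def n211649 : Q := act 4 n143501
theorem D211649 : act 4 n143501 = n211649 := rfl
theorem F462507 : act 3 n211649 = n192152 := d5_1 D211649 (iv4 F387895) F387893 (iv4 F426202) F426201
theorem F462508 : act 5 n211649 = n192091 := d9_2 F349350 D211649 F385501 (iv5 F279697) F308026 (iv5 F107556) D149374 (iv5 F349353) D211647 F462505 F385507 F282935 F305221 F107563 D117983
theorem F462509 : act 7 n211649 = n193682 := d11_2 (iv7 F349351) D211649 F390677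
def n211650 : Q := act 3 n143502
theorem D211650 : act 3 n143502 = n211650 := rfl
theorem F462510 : act 4 n191457 = n211650 := d20_2 F368881 D191457 (iv3 D211650) (iv1 F456801) F453614 (iv4 F451825) (iv1 F457000) (iv4 D210318) (iv3 F456989) F456993
theorem F462511 : act 3 n203082 = n191457 := d5_5 F462510 (iv3 D211650) (iv4 D143502) (iv3 F184240) D203082
def n211651 : Q := act 5 n143502
theorem D211651 : act 5 n143502 = n211651 := rfl
theorem F462512 : act 2 n211651 = n210072 := d2_1 D211651 (iv5 F456061) (iv2 F454664)
theorem F462513 : act 4 n211651 = n149330 := d9_1 D211651 F309025 (iv4 F222360) F222361 (iv4 F226138) (iv5 F462360) F462359 (iv5 D210268) (iv4 F363872) (iv5 D139205) F101049 F49104 (iv4 F49563) D67212 D143502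
theorem F462514 : act 6 n211651 = n210115 := d12_2 F462466 D211651 (iv5 F456230) D211177 F462467
theorem F462515 : act 7 n211651 = n206368 := d13_2 F440456 D211651 (iv5 F440452)
theorem F462516 : act 1 n211651 = n210071 := d17_8 F342561 F342559 F353445 (iv5 D138601) (iv4 F219541) D209419 F456801 D211651 F456055
theorem F462517 : act 1 n151182 = n211651 := d15_0 F462516 F456056 F428108
def n211652 : Q := act 5 n143510
theorem D211652 : act 5 n143510 = n211652 := rfl
theorem F462518 : act 3 n211652 = n186878 := d6_1 D211652 F370411 F370409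
def n211653 : Q := act 4 n143513
theorem D211653 : act 4 n143513 = n211653 := rfl
theorem F462519 : act 7 n211653 = n210073 := d11_2 F462372 D211653 (iv4 F462373)
theorem F462520 : act 5 n211653 = n151182 := d16_1 D211653 F237885 F107751 (iv4 F307998) (iv5 F309988) D67221 D143529 (iv7 F462365) F462363
theorem F462521 : act 0 n211653 = n209693 := d18_2 (iv1 F356514) D211653 F462487 F462484 (iv4 F234897) F187913 (iv4 F261541) (iv0 D153629) D153631
theorem F462522 : act 1 n211653 = n209695 := d18_6 (iv1 D67211) F49563 D31275 D67216 D143513 D211653 F454662 (iv0 F314580) (iv5 D143498)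
theorem F462523 : act 3 n211653 = n209495 := d19_3 F321930 D143513 D211653 F453917 (iv5 D136837) (iv4 F100290) F98665 D63364 F103352 F326605 F60124 D46074 D98552 (iv4 F272839) (iv3 F447370) (iv1 F447374) (iv5 F444874) F429117 F426699
def n211654 : Q := act 6 n143513
theorem D211654 : act 6 n143513 = n211654 := rfl
def n211655 : Q := act 5 n143514
theorem D211655 : act 5 n143514 = n211655 := rfl
theorem F462524 : act 2 n211655 = n199076 := d2_1 D211655 F427144 F427139
theorem F462525 : act 0 n211655 = n210698 := d17_2 (iv1 F366648) D211655 F458480 F325374 F306014 F303933 F317921 D69618 D148554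
theorem F462526 : act 1 n211655 = n202552 := d17_6 F314022 F311569 F306599 F314153 (iv4 F226223) D211655 F424468 F431135 F431133
theorem F462527 : act 7 n210697 = n211655 := d15_2 (iv0 F427145) D210697 F462524
def n211656 : Q := act 7 n143514
theorem D211656 : act 7 n143514 = n211656 := rfl
theorem F462528 : act 2 n211656 = n208276 := d4_1 D211656 F448692 F427139
theorem F462529 : act 3 n211656 = n193982 := d8_1 D211656 F391609 (iv3 F391345)
theorem F462530 : act 4 n211656 = n143522 := d11_1 D211656 (iv7 D143522) (iv4 F226223)
theorem F462531 : act 5 n211656 = n210697 := d13_1 D211656 F462527 (iv5 D211655)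
theorem F462532 : act 6 n211656 = n208273 := d14_1 D211656 F448673 (iv6 F359681) F226152 D143514
theorem F462533 : act 1 n194077 = n211656 := d15_1 F427143 (iv7 D211656) (iv2 F427139)
theorem F462534 : act 1 n211656 = n202587 := d15_1 F462533 F424636 (iv2 F391991)
def n211657 : Q := act 4 n143529
theorem D211657 : act 4 n143529 = n211657 := rfl
theorem F462535 : act 2 n211657 = n210073 := d1_1 D211657 (iv4 F462373) F462370
theorem F462536 : act 5 n211657 = n210071 := d9_2 D143529 D211657 F456055 F342544 F307420 (iv5 D67217) D67216 D143513 D211653 F462520 F237885 F107751 (iv4 F307998) (iv5 F309988) D67221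
theorem F462537 : act 6 n211657 = n208434 := d10_2 F365286 D211657 (iv4 D208434)
theorem F462538 : act 0 n211657 = n209695 := d17_0 (iv5 D209695) (iv1 D136830) D136831 D209697 F454665 (iv0 D153629) D153631 (iv0 F364473) D211657
theorem F462539 : act 1 n211657 = n209693 := d18_6 (iv1 F226142) F226138 (iv1 F103106) D67221 D143529 D211657 F462487 (iv0 D211640) (iv5 D143493)
def n211658 : Q := act 5 n143544
theorem D211658 : act 5 n143544 = n211658 := rfl
theorem F462540 : act 2 n211658 = n211266 := d2_1 D211658 (iv5 D211266) (iv2 F363160)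
theorem F462541 : act 3 n211658 = n195560 := d6_1 D211658 (iv5 F456442) (iv3 F456444)
theorem F462542 : act 4 n211658 = n200307 := d9_1 D211658 F415928 F415916 (iv5 F403019) F333434 F361580 (iv4 F404179) F416368 F416367 F245197 F179638 F362017 (iv4 F338965) (iv5 D143545) D143544
theorem F462543 : act 7 n211658 = n197275 := d13_2 (iv7 F338997) D211658 (iv5 F403813)
theorem F462544 : act 0 n211658 = n203240 := d17_2 F226250 D211658 F427510 F185831 F86019 D61749 (iv5 F333698) F167427 (iv4 F224395)
theorem F462545 : act 6 n195558 = n211658 := d14_5 F462543 (iv6 D197275) F167081 D111206 (iv7 F397343)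
def n211659 : Q := act 6 n143544
theorem D211659 : act 6 n143544 = n211659 := rfl
theorem F462546 : act 2 n211659 = n211267 := d3_1 D211659 (iv6 D211267) (iv2 F363160)
theorem F462547 : act 3 n211659 = n195562 := d7_1 D211659 F456445 (iv3 F456444)
theorem F462548 : act 4 n211659 = n143546 := d10_1 D211659 (iv6 D143546) D143544
theorem F462549 : act 5 n211659 = n195559 := d12_1 D211659 (iv6 D195559) D195558 F462545 (iv5 D211658)
theorem F462550 : act 0 n155940 = n211659 := d21_4 (iv5 F228095) (iv1 F228105) F228103 D155940 (iv6 D211659) D211658 F462544 F427510 (iv6 D118285) (iv1 F185721)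
theorem F462551 : act 1 n202639 = n211659 := d15_0 (iv0 F462550) (iv7 F462114) F462111
theorem F462552 : act 0 n195562 = n195508 := d20_4 F236059 F360580 (iv4 F462548) F462547 F397187 F162238 D109346 D198471 F453226 F453225
def n211660 : Q := act 6 n143550
theorem D211660 : act 6 n143550 = n211660 := rfl
theorem F462553 : act 2 n211660 = n211628 := d3_1 D211660 (iv6 F462454) (iv2 F455890)
theorem F462554 : act 3 n211660 = n143552 := d7_1 D211660 (iv6 D143552) D143550
theorem F462555 : act 4 n211660 = n195562 := d10_1 D211660 F456445 F456443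
def n211661 : Q := act 5 n143552
theorem D211661 : act 5 n143552 = n211661 := rfl
theorem F462556 : act 6 n211661 = n192067 := d12_2 D143552 D211661 (iv5 D192067) (iv6 D99616) F346694
theorem F462557 : act 4 n211661 = n211652 := d16_2 (iv4 F226255) D211661 (iv5 D211652) F314565 (iv5 F191203) D150653 (iv5 F342559) F342554 F338985
theorem F462558 : act 1 n211661 = n193682 := d17_6 F308057 D138601 F226264 (iv5 D143561) (iv4 F226255) D211661 (iv5 D193682) (iv0 F390675) F385513
def n211662 : Q := act 3 n143567
theorem D211662 : act 3 n143567 = n211662 := rfl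
theorem F462559 : act 4 n211662 = n143570 := d5_2 D143567 D211662 (iv3 D143570) (iv4 D67231) D67230
theorem F462560 : act 5 n211662 = n143572 := d6_2 F456211 D211662 (iv3 F456213)
theorem F462561 : act 6 n211662 = n192068 := d7_2 F460379 D211662 (iv3 F460378)
theorem F462562 : act 7 n211662 = n211276 := d8_2 F361585 D211662 (iv3 D211276)
theorem F462563 : act 0 n211662 = n209961 := d19_4 (iv1 F339072) (iv5 D143568) D143567 D211662 (iv5 D209961) F352808 (iv3 F282922) (iv1 F348056) (iv5 F424564) F424563 (iv3 F404226) (iv1 D115665) (iv5 F111526) (iv4 F245559) (iv3 F384817) (iv1 F386532) (iv5 D192348) F307749 (iv3 F114909)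
def n211663 : Q := act 4 n143577
theorem D211663 : act 4 n143577 = n211663 := rfl
theorem F462564 : act 2 n211663 = n211158 := d1_1 D211663 (iv4 D211158) (iv2 F338990)
theorem F462565 : act 3 n211663 = n154261 := d5_1 D211663 (iv4 F460913) (iv3 F461658) (iv4 D211464) (iv3 F342558)
theorem F462566 : act 6 n211663 = n155692 := d10_2 (iv6 F338991) D211663 (iv4 D155692)
theorem F462567 : act 7 n211663 = n211159 := d11_2 (iv7 F338992) D211663 (iv4 D211159)
theorem F462568 : act 5 n211663 = n154259 := d16_7 F361937 F361936 (iv4 F462559) F462560 F226268 D143577 D211663 (iv7 F384312) F384311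
theorem F462569 : act 0 n211663 = n211591 := d17_0 F462291 (iv1 F444371) F444368 (iv4 D179036) (iv5 F313707) F209608 D109856 (iv0 F226269) D211663
def n211664 : Q := act 0 n143591
theorem D211664 : act 0 n143591 = n211664 := rfl
theorem F462570 : act 4 n211664 = n172022 := d18_1 D211664 F335266 (iv4 F351604) F351625 D210037 (iv0 F460126) F460123 (iv0 F454002) F363871
theorem F462571 : act 2 n186627 = n211664 := d15_3 (iv0 D211664) (iv0 F351746) D186627
theorem F462572 : act 1 n186625 = n211664 := d15_0 (iv0 D211664) (iv7 F431693) F431690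
theorem F462573 : act 7 n211664 = n186624 := d15_2 D186625 F462572 F367476
theorem F462574 : act 3 n157669 = n211664 := d8_3 F462573 F367477 (iv7 F366436)
theorem F462575 : act 6 n172020 = n211664 := d14_5 F462573 (iv6 D186624) F136498 D98461 (iv7 F340207)
theorem F462576 : act 5 n208941 = n211664 := d21_2 D135424 D208941 (iv6 F462575) (iv1 F340209) (iv6 F363618) (iv5 F387379) (iv1 D192656) (iv5 D100491) D100492 F363859
theorem F462577 : act 6 n208941 = n203403 := d21_3 F363871 D211664 (iv5 F462576) (iv1 F428160) F402226 (iv5 F402219) F383803 F383801 D194066 (iv1 F391945)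
def n211665 : Q := act 6 n143598
theorem D211665 : act 6 n143598 = n211665 := rfl
theorem F462578 : act 2 n211665 = n182294 := d3_1 D211665 F359841 F350777
theorem F462579 : act 3 n211665 = n143599 := d7_1 D211665 (iv6 D143599) D143598
theorem F462580 : act 5 n211665 = n154349 := d12_1 D211665 (iv6 F348866) F348857 (iv6 D147466) (iv5 F350776)
theorem F462581 : act 0 n211665 = n207002 := d21_10 (iv5 D207002) F439116 (iv5 F336894) F336895 D173696 F440161 F440160 (iv1 F231002) (iv5 F350776) D211665
theorem F462582 : act 0 n186839 = n211665 := d21_4 (iv5 F344673) F148347 F361222 D186839 (iv6 D211665) F350776 (iv1 D69123) D69124 (iv6 F321396) (iv1 F309399)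
def n211666 : Q := act 5 n143601
theorem D211666 : act 5 n143601 = n211666 := rfl
theorem F462583 : act 2 n211666 = n152674 := d2_1 D211666 (iv5 F339231) F339401
theorem F462584 : act 3 n211666 = n192363 := d6_1 D211666 F386572 F346288
theorem F462585 : act 4 n211666 = n149209 := d9_1 D211666 (iv5 D149209) D149208 (iv5 F339378) F239807 (iv5 F234536) F362048 F324818 (iv4 F239879) (iv5 F440072) F440071 (iv5 F348541) (iv4 F427395) F427396 (iv4 F226285)
theorem F462586 : act 6 n211666 = n148542 := d12_2 D143601 D211666 (iv5 F233313) (iv6 F352063) F225423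
theorem F462587 : act 7 n211666 = n152304 := d13_2 (iv7 F346290) D211666 F239417
theorem F462588 : act 0 n211666 = n152672 := d17_2 F346286 D211666 F353457 (iv4 D152721) (iv5 D72055) D72054 F318076 (iv0 F318073) (iv4 F339392)
theorem F462589 : act 1 n211666 = n152616 := d17_8 F233303 (iv5 F322167) F322163 F87087 (iv4 F87081) F324819 (iv0 F346287) D211666 F239814
def n211667 : Q := act 3 n143602
theorem D211667 : act 3 n143602 = n211667 := rfl
theorem F462590 : act 2 n211667 = n154605 := d0_1 D211667 F363179 F355109 (iv3 D146170) F226288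
theorem F462591 : act 4 n211667 = n146643 := d5_2 F374006 D211667 (iv3 F456568) F456569 (iv3 F374005)
theorem F462592 : act 5 n211667 = n202715 := d6_2 (iv5 F226286) D211667 (iv3 D202715)
theorem F462593 : act 6 n211667 = n153888 := d7_2 F374003 D211667 (iv3 F374000)
theorem F462594 : act 7 n211667 = n146167 := d8_2 F226289 D211667 (iv3 D146167)
theorem F462595 : act 0 n211667 = n157702 := d19_4 (iv1 F415788) (iv5 F374007) F374006 D211667 (iv5 F353679) F248339 (iv3 F115368) (iv1 F191902) D203745 F429653 (iv3 F423187) (iv1 D115466) (iv5 F330553) (iv4 F416218) (iv3 D200381) (iv1 F204357) F355628 (iv4 F355661) (iv3 F415785)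
theorem F462596 : act 0 n148842 = n211667 := d20_4 (iv4 F114766) D159880 F355113 (iv3 F233858) (iv3 D211667) (iv4 F374006) F374009 F346411 F346410 (iv1 D76542)
def n211668 : Q := act 5 n143656
theorem D211668 : act 5 n143656 = n211668 := rfl
theorem F462597 : act 2 n211668 = n189117 := d2_1 D211668 F375808 (iv2 F333388)
theorem F462598 : act 3 n211668 = n201722 := d6_1 D211668 (iv5 F421561) (iv3 F375136)
theorem F462599 : act 4 n211668 = n183175 := d9_1 D211668 (iv5 F375988) F375986 (iv5 F360171) F310811 (iv5 F188473) (iv4 F315724) (iv5 F460221) F460220 F345609 F204123 F329083 (iv4 F215588) F310798 (iv4 F333389)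
theorem F462600 : act 7 n211668 = n189114 := d13_2 (iv7 F333390) D211668 F375797
theorem F462601 : act 1 n211668 = n201530 := d17_6 F188382 D70138 (iv1 F310797) F310798 (iv4 F333389) D211668 (iv5 D201530) (iv0 F206062) (iv4 D128051)
def n211669 : Q := act 6 n143660
theorem D211669 : act 6 n143660 = n211669 := rfl
theorem F462602 : act 2 n211669 = n190420 := d3_1 D211669 F379738 F226344
theorem F462603 : act 3 n211669 = n176936 := d7_1 D211669 F276293 F357469
theorem F462604 : act 4 n211669 = n190508 := d10_1 D211669 F402430 F402428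
theorem F462605 : act 5 n211669 = n201111 := d12_1 D211669 F419129 (iv5 F382112) F382110 (iv5 F226343)
theorem F462606 : act 7 n211669 = n176932 := d14_2 F333384 D211669 (iv6 D176932) F129396 D98042
theorem F462607 : act 0 n189998 = n211669 := d21_4 (iv5 F147684) F147685 (iv5 F147168) D189998 (iv6 D211669) F226343 (iv1 D116414) (iv5 F306969) (iv6 D95985) D95982
theorem F462608 : act 1 n190422 = n211669 := d15_0 (iv0 F462607) (iv7 F447558) F447555
def n211670 : Q := act 4 n143665
theorem D211670 : act 4 n143665 = n211670 := rfl
theorem F462609 : act 2 n211670 = n183090 := d1_1 D211670 (iv4 F425374) F425371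
theorem F462610 : act 3 n211670 = n208841 := d5_1 D211670 F451071 F424537 F353542 (iv3 F226350)
theorem F462611 : act 6 n211670 = n153318 := d10_2 (iv6 F429638) D211670 (iv4 F429637)
theorem F462612 : act 5 n211670 = n184057 := d16_1 D211670 F358530 (iv5 D140725) F101715 F105790 D69491 D148234 (iv7 F425373) F425371
theorem F462613 : act 0 n211670 = n201327 := d17_0 F420032 F358552 (iv5 F283454) (iv4 F425312) (iv5 D202729) F182001 D140742 (iv0 F366143) D211670
theorem F462614 : act 1 n211670 = n211362 := d18_6 D115866 F321182 (iv1 D67288) (iv4 F103182) D143665 D211670 F461284 F225138 (iv5 D115868)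
def n211671 : Q := act 3 n143723
theorem D211671 : act 3 n143723 = n211671 := rfl
theorem F462615 : act 5 n211671 = n152664 := d6_2 (iv5 F324818) D211671 F239876
theorem F462616 : act 7 n211671 = n203627 := d8_2 (iv7 F339232) D211671 (iv3 D203627)
theorem F462617 : act 0 n211671 = n208369 := d20_4 F346282 D149156 F362048 D211671 F449106 (iv4 F411515) F411517 F368192 (iv3 F425202) F425205
theorem F462618 : act 0 n191531 = n211671 := d20_4 (iv4 F231225) (iv1 F383686) (iv4 D191533) (iv3 F383675) (iv3 D211671) (iv4 F362048) (iv1 F440051) F440048 F274706 (iv1 F346420)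
def n211672 : Q := act 5 n143758
theorem D211672 : act 5 n143758 = n211672 := rfl
theorem F462619 : act 2 n211672 = n143763 := d2_1 D211672 (iv5 D143763) (iv2 F226422)
theorem F462620 : act 3 n211672 = n152235 := d6_1 D211672 (iv5 F355584) (iv3 F363833)
theorem F462621 : act 6 n211672 = n183109 := d12_2 F363835 D211672 F364048 D190347 (iv5 F379488)
theorem F462622 : act 7 n211672 = n187508 := d13_2 F364728 D211672 F370628
theorem F462623 : act 4 n211672 = n183110 := d16_2 D143758 D211672 (iv5 F286220) (iv4 F364533) (iv5 D174916) F307124 (iv5 F308898) (iv7 F182245) D67336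
theorem F462624 : act 0 n211672 = n187923 := d17_2 (iv1 F346264) D211672 F371842 (iv4 D128051) (iv5 D60170) F188410 D79843 F122585 D149287
theorem F462625 : act 1 n211672 = n206293 := d17_6 F192425 F109344 F190371 (iv5 F313302) D143758 D211672 F440109 (iv0 F206229) F192426
def n211673 : Q := act 3 n143762
theorem D211673 : act 3 n143762 = n211673 := rfl
theorem F462626 : act 4 n211673 = n194076 := d5_2 (iv4 F315724) D211673 F391987 F337105 F314074
theorem F462627 : act 5 n211673 = n201419 := d6_2 F460221 D211673 (iv3 F460219)
theorem F462628 : act 6 n211673 = n201572 := d7_2 (iv6 F364345) D211673 F420971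
theorem F462629 : act 7 n211673 = n186903 := d8_2 (iv7 F315725) D211673 (iv3 F368465)
theorem F462630 : act 0 n211673 = n186569 := d20_4 (iv4 D128123) F188439 (iv4 F315724) D211673 (iv3 F347694) F352664 (iv1 F220696) F353121 F353116 (iv1 F261816)
theorem F462631 : act 2 n211673 = n186902 := d15_3 (iv0 D186902) D186903 (iv7 F462629)
theorem F462632 : act 0 n186891 = n211673 := d21_4 F291047 F290721 (iv5 F137747) F368425 F462628 (iv5 D201572) (iv1 F178888) (iv5 F144692) (iv6 D93868) (iv1 F69364)
def n211674 : Q := act 4 n143763
theorem D211674 : act 4 n143763 = n211674 := rfl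
theorem F462633 : act 2 n211674 = n183110 := d1_1 D211674 (iv4 F462623) F462619
theorem F462634 : act 6 n211674 = n182031 := d10_2 F374236 D211674 (iv4 F287203)
theorem F462635 : act 5 n211674 = n194696 := d16_1 D211674 F394134 F333393 F190724 D72834 D153925 (iv5 F370628) (iv7 F462622) F462619
theorem F462636 : act 0 n211674 = n195833 := d18_2 F461602 D211674 (iv4 D195833) (iv5 D106328) F77598 D72842 (iv4 F206219) (iv0 F320166) D211453
def n211675 : Q := act 4 n143792
theorem D211675 : act 4 n143792 = n211675 := rfl
theorem F462637 : act 2 n211675 = n144436 := d1_1 D211675 (iv4 F407924) F407922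
theorem F462638 : act 7 n211675 = n144412 := d11_2 (iv7 F346863) D211675 F227196
theorem F462639 : act 0 n211675 = n144434 := d18_2 F407908 D211675 (iv4 F425224) (iv5 F427574) F427573 F215871 D153173 F385705 F407905
theorem F462640 : act 1 n211675 = n144433 := d18_6 F408014 F181755 (iv1 F325041) D67352 D143792 D211675 F408008 (iv0 D198439) D198440
def n211676 : Q := act 5 n143793
theorem D211676 : act 5 n143793 = n211676 := rfl
theorem F462641 : act 3 n211676 = n202821 := d6_1 D211676 F425729 (iv3 F226443)
theorem F462642 : act 4 n211676 = n211440 := d9_1 D211676 (iv5 D211440) (iv4 F366178) (iv5 F365586) (iv4 F425404) F425405 D203647 (iv5 F429226) (iv4 F459175) (iv5 D210892) F442688 (iv5 D206945) (iv4 F363406) (iv5 D143800) (iv4 F226444)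
theorem F462643 : act 0 n211676 = n202835 := d21_1 D211676 (iv5 D202835) (iv6 D117006) (iv1 F85051) (iv6 F321507) (iv5 F323188) D95973 F324608 D151267 F344483
def n211677 : Q := act 1 n143828
theorem D211677 : act 1 n143828 = n211677 := rfl
theorem F462644 : act 1 n211677 = n198114 := d15_1 D211677 (iv7 F417832) F417829
theorem F462645 : act 7 n211677 = n167690 := d15_2 F358852 D211677 F358847
theorem F462646 : act 5 n211677 = n167691 := d17_7 (iv1 D72756) (iv5 F96008) F318419 (iv5 D67364) D67363 D143828 D211677 (iv0 F312391) (iv4 D153797)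
theorem F462647 : act 4 n211677 = n166558 := d17_9 F297571 (iv5 D177332) F299841 (iv5 F299651) F276607 (iv5 D177213) F322216 D143828 D211677
theorem F462648 : act 3 n198137 = n211677 := d19_19 (iv1 D211677) (iv5 D143828) (iv4 D67363) (iv3 D31315) (iv1 D14764) D14765 D31321 D67377 (iv1 F330206) (iv5 D134678) (iv4 F330200) (iv3 F449796) (iv1 F449799) F307477 (iv4 F173545) F173544 D111802 (iv5 F354541) F408573
theorem F462649 : act 2 n211677 = n160386 := d0_1 F462648 (iv3 D160386) F298897 (iv3 F268460) (iv2 F408575)
theorem F462650 : act 6 n211677 = n203975 := d7_2 (iv6 F408576) F462648 F430667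
def n211678 : Q := act 6 n143828
theorem D211678 : act 6 n143828 = n211678 := rfl
theorem F462651 : act 2 n211678 = n204679 := d3_1 D211678 F433234 F417829
theorem F462652 : act 3 n211678 = n196859 := d7_1 D211678 (iv6 D196859) (iv3 F226470)
theorem F462653 : act 4 n211678 = n178289 := d10_1 D211678 F360412 (iv4 F358853)
theorem F462654 : act 5 n211678 = n147904 := d12_1 D211678 (iv6 F460346) F460348 (iv6 D143829) D143828
theorem F462655 : act 7 n211678 = n204680 := d14_2 F402053 D211678 F433237 F412086 F412088
theorem F462656 : act 0 n204681 = n211678 := d21_4 F206928 (iv1 F201791) (iv5 F410680) (iv6 F433239) (iv6 D211678) (iv5 D143828) (iv1 F322216) D177213 (iv6 F400748) F400749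
theorem F462657 : act 1 n204059 = n211678 := d15_0 (iv0 F462656) (iv7 F460266) F460264
def n211679 : Q := act 6 n143874
theorem D211679 : act 6 n143874 = n211679 := rfl
theorem F462658 : act 3 n211679 = n143879 := d7_1 D211679 (iv6 D143879) (iv3 F226491)
theorem F462659 : act 7 n211679 = n204787 := d14_2 (iv7 F391794) D211679 (iv6 D204787) (iv7 F431754) F431753
def n211680 : Q := act 5 n143875
theorem D211680 : act 5 n143875 = n211680 := rfl
theorem F462660 : act 2 n211680 = n210690 := d2_1 D211680 F458448 (iv2 F348150)
theorem F462661 : act 3 n211680 = n143880 := d6_1 D211680 (iv5 D143880) (iv3 F226492)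
theorem F462662 : act 7 n211680 = n204019 := d13_2 F348152 D211680 F430835
theorem F462663 : act 0 n211680 = n202545 := d17_2 (iv1 F362321) D211680 (iv5 D202545) (iv4 F424427) (iv5 F444467) (iv0 F458797) F458794 (iv0 D151375) (iv4 F238092)
theorem F462664 : act 1 n211680 = n210692 := d17_6 (iv1 F332415) (iv5 F223216) F332418 (iv5 D143903) (iv4 F226493) D211680 F458451 (iv0 F363482) F246004
def n211681 : Q := act 4 n143877
theorem D211681 : act 4 n143877 = n211681 := rfl
theorem F462665 : act 3 n211681 = n198415 := d5_1 D211681 (iv4 D198415) (iv3 F173571) D199834 F413728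
theorem F462666 : act 7 n211681 = n210709 := d11_2 (iv7 F226500) D211681 (iv4 D210709)
theorem F462667 : act 0 n211681 = n210500 := d17_0 F457807 (iv1 D202182) D202183 F423149 (iv5 D138607) F111880 D67394 D143877 D211681
theorem F462668 : act 1 n211681 = n204822 := d18_6 D139608 (iv4 F410244) F410242 (iv4 F221526) (iv5 F226501) D211681 F433712 (iv0 F342824) (iv5 D139610)
theorem F462669 : act 0 n205448 = n210177 := d20_7 (iv4 F433712) (iv1 F462668) (iv4 D211681) (iv3 F413728) F413726 F391440 (iv4 F436476) F456472 F389822 F342824
def n211682 : Q := act 1 n143878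
theorem D211682 : act 1 n143878 = n211682 := rfl
theorem F462670 : act 1 n211682 = n204796 := d15_1 D211682 (iv7 F457824) F457822
theorem F462671 : act 7 n211682 = n210718 := d15_2 (iv0 F391297) D211682 F458550
theorem F462672 : act 4 n211682 = n210351 := d17_9 F457153 (iv5 D199326) (iv1 D111198) D111199 D199330 (iv5 F424333) (iv0 F455745) F455744 D211682
theorem F462673 : act 6 n209895 = n211682 := d14_5 F462671 F458551 (iv7 F385980) D193884 (iv7 F455290)
theorem F462674 : act 3 n211682 = n209898 := d7_1 F462673 (iv6 D209898) D209895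
theorem F462675 : act 7 n209898 = n203545 := d8_2 (iv7 F462671) F462674 F458555
theorem F462676 : act 0 n209898 = n199984 := d19_4 F410599 D210351 (iv4 F462672) F462674 F414474 F365961 F117125 F324085 F322587 (iv4 D36555) (iv3 F91242) (iv1 D17447) (iv5 F298049) (iv4 F41952) D39068 (iv1 F333960) (iv5 F231458) F388852 (iv3 F410595)
theorem F462677 : act 5 n203546 = n209898 := d13_3 F462675 (iv5 D203545) D203546
def n211683 : Q := act 3 n143878
theorem D211683 : act 3 n143878 = n211683 := rfl
def n211684 : Q := act 6 n143878
theorem D211684 : act 6 n143878 = n211684 := rfl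
theorem F462678 : act 4 n211684 = n143879 := d10_1 D211684 (iv6 D143879) D143878
theorem F462679 : act 7 n211684 = n204791 := d14_2 F425434 D211684 (iv6 D204791) (iv7 F431759) F431758
def n211685 : Q := act 0 n143879
theorem D211685 : act 0 n143879 = n211685 := rfl
theorem F462680 : act 2 n204793 = n211685 := d15_3 (iv0 D211685) (iv0 F431737) (iv7 F433602)
theorem F462681 : act 1 n161959 = n211685 := d15_0 (iv0 D211685) F332954 (iv2 F255955)
theorem F462682 : act 7 n211685 = n204792 := d15_2 (iv0 F391322) F462681 (iv2 F433601)
theorem F462683 : act 3 n203380 = n211685 := d8_3 F462682 (iv3 F456054) F456056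
theorem F462684 : act 6 n203378 = n211685 := d14_5 F462682 F433600 F391268 F349499 (iv7 F428103)
theorem F462685 : act 4 n211685 = n203596 := d10_1 F462684 (iv6 D203596) (iv4 F428102)
def n211686 : Q := act 5 n143879
theorem D211686 : act 5 n143879 = n211686 := rfl
theorem F462686 : act 2 n211686 = n204025 := d2_1 D211686 (iv5 F457826) F457825
theorem F462687 : act 6 n211686 = n143880 := d12_2 D143879 D211686 (iv5 D143880) (iv6 D67395) D67394
theorem F462688 : act 7 n211686 = n203721 := d13_2 (iv7 F332954) D211686 F429545
theorem F462689 : act 0 n204023 = n211686 := d21_1 (iv5 F430846) (iv5 D211686) (iv6 D143879) (iv1 F343870) (iv6 D102450) D102449 (iv1 F335698) F335699 D204783 F433570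
theorem F462690 : act 1 n204024 = n211686 := d15_1 D204024 F462688 F429544
def n211687 : Q := act 4 n143880
theorem D211687 : act 4 n143880 = n211687 := rfl
theorem F462691 : act 2 n211687 = n191375 := d1_1 D211687 F384762 (iv2 F226502)
theorem F462692 : act 5 n211687 = n208395 := d9_2 D143880 D211687 (iv4 D208395) (iv5 D134256) (iv4 D63068) D63069 (iv4 F332938) (iv5 F424399) (iv4 F429592) (iv5 F449184) (iv4 D208396) (iv5 D134258) (iv4 D63072) F168238 (iv4 F103256)
theorem F462693 : act 7 n211687 = n204021 := d11_2 F356532 D211687 F430843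
theorem F462694 : act 0 n211687 = n202526 := d18_2 (iv1 F226504) D211687 (iv4 D202526) (iv5 D115932) F84345 F53601 (iv4 F111698) F111701 (iv5 F222670)
theorem F462695 : act 1 n211687 = n208392 := d18_6 (iv1 F362319) F224335 F168237 (iv4 F103256) D143880 D211687 F449168 (iv0 F362318) (iv5 D177486)
def n211688 : Q := act 3 n143882
theorem D211688 : act 3 n143882 = n211688 := rfl
theorem F462696 : act 4 n211688 = n154066 := d5_2 F410588 D211688 F242114 D154073 (iv3 F410589)
theorem F462697 : act 6 n211688 = n192953 := d7_2 F226515 D211688 F388317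
theorem F462698 : act 7 n211688 = n209816 := d8_2 (iv7 F226514) D211688 F455049
theorem F462699 : act 0 n211688 = n210625 := d19_4 F406037 (iv5 F410587) F410588 D211688 F458251 F237097 F107526 F52046 D39770 (iv4 F316868) (iv3 F166108) F167257 F167256 D125959 F353278 (iv1 D147674) (iv5 F332107) (iv4 D127078) (iv3 F204313)
theorem F462700 : act 3 n210716 = n192924 := d20_5 F222599 F101141 (iv4 F101198) (iv3 F222759) D210716 (iv4 F426764) F426766 (iv4 F462696) (iv3 D211688) (iv1 F226513)
theorem F462701 : act 6 n208720 = n210716 := d7_0 F462700 F426762 (iv3 F450570)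
theorem F462702 : act 1 n211688 = n204093 := d15_1 (iv0 F462699) F431057 (iv2 F458249)
def n211689 : Q := act 3 n143928
theorem D211689 : act 3 n143928 = n211689 := rfl
theorem F462703 : act 2 n211689 = n202471 := d0_1 D211689 F424139 F226576 (iv3 F425417) F425421
theorem F462704 : act 5 n211689 = n202471 := d6_2 F226565 D211689 F424139
theorem F462705 : act 0 n211689 = n196684 := d20_10 F401479 (iv1 F357171) (iv4 F389200) F389199 D193219 F389216 D210896 F459195 F423073 D211689
theorem F462706 : act 4 n144296 = n211689 := d19_2 F226995 D144296 (iv3 D211689) (iv1 D143928) (iv5 D67431) (iv4 D31338) (iv3 D14772) (iv1 D7036) F5001 (iv4 F11285) (iv3 F24403) D31278 D67227 (iv4 F339113) F155842 F155790 (iv5 D99727) D99726 (iv3 F357415)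
theorem F462707 : act 6 n211689 = n202470 := d10_2 F372162 F462706 F424135
theorem F462708 : act 1 n211689 = n211017 := d18_6 F226780 F226778 F103384 (iv4 F103475) D144296 F462706 F459766 (iv0 F357173) (iv5 F357172)
def n211690 : Q := act 6 n143928
theorem D211690 : act 6 n143928 = n211690 := rfl
theorem F462709 : act 2 n211690 = n196280 := d3_1 D211690 F425419 F425421
theorem F462710 : act 3 n211690 = n202470 := d7_1 D211690 (iv6 F462707) (iv3 D211689)
theorem F462711 : act 4 n211690 = n202089 := d10_1 D211690 (iv6 F424184) F423073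
theorem F462712 : act 5 n211690 = n199769 := d12_1 D211690 (iv6 F413415) F337429 D115790 F226565
theorem F462713 : act 0 n211690 = n202451 := d21_4 (iv5 F224911) F226566 F226565 D211690 (iv6 D202451) (iv5 F349736) (iv1 D135185) (iv5 F345288) D116083 F345290
theorem F462714 : act 0 n202468 = n211690 := d21_4 F360028 F459992 (iv5 D211072) (iv6 F424131) (iv6 D211690) (iv5 F226565) F182410 (iv5 F224910) F415100 F415099
theorem F462715 : act 7 n211690 = n202469 := d15_2 (iv0 F424062) (iv0 F462713) (iv2 D202469)
def n211691 : Q := act 0 n143929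
theorem D211691 : act 0 n143929 = n211691 := rfl
def n211692 : Q := act 1 n143929
theorem D211692 : act 1 n143929 = n211692 := rfl
theorem F462716 : act 4 n211692 = n202478 := d18_7 (iv1 F164799) F79424 F163963 D31338 D67431 D143929 D211692 F424179 (iv5 D196381)
def n211693 : Q := act 5 n143929
theorem D211693 : act 5 n143929 = n211693 := rfl
theorem F462717 : act 2 n211693 = n210898 := d2_1 D211693 (iv5 F459222) F459221
theorem F462718 : act 3 n211693 = n160336 := d6_1 D211693 (iv5 D160336) (iv3 F323332)
theorem F462719 : act 7 n211693 = n210899 := d13_2 F425427 D211693 F459206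
theorem F462720 : act 4 n211693 = n202602 := d16_2 D143929 D211693 F424697 (iv4 D196390) (iv5 D106937) D106936 D196389 F400551 F223451
theorem F462721 : act 0 n211693 = n197701 := d17_2 (iv1 D211692) D211693 F405431 (iv4 D196387) (iv5 D106935) D106934 D196383 (iv0 F424178) (iv4 F462716)
theorem F462722 : act 1 n211693 = n196387 := d17_6 (iv1 F424700) (iv5 D134868) F168120 D67431 D143929 D211693 (iv5 F405431) (iv0 F462721) F462720
def n211694 : Q := act 6 n143929
theorem D211694 : act 6 n143929 = n211694 := rfl
theorem F462723 : act 2 n211694 = n201946 := d3_1 D211694 F459224 F459221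
theorem F462724 : act 3 n211694 = n160308 := d7_1 D211694 F253209 (iv3 F323332)
theorem F462725 : act 4 n211694 = n143930 := d10_1 D211694 (iv6 D143930) D143929
theorem F462726 : act 0 n211694 = n196670 := d21_10 (iv5 D196670) (iv1 F401408) (iv5 F461193) (iv6 D211340) D211339 (iv6 F461189) F405431 (iv1 F462722) (iv5 D211693) D211694
theorem F462727 : act 5 n196561 = n211694 := d17_1 D196561 F462726 (iv5 D196670) (iv4 D107194) (iv5 F172113) F163635 F163628 F82135 D107079
theorem F462728 : act 1 n211694 = n196667 := d17_6 (iv1 D196757) (iv5 F172096) (iv1 F397061) (iv5 F401052) (iv4 F401088) F462727 (iv5 D196667) D196665 F401706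
theorem F462729 : act 6 n196561 = n201949 := d21_3 D196667 (iv1 F462728) (iv5 F462727) (iv1 D201949) (iv6 D115283) (iv5 D53184) D53181 D115270 F422422 (iv1 D196665)
def n211695 : Q := act 3 n143934
theorem D211695 : act 3 n143934 = n211695 := rfl
theorem F462730 : act 6 n211695 = n156335 := d7_2 F226574 D211695 (iv3 D156335)
theorem F462731 : act 7 n211695 = n202471 := d8_2 F226575 D211695 F424139
theorem F462732 : act 0 n211695 = n211017 := d19_4 F226611 (iv5 F216983) (iv4 F226573) D211695 F459768 F450300 F461798 (iv1 D211491) (iv5 D142467) (iv4 F225383) F225382 F333282 F333278 (iv4 F339033) F219811 (iv1 F219276) (iv5 F408406) F408405 F228348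
theorem F462733 : act 1 n211695 = n196684 := d15_1 (iv0 F462732) (iv7 F401481) (iv2 F459765)
def n211696 : Q := act 4 n143972
theorem D211696 : act 4 n143972 = n211696 := rfl
theorem F462734 : act 2 n211696 = n206046 := d1_1 D211696 (iv4 D206046) (iv2 F226623)
theorem F462735 : act 3 n211696 = n156609 := d5_1 D211696 F246307 (iv3 F246300) (iv4 F246890) (iv3 F340027)
theorem F462736 : act 6 n211696 = n156607 := d10_2 F226901 D211696 (iv4 F339999)
theorem F462737 : act 7 n211696 = n200454 := d11_2 (iv7 F226624) D211696 (iv4 D200454)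
theorem F462738 : act 5 n211696 = n200418 := d16_1 D211696 (iv4 D200418) (iv5 D113086) F82520 F40063 (iv4 F82520) D113086 (iv7 F204363) (iv2 F226623)
theorem F462739 : act 0 n211696 = n145399 := d17_0 (iv5 F411018) (iv1 F411020) (iv5 F389202) F156125 D101879 F357163 (iv5 F416344) F416343 D211696
def n211697 : Q := act 6 n143973
theorem D211697 : act 6 n143973 = n211697 := rfl
theorem F462740 : act 2 n211697 = n201383 := d3_1 D211697 (iv6 D201383) F331513
theorem F462741 : act 4 n211697 = n195204 := d10_1 D211697 (iv6 D195204) F321214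
theorem F462742 : act 5 n211697 = n195651 := d12_1 D211697 (iv6 D195651) F340465 (iv6 D143974) D143973
theorem F462743 : act 0 n211697 = n164453 := d21_4 (iv5 F331474) D67451 D143973 D211697 F259097 (iv5 D95568) (iv1 F205492) D44827 D96069 F340450
theorem F462744 : act 1 n211697 = n210089 := d15_1 (iv0 F462743) F456111 F380228
def n211698 : Q := act 1 n143977
theorem D211698 : act 1 n143977 = n211698 := rfl
theorem F462745 : act 1 n211698 = n199168 := d15_1 D211698 F410984 (iv2 F226633)
theorem F462746 : act 7 n211698 = n194618 := d15_2 (iv0 F397284) D211698 F397283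
theorem F462747 : act 5 n211698 = n198445 := d17_7 (iv1 F407955) F407953 F211671 (iv5 F411046) (iv4 F414553) F414550 D211698 (iv0 F417126) (iv4 D200596)
theorem F462748 : act 4 n211698 = n202618 := d17_9 (iv1 F424779) (iv5 D127081) F102037 (iv5 F165224) F331826 (iv5 F395708) (iv0 F414554) F414550 D211698
theorem F462749 : act 3 n198446 = n211698 := d20_3 F344566 (iv1 F181935) (iv4 F408034) (iv1 D211698) F414001 (iv4 F424733) (iv1 D202610) (iv4 F373309) (iv3 F391501) (iv1 D193953)
theorem F462750 : act 2 n211698 = n199159 := d0_1 F462749 (iv3 D199159) F172154 D195541 (iv2 F408033)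
def n211699 : Q := act 4 n143984
theorem D211699 : act 4 n143984 = n211699 := rfl
theorem F462751 : act 7 n211699 = n196634 := d11_2 (iv7 F365016) D211699 F401271
theorem F462752 : act 0 n211699 = n211696 := d18_2 D143984 D211699 (iv4 D211696) (iv5 D143972) F103305 (iv0 F168338) D64945 (iv0 F168119) F331497
theorem F462753 : act 1 n211699 = n200418 := d18_6 (iv1 F357163) F357165 F175832 D138262 F365015 D211699 (iv4 D200418) D200417 F416344
def n211700 : Q := act 6 n143984
theorem D211700 : act 6 n143984 = n211700 := rfl
theorem F462754 : act 0 n194616 = n211700 := d21_4 (iv5 D96072) D96070 (iv5 F360294) D194616 (iv6 D211700) (iv5 F365015) F226995 D144296 (iv6 F372162) F372164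
def n211701 : Q := act 3 n143985
theorem D211701 : act 3 n143985 = n211701 := rfl
theorem F462755 : act 0 n211701 = n199161 := d19_4 F411019 F411018 F401269 D211701 F410949 (iv4 D177563) F129751 (iv1 F119464) (iv5 D78264) F56358 (iv3 F299724) (iv1 F301576) (iv5 D27668) D27667 F308421 (iv1 F74397) (iv5 F74466) (iv4 F156127) (iv3 F389203)
theorem F462756 : act 0 n194635 = n211701 := d20_4 (iv4 D191516) F154557 (iv4 F385535) (iv3 F393895) (iv3 D211701) (iv4 F401269) (iv1 F416349) (iv4 D200418) F365321 (iv1 F383645)
def n211702 : Q := act 1 n143992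
theorem D211702 : act 1 n143992 = n211702 := rfl
theorem F462757 : act 1 n211702 = n143995 := d15_1 D211702 (iv7 F415732) F415730
theorem F462758 : act 7 n211702 = n194615 := d15_2 F226993 D211702 F393835
theorem F462759 : act 5 n211702 = n200218 := d17_7 (iv1 F176173) (iv5 F202879) F202881 (iv5 D113128) F168374 D143992 D211702 (iv0 F415569) F226991
theorem F462760 : act 4 n211702 = n211695 := d17_9 F462732 F459768 (iv1 D208643) (iv5 F345303) (iv4 F331493) (iv5 D112999) F103317 D143992 D211702
theorem F462761 : act 3 n200218 = n211702 := d19_19 (iv1 D211702) (iv5 D143992) (iv4 F168374) F168373 (iv1 F48571) F23973 (iv4 F48640) (iv3 F100035) D136660 (iv5 F339089) F316528 F101054 (iv1 F84841) (iv5 F312430) (iv4 F314883) (iv3 F94141) F168075 (iv5 F175730) (iv4 F415566)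
theorem F462762 : act 6 n195656 = n211702 := d21_9 (iv5 D143992) (iv1 F103317) D112999 F331494 (iv1 F103312) D128547 (iv5 F355727) F259115 (iv5 F397751) (iv1 D211702)
theorem F462763 : act 2 n207188 = n211702 := d2_3 F462759 F415565 D207188
def n211703 : Q := act 5 n143994
theorem D211703 : act 5 n143994 = n211703 := rfl
theorem F462764 : act 2 n211703 = n194612 := d2_1 D211703 F393834 F385600
theorem F462765 : act 3 n211703 = n143995 := d6_1 D211703 (iv5 D143995) D143994
theorem F462766 : act 6 n211703 = n198608 := d12_2 F417636 D211703 F408509 (iv6 F395165) F417638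
theorem F462767 : act 7 n211703 = n194613 := d13_2 F389971 D211703 (iv5 F393823)
theorem F462768 : act 0 n211703 = n194614 := d17_2 (iv1 F389962) D211703 F393828 (iv4 D177683) F129783 D121036 F348414 F277002 (iv4 F389963)
theorem F462769 : act 1 n211703 = n190506 := d17_6 F406820 D194390 F407477 (iv5 F403246) F403245 D211703 F379947 F390103 (iv4 F390101)
theorem F462770 : act 4 n194594 = n211703 := d16_0 (iv5 D211703) (iv4 F403245) F403246 (iv4 F417114) (iv5 D200594) (iv4 F417109) (iv5 F417110) F452936 F452937
def n211704 : Q := act 3 n143997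
theorem D211704 : act 3 n143997 = n211704 := rfl
theorem F462771 : act 2 n211704 = n193512 := d0_1 D211704 F390131 (iv2 F385639) F385640 F365017
theorem F462772 : act 5 n211704 = n193511 := d6_2 F416493 D211704 F416498
theorem F462773 : act 7 n211704 = n211701 := d8_2 F365018 D211704 (iv3 D211701)
theorem F462774 : act 4 n211522 = n211704 := d20_2 F410907 D211522 (iv3 D211704) (iv1 D143997) F331498 F82366 D52108 D112900 (iv3 F402083) F410910
theorem F462775 : act 1 n211704 = n193468 := d18_6 (iv1 D198103) F365215 F436865 F436862 (iv5 F461963) F462774 (iv4 F389955) D196769 (iv5 F406810)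
def n211705 : Q := act 4 n143997
theorem D211705 : act 4 n143997 = n211705 := rfl
theorem F462776 : act 2 n211705 = n211699 := d1_1 D211705 (iv4 D211699) F365017
theorem F462777 : act 3 n211705 = n196357 := d5_1 D211705 (iv4 F407264) (iv3 F461964) F462774 (iv3 D211704)
theorem F462778 : act 5 n211705 = n193215 := d9_2 F416493 D211705 F389196 (iv5 D143992) (iv4 F168374) D113128 F357411 F357409 (iv4 F401271) (iv5 F401272) F389198 (iv5 D143995) (iv4 F168205) D113127 D200455
theorem F462779 : act 7 n211705 = n145399 := d11_2 F365018 D211705 F401269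
theorem F462780 : act 0 n211705 = n206046 := d18_2 (iv1 F226653) D211705 (iv4 D206046) (iv5 D127108) F94068 F82555 F168205 F103318 D112999
theorem F462781 : act 1 n211705 = n200454 := d18_6 F226949 F209166 F176246 D200455 F416493 D211705 (iv4 D200454) D200453 F416481
def n211706 : Q := act 6 n143997
theorem D211706 : act 6 n143997 = n211706 := rfl
theorem F462782 : act 2 n211706 = n211700 := d3_1 D211706 (iv6 D211700) F365017
def n211707 : Q := act 6 n144004
theorem D211707 : act 6 n144004 = n211707 := rfl
theorem F462783 : act 4 n211707 = n189507 := d10_1 D211707 F376754 (iv4 F226666)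
theorem F462784 : act 7 n211707 = n190431 := d14_2 F402365 D211707 (iv6 D190431) (iv7 F402372) (iv6 F402369)
theorem F462785 : act 0 n211707 = n189606 := d21_10 F379216 (iv1 D190256) F367203 (iv6 D185692) (iv1 F294000) F305028 (iv5 D67472) D67469 D144004 D211707
theorem F462786 : act 1 n211707 = n189612 := d15_1 (iv0 F462785) F377114 (iv2 F377095)
def n211708 : Q := act 0 n144005
theorem D211708 : act 0 n144005 = n211708 := rfl
theorem F462787 : act 6 n211708 = n194473 := d21_5 (iv5 F356910) F356905 (iv5 D144004) D144005 D211708 (iv5 F440311) F440313 (iv5 F423927) (iv6 D196772) (iv1 D107306)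
theorem F462788 : act 2 n144066 = n211708 := d15_3 (iv0 D211708) (iv0 F425675) F425674
theorem F462789 : act 3 n211708 = n144164 := d0_2 D144066 F462788 (iv2 F408445) F408446 F175707
theorem F462790 : act 4 n211708 = n199132 := d1_2 F401016 F462788 (iv2 F410813)
def n211709 : Q := act 5 n144006
theorem D211709 : act 5 n144006 = n211709 := rfl
theorem F462791 : act 3 n211709 = n144007 := d6_1 D211709 (iv5 D144007) D144006
theorem F462792 : act 4 n211709 = n144108 := d17_4 F382466 (iv5 F425731) F425734 D211709 (iv5 D144108) (iv0 D67519) D67523 D144123 F410105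
theorem F462793 : act 6 n190424 = n211709 := d10_0 F462792 F362555 (iv4 F399904)
theorem F462794 : act 0 n190759 = n190424 := d21_4 (iv5 D89996) D89993 F343077 D190759 F462793 (iv5 D211709) F392459 F392455 (iv6 D189963) (iv1 F291967)
def n211710 : Q := act 6 n144006
theorem D211710 : act 6 n144006 = n211710 := rfl
theorem F462795 : act 3 n211710 = n144008 := d7_1 D211710 (iv6 D144008) D144006
def n211711 : Q := act 5 n144008
theorem D211711 : act 5 n144008 = n211711 := rfl
theorem F462796 : act 6 n211711 = n190426 := d12_2 D144008 D211711 (iv5 D190426) F366864 (iv5 D144007)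
theorem F462797 : act 4 n211711 = n205102 := d19_2 F379358 D211711 F434979 (iv1 F401528) (iv5 D196699) F165239 (iv3 F164743) F164746 (iv5 D63453) D63452 D135020 (iv1 F356306) F342385 (iv4 F331874) F153353 (iv1 F331878) F348141 (iv4 F340807) (iv3 F361615)
def n211712 : Q := act 3 n144012
theorem D211712 : act 3 n144012 = n211712 := rfl
theorem F462798 : act 4 n211712 = n144122 := d5_2 F226685 D211712 F396223 (iv4 D195200) (iv3 F364978)
theorem F462799 : act 5 n211712 = n199153 := d6_2 (iv5 F226684) D211712 (iv3 D199153)
theorem F462800 : act 7 n211712 = n190390 := d8_2 F306961 D211712 (iv3 D190390)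
theorem F462801 : act 0 n211712 = n189963 := d20_10 (iv4 F440643) (iv1 F440644) F415817 F175889 D112946 F340456 (iv4 F379930) (iv1 F379932) F226685 D211712
theorem F462802 : act 0 n158906 = n211712 := d20_4 (iv4 F355655) (iv1 D98044) (iv4 F113718) (iv3 F250199) (iv3 D211712) (iv4 F226685) F378580 F378578 (iv3 F378563) F378567
theorem F462803 : act 6 n199887 = n211712 := d12_0 F462799 F410912 (iv5 F393714) (iv6 F413668) (iv5 F413986)
def n211713 : Q := act 6 n144012
theorem D211713 : act 6 n144012 = n211713 := rfl
theorem F462804 : act 2 n211713 = n190392 := d3_1 D211713 (iv6 D190392) F306963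
theorem F462805 : act 3 n211713 = n199887 := d7_1 D211713 F462803 (iv3 D211712)
theorem F462806 : act 4 n211713 = n207190 := d10_1 D211713 F443718 F226685
theorem F462807 : act 0 n194995 = n211713 := d21_4 (iv5 F394683) F395334 (iv5 D194994) D194995 (iv6 D211713) F226684 (iv1 D111004) D111005 (iv6 F395073) F395072
def n211714 : Q := act 6 n144019
theorem D211714 : act 6 n144019 = n211714 := rfl
theorem F462808 : act 2 n211714 = n144230 := d3_1 D211714 (iv6 D144230) (iv2 F350524)
theorem F462809 : act 3 n211714 = n176946 := d7_1 D211714 (iv6 D176946) (iv3 F364451)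
theorem F462810 : act 4 n211714 = n208128 := d10_1 D211714 F448001 F382647
theorem F462811 : act 5 n211714 = n194937 := d12_1 D211714 (iv6 D194937) (iv5 D104786) D104787 (iv5 F350525)
theorem F462812 : act 0 n194996 = n211714 := d17_0 F462811 F397250 (iv5 D195533) (iv4 F356962) D190371 (iv0 F422188) (iv5 F425837) (iv0 F425839) (iv4 F395340)
def n211715 : Q := act 6 n144020
theorem D211715 : act 6 n144020 = n211715 := rfl
theorem F462813 : act 2 n211715 = n144235 := d3_1 D211715 (iv6 D144235) (iv2 F350520)
theorem F462814 : act 0 n211715 = n190359 := d21_4 F378503 F350511 F350512 D211715 (iv6 D190359) (iv5 D95931) (iv1 F347579) D164623 F259567 (iv1 F378505)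
def n211716 : Q := act 3 n144026
theorem D211716 : act 3 n144026 = n211716 := rfl
theorem F462815 : act 2 n211716 = n190232 := d0_1 D211716 F379142 F349227 F349228 F226714
theorem F462816 : act 4 n211716 = n190117 := d5_2 (iv4 F340047) D211716 F378910 (iv4 F251832) F251831
theorem F462817 : act 5 n211716 = n192836 := d6_2 (iv5 F226713) D211716 F387975
theorem F462818 : act 6 n211716 = n159807 := d7_2 (iv6 F340048) D211716 (iv3 D159807)
theorem F462819 : act 7 n211716 = n144263 := d8_2 F226715 D211716 (iv3 D144263)
theorem F462820 : act 0 n211716 = n176552 := d19_4 (iv1 F178557) F178555 (iv4 F340047) D211716 (iv5 F392438) F392440 F378185 F367251 (iv5 F292681) F143503 F74180 (iv1 F291311) F69468 D90760 F340057 (iv1 F154598) (iv5 F357541) (iv4 D90304) (iv3 F138905)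
theorem F462821 : act 0 n186769 = n211716 := d20_4 (iv4 F294973) F361763 (iv4 F390862) F390861 (iv3 D211716) F340047 D159810 F345188 F345190 (iv1 F286329)
def n211717 : Q := act 6 n144045
theorem D211717 : act 6 n144045 = n211717 := rfl
theorem F462822 : act 2 n211717 = n144050 := d3_1 D211717 (iv6 D144050) (iv2 F226763)
theorem F462823 : act 4 n211717 = n195867 := d10_1 D211717 F398529 F331467
theorem F462824 : act 7 n211717 = n208185 := d14_2 F419744 D211717 (iv6 D208185) (iv7 F409410) (iv6 F419743)
theorem F462825 : act 5 n211717 = n207233 := d21_6 D208129 F448011 (iv5 F462742) (iv6 D211697) (iv1 F331460) D211717 (iv1 F447829) F447826 F214433 (iv1 F214535)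
theorem F462826 : act 0 n209123 = n211717 := d21_4 F383184 (iv1 D176717) D176719 (iv6 F452365) (iv6 D211717) (iv5 D144045) (iv1 F182840) (iv5 F331456) D200292 (iv1 F415856)
theorem F462827 : act 2 n207233 = n208086 := d2_1 F462825 F447821 (iv2 F462822)
theorem F462828 : act 7 n207233 = n208087 := d13_2 (iv7 F462824) F462825 (iv5 F448282)
theorem F462829 : act 2 n208087 = n207234 := d15_3 F447828 F447829 F462828
theorem F462830 : act 4 n207234 = n190826 := d16_0 (iv5 F394521) F418166 F417224 (iv4 F396124) D195867 (iv4 F462823) F462825 F462828 F462829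
theorem F462831 : act 7 n208086 = n207234 := d4_2 (iv7 F462828) F462827 (iv2 F462829)
theorem F462832 : act 6 n190825 = n207234 := d10_0 F462830 (iv6 D190826) D190825
def n211718 : Q := act 0 n144046
theorem D211718 : act 0 n144046 = n211718 := rfl
theorem F462833 : act 6 n211718 = n200263 := d21_5 D143973 (iv1 F331460) (iv5 D144045) D144046 D211718 (iv5 D200263) (iv1 D112898) F331497 (iv6 D67455) D67451
theorem F462834 : act 2 n144051 = n211718 := d3_3 F462833 F415730 (iv6 F331564)
theorem F462835 : act 7 n144052 = n211718 := d14_0 F462833 F415732 F401487 (iv7 F410996) F411001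
def n211719 : Q := act 1 n144046
theorem D211719 : act 1 n144046 = n211719 := rfl
theorem F462836 : act 1 n211719 = n144054 := d15_1 D211719 (iv7 D144054) (iv2 F226764)
theorem F462837 : act 7 n211719 = n144051 := d15_2 (iv0 D211718) D211719 F462834
theorem F462838 : act 6 n196685 = n211719 := d21_3 F397281 (iv1 F417127) F417124 (iv1 D211719) (iv6 D144046) D144045 (iv1 F331464) (iv5 D143976) D143977 F397284
theorem F462839 : act 2 n211719 = n144052 := d3_1 F462838 (iv6 F411001) F410995
theorem F462840 : act 4 n211719 = n196763 := d10_1 F462838 (iv6 D196763) (iv4 F401483)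
theorem F462841 : act 1 n144054 = n211718 := d15_1 F462836 (iv7 F462835) (iv2 F462839)
theorem F462842 : act 3 n211719 = n210540 := d20_5 (iv4 D112841) F168054 (iv4 F103357) (iv3 F226768) (iv1 F462836) (iv4 D210540) (iv1 D139372) (iv4 F182922) F182921 F175709
def n211720 : Q := act 5 n144046
theorem D211720 : act 5 n144046 = n211720 := rfl
theorem F462843 : act 2 n211720 = n144053 := d2_1 D211720 (iv5 D144053) (iv2 F226764)
theorem F462844 : act 6 n211720 = n207233 := d12_2 D144046 D211720 (iv5 F462825) (iv6 D211717) (iv5 D144045)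
theorem F462845 : act 1 n211720 = n200246 := d17_6 F402160 F345336 (iv1 D178124) (iv5 F345330) (iv4 F226765) D211720 (iv5 D200246) (iv0 F415657) F415619
theorem F462846 : act 0 n211720 = n194908 := d21_1 D211720 F394965 (iv6 D188872) D188870 (iv6 F397282) F397281 (iv1 F417127) F417124 F462838 (iv1 D211719)
def n211721 : Q := act 7 n144046
theorem D211721 : act 7 n144046 = n211721 := rfl
theorem F462847 : act 2 n211721 = n144054 := d4_1 D211721 (iv7 D144054) (iv2 F226764)
theorem F462848 : act 4 n211721 = n211014 := d11_1 D211721 (iv7 D211014) (iv4 F226765)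
theorem F462849 : act 6 n211721 = n208090 := d14_1 D211721 F447835 (iv6 D202780) F182838 D144046
theorem F462850 : act 1 n144052 = n211721 := d15_1 D144052 (iv7 D211721) F226764
theorem F462851 : act 1 n211721 = n144051 := d15_1 F462850 (iv7 F462837) F462839
def n211722 : Q := act 0 n144050
theorem D211722 : act 0 n144050 = n211722 := rfl
theorem F462852 : act 4 n211722 = n201102 := d18_1 D211722 F419094 (iv4 F448303) (iv5 F448304) F408163 (iv0 F369687) (iv4 F443916) F447827 F447821
theorem F462853 : act 3 n211722 = n200355 := d20_5 F377508 (iv1 D144155) F103422 (iv3 F226766) D211722 F416117 (iv1 F372513) F373652 (iv3 F425772) (iv1 F425775)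
theorem F462854 : act 6 n211722 = n200353 := d21_5 F340454 (iv1 D67489) D67491 D144050 D211722 (iv5 F416112) (iv1 F206815) F206812 F175974 (iv1 F340451)
theorem F462855 : act 7 n209123 = n211722 := d14_0 F462854 (iv7 F440668) F440669 (iv7 F276098) (iv6 F452365)
theorem F462856 : act 0 n211722 = n208185 := d21_10 F448282 (iv1 D208087) (iv5 D133376) (iv6 D62596) F47521 D52106 (iv5 F95020) D128557 F416112 (iv6 F462854)
def n211723 : Q := act 1 n144050
theorem D211723 : act 1 n144050 = n211723 := rfl
theorem F462857 : act 1 n211723 = n208185 := d15_1 D211723 (iv7 F462824) F462822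
theorem F462858 : act 4 n211723 = n201704 := d17_9 (iv1 D201704) (iv5 D115004) (iv1 F175394) F103899 (iv4 F209202) (iv5 F443917) F447827 F447821 D211723
theorem F462859 : act 6 n207162 = n211723 := d21_3 F443687 (iv1 F276091) F443584 (iv1 D211723) (iv6 D144050) (iv5 D67491) D67488 (iv5 F325796) F332882 (iv1 F443691)
theorem F462860 : act 2 n211723 = n209123 := d3_1 F462859 F452365 (iv2 F443585)
theorem F462861 : act 3 n191319 = n211723 := d5_5 F462858 (iv3 F451944) F451946 (iv3 F377107) F383032
def n211724 : Q := act 7 n144050
theorem D211724 : act 7 n144050 = n211724 := rfl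
theorem F462862 : act 2 n211724 = n208185 := d4_1 D211724 (iv7 F462824) F462822
theorem F462863 : act 3 n211724 = n144058 := d8_1 D211724 (iv7 D144058) (iv3 F226766)
theorem F462864 : act 4 n211724 = n200351 := d11_1 D211724 F416104 (iv4 F397830)
theorem F462865 : act 5 n211724 = n207234 := d13_1 D211724 (iv7 F462831) F447821
theorem F462866 : act 6 n211724 = n198821 := d14_1 D211724 (iv7 F409406) (iv6 F331461) F182843 D144050
theorem F462867 : act 1 n209123 = n211724 := d15_1 (iv0 F462826) (iv7 D211724) (iv2 F462822)
def n211725 : Q := act 3 n144051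
theorem D211725 : act 3 n144051 = n211725 := rfl
theorem F462868 : act 6 n211725 = n192100 := d7_2 (iv6 F331564) D211725 F385544
theorem F462869 : act 7 n211725 = n210540 := d8_2 F462837 D211725 (iv3 F462842)
theorem F462870 : act 4 n211725 = n210532 := d20_6 (iv4 D67503) (iv1 D31364) (iv4 F49631) (iv3 F103355) D144051 D211725 F457949 (iv4 F425756) F425755 (iv1 F182930)
theorem F462871 : act 2 n193475 = n211725 := d1_3 F462870 (iv2 F457947) (iv4 F393170)
theorem F462872 : act 5 n190921 = n211725 := d19_1 F391528 F462870 (iv3 F457948) (iv1 F391033) (iv5 D193797) F361676 F147055 D95442 F294189 F75226 F293180 (iv1 F135312) (iv5 D88351) F62466 D48406 D104693 (iv5 F369586) D190236 (iv3 F379156)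
theorem F462873 : act 0 n144503 = n211725 := d20_10 F462870 F457949 (iv4 F425756) F425755 (iv1 F182930) (iv3 F222898) (iv4 D139724) F321510 (iv4 F103766) (iv3 F227346)
def n211726 : Q := act 4 n144051
theorem D211726 : act 4 n144051 = n211726 := rfl
theorem F462874 : act 6 n211726 = n193215 := d10_2 (iv6 F331564) D211726 F389196
theorem F462875 : act 7 n211726 = n196763 := d11_2 F462837 D211726 (iv4 F462840)
def n211727 : Q := act 5 n144051
theorem D211727 : act 5 n144051 = n211727 := rfl
theorem F462876 : act 3 n211727 = n190921 := d6_1 D211727 F462872 (iv3 D211725)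
theorem F462877 : act 6 n211727 = n144100 := d12_2 (iv6 F331564) D211727 (iv5 F226817) (iv6 D143993) D143992
theorem F462878 : act 4 n211727 = n190937 := d19_2 D144051 D211727 (iv3 D190937) (iv1 F366331) (iv5 D128261) (iv4 D60289) (iv3 F56295) D78084 F300605 F113653 (iv3 F113652) F325046 (iv5 D50958) F38793 (iv3 F38788) F45158 F45157 (iv4 F49631) (iv3 F103355)
def n211728 : Q := act 3 n144052
theorem D211728 : act 3 n144052 = n211728 := rfl
theorem F462879 : act 6 n211728 = n190326 := d7_2 F411001 D211728 (iv3 F411000)
theorem F462880 : act 5 n187239 = n211728 := d12_5 F462879 (iv5 D190326) F147543 (iv5 F137900) D187239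
theorem F462881 : act 0 n211728 = n199131 := d21_4 F159304 (iv1 F354596) D190326 (iv6 F462879) (iv6 D199131) F383034 (iv1 F398289) (iv5 F401721) (iv6 F401727) (iv1 D194628)
def n211729 : Q := act 5 n144052
theorem D211729 : act 5 n144052 = n211729 := rfl
theorem F462882 : act 3 n211729 = n187239 := d6_1 D211729 F462880 (iv3 D211728)
theorem F462883 : act 6 n211729 = n187238 := d12_2 F411001 D211729 F369599 (iv6 F379400) (iv5 F410997)
def n211730 : Q := act 0 n144053
theorem D211730 : act 0 n144053 = n211730 := rfl
theorem F462884 : act 4 n211730 = n187357 := d20_8 (iv4 F138083) F340381 (iv4 F358455) F214425 D133380 D208093 F447848 D211730 (iv3 D187357) (iv1 D89919)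
theorem F462885 : act 5 n211730 = n200247 := d21_2 D144053 D211730 F415695 F375084 D194618 (iv5 F394529) F409918 (iv5 F410997) F411001 (iv1 D144052)
theorem F462886 : act 2 n194908 = n211730 := d2_3 F462885 F415693 (iv5 F394965)
theorem F462887 : act 6 n190039 = n211730 := d12_0 F462885 F415695 (iv5 D188869) (iv6 F160409) (iv5 F378629)
theorem F462888 : act 7 n200246 = n211730 := d13_0 F462885 (iv7 D200247) D200246
def n211731 : Q := act 1 n144053
theorem D211731 : act 1 n144053 = n211731 := rfl
theorem F462889 : act 7 n211731 = n194908 := d15_2 (iv0 D211730) D211731 F462886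
theorem F462890 : act 5 n200234 = n211731 := d21_6 (iv5 F325796) (iv1 F176120) F331481 F95011 (iv1 F357659) D200234 (iv1 D211731) (iv5 D144053) (iv6 D67492) D67488
theorem F462891 : act 2 n211731 = n200246 := d2_1 F462890 (iv5 D200246) (iv2 F415642)
theorem F462892 : act 3 n211731 = n194911 := d6_1 F462890 F394968 (iv3 F415643)
def n211732 : Q := act 7 n144053
theorem D211732 : act 7 n144053 = n211732 := rfl
theorem F462893 : act 3 n211732 = n144065 := d8_1 D211732 (iv7 D144065) (iv3 F226767)
theorem F462894 : act 5 n211732 = n144054 := d13_1 D211732 (iv7 D144054) D144053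
theorem F462895 : act 1 n200246 = n211732 := d15_1 F462845 (iv7 D211732) (iv2 F462843)
theorem F462896 : act 1 n211732 = n194908 := d15_1 F462895 (iv7 F462889) F462891
def n211733 : Q := act 3 n144055
theorem D211733 : act 3 n144055 = n211733 := rfl
def n211734 : Q := act 5 n144055
theorem D211734 : act 5 n144055 = n211734 := rfl
def n211735 : Q := act 3 n144056
theorem D211735 : act 3 n144056 = n211735 := rfl
theorem F462897 : act 4 n211735 = n191162 := d5_2 F425640 D211735 (iv3 F382446) F294906 (iv3 F370186)
theorem F462898 : act 6 n211735 = n158060 := d7_2 F425641 D211735 (iv3 F370182)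
theorem F462899 : act 0 n211735 = n205243 := d20_4 F226846 (iv1 F370188) F425640 D211735 F435577 (iv4 D201882) (iv1 F214073) D208039 F447562 (iv1 F425767)
theorem F462900 : act 5 n190188 = n211735 := d18_9 F462899 (iv4 D205243) D205241 (iv4 F435574) F381900 (iv4 F413086) (iv0 F461364) F461361 F381452
def n211736 : Q := act 5 n144056
theorem D211736 : act 5 n144056 = n211736 := rfl
theorem F462901 : act 3 n211736 = n190188 := d6_1 D211736 F462900 (iv3 D211735)
def n211737 : Q := act 0 n144057
theorem D211737 : act 0 n144057 = n211737 := rfl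
def n211738 : Q := act 1 n144057
theorem D211738 : act 1 n144057 = n211738 := rfl
theorem F462902 : act 5 n200254 = n211738 := d21_6 (iv5 D60454) (iv1 F46309) D53906 (iv6 F331496) (iv1 F176110) D200254 (iv1 D211738) (iv5 D144057) (iv6 D67493) (iv1 F95001)
def n211739 : Q := act 4 n144057
theorem D211739 : act 4 n144057 = n211739 := rfl
theorem F462903 : act 6 n211739 = n144064 := d10_2 (iv6 F226771) D211739 (iv4 D144064)
theorem F462904 : act 5 n209929 = n211739 := d12_5 F462903 F395145 F455396 (iv5 D209928) D209929
def n211740 : Q := act 7 n144057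
theorem D211740 : act 7 n144057 = n211740 := rfl
theorem F462905 : act 3 n211740 = n207234 := d8_1 D211740 (iv7 F462831) (iv3 F447822)
theorem F462906 : act 5 n211740 = n144058 := d13_1 D211740 (iv7 D144058) D144057
def n211741 : Q := act 0 n144059
theorem D211741 : act 0 n144059 = n211741 := rfl
theorem F462907 : act 2 n193517 = n211741 := d15_3 (iv0 D211741) (iv0 F389959) F390146
theorem F462908 : act 1 n193520 = n211741 := d15_0 (iv0 D211741) (iv7 F408658) F408654
theorem F462909 : act 7 n211741 = n193518 := d15_2 F390152 F462908 F390148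
theorem F462910 : act 6 n192148 = n211741 := d14_5 F462909 (iv6 F390147) (iv7 F218666) (iv6 F365459) (iv7 F385764)
def n211742 : Q := act 5 n144059
theorem D211742 : act 5 n144059 = n211742 := rfl
theorem F462911 : act 2 n211742 = n193519 := d2_1 D211742 (iv5 D193519) (iv2 F357417)
theorem F462912 : act 3 n211742 = n144060 := d6_1 D211742 (iv5 D144060) D144059
theorem F462913 : act 7 n211742 = n174674 := d13_2 F408658 D211742 (iv5 F408657)
theorem F462914 : act 4 n211742 = n211314 := d16_2 F327146 D211742 (iv5 D211314) (iv4 F410426) F410427 F359438 F295174 (iv7 D101852) (iv2 F156405)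
theorem F462915 : act 0 n211742 = n193913 := d17_2 F389959 D211742 (iv5 D193913) F157423 F74735 (iv0 F367993) D189154 (iv0 F455329) F455327
def n211743 : Q := act 4 n144060
theorem D211743 : act 4 n144060 = n211743 := rfl
theorem F462916 : act 2 n211743 = n198420 := d1_1 D211743 (iv4 F425659) F425657
theorem F462917 : act 3 n211743 = n191024 := d5_1 D211743 F381915 (iv3 F461085) (iv4 F462914) F462912
theorem F462918 : act 5 n211743 = n198417 := d16_1 D211743 F407958 (iv5 F345727) F202296 F176399 (iv4 F175997) D144062 (iv7 F425658) F425657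
def n211744 : Q := act 6 n144060
theorem D211744 : act 6 n144060 = n211744 := rfl
theorem F462919 : act 5 n211744 = n211700 := d12_1 D211744 (iv6 D211700) (iv5 F365015) F221460 D144060
theorem F462920 : act 0 n208091 = n211744 := d21_1 D208091 F462919 (iv6 D211700) (iv1 F365014) (iv6 F362324) (iv5 F176106) (iv1 F176110) (iv5 F364954) D208066 (iv1 F447834)
def n211745 : Q := act 1 n144061
theorem D211745 : act 1 n144061 = n211745 := rfl
theorem F462921 : act 7 n211745 = n209899 := d15_2 (iv0 F425922) D211745 F455291
theorem F462922 : act 4 n147769 = n211745 := d20_6 F93845 D59453 F332105 F105501 D69232 D147769 (iv1 D211745) F346565 F346564 (iv1 D126706)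
theorem F462923 : act 6 n206321 = n211745 := d21_3 (iv5 F364595) (iv1 F378776) (iv5 F440234) (iv1 D211745) (iv6 F443527) F443526 (iv1 F380631) (iv5 F361852) (iv6 F393044) (iv1 F393045)
theorem F462924 : act 2 n211745 = n208080 := d3_1 F462923 (iv6 D208080) F440236
theorem F462925 : act 5 n211745 = n194420 := d21_6 F355248 (iv1 F214418) (iv5 D133364) (iv6 F358454) (iv1 F440232) F462923 (iv1 F415960) (iv5 D200314) (iv6 D112977) D112974
theorem F462926 : act 0 n193513 = n211745 := d21_4 (iv5 F410949) F410950 (iv5 D193512) D193513 (iv6 F462923) F440234 (iv1 F379204) F379202 (iv6 F389970) (iv1 F389972)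
theorem F462927 : act 1 n202804 = n209899 := d15_1 (iv0 F447801) (iv7 F462921) F462924
def n211746 : Q := act 2 n144061
theorem D211746 : act 2 n144061 = n211746 := rfl
theorem F462928 : act 3 n211746 = n193520 := d0_2 D144061 D211746 (iv2 F408654) F408655 (iv2 F182882)
theorem F462929 : act 4 n211746 = n202399 := d1_2 (iv4 F346565) D211746 F423863
theorem F462930 : act 6 n211746 = n198464 := d3_2 F443527 D211746 (iv2 F443524)
theorem F462931 : act 7 n211746 = n193513 := d4_2 F425656 D211746 (iv2 F425653)
theorem F462932 : act 1 n211746 = n208080 := d15_0 (iv0 F447801) F425656 D211746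
theorem F462933 : act 1 n209899 = n211746 := d15_0 F462932 F447800 (iv2 F455291)
def n211747 : Q := act 5 n144061
theorem D211747 : act 5 n144061 = n211747 := rfl
theorem F462934 : act 3 n211747 = n144062 := d6_1 D211747 (iv5 D144062) D144061
theorem F462935 : act 6 n211747 = n190196 := d12_2 F443527 D211747 (iv5 F439955) F439956 (iv5 F443526)
theorem F462936 : act 0 n190153 = n211747 := d21_1 F390482 (iv5 D211747) (iv6 F443527) F443529 (iv6 D130564) D130563 (iv1 F380014) F380012 (iv6 F331350) F390484
def n211748 : Q := act 4 n144062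
theorem D211748 : act 4 n144062 = n211748 := rfl
theorem F462937 : act 5 n211748 = n198421 := d9_2 D144062 D211748 (iv4 F435197) F435202 F395621 (iv5 F168366) (iv4 F168415) D144060 D211743 F462918 F407958 (iv5 F345727) F202296 F176399 (iv4 F175997)
theorem F462938 : act 7 n211748 = n198420 := d11_2 F425658 D211748 (iv4 F425659)
theorem F462939 : act 3 n198428 = n211748 := d20_5 (iv4 F425722) (iv1 F425723) F381683 F414090 (iv1 F414088) (iv4 D211748) (iv1 F415625) F415623 F425586 (iv1 F425724)
theorem F462940 : act 6 n144158 = n211748 := d12_0 F462937 (iv6 F414110) F414109 (iv6 F212919) (iv5 F226861)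
def n211749 : Q := act 6 n144062
theorem D211749 : act 6 n144062 = n211749 := rfl
theorem F462941 : act 2 n211749 = n174670 := d3_1 D211749 (iv6 F425664) F425662
theorem F462942 : act 3 n211749 = n190196 := d7_1 D211749 (iv6 F462935) F462934
theorem F462943 : act 4 n211749 = n144158 := d10_1 D211749 F462940 (iv4 D211748)
theorem F462944 : act 5 n211749 = n174669 := d12_1 D211749 F358205 F349537 F209128 D144062
theorem F462945 : act 0 n211749 = n208092 := d21_4 F415963 (iv1 F182888) D144062 D211749 F447842 (iv5 D189835) F371803 (iv5 F381254) (iv6 F381258) (iv1 F415961)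
theorem F462946 : act 1 n211749 = n144101 := d15_1 (iv0 F462945) (iv7 F381280) (iv2 F447840)
def n211750 : Q := act 3 n144063
theorem D211750 : act 3 n144063 = n211750 := rfl
theorem F462947 : act 2 n211750 = n194414 := d0_1 D211750 F393108 (iv2 F379016) (iv3 F415969) F415968
theorem F462948 : act 5 n211750 = n193602 := d6_2 (iv5 F226773) D211750 F390415
theorem F462949 : act 6 n211750 = n190096 := d7_2 (iv6 F381258) D211750 (iv3 F381257)
theorem F462950 : act 7 n211750 = n200231 := d8_2 F226774 D211750 F415630
theorem F462951 : act 0 n209909 = n211750 := d17_2 (iv1 F390152) D209909 F462948 (iv4 D193602) D193603 F390424 (iv5 D137150) (iv0 F352560) (iv4 F390150)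
def n211751 : Q := act 4 n144063
theorem D211751 : act 4 n144063 = n211751 := rfl
theorem F462952 : act 5 n211751 = n200579 := d9_2 (iv5 F226773) D211751 (iv4 D200579) (iv5 D113242) F82647 F40161 (iv4 F82436) D112978 D200316 (iv5 F415966) (iv4 F435206) (iv5 D205156) F201915 F93057 (iv4 F175778)
theorem F462953 : act 7 n211751 = n200232 := d11_2 F226774 D211751 (iv4 D200232)
theorem F462954 : act 1 n211751 = n202833 := d18_6 D112855 F175743 (iv1 F82546) (iv4 F175778) (iv5 F226773) D211751 (iv4 D202833) F182926 (iv5 D112857)
theorem F462955 : act 3 n211751 = n187349 := d19_3 (iv1 F175781) (iv5 F226773) D211751 (iv1 D187349) D187351 F369924 (iv3 F393429) F393431 F342100 F307599 D172152 (iv1 F339282) (iv5 D125355) D125354 D205052 (iv1 F441234) (iv5 F441236) (iv4 F404511) (iv3 D197481)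
def n211752 : Q := act 0 n144064
theorem D211752 : act 0 n144064 = n211752 := rfl
theorem F462956 : act 5 n211752 = n194972 := d17_3 D194949 (iv5 F395145) D211752 F395251 (iv5 D110501) D110500 (iv5 F345715) (iv0 F395119) F395117
theorem F462957 : act 4 n211752 = n144134 := d18_1 D211752 (iv1 F404493) (iv4 F455825) (iv5 D210029) (iv4 F356053) F356058 (iv4 F392647) F395143 (iv5 F395145)
theorem F462958 : act 2 n187257 = n211752 := d15_3 (iv0 D211752) F404496 F369871
theorem F462959 : act 7 n211752 = n200224 := d4_2 F369871 F462958 F415598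
theorem F462960 : act 6 n187340 = n211752 := d14_5 F462959 F415601 (iv7 F254108) F369653 (iv7 F369888)
def n211753 : Q := act 6 n144065
theorem D211753 : act 6 n144065 = n211753 := rfl
theorem F462961 : act 4 n211753 = n190030 := d10_1 D211753 (iv6 F435777) F435776
theorem F462962 : act 5 n211753 = n191041 := d12_1 D211753 (iv6 F381956) (iv5 D133379) F103408 (iv5 F226775)
def n211754 : Q := act 5 n144066
theorem D211754 : act 5 n144066 = n211754 := rfl
theorem F462963 : act 3 n211754 = n144067 := d6_1 D211754 (iv5 D144067) D144066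
theorem F462964 : act 6 n211754 = n190938 := d12_2 (iv6 F406832) D211754 (iv5 F392838) (iv6 F393793) (iv5 D194605)
theorem F462965 : act 7 n211754 = n187298 := d13_2 F425674 D211754 F425676
theorem F462966 : act 0 n211754 = n191045 := d21_1 D211754 F393315 (iv6 F393314) (iv1 D103732) D103734 F356918 (iv1 F402389) (iv5 D196941) D196942 F402397
theorem F462967 : act 4 n187301 = n211754 := d11_3 F462965 F369750 D187301
def n211755 : Q := act 4 n144067
theorem D211755 : act 4 n144067 = n211755 := rfl
theorem F462968 : act 2 n211755 = n187238 := d1_1 D211755 (iv4 F415530) F415527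
theorem F462969 : act 5 n211755 = n194283 := d9_2 D144067 D211755 F392647 (iv5 D169900) F326907 F93120 D67503 D144069 F361798 (iv5 F160605) (iv4 F395117) (iv5 F395120) F176552 (iv5 D67500) D67499
theorem F462970 : act 7 n211755 = n190260 := d11_2 F425680 D211755 (iv4 F425681)
theorem F462971 : act 0 n211755 = n190046 := d17_0 (iv5 F394511) (iv1 F395249) (iv5 F369648) (iv4 F404500) F404501 F175746 D200220 F415582 D211755
theorem F462972 : act 1 n211755 = n190258 := d18_6 (iv1 D67495) F49631 D31363 D67499 D144067 D211755 (iv4 F415623) F415625 (iv5 D144062)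
def n211756 : Q := act 6 n144067
theorem D211756 : act 6 n144067 = n211756 := rfl
theorem F462973 : act 3 n211756 = n190938 := d7_1 D211756 (iv6 F462964) F462963
theorem F462974 : act 7 n211756 = n190937 := d14_2 F425680 D211756 F381610 (iv7 F369748) (iv6 F425679)
def n211757 : Q := act 6 n144069
theorem D211757 : act 6 n144069 = n211757 := rfl
theorem F462975 : act 2 n211757 = n187297 := d3_1 D211757 (iv6 F425679) F425677
theorem F462976 : act 3 n211757 = n190227 := d7_1 D211757 F379124 F361797
theorem F462977 : act 4 n211757 = n144099 := d10_1 D211757 F425578 (iv4 F361798)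
theorem F462978 : act 5 n211757 = n190637 := d12_1 D211757 (iv6 F414020) F414018 F207790 D144069
theorem F462979 : act 0 n211757 = n190954 := d21_4 F404495 (iv1 F182930) D144069 D211757 F381685 (iv5 F251668) (iv1 D103805) (iv5 F138060) (iv6 F366968) (iv1 F404493)
theorem F462980 : act 7 n211757 = n190955 := d15_2 D190954 (iv0 F462979) (iv2 D190955)
theorem F462981 : act 0 n190953 = n211757 := d17_0 F462978 (iv1 F394555) D200944 F418451 (iv5 F410894) (iv0 F410898) (iv5 F425721) (iv0 D202820) (iv4 F381680)
def n211758 : Q := act 6 n144071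
theorem D211758 : act 6 n144071 = n211758 := rfl
theorem F462982 : act 2 n211758 = n202005 := d3_1 D211758 (iv6 D202005) (iv2 F392462)
theorem F462983 : act 4 n211758 = n158861 := d10_1 D211758 (iv6 F425732) F425735
theorem F462984 : act 7 n211758 = n202172 := d14_2 (iv7 F392460) D211758 F423118 (iv7 F393249) F393248
theorem F462985 : act 0 n211758 = n201898 := d21_4 F336217 (iv1 F440607) F440609 D211758 F422284 (iv5 D141410) (iv1 F181465) D116544 F330559 (iv1 F206778)
theorem F462986 : act 0 n202173 = n211758 := d21_4 F320582 (iv1 F320434) (iv5 F443613) F443611 (iv6 D211758) (iv5 F440609) (iv1 D206401) (iv5 D128563) F95022 D112963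
def n211759 : Q := act 6 n144072
theorem D211759 : act 6 n144072 = n211759 := rfl
theorem F462987 : act 2 n211759 = n144073 := d3_1 D211759 (iv6 D144073) D144072
theorem F462988 : act 3 n211759 = n198042 := d7_1 D211759 F406590 (iv3 F226784)
theorem F462989 : act 4 n211759 = n144084 := d10_1 D211759 (iv6 D144084) (iv4 F226785)
def n211760 : Q := act 0 n144073
theorem D211760 : act 0 n144073 = n211760 := rfl
theorem F462990 : act 6 n211760 = n156044 := d21_5 F330553 D115465 F365076 D144073 D211760 F416801 F416799 (iv5 D200301) (iv6 F206781) (iv1 F206785)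
def n211761 : Q := act 1 n144073
theorem D211761 : act 1 n144073 = n211761 := rfl
def n211762 : Q := act 5 n144073
theorem D211762 : act 5 n144073 = n211762 := rfl
theorem F462991 : act 3 n211762 = n144075 := d6_1 D211762 (iv5 D144075) (iv3 F226790)
def n211763 : Q := act 7 n144073
theorem D211763 : act 7 n144073 = n211763 := rfl
theorem F462992 : act 3 n211763 = n144076 := d8_1 D211763 (iv7 D144076) (iv3 F226790)
theorem F462993 : act 4 n211763 = n144092 := d11_1 D211763 (iv7 D144092) (iv4 F226791)
theorem F462994 : act 6 n211763 = n202014 := d14_1 D211763 (iv7 D202014) (iv6 D115324) (iv7 F103395) D144073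
def n211764 : Q := act 3 n144074
theorem D211764 : act 3 n144074 = n211764 := rfl
theorem F462995 : act 4 n211764 = n144439 := d5_2 (iv4 F226794) D211764 (iv3 D144439) (iv4 F110995) (iv3 F110990)
theorem F462996 : act 6 n211764 = n156061 := d7_2 F226796 D211764 F245201
theorem F462997 : act 7 n211764 = n155987 := d8_2 (iv7 F226793) D211764 F245045
theorem F462998 : act 0 n211764 = n156091 := d20_4 (iv4 D74253) (iv1 F110994) (iv4 F226794) D211764 (iv3 F438296) F438297 F409608 (iv4 F403862) F403861 F167104
theorem F462999 : act 4 n156264 = n197414 := d20_0 (iv1 F404194) (iv4 F462995) (iv3 D211764) (iv1 D144074) (iv3 F226790) F226791 D144089 (iv4 F365084) F245578 D156264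
theorem F463000 : act 7 n211304 = n156264 := d11_0 F462999 F422557 (iv4 F461047)
theorem F463001 : act 3 n156264 = n211309 := d8_1 F463000 (iv7 D211309) (iv3 F461046)
theorem F463002 : act 5 n156264 = n204053 := d13_1 F463000 F430913 (iv5 F461048)
theorem F463003 : act 0 n156240 = n211309 := d20_4 F103397 F98343 (iv4 F179610) (iv3 F245556) (iv3 F463001) F462999 (iv1 F404194) (iv4 F462995) (iv3 D211764) (iv1 D144074)
theorem F463004 : act 1 n211764 = n202046 := d15_1 (iv0 F462998) (iv7 D202046) (iv2 F349437)
theorem F463005 : act 2 n156093 = n211764 := d4_3 F462997 F245044 D156093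
theorem E103979 : n202046 = n156090 := (c15_1 F463004 (iv0 D156090) D156093 F463005)
theorem F463006 : act 0 n156090 = n211764 := (sb E103979 (iv1 F463004))
theorem F463007 : act 7 n156090 = n115345 := (sb E103979 (iv7 D202046))
def n211765 : Q := act 5 n144074
theorem D211765 : act 5 n144074 = n211765 := rfl
theorem F463008 : act 2 n211765 = n156100 := d2_1 D211765 F245267 F226795
theorem F463009 : act 4 n211765 = n183848 := d9_1 D211765 (iv5 D183848) (iv4 F335796) (iv5 D130914) F95919 F46719 (iv4 F53461) D74251 (iv4 F339550) (iv5 D101016) (iv4 F155621) F155622 F327590 (iv5 F110991) (iv4 F226794)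
theorem F463010 : act 7 n211765 = n155988 := d13_2 (iv7 F226793) D211765 (iv5 D155988)
theorem F463011 : act 0 n211765 = n156098 := d17_2 (iv1 F226792) D211765 (iv5 F245264) (iv4 F410886) F410888 (iv0 F326744) F326746 F203864 (iv4 F203866)
theorem F463012 : act 1 n211765 = n156097 := d17_6 F99967 (iv5 F102025) F102022 (iv5 F110991) (iv4 F226794) D211765 F245263 F387035 (iv4 D134485)
def n211766 : Q := act 0 n144075
theorem D211766 : act 0 n144075 = n211766 := rfl
theorem F463013 : act 5 n211766 = n201851 := d17_1 D211766 F422062 (iv5 F386206) (iv4 D192250) (iv5 F367773) (iv0 F449701) F449698 (iv0 F386160) F386158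
theorem F463014 : act 4 n211766 = n183852 := d18_1 D211766 (iv1 F285662) (iv4 F359532) (iv5 D156103) (iv4 D74253) (iv0 D34066) (iv4 F53461) (iv0 F111093) D144075
theorem F463015 : act 2 n152799 = n211766 := d15_3 (iv0 D211766) (iv0 F423960) F423957
theorem F463016 : act 1 n156095 = n211766 := d15_0 (iv0 D211766) (iv7 F386185) F386183
theorem F463017 : act 7 n211766 = n185028 := d15_2 F423959 F463016 (iv2 F423956)
theorem F463018 : act 6 n211766 = n152330 := d3_2 D152799 F463015 F239493
theorem F463019 : act 6 n203623 = n192248 := d21_5 (iv5 D119632) (iv1 D55043) D55045 D119641 D203623 (iv5 F401399) (iv1 F422063) (iv5 F463013) F463018 F239495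
theorem F463020 : act 4 n192249 = n203623 := d10_3 F463019 (iv4 D192248) D192249
def n211767 : Q := act 6 n144083
theorem D211767 : act 6 n144083 = n211767 := rfl
theorem F463021 : act 2 n211767 = n144088 := d3_1 D211767 (iv6 D144088) (iv2 F226804)
theorem F463022 : act 3 n211767 = n198822 := d7_1 D211767 (iv6 F419743) F419747
theorem F463023 : act 0 n211767 = n186398 := d21_4 (iv5 F226839) (iv1 F182862) D144083 D211767 F367385 (iv5 D112983) D112980 F175947 (iv6 F365022) F365090
theorem F463024 : act 7 n208183 = n211767 := d8_0 F463022 F409410 D208183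
def n211768 : Q := act 1 n144084
theorem D211768 : act 1 n144084 = n211768 := rfl
theorem F463025 : act 1 n211768 = n144092 := d15_1 D211768 (iv7 D144092) (iv2 F226805)
theorem F463026 : act 7 n211768 = n144089 := d15_2 (iv0 F443601) D211768 (iv2 F443599)
theorem F463027 : act 6 n149180 = n211768 := d21_3 F353147 (iv1 D149178) D149180 (iv1 D211768) (iv6 D144084) D144083 (iv1 F365104) (iv5 D128571) D128572 (iv1 F408126)
theorem F463028 : act 2 n211768 = n144090 := d3_1 F463027 (iv6 F443608) F428501
def n211769 : Q := act 5 n144084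
theorem D211769 : act 5 n144084 = n211769 := rfl
theorem F463029 : act 2 n211769 = n144091 := d2_1 D211769 (iv5 D144091) (iv2 F226805)
def n211770 : Q := act 7 n144084
theorem D211770 : act 7 n144084 = n211770 := rfl
theorem F463030 : act 2 n211770 = n144092 := d4_1 D211770 (iv7 D144092) (iv2 F226805)
theorem F463031 : act 3 n211770 = n208090 := d8_1 D211770 F447835 F425558
theorem F463032 : act 1 n144090 = n211770 := d15_1 D144090 (iv7 D211770) F226805
theorem F463033 : act 1 n211770 = n144089 := d15_1 F463032 (iv7 F463026) F463028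
def n211771 : Q := act 6 n144085
theorem D211771 : act 6 n144085 = n211771 := rfl
theorem F463034 : act 2 n211771 = n198960 := d3_1 D211771 F410070 F365086
theorem F463035 : act 3 n211771 = n200281 := d7_1 D211771 (iv6 F425543) F425542
theorem F463036 : act 4 n211771 = n200425 := d10_1 D211771 (iv6 D200425) (iv4 F365087)
theorem F463037 : act 5 n211771 = n149215 := d12_1 D211771 (iv6 D149215) D149214 (iv6 F408122) F365089
def n211772 : Q := act 0 n144087
theorem D211772 : act 0 n144087 = n211772 := rfl
theorem F463038 : act 5 n211772 = n194059 := d17_1 D211772 F391908 D198467 F408116 (iv5 D128573) F182818 F365089 (iv0 D144085) D144087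
theorem F463039 : act 3 n194060 = n211772 := d6_3 F463038 (iv3 D194059) D194060
theorem F463040 : act 7 n209913 = n211772 := d13_0 F463038 F391907 (iv5 F455340)
def n211773 : Q := act 6 n144087
theorem D211773 : act 6 n144087 = n211773 := rfl
theorem F463041 : act 3 n211773 = n180630 := d7_1 D211773 (iv6 F365091) F226837
theorem F463042 : act 4 n211773 = n144088 := d10_1 D211773 (iv6 D144088) D144087
theorem F463043 : act 5 n211773 = n180629 := d12_1 D211773 F408744 (iv5 D198658) D198659 (iv5 F408749)
def n211774 : Q := act 0 n144088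
theorem D211774 : act 0 n144088 = n211774 := rfl
theorem F463044 : act 4 n211774 = n186423 := d20_8 F306989 (iv1 F226697) (iv4 F382653) (iv3 F382655) F373675 (iv3 F463041) F463042 D211774 (iv3 F350529) (iv1 F306988)
theorem F463045 : act 6 n211774 = n200319 := d21_5 F365103 (iv1 D67510) D67512 D144088 D211774 (iv5 D200319) F175952 F82441 D112945 (iv1 F365027)
theorem F463046 : act 2 n186398 = n211774 := d15_3 (iv0 D211774) (iv0 F416422) (iv7 F289175)
theorem F463047 : act 1 n208183 = n211774 := d18_6 (iv1 F250157) (iv4 F406782) (iv1 F406784) (iv4 F174602) (iv5 F413844) (iv4 F448279) F463044 (iv0 F382065) (iv5 D176822)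
def n211775 : Q := act 5 n144088
theorem D211775 : act 5 n144088 = n211775 := rfl
theorem F463048 : act 3 n211775 = n144095 := d6_1 D211775 (iv5 D144095) (iv3 F226806)
theorem F463049 : act 6 n211775 = n144091 := d12_2 D144088 D211775 (iv5 D144091) (iv6 D67513) D67512
def n211776 : Q := act 7 n144088
theorem D211776 : act 7 n144088 = n211776 := rfl
theorem F463050 : act 2 n211776 = n208183 := d4_1 D211776 F463024 F463021
theorem F463051 : act 3 n211776 = n144096 := d8_1 D211776 (iv7 D144096) (iv3 F226806)
theorem F463052 : act 0 n186398 = n211776 := d20_4 F359561 (iv1 D88785) D88786 D186398 F463051 (iv4 F226846) (iv1 F425762) (iv4 F425764) F425707 F379696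
def n211777 : Q := act 3 n144089
theorem D211777 : act 3 n144089 = n211777 := rfl
theorem F463053 : act 2 n211777 = n200020 := d0_1 D211777 F425907 (iv2 F425906) (iv3 F443600) F443599
theorem F463054 : act 4 n211777 = n197271 := d5_2 F365084 D211777 F403801 F167083 (iv3 F245578)
theorem F463055 : act 6 n211777 = n197270 := d7_2 (iv6 F365083) D211777 F403797
theorem F463056 : act 5 n198480 = n211777 := d21_2 F393847 (iv1 F408129) F463055 (iv1 F403800) F174601 (iv5 F408763) (iv1 F408764) (iv5 F408607) (iv6 D198473) (iv1 F393850)
def n211778 : Q := act 5 n144089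
theorem D211778 : act 5 n144089 = n211778 := rfl
theorem F463057 : act 3 n211778 = n198480 := d6_1 D211778 F463056 (iv3 D211777)
theorem F463058 : act 4 n211778 = n206824 := d19_2 D144089 D211778 F442325 (iv1 F437491) (iv5 F446233) F446234 F217863 (iv1 F164668) (iv5 F216102) F216101 (iv3 F441037) F441039 (iv5 D196061) (iv4 D106592) (iv3 F168068) (iv1 D60487) F46341 (iv4 F49637) (iv3 F103401)
theorem F463059 : act 0 n208096 = n211778 := d19_0 (iv5 D211778) (iv4 F365084) F245578 D156264 F463002 (iv4 D204053) F196225 D122567 F302310 F126394 F298991 F298487 F118984 (iv4 F127829) D83464 D174667 (iv5 F447853) (iv4 D208097) D208096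
def n211779 : Q := act 4 n144090
theorem D211779 : act 4 n144090 = n211779 := rfl
theorem F463060 : act 3 n211779 = n152754 := d5_1 D211779 F458976 (iv3 F458977) F425913 F443607
theorem F463061 : act 6 n211779 = n152751 := d10_2 F443608 D211779 F428504
def n211780 : Q := act 5 n144090
theorem D211780 : act 5 n144090 = n211780 := rfl
theorem F463062 : act 6 n211780 = n206194 := d12_2 F443608 D211780 (iv5 D206194) F366432 (iv5 F428502)
def n211781 : Q := act 0 n144091
theorem D211781 : act 0 n144091 = n211781 := rfl
def n211782 : Q := act 1 n144091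
theorem D211782 : act 1 n144091 = n211782 := rfl
def n211783 : Q := act 4 n144091
theorem D211783 : act 4 n144091 = n211783 := rfl
theorem F463063 : act 5 n209055 = n211783 := d19_1 F452052 (iv4 D211783) F226807 D144099 (iv5 F452086) (iv4 D209067) F218172 (iv1 F220489) F220486 (iv4 F211972) D207666 F445922 F441800 F418102 F176703 D113541 F363271 (iv4 F445504) (iv3 F446600)
theorem F463064 : act 3 n211783 = n209056 := d6_1 F463063 (iv5 D209056) D209055
def n211784 : Q := act 7 n144091
theorem D211784 : act 7 n144091 = n211784 := rfl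
theorem F463065 : act 3 n211784 = n144102 := d8_1 D211784 (iv7 D144102) (iv3 F226807)
theorem F463066 : act 5 n211784 = n144092 := d13_1 D211784 (iv7 D144092) D144091
def n211785 : Q := act 5 n144093
theorem D211785 : act 5 n144093 = n211785 := rfl
theorem F463067 : act 3 n211785 = n194901 := d6_1 D211785 F394938 F415639
theorem F463068 : act 6 n211785 = n211731 := d12_2 (iv6 F415638) D211785 (iv5 F462890) (iv6 D200234) D200233
theorem F463069 : act 7 n211785 = n194900 := d13_2 F415640 D211785 F394935
theorem F463070 : act 0 n211785 = n211739 := d17_2 D144093 D211785 (iv5 F462904) F455397 (iv5 F381950) (iv0 F394953) F394952 (iv0 D144130) F103419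
def n211786 : Q := act 3 n144094
theorem D211786 : act 3 n144094 = n211786 := rfl
theorem F463071 : act 2 n211786 = n185604 := d0_1 D211786 F287925 (iv2 F138316) (iv3 F370186) F370185
theorem F463072 : act 6 n211786 = n185599 := d7_2 F370181 D211786 (iv3 F370177)
theorem F463073 : act 0 n211786 = n209904 := d21_4 F356262 (iv1 F138230) D185599 (iv6 F463072) (iv6 D209904) (iv5 D137076) (iv1 F218669) F331273 (iv6 D181931) D181928
def n211787 : Q := act 5 n144094
theorem D211787 : act 5 n144094 = n211787 := rfl
theorem F463074 : act 2 n211787 = n194900 := d2_1 D211787 F394935 F370185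
theorem F463075 : act 6 n211787 = n194898 := d12_2 F370181 D211787 (iv5 D194898) (iv6 F367051) D187398
theorem F463076 : act 0 n211739 = n211787 := d21_10 (iv5 D211787) (iv1 D144094) D144095 F226809 D144099 F425578 (iv5 F160605) D194949 (iv5 F395145) (iv6 F462903)
def n211788 : Q := act 0 n144095
theorem D211788 : act 0 n144095 = n211788 := rfl
def n211789 : Q := act 1 n144095
theorem D211789 : act 1 n144095 = n211789 := rfl
theorem F463077 : act 5 n206393 = n211789 := d21_6 (iv5 D60457) (iv1 D28714) D28716 D60465 D128557 D206393 (iv1 D211789) (iv5 D144095) (iv6 D67514) (iv1 F95008)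
def n211790 : Q := act 4 n144095
theorem D211790 : act 4 n144095 = n211790 := rfl
theorem F463078 : act 6 n211790 = n144101 := d10_2 (iv6 F226809) D211790 (iv4 D144101)
def n211791 : Q := act 7 n144095
theorem D211791 : act 7 n144095 = n211791 := rfl
theorem F463079 : act 5 n211791 = n144096 := d13_1 D211791 (iv7 D144096) D144095
theorem F463080 : act 6 n211791 = n191040 := d14_1 D211791 (iv7 F381953) F381279 (iv7 D144102) (iv6 F226809)
def n211792 : Q := act 6 n144098
theorem D211792 : act 6 n144098 = n211792 := rfl
theorem F463081 : act 2 n211792 = n206175 := d3_1 D211792 F439581 (iv2 F226812)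
theorem F463082 : act 3 n211792 = n186924 := d7_1 D211792 F368523 F365374
theorem F463083 : act 5 n211792 = n186921 := d12_1 D211792 (iv6 D186921) F137068 (iv6 F329595) D144098
theorem F463084 : act 0 n201189 = n211792 := d17_2 (iv1 F177604) D201189 F463083 F368512 (iv5 D90666) D90665 F367165 F251647 F193566
def n211793 : Q := act 1 n144101
theorem D211793 : act 1 n144101 = n211793 := rfl
theorem F463085 : act 1 n211793 = n208092 := d15_1 D211793 F447843 F425585
theorem F463086 : act 7 n211793 = n174670 := d15_2 F462946 D211793 (iv2 F462941)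
theorem F463087 : act 5 n211793 = n173325 := d17_7 F445047 (iv5 F394536) (iv1 F206856) (iv5 F207115) (iv4 F441351) F441352 D211793 (iv0 F435773) (iv4 F445049)
theorem F463088 : act 4 n211793 = n144159 := d18_7 (iv1 F112215) (iv4 D67518) (iv1 D31371) (iv4 F49637) D67516 D144101 D211793 (iv0 F247459) (iv5 D157242)
theorem F463089 : act 3 n173326 = n211793 := d19_19 (iv1 D211793) (iv5 F441352) F441351 F361719 D191573 F383876 (iv4 D101506) (iv3 F156307) D193353 (iv5 F424558) (iv4 D202572) F332422 F227763 F211145 F322782 (iv3 D83588) D83586 D175022 F273927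
def n211794 : Q := act 3 n144101
theorem D211794 : act 3 n144101 = n211794 := rfl
theorem F463090 : act 4 n211794 = n209056 := d5_2 D144101 D211794 (iv3 F463064) (iv4 D211783) F226807
theorem F463091 : act 5 n211794 = n204896 := d6_2 F441352 D211794 (iv3 F441350)
theorem F463092 : act 0 n211794 = n198455 := d19_4 (iv1 D67515) D67516 D144101 D211794 (iv5 D198455) (iv4 F171175) F171174 F80451 D108836 D197988 F406405 (iv1 F226140) D143498 F390683 (iv3 D193684) (iv1 D102232) (iv5 D47452) (iv4 F74640) (iv3 F329594)
def n211795 : Q := act 6 n144104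
theorem D211795 : act 6 n144104 = n211795 := rfl
theorem F463093 : act 3 n211795 = n190287 := d7_1 D211795 F379294 F369859
theorem F463094 : act 5 n211795 = n191107 := d12_1 D211795 (iv6 F415554) F415553 F175717 D144104
theorem F463095 : act 7 n191106 = n211795 := d13_0 F463094 (iv7 D191107) D191106
theorem F463096 : act 0 n190268 = n211795 := d17_2 (iv1 F373908) D190268 F463094 F382253 F373857 F288214 F142874 F142197 (iv4 F373906)
theorem F463097 : act 1 n190267 = n211795 := d17_6 F371807 (iv5 D187907) F369339 F369338 F251678 D190267 F463094 F382255 (iv4 D189290)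
def n211796 : Q := act 0 n144107
theorem D211796 : act 0 n144107 = n211796 := rfl
theorem F463098 : act 5 n211796 = n197245 := d17_1 D211796 (iv1 F403719) F167243 (iv4 F361837) (iv5 F392705) F425699 (iv5 D202812) F182903 D144107
theorem F463099 : act 4 n211796 = n209196 := d18_1 D211796 F452674 F425889 (iv5 F423241) (iv4 D202206) (iv0 D115465) (iv4 F179736) D202188 (iv5 F423167)
theorem F463100 : act 2 n197429 = n211796 := d15_3 (iv0 D211796) (iv0 F410801) (iv7 F404261)
theorem F463101 : act 1 n144112 = n211796 := d15_0 (iv0 D211796) (iv7 F425685) F425684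
theorem F463102 : act 7 n211796 = n197432 := d15_2 (iv0 F404250) F463101 F404266
theorem F463103 : act 3 n205933 = n211796 := d20_3 F161959 D126781 D205933 (iv1 F463101) (iv3 F227186) (iv4 F437980) F437979 (iv4 F454873) (iv3 D209765) F220069
theorem F463104 : act 6 n202187 = n209666 := d21_3 (iv5 F463098) (iv1 F463101) (iv5 F423165) (iv1 D209666) (iv6 D136784) (iv5 D64309) F48724 D49893 D108035 D197245
def n211797 : Q := act 3 n144107
theorem D211797 : act 3 n144107 = n211797 := rfl
theorem F463105 : act 2 n211797 = n211019 := d0_1 D211797 F459772 F396738 (iv3 F425693) F425688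
theorem F463106 : act 4 n211797 = n202453 := d5_2 D144107 D211797 (iv3 D202453) (iv4 F226824) (iv3 D144106)
theorem F463107 : act 7 n211797 = n211010 := d8_2 F425685 D211797 F459739
theorem F463108 : act 0 n211797 = n197849 := d20_4 (iv4 D67522) D67519 D144107 D211797 F406018 (iv4 F423684) (iv1 F458644) F458641 (iv3 F422762) (iv1 D144119)
theorem F463109 : act 0 n197845 = n211797 := d20_4 (iv4 F396771) F412758 (iv4 F458087) F458088 (iv3 D211797) (iv4 D144107) (iv1 F182903) (iv4 F396800) F396799 F396775
def n211798 : Q := act 5 n144109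
theorem D211798 : act 5 n144109 = n211798 := rfl
theorem F463110 : act 2 n211798 = n176823 := d2_1 D211798 (iv5 F392966) F392964
theorem F463111 : act 6 n211798 = n158878 := d12_2 D144109 D211798 (iv5 F362553) (iv6 F362555) (iv5 D144108)
theorem F463112 : act 7 n211798 = n194961 := d13_2 F392954 D211798 F395194
theorem F463113 : act 0 n194966 = n211798 := d21_10 (iv5 D211798) F361842 (iv5 F359250) (iv6 F359249) F219352 (iv6 F382073) F382072 (iv1 F381994) F382005 (iv6 F395207)
theorem F463114 : act 1 n158852 = n211798 := d15_0 (iv0 F463113) (iv7 F425854) F425852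
def n211799 : Q := act 6 n144115
theorem D211799 : act 6 n144115 = n211799 := rfl
theorem F463115 : act 2 n211799 = n144121 := d3_1 D211799 (iv6 D144121) (iv2 F226826)
theorem F463116 : act 4 n211799 = n144117 := d10_1 D211799 (iv6 D144117) D144115
theorem F463117 : act 0 n195348 = n211799 := d21_4 (iv5 D48797) D48794 D105535 D195348 (iv6 D211799) (iv5 F416360) (iv1 D200421) (iv5 F219383) (iv6 D136315) F99694
def n211800 : Q := act 6 n144116
theorem D211800 : act 6 n144116 = n211800 := rfl
theorem F463118 : act 2 n211800 = n144125 := d3_1 D211800 (iv6 D144125) (iv2 F226828)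
theorem F463119 : act 3 n211800 = n188485 := d7_1 D211800 (iv6 F425742) F425738
theorem F463120 : act 4 n211800 = n199862 := d10_1 D211800 (iv6 F413849) F365102
theorem F463121 : act 0 n211800 = n176901 := d21_4 (iv5 F382401) (iv1 F182900) D144116 D211800 F410095 (iv5 F420812) (iv1 D200447) (iv5 F416376) (iv6 D200425) (iv1 F382400)
theorem F463122 : act 0 n176898 = n211800 := d18_2 D84327 D176898 F463120 F413846 F326846 F254181 (iv4 D84319) (iv0 D38880) D38883
theorem F463123 : act 6 n189724 = n176898 := d21_3 F289213 (iv1 F258605) (iv5 F443835) F463122 (iv6 D211800) (iv5 D144116) (iv1 F182904) (iv5 F382423) F382424 F382065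
theorem F463124 : act 4 n176899 = n189724 := d10_3 F463123 (iv4 D176898) D176899
def n211801 : Q := act 5 n144117
theorem D211801 : act 5 n144117 = n211801 := rfl
theorem F463125 : act 2 n211801 = n144128 := d2_1 D211801 (iv5 D144128) (iv2 F226829)
theorem F463126 : act 0 n200438 = n211801 := d21_7 (iv5 F382423) (iv1 F382425) (iv5 D113100) F82538 D52207 D113109 D200438 (iv5 D211801) (iv6 D144117) (iv1 F182904)
def n211802 : Q := act 5 n144119
theorem D211802 : act 5 n144119 = n211802 := rfl
theorem F463127 : act 2 n211802 = n202206 := d2_1 D211802 F423241 F396806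
theorem F463128 : act 3 n211802 = n195420 := d6_1 D211802 F423223 (iv3 F422762)
theorem F463129 : act 4 n211802 = n202203 := d9_1 D211802 F423228 F226785 D144083 (iv4 F461668) F461669 F227340 F422702 (iv4 D202009) (iv5 D115323) (iv4 F85021) D116981 D202794 F425617 F226832
theorem F463130 : act 7 n211802 = n202208 := d13_2 (iv7 F396805) D211802 F423251
theorem F463131 : act 0 n211802 = n198384 := d17_2 (iv1 F396807) D211802 (iv5 D198384) F169246 (iv5 F103443) (iv0 F340026) F367029 F182905 (iv4 F396800)
theorem F463132 : act 6 n211802 = n205929 := d21_3 F411770 (iv1 F396807) D211802 (iv1 D205929) (iv6 D126772) (iv5 D59487) F45732 D51292 D111206 D199339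
theorem F463133 : act 0 n195551 = n211802 := d21_1 (iv5 F397321) (iv5 D211802) (iv6 F427514) (iv1 F427515) (iv6 F438732) F438731 F462550 F462549 (iv6 D195559) (iv1 F219378)
def n211803 : Q := act 6 n144120
theorem D211803 : act 6 n144120 = n211803 := rfl
theorem F463134 : act 3 n211803 = n195423 := d7_1 D211803 (iv6 D195423) (iv3 F226833)
theorem F463135 : act 4 n211803 = n202356 := d10_1 D211803 (iv6 D202356) F226834
theorem F463136 : act 0 n211803 = n202034 := d21_4 (iv5 D211802) (iv1 D144119) D144120 D211803 (iv6 D202034) D202033 (iv1 F426656) (iv5 D195550) D195551 F463133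
def n211804 : Q := act 0 n144121
theorem D211804 : act 0 n144121 = n211804 := rfl
theorem F463137 : act 3 n211804 = n210800 := d20_5 F396750 (iv1 D109272) (iv4 F169262) (iv3 F226835) D211804 (iv4 D210800) (iv1 F223019) (iv4 F223036) F223035 (iv1 F396748)
theorem F463138 : act 4 n211804 = n198650 := d20_8 F425929 F322272 D139724 F222898 F103387 (iv3 F103418) (iv4 F226836) D211804 F425937 (iv1 F425938)
theorem F463139 : act 6 n210567 = n211804 := d10_0 F463138 F408702 (iv4 F458063)
theorem F463140 : act 7 n195348 = n211804 := d11_0 F463138 (iv7 D198650) (iv4 F396793)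
def n211805 : Q := act 5 n144121
theorem D211805 : act 5 n144121 = n211805 := rfl
theorem F463141 : act 3 n211805 = n198388 := d6_1 D211805 (iv5 D198388) (iv3 F226835)
def n211806 : Q := act 7 n144121
theorem D211806 : act 7 n144121 = n211806 := rfl
theorem F463142 : act 3 n211806 = n197306 := d8_1 D211806 F403912 (iv3 F226835)
theorem F463143 : act 4 n211806 = n144129 := d11_1 D211806 (iv7 D144129) (iv4 F226836)
theorem F463144 : act 6 n211806 = n197304 := d14_1 D211806 F403908 (iv6 D195354) F162062 D144121
theorem F463145 : act 1 n195348 = n211806 := d15_1 (iv0 F463117) (iv7 D211806) (iv2 F463115)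
theorem F463146 : act 0 n195336 = n210805 := d20_4 (iv4 D195342) (iv1 D105532) (iv4 F162040) (iv3 F396744) F458863 F415503 (iv1 F414073) (iv4 F463143) F463142 (iv1 F403913)
def n211807 : Q := act 0 n144125
theorem D211807 : act 0 n144125 = n211807 := rfl
theorem F463147 : act 4 n211807 = n158903 := d18_3 F373675 F365096 D211807 (iv5 F254080) D164090 F258619 D180446 F280850 D188491
theorem F463148 : act 2 n176901 = n211807 := d1_3 F463147 F257977 D176901
theorem F463149 : act 7 n176898 = n211807 := d11_0 F463147 (iv7 F257976) D176898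
theorem F463150 : act 5 n204740 = n211807 := d16_1 D204740 F463147 (iv5 F254080) D164090 F258618 (iv4 D124293) D124294 (iv7 F327526) F327525
def n211808 : Q := act 1 n144125
theorem D211808 : act 1 n144125 = n211808 := rfl
theorem F463151 : act 7 n211808 = n176901 := d15_2 (iv0 D211807) D211808 F463148
theorem F463152 : act 4 n211808 = n158904 := d18_7 (iv1 F113713) (iv4 F122831) (iv1 F254228) (iv4 F132250) D180630 F365096 D211808 F250196 (iv5 D84326)
theorem F463153 : act 6 n176831 = n211808 := d21_3 F136172 D164083 (iv5 F414784) (iv1 D211808) (iv6 D144125) (iv5 D67523) D67519 D144108 F362555 (iv1 D186422)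
theorem F463154 : act 2 n211808 = n176898 := d3_1 F463153 (iv6 F463123) F443764
theorem F463155 : act 5 n194760 = n211808 := d9_0 F463152 (iv5 F254079) (iv4 F120002) F254081 F122759 D124298 D204740 F463150 F463147 (iv5 F254080) D164090 F258618 (iv4 D124293) D124294 F394371
theorem F463156 : act 3 n211808 = n194762 := d6_1 F463155 (iv5 D194762) D194760
theorem F463157 : act 3 n207608 = n176831 := d7_3 F463153 F463156 (iv6 F445655)
def n211809 : Q := act 5 n144125
theorem D211809 : act 5 n144125 = n211809 := rfl
theorem F463158 : act 3 n211809 = n144132 := d6_1 D211809 (iv5 D144132) (iv3 F226842)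
theorem F463159 : act 6 n211809 = n144128 := d12_2 D144125 D211809 (iv5 D144128) (iv6 D67524) D67523
theorem F463160 : act 1 n211809 = n204743 := d17_8 (iv1 F253459) (iv5 D160457) (iv1 F115551) D124298 D204740 F463150 (iv0 D211807) D211809 (iv4 D204743)
theorem F463161 : act 0 n211809 = n204745 := d18_0 (iv4 D204745) (iv1 D124302) D124303 (iv5 F276261) (iv4 D176895) F250195 (iv4 F463147) (iv0 D211807) D211809
def n211810 : Q := act 7 n144125
theorem D211810 : act 7 n144125 = n211810 := rfl
theorem F463162 : act 3 n211810 = n144133 := d8_1 D211810 (iv7 D144133) (iv3 F226842)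
theorem F463163 : act 1 n176898 = n211810 := d15_1 (iv0 F463122) (iv7 D211810) (iv2 F463118)
theorem F463164 : act 1 n211810 = n176901 := d15_1 F463163 (iv7 F463151) F463154
def n211811 : Q := act 4 n144126
theorem D211811 : act 4 n144126 = n211811 := rfl
theorem F463165 : act 2 n211811 = n200206 := d1_1 D211811 F415503 F414071
theorem F463166 : act 6 n211811 = n211675 := d10_2 (iv6 F414067) D211811 (iv4 D211675)
theorem F463167 : act 7 n211811 = n195337 := d11_2 (iv7 F414068) D211811 F396747
theorem F463168 : act 0 n211811 = n200205 := d20_1 D211811 (iv4 F455326) (iv3 F455324) F408660 F408655 F182881 F169546 (iv4 F82625) (iv3 F103418) D144126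
theorem F463169 : act 1 n211811 = n200204 := d15_0 (iv0 D200204) D200206 (iv2 F463165)
def n211812 : Q := act 5 n144126
theorem D211812 : act 5 n144126 = n211812 := rfl
theorem F463170 : act 6 n211812 = n211676 := d12_2 (iv6 F414067) D211812 (iv5 D211676) (iv6 D143793) D143792
theorem F463171 : act 7 n211812 = n198422 := d13_2 (iv7 F414068) D211812 (iv5 D198422)
def n211813 : Q := act 0 n144128
theorem D211813 : act 0 n144128 = n211813 := rfl
theorem F463172 : act 5 n211813 = n200439 := d21_2 D144128 D211813 F416435 F386680 F355198 F99668 (iv1 D51641) D51643 D111975 F365095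
theorem F463173 : act 6 n190986 = n211813 := d12_0 F463172 F416435 (iv5 D192414) (iv6 F287792) (iv5 F381804)
theorem F463174 : act 7 n200438 = n211813 := d13_0 F463172 (iv7 D200439) D200438
def n211814 : Q := act 1 n144128
theorem D211814 : act 1 n144128 = n211814 := rfl
theorem F463175 : act 5 n200427 = n211814 := d21_6 D144108 (iv1 F382415) (iv5 F382418) F176210 (iv1 F360552) D200427 (iv1 D211814) (iv5 D144128) (iv6 D67524) D67519
theorem F463176 : act 2 n211814 = n200438 := d2_1 F463175 (iv5 D200438) (iv2 F416383)
def n211815 : Q := act 4 n144128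
theorem D211815 : act 4 n144128 = n211815 := rfl
theorem F463177 : act 3 n211815 = n186303 := d5_1 D211815 (iv4 D186303) (iv3 F345713) (iv4 D144135) (iv3 F226843)
theorem F463178 : act 5 n199248 = n211815 := d6_0 F463177 (iv5 F303414) (iv3 F411316)
def n211816 : Q := act 7 n144128
theorem D211816 : act 7 n144128 = n211816 := rfl
theorem F463179 : act 3 n211816 = n144136 := d8_1 D211816 (iv7 D144136) (iv3 F226843)
theorem F463180 : act 5 n211816 = n144129 := d13_1 D211816 (iv7 D144129) D144128
theorem F463181 : act 1 n200438 = n211816 := d15_1 (iv0 F463126) (iv7 D211816) (iv2 F463125)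
def n211817 : Q := act 5 n144131
theorem D211817 : act 5 n144131 = n211817 := rfl
theorem F463182 : act 3 n211817 = n198510 := d6_1 D211817 (iv5 F451272) F451275
theorem F463183 : act 0 n191039 = n211817 := d21_10 (iv5 D211817) (iv1 D144131) D144132 F226845 D144134 F366968 F138060 D103804 (iv5 F251681) D191039
def n211818 : Q := act 0 n144132
theorem D211818 : act 0 n144132 = n211818 := rfl
theorem F463184 : act 5 n211818 = n190359 := d21_2 D144132 D211818 (iv6 D190359) (iv1 F381340) (iv6 D176924) F129393 D102813 (iv5 F377502) F377507 (iv1 D144131)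
theorem F463185 : act 6 n211818 = n190360 := d21_5 (iv5 D144069) F103387 D67527 (iv6 F226845) D211818 (iv5 D190360) F346174 (iv5 F259089) (iv6 F415579) F415581
theorem F463186 : act 3 n190364 = n211818 := d7_3 F463185 F379542 (iv6 F379556)
theorem F463187 : act 4 n211787 = n211818 := d10_3 F463185 (iv4 F394927) (iv6 F463075)
def n211819 : Q := act 1 n144132
theorem D211819 : act 1 n144132 = n211819 := rfl
def n211820 : Q := act 4 n144132
theorem D211820 : act 4 n144132 = n211820 := rfl
theorem F463188 : act 6 n211820 = n144135 := d10_2 (iv6 F226845) D211820 (iv4 D144135)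
theorem F463189 : act 3 n186304 = n211820 := d7_3 F463188 F345713 D186304
theorem F463190 : act 5 n186320 = n211820 := d12_5 F463188 F345714 F136140 D88757 D186320
def n211821 : Q := act 7 n144132
theorem D211821 : act 7 n144132 = n211821 := rfl
theorem F463191 : act 5 n211821 = n144133 := d13_1 D211821 (iv7 D144133) D144132
def n211822 : Q := act 0 n144135
theorem D211822 : act 0 n144135 = n211822 := rfl
theorem F463192 : act 5 n211822 = n205283 := d17_3 (iv1 D186299) (iv5 F345714) D211822 (iv4 D205283) (iv5 D125695) (iv0 F175694) D200208 F415514 F345721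
theorem F463193 : act 4 n211822 = n200317 := d18_1 D211822 (iv1 F415972) (iv4 F435776) (iv5 D205286) (iv4 D125698) (iv0 F366355) F202172 F364566 (iv5 F345714)
theorem F463194 : act 3 n211822 = n210022 := d20_5 (iv4 F303400) F303397 (iv4 D186303) (iv3 F345713) D211822 F455795 (iv1 D198575) (iv4 D109576) (iv3 F326133) (iv1 F271769)
theorem F463195 : act 2 n211751 = n211822 := d15_3 (iv0 D211822) (iv0 F415632) (iv7 F462953)
theorem F463196 : act 7 n211822 = n200316 := d4_2 (iv7 F462953) F463195 F415965
theorem F463197 : act 1 n210029 = n211822 := d15_1 (iv0 F455827) F463196 F415965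
theorem F463198 : act 4 n210019 = n166714 := d20_6 (iv4 D202807) (iv1 F415973) (iv4 F463193) F463194 (iv1 D210022) (iv3 F455778) (iv1 D166714) (iv4 F253819) (iv3 F415599) (iv1 F425671)
def n211823 : Q := act 7 n144135
theorem D211823 : act 7 n144135 = n211823 := rfl
theorem F463199 : act 2 n211823 = n210029 := d4_1 D211823 F455826 F425777
theorem F463200 : act 3 n211823 = n186305 := d8_1 D211823 (iv7 D186305) (iv3 F345713)
theorem F463201 : act 4 n211823 = n144136 := d11_1 D211823 (iv7 D144136) D144135
theorem F463202 : act 5 n211823 = n186302 := d13_1 D211823 (iv7 D186302) (iv5 F345714)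
theorem F463203 : act 1 n200316 = n211823 := d15_1 F425779 (iv7 D211823) (iv2 F425777)
theorem F463204 : act 1 n211823 = n211751 := d15_1 F463203 F462953 (iv2 F415965)
theorem F463205 : act 6 n190267 = n211823 := d12_0 F463202 F356051 (iv5 F364562) (iv6 F364564) D190267
def n211824 : Q := act 6 n144136
theorem D211824 : act 6 n144136 = n211824 := rfl
theorem F463206 : act 4 n211824 = n190267 := d10_1 D211824 F463205 F463201
def n211825 : Q := act 4 n144145
theorem D211825 : act 4 n144145 = n211825 := rfl
theorem F463207 : act 2 n211825 = n144149 := d1_1 D211825 (iv4 D144149) (iv2 F226854)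
theorem F463208 : act 3 n211825 = n201255 := d5_1 D211825 F419692 F425538 (iv4 F425696) F425695
theorem F463209 : act 5 n211825 = n145918 := d16_1 D211825 (iv4 F457967) (iv5 D210536) (iv4 D139369) (iv5 D65413) (iv4 F85043) D117000 F182920 (iv2 F226854)
theorem F463210 : act 0 n211825 = n144972 := d17_0 (iv5 D144972) F331478 (iv5 F82485) (iv4 F331472) F103445 (iv0 F333131) D194055 (iv0 F391897) D211825
theorem F463211 : act 0 n194176 = n211825 := d20_7 F410105 F382466 (iv4 F440649) (iv3 F440650) (iv1 F398289) (iv3 F448467) F448468 (iv4 D211825) (iv3 F425695) (iv1 F425699)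
theorem F463212 : act 6 n207270 = n211825 := d21_3 (iv5 F176983) (iv1 F366057) D207270 F463210 F387829 (iv5 D192801) (iv1 F377639) F377635 (iv6 F369289) (iv1 F369290)
def n211826 : Q := act 6 n144145
theorem D211826 : act 6 n144145 = n211826 := rfl
theorem F463213 : act 2 n211826 = n144150 := d3_1 D211826 (iv6 D144150) (iv2 F226854)
theorem F463214 : act 4 n211826 = n207270 := d10_1 D211826 F463212 (iv4 D211825)
def n211827 : Q := act 5 n144146
theorem D211827 : act 5 n144146 = n211827 := rfl
theorem F463215 : act 2 n211827 = n144153 := d2_1 D211827 (iv5 D144153) (iv2 F226855)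
def n211828 : Q := act 3 n144147
theorem D211828 : act 3 n144147 = n211828 := rfl
theorem F463216 : act 5 n211828 = n206045 := d6_2 (iv5 F385934) D211828 (iv3 D206045)
theorem F463217 : act 6 n189954 = n211828 := d12_0 F463216 F438985 (iv5 D149231) D149232 (iv5 F378361)
def n211829 : Q := act 4 n144147
theorem D211829 : act 4 n144147 = n211829 := rfl
theorem F463218 : act 7 n211829 = n194198 := d11_2 F416222 D211829 (iv4 F416223)
theorem F463219 : act 5 n211829 = n201465 := d16_1 D211829 (iv4 F424616) F424617 (iv4 F458223) F458221 F410195 F386896 (iv7 F391896) F391894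
theorem F463220 : act 0 n211829 = n194143 := d17_0 (iv5 D194143) (iv1 D102778) F74939 (iv4 F75019) F356123 F182918 D202823 F425740 D211829
theorem F463221 : act 1 n211829 = n194141 := d18_6 F215904 (iv4 F181200) D202644 F424905 (iv5 F385934) D211829 (iv4 F425900) F448470 (iv5 D208226)
theorem F463222 : act 3 n211829 = n190389 := d19_3 D127104 (iv5 F385934) D211829 (iv1 D190389) F306969 (iv4 D53659) F41051 (iv1 F24229) (iv5 D14568) (iv4 D6961) (iv3 F22558) (iv1 D6878) (iv5 D3100) D3099 D6873 F11159 D14394 (iv4 F45826) D59662
def n211830 : Q := act 6 n144147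
theorem D211830 : act 6 n144147 = n211830 := rfl
theorem F463223 : act 3 n211830 = n189954 := d7_1 D211830 F463217 (iv3 D211828)
theorem F463224 : act 0 n206048 = n211830 := d21_4 (iv5 F377284) (iv1 F447924) (iv5 D208111) F438998 (iv6 D211830) F385934 (iv1 F204354) (iv5 F226903) (iv6 F356090) (iv1 F377216)
def n211831 : Q := act 0 n144149
theorem D211831 : act 0 n144149 = n211831 := rfl
theorem F463225 : act 5 n211831 = n144971 := d17_1 D211831 (iv1 F355819) (iv5 F176072) (iv4 F356089) F226903 F204354 (iv5 F385934) (iv0 D144147) D144149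
theorem F463226 : act 4 n211831 = n210492 := d18_1 D211831 F457770 (iv4 F377159) F377158 (iv4 F411602) F411604 F230328 (iv0 F340908) F340910
theorem F463227 : act 3 n211831 = n147992 := d20_5 D114397 F331561 (iv4 F331469) F331468 D211831 (iv4 D147992) D147990 F355694 F355728 (iv1 D114396)
theorem F463228 : act 6 n211831 = n208112 := d21_5 (iv5 F369274) F397819 (iv5 F443277) F443278 D211831 F447925 (iv1 F377636) F154821 (iv6 F291657) (iv1 F369271)
theorem F463229 : act 2 n144972 = n211831 := d15_3 (iv0 D211831) (iv0 F425975) F425973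
theorem F463230 : act 7 n211831 = n194176 := d4_2 F425973 F463229 (iv2 F425970)
def n211832 : Q := act 0 n144150
theorem D211832 : act 0 n144150 = n211832 := rfl
theorem F463231 : act 4 n211832 = n194190 := d18_3 D207092 (iv4 F443280) D211832 F392312 (iv4 F451353) F451356 F369294 (iv0 D130139) D130141
theorem F463232 : act 6 n211832 = n176865 := d21_5 F356123 (iv1 D67530) D67532 D144150 D211832 (iv5 F453846) (iv1 F453850) (iv5 F390713) (iv6 F390715) (iv1 D103004)
def n211833 : Q := act 1 n144150
theorem D211833 : act 1 n144150 = n211833 := rfl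
theorem F463233 : act 4 n211833 = n208909 := d18_7 F371501 F371499 (iv1 F365900) (iv4 F397817) (iv5 F443277) (iv4 F443280) D211833 F451365 F373812
theorem F463234 : act 6 n188209 = n211833 := d21_3 F370225 F370227 D188209 (iv1 D211833) (iv6 D144150) (iv5 D67532) D67529 D144139 F357466 (iv1 F270260)
def n211834 : Q := act 5 n144150
theorem D211834 : act 5 n144150 = n211834 := rfl
theorem F463235 : act 3 n211834 = n144156 := d6_1 D211834 (iv5 D144156) (iv3 F226857)
theorem F463236 : act 6 n211834 = n144153 := d12_2 D144150 D211834 (iv5 D144153) (iv6 D67533) D67532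
theorem F463237 : act 4 n211834 = n203694 := d16_2 (iv4 F443280) D211834 (iv5 D203694) F330794 (iv5 F362642) (iv4 F418537) (iv5 F443283) (iv7 F444071) F444070
def n211835 : Q := act 7 n144150
theorem D211835 : act 7 n144150 = n211835 := rfl
theorem F463238 : act 3 n211835 = n144157 := d8_1 D211835 (iv7 D144157) (iv3 F226857)
theorem F463239 : act 4 n211835 = n207269 := d11_1 D211835 F444066 (iv4 F443280)
theorem F463240 : act 6 n211835 = n188486 := d14_1 D211835 F373784 F373781 F182920 D144150
def n211836 : Q := act 3 n144151
theorem D211836 : act 3 n144151 = n211836 := rfl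
theorem F463241 : act 6 n211836 = n207144 := d7_2 F390729 D211836 (iv3 D207144)
def n211837 : Q := act 4 n144151
theorem D211837 : act 4 n144151 = n211837 := rfl
theorem F463242 : act 6 n211837 = n207145 := d10_2 F390729 D211837 (iv4 D207145)
def n211838 : Q := act 5 n144151
theorem D211838 : act 5 n144151 = n211838 := rfl
def n211839 : Q := act 0 n144153
theorem D211839 : act 0 n144153 = n211839 := rfl
def n211840 : Q := act 1 n144153
theorem D211840 : act 1 n144153 = n211840 := rfl
def n211841 : Q := act 4 n144153
theorem D211841 : act 4 n144153 = n211841 := rfl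
theorem F463243 : act 6 n211841 = n203694 := d10_2 F463236 D211841 (iv4 F463237)
theorem F463244 : act 5 n198314 = n211841 := d12_5 F463243 (iv5 D203694) F330795 D157924 F407576
def n211842 : Q := act 5 n144154
theorem D211842 : act 5 n144154 = n211842 := rfl
def n211843 : Q := act 5 n144155
theorem D211843 : act 5 n144155 = n211843 := rfl
theorem F463245 : act 3 n211843 = n187248 := d6_1 D211843 F369622 (iv3 F350482)
theorem F463246 : act 6 n211843 = n187246 := d12_2 F350481 D211843 F369612 F294018 (iv5 F294017)
theorem F463247 : act 4 n211843 = n211737 := d18_5 (iv1 F425568) (iv4 F425773) (iv1 F425775) F377508 D211843 (iv0 D211737) D211739 (iv0 F463070) (iv5 D211785)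
def n211844 : Q := act 0 n144156
theorem D211844 : act 0 n144156 = n211844 := rfl
def n211845 : Q := act 1 n144156
theorem D211845 : act 1 n144156 = n211845 := rfl
def n211846 : Q := act 4 n144156
theorem D211846 : act 4 n144156 = n211846 := rfl
theorem F463248 : act 6 n211846 = n144160 := d10_2 (iv6 F226859) D211846 (iv4 D144160)
def n211847 : Q := act 7 n144156
theorem D211847 : act 7 n144156 = n211847 := rfl
theorem F463249 : act 5 n211847 = n144157 := d13_1 D211847 (iv7 D144157) D144156
def n211848 : Q := act 3 n144158
theorem D211848 : act 3 n144158 = n211848 := rfl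
theorem F463250 : act 4 n211848 = n208563 := d5_2 F462943 D211848 F449904 F389457 (iv3 F462942)
theorem F463251 : act 5 n211848 = n207933 := d6_2 (iv5 F226861) D211848 (iv3 D207933)
theorem F463252 : act 6 n211848 = n198428 := d7_2 (iv6 F462940) D211848 F462939
theorem F463253 : act 7 n211848 = n211676 := d8_2 F425728 D211848 F462641
theorem F463254 : act 2 n211848 = n198579 := d15_3 (iv0 F429227) (iv0 F462643) (iv7 F463253)
theorem F463255 : act 0 n144176 = n211848 := d17_2 (iv1 D144175) D144176 F463251 F447045 (iv5 F222977) F348138 (iv5 D67751) D67750 (iv4 F340807)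
def n211849 : Q := act 3 n144159
theorem D211849 : act 3 n144159 = n211849 := rfl
theorem F463256 : act 5 n211849 = n194563 := d6_2 F226862 D211849 (iv3 F393699)
def n211850 : Q := act 6 n144159
theorem D211850 : act 6 n144159 = n211850 := rfl
theorem F463257 : act 5 n211850 = n211016 := d12_1 D211850 (iv6 F459763) (iv5 D144000) D144001 F226862
def n211851 : Q := act 0 n144161
theorem D211851 : act 0 n144161 = n211851 := rfl
theorem F463258 : act 5 n211851 = n203726 := d17_3 (iv1 F397493) F397489 D211851 F429557 (iv5 F356971) (iv0 F356582) (iv5 D148631) (iv0 F356574) F231936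
theorem F463259 : act 4 n211851 = n202864 := d18_1 D211851 (iv1 F425932) F227360 (iv5 F322280) F346300 F356806 (iv4 F227935) (iv0 F397492) F397489
theorem F463260 : act 3 n211851 = n202574 := d20_5 D198600 F408470 (iv4 F223843) (iv3 F226864) D211851 (iv4 F426967) (iv1 F426966) (iv4 D203100) F408456 (iv1 F408454)
theorem F463261 : act 2 n202482 = n211851 := d15_3 (iv0 D211851) (iv0 F420705) (iv7 F425942)
theorem F463262 : act 7 n211851 = n210818 := d4_2 (iv7 F425942) F463261 (iv2 D210818)
theorem E103980 : n210818 = n202483 := ((c15_2 (iv0 D202482) D202483 (iv7 F463262) (iv2 F463261))).symm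
theorem F463263 : act 2 n202483 = n139847 := (sb E103980 (iv2 D210818))
theorem F463264 : act 4 n202483 = n144509 := (sb E103980 F458890)
theorem F463265 : act 7 n202483 = n211851 := (sb E103980 (iv7 F463262))
theorem F463266 : act 1 n202484 = n211851 := d15_1 F424202 (iv7 F463265) F463263
def n211852 : Q := act 7 n144161
theorem D211852 : act 7 n144161 = n211852 := rfl
theorem F463267 : act 2 n211852 = n202484 := d4_1 D211852 (iv7 D202484) (iv2 F226863)
theorem F463268 : act 3 n211852 = n194512 := d8_1 D211852 F393513 (iv3 F226864)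
theorem F463269 : act 4 n211852 = n144167 := d11_1 D211852 (iv7 D144167) (iv4 F226865)
theorem F463270 : act 5 n211852 = n144965 := d13_1 D211852 (iv7 F397491) F397489
theorem F463271 : act 6 n211852 = n210383 := d14_1 D211852 F457313 (iv6 D140716) F103427 D144161
theorem F463272 : act 1 n202483 = n211852 := d15_1 D202483 (iv7 D211852) F226863
theorem F463273 : act 1 n211852 = n202482 := d15_1 F463272 F425942 (iv2 F463263)
def n211853 : Q := act 5 n144164
theorem D211853 : act 5 n144164 = n211853 := rfl
theorem F463274 : act 2 n211853 = n187236 := d2_1 D211853 (iv5 F408449) F408445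
theorem F463275 : act 4 n211853 = n187233 := d9_1 D211853 (iv5 D187233) F137894 (iv5 F285099) F347299 (iv5 D139725) D139724 F361796 (iv4 D95759) (iv5 D44722) (iv4 F64059) D88923 F347298 F340936 (iv4 F393594)
theorem F463276 : act 7 n211853 = n190217 := d13_2 F425792 D211853 (iv5 F425796)
theorem F463277 : act 0 n211853 = n190242 := d17_2 D144164 D211853 F379161 F366536 (iv5 F380680) (iv0 F429558) (iv5 F463258) (iv0 D211851) F226865
theorem F463278 : act 1 n211853 = n190241 := d17_6 D71293 D151282 (iv1 F340937) F340936 (iv4 F393594) D211853 (iv5 F379160) (iv0 D151277) F107785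
def n211854 : Q := act 5 n144171
theorem D211854 : act 5 n144171 = n211854 := rfl
theorem F463279 : act 3 n211854 = n144176 := d6_1 D211854 (iv5 D144176) (iv3 F226872)
theorem F463280 : act 0 n211854 = n190937 := d17_2 F390793 D211854 (iv5 F440316) F440315 F402613 (iv0 F400576) F363321 D202456 (iv4 F431954)
def n211855 : Q := act 5 n144173
theorem D211855 : act 5 n144173 = n211855 := rfl
theorem F463281 : act 2 n211855 = n211497 := d2_1 D211855 (iv5 D211497) (iv2 F226876)
theorem F463282 : act 6 n211855 = n144176 := d12_2 D144173 D211855 (iv5 D144176) (iv6 D67543) D67542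
def n211856 : Q := act 5 n144175
theorem D211856 : act 5 n144175 = n211856 := rfl
theorem F463283 : act 3 n211856 = n190206 := d6_1 D211856 (iv5 F379076) F361615
theorem F463284 : act 4 n211856 = n211442 := d9_1 D211856 F461547 (iv4 D203575) (iv5 D119596) F311239 (iv5 D74785) (iv4 F112209) D157235 (iv4 F461553) (iv5 F461551) F439973 F320686 (iv4 F331884) F348141 (iv4 F340807)
def n211857 : Q := act 1 n144176
theorem D211857 : act 1 n144176 = n211857 := rfl
theorem F463285 : act 7 n211857 = n198579 := d15_2 (iv0 F463255) D211857 (iv2 F463254)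
theorem F463286 : act 5 n211857 = n211478 := d17_7 (iv1 F344487) (iv5 F460180) (iv1 D211119) (iv5 D140722) (iv4 F103435) D144176 D211857 (iv0 F461729) F427591
theorem F463287 : act 2 n211676 = n211857 := d2_3 F463286 F461724 D211676
def n211858 : Q := act 4 n144176
theorem D211858 : act 4 n144176 = n211858 := rfl
theorem F463288 : act 2 n211858 = n190186 := d1_1 D211858 F425787 F425785
theorem F463289 : act 5 n211858 = n189058 := d16_3 (iv4 F103435) D144176 D211858 (iv4 F428956) F428954 D206946 (iv5 F457312) F457313 F223811
theorem F463290 : act 3 n189061 = n211858 := d6_3 F463289 F375617 D189061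
def n211859 : Q := act 7 n144176
theorem D211859 : act 7 n144176 = n211859 := rfl
theorem F463291 : act 5 n211859 = n144177 := d13_1 D211859 (iv7 D144177) D144176
theorem F463292 : act 1 n211676 = n211859 := d15_1 (iv0 F462643) (iv7 D211859) (iv2 F425785)
theorem F463293 : act 1 n211859 = n198579 := d15_1 F463292 (iv7 F463285) (iv2 F463287)
def n211860 : Q := act 5 n144184
theorem D211860 : act 5 n144184 = n211860 := rfl
theorem F463294 : act 2 n211860 = n190383 := d2_1 D211860 (iv5 D190383) (iv2 F364635)
theorem F463295 : act 3 n211860 = n207283 := d6_1 D211860 F444139 F379680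
theorem F463296 : act 4 n211860 = n191608 := d9_1 D211860 (iv5 D191608) (iv4 D98591) (iv5 D46089) (iv4 F70151) D95532 D189992 (iv5 F378485) (iv4 F444123) F444124 (iv4 D183404) (iv5 D87550) (iv4 F70361) (iv5 F306977) (iv4 F226890)
theorem F463297 : act 6 n211860 = n201525 := d12_2 D144184 D211860 (iv5 D201525) (iv6 F330342) (iv5 F225676)
theorem F463298 : act 7 n211860 = n206120 := d13_2 F379672 D211860 F439333
theorem F463299 : act 1 n211860 = n148704 := d17_6 F157797 (iv5 D97087) (iv1 F157622) (iv5 F306977) (iv4 F226890) D211860 F233474 (iv0 F378528) (iv4 D190003)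
theorem F463300 : act 1 n206121 = n211860 := d15_0 F463299 (iv7 F448049) F448046
def n211861 : Q := act 3 n144185
theorem D211861 : act 3 n144185 = n211861 := rfl
theorem F463301 : act 5 n211861 = n176674 := d6_2 (iv5 F360332) D211861 F360351
theorem F463302 : act 7 n211861 = n190380 := d8_2 F360336 D211861 (iv3 D190380)
theorem F463303 : act 0 n211861 = n172109 := d19_4 (iv1 F217927) (iv5 F447514) F447513 D211861 (iv5 F375660) F375659 F295445 (iv1 D87224) D87226 F327068 F81128 (iv1 F78046) (iv5 F168187) (iv4 F174555) D125786 (iv1 F435791) F435789 (iv4 F397713) (iv3 F398245)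
theorem F463304 : act 6 n176676 = n211861 := d21_3 (iv5 D199993) F325270 D176676 F463303 (iv6 D172109) (iv5 D82423) D82420 F377571 (iv6 F377572) (iv1 F414524)
theorem F463305 : act 1 n211861 = n189958 := d15_1 (iv0 F463303) (iv7 F380917) F380915
def n211862 : Q := act 6 n144185
theorem D211862 : act 6 n144185 = n211862 := rfl
theorem F463306 : act 2 n211862 = n190379 := d3_1 D211862 (iv6 D190379) F360333
theorem F463307 : act 3 n211862 = n176676 := d7_1 D211862 F463304 (iv3 D211861)
theorem F463308 : act 5 n211862 = n176672 := d12_1 D211862 (iv6 D176672) F331194 D103657 (iv5 F360332)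
theorem F463309 : act 0 n211862 = n194993 := d21_10 F395336 (iv1 F461844) (iv5 D211501) (iv6 F361835) F416428 F416426 F378523 F293514 (iv5 F360332) D211862
def n211863 : Q := act 4 n144200
theorem D211863 : act 4 n144200 = n211863 := rfl
theorem F463310 : act 2 n211863 = n190385 := d1_1 D211863 (iv4 D190385) (iv2 F323198)
theorem F463311 : act 5 n211863 = n152399 := d9_2 (iv5 F323199) D211863 F239587 F178388 (iv4 F203256) F203259 (iv4 F186073) (iv5 F365313) (iv4 F381825) (iv5 F381827) F239591 F178394 (iv4 F182654) F182657 (iv4 F186079)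
theorem F463312 : act 7 n211863 = n190384 := d11_2 (iv7 F323200) D211863 (iv4 D190384)
theorem F463313 : act 0 n211863 = n194665 := d17_0 F394014 F187586 (iv5 F335350) F150958 F308758 (iv0 D67550) D67552 D144200 D211863
theorem F463314 : act 1 n211863 = n203476 := d18_6 D120012 F189492 (iv1 F178716) (iv4 F186079) (iv5 F323199) D211863 F428458 (iv0 F326525) (iv5 F327290)
def n211864 : Q := act 3 n144207
theorem D211864 : act 3 n144207 = n211864 := rfl
theorem F463315 : act 2 n211864 = n190351 := d0_1 D211864 F379518 (iv2 F379512) D201394 (iv2 F420320)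
theorem F463316 : act 4 n211864 = n189231 := d5_2 F415712 D211864 (iv3 F420626) (iv4 F461811) F461812
theorem F463317 : act 5 n211864 = n194311 := d6_2 F457247 D211864 (iv3 F457244)
theorem F463318 : act 7 n211864 = n189980 := d8_2 F425824 D211864 (iv3 F425827)
theorem F463319 : act 0 n211864 = n190349 := d20_10 (iv4 F443665) (iv1 D207178) (iv4 D130574) F95735 F46635 D52175 (iv4 F331489) D144216 F415712 D211864
theorem F463320 : act 1 n211864 = n190348 := d15_1 (iv0 F463319) (iv7 F392862) F392861
theorem F463321 : act 6 n185704 = n211864 := d14_5 F463318 (iv6 D189980) F317863 D95937 (iv7 F367201)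
def n211865 : Q := act 6 n144207
theorem D211865 : act 6 n144207 = n211865 := rfl
theorem F463322 : act 3 n211865 = n185704 := d7_1 D211865 F463321 (iv3 D211864)
theorem F463323 : act 7 n211865 = n190359 := d14_2 F425824 D211865 (iv6 D190359) (iv7 F378392) F425826
theorem F463324 : act 0 n211865 = n144235 := d21_4 F457575 (iv1 F457249) F457247 D211865 (iv6 D144235) (iv5 F350496) F350495 F160712 D190434 F457578
def n211866 : Q := act 6 n144208
theorem D211866 : act 6 n144208 = n211866 := rfl
theorem F463325 : act 2 n211866 = n189976 := d3_1 D211866 F425826 (iv2 F425829)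
theorem F463326 : act 3 n211866 = n190333 := d7_1 D211866 F379516 F379762
theorem F463327 : act 5 n211866 = n164621 := d12_1 D211866 F366709 (iv5 D102257) D102258 (iv5 F379763)
theorem F463328 : act 0 n176924 = n211866 := d21_4 (iv5 F377512) (iv1 D102814) (iv5 F129393) D176924 (iv6 D211866) F379763 (iv1 F404163) (iv5 F457575) F457576 F377513
theorem F463329 : act 7 n190354 = n211866 := d13_0 F463327 (iv7 F361701) D190354
theorem F463330 : act 1 n190357 = n211866 := d17_6 D79101 (iv5 F333511) (iv1 D115121) D115123 (iv4 F379251) (iv5 F379540) F463327 (iv0 D164621) F120357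
def n211867 : Q := act 5 n144216
theorem D211867 : act 5 n144216 = n211867 := rfl
theorem F463331 : act 4 n211867 = n206239 := d9_1 D211867 (iv5 D206239) (iv4 F420564) F420563 (iv4 F379510) (iv5 F379763) F379761 (iv5 F410021) (iv4 F439871) (iv5 D206240) (iv4 F405853) F405851 D210372 F457247 (iv4 F415712)
theorem F463332 : act 1 n211867 = n189426 := d17_6 F457578 F457575 (iv1 F457249) F457247 (iv4 F415712) D211867 (iv5 F377268) (iv0 F392222) (iv4 F392220)
def n211868 : Q := act 6 n144216
theorem D211868 : act 6 n144216 = n211868 := rfl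
theorem F463333 : act 4 n211868 = n211865 := d10_1 D211868 (iv6 D211865) (iv4 F415712)
def n211869 : Q := act 6 n144217
theorem D211869 : act 6 n144217 = n211869 := rfl
theorem F463334 : act 3 n211869 = n190386 := d7_1 D211869 F379631 (iv3 F410020)
theorem F463335 : act 4 n211869 = n211866 := d10_1 D211869 (iv6 D211866) F379761
theorem F463336 : act 0 n144230 = n211869 := d21_4 (iv5 F160712) (iv1 F350514) F350471 D144230 (iv6 D211869) (iv5 F410021) F377270 (iv5 F377268) (iv6 F377269) F376684
theorem F463337 : act 7 n194996 = n211869 := d11_0 F463335 (iv7 F463329) (iv4 F395340)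
def n211870 : Q := act 6 n144223
theorem D211870 : act 6 n144223 = n211870 := rfl
theorem F463338 : act 2 n211870 = n186320 := d3_1 D211870 (iv6 D186320) (iv2 F350474)
theorem F463339 : act 3 n211870 = n190763 := d7_1 D211870 F380959 (iv3 F350475)
theorem F463340 : act 4 n211870 = n191225 := d10_1 D211870 (iv6 D191225) F360347
theorem F463341 : act 0 n211868 = n211870 := d21_4 F377268 (iv1 F463332) (iv5 D211867) D211868 (iv6 D211870) F350477 (iv1 F158079) F377512 (iv6 F392218) F392222
def n211871 : Q := act 7 n144230
theorem D211871 : act 7 n144230 = n211871 := rfl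
theorem F463342 : act 3 n211871 = n198361 := d8_1 D211871 F407760 F382408
theorem F463343 : act 5 n211871 = n194989 := d13_1 D211871 F395320 F392614
theorem F463344 : act 1 n194996 = n211871 := d15_1 (iv0 F462812) (iv7 D211871) (iv2 F462808)
def n211872 : Q := act 6 n144232
theorem D211872 : act 6 n144232 = n211872 := rfl
theorem F463345 : act 2 n211872 = n176941 := d3_1 D211872 (iv6 D176941) (iv2 F364453)
theorem F463346 : act 3 n211872 = n144235 := d7_1 D211872 (iv6 D144235) D144232
def n211873 : Q := act 0 n144235
theorem D211873 : act 0 n144235 = n211873 := rfl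
theorem F463347 : act 6 n211873 = n190354 := d21_5 F294017 F158221 F350496 D144235 D211873 (iv5 D190354) F361698 (iv5 F355232) F355233 F178373
theorem F463348 : act 2 n190359 = n211873 := d15_3 (iv0 D211873) (iv0 F463324) F463323
theorem F463349 : act 3 n211873 = n198945 := d0_2 (iv3 F379541) F463348 (iv2 F418990) F418991 (iv2 F367199)
def n211874 : Q := act 7 n144235
theorem D211874 : act 7 n144235 = n211874 := rfl
def n211875 : Q := act 5 n144243
theorem D211875 : act 5 n144243 = n211875 := rfl
theorem F463350 : act 3 n211875 = n198400 := d6_1 D211875 (iv5 D198400) (iv3 F226931)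
theorem F463351 : act 6 n211875 = n145123 := d12_2 F438732 D211875 F228103 D155940 (iv5 F438731)
theorem F463352 : act 4 n211875 = n145124 := d16_2 D144243 D211875 (iv5 F386768) F386766 F349987 F157781 (iv5 F382440) F382439 F296439
theorem F463353 : act 0 n211875 = n150045 := d17_2 (iv1 F427515) D211875 (iv5 D150045) (iv4 F358507) F358508 F159262 D184192 F393797 (iv4 F427513)
def n211876 : Q := act 2 n144282
theorem D211876 : act 2 n144282 = n211876 := rfl
theorem F463354 : act 3 n211876 = n202089 := d0_2 D144282 D211876 (iv2 D202089) (iv3 D115366) (iv2 F165008)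
theorem F463355 : act 4 n211876 = n144289 := d1_2 (iv4 F226968) D211876 (iv2 D144289)
theorem F463356 : act 5 n211876 = n202093 := d2_2 F455230 D211876 (iv2 F455233)
theorem F463357 : act 6 n211876 = n202094 := d3_2 F423948 D211876 F423949
theorem F463358 : act 7 n211876 = n202084 := d4_2 (iv7 F226969) D211876 (iv2 D202084)
theorem F463359 : act 1 n211876 = n194445 := d15_0 (iv0 F393244) (iv7 F226969) D211876
theorem F463360 : act 1 n194447 = n211876 := d15_0 F463359 F393243 (iv2 F393247)
def n211877 : Q := act 6 n144289
theorem D211877 : act 6 n144289 = n211877 := rfl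
theorem F463361 : act 2 n211877 = n144291 := d3_1 D211877 (iv6 D144291) D144289
theorem F463362 : act 3 n211877 = n144296 := d7_1 D211877 (iv6 F372162) F372161
theorem F463363 : act 4 n211877 = n202094 := d10_1 D211877 (iv6 F463357) F463355
theorem F463364 : act 5 n211877 = n144291 := d12_1 D211877 (iv6 D144291) D144290 (iv6 F372155) (iv5 F372159)
theorem F463365 : act 0 n211877 = n202362 := d21_4 (iv5 D194229) F372158 (iv5 F372159) D211877 (iv6 D202362) F180024 (iv1 F174077) D198448 (iv6 F408046) F393031
theorem F463366 : act 1 n211877 = n202413 := d15_1 (iv0 F463365) F423907 (iv2 F423757)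
def n211878 : Q := act 1 n144291
theorem D211878 : act 1 n144291 = n211878 := rfl
theorem F463367 : act 7 n211878 = n202362 := d15_2 (iv0 F414168) D211878 F423757
theorem F463368 : act 5 n211878 = n202778 := d17_7 D202193 F423190 (iv1 F226988) D202094 (iv4 F463363) F463364 D211878 (iv0 D202778) F182829
theorem F463369 : act 4 n211878 = n156294 := d17_9 (iv1 F422920) (iv5 D202114) D202113 F422911 (iv4 F416064) F423759 (iv0 F463365) F463364 D211878
theorem F463370 : act 2 n202413 = n211878 := d1_3 F463369 F245592 D202413
def n211879 : Q := act 3 n144294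
theorem D211879 : act 3 n144294 = n211879 := rfl
theorem F463371 : act 2 n211879 = n192122 := d0_1 D211879 (iv3 D192122) F156412 D101859 F357412
theorem F463372 : act 4 n211879 = n180627 := d5_2 (iv4 F226991) D211879 F281163 (iv4 F336484) F219828
theorem F463373 : act 5 n211879 = n211701 := d6_2 F365020 D211879 (iv3 D211701)
theorem F463374 : act 6 n211879 = n202400 := d7_2 F226992 D211879 F423868
theorem F463375 : act 7 n211879 = n193511 := d8_2 F416492 D211879 F416498
theorem F463376 : act 0 n211879 = n177683 := d20_4 F226710 F176172 (iv4 F226991) D211879 (iv3 F428514) F428515 F215870 D153173 F366678 (iv1 F226948)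
theorem F463377 : act 0 n189822 = n211879 := d20_4 (iv4 F389811) F394160 F394158 F388010 (iv3 D211879) F226991 (iv1 F176173) (iv4 F357165) F156824 D101881
def n211880 : Q := act 6 n144298
theorem D211880 : act 6 n144298 = n211880 := rfl
theorem F463378 : act 3 n211880 = n144299 := d7_1 D211880 (iv6 D144299) D144298
theorem F463379 : act 4 n211880 = n211240 := d10_1 D211880 F460767 F363680
theorem F463380 : act 7 n211880 = n196679 := d14_2 F386297 D211880 (iv6 D196679) (iv7 F204320) (iv6 F386296)
theorem F463381 : act 0 n211880 = n199254 := d20_1 (iv4 F463379) (iv4 F455591) F455590 (iv1 F384883) F154254 F358752 (iv1 D83384) D83385 D174458 (iv1 F460769)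
theorem F463382 : act 5 n199254 = n190987 := d19_1 F463381 (iv4 D190987) (iv3 F369818) F369820 F138060 (iv4 F135505) (iv3 D88508) (iv1 F73632) F73630 D92461 F315839 (iv1 F97204) F97206 F96728 (iv3 F96481) (iv1 F96485) (iv5 F103525) (iv4 F227004) (iv3 F463378)
def n211881 : Q := act 5 n144299
theorem D211881 : act 5 n144299 = n211881 := rfl
theorem F463383 : act 2 n211881 = n196423 := d2_1 D211881 (iv5 F411352) F411351
theorem F463384 : act 7 n211881 = n196422 := d13_2 (iv7 F227005) D211881 F400645
theorem F463385 : act 0 n211881 = n145303 := d17_2 F399943 D211881 (iv5 D145303) F104279 (iv5 F95914) D130906 (iv5 F209500) (iv0 F165328) D196217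
theorem F463386 : act 1 n211881 = n145305 := d17_6 (iv1 F78394) (iv5 F96482) (iv1 F96485) (iv5 F103525) (iv4 F227004) D211881 (iv5 D145305) F165763 F165761
def n211882 : Q := act 0 n144301
theorem D211882 : act 0 n144301 = n211882 := rfl
theorem F463387 : act 5 n211882 = n193069 := d17_1 D211882 F388656 D193083 F388699 F346535 (iv0 D76265) (iv5 F94468) D127767 F346507
theorem F463388 : act 4 n211882 = n189188 := d18_3 (iv1 F205394) F346507 D211882 F376006 (iv4 F422963) (iv0 F422967) F360743 F206671 (iv5 D128510)
theorem F463389 : act 3 n211882 = n206357 := d20_5 F92848 D74273 (iv4 F164914) D144301 D211882 F440396 (iv1 D192284) D192285 F386295 F201809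
theorem F463390 : act 2 n206371 = n211882 := d15_3 (iv0 D211882) (iv0 F398618) F440471
theorem F463391 : act 1 n206200 = n211882 := d15_0 (iv0 D211882) F346506 (iv2 F439681)
theorem F463392 : act 7 n211882 = n206372 := d15_2 (iv0 F439685) F463391 (iv2 F440475)
def n211883 : Q := act 0 n144305
theorem D211883 : act 0 n144305 = n211883 := rfl
theorem F463393 : act 5 n211883 = n199487 := d17_1 D211883 F412350 (iv5 F420076) (iv4 D201342) (iv5 F333213) D207264 (iv5 F444044) (iv0 F420131) F420125
theorem F463394 : act 3 n211883 = n193062 := d20_5 (iv4 F412142) F412141 F354400 F354404 D211883 F388630 (iv1 F413428) (iv4 F413425) (iv3 F440431) (iv1 F440434)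
theorem F463395 : act 6 n211883 = n193061 := d21_5 F165776 (iv1 D67611) D67612 D144305 D211883 (iv5 F447721) F447724 (iv5 F410882) (iv6 D199147) (iv1 F172046)
def n211884 : Q := act 1 n144305
theorem D211884 : act 1 n144305 = n211884 := rfl
theorem F463396 : act 4 n211884 = n201100 := d17_9 F419085 (iv5 F370734) (iv1 D146181) F104748 (iv4 F107779) (iv5 F363666) (iv0 D144327) (iv5 F227013) D211884
theorem F463397 : act 5 n211884 = n199490 := d18_9 F412367 F405523 F412443 F412441 (iv5 F405456) D197812 (iv0 F420131) F420125 D211884
theorem F463398 : act 3 n208627 = n211884 := d20_3 (iv4 F421926) (iv1 F421928) (iv4 F450232) (iv1 D211884) (iv3 F354404) (iv4 F354400) (iv1 F412158) F412159 F420438 F420434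
theorem F463399 : act 6 n201099 = n211884 := d10_0 F463396 (iv6 D201100) D201099
def n211885 : Q := act 6 n144306
theorem D211885 : act 6 n144306 = n211885 := rfl
theorem F463400 : act 2 n211885 = n184567 := d3_1 D211885 F286555 (iv2 F345170)
theorem F463401 : act 3 n211885 = n203274 := d7_1 D211885 (iv6 D203274) (iv3 F349172)
theorem F463402 : act 4 n211885 = n189516 := d10_1 D211885 F376779 F339944
theorem F463403 : act 0 n211885 = n199184 := d21_4 F172035 F164912 (iv5 F227014) D211885 (iv6 D199184) (iv5 D111047) (iv1 D51214) D51215 F80805 D110987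
theorem F463404 : act 0 n206214 = n211885 := d21_4 (iv5 D140731) F223610 F339976 D206214 (iv6 D211885) F227014 (iv1 F164934) (iv5 F172041) (iv6 F340038) (iv1 F340037)
def n211886 : Q := act 4 n144308
theorem D211886 : act 4 n144308 = n211886 := rfl
theorem F463405 : act 2 n211886 = n210319 := d1_1 D211886 F457002 (iv2 F400837)
theorem F463406 : act 7 n211886 = n210352 := d11_2 (iv7 F400835) D211886 F457156
theorem F463407 : act 5 n211886 = n164567 := d16_1 D211886 (iv4 F259427) F348720 F282516 (iv5 F342065) (iv4 F400842) F400841 (iv7 F400839) (iv2 F400837)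
theorem F463408 : act 0 n211886 = n156505 := d17_0 F362455 F368584 (iv5 F368585) (iv4 D110952) D110953 F410749 F410745 F400565 D211886
theorem F463409 : act 1 n211886 = n208328 := d18_6 F407749 F407746 (iv1 F259397) (iv4 F400828) F400831 D211886 F448932 (iv0 F457061) F457060
def n211887 : Q := act 4 n144309
theorem D211887 : act 4 n144309 = n211887 := rfl
theorem F463410 : act 2 n211887 = n210352 := d1_1 D211887 F457156 F400836
theorem F463411 : act 5 n211887 = n164568 := d9_2 F400841 D211887 F259419 F236557 F312030 (iv5 F342059) (iv4 F400828) F400831 D211886 F463407 (iv4 F259427) F348720 F282516 (iv5 F342065) (iv4 F400842)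
theorem F463412 : act 6 n211887 = n209984 := d10_2 (iv6 F406876) D211887 F455628
theorem F463413 : act 7 n211887 = n210319 := d11_2 F400839 D211887 F457002
theorem F463414 : act 0 n211887 = n208328 := d17_0 F448933 (iv1 F368629) F368626 (iv4 D110947) D110948 (iv0 F358648) (iv5 D144311) D144309 D211887
theorem F463415 : act 1 n211887 = n156505 := d18_6 F430266 (iv4 D164562) D164560 (iv4 F400842) F400841 D211887 (iv4 F247329) (iv0 F457069) F457068
theorem F463416 : act 3 n211887 = n156453 := d20_9 F221476 (iv1 F214376) D208061 (iv3 F447697) (iv1 F245977) F245974 (iv4 F400563) (iv1 F400568) D211887 (iv1 F245962)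
theorem F463417 : act 0 n194554 = n200212 := d19_4 (iv1 F259418) (iv5 F463411) (iv4 D211887) (iv3 F406877) F415534 (iv4 F417772) F435927 (iv1 D205318) (iv5 F349556) F402689 F328469 F359576 (iv5 F251438) (iv4 F335170) F314420 (iv1 F379421) F379418 (iv4 F338223) (iv3 F338222)
theorem F463418 : act 1 n194554 = n198343 := d15_1 (iv0 F463417) F407689 (iv2 F415533)
def n211888 : Q := act 6 n144310
theorem D211888 : act 6 n144310 = n211888 := rfl
theorem F463419 : act 2 n211888 = n144312 := d3_1 D211888 (iv6 D144312) D144310
theorem F463420 : act 3 n211888 = n206533 := d7_1 D211888 F441210 (iv3 F227024)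
theorem F463421 : act 4 n211888 = n209287 := d10_1 D211888 (iv6 F453052) F245987
theorem F463422 : act 7 n211888 = n209970 := d14_2 F400564 D211888 F455581 (iv7 F402597) F402596
theorem F463423 : act 0 n211888 = n209247 := d21_4 (iv5 F410756) (iv1 F434784) (iv5 F434783) D211888 F452888 F408832 (iv1 D198675) F361575 (iv6 D110962) (iv1 F357639)
theorem F463424 : act 5 n199213 = n211888 := d21_8 (iv5 F400567) (iv1 D110959) (iv5 D51161) F39032 D24917 D51230 D111076 D199213 (iv6 D211888) (iv1 F400566)
theorem F463425 : act 6 n205049 = n199213 := d12_0 F463424 (iv6 D211888) F434783 (iv6 D205050) D205049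
theorem F463426 : act 1 n211888 = n209973 := d15_1 (iv0 F463423) (iv7 D209973) (iv2 F452887)
def n211889 : Q := act 1 n144312
theorem D211889 : act 1 n144312 = n211889 := rfl
theorem F463427 : act 1 n211889 = n209970 := d15_1 D211889 (iv7 F463422) F463419
theorem F463428 : act 7 n211889 = n209247 := d15_2 (iv0 F408545) D211889 F452887
theorem F463429 : act 4 n211889 = n209248 := d18_7 F395907 (iv4 D141797) (iv1 D66482) (iv4 F102208) (iv5 F329081) F329404 D211889 F452893 (iv5 F395905)
theorem F463430 : act 5 n211889 = n154732 := d18_9 F401462 F401461 D209318 F453201 F424762 (iv4 D138115) D138114 F329404 D211889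
theorem F463431 : act 3 n154736 = n211889 := d20_9 (iv4 F329404) (iv1 D138114) D138115 F406987 F412404 (iv3 F402487) F402488 (iv1 F382090) F382089 (iv1 D211889)
theorem F463432 : act 1 n154732 = n199212 := d17_6 F411140 (iv5 D137193) (iv1 F218845) (iv5 F452891) (iv4 F463429) F463430 (iv5 D199212) (iv0 D111074) (iv4 F172261)
theorem F463433 : act 6 n211889 = n196891 := d21_3 D199212 (iv1 F463432) (iv5 F463430) (iv1 D196891) (iv6 D107429) F78365 (iv1 F172280) (iv5 D51229) D51230 D111074
theorem F463434 : act 2 n209973 = n211889 := d1_3 F463429 F452890 (iv4 F455586)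
def n211890 : Q := act 5 n144312
theorem D211890 : act 5 n144312 = n211890 := rfl
theorem F463435 : act 2 n211890 = n199213 := d2_1 D211890 F463424 F463419
theorem F463436 : act 3 n211890 = n144316 := d6_1 D211890 (iv5 D144316) (iv3 F227026)
theorem F463437 : act 6 n211890 = n211018 := d12_2 D144312 D211890 F459769 F434744 (iv5 D144311)
theorem F463438 : act 7 n211890 = n196683 := d13_2 F228451 D211890 F401476
theorem F463439 : act 4 n211890 = n195335 := d16_2 F329404 D211890 (iv5 D195335) F162032 D126702 D205863 F438179 (iv7 F453050) F453053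
theorem F463440 : act 0 n211890 = n199215 := d17_2 (iv1 D211889) D211890 F411189 F386874 (iv5 F386875) (iv0 F438289) F220622 F452892 (iv4 F463429)
theorem F463441 : act 1 n211890 = n199192 := d17_6 (iv1 F410454) F410452 (iv1 D141325) (iv5 F329081) F329404 D211890 (iv5 D199192) F401458 F401455
def n211891 : Q := act 3 n144315
theorem D211891 : act 3 n144315 = n211891 := rfl
theorem F463442 : act 2 n211891 = n202616 := d0_1 D211891 F424764 (iv2 F400243) F400244 F227036
theorem F463443 : act 4 n211891 = n196707 := d5_2 (iv4 F227035) D211891 F401554 F228677 (iv3 F217143)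
theorem F463444 : act 5 n211891 = n202249 := d6_2 F401436 D211891 F423399
theorem F463445 : act 6 n211891 = n196896 := d7_2 F227037 D211891 (iv3 D196896)
theorem F463446 : act 7 n211891 = n206530 := d8_2 (iv7 F227034) D211891 (iv3 D206530)
theorem F463447 : act 0 n211076 = n211891 := d21_4 (iv5 F223493) (iv1 F223495) (iv5 F223733) D211076 F463445 (iv5 F412379) (iv1 F412380) (iv5 F342482) (iv6 D140661) (iv1 F223492)
def n211892 : Q := act 3 n144317
theorem D211892 : act 3 n144317 = n211892 := rfl
theorem F463448 : act 4 n211892 = n208062 := d5_2 D144317 D211892 (iv3 D208062) F214396 (iv3 F168134)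
theorem F463449 : act 5 n211892 = n170375 := d6_2 F410977 D211892 F410979
theorem F463450 : act 6 n211892 = n198118 := d7_2 (iv6 F227043) D211892 F406907
theorem F463451 : act 7 n211892 = n202636 := d8_2 (iv7 F227044) D211892 F424869
theorem F463452 : act 0 n211892 = n196971 := d19_4 F164169 F164167 D144317 D211892 (iv5 F434299) (iv4 D204947) F243070 (iv1 F313726) (iv5 F181648) D202700 F425171 F221213 F328574 (iv4 F424512) F424511 (iv1 F217184) (iv5 F329632) F217383 F171714
theorem F463453 : act 2 n202637 = n211892 := d4_3 F463451 F424868 (iv7 F424875)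
theorem F463454 : act 1 n211892 = n205101 := d15_0 (iv0 F434978) (iv7 F424875) F463453
def n211893 : Q := act 3 n144318
theorem D211893 : act 3 n144318 = n211893 := rfl
theorem F463455 : act 2 n211893 = n179609 := d0_1 D211893 (iv3 D179609) (iv2 F314351) F247374 F404451
theorem F463456 : act 5 n211893 = n205133 := d6_2 F435084 D211893 (iv3 D205133)
theorem F463457 : act 6 n211893 = n204350 := d7_2 (iv6 F441216) D211893 F432156
theorem F463458 : act 7 n211893 = n175993 := d8_2 F404452 D211893 (iv3 F364904)

end Cfsg.Agent.Helper17.ONTC
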