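import Cfsg.Agent.Helper17.ONTC.Facts54

set_option autoImplicit false
set_option linter.all false

noncomputable section

namespace Cfsg.Agent.Helper17.ONTC

theorem F463459 : act 4 n211893 = n175994 := d20_6 (iv4 D27931) (iv1 F24464) D31409 D67619 D144318 D211893 (iv1 F345570) F209073 (iv3 D74715) (iv1 F53877)
theorem F463460 : act 1 n198337 = n211893 := d17_8 (iv1 F345570) F345572 (iv1 D150320) (iv5 F130684) D179115 (iv5 F378718) F407660 D198337 F463459
def n211894 : Q := act 6 n144319
theorem D211894 : act 6 n144319 = n211894 := rfl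
theorem F463461 : act 2 n211894 = n196905 := d3_1 D211894 (iv6 F402241) (iv2 F404449)
theorem F463462 : act 3 n211894 = n202764 := d7_1 D211894 (iv6 F425473) F404448
theorem F463463 : act 4 n211894 = n209692 := d10_1 D211894 F454656 F448176
theorem F463464 : act 7 n211894 = n196906 := d14_2 (iv7 F404450) D211894 F424528 F441222 (iv6 D206536)
theorem F463465 : act 0 n196904 = n211894 := d21_4 (iv5 F220816) (iv1 F165702) (iv5 F165747) D196904 (iv6 D211894) (iv5 F433312) (iv1 D125513) (iv5 D58757) F45130 D51052
theorem F463466 : act 0 n211894 = n196908 := d20_7 (iv4 F328996) (iv1 F48615) (iv4 F48732) (iv3 F100287) D136829 D209692 (iv4 F463463) F402245 (iv3 D193668) (iv1 D102210)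
def n211895 : Q := act 1 n144322
theorem D211895 : act 1 n144322 = n211895 := rfl
theorem F463467 : act 7 n211895 = n210553 := d15_2 (iv0 F434757) D211895 F458012
theorem F463468 : act 4 n211895 = n206539 := d17_9 (iv1 D206539) (iv5 F401472) F401473 F345330 (iv4 F197905) D204302 (iv0 F431959) F228458 D211895
theorem F463469 : act 3 n197764 = n211895 := d20_3 (iv4 D138644) F168566 (iv4 F405679) (iv1 D211895) (iv3 F400575) F395198 (iv1 F380582) (iv4 F412985) F412984 F223581
theorem F463470 : act 5 n202454 = n211895 := d21_0 (iv1 D211895) (iv5 F228458) (iv6 D145435) (iv1 F228454) (iv6 F342475) D211327 F461137 (iv5 D193727) D193728 (iv1 F424075)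
theorem F463471 : act 2 n211895 = n180166 := d2_1 F463470 F363321 (iv2 F424073)
theorem F463472 : act 6 n211895 = n180482 := d12_2 D202454 F463470 (iv5 F461371) (iv6 D211388) F224977
def n211896 : Q := act 7 n144322
theorem D211896 : act 7 n144322 = n211896 := rfl
theorem F463473 : act 3 n211896 = n194853 := d8_1 D211896 (iv7 F395197) F400575
theorem F463474 : act 6 n211896 = n206540 := d14_1 D211896 (iv7 D206540) (iv6 D128809) (iv7 F103634) D144322
theorem F463475 : act 1 n180166 = n211896 := d15_1 (iv0 F400576) (iv7 D211896) (iv2 F400573)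
theorem F463476 : act 1 n211896 = n210553 := d15_1 F463475 (iv7 F463467) F463471
def n211897 : Q := act 2 n144323
theorem D211897 : act 2 n144323 = n211897 := rfl
theorem F463477 : act 3 n211897 = n199615 := d0_2 D144323 D211897 (iv2 F412862) (iv3 D196453) (iv2 F164945)
theorem F463478 : act 4 n211897 = n189873 := d1_2 (iv4 F400580) D211897 (iv2 F394979)
theorem F463479 : act 5 n211897 = n157150 := d2_2 (iv5 F227054) D211897 (iv2 D157150)
theorem F463480 : act 6 n211897 = n178085 := d3_2 F400579 D211897 (iv2 F394975)
theorem F463481 : act 1 n200041 = n211897 := d17_6 (iv1 D200507) (iv5 F230889) (iv1 F461903) (iv5 F461902) (iv4 F398606) F414746 F463479 F404379 F416775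
def n211898 : Q := act 1 n144324
theorem D211898 : act 1 n144324 = n211898 := rfl
theorem F463482 : act 7 n211898 = n196869 := d15_2 (iv0 F402051) D211898 F402093
def n211899 : Q := act 7 n144324
theorem D211899 : act 7 n144324 = n211899 := rfl
theorem F463483 : act 3 n211899 = n178084 := d8_1 D211899 (iv7 F394976) (iv3 F400577)
theorem F463484 : act 4 n211899 = n211896 := d11_1 D211899 (iv7 D211896) (iv4 F227055)
theorem F463485 : act 5 n211899 = n211726 := d13_1 D211899 F462875 F401715
def n211900 : Q := act 6 n144325
theorem D211900 : act 6 n144325 = n211900 := rfl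
theorem F463486 : act 3 n211900 = n144326 := d7_1 D211900 (iv6 D144326) D144325
theorem F463487 : act 4 n211900 = n205040 := d10_1 D211900 F434739 F342032
theorem F463488 : act 5 n211900 = n192438 := d12_1 D211900 (iv6 F386715) (iv5 D145403) (iv6 F112137) (iv5 F227056)
theorem F463489 : act 0 n211900 = n180183 := d21_4 F342035 (iv1 D157153) (iv5 F227056) D211900 F365497 (iv5 F431779) (iv1 F431783) (iv5 D173240) (iv6 F271528) (iv1 F337618)
theorem F463490 : act 1 n211900 = n180178 := d15_1 (iv0 F463489) (iv7 F365500) F365498
theorem F463491 : act 7 n205051 = n211900 := d13_0 F463488 (iv7 F386934) (iv5 F434786)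
def n211901 : Q := act 0 n144326
theorem D211901 : act 0 n144326 = n211901 := rfl
theorem F463492 : act 4 n211901 = n196859 := d20_2 (iv4 F227057) D211901 (iv3 F462652) (iv1 F462657) (iv3 D204059) F299585 F297434 (iv4 F191503) (iv3 F429386) (iv1 F429389)
theorem F463493 : act 3 n211901 = n199632 := d20_5 F281418 (iv1 F434742) (iv4 F463487) F463486 D211901 F412922 F299804 D180131 (iv3 F359334) F355395
theorem F463494 : act 6 n211901 = n196858 := d21_5 F78170 (iv1 F53878) (iv5 F103641) D144326 D211901 F402050 F400873 (iv5 F346365) F172334 F92865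
theorem F463495 : act 5 n210384 = n211901 := d6_0 F463493 (iv5 F412923) D210384
theorem F463496 : act 7 n211124 = n211901 := d8_0 F463493 F412924 (iv3 F460199)
def n211902 : Q := act 1 n144326
theorem D211902 : act 1 n144326 = n211902 := rfl
theorem F463497 : act 5 n211121 = n211902 := d21_0 (iv1 D211902) (iv5 F228435) (iv6 D145405) (iv1 F228432) (iv6 F388152) D211455 F461615 (iv5 D193315) D193316 (iv1 F460193)
theorem F463498 : act 2 n211902 = n211124 := d2_1 F463497 (iv5 D211124) (iv2 F460190)
def n211903 : Q := act 7 n144326
theorem D211903 : act 7 n144326 = n211903 := rfl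
theorem F463499 : act 3 n211903 = n205051 := d8_1 D211903 F463491 F463486
theorem F463500 : act 4 n211903 = n205052 := d11_1 D211903 F434789 (iv4 F227057)
theorem F463501 : act 1 n211124 = n211903 := d15_1 (iv0 F460200) (iv7 D211903) (iv2 F400726)
def n211904 : Q := act 5 n144346
theorem D211904 : act 5 n144346 = n211904 := rfl
theorem F463502 : act 2 n211904 = n206311 := d2_1 D211904 (iv5 D206311) (iv2 F347142)
theorem F463503 : act 3 n211904 = n144347 := d6_1 D211904 (iv5 D144347) D144346
theorem F463504 : act 7 n211904 = n206310 := d13_2 (iv7 F346566) D211904 (iv5 D206310)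
theorem F463505 : act 0 n211904 = n176474 := d21_1 D211904 (iv5 F392948) F392944 F365701 (iv6 F365698) D205833 F438054 (iv5 F333070) F347140 (iv1 F415297)
theorem F463506 : act 6 n211904 = n150243 := d21_9 F429617 (iv1 F414881) F414878 F346106 (iv1 F206352) (iv6 D128220) (iv5 F206346) (iv1 F415297) D211904 (iv1 F429620)
def n211905 : Q := act 6 n144346
theorem D211905 : act 6 n144346 = n211905 := rfl
theorem F463507 : act 2 n211905 = n193503 := d3_1 D211905 F422850 (iv2 F347142)
theorem F463508 : act 3 n211905 = n144348 := d7_1 D211905 (iv6 D144348) D144346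
theorem F463509 : act 4 n211905 = n193511 := d10_1 D211905 (iv6 F425655) F425654
theorem F463510 : act 5 n211905 = n180628 := d12_1 D211905 (iv6 F417682) (iv5 F417681) (iv6 F463506) (iv5 D211904)
theorem F463511 : act 7 n211905 = n180627 := d14_2 (iv7 F346566) D211905 F344733 (iv7 F409687) F409690
theorem F463512 : act 0 n194318 = n211905 := d21_4 F365699 F392811 F392809 D194318 (iv6 D211905) D211904 F463505 (iv5 F392948) F392944 F365701
theorem F463513 : act 1 n189178 = n211905 := d15_0 (iv0 F463512) F392813 (iv2 F375968)
def n211906 : Q := act 6 n144355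
theorem D211906 : act 6 n144355 = n211906 := rfl
theorem F463514 : act 2 n211906 = n200472 := d3_1 D211906 F416595 F364896
theorem F463515 : act 3 n211906 = n144357 := d7_1 D211906 (iv6 D144357) D144355
theorem F463516 : act 4 n211906 = n201959 := d10_1 D211906 F422526 F362475
theorem F463517 : act 7 n211906 = n197070 := d14_2 (iv7 F362474) D211906 (iv6 D197070) (iv7 F165989) D108834
theorem F463518 : act 0 n200470 = n211906 := d21_4 (iv5 F187779) (iv1 F233267) (iv5 F188304) (iv6 F416588) (iv6 D211906) F364895 F364023 (iv5 F188514) (iv6 D119540) (iv1 F187778)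
theorem F463519 : act 1 n200471 = n211906 := d15_0 (iv0 F463518) (iv7 F423106) F423104
def n211907 : Q := act 4 n144379
theorem D211907 : act 4 n144379 = n211907 := rfl
theorem F463520 : act 2 n211907 = n194513 := d1_1 D211907 (iv4 D194513) (iv2 F364507)
theorem F463521 : act 6 n211907 = n155935 := d10_2 (iv6 F322413) D211907 (iv4 D155935)
theorem F463522 : act 7 n211907 = n198588 := d11_2 F334907 D211907 F408417
theorem F463523 : act 5 n211907 = n197187 := d16_1 D211907 F403451 (iv5 F355811) (iv4 F231814) (iv5 D146100) (iv4 F319863) (iv5 F393521) (iv7 D194514) (iv2 F364507)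
theorem F463524 : act 0 n211907 = n198591 := d17_0 (iv5 F453960) (iv1 F453963) (iv5 D136623) (iv4 F219739) (iv5 F397390) F397393 (iv5 F364016) (iv0 F364018) D211907
theorem F463525 : act 1 n211907 = n198589 := d18_6 F247809 F227832 (iv1 F243195) (iv4 F315422) (iv5 F322412) D211907 F408420 F353446 (iv5 F353442)
def n211908 : Q := act 3 n144385
theorem D211908 : act 3 n144385 = n211908 := rfl
theorem F463526 : act 2 n211908 = n174601 := d0_1 D211908 (iv3 F434078) F420979 (iv3 F420980) (iv2 F322404)
theorem F463527 : act 5 n211908 = n203164 := d6_2 (iv5 F322405) D211908 (iv3 D203164)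
theorem F463528 : act 6 n211908 = n179640 := d7_2 (iv6 F322406) D211908 (iv3 D179640)
theorem F463529 : act 7 n211908 = n174602 := d8_2 (iv7 F322407) D211908 F346558
theorem F463530 : act 0 n211908 = n174603 := d20_4 F313789 (iv1 F320626) D144385 D211908 (iv3 F438211) F438212 F436427 (iv4 D205438) F325669 D163230
theorem F463531 : act 0 n170734 = n211908 := d20_4 F176376 (iv1 F100101) (iv4 F219923) F346274 (iv3 D211908) (iv4 D144385) (iv1 D67656) (iv4 F103652) F103651 D67630
def n211909 : Q := act 5 n144394
theorem D211909 : act 5 n144394 = n211909 := rfl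
theorem F463532 : act 2 n211909 = n210673 := d2_1 D211909 (iv5 D210673) (iv2 F349410)
theorem F463533 : act 3 n211909 = n198056 := d6_1 D211909 (iv5 D198056) (iv3 F227158)
theorem F463534 : act 7 n211909 = n210554 := d13_2 (iv7 F227159) D211909 (iv5 D210554)
theorem F463535 : act 0 n211909 = n210394 := d17_2 F366325 D211909 (iv5 D210394) F360543 F227744 F313056 (iv5 F333246) (iv0 D144493) (iv4 F180555)
theorem F463536 : act 1 n211909 = n210396 := d17_6 F319262 (iv5 F355715) (iv1 F355713) (iv5 D144395) D144394 D211909 (iv5 D210396) (iv0 F353413) F244707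
def n211910 : Q := act 4 n144402
theorem D211910 : act 4 n144402 = n211910 := rfl
theorem F463537 : act 2 n211910 = n147188 := d1_1 D211910 (iv4 F355141) F360568
theorem F463538 : act 3 n211910 = n160720 := d5_1 D211910 F298397 F304584 F320550 (iv3 F227177)
theorem F463539 : act 6 n211910 = n147076 := d10_2 (iv6 F360567) D211910 (iv4 F243144)
theorem F463540 : act 7 n211910 = n160713 := d11_2 (iv7 F227178) D211910 (iv4 F319653)
theorem F463541 : act 1 n211910 = n166491 := d18_6 (iv1 D147880) (iv4 F359816) (iv1 F359815) (iv4 D144401) D144402 D211910 F346916 (iv0 F192423) F306848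
def n211911 : Q := act 4 n144406
theorem D211911 : act 4 n144406 = n211911 := rfl
theorem F463542 : act 5 n211911 = n200960 := d16_1 D211911 F418508 (iv5 F395594) F176595 (iv5 D68138) D68137 D145326 (iv7 F401019) F401018
theorem F463543 : act 3 n205979 = n211911 := d6_3 F463542 (iv3 F418510) (iv5 F438678)
theorem F463544 : act 6 n205978 = n211911 := d12_0 F463542 (iv6 F418511) (iv5 D132380) (iv6 F204112) D205978
def n211912 : Q := act 6 n144406
theorem D211912 : act 6 n144406 = n211912 := rfl
theorem F463545 : act 2 n211912 = n199623 := d3_1 D211912 (iv6 F412892) F401018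
theorem F463546 : act 3 n211912 = n198100 := d7_1 D211912 (iv6 F458779) F458778
theorem F463547 : act 4 n211912 = n205978 := d10_1 D211912 F463544 (iv4 D211911)
theorem F463548 : act 5 n211912 = n196506 := d12_1 D211912 (iv6 D196506) (iv5 F172338) F172337 D144406
theorem F463549 : act 0 n199467 = n205978 := d18_2 (iv1 F412291) D199467 (iv4 F463547) F463548 (iv4 F405523) (iv0 F412367) (iv4 D199490) F409171 (iv5 F412284)
def n211913 : Q := act 0 n144412
theorem D211913 : act 0 n144412 = n211913 := rfl
theorem F463550 : act 4 n211913 = n191521 := d20_2 (iv4 F227196) D211913 (iv3 D191521) (iv1 F272743) (iv3 F357415) (iv4 D138262) F168368 (iv4 F226710) (iv3 F392817) F392819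
theorem F463551 : act 6 n211913 = n192272 := d21_5 (iv5 D49491) (iv1 F49719) D67670 D144412 D211913 (iv5 F386261) (iv1 F427304) (iv5 D195519) (iv6 D105647) (iv1 F78243)
theorem F463552 : act 1 n144436 = n211913 := d15_0 (iv0 D211913) (iv7 F462638) F462637
theorem F463553 : act 5 n211913 = n204341 := d18_9 F432112 F396999 (iv1 F388039) (iv4 F427522) (iv5 F458057) F458056 F407926 F407924 F463552
theorem F463554 : act 2 n144433 = n211913 := d2_3 F463553 (iv2 F458020) F458026
theorem F463555 : act 7 n144434 = n211913 := d13_0 F463553 (iv7 F432111) (iv5 F427576)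
theorem F463556 : act 3 n191513 = n211913 := d7_3 F463551 (iv3 D192272) (iv6 F383630)
def n211914 : Q := act 1 n144412
theorem D211914 : act 1 n144412 = n211914 := rfl
theorem F463557 : act 1 n211914 = n144436 := d15_1 D211914 (iv7 D144436) (iv2 F227195)
theorem F463558 : act 7 n211914 = n144433 := d15_2 (iv0 D211913) D211914 F463554
theorem F463559 : act 4 n211914 = n194609 := d18_7 (iv1 F366286) F200883 (iv1 F325037) D116806 (iv5 F346861) (iv4 F227196) D211914 F408016 F408015
theorem F463560 : act 5 n211914 = n204342 := d18_9 (iv1 D204342) (iv4 D123551) D123549 D204340 (iv5 F458055) F458054 F385698 (iv4 F227196) D211914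
theorem F463561 : act 2 n144434 = n211914 := d2_3 F463560 (iv2 F432116) (iv5 F427576)
theorem F463562 : act 3 n198153 = n211914 := d6_3 F463560 (iv3 F432115) (iv5 F407005)
theorem F463563 : act 6 n211914 = n194368 := d7_2 F407868 F463562 F407867
def n211915 : Q := act 5 n144412
theorem D211915 : act 5 n144412 = n211915 := rfl
theorem F463564 : act 2 n211915 = n144435 := d2_1 D211915 (iv5 D144435) (iv2 F227195)
theorem F463565 : act 3 n211915 = n205447 := d6_1 D211915 F436469 (iv3 F436475)
theorem F463566 : act 6 n211915 = n144414 := d12_2 D144412 D211915 (iv5 D144414) (iv6 D67671) D67670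
theorem F463567 : act 4 n211915 = n171027 := d16_2 (iv4 F227196) D211915 (iv5 D171027) F307746 (iv5 F322123) D142384 (iv5 F407925) (iv7 D198408) (iv2 F174036)
theorem F463568 : act 1 n211915 = n211089 := d17_8 F461734 (iv5 D191899) F311803 D157478 (iv4 F432109) (iv5 F463553) (iv0 D211913) D211915 (iv4 F461733)
def n211916 : Q := act 3 n144413
theorem D211916 : act 3 n144413 = n211916 := rfl
theorem F463569 : act 4 n211916 = n145304 := d5_2 (iv4 F227199) D211916 (iv3 D145304) (iv4 F104283) (iv3 F164866)
theorem F463570 : act 7 n211916 = n144437 := d8_2 (iv7 F227198) D211916 (iv3 D144437)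
theorem F463571 : act 1 n196593 = n211916 := d15_1 (iv0 F404188) F463570 (iv2 F404185)
def n211917 : Q := act 5 n144413
theorem D211917 : act 5 n144413 = n211917 := rfl
theorem F463572 : act 2 n211917 = n144440 := d2_1 D211917 (iv5 D144440) F227200
theorem F463573 : act 7 n211917 = n144438 := d13_2 (iv7 F227198) D211917 (iv5 D144438)
theorem F463574 : act 4 n211917 = n192477 := d16_2 (iv4 F227199) D211917 (iv5 F446571) (iv4 D207814) (iv5 D132394) (iv4 F97393) F97394 (iv7 F101149) (iv2 F164865)
theorem F463575 : act 0 n211917 = n197280 := d17_2 (iv1 F227197) D211917 (iv5 F438401) F438398 F203987 F96822 F103694 F103692 (iv4 F103717)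
theorem F463576 : act 6 n197257 = n211917 := d21_9 (iv5 F438401) F438400 F404324 (iv6 F438103) (iv1 F396929) F215917 (iv5 F397335) F403621 F434686 F463575
def n211918 : Q := act 0 n144414
theorem D211918 : act 0 n144414 = n211918 := rfl
theorem F463577 : act 5 n211918 = n208518 := d17_3 (iv1 D144413) D144414 D211918 (iv4 D208518) (iv5 D134478) F168153 (iv5 F78235) F164868 (iv4 F227199)
theorem F463578 : act 6 n211918 = n195393 := d21_5 (iv5 F463560) (iv1 D211914) D211915 F463566 D211918 F405340 (iv1 D105592) D105594 D195439 (iv1 F432113)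
theorem F463579 : act 2 n144442 = n211918 := d15_3 (iv0 D211918) F448561 (iv7 F448562)
theorem F463580 : act 1 n144445 = n211918 := d15_0 (iv0 D211918) (iv7 F397021) (iv2 F397022)
theorem F463581 : act 7 n211918 = n144443 := d15_2 (iv0 F448560) F463580 (iv2 F448558)
def n211919 : Q := act 3 n144417
theorem D211919 : act 3 n144417 = n211919 := rfl
theorem F463582 : act 2 n211919 = n210573 := d0_1 D211919 F458088 F422541 (iv3 D201964) (iv2 F422546)
theorem F463583 : act 5 n211919 = n207845 := d6_2 F414628 D211919 F446688
theorem F463584 : act 7 n211919 = n201967 := d8_2 (iv7 F422547) D211919 (iv3 D201967)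
theorem F463585 : act 0 n211919 = n198071 := d20_4 (iv4 F458641) (iv1 F458645) F423339 D211919 F406655 (iv4 F406657) (iv1 F452825) F452822 F396604 (iv1 F422761)
theorem F463586 : act 0 n144421 = n211919 := d20_4 (iv4 D116868) D116865 F182487 D144421 (iv3 D211919) (iv4 F423339) F423340 (iv4 F404276) (iv3 D139801) F182595
def n211920 : Q := act 6 n144417
theorem D211920 : act 6 n144417 = n211920 := rfl
theorem F463587 : act 2 n211920 = n201966 := d3_1 D211920 (iv6 D201966) (iv2 F422546)
def n211921 : Q := act 5 n144419
theorem D211921 : act 5 n144419 = n211921 := rfl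
theorem F463588 : act 3 n211921 = n144420 := d6_1 D211921 (iv5 D144420) (iv3 F227213)
theorem F463589 : act 4 n211921 = n203538 := d16_6 (iv4 F310625) (iv5 F350670) (iv4 F422278) (iv5 D201897) (iv4 F227214) D211921 F428786 (iv7 D157434) (iv2 F209792)
theorem F463590 : act 1 n211921 = n155899 := d17_8 (iv1 F185784) F185781 (iv1 F167536) F343406 D141363 F404272 (iv0 F404299) D211921 (iv4 D155899)
theorem F463591 : act 0 n211921 = n155903 := d18_0 (iv4 D155903) (iv1 D74145) (iv4 F110864) D155895 F403816 F245150 (iv4 F404269) (iv0 F404299) D211921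
def n211922 : Q := act 0 n144420
theorem D211922 : act 0 n144420 = n211922 := rfl
theorem F463592 : act 5 n211922 = n145704 := d17_3 (iv1 F162160) D144420 D211922 (iv4 D145704) (iv5 D68299) (iv0 F166177) F39853 D48809 D105569
theorem F463593 : act 4 n211922 = n210894 := d18_1 D211922 F459185 F409570 (iv5 D145641) (iv4 D68270) (iv0 D31767) D31770 (iv0 F103706) D144420
theorem F463594 : act 3 n211922 = n144729 := d20_5 F427539 (iv1 F428784) (iv4 F463589) F463588 D211922 (iv4 D144729) (iv1 D67823) (iv4 F103832) (iv3 F321535) D203257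
theorem F463595 : act 1 n145646 = n211922 := d15_0 (iv0 D211922) (iv7 F425960) F425959
theorem F463596 : act 7 n196607 = n211922 := d8_0 F463594 (iv7 F404351) (iv3 F404359)
theorem F463597 : act 2 n211922 = n196606 := d15_3 (iv0 D196606) D196607 F463596
def n211923 : Q := act 1 n144420
theorem D211923 : act 1 n144420 = n211923 := rfl
theorem F463598 : act 1 n211923 = n145646 := d15_1 D211923 F228665 (iv2 F227215)
theorem F463599 : act 7 n211923 = n196606 := d15_2 (iv0 D211922) D211923 (iv2 F463597)
theorem F463600 : act 5 n211923 = n196721 := d17_7 (iv1 D196723) F168798 (iv1 D108827) F79626 (iv4 F103705) D144420 D211923 F460047 F460043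
theorem F463601 : act 4 n211923 = n193212 := d17_9 F415371 (iv5 F404838) (iv1 F436384) F436380 (iv4 D145654) (iv5 D68275) (iv0 F103706) D144420 D211923
theorem F463602 : act 2 n196607 = n211923 := d16_9 F463601 F389192 F351690 (iv5 D145703) (iv4 D68298) D68299 D145704 (iv5 F463592) (iv7 F463596)
theorem F463603 : act 0 n195397 = n211112 := d20_4 F463601 F415371 (iv4 D195407) (iv3 F396908) (iv3 D211112) (iv4 D140696) (iv1 F175464) (iv4 F407312) F407311 (iv1 F463598)
def n211924 : Q := act 4 n144420
theorem D211924 : act 4 n144420 = n211924 := rfl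
theorem F463604 : act 2 n211924 = n196608 := d1_1 D211924 (iv4 D196608) (iv2 F227215)
theorem F463605 : act 5 n211924 = n163176 := d16_1 D211924 (iv4 D163176) (iv5 F342299) F170766 F165119 (iv4 F104425) D145646 F228665 (iv2 F227215)
def n211925 : Q := act 6 n144423
theorem D211925 : act 6 n144423 = n211925 := rfl
theorem F463606 : act 3 n211925 = n144424 := d7_1 D211925 (iv6 D144424) D144423
theorem F463607 : act 7 n211925 = n211156 := d14_2 (iv7 F227220) D211925 F460368 F427346 F366345
theorem F463608 : act 0 n211925 = n195485 := d21_4 (iv5 F344619) (iv1 F179737) F364301 D211925 (iv6 D195485) (iv5 D105620) D105617 D195476 F397107 F347210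
def n211926 : Q := act 6 n144425
theorem D211926 : act 6 n144425 = n211926 := rfl
theorem F463609 : act 2 n211926 = n144428 := d3_1 D211926 (iv6 D144428) (iv2 F227222)
theorem F463610 : act 0 n155891 = n211926 := d21_4 (iv5 F396854) F404053 (iv5 D155890) D155891 (iv6 D211926) (iv5 D144425) (iv1 F103712) D139825 (iv6 F404050) F404052
def n211927 : Q := act 7 n144426
theorem D211927 : act 7 n144426 = n211927 := rfl
theorem F463611 : act 2 n211927 = n144432 := d4_1 D211927 (iv7 D144432) (iv2 F227226)
theorem F463612 : act 3 n211927 = n197283 := d8_1 D211927 F403826 F397015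
theorem F463613 : act 4 n211927 = n144466 := d11_1 D211927 (iv7 D144466) (iv4 F227227)
theorem F463614 : act 5 n211927 = n209303 := d13_1 D211927 F453115 (iv5 F397013)
theorem F463615 : act 6 n211927 = n210799 := d14_1 D211927 (iv7 D210799) (iv6 D139815) (iv7 F103709) D144426
theorem F463616 : act 1 n144430 = n211927 := d15_1 D144430 (iv7 D211927) F227226
theorem F463617 : act 1 n211927 = n144429 := d15_1 F463616 (iv7 F427472) F427470
def n211928 : Q := act 6 n144427
theorem D211928 : act 6 n144427 = n211928 := rfl
theorem F463618 : act 3 n211928 = n162959 := d7_1 D211928 (iv6 F341872) (iv3 F353509)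
theorem F463619 : act 4 n211928 = n144428 := d10_1 D211928 (iv6 D144428) D144427
theorem F463620 : act 5 n211928 = n163034 := d12_1 D211928 F329757 (iv5 F250809) (iv6 F340645) (iv5 F227229)
theorem F463621 : act 0 n144428 = n163200 := d20_7 F88398 (iv1 F309337) (iv4 F311374) (iv3 F119570) D162959 (iv3 F463618) F463619 (iv4 D163200) (iv3 D78442) (iv1 F88401)
def n211929 : Q := act 1 n144428
theorem D211929 : act 1 n144428 = n211929 := rfl
theorem F463622 : act 4 n211929 = n155916 := d18_7 (iv1 F193108) (iv4 F353963) F353975 F329866 (iv5 F463620) F463619 D211929 F339265 (iv5 D163062)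
theorem F463623 : act 2 n155891 = n211929 := d1_3 F463622 F244902 (iv4 F244884)
theorem F463624 : act 3 n144712 = n211929 := d5_5 F463622 (iv3 F353969) F219882 F182646 (iv4 F227546)
theorem F463625 : act 5 n198654 = n211929 := d9_0 F463622 (iv5 F339278) (iv4 F405463) (iv5 F405466) (iv4 F408741) (iv5 D198658) D198657 F408731 (iv4 D163200) F119633 (iv4 F129724) (iv5 F341340) F408728 (iv5 D198655) D198654
theorem F463626 : act 6 n144710 = n211929 := d10_0 F463622 (iv6 D155916) F325003
def n211930 : Q := act 5 n144428
theorem D211930 : act 5 n144428 = n211930 := rfl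
theorem F463627 : act 3 n211930 = n144435 := d6_1 D211930 (iv5 D144435) (iv3 F227230)
theorem F463628 : act 6 n211930 = n144431 := d12_2 D144428 D211930 (iv5 D144431) (iv6 D67680) D67679
theorem F463629 : act 4 n211930 = n209305 := d16_4 F329866 (iv5 F463620) F463619 D211930 F453127 (iv4 F363325) F363323 F353990 (iv2 F257961)
def n211931 : Q := act 7 n144428
theorem D211931 : act 7 n144428 = n211931 := rfl
theorem F463630 : act 3 n211931 = n144436 := d8_1 D211931 (iv7 D144436) (iv3 F227230)
theorem F463631 : act 6 n211931 = n210805 := d14_1 D211931 (iv7 D210805) (iv6 D139828) (iv7 F103714) D144428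
theorem F463632 : act 1 n155891 = n211931 := d15_1 (iv0 F463610) (iv7 D211931) (iv2 F463609)
def n211932 : Q := act 3 n144429
theorem D211932 : act 3 n144429 = n211932 := rfl
theorem F463633 : act 4 n211932 = n210326 := d5_2 (iv4 F363461) D211932 F457041 F348290 F340752
theorem F463634 : act 6 n211932 = n156269 := d7_2 (iv6 F363462) D211932 F332269
theorem F463635 : act 7 n211932 = n210586 := d8_2 F427472 D211932 F458138
theorem F463636 : act 2 n210584 = n211932 := d4_3 F463635 F458137 (iv7 F458132)
def n211933 : Q := act 5 n144429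
theorem D211933 : act 5 n144429 = n211933 := rfl
theorem F463637 : act 4 n211933 = n192275 := d16_2 (iv4 F363461) D211933 F386271 (iv4 F428778) (iv5 D203536) (iv4 F267245) D169819 (iv7 F340778) F340781
theorem F463638 : act 0 n211933 = n197281 := d17_2 D144429 D211933 (iv5 F462115) F462113 (iv5 F307725) F307723 F317339 (iv0 D67700) (iv4 F103716)
def n211934 : Q := act 6 n144433
theorem D211934 : act 6 n144433 = n211934 := rfl
theorem F463639 : act 2 n211934 = n192272 := d3_1 D211934 (iv6 F463551) (iv2 F463554)
theorem F463640 : act 3 n211934 = n198132 := d7_1 D211934 F406952 (iv3 F408007)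
theorem F463641 : act 4 n211934 = n192276 := d10_1 D211934 (iv6 F408002) (iv4 F408008)
theorem F463642 : act 0 n194304 = n211934 := d18_2 (iv1 F390764) D194304 F463641 F386268 (iv4 F392676) (iv0 D194289) (iv4 D103156) (iv0 F335522) D190973
theorem F463643 : act 0 n211934 = n193713 := d20_1 (iv4 F463641) (iv4 D193713) (iv3 D102255) D102253 (iv3 F368753) F368756 (iv1 F385521) (iv4 F414390) F414388 (iv1 F390570)
def n211935 : Q := act 3 n144434
theorem D211935 : act 3 n144434 = n211935 := rfl
theorem F463644 : act 4 n211935 = n191514 := d5_2 F425224 D211935 F383631 (iv4 F156803) D193509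
theorem F463645 : act 7 n211935 = n191513 := d8_2 (iv7 F463555) D211935 F463556
theorem F463646 : act 1 n193419 = n211935 := d17_8 (iv1 F383633) (iv5 D153304) (iv1 F312486) (iv5 F362499) (iv4 F454004) (iv5 F454006) (iv0 D193416) D193419 F463644
def n211936 : Q := act 6 n144434
theorem D211936 : act 6 n144434 = n211936 := rfl
theorem F463647 : act 2 n211936 = n194368 := d3_1 D211936 (iv6 F463563) (iv2 F463561)
theorem F463648 : act 4 n211936 = n192412 := d10_1 D211936 (iv6 F390126) F425224
theorem F463649 : act 7 n211936 = n194369 := d14_2 (iv7 F463555) D211936 F392960 F390573 (iv6 F463551)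
theorem F463650 : act 1 n191160 = n211936 := d15_1 (iv0 F382445) F463649 F392959
theorem F463651 : act 0 n194366 = n211936 := d18_2 (iv1 F296437) D194366 F463648 (iv5 D192412) (iv4 D100164) F73865 (iv4 F75113) (iv0 F157756) (iv5 F296080)
def n211937 : Q := act 0 n144435
theorem D211937 : act 0 n144435 = n211937 := rfl
theorem F463652 : act 4 n211937 = n192354 := d18_3 D204333 (iv4 F432092) D211937 (iv5 F386551) (iv4 F244089) F317089 (iv4 F317092) F197948 D123542
theorem F463653 : act 7 n211089 = n211937 := d11_0 F463652 (iv7 F461732) F461733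
theorem F463654 : act 3 n211937 = n210941 := d8_1 F463653 (iv7 F459391) D211089
def n211938 : Q := act 1 n144435
theorem D211938 : act 1 n144435 = n211938 := rfl
theorem F463655 : act 4 n211938 = n192353 := d17_9 (iv1 F386547) (iv5 D184243) (iv1 F232753) D192348 (iv4 F458022) F458026 (iv0 D144433) D144435 D211938
theorem F463656 : act 3 n193417 = n211938 := d20_9 F432092 (iv1 F432088) D204338 F432103 F416372 (iv3 F429203) (iv4 D203641) F189184 (iv4 F389784) (iv1 D211938)
theorem F463657 : act 2 n211938 = n211089 := d0_1 F463656 (iv3 D211089) F459399 (iv3 F459398) F389785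
def n211939 : Q := act 7 n144435
theorem D211939 : act 7 n144435 = n211939 := rfl
theorem F463658 : act 4 n211939 = n192852 := d11_1 D211939 (iv7 F432089) (iv4 F432092)
theorem F463659 : act 5 n211939 = n144436 := d13_1 D211939 (iv7 D144436) D144435
theorem F463660 : act 1 n211089 = n211939 := d15_1 F463568 (iv7 D211939) (iv2 F463564)
def n211940 : Q := act 0 n144437
theorem D211940 : act 0 n144437 = n211940 := rfl
theorem F463661 : act 5 n211940 = n211070 := d19_1 D211940 F459989 F342498 (iv1 F342509) (iv5 F364621) (iv4 F364624) (iv3 F393976) F393979 D209599 F458355 F449150 (iv1 F363075) F304300 F329435 D130728 (iv1 F213982) F99022 (iv4 F111121) D144437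
theorem F463662 : act 3 n211940 = n211548 := d20_5 F101147 F78149 (iv4 F111121) D144437 D211940 (iv4 F462075) (iv1 D209703) D209705 F454681 (iv1 D139400)
theorem F463663 : act 7 n196593 = n211940 := d13_0 F463661 (iv7 D211070) F405737
def n211941 : Q := act 5 n144437
theorem D211941 : act 5 n144437 = n211941 := rfl
theorem F463664 : act 3 n211941 = n144438 := d6_1 D211941 (iv5 D144438) D144437
theorem F463665 : act 4 n211941 = n198131 := d16_4 F433283 (iv5 D196419) (iv4 F227236) D211941 (iv5 F449966) F449969 D211065 F459969 (iv2 F433282)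
def n211942 : Q := act 1 n144438
theorem D211942 : act 1 n144438 = n211942 := rfl
theorem F463666 : act 1 n211942 = n144440 := d15_1 D211942 (iv7 F245245) F245244
theorem F463667 : act 5 n211942 = n144755 := d17_7 F219890 F219888 (iv1 F213982) F99022 (iv4 F111121) D144438 D211942 (iv0 F449705) (iv4 D208518)
theorem F463668 : act 4 n211942 = n192881 := d17_9 (iv1 F457144) F457139 (iv1 F365824) (iv5 F397025) (iv4 F397020) (iv5 F397023) F227205 D144438 D211942
theorem F463669 : act 2 n197280 = n211942 := d1_3 F463668 (iv2 F411415) F411416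
theorem F463670 : act 6 n192880 = n211942 := d10_0 F463668 (iv6 D192881) D192880
def n211943 : Q := act 4 n144438
theorem D211943 : act 4 n144438 = n211943 := rfl
theorem F463671 : act 2 n211943 = n192476 := d1_1 D211943 (iv4 F404033) F245244
theorem F463672 : act 5 n211943 = n207908 := d9_2 D144438 D211943 (iv4 D207908) F212782 (iv4 F213978) F213979 F110995 D144440 (iv4 F440141) (iv5 F441921) (iv4 D206706) (iv5 D129130) (iv4 F99021) F99022 (iv4 F111121)
theorem F463673 : act 7 n211943 = n192477 := d11_2 F463573 D211943 (iv4 F463574)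
theorem F463674 : act 0 n211943 = n192478 := d18_2 (iv1 D211942) D211943 F404036 F403915 F396981 (iv0 F219411) (iv4 F397210) (iv0 F397211) (iv5 F463667)
theorem F463675 : act 1 n211943 = n192471 := d18_6 (iv1 D139400) F101147 F78149 (iv4 F111121) D144438 D211943 F438416 (iv0 F458069) (iv5 D210568)
def n211944 : Q := act 3 n144442
theorem D211944 : act 3 n144442 = n211944 := rfl
theorem F463676 : act 5 n211944 = n211085 := d6_2 F460799 D211944 (iv3 F460796)
theorem F463677 : act 6 n211944 = n196728 := d7_2 (iv6 F460779) D211944 F460778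
theorem F463678 : act 7 n211944 = n211069 := d8_2 (iv7 F448562) D211944 (iv3 F459986)
theorem F463679 : act 4 n211392 = n211944 := d20_2 (iv4 F449975) (iv1 F461386) (iv3 D211944) (iv1 F397027) (iv3 D195451) F166500 (iv1 D49548) (iv4 F78309) (iv3 F165283) D196711
theorem F463680 : act 2 n211944 = n211068 := d1_1 F463679 F459981 (iv2 F461384)
theorem F463681 : act 0 n211944 = n211070 := d18_2 (iv1 F461386) F463679 F459989 F223730 (iv4 F169162) F363338 (iv4 F449969) (iv0 D208576) D208577
theorem F463682 : act 1 n211944 = n210936 := d18_6 (iv1 D109066) F79740 D66537 D141938 D211392 F463679 (iv4 D210936) (iv0 F342494) (iv5 F331096)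
def n211945 : Q := act 4 n144442
theorem D211945 : act 4 n144442 = n211945 := rfl
theorem F463683 : act 5 n211945 = n191842 := d16_1 D211945 (iv4 F446538) (iv5 D132560) (iv4 F179219) (iv5 F180048) (iv4 F404323) F404324 (iv7 F463581) (iv2 F463579)
theorem F463684 : act 1 n211945 = n210570 := d18_6 (iv1 F397236) F224325 D141306 D211247 F460799 D211945 (iv4 D210570) F448593 F448590
def n211946 : Q := act 4 n144443
theorem D211946 : act 4 n144443 = n211946 := rfl
theorem F463685 : act 5 n211946 = n191841 := d9_2 F404324 D211946 F421340 (iv5 D132558) F164579 (iv5 F224328) D211247 F460799 D211945 F463683 (iv4 F446538) (iv5 D132560) (iv4 F179219) (iv5 F180048) (iv4 F404323)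
theorem F463686 : act 0 n211946 = n210570 := d18_2 (iv1 F397024) D211946 (iv4 D210570) (iv5 D139401) F101147 D65429 F110995 F227204 F397023
theorem F463687 : act 0 n210562 = n195489 := d20_4 D211946 F463686 (iv4 D210570) (iv3 F458049) F397128 (iv4 F165269) (iv1 F165272) (iv4 F166500) D195451 (iv1 F397024)
def n211947 : Q := act 6 n144445
theorem D211947 : act 6 n144445 = n211947 := rfl
theorem F463688 : act 2 n211947 = n197334 := d3_1 D211947 F403982 (iv2 F397022)
theorem F463689 : act 4 n211947 = n199376 := d10_1 D211947 F425012 F425007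
theorem F463690 : act 0 n199334 = n211947 := d21_4 D197259 F411745 F411746 D199334 (iv6 D211947) F227242 (iv1 F227197) D211917 (iv6 F463576) (iv1 D197257)
theorem F463691 : act 1 n199334 = n210417 := d15_1 (iv0 F463690) F457447 (iv2 F463688)
def n211948 : Q := act 1 n144448
theorem D211948 : act 1 n144448 = n211948 := rfl
theorem F463692 : act 7 n211948 = n193929 := d15_2 F403891 D211948 (iv2 F396903)
theorem F463693 : act 4 n210376 = n211948 := d20_6 F84220 F40853 (iv4 F48970) (iv3 F100848) D138478 D210376 (iv1 D211948) (iv4 F424042) (iv3 D202447) (iv1 D115746)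
theorem F463694 : act 2 n211948 = n197298 := d1_1 F463693 (iv4 F403901) F457273
theorem F463695 : act 5 n211948 = n192181 := d9_2 (iv5 F457271) F463693 (iv4 D192181) F153699 (iv4 F138102) F138103 D104648 D194855 (iv4 F396904) (iv5 F396905) (iv4 D193923) D193924 F391407 F369704 D194960
theorem F463696 : act 0 n197296 = n211948 := d20_7 (iv4 D169883) F322672 (iv4 F180323) (iv3 F406429) F406431 (iv3 F459647) F459648 (iv4 F463693) (iv3 D210376) F312853
def n211949 : Q := act 2 n144448
theorem D211949 : act 2 n144448 = n211949 := rfl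
theorem F463697 : act 3 n211949 = n203226 := d0_2 D144448 D211949 (iv2 F454680) F454681 (iv2 F222614)
theorem F463698 : act 4 n211949 = n193302 := d1_2 F424042 D211949 (iv2 F424041)
theorem F463699 : act 5 n211949 = n192084 := d2_2 (iv5 F403892) D211949 F386258
theorem F463700 : act 6 n211949 = n193300 := d3_2 F438757 D211949 (iv2 F438754)
theorem F463701 : act 7 n211949 = n197296 := d4_2 (iv7 F227245) D211949 F403875
theorem F463702 : act 1 n211949 = n197298 := d15_0 (iv0 D197298) (iv7 F227245) D211949
theorem F463703 : act 1 n193929 = n211949 := d15_0 F463702 (iv7 F403902) F396903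
theorem F463704 : act 3 n187144 = n153546 := d19_15 (iv1 F463703) (iv5 D193929) (iv4 D102485) (iv3 D47540) (iv1 D22844) (iv5 D10792) (iv4 D4925) D4924 D10782 (iv5 F61489) F61488 D87005 (iv1 F152402) D191723 F384274 (iv1 F451863) F454679 F454678 (iv3 F463697)
def n211950 : Q := act 6 n144451
theorem D211950 : act 6 n144451 = n211950 := rfl
theorem F463705 : act 2 n211950 = n202761 := d3_1 D211950 (iv6 D202761) F227253
theorem F463706 : act 3 n211950 = n193929 := d7_1 D211950 (iv6 F391427) F227254
theorem F463707 : act 4 n211950 = n202760 := d10_1 D211950 (iv6 D202760) (iv4 F227252)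
theorem F463708 : act 0 n211950 = n144468 := d21_4 D141342 (iv1 F460832) F460834 D211950 F317337 (iv5 F317336) D197217 F403587 (iv6 F366082) F181514
theorem F463709 : act 5 n211950 = n193928 := d21_6 F405734 F438729 F438726 (iv6 D144461) (iv1 F227250) D211950 F391446 D195519 F397203 (iv1 F405732)
theorem F463710 : act 0 n144471 = n211950 := d17_0 F463709 F391446 D195519 F397204 F357080 (iv0 D144474) (iv5 D67702) D67701 D144471
def n211951 : Q := act 4 n144465
theorem D211951 : act 4 n144465 = n211951 := rfl
theorem F463711 : act 2 n211951 = n144476 := d1_1 D211951 (iv4 D144476) (iv2 F227291)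
theorem F463712 : act 3 n211951 = n207124 := d5_1 D211951 (iv4 F447378) (iv3 F447380) F213873 F318739
theorem F463713 : act 6 n211951 = n158447 := d10_2 (iv6 F333702) D211951 F344399
theorem F463714 : act 7 n211951 = n207433 := d11_2 F333700 D211951 F444883
theorem F463715 : act 0 n211951 = n207447 := d17_0 F444966 (iv1 F414809) (iv5 D145267) F104238 (iv5 F104153) D145128 (iv5 F228113) (iv0 F333704) D211951
theorem F463716 : act 1 n211951 = n198903 := d18_8 F361284 (iv4 F335524) F335522 D103156 D194290 F392687 (iv0 F333704) D211951 (iv5 D198903)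
def n211952 : Q := act 0 n144468
theorem D211952 : act 0 n144468 = n211952 := rfl
theorem F463717 : act 4 n211952 = n202763 := d20_2 D144468 D211952 F425466 F324902 (iv3 D65619) (iv4 F49204) (iv1 D14821) (iv4 F24483) (iv3 F49741) D67700
theorem F463718 : act 1 n144471 = n211952 := d15_0 (iv0 D211952) (iv7 F427462) F427460
theorem F463719 : act 7 n211952 = n202761 := d15_2 (iv0 F463710) F463718 (iv2 F463705)
theorem F463720 : act 5 n211952 = n195518 := d17_7 D136288 D209304 F453122 (iv5 F379439) D193713 F390760 F463718 (iv0 D195518) F162242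
theorem F463721 : act 6 n211952 = n210815 := d21_3 (iv5 D195519) D195518 (iv5 F463720) (iv1 F458888) F396789 (iv5 D195346) D195343 F396768 F340749 (iv1 F427304)
def n211953 : Q := act 3 n144471
theorem D211953 : act 3 n144471 = n211953 := rfl
theorem F463722 : act 5 n211953 = n197405 := d6_2 F390760 D211953 F404165
theorem F463723 : act 0 n197304 = n211953 := d20_4 F111121 D106957 (iv4 F167110) D197304 (iv3 D211953) (iv4 D144471) (iv1 D67701) (iv4 F103716) F103715 D67682
def n211954 : Q := act 0 n144476
theorem D211954 : act 0 n144476 = n211954 := rfl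
theorem F463724 : act 5 n211954 = n175202 := d17_1 D211954 (iv1 F414798) F414800 F307018 (iv5 F110890) D155942 F357080 (iv0 D144474) D144476
theorem F463725 : act 3 n211954 = n158533 := d20_5 (iv4 D69612) D69610 D148538 F366562 D211954 (iv4 F249714) (iv1 F156330) (iv4 F272789) F338123 (iv1 D148542)
theorem F463726 : act 6 n211954 = n197509 := d21_5 F351664 F351665 (iv5 D158469) (iv6 F366561) D211954 (iv5 F415269) (iv1 F415271) F357035 D119483 F344032
theorem F463727 : act 2 n207447 = n211954 := d15_3 (iv0 D211954) (iv0 F363124) (iv7 F444967)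
theorem F463728 : act 7 n211954 = n198903 := d4_2 (iv7 F444967) F463727 F409817
theorem F463729 : act 1 n207433 = n211954 := d15_1 (iv0 F444884) F463728 F409817
def n211955 : Q := act 5 n144476
theorem D211955 : act 5 n144476 = n211955 := rfl
theorem F463730 : act 4 n211955 = n209304 := d16_2 D144476 D211955 (iv5 D209304) D209303 (iv5 F463614) F463613 F317338 F333700 F227291
theorem F463731 : act 0 n211955 = n203537 := d17_2 F363124 D211955 (iv5 D203537) F188252 D169822 (iv0 F340750) D202762 (iv0 F425463) (iv4 F274050)
theorem F463732 : act 1 n211955 = n203536 := d17_6 F307722 F317344 (iv1 D67701) D67702 D144476 D211955 (iv5 D203536) (iv0 D119467) (iv4 F178733)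
def n211956 : Q := act 7 n144476
theorem D211956 : act 7 n144476 = n211956 := rfl
theorem F463733 : act 2 n211956 = n207433 := d4_1 D211956 (iv7 F463714) F463711
theorem F463734 : act 3 n211956 = n155492 := d8_1 D211956 F244497 F366562
theorem F463735 : act 4 n211956 = n144477 := d11_1 D211956 (iv7 D144477) D144476
theorem F463736 : act 6 n211956 = n197511 := d14_1 D211956 F404640 F333659 F307281 (iv6 F366561)
theorem F463737 : act 1 n198903 = n211956 := d15_1 F463716 (iv7 D211956) (iv2 F463711)
theorem F463738 : act 1 n211956 = n207447 := d15_1 F463737 F444967 (iv2 F409817)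
def n211957 : Q := act 5 n144481
theorem D211957 : act 5 n144481 = n211957 := rfl
theorem F463739 : act 2 n211957 = n210689 := d2_1 D211957 (iv5 D210689) F341110
theorem F463740 : act 3 n211957 = n156497 := d6_1 D211957 F246042 (iv3 F227310)
theorem F463741 : act 6 n211957 = n192606 := d12_2 F315861 D211957 (iv5 D192606) F360920 (iv5 D150690)
theorem F463742 : act 7 n211957 = n156483 := d13_2 (iv7 F227312) D211957 (iv5 D156483)
theorem F463743 : act 4 n211957 = n208439 := d16_2 D144481 D211957 F449360 (iv4 F328253) (iv5 D123020) F90298 F312801 F341106 (iv2 F341102)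
theorem F463744 : act 0 n211957 = n155683 := d17_2 F363481 D211957 (iv5 D155683) F110814 (iv5 F96076) D131182 (iv5 F361511) (iv0 F363472) F363480
theorem F463745 : act 1 n211957 = n211212 := d17_6 F363156 F342384 (iv1 F313268) F312216 D144481 D211957 (iv5 D211212) F348148 F348149
def n211958 : Q := act 4 n144490
theorem D211958 : act 4 n144490 = n211958 := rfl
theorem F463746 : act 5 n211958 = n206485 := d9_2 D144490 D211958 (iv4 D206485) (iv5 D128680) F95136 F46375 (iv4 F92821) D125479 D205104 F445438 F445437 F211525 F211343 F96482 D67709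
theorem F463747 : act 7 n211958 = n197464 := d11_2 (iv7 F227333) D211958 (iv4 D197464)
def n211959 : Q := act 6 n144490
theorem D211959 : act 6 n144490 = n211959 := rfl
def n211960 : Q := act 5 n144501
theorem D211960 : act 5 n144501 = n211960 := rfl
theorem F463748 : act 2 n211960 = n144502 := d2_1 D211960 (iv5 D144502) D144501
theorem F463749 : act 3 n211960 = n206007 := d6_1 D211960 F438810 (iv3 F227343)
theorem F463750 : act 4 n211960 = n194143 := d16_2 F424440 D211960 (iv5 D194143) (iv4 F377180) F373186 F373185 (iv5 D139498) F183042 D202547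
theorem F463751 : act 0 n211960 = n208226 := d17_2 (iv1 F227344) D211960 (iv5 D208226) (iv4 D133974) D133975 F393165 (iv5 D65413) D65411 D139362
theorem F463752 : act 1 n211960 = n208230 := d17_6 D202644 (iv5 F458428) (iv1 F460564) F460562 F424440 D211960 (iv5 D208230) (iv0 F215906) (iv4 F181200)
def n211961 : Q := act 6 n144501
theorem D211961 : act 6 n144501 = n211961 := rfl
theorem F463753 : act 2 n211961 = n144503 := d3_1 D211961 (iv6 D144503) D144501
theorem F463754 : act 3 n211961 = n209899 := d7_1 D211961 (iv6 D209899) (iv3 F227343)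
theorem F463755 : act 0 n211961 = n193475 := d21_4 D208230 (iv1 F463752) (iv5 D211960) D211961 (iv6 D193475) (iv5 D101777) D101774 F361827 (iv6 D142364) F215906
theorem F463756 : act 1 n211961 = n210540 := d15_1 (iv0 F463755) (iv7 F462869) (iv2 F462871)
def n211962 : Q := act 1 n144503
theorem D211962 : act 1 n144503 = n211962 := rfl
theorem F463757 : act 7 n211962 = n193475 := d15_2 (iv0 F462873) D211962 F462871
theorem F463758 : act 4 n211962 = n210533 := d18_7 (iv1 F391017) F157156 D102354 D193803 F424451 F424446 D211962 F457954 F391024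
theorem F463759 : act 2 n210540 = n211962 := d1_3 F463758 (iv2 F457956) D210540
def n211963 : Q := act 5 n144503
theorem D211963 : act 5 n144503 = n211963 := rfl
theorem F463760 : act 3 n211963 = n144510 := d6_1 D211963 (iv5 D144510) (iv3 F227346)
def n211964 : Q := act 7 n144503
theorem D211964 : act 7 n144503 = n211964 := rfl
theorem F463761 : act 3 n211964 = n144511 := d8_1 D211964 (iv7 D144511) (iv3 F227346)
theorem F463762 : act 1 n210540 = n211964 := d15_1 F463756 (iv7 D211964) (iv2 F463753)
theorem F463763 : act 1 n211964 = n193475 := d15_1 F463762 (iv7 F463757) (iv2 F463759)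
def n211965 : Q := act 5 n144507
theorem D211965 : act 5 n144507 = n211965 := rfl
theorem F463764 : act 6 n211965 = n144510 := d12_2 D144507 D211965 (iv5 D144510) (iv6 D67726) D67725
theorem F463765 : act 4 n211965 = n190230 := d16_2 (iv4 F363063) D211965 F379137 (iv4 F175194) (iv5 F175199) (iv4 F327976) D201072 F418982 F179401
def n211966 : Q := act 7 n144507
theorem D211966 : act 7 n144507 = n211966 := rfl
theorem F463766 : act 4 n211966 = n201856 := d11_1 D211966 (iv7 D201856) (iv4 F363063)
theorem F463767 : act 6 n211966 = n186396 := d14_1 D211966 F377667 (iv6 F377666) F183054 D144507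
theorem F463768 : act 1 n199858 = n211966 := d15_1 F422204 (iv7 D211966) (iv2 F422202)
theorem F463769 : act 1 n211966 = n208887 := d15_1 F463768 F451260 F414696
def n211967 : Q := act 5 n144508
theorem D211967 : act 5 n144508 = n211967 := rfl
theorem F463770 : act 4 n211967 = n190171 := d16_4 (iv4 F420787) (iv5 F425941) (iv4 F425939) D211967 (iv5 D190171) D190170 (iv5 F429562) (iv7 D203727) (iv2 F367883)
theorem F463771 : act 0 n211967 = n190239 := d17_2 D144508 D211967 (iv5 F385456) (iv4 D148655) (iv5 F229964) (iv0 F340935) F340936 (iv0 D67733) (iv4 F103766)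
theorem F463772 : act 1 n211967 = n190236 := d17_8 (iv1 F369585) (iv5 D187233) (iv1 F137897) D95755 D190233 (iv5 F425930) F425938 D211967 (iv4 D190236)
def n211968 : Q := act 5 n144509
theorem D211968 : act 5 n144509 = n211968 := rfl
theorem F463773 : act 4 n211968 = n183216 := d16_2 F463264 D211968 (iv5 D183216) (iv4 F136802) D186752 (iv4 F420787) (iv5 F425941) F425942 (iv2 F463263)
theorem F463774 : act 0 n211968 = n190236 := d17_2 (iv1 F425933) D211968 (iv5 F379157) (iv4 D151281) D151282 (iv0 F345702) (iv5 D139725) (iv0 F322272) (iv4 F425929)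
theorem F463775 : act 1 n211968 = n190239 := d17_8 (iv1 D95758) (iv5 D44722) D44720 D95751 (iv4 F356588) (iv5 D144510) D144509 D211968 (iv4 D190239)
def n211969 : Q := act 0 n144510
theorem D211969 : act 0 n144510 = n211969 := rfl
theorem F463776 : act 5 n211969 = n155728 := d17_1 D211969 F366525 D210456 F457614 F369595 F160394 (iv5 F369638) F369639 (iv4 F356588)
theorem F463777 : act 4 n211969 = n190174 := d18_1 D211969 (iv1 D190174) D190175 F379036 (iv4 F463269) F463273 (iv4 F425939) (iv0 D144508) D144510
theorem F463778 : act 6 n211969 = n190174 := d21_5 (iv5 F414699) F414700 D211965 F463764 D211969 (iv5 F381191) F381189 F367252 D190883 (iv1 F409018)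
theorem F463779 : act 1 n190233 = n211969 := d17_8 (iv1 D190174) (iv5 D95681) F289533 D183216 (iv4 F463773) (iv5 D211968) F425933 F425930 F463777
def n211970 : Q := act 1 n144510
theorem D211970 : act 1 n144510 = n211970 := rfl
theorem F463780 : act 1 n211970 = n190233 := d15_1 D211970 F425927 F425924
theorem F463781 : act 5 n211970 = n179092 := d17_7 (iv1 D65234) D65235 F322276 (iv5 D67735) (iv4 F103766) D144510 D211970 F366529 (iv4 D138970)
theorem F463782 : act 4 n211970 = n190173 := d17_9 (iv1 F381376) (iv5 D190864) (iv1 F149594) D190171 (iv4 F463770) (iv5 D211967) (iv0 D144508) D144510 D211970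
def n211971 : Q := act 7 n144510
theorem D211971 : act 7 n144510 = n211971 := rfl
theorem F463783 : act 2 n211971 = n190233 := d4_1 D211971 F425927 F425924
theorem F463784 : act 4 n211971 = n187230 := d11_1 D211971 F369572 (iv4 F356588)
theorem F463785 : act 5 n211971 = n144511 := d13_1 D211971 (iv7 D144511) D144510
def n211972 : Q := act 2 n144514
theorem D211972 : act 2 n144514 = n211972 := rfl
theorem F463786 : act 3 n211972 = n146749 := d0_2 D144514 D211972 (iv2 D146749) F104999 F183052
theorem F463787 : act 4 n211972 = n211296 := d1_2 (iv4 F227370) D211972 (iv2 D211296)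
theorem F463788 : act 5 n211972 = n202931 := d2_2 F427705 D211972 F427708
theorem F463789 : act 7 n211972 = n146753 := d4_2 (iv7 F227371) D211972 F230106
theorem F463790 : act 1 n211972 = n200063 := d15_0 (iv0 F414862) (iv7 F227371) D211972
theorem F463791 : act 1 n175313 = n211972 := d15_0 F463790 F414860 (iv2 F365766)
def n211973 : Q := act 0 n144516
theorem D211973 : act 0 n144516 = n211973 := rfl
theorem F463792 : act 5 n211973 = n197092 := d17_1 D211973 F403013 (iv5 D146987) (iv4 D68900) (iv5 D32041) D32040 D68896 F322009 (iv4 F227375)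
theorem F463793 : act 4 n211973 = n149210 := d18_3 F323540 (iv4 F227375) D211973 (iv5 F234593) (iv4 D146956) F331630 F331626 F105027 (iv5 F320140)
theorem F463794 : act 3 n211973 = n197093 := d20_5 (iv4 F331622) D134180 (iv4 F405015) F405014 D211973 (iv4 F408317) (iv1 F408319) (iv4 D179299) (iv3 F200961) (iv1 F200963)
theorem F463795 : act 6 n211973 = n149208 := d21_5 F323290 (iv1 F332300) (iv5 D144515) D144516 D211973 (iv5 F339378) (iv1 F461755) (iv5 D211483) (iv6 D142415) (iv1 F225296)
theorem F463796 : act 0 n193421 = n201183 := d21_4 (iv5 D193404) (iv1 F156535) (iv5 F156541) D193421 F419359 (iv5 F405010) D211973 F463792 (iv6 F403014) (iv1 F389736)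
theorem F463797 : act 2 n203631 = n211973 := d15_3 (iv0 D211973) (iv0 F458769) F458768
theorem F463798 : act 7 n211973 = n197212 := d4_2 F458768 F463797 (iv2 F458764)
theorem F463799 : act 1 n202698 = n211973 := d15_1 (iv0 F458770) F463798 (iv2 F458764)
def n211974 : Q := act 7 n144516
theorem D211974 : act 7 n144516 = n211974 := rfl
theorem F463800 : act 2 n211974 = n202698 := d4_1 D211974 F425164 (iv2 F227374)
theorem F463801 : act 4 n211974 = n144520 := d11_1 D211974 (iv7 D144520) (iv4 F227375)
theorem F463802 : act 5 n211974 = n197238 := d13_1 D211974 (iv7 F405008) (iv5 F405010)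
theorem F463803 : act 6 n211974 = n197128 := d14_1 D211974 (iv7 D197128) F331697 F183051 D144516
theorem F463804 : act 1 n197212 = n211974 := d15_1 (iv0 F403561) (iv7 D211974) F227374
theorem F463805 : act 1 n211974 = n203631 := d15_1 F463804 (iv7 F458768) F458764
def n211975 : Q := act 5 n144549
theorem D211975 : act 5 n144549 = n211975 := rfl
theorem F463806 : act 6 n211975 = n144552 := d12_2 D144549 D211975 (iv5 D144552) (iv6 D67746) D67745
def n211976 : Q := act 5 n144550
theorem D211976 : act 5 n144550 = n211976 := rfl
theorem F463807 : act 0 n211976 = n211444 := d17_2 D144550 D211976 F461780 F461776 F340837 (iv0 F331876) (iv5 D74785) F320414 (iv4 F103780)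
theorem F463808 : act 1 n211976 = n190945 := d17_6 (iv1 F344485) F236017 F306070 D177048 (iv4 F361613) D211976 F381649 (iv0 F408614) (iv4 F408615)
def n211977 : Q := act 3 n144551
theorem D211977 : act 3 n144551 = n211977 := rfl
theorem F463809 : act 4 n211977 = n211953 := d5_2 F341153 D211977 (iv3 D211953) (iv4 D144471) D144470
theorem F463810 : act 6 n211977 = n193652 := d7_2 (iv6 F414393) D211977 (iv3 F414388)
theorem F463811 : act 7 n211977 = n200020 := d8_2 (iv7 F425908) D211977 F425907
theorem F463812 : act 0 n193675 = n211977 := d20_4 (iv4 F369192) (iv1 F390660) (iv4 D193676) D193675 (iv3 D211977) (iv4 F341153) F357107 F223812 (iv3 F385777) (iv1 F385794)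
theorem F463813 : act 5 n198479 = n211977 := d21_8 F386268 F361278 F173702 (iv6 D109345) (iv1 D50455) D50456 D109348 D198479 F463810 (iv1 F390570)
def n211978 : Q := act 5 n144551
theorem D211978 : act 5 n144551 = n211978 := rfl
theorem F463814 : act 3 n211978 = n198479 := d6_1 D211978 F463813 (iv3 D211977)
theorem F463815 : act 0 n211978 = n190945 := d17_2 F341154 D211978 F381649 F189500 (iv5 F87497) D120139 F348141 (iv0 F322109) D157285
theorem F463816 : act 1 n211978 = n211444 := d17_6 (iv1 D177051) (iv5 D84382) D84380 (iv5 F357108) F341153 D211978 F461780 (iv0 F461779) F453160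
def n211979 : Q := act 0 n144552
theorem D211979 : act 0 n144552 = n211979 := rfl
theorem F463817 : act 5 n211979 = n199980 := d21_2 D144552 D211979 (iv6 D199980) (iv1 D112131) (iv6 F174333) (iv5 D112123) D112121 D199967 (iv6 F414393) (iv1 D144551)
theorem F463818 : act 2 n198564 = n211979 := d2_3 F463817 F414453 (iv5 F408612)
theorem F463819 : act 6 n174694 = n211979 := d12_0 F463817 (iv6 D199980) F174336 F326927 D174694
def n211980 : Q := act 1 n144552
theorem D211980 : act 1 n144552 = n211980 := rfl
theorem F463820 : act 7 n211980 = n198564 := d15_2 (iv0 D211979) D211980 F463818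
theorem F463821 : act 5 n211980 = n211471 := d17_7 F340824 (iv5 F340820) F340819 (iv5 D67751) (iv4 F103780) D144552 D211980 (iv0 F461684) F427585
def n211981 : Q := act 4 n144552
theorem D211981 : act 4 n144552 = n211981 := rfl
theorem F463822 : act 0 n211981 = n208563 := d18_2 (iv1 D211980) D211981 (iv4 F463250) F463251 F447045 F322333 (iv4 F225458) F461687 (iv5 F463821)
def n211982 : Q := act 7 n144552
theorem D211982 : act 7 n144552 = n211982 := rfl
theorem F463823 : act 3 n211982 = n190248 := d8_1 D211982 (iv7 F379186) (iv3 F378781)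
theorem F463824 : act 5 n211982 = n144553 := d13_1 D211982 (iv7 D144553) D144552
theorem F463825 : act 0 n198564 = n211982 := d17_2 F461778 (iv5 F408612) F463824 F227414 (iv5 F340942) (iv0 F425407) F425405 F340827 (iv4 F461776)
def n211983 : Q := act 0 n144573
theorem D211983 : act 0 n144573 = n211983 := rfl
theorem F463826 : act 6 n211983 = n203294 := d21_5 (iv5 D113294) F93076 D110661 F364969 D211983 (iv5 F430103) (iv1 F430105) (iv5 F354799) F333755 F363238
theorem F463827 : act 2 n207995 = n211983 := d15_3 (iv0 D211983) (iv0 F364618) D207995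
theorem F463828 : act 1 n207993 = n211983 := d15_0 (iv0 D211983) (iv7 F438700) (iv2 F447327)
theorem F463829 : act 7 n211983 = n207992 := d15_2 D207993 F463828 F447314
def n211984 : Q := act 0 n144708
theorem D211984 : act 0 n144708 = n211984 := rfl
theorem F463830 : act 3 n211984 = n205495 := d20_5 (iv4 D105551) F111386 D67812 D144708 D211984 (iv4 D205495) (iv1 D126161) (iv4 F169284) F169283 (iv1 F162092)
theorem F463831 : act 6 n145646 = n211984 := d7_0 F463830 F436705 F407311
def n211985 : Q := act 2 n144708
theorem D211985 : act 2 n144708 = n211985 := rfl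
theorem F463832 : act 4 n211985 = n192479 := d1_2 F388255 D211985 (iv2 F388259)
def n211986 : Q := act 5 n144708
theorem D211986 : act 5 n144708 = n211986 := rfl
theorem F463833 : act 3 n211986 = n144709 := d6_1 D211986 (iv5 D144709) D144708
def n211987 : Q := act 4 n144709
theorem D211987 : act 4 n144709 = n211987 := rfl
theorem F463834 : act 5 n211987 = n155789 := d9_2 D144709 D211987 (iv4 F396879) (iv5 D195380) (iv4 D105553) (iv5 D48801) (iv4 F76865) D105549 D195375 F396854 (iv4 F328604) F354577 F166328 F111397 D67812
theorem F463835 : act 1 n211987 = n155890 := d18_6 (iv1 F162092) (iv4 D105551) F111386 D67812 D144709 D211987 (iv4 F407878) (iv0 D198397) (iv5 D109278)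
def n211988 : Q := act 6 n144709
theorem D211988 : act 6 n144709 = n211988 := rfl
def n211989 : Q := act 5 n144710
theorem D211989 : act 5 n144710 = n211989 := rfl
theorem F463836 : act 2 n211989 = n155890 := d2_1 D211989 (iv5 D155890) (iv2 F324695)
theorem F463837 : act 3 n211989 = n144711 := d6_1 D211989 (iv5 D144711) D144710
theorem F463838 : act 4 n211989 = n144754 := d9_1 D211989 (iv5 D144754) (iv4 D67834) (iv5 F101920) (iv4 F319214) (iv5 F87446) (iv4 F185725) D203187 F427366 (iv5 D197363) (iv4 D108117) F93885 (iv4 F321638) (iv5 F110867) F325003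
def n211990 : Q := act 0 n144713
theorem D211990 : act 0 n144713 = n211990 := rfl
theorem F463839 : act 1 n201969 = n211990 := d15_0 (iv0 D211990) F227548 (iv2 F422558)
def n211991 : Q := act 1 n144713
theorem D211991 : act 1 n144713 = n211991 := rfl
theorem F463840 : act 3 n192470 = n211991 := d20_3 F286186 (iv1 F154144) D192470 (iv1 D211991) (iv3 D144713) (iv4 F111231) F111292 D65518 D139596 F365339
theorem F463841 : act 7 n211991 = n201971 := d8_2 (iv7 F386760) F463840 (iv3 F422561)
theorem F463842 : act 0 n201969 = n211991 := d20_4 F241393 (iv1 F331118) (iv4 F407863) (iv3 F422559) (iv3 F463840) (iv4 D192470) (iv1 F154145) D184236 (iv3 F460107) (iv1 F460110)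
theorem F463843 : act 2 n201971 = n211990 := d15_3 (iv0 D211990) D211991 F463841
theorem F463844 : act 2 n211991 = n201970 := d15_3 (iv0 D201970) D201971 (iv7 F463841)
theorem F463845 : act 7 n201970 = n211990 := d4_2 (iv7 F463841) F463844 (iv2 F463843)
def n211992 : Q := act 2 n144713
theorem D211992 : act 2 n144713 = n211992 := rfl
theorem F463846 : act 3 n211992 = n153764 := d0_2 D144713 D211992 (iv2 F407870) F407871 F169285
theorem F463847 : act 4 n211992 = n202050 := d1_2 (iv4 F227547) D211992 F422799
theorem F463848 : act 6 n211992 = n156273 := d3_2 (iv6 F404310) D211992 F404308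
theorem F463849 : act 7 n211992 = n201969 := d4_2 (iv7 F227548) D211992 F422558
theorem F463850 : act 1 n211992 = n201970 := d15_0 (iv0 D201970) (iv7 F227548) D211992
theorem F463851 : act 1 n201971 = n211992 := d15_0 F463850 F463845 (iv2 F463843)
def n211993 : Q := act 5 n144713
theorem D211993 : act 5 n144713 = n211993 := rfl
theorem F463852 : act 3 n211993 = n144714 := d6_1 D211993 (iv5 D144714) D144713
theorem F463853 : act 7 n211993 = n201972 := d13_2 (iv7 F227548) D211993 (iv5 D201972)
def n211994 : Q := act 4 n144714
theorem D211994 : act 4 n144714 = n211994 := rfl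
theorem F463854 : act 5 n211994 = n155779 := d9_2 D144714 D211994 (iv4 D155779) (iv5 F324691) (iv4 F323325) (iv5 D50430) (iv4 F79801) D109278 D198398 F407880 (iv4 D155784) (iv5 F324692) F321636 F167746 F111231
theorem F463855 : act 7 n211994 = n201973 := d11_2 (iv7 F227549) D211994 (iv4 D201973)
def n211995 : Q := act 6 n144714
theorem D211995 : act 6 n144714 = n211995 := rfl
theorem F463856 : act 0 n150048 = n211995 := d21_4 (iv5 D150040) (iv1 D70592) D70594 D150048 (iv6 D211995) (iv5 D144714) (iv1 D67818) D67820 (iv6 F351849) (iv1 F236061)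
def n211996 : Q := act 3 n144720
theorem D211996 : act 3 n144720 = n211996 := rfl
theorem F463857 : act 5 n211996 = n209656 := d6_2 (iv5 F227560) D211996 F454517
theorem F463858 : act 7 n211996 = n209655 := d8_2 F227561 D211996 F454516
def n211997 : Q := act 6 n144720
theorem D211997 : act 6 n144720 = n211997 := rfl
def n211998 : Q := act 0 n144721
theorem D211998 : act 0 n144721 = n211998 := rfl
theorem F463859 : act 5 n211998 = n203186 := d17_1 D211998 (iv1 D203186) D203187 F427366 (iv5 D197363) F219995 (iv5 F227560) (iv0 D144720) D144721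
theorem F463860 : act 4 n211998 = n205925 := d18_1 D211998 (iv1 F438445) (iv4 F425502) (iv5 F454494) (iv4 D209650) F354578 F328604 (iv0 F404052) (iv5 F404054)
theorem F463861 : act 2 n205914 = n211998 := d15_3 (iv0 D211998) (iv0 F404044) (iv7 F438392)
theorem F463862 : act 1 n155791 = n211998 := d15_0 (iv0 D211998) (iv7 F425498) F425496
theorem F463863 : act 7 n211998 = n205923 := d15_2 F404045 F463862 F438436
def n211999 : Q := act 3 n144724
theorem D211999 : act 3 n144724 = n211999 := rfl
theorem F463864 : act 2 n211999 = n211112 := d0_1 D211999 (iv3 D211112) F406988 (iv3 F406989) F402142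
theorem F463865 : act 4 n211999 = n210775 := d5_2 F227564 D211999 F458744 F222833 (iv3 F222756)
theorem F463866 : act 6 n211999 = n210771 := d7_2 (iv6 F227565) D211999 (iv3 D210771)
def n212000 : Q := act 3 n144728
theorem D212000 : act 3 n144728 = n212000 := rfl
theorem F463867 : act 4 n212000 = n191512 := d5_2 D144728 D212000 (iv3 F383628) F338809 (iv3 D144727)
theorem F463868 : act 5 n212000 = n161367 := d6_2 (iv5 F351844) D212000 F366241
theorem F463869 : act 6 n212000 = n202043 := d7_2 (iv6 F227573) D212000 F422783
def n212001 : Q := act 5 n144729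
theorem D212001 : act 5 n144729 = n212001 := rfl
theorem F463870 : act 2 n212001 = n145669 := d2_1 D212001 (iv5 F404345) F404342
theorem F463871 : act 3 n212001 = n145704 := d6_1 D212001 (iv5 F463592) F463594
theorem F463872 : act 4 n212001 = n145665 := d9_1 D212001 (iv5 D145665) (iv4 F228667) F351843 (iv4 D105653) (iv5 F111409) D144728 F351844 (iv4 D140999) (iv5 D66132) D66131 (iv5 F351840) (iv4 D105657) F111407 D144729
theorem F463873 : act 7 n212001 = n179926 := d13_2 F404351 D212001 (iv5 F404349)
theorem F463874 : act 0 n212001 = n198387 := d17_2 (iv1 F438744) D212001 (iv5 D198387) F169255 F79792 F168327 D107420 (iv0 F221537) (iv4 F438740)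
theorem F463875 : act 1 n212001 = n197317 := d17_6 (iv1 F78911) F78908 (iv1 F78910) F111407 D144729 D212001 (iv5 D197317) (iv0 F168376) (iv4 D105653)
theorem F463876 : act 6 n212001 = n156662 := d21_3 (iv5 F438741) (iv1 F438744) D212001 F361408 (iv6 D108134) D108133 F343127 (iv5 D85969) D85970 (iv1 F343137)
def n212002 : Q := act 6 n144754
theorem D212002 : act 6 n144754 = n212002 := rfl
theorem F463877 : act 5 n212002 = n192880 := d12_1 D212002 F463670 F463667 (iv6 D144755) D144754
def n212003 : Q := act 0 n144780
theorem D212003 : act 0 n144780 = n212003 := rfl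
theorem F463878 : act 5 n212003 = n207568 := d17_3 (iv1 D144779) D144780 D212003 F445486 (iv5 D200369) (iv0 D113035) (iv5 F82906) D113714 F365045
theorem F463879 : act 3 n212003 = n200709 := d20_5 (iv4 F76481) D105171 (iv4 F201947) (iv3 F364819) D212003 F417589 (iv1 F381034) F202936 (iv3 D125791) F168559
theorem F463880 : act 6 n212003 = n200708 := d21_5 (iv5 D200208) F175694 D125695 (iv6 F227656) D212003 F417584 F417633 (iv5 F435766) (iv6 D205284) (iv1 F415514)
theorem F463881 : act 2 n205325 = n212003 := d15_3 (iv0 D212003) (iv0 F416705) (iv7 F435942)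
theorem F463882 : act 1 n157792 = n212003 := d15_0 (iv0 D212003) (iv7 F364821) (iv2 F358383)
theorem F463883 : act 7 n212003 = n205288 := d15_2 F416706 F463882 F435787
def n212004 : Q := act 5 n144782
theorem D212004 : act 5 n144782 = n212004 := rfl
theorem F463884 : act 3 n212004 = n144784 := d6_1 D212004 (iv5 D144784) D144782
theorem F463885 : act 6 n212004 = n195247 := d12_2 (iv6 F227658) D212004 (iv5 D195247) (iv6 D105472) D105471
theorem F463886 : act 7 n212004 = n208192 := d13_2 F415235 D212004 F448301
theorem F463887 : act 4 n212004 = n201876 := d16_2 F364326 D212004 (iv5 D201876) F179343 D135756 (iv4 F451647) (iv5 D208973) (iv7 F451604) F451608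
def n212005 : Q := act 3 n144783
theorem D212005 : act 3 n144783 = n212005 := rfl
theorem F463888 : act 2 n212005 = n189801 := d0_1 D212005 F377799 F146888 (iv3 F364800) (iv2 F227659)
theorem F463889 : act 4 n212005 = n208974 := d5_2 D144783 D212005 (iv3 D208974) F364326 (iv3 D144782)
theorem F463890 : act 5 n212005 = n189800 := d6_2 F380458 D212005 (iv3 F380456)
theorem F463891 : act 6 n212005 = n195248 := d7_2 (iv6 F227660) D212005 (iv3 D195248)
theorem F463892 : act 0 n200736 = n212005 := d20_4 F147818 D96149 (iv4 F345231) (iv3 F417711) (iv3 D212005) (iv4 D144783) (iv1 F175397) (iv4 F415230) F415229 (iv1 F345230)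
def n212006 : Q := act 0 n144784
theorem D212006 : act 0 n144784 = n212006 := rfl
theorem F463893 : act 5 n212006 = n195164 := d17_3 D67851 D144784 D212006 (iv4 F439165) F439166 F417225 F417224 (iv0 D144778) F103897
theorem F463894 : act 2 n201102 = n212006 := d15_3 (iv0 D212006) (iv0 F364718) (iv7 F419093)
theorem F463895 : act 1 n144787 = n212006 := d15_0 (iv0 D212006) F227663 (iv2 F227666)
theorem F463896 : act 7 n212006 = n201704 := d15_2 F364719 F463895 F421480
theorem F463897 : act 3 n191705 = n212006 := d19_19 (iv1 F463895) (iv5 D144787) D144786 F364803 F146897 (iv5 D45162) (iv4 D21559) (iv3 F33908) F33909 (iv5 D19051) F13897 (iv3 F13883) F27370 (iv5 F291985) (iv4 F16713) (iv3 F34543) D46137 D98693 D191705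
def n212007 : Q := act 2 n144785
theorem D212007 : act 2 n144785 = n212007 := rfl
theorem F463898 : act 3 n212007 = n146449 := d0_2 D144785 D212007 (iv2 F426305) (iv3 D200146) (iv2 F175393)
theorem F463899 : act 4 n212007 = n186678 := d1_2 F364804 D212007 F367643
theorem F463900 : act 7 n212007 = n201040 := d4_2 (iv7 F227664) D212007 (iv2 F418845)
theorem F463901 : act 1 n212007 = n189400 := d15_0 (iv0 F380119) (iv7 F227664) D212007
theorem F463902 : act 1 n187758 = n212007 := d15_0 F463901 F376537 (iv2 F371426)
theorem F463903 : act 6 n212007 = n187186 := d21_5 (iv5 F364191) F364185 (iv5 F448181) F448182 (iv1 F463901) (iv5 D187186) (iv1 F276296) F355647 (iv6 F371223) (iv1 F371224)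
def n212008 : Q := act 6 n144785
theorem D212008 : act 6 n144785 = n212008 := rfl
theorem F463904 : act 2 n212008 = n187186 := d3_1 D212008 (iv6 F463903) (iv2 D212007)
theorem F463905 : act 3 n212008 = n144788 := d7_1 D212008 (iv6 D144788) D144785
theorem F463906 : act 4 n212008 = n189894 := d10_1 D212008 (iv6 D189894) F364804
theorem F463907 : act 5 n212008 = n176933 := d12_1 D212008 (iv6 F376666) (iv5 D189489) D189490 F376673
theorem F463908 : act 7 n212008 = n187188 := d14_2 (iv7 F227664) D212008 F369414 F161848 D114989
theorem F463909 : act 0 n209129 = n212008 := d17_2 (iv1 F398918) (iv5 F452392) F463907 F364456 F292816 D181884 (iv5 F375678) F375676 (iv4 F377249)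
def n212009 : Q := act 4 n144787
theorem D212009 : act 4 n144787 = n212009 := rfl
theorem F463910 : act 2 n212009 = n208194 := d1_1 D212009 F448303 (iv2 F227666)
theorem F463911 : act 6 n212009 = n196932 := d10_2 (iv6 F227668) D212009 F402347
theorem F463912 : act 7 n212009 = n201705 := d11_2 (iv7 F227667) D212009 (iv4 D201705)
def n212010 : Q := act 5 n144801
theorem D212010 : act 5 n144801 = n212010 := rfl
theorem F463913 : act 2 n212010 = n192773 := d2_1 D212010 F456047 (iv2 F456041)
theorem F463914 : act 6 n212010 = n201565 := d12_2 (iv6 F346083) D212010 F458930 (iv6 D193786) F346082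
theorem F463915 : act 7 n212010 = n193015 := d13_2 F346086 D212010 F388520
theorem F463916 : act 0 n192966 = n212010 := d21_10 (iv5 D212010) F431367 (iv5 F453482) F453483 (iv1 D193049) (iv6 D101118) F74348 (iv1 F74323) D101041 D192966
theorem F463917 : act 1 n193016 = n212010 := d15_1 F394107 F463915 F394105
def n212011 : Q := act 0 n144806
theorem D212011 : act 0 n144806 = n212011 := rfl
theorem F463918 : act 5 n212011 = n199063 := d17_1 D212011 (iv1 F453420) (iv5 F453423) (iv4 D207345) (iv5 D130885) F187523 (iv5 F227685) F227688 D144806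
theorem F463919 : act 4 n212011 = n145935 := d18_3 D67862 D144806 D212011 (iv5 F439917) F439916 F387299 (iv4 D130879) (iv0 D61403) (iv5 F49870)
theorem F463920 : act 3 n212011 = n159691 := d20_5 D155501 F244514 D195611 F397600 D212011 (iv4 F374114) (iv1 F374118) (iv4 F238386) (iv3 F355740) (iv1 F189151)
theorem F463921 : act 2 n199003 = n212011 := d15_3 (iv0 D212011) (iv0 F338166) (iv7 F410276)
theorem F463922 : act 1 n144808 = n212011 := d15_0 (iv0 D212011) (iv7 F364026) (iv2 F338171)
theorem F463923 : act 7 n212011 = n145932 := d15_2 F338169 F463922 F229154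
theorem F463924 : act 6 n178895 = n212011 := d21_3 (iv5 F338251) (iv1 F246451) (iv5 F338240) (iv1 F463922) (iv6 F338170) F191739 (iv1 D57214) D57216 D122992 (iv1 F345984)
def n212012 : Q := act 5 n144806
theorem D212012 : act 5 n144806 = n212012 := rfl
theorem F463925 : act 2 n212012 = n203581 := d2_1 D212012 (iv5 D203581) (iv2 F227701)
theorem F463926 : act 7 n212012 = n204147 := d13_2 F364026 D212012 (iv5 D204147)
theorem F463927 : act 4 n212012 = n201729 := d16_2 D144806 D212012 (iv5 F421591) F396560 F285124 F306548 F306196 F162732 F162731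
theorem F463928 : act 6 n201805 = n212012 := d21_5 (iv5 F345100) (iv1 D115939) (iv5 F101835) D141233 F421846 (iv5 D212012) D212011 F463918 (iv6 D199063) (iv1 F345103)
def n212013 : Q := act 0 n144854
theorem D212013 : act 0 n144854 = n212013 := rfl
theorem F463929 : act 4 n212013 = n189279 := d18_3 F364855 (iv4 F363454) D212013 (iv5 D189279) F144662 F294237 (iv4 F294175) F136699 F364853
theorem F463930 : act 6 n212013 = n188744 := d21_5 F193612 (iv1 F88623) D67897 D144854 D212013 (iv5 D188744) F290211 D100345 F154326 (iv1 F193614)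
theorem F463931 : act 5 n212013 = n207408 := d21_8 (iv5 D98698) (iv1 D46138) D46139 (iv6 F107924) (iv1 F164461) D196154 F399641 D212013 F444749 (iv1 F367103)
theorem F463932 : act 1 n186684 = n212013 := d15_0 (iv0 D212013) (iv7 F363455) (iv2 F367666)
theorem F463933 : act 2 n188748 = n212013 := d2_3 F463931 (iv2 F444750) (iv5 F374694)
theorem F463934 : act 3 n212013 = n206096 := d0_2 (iv3 F374692) F463933 (iv2 F439236) (iv3 F204710) (iv2 F143017)
theorem F463935 : act 7 n206106 = n212013 := d15_2 (iv0 F403356) F439280 (iv2 F463933)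
def n212014 : Q := act 1 n144854
theorem D212014 : act 1 n144854 = n212014 := rfl
theorem F463936 : act 1 n212014 = n186684 := d15_1 D212014 (iv7 F403353) F403349
theorem F463937 : act 7 n212014 = n188748 := d15_2 (iv0 D212013) D212014 F463933
theorem F463938 : act 4 n212014 = n210263 := d18_7 F367156 (iv4 D102898) (iv1 D47722) (iv4 F70880) (iv5 F293583) (iv4 F363454) D212014 (iv0 F456788) F368048
theorem F463939 : act 5 n212014 = n207409 := d18_9 (iv1 D207409) F210445 D131307 F392295 (iv5 D186687) (iv4 D89041) D89040 (iv4 F363454) D212014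
theorem F463940 : act 3 n188752 = n212014 := d20_9 F363454 (iv1 D89040) D89041 (iv3 F347563) (iv1 F161556) (iv3 F177283) (iv4 F419123) (iv1 F419126) (iv4 F374710) (iv1 D212014)
theorem F463941 : act 6 n208881 = n212014 := d21_3 F426294 (iv1 F457102) F457100 (iv1 D212014) (iv6 D144854) (iv5 D67897) F55394 D34985 (iv6 F114796) D159920
theorem F463942 : act 2 n212014 = n206106 := d3_1 F463941 F450792 (iv2 F451224)
def n212015 : Q := act 5 n144910
theorem D212015 : act 5 n144910 = n212015 := rfl
theorem F463943 : act 3 n212015 = n144911 := d6_1 D212015 (iv5 D144911) D144910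
theorem F463944 : act 6 n212015 = n208524 := d12_2 (iv6 F343355) D212015 F449729 (iv6 F422027) F371183
theorem F463945 : act 7 n212015 = n147236 := d13_2 (iv7 F227875) D212015 (iv5 D147236)
theorem F463946 : act 4 n212015 = n200557 := d16_2 (iv4 F227874) D212015 (iv5 D200557) (iv4 D113229) (iv5 D52265) (iv4 F82571) F105258 (iv7 F175178) F175176
theorem F463947 : act 0 n212015 = n211489 := d17_2 F342091 D212015 F461789 F419664 F353623 F319464 (iv5 F342095) F272126 (iv4 F342080)
def n212016 : Q := act 5 n144917
theorem D212016 : act 5 n144917 = n212016 := rfl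
theorem F463948 : act 2 n212016 = n202825 := d2_1 D212016 F425749 F366237
theorem F463949 : act 3 n212016 = n208885 := d6_1 D212016 (iv5 D208885) F392175
theorem F463950 : act 4 n212016 = n202823 := d9_1 D212016 (iv5 D202823) F182914 D139365 D210530 F457942 F392170 F340910 (iv4 D144149) (iv5 D67532) (iv4 F84339) D115928 D202514 (iv5 F424346) F392174
theorem F463951 : act 7 n212016 = n211825 := d13_2 F366240 D212016 F463209
theorem F463952 : act 1 n212016 = n211831 := d17_6 (iv1 F424621) F424617 F426183 (iv5 F424346) F392174 D212016 F463225 F355818 (iv4 F396204)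
theorem F463953 : act 0 n212016 = n202873 := d21_1 D212016 (iv5 D202873) (iv6 F419523) F419522 (iv6 D159545) F332616 (iv1 F217440) (iv5 F374124) F374125 (iv1 F229112)
theorem F463954 : act 6 n212016 = n188163 := d21_3 (iv5 F343308) (iv1 F229112) D212016 (iv1 F372512) (iv6 D113018) (iv5 D52166) (iv1 D25336) D25338 D52171 D113032
def n212017 : Q := act 0 n144940
theorem D212017 : act 0 n144940 = n212017 := rfl
theorem F463955 : act 5 n212017 = n144994 := d17_1 D212017 F324893 F353535 (iv4 D147992) (iv5 D69324) D69323 D147988 F355814 (iv4 F355206)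
theorem F463956 : act 4 n212017 = n148028 := d18_1 D212017 F396394 F396392 (iv5 F238182) (iv4 F355735) (iv0 D143116) D143118 F341545 D144940
theorem F463957 : act 3 n212017 = n147940 := d20_5 (iv4 D67989) D67987 (iv4 F104095) (iv3 F227914) D212017 (iv4 F425991) (iv1 F462228) F462225 (iv3 D145022) (iv1 F104102)
theorem F463958 : act 2 n201377 = n212017 := d15_3 (iv0 D212017) F355815 (iv7 F420241)
theorem F463959 : act 1 n186416 = n212017 := d15_0 (iv0 D212017) (iv7 F229171) F355731
theorem F463960 : act 7 n212017 = n159900 := d15_2 (iv0 F349278) F463959 F252152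
def n212018 : Q := act 6 n144940
theorem D212018 : act 6 n144940 = n212018 := rfl
theorem F463961 : act 2 n212018 = n207409 := d3_1 D212018 F444754 F416155
theorem F463962 : act 3 n212018 = n144942 := d7_1 D212018 (iv6 D144942) (iv3 F227914)
theorem F463963 : act 5 n212018 = n206106 := d12_1 D212018 F450792 F450788 (iv6 D144941) D144940
theorem F463964 : act 7 n212018 = n207408 := d14_2 F229171 D212018 F444749 (iv7 F289197) F355757
theorem F463965 : act 0 n212018 = n207401 := d21_4 F420304 (iv1 D144938) D144940 D212018 (iv6 D207401) (iv5 F215272) F314148 F335874 D208211 F448386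
theorem F463966 : act 0 n190449 = n212018 := d21_4 (iv5 F238983) F375299 F147765 D190449 (iv6 D212018) (iv5 D144940) (iv1 F341545) D211578 F462226 (iv1 D151979)
def n212019 : Q := act 1 n144941
theorem D212019 : act 1 n144941 = n212019 := rfl
theorem F463967 : act 1 n212019 = n188590 := d15_1 D212019 (iv7 F457099) F457096
theorem F463968 : act 7 n212019 = n203302 := d15_2 (iv0 F422008) D212019 F427765
theorem F463969 : act 5 n212019 = n203935 := d17_7 F430481 D208694 (iv1 F453561) F453560 (iv4 F450789) F450788 D212019 (iv0 D203935) D203936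
theorem F463970 : act 4 n212019 = n211282 := d18_7 F411500 F360933 (iv1 F422987) F422985 (iv5 F426452) F426451 D212019 (iv0 F460946) F422184
theorem F463971 : act 3 n202634 = n212019 := d19_19 (iv1 D212019) (iv5 F450788) F450789 (iv3 D197524) (iv1 D108424) D108426 D197529 (iv3 F405332) F443041 F443038 F211853 D134175 F327492 D136048 F328459 F177083 F188388 (iv5 F350182) (iv4 F424857)
theorem F463972 : act 2 n212019 = n202941 := d0_1 F463971 F426291 F183709 (iv3 F180978) (iv2 F424856)
theorem F463973 : act 6 n212019 = n202633 := d7_2 D202634 F463971 (iv3 D202633)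
def n212020 : Q := act 7 n144941
theorem D212020 : act 7 n144941 = n212020 := rfl
theorem F463974 : act 2 n212020 = n188590 := d4_1 D212020 (iv7 F457099) F457096
theorem F463975 : act 3 n212020 = n144946 := d8_1 D212020 (iv7 D144946) (iv3 F227915)
theorem F463976 : act 6 n212020 = n188589 := d14_1 D212020 F374116 (iv6 D145940) F104623 D144941
theorem F463977 : act 1 n202941 = n212020 := d15_1 F457102 (iv7 D212020) (iv2 F457096)
theorem F463978 : act 1 n212020 = n203302 := d15_1 F463977 (iv7 F463968) F463972
def n212021 : Q := act 7 n144942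
theorem D212021 : act 7 n144942 = n212021 := rfl
theorem F463979 : act 2 n212021 = n186407 := d4_1 D212021 (iv7 F366051) F229126
theorem F463980 : act 3 n212021 = n207408 := d8_1 D212021 (iv7 F463964) F463962
theorem F463981 : act 5 n212021 = n206096 := d13_1 D212021 (iv7 F439237) F347380
theorem F463982 : act 6 n212021 = n186405 := d14_1 D212021 (iv7 F291021) F326238 F104625 D144942
theorem F463983 : act 1 n189554 = n212021 := d15_1 (iv0 F376870) (iv7 D212021) (iv2 F229126)
theorem F463984 : act 1 n212021 = n189263 := d15_1 F463983 F376249 (iv2 F376869)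
def n212022 : Q := act 7 n144964
theorem D212022 : act 7 n144964 = n212022 := rfl
theorem F463985 : act 2 n212022 = n144967 := d4_1 D212022 (iv7 D144967) (iv2 F227934)
theorem F463986 : act 4 n212022 = n203118 := d11_1 D212022 (iv7 D203118) (iv4 F227935)
theorem F463987 : act 6 n212022 = n184777 := d14_1 D212022 (iv7 F355580) (iv6 D146842) F105032 D144964
theorem F463988 : act 1 n144966 = n212022 := d15_1 D144966 (iv7 D212022) F227934
theorem F463989 : act 1 n212022 = n144965 := d15_1 F463988 (iv7 F397491) F397487
def n212023 : Q := act 3 n144974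
theorem D212023 : act 3 n144974 = n212023 := rfl
theorem F463990 : act 5 n212023 = n145915 := d6_2 (iv5 F227942) D212023 (iv3 D145915)
theorem F463991 : act 6 n212023 = n207275 := d7_2 F345023 D212023 F444092
theorem F463992 : act 7 n212023 = n201267 := d8_2 (iv7 F227941) D212023 F419767
theorem F463993 : act 0 n212023 = n196147 := d19_4 (iv1 F104033) D144914 (iv4 F227943) D212023 F399613 (iv4 F359244) (iv3 F353322) (iv1 F205298) (iv5 F173628) (iv4 F175442) F324599 (iv1 D86186) (iv5 F129778) (iv4 F339097) F178115 (iv1 F355816) (iv5 F329161) F183937 (iv3 D67948)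
theorem F463994 : act 0 n164414 = n212023 := d20_4 (iv4 F331566) (iv1 F382319) F382316 F364650 (iv3 D212023) F227943 F227883 (iv4 F318220) F178433 (iv1 F178422)
theorem F463995 : act 2 n212023 = n195665 := d15_3 F397787 F419769 (iv7 F463992)
def n212024 : Q := act 4 n144978
theorem D212024 : act 4 n144978 = n212024 := rfl
theorem F463996 : act 6 n212024 = n173514 := d10_2 F387823 D212024 F387820
theorem F463997 : act 0 n212024 = n201536 := d18_2 F428265 D212024 (iv4 D201536) (iv5 D114797) D114796 F333645 (iv4 F419447) F419451 D203429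
theorem F463998 : act 1 n212024 = n201532 := d18_6 (iv1 F420291) F315727 (iv1 F278602) (iv4 F104081) D144978 D212024 (iv4 D201532) D201531 F420878
theorem F463999 : act 3 n191949 = n212024 := d7_3 F463996 F366730 D191949
def n212025 : Q := act 7 n144978
theorem D212025 : act 7 n144978 = n212025 := rfl
theorem F464000 : act 2 n212025 = n152523 := d4_1 D212025 (iv7 F426010) F426009
theorem F464001 : act 3 n212025 = n201669 := d8_1 D212025 F421321 F387830
theorem F464002 : act 5 n212025 = n144979 := d13_1 D212025 (iv7 D144979) D144978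
theorem F464003 : act 6 n212025 = n152280 := d14_1 D212025 F346149 D152518 (iv7 F387819) F387823
def n212026 : Q := act 5 n144992
theorem D212026 : act 5 n144992 = n212026 := rfl
theorem F464004 : act 2 n212026 = n203015 := d2_1 D212026 (iv5 D203015) (iv2 F227956)
theorem F464005 : act 3 n212026 = n194121 := d6_1 D212026 (iv5 F403507) F361666
theorem F464006 : act 6 n212026 = n156767 := d12_2 D144992 D212026 (iv5 D156767) F111956 (iv5 F329154)
theorem F464007 : act 7 n212026 = n203086 := d13_2 F227958 D212026 (iv5 D203086)
theorem F464008 : act 4 n212026 = n202321 := d16_2 (iv4 F227957) D212026 (iv5 D202321) (iv4 F416625) F416620 (iv4 F188290) (iv5 F426837) F426842 F204820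
theorem F464009 : act 0 n212026 = n203507 := d17_2 F227959 D212026 (iv5 D203507) (iv4 D119304) (iv5 D54903) (iv0 D26557) (iv5 F41602) D54150 D117522
theorem F464010 : act 1 n212026 = n203509 := d17_6 (iv1 F428838) (iv5 D119517) F185369 (iv5 F104087) (iv4 F227957) D212026 (iv5 D203509) F355072 (iv4 F428835)
def n212027 : Q := act 6 n144995
theorem D212027 : act 6 n144995 = n212027 := rfl
theorem F464011 : act 2 n212027 = n144997 := d3_1 D212027 (iv6 D144997) D144995
theorem F464012 : act 3 n212027 = n195198 := d7_1 D212027 (iv6 D195198) (iv3 F343296)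
theorem F464013 : act 4 n212027 = n210214 := d10_1 D212027 (iv6 D210214) (iv4 F343297)
theorem F464014 : act 5 n212027 = n146557 := d12_1 D212027 (iv6 F236570) F335874 D208211 (iv5 F448384)
theorem F464015 : act 0 n212027 = n159919 := d21_4 D211578 F462227 (iv5 F448384) D212027 (iv6 D159919) (iv5 F363108) D208770 F450788 (iv6 D144941) (iv1 F341545)
theorem F464016 : act 7 n212027 = n146556 := d15_2 (iv0 F426356) (iv0 F464015) (iv2 F426353)
def n212028 : Q := act 0 n144996
theorem D212028 : act 0 n144996 = n212028 := rfl
theorem F464017 : act 5 n212028 = n145936 := d17_3 (iv1 F323600) D144996 D212028 F341542 F225964 F225861 (iv5 F335427) (iv0 D143455) (iv4 F321916)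
theorem F464018 : act 4 n212028 = n145952 := d18_1 D212028 F383039 F383036 (iv5 D151442) (iv4 F330357) F426743 F426739 (iv0 D144994) D144996
theorem F464019 : act 6 n212028 = n209104 := d21_5 D131305 F312069 (iv5 F335873) F341591 D212028 F452278 (iv1 F439074) (iv5 F444745) (iv6 D207407) (iv1 D131303)
theorem F464020 : act 2 n201391 = n212028 := d15_3 (iv0 D212028) (iv0 F379927) (iv7 F420303)
theorem F464021 : act 1 n147992 = n212028 := d15_0 (iv0 D212028) (iv7 F425990) F425988
theorem F464022 : act 7 n212028 = n211578 := d15_2 (iv0 F379929) F464021 F462223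
def n212029 : Q := act 0 n145006
theorem D212029 : act 0 n145006 = n212029 := rfl
theorem F464023 : act 5 n212029 = n187535 := d17_1 D212029 (iv1 F370717) F178962 F317597 D146415 (iv0 F233181) (iv5 D117881) D117880 (iv4 F349974)
theorem F464024 : act 4 n212029 = n202881 := d18_3 (iv1 F315985) (iv4 F349974) D212029 (iv5 F426013) F379414 (iv0 D139132) D139133 (iv0 F426629) F426627
theorem F464025 : act 3 n212029 = n186891 := d20_5 (iv4 D147889) (iv1 F334977) F104573 (iv3 F227965) D212029 (iv4 D186891) (iv1 F289510) (iv4 F372363) F372364 F366071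
theorem F464026 : act 6 n212029 = n187205 := d21_5 F361626 F334849 (iv5 D145005) D145006 D212029 F369488 F161629 (iv5 D76437) D76438 (iv1 F361627)
theorem F464027 : act 2 n201608 = n212029 := d15_3 (iv0 D212029) (iv0 F355705) (iv7 F421126)
theorem F464028 : act 1 n203160 = n212029 := d15_0 (iv0 D212029) (iv7 F430367) F430364
theorem F464029 : act 7 n212029 = n201609 := d15_2 (iv0 F427234) F464028 F421130
def n212030 : Q := act 5 n145007
theorem D212030 : act 5 n145007 = n212030 := rfl
theorem F464030 : act 2 n212030 = n204189 := d2_1 D212030 F431415 F420282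
theorem F464031 : act 3 n212030 = n197037 := d6_1 D212030 (iv5 D197037) F341589
theorem F464032 : act 6 n212030 = n145010 := d12_2 D145007 D212030 (iv5 D145010) (iv6 D67983) D67982
theorem F464033 : act 7 n212030 = n204186 := d13_2 F444594 D212030 F444596
theorem F464034 : act 4 n212030 = n171098 := d16_6 F319773 D135320 F337849 (iv5 F319882) (iv4 F227966) D212030 F357859 F281971 (iv2 F281972)
def n212031 : Q := act 4 n145010
theorem D212031 : act 4 n145010 = n212031 := rfl
theorem F464035 : act 2 n212031 = n204190 := d1_1 D212031 F431418 F420285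
theorem F464036 : act 6 n212031 = n171098 := d10_2 F464032 D212031 (iv4 F464034)
def n212032 : Q := act 7 n145010
theorem D212032 : act 7 n145010 = n212032 := rfl
theorem F464037 : act 2 n212032 = n201531 := d4_1 D212032 F420877 F420285
theorem F464038 : act 5 n212032 = n145011 := d13_1 D212032 (iv7 D145011) D145010
theorem F464039 : act 6 n212032 = n201485 := d14_1 D212032 (iv7 F427988) F431400 (iv7 F464033) F464032
theorem F464040 : act 1 n201456 = n212032 := d15_1 (iv0 F420573) (iv7 D212032) (iv2 F420285)
theorem F464041 : act 1 n212032 = n201457 := d15_1 F464040 F420576 (iv2 F420570)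
def n212033 : Q := act 7 n145017
theorem D212033 : act 7 n145017 = n212033 := rfl
theorem F464042 : act 3 n212033 = n207205 := d8_1 D212033 F443793 F396235
theorem F464043 : act 4 n212033 = n207325 := d11_1 D212033 F444352 (iv4 F227970)
theorem F464044 : act 6 n212033 = n207204 := d14_1 D212033 F443789 (iv6 D201385) F318221 D145017
theorem F464045 : act 1 n164512 = n212033 := d15_1 (iv0 F420798) (iv7 D212033) (iv2 F420633)
theorem F464046 : act 1 n212033 = n164514 := d15_1 F464045 (iv7 F429872) F429870
def n212034 : Q := act 0 n145023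
theorem D212034 : act 0 n145023 = n212034 := rfl
theorem F464047 : act 5 n212034 = n182051 := d17_1 D212034 F283458 F251929 F345021 (iv5 D134496) D134495 (iv5 F399891) (iv0 F399893) (iv4 F227972)
theorem F464048 : act 4 n212034 = n209040 := d18_3 F339783 (iv4 F227972) D212034 (iv5 D209040) F437284 F437281 (iv4 F218298) F218302 F361696
theorem F464049 : act 4 n189358 = n190509 := d20_0 (iv1 D190509) F147724 (iv3 F379794) F463966 F463962 (iv4 F227972) D212034 F464048 F451972 (iv1 F379747)
theorem F464050 : act 2 n189602 = n212034 := d15_3 (iv0 D212034) (iv0 F376148) (iv7 F377079)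
theorem F464051 : act 7 n212034 = n209111 := d4_2 (iv7 F377079) F464050 F452306
theorem F464052 : act 6 n190509 = n189357 := d10_2 D189358 F464049 (iv4 D189357)
def n212035 : Q := act 7 n145023
theorem D212035 : act 7 n145023 = n212035 := rfl
theorem F464053 : act 3 n212035 = n187168 := d8_1 D212035 F369315 (iv3 F339780)
theorem F464054 : act 4 n212035 = n212021 := d11_1 D212035 (iv7 D212021) (iv4 F227972)
theorem F464055 : act 5 n212035 = n187167 := d13_1 D212035 F369311 F339779
theorem F464056 : act 1 n209111 = n212035 := d15_1 (iv0 F452310) (iv7 D212035) (iv2 F229201)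
theorem F464057 : act 1 n212035 = n189602 := d15_1 F464056 F377079 (iv2 F452306)
theorem E103981 : n208458 = n206275 := (c19_12 (iv1 F464057) F464055 F369309 F251754 F370491 F370489 F217290 (iv3 D134300) F168279 D63117 D134354 D208458 (iv1 D206275) (iv5 F394361) F394360 F363594 (iv1 F379213) (iv5 F379216) (iv4 D189606) (iv3 F377078))
theorem F464058 : act 3 n206275 = n134354 := (sb E103981 (iv3 D208458))
def n212036 : Q := act 5 n145054
theorem D212036 : act 5 n145054 = n212036 := rfl
theorem F464059 : act 2 n212036 = n145056 := d2_1 D212036 (iv5 D145056) D145054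
theorem F464060 : act 4 n212036 = n178669 := d9_1 D212036 (iv5 F408058) (iv4 F227255) (iv5 F455930) (iv4 D210049) (iv5 F349478) (iv4 F227931) (iv5 F446742) F446745 (iv5 F461039) F461040 (iv5 F462161) (iv4 D211564) (iv5 F347294) F264372
theorem F464061 : act 7 n212036 = n202361 := d13_2 F397461 D212036 F423754
theorem F464062 : act 1 n212036 = n202969 := d17_6 F426426 F425172 (iv1 F359468) (iv5 F347294) F264372 D212036 (iv5 D202969) D202967 (iv4 F426423)
theorem F464063 : act 0 n212036 = n206340 := d18_0 F440329 (iv1 D198877) (iv4 F349443) F200708 (iv4 F349467) F349460 (iv4 F397463) F397467 D212036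
def n212037 : Q := act 5 n145074
theorem D212037 : act 5 n145074 = n212037 := rfl
theorem F464064 : act 2 n212037 = n197878 := d2_1 D212037 (iv5 F406088) (iv2 F348012)
theorem F464065 : act 3 n212037 = n203334 := d6_1 D212037 (iv5 D203334) (iv3 F347733)
theorem F464066 : act 7 n212037 = n203022 := d13_2 (iv7 F264373) D212037 (iv5 D203022)
theorem F464067 : act 4 n212037 = n197875 := d16_4 (iv4 F347168) (iv5 D145075) D145074 D212037 (iv5 D197875) (iv4 F174062) (iv5 F408683) F408684 (iv2 F347160)
theorem F464068 : act 0 n212037 = n208480 := d17_2 F228024 D212037 (iv5 D208480) F363097 (iv5 F320505) F278698 F278694 F184033 (iv4 F184146)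
theorem F464069 : act 1 n212037 = n208478 := d17_6 F424880 F424877 F362625 (iv5 D145075) D145074 D212037 (iv5 D208478) (iv0 D134397) (iv4 F216385)
theorem F464070 : act 6 n212037 = n210994 := d21_9 F453956 F358545 (iv5 F337490) F337491 D125121 (iv6 F426687) F426686 F228024 D212037 F459668
def n212038 : Q := act 5 n145077
theorem D212038 : act 5 n145077 = n212038 := rfl
theorem F464071 : act 2 n212038 = n188986 := d2_1 D212038 F375336 (iv2 F347730)
theorem F464072 : act 3 n212038 = n145078 := d6_1 D212038 (iv5 D145078) D145077
theorem F464073 : act 6 n212038 = n188985 := d12_2 (iv6 F374078) D212038 F375331 F362394 D188582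
theorem F464074 : act 7 n212038 = n203463 := d13_2 (iv7 F347731) D212038 (iv5 D203463)
theorem F464075 : act 0 n212038 = n146401 := d17_2 (iv1 F347729) D212038 (iv5 D146401) (iv4 F183443) D202904 (iv0 F426135) (iv5 F427027) F427022 F314120
def n212039 : Q := act 3 n145101
theorem D212039 : act 3 n145101 = n212039 := rfl
theorem F464076 : act 2 n212039 = n211984 := d0_1 D212039 F463830 F436704 F241392 F228066
theorem F464077 : act 4 n212039 = n147909 := d5_2 (iv4 F228065) D212039 (iv3 D147909) (iv4 D69297) (iv3 F105546)
theorem F464078 : act 7 n212039 = n153528 := d8_2 (iv7 F228064) D212039 (iv3 D153528)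
theorem F464079 : act 0 n212039 = n195291 := d20_4 F86015 (iv1 F105549) (iv4 F228065) D212039 F396598 F161957 F101925 D53868 F320620 D54473
theorem F464080 : act 6 n202870 = n212039 := d21_3 (iv5 D145643) (iv1 F183134) D202870 F464079 (iv6 D195291) D195290 (iv1 F460774) F460776 F425967 (iv1 F425965)
theorem F464081 : act 5 n212039 = n211995 := d12_1 F464080 (iv6 D211995) (iv5 D144714) F183138 D202870
theorem F464082 : act 3 n211995 = n150046 := d6_1 F464081 F236064 D212039
theorem F464083 : act 6 n150046 = n211993 := d7_2 D211995 F464082 F463852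
theorem F464084 : act 0 n211985 = n212039 := d20_1 (iv4 F463832) F464077 (iv3 D147909) F105552 (iv3 F329199) F143293 F293150 D46765 D100202 D192479
def n212040 : Q := act 6 n145101
theorem D212040 : act 6 n145101 = n212040 := rfl
theorem F464085 : act 2 n212040 = n153584 := d3_1 D212040 (iv6 D153584) F228066
theorem F464086 : act 3 n212040 = n202870 := d7_1 D212040 F464080 (iv3 D212039)
theorem F464087 : act 4 n212040 = n147908 := d10_1 D212040 (iv6 D147908) (iv4 F228065)
theorem F464088 : act 5 n212040 = n197436 := d12_1 D212040 (iv6 F404310) D211993 (iv6 F464083) F236064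
theorem F464089 : act 0 n212040 = n203259 := d21_4 D70594 D150046 F236064 D212040 (iv6 F446751) F446750 F396775 F396774 F340742 (iv1 D70592)
theorem F464090 : act 1 n212040 = n203261 := d15_1 (iv0 F464089) F427552 (iv2 F427547)
theorem F464091 : act 7 n211921 = n212040 := d13_0 F464088 F404307 D211921
def n212041 : Q := act 0 n145102
theorem D212041 : act 0 n145102 = n212041 := rfl
theorem F464092 : act 3 n212041 = n195362 := d20_5 F86013 (iv1 F50634) D68014 D145102 D212041 F428133 (iv1 D203393) (iv4 F427345) (iv3 D203183) (iv1 F185718)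
theorem F464093 : act 4 n212041 = n202047 := d20_0 (iv1 F422800) (iv4 F227547) (iv3 D144713) (iv1 D67818) F321642 F86013 (iv1 F50634) D68014 D145102 D212041
theorem F464094 : act 1 n203238 = n212041 := d15_0 (iv0 D212041) F228068 D203238
theorem F464095 : act 2 n202059 = n212041 := d1_3 F464093 F438324 D202059
theorem F464096 : act 7 n202064 = n212041 := d11_0 F464093 F438325 D202064
def n212042 : Q := act 1 n145102
theorem D212042 : act 1 n145102 = n212042 := rfl
theorem F464097 : act 7 n212042 = n202059 := d15_2 (iv0 D212041) D212042 F464095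
theorem F464098 : act 4 n202048 = n212042 := d20_0 (iv1 D212042) F228067 (iv3 D72119) (iv1 D33298) (iv3 F322253) (iv4 D30806) (iv1 F111215) (iv4 F84064) (iv3 F179634) (iv1 F422796)
theorem F464099 : act 3 n209648 = n212042 := d20_3 F427354 (iv1 F403190) (iv4 F454484) (iv1 D212042) (iv3 D145102) (iv4 D68014) F50632 D54444 D118185 D203185
theorem F464100 : act 2 n212042 = n202064 := d1_1 F464098 (iv4 D202064) (iv2 F438322)
theorem F464101 : act 1 n212042 = n203238 := d15_0 F464094 (iv7 F464096) (iv2 F464100)
def n212043 : Q := act 2 n145102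
theorem D212043 : act 2 n145102 = n212043 := rfl
theorem F464102 : act 3 n212043 = n203241 := d0_2 D145102 D212043 (iv2 D203241) (iv3 D118265) (iv2 F104128)
theorem F464103 : act 4 n212043 = n152841 := d1_2 (iv4 F228067) D212043 (iv2 D152841)
theorem F464104 : act 6 n212043 = n202031 := d3_2 (iv6 F366262) D212043 F422763
theorem F464105 : act 7 n212043 = n203238 := d4_2 (iv7 F228068) D212043 (iv2 D203238)
theorem F464106 : act 1 n212043 = n202064 := d15_0 (iv0 F422821) (iv7 F228068) D212043
theorem F464107 : act 1 n202059 = n212043 := d15_0 F464106 F464096 (iv2 F464095)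
def n212044 : Q := act 5 n145102
theorem D212044 : act 5 n145102 = n212044 := rfl
theorem F464108 : act 3 n212044 = n145103 := d6_1 D212044 (iv5 D145103) D145102
theorem F464109 : act 6 n212044 = n203256 := d12_2 (iv6 F366262) D212044 F438423 (iv6 F455933) F455930
theorem F464110 : act 7 n212044 = n203239 := d13_2 (iv7 F228068) D212044 (iv5 D203239)
def n212045 : Q := act 0 n145109
theorem D212045 : act 0 n145109 = n212045 := rfl
theorem F464111 : act 4 n212045 = n191159 := d18_3 (iv1 F393801) F393805 D212045 F382440 (iv4 F157781) F157780 F159264 F159262 D184192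
theorem F464112 : act 3 n212045 = n184254 := d20_5 (iv4 D54444) F50604 D68021 D145109 D212045 F365059 (iv1 F365066) (iv4 F427347) (iv3 D203184) (iv1 D118184)
theorem F464113 : act 2 n194319 = n212045 := d15_3 (iv0 D212045) (iv0 F366316) (iv7 F392815)
theorem F464114 : act 1 n203241 = n212045 := d15_0 (iv0 D212045) F228083 D203241
theorem F464115 : act 7 n212045 = n194261 := d15_2 F427515 F464114 F392549
def n212046 : Q := act 2 n145109
theorem D212046 : act 2 n145109 = n212046 := rfl
theorem F464116 : act 3 n212046 = n203238 := d0_2 D145109 D212046 (iv2 D203238) (iv3 D118259) (iv2 F104143)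
theorem F464117 : act 4 n212046 = n184203 := d1_2 F393805 D212046 F393806
theorem F464118 : act 6 n212046 = n195444 := d3_2 F408721 D212046 (iv2 F408719)
theorem F464119 : act 7 n212046 = n203241 := d4_2 (iv7 F228083) D212046 (iv2 D203241)
theorem F464120 : act 1 n212046 = n194261 := d15_0 F392551 (iv7 F228083) D212046
theorem F464121 : act 1 n194319 = n212046 := d15_0 F464120 (iv7 F464115) (iv2 F464113)
theorem F464122 : act 4 n201970 = n152839 := d20_0 (iv1 F404297) (iv4 F427500) (iv3 F464116) (iv1 F464121) F392814 (iv4 F162081) (iv1 D53193) (iv4 F84016) (iv3 F179561) D201970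
def n212047 : Q := act 5 n145109
theorem D212047 : act 5 n145109 = n212047 := rfl
theorem F464123 : act 3 n212047 = n145110 := d6_1 D212047 (iv5 D145110) D145109
theorem F464124 : act 6 n212047 = n211989 := d12_2 F408721 D212047 (iv5 D211989) F463626 (iv5 F463625)
theorem F464125 : act 7 n212047 = n203242 := d13_2 (iv7 F228083) D212047 (iv5 D203242)
theorem F464126 : act 4 n212047 = n212002 := d16_2 F393805 D212047 F463877 (iv4 D192880) (iv5 F375506) (iv4 F381201) (iv5 F393795) (iv7 F393800) F393806
def n212048 : Q := act 1 n145114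
theorem D212048 : act 1 n145114 = n212048 := rfl
theorem F464127 : act 7 n212048 = n209537 := d15_2 (iv0 F414226) D212048 F454074
theorem F464128 : act 4 n209521 = n212048 := d20_0 (iv1 D212048) (iv4 F427873) (iv3 D203322) (iv1 F314665) F314667 (iv4 D154754) D154751 (iv4 F452578) F452577 D209521
theorem F464129 : act 2 n212048 = n209533 := d1_1 F464128 (iv4 D209533) F454013
theorem F464130 : act 3 n209653 = n212048 := d20_5 F167196 (iv1 D64304) D64305 D136777 D209653 (iv4 F464128) (iv1 F454016) (iv4 F438433) F438432 (iv1 F204003)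
def n212049 : Q := act 2 n145114
theorem D212049 : act 2 n145114 = n212049 := rfl
theorem F464131 : act 1 n212049 = n209533 := d15_0 (iv0 F454068) F236051 D212049
theorem F464132 : act 1 n209537 = n212049 := d15_0 F464131 F454067 (iv2 F454074)
def n212050 : Q := act 6 n145114
theorem D212050 : act 6 n145114 = n212050 := rfl
theorem F464133 : act 3 n212050 = n145115 := d7_1 D212050 (iv6 D145115) D145114
theorem F464134 : act 4 n212050 = n210474 := d10_1 D212050 F457688 F427873
theorem F464135 : act 7 n212050 = n210461 := d14_2 F236051 D212050 (iv6 D210461) F222266 F366664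
theorem F464136 : act 0 n210194 = n212050 := d20_7 F457631 F330040 F219739 (iv3 F219695) (iv1 F391386) F391354 (iv4 F456515) F464134 F457686 (iv1 F457629)
def n212051 : Q := act 5 n145115
theorem D212051 : act 5 n145115 = n212051 := rfl
theorem F464137 : act 2 n212051 = n210810 := d2_1 D212051 F458868 F404126
theorem F464138 : act 7 n212051 = n210464 := d13_2 (iv7 F361409) D212051 (iv5 D210464)
theorem F464139 : act 0 n212051 = n210812 := d17_2 (iv1 F404125) D212051 F458873 F223036 (iv5 F317365) (iv0 D67970) (iv5 F86008) (iv0 F315150) (iv4 F404122)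
theorem F464140 : act 1 n212051 = n210798 := d17_6 F420839 F334980 (iv1 F334977) (iv5 F109141) (iv4 F228090) D212051 (iv5 D210798) D210797 F458835
def n212052 : Q := act 4 n145119
theorem D212052 : act 4 n145119 = n212052 := rfl
theorem F464141 : act 2 n212052 = n203187 := d1_1 D212052 F427366 F404056
theorem F464142 : act 3 n212052 = n195378 := d5_1 D212052 F396865 F244797 (iv4 D145123) (iv3 F228092)
theorem F464143 : act 5 n212052 = n195377 := d9_2 D145119 D212052 F396859 F189698 (iv4 F319215) F162094 D126762 (iv5 F407875) F407878 (iv5 D155890) F110862 F53337 F319662 (iv5 F319603) (iv4 F104150)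
theorem F464144 : act 7 n212052 = n211989 := d11_2 F366317 D212052 F463838
theorem F464145 : act 0 n212052 = n195375 := d17_0 F396854 (iv1 D155790) D155791 (iv4 F396865) (iv5 D195378) F162092 D109278 F361833 D212052
theorem F464146 : act 1 n212052 = n211987 := d18_6 (iv1 F203992) F167198 F321599 (iv4 F104150) D145119 D212052 (iv4 D211987) F396849 F396848
def n212053 : Q := act 6 n145119
theorem D212053 : act 6 n145119 = n212053 := rfl
theorem F464147 : act 2 n212053 = n203249 := d3_1 D212053 F427531 F404056
theorem F464148 : act 3 n212053 = n145124 := d7_1 D212053 (iv6 D145124) (iv3 F228092)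
theorem F464149 : act 5 n212053 = n203248 := d12_1 D212053 F427529 (iv5 D127091) (iv6 F321596) D145119
theorem F464150 : act 0 n212053 = n153583 := d21_4 F404096 F323287 D145119 D212053 (iv6 D153583) (iv5 D72618) (iv1 F104145) D145110 (iv6 F351851) (iv1 F404098)
def n212054 : Q := act 3 n145122
theorem D212054 : act 3 n145122 = n212054 := rfl
theorem F464151 : act 5 n212054 = n203183 := d6_2 (iv5 F228100) D212054 (iv3 D203183)
theorem F464152 : act 6 n212054 = n210711 := d7_2 (iv6 F351853) D212054 F458530
theorem F464153 : act 7 n212054 = n203249 := d8_2 (iv7 F228099) D212054 F427530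
def n212055 : Q := act 1 n145124
theorem D212055 : act 1 n145124 = n212055 := rfl
theorem F464154 : act 1 n212055 = n203244 := d15_1 D212055 F440460 F440457
theorem F464155 : act 5 n212055 = n184249 := d17_7 F365253 F329911 (iv1 F157780) (iv5 F349987) (iv4 F386766) F386768 D212055 F386703 F386702
def n212056 : Q := act 7 n145124
theorem D212056 : act 7 n145124 = n212056 := rfl
theorem F464156 : act 2 n212056 = n203244 := d4_1 D212056 F440460 F440457
theorem F464157 : act 5 n212056 = n192017 := d13_1 D212056 (iv7 F386765) F386768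
def n212057 : Q := act 6 n145125
theorem D212057 : act 6 n145125 = n212057 := rfl
theorem F464158 : act 2 n212057 = n211875 := d3_1 D212057 F463351 (iv2 F228107)
theorem F464159 : act 3 n212057 = n212002 := d7_1 D212057 (iv6 D212002) (iv3 F366318)
theorem F464160 : act 4 n212057 = n206369 := d10_1 D212057 (iv6 D206369) (iv4 F228108)
theorem F464161 : act 5 n194261 = n212057 := d21_2 (iv5 D203242) (iv1 F392551) (iv6 D212057) (iv1 F228110) F396842 (iv5 D195371) (iv1 D105548) D105549 (iv6 F396837) (iv1 F427517)
theorem F464162 : act 1 n212057 = n203234 := d17_6 (iv1 F386679) (iv5 D192414) (iv1 F157769) D103083 D194261 F464161 (iv5 D203234) (iv0 F392825) (iv4 D194322)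
def n212058 : Q := act 1 n145126
theorem D212058 : act 1 n145126 = n212058 := rfl
theorem F464163 : act 1 n212058 = n211555 := d15_1 D212058 F462114 F244939
theorem F464164 : act 7 n212058 = n211659 := d15_2 (iv0 F460873) D212058 F462546
theorem F464165 : act 4 n212058 = n169824 := d18_7 D81438 F267245 F311007 F104238 (iv5 F104153) (iv4 F228112) D212058 (iv0 D169824) (iv5 D81440)
theorem F464166 : act 5 n212058 = n195367 := d18_9 F453237 (iv4 D209325) (iv1 F319853) D194291 (iv5 F460890) F460889 F359897 (iv4 F228112) D212058
theorem F464167 : act 6 n195415 = n212058 := d21_3 (iv5 F351838) F168321 D195415 (iv1 D212058) (iv6 D145126) (iv5 F228109) (iv1 F228110) (iv5 D118272) D118273 F233205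
theorem F464168 : act 3 n203220 = n212058 := d6_3 F464166 F396831 D203220
def n212059 : Q := act 5 n145126
theorem D212059 : act 5 n145126 = n212059 := rfl
theorem F464169 : act 2 n212059 = n205992 := d2_1 D212059 F438731 F244939
theorem F464170 : act 3 n212059 = n211942 := d6_1 D212059 F463667 (iv3 F366457)
theorem F464171 : act 4 n212059 = n190973 := d9_1 D212059 (iv5 D190973) F335524 (iv5 D119469) (iv4 F178733) F307725 (iv4 F462113) F462115 F403822 F335529 F335518 (iv5 D145267) F104238 (iv5 F104153) (iv4 F228112)
theorem F464172 : act 6 n212059 = n194261 := d12_2 D145126 D212059 F464161 (iv6 D212057) F228109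
theorem F464173 : act 0 n212059 = n211933 := d17_2 (iv1 D212058) D212059 (iv5 D211933) F363461 (iv5 D169822) (iv0 F308554) (iv5 F236049) F366805 (iv4 F464165)
theorem F464174 : act 1 n212059 = n203223 := d17_6 (iv1 F227296) (iv5 F317344) (iv1 D68101) (iv5 F104153) (iv4 F228112) D212059 F427467 F463616 F463613
def n212060 : Q := act 5 n145149
theorem D212060 : act 5 n145149 = n212060 := rfl
theorem F464175 : act 3 n212060 = n196398 := d6_1 D212060 F400583 F366504
theorem F464176 : act 6 n212060 = n196396 := d12_2 (iv6 F366503) D212060 F400581 D199814 F413612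
theorem F464177 : act 4 n212060 = n200310 := d16_2 D145149 D212060 F415941 F358424 (iv5 D95862) F318670 (iv5 F341028) F341076 F243165
def n212061 : Q := act 1 n145257
theorem D212061 : act 1 n145257 = n212061 := rfl
theorem F464178 : act 1 n212061 = n192390 := d15_1 D212061 F386626 (iv2 F228238)
theorem F464179 : act 7 n212061 = n201503 := d15_2 (iv0 F374238) D212061 (iv2 F420751)
theorem F464180 : act 3 n192234 = n212061 := d19_19 (iv1 D212061) F228240 F106721 (iv3 F147045) F159078 D104140 F349155 (iv3 D103315) (iv1 D47870) (iv5 D23041) (iv4 D10866) D10865 F291447 (iv5 D20584) F62727 D22528 F177388 D99914 D192234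
theorem F464181 : act 2 n212061 = n187511 := d0_1 F464180 (iv3 D187511) F344308 D188627 (iv2 F386139)
def n212062 : Q := act 7 n145257
theorem D212062 : act 7 n145257 = n212062 := rfl
theorem F464182 : act 2 n212062 = n192390 := d4_1 D212062 F386626 (iv2 F228238)
theorem F464183 : act 3 n212062 = n145259 := d8_1 D212062 (iv7 D145259) (iv3 F228239)
theorem F464184 : act 4 n212062 = n192727 := d11_1 D212062 (iv7 D192727) (iv4 F361013)
theorem F464185 : act 5 n212062 = n149658 := d13_1 D212062 (iv7 D149658) (iv5 F228240)
theorem F464186 : act 6 n212062 = n201445 := d14_1 D212062 (iv7 D201445) (iv6 D114517) (iv7 F104219) D145257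
theorem F464187 : act 1 n187511 = n212062 := d15_1 (iv0 F376139) (iv7 D212062) F228238
theorem F464188 : act 1 n212062 = n201503 := d15_1 F464187 (iv7 F464179) F464181
def n212063 : Q := act 6 n145258
theorem D212063 : act 6 n145258 = n212063 := rfl
theorem F464189 : act 2 n212063 = n187540 := d3_1 D212063 (iv6 D187540) F228241
theorem F464190 : act 3 n212063 = n187927 := d7_1 D212063 (iv6 D187927) (iv3 F228242)
theorem F464191 : act 4 n212063 = n196374 := d10_1 D212063 F400505 (iv4 F335541)
theorem F464192 : act 5 n212063 = n201007 := d12_1 D212063 (iv6 F418706) (iv5 F377344) F377345 F251843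
theorem F464193 : act 0 n212063 = n197815 := d21_4 F178555 D159810 F251843 D212063 (iv6 F419088) F376588 (iv1 D189428) (iv5 F370683) (iv6 D187525) (iv1 F178557)
theorem F464194 : act 0 n197814 = n212063 := d21_4 (iv5 D105343) F362884 D135591 F405874 (iv6 D212063) (iv5 F251843) (iv1 F371940) F371942 F396054 (iv1 D195165)
theorem F464195 : act 7 n212063 = n197804 := d15_2 D197815 (iv0 F464193) F405841
def n212064 : Q := act 5 n145261
theorem D212064 : act 5 n145261 = n212064 := rfl
theorem F464196 : act 2 n212064 = n166756 := d2_1 D212064 (iv5 F351664) (iv2 F228252)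
theorem F464197 : act 3 n212064 = n167465 := d6_1 D212064 F308593 (iv3 F315646)
theorem F464198 : act 6 n212064 = n163819 := d12_2 D145261 D212064 (iv5 D163819) (iv6 F330817) F210680
theorem F464199 : act 7 n212064 = n200089 := d13_2 F428791 D212064 (iv5 F428795)
theorem F464200 : act 1 n212064 = n152703 := d17_6 F300252 D170568 (iv1 F334998) F230855 (iv4 F228253) D212064 (iv5 D152703) F305383 (iv4 F149002)
theorem F464201 : act 4 n207060 = n212064 := d11_3 F464199 (iv4 F441999) (iv7 F443151)
theorem F464202 : act 1 n167349 = n207060 := d18_6 F305382 (iv4 F249673) F301226 (iv4 D80312) D80313 D167349 F464201 F464200 (iv5 D152703)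
def n212065 : Q := act 6 n145293
theorem D212065 : act 6 n145293 = n212065 := rfl
theorem F464203 : act 2 n212065 = n153519 := d3_1 D212065 F363558 (iv2 F228311)
theorem F464204 : act 3 n212065 = n145294 := d7_1 D212065 (iv6 D145294) D145293
theorem F464205 : act 4 n212065 = n188811 := d10_1 D212065 (iv6 F374979) (iv4 F228314)
theorem F464206 : act 7 n212065 = n153518 := d14_2 (iv7 F228313) D212065 (iv6 F459332) F459333 (iv6 F386621)
theorem F464207 : act 0 n212065 = n153520 := d21_4 D142703 F225614 (iv5 F228312) D212065 (iv6 F394094) (iv5 D194688) D194686 (iv5 F461955) (iv6 D211520) (iv1 D142701)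
theorem F464208 : act 0 n151154 = n212065 := d21_4 (iv5 D198220) (iv1 F407237) (iv5 F455676) F455675 (iv6 D212065) F228312 (iv1 F225608) F172119 D196727 (iv1 F425111)
theorem F464209 : act 5 n159486 = n212065 := d21_8 (iv5 F180740) (iv1 F400384) (iv5 D196337) D196338 F424737 F231301 (iv5 F401827) (iv1 F401831) (iv6 D212065) (iv1 F228316)
def n212066 : Q := act 6 n145295
theorem D212066 : act 6 n145295 = n212066 := rfl
theorem F464210 : act 2 n212066 = n194591 := d3_1 D212066 F393774 F228326
theorem F464211 : act 3 n212066 = n145296 := d7_1 D212066 (iv6 D145296) D145295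
theorem F464212 : act 4 n212066 = n177583 := d10_1 D212066 (iv6 F410796) F410791
theorem F464213 : act 7 n212066 = n194468 := d14_2 F363557 D212066 (iv6 D194468) F158985 D103839
theorem F464214 : act 0 n194588 = n212066 := d21_4 F393880 F400659 D198343 (iv6 F407691) (iv6 D212066) F228322 F172307 F172272 (iv6 F410767) (iv1 F410769)
theorem F464215 : act 1 n194589 = n212066 := d15_0 (iv0 F464214) (iv7 F415091) F415090
def n212067 : Q := act 0 n145297
theorem D212067 : act 0 n145297 = n212067 := rfl
theorem F464216 : act 6 n212067 = n196392 := d21_5 D51229 (iv1 F172283) F165747 D145297 D212067 (iv5 F400567) (iv1 D110959) (iv5 D51161) F39032 D24917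
theorem F464217 : act 2 n145298 = n212067 := d3_3 F464216 (iv2 F400837) (iv6 F400832)
theorem F464218 : act 7 n145299 = n212067 := d15_2 (iv0 D145298) D145299 (iv2 F464217)
def n212068 : Q := act 1 n145297
theorem D212068 : act 1 n145297 = n212068 := rfl
theorem F464219 : act 1 n212068 = n145301 := d15_1 D212068 (iv7 D145301) (iv2 F228327)
theorem F464220 : act 7 n212068 = n145298 := d15_2 (iv0 D212067) D212068 F464217
theorem F464221 : act 2 n145299 = n212068 := d4_3 F464220 F464217 (iv7 F464218)
theorem F464222 : act 1 n145301 = n212067 := d15_1 F464219 (iv7 F464218) F464221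
theorem F464223 : act 3 n212068 = n210985 := d20_5 F79050 F78375 (iv4 F104285) (iv3 F228330) (iv1 F464219) (iv4 D210985) (iv1 D140443) (iv4 F165054) F165053 F79051
def n212069 : Q := act 5 n145297
theorem D212069 : act 5 n145297 = n212069 := rfl
theorem F464224 : act 2 n212069 = n145300 := d2_1 D212069 (iv5 D145300) (iv2 F228327)
theorem F464225 : act 1 n212069 = n190987 := d17_6 (iv1 F460768) F455743 (iv1 F458319) (iv5 D210645) (iv4 F228328) D212069 (iv5 F463382) (iv0 F463381) F463379
theorem F464226 : act 4 n212069 = n190944 := d19_2 (iv1 D212068) D212069 F381643 (iv1 D190174) (iv5 D95681) F70264 (iv3 D41908) F63711 D40602 D87352 (iv3 F331707) (iv1 F331713) F321874 (iv4 F352216) D198021 (iv1 F459635) (iv5 D210986) D210985 (iv3 F464223)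
theorem F464227 : act 1 n190993 = n212069 := d18_6 (iv1 F149745) (iv4 F368904) F368903 (iv4 D97120) D97121 D190993 F464226 F381640 (iv5 D190084)
def n212070 : Q := act 7 n145297
theorem D212070 : act 7 n145297 = n212070 := rfl
theorem F464228 : act 2 n212070 = n145301 := d4_1 D212070 (iv7 D145301) (iv2 F228327)
theorem F464229 : act 4 n212070 = n210646 := d11_1 D212070 (iv7 D210646) (iv4 F228328)
theorem F464230 : act 1 n145299 = n212070 := d15_1 D145299 (iv7 D212070) F228327
theorem F464231 : act 1 n212070 = n145298 := d15_1 F464230 (iv7 F464220) (iv2 F464221)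
def n212071 : Q := act 3 n145298
theorem D212071 : act 3 n145298 = n212071 := rfl
theorem F464232 : act 6 n212071 = n210364 := d7_2 (iv6 F400832) D212071 F457210
theorem F464233 : act 7 n212071 = n210985 := d8_2 F464220 D212071 (iv3 F464223)
theorem F464234 : act 4 n212071 = n210365 := d20_6 (iv4 D67709) (iv1 F49765) (iv4 F50024) (iv3 F104277) D145298 D212071 F457212 (iv4 F400647) (iv3 D196425) F164877
theorem F464235 : act 2 n210982 = n212071 := d1_3 F464234 F457211 D210982
theorem F464236 : act 0 n145475 = n212071 := d20_10 F464234 F457212 (iv4 F400647) (iv3 D196425) F164877 (iv3 F222969) (iv4 D139786) F323604 (iv4 F104383) (iv3 F228528)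
theorem F464237 : act 1 n205488 = n210985 := d15_1 (iv0 F459620) (iv7 F464233) (iv2 F464235)
def n212072 : Q := act 4 n145298
theorem D212072 : act 4 n145298 = n212072 := rfl
theorem F464238 : act 6 n212072 = n211886 := d10_2 (iv6 F400832) D212072 (iv4 D211886)
theorem F464239 : act 5 n212072 = n191439 := d21_6 (iv5 F411104) (iv1 F364963) F220622 F448934 (iv1 F463409) (iv6 F464238) (iv1 D191439) D191441 (iv6 F452869) F452871
theorem F464240 : act 6 n191439 = n203081 := d12_2 (iv6 F464238) F464239 (iv5 F426898) F366834 (iv5 F463407)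
def n212073 : Q := act 3 n145299
theorem D212073 : act 3 n145299 = n212073 := rfl
def n212074 : Q := act 4 n145299
theorem D212074 : act 4 n145299 = n212074 := rfl
def n212075 : Q := act 5 n145299
theorem D212075 : act 5 n145299 = n212075 := rfl
def n212076 : Q := act 6 n145299
theorem D212076 : act 6 n145299 = n212076 := rfl
theorem F464241 : act 7 n212076 = n194552 := d14_2 (iv7 F464218) D212076 (iv6 F406876) (iv7 F400839) (iv6 F464216)
theorem F464242 : act 3 n194457 = n212076 := d8_3 F464241 (iv3 D194552) F393293
theorem F464243 : act 6 n212073 = n194457 := d7_0 F464242 (iv6 D212076) D212073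
theorem F464244 : act 0 n212076 = n196407 := d20_4 (iv4 D184218) D184216 (iv4 F393291) F464242 (iv3 D196407) F164833 (iv1 D51150) (iv4 F80685) (iv3 F337154) F366332
theorem F464245 : act 2 n194551 = n212073 := d3_3 F464243 (iv2 F393292) D194551
def n212077 : Q := act 0 n145300
theorem D212077 : act 0 n145300 = n212077 := rfl
theorem F464246 : act 4 n212077 = n190968 := d18_3 D190086 F400067 D212077 (iv5 D190968) D190967 (iv0 F381748) (iv4 D190082) (iv0 D95611) D95614
theorem F464247 : act 2 n190993 = n212077 := d1_3 F464246 F381749 D190993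
theorem F464248 : act 7 n190987 = n212077 := d11_0 F464246 F381751 D190987
def n212078 : Q := act 1 n145300
theorem D212078 : act 1 n145300 = n212078 := rfl
theorem F464249 : act 7 n212078 = n190993 := d15_2 (iv0 D212077) D212078 F464247
theorem F464250 : act 4 n212078 = n190966 := d17_9 F381742 F369603 F370219 (iv5 F370215) D190995 (iv5 F381832) (iv0 D145298) D145300 D212078
theorem F464251 : act 2 n190987 = n212078 := d1_3 F464250 F381738 D190987
def n212079 : Q := act 7 n145300
theorem D212079 : act 7 n145300 = n212079 := rfl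
theorem F464252 : act 3 n212079 = n145310 := d8_1 D212079 (iv7 D145310) (iv3 F228329)
theorem F464253 : act 4 n212079 = n190943 := d11_1 D212079 (iv7 F381647) F400067
theorem F464254 : act 5 n212079 = n145301 := d13_1 D212079 (iv7 D145301) D145300
theorem F464255 : act 1 n190987 = n212079 := d15_1 F464225 (iv7 D212079) (iv2 F464224)
theorem F464256 : act 1 n212079 = n190993 := d15_1 F464255 (iv7 F464249) (iv2 F464251)
def n212080 : Q := act 4 n145303
theorem D212080 : act 4 n145303 = n212080 := rfl
theorem F464257 : act 2 n212080 = n196424 := d1_1 D212080 (iv4 D196424) (iv2 F228334)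
theorem F464258 : act 5 n212080 = n206954 := d16_1 D212080 F442730 F211440 F211329 F164378 F104283 D145305 F228336 (iv2 F228334)
def n212081 : Q := act 4 n145305
theorem D212081 : act 4 n145305 = n212081 := rfl
theorem F464259 : act 5 n212081 = n206500 := d9_2 D145305 D212081 (iv4 D206500) (iv5 D128700) (iv4 F95913) F95914 (iv4 F104279) D145303 D212080 F464258 F442730 F211440 F211329 F164378 F104283
theorem F464260 : act 7 n212081 = n196424 := d11_2 (iv7 F228336) D212081 (iv4 D196424)
def n212082 : Q := act 3 n145307
theorem D212082 : act 3 n145307 = n212082 := rfl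
theorem F464261 : act 2 n212082 = n211407 := d0_1 D212082 F461436 (iv2 F460052) F460053 (iv2 F402257)
theorem F464262 : act 7 n212082 = n203700 := d8_2 F402126 D212082 F429452
theorem F464263 : act 4 n212082 = n211403 := d20_6 (iv4 D190088) D190086 F400067 F228329 D145307 D212082 F461420 F461429 F461430 F394358
theorem F464264 : act 1 n204771 = n212082 := d17_8 F461420 (iv5 D193289) D193286 (iv5 F389402) D211417 F461474 F415041 (iv5 F436690) F464263
theorem F464265 : act 0 n196573 = n212082 := d18_2 D124311 (iv4 F436682) F464263 (iv5 D211403) (iv4 F423408) F423406 (iv4 F425299) F457849 F198710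
theorem F464266 : act 6 n211403 = n212082 := d14_5 F464262 (iv6 D203700) F191553 D203681 (iv7 F461419)
def n212083 : Q := act 4 n145307
theorem D212083 : act 4 n145307 = n212083 := rfl
theorem F464267 : act 5 n212083 = n207556 := d16_1 D212083 (iv4 D207556) (iv5 D131963) F104284 (iv5 F163703) (iv4 F172322) F228342 (iv7 F402258) (iv2 F402257)
theorem F464268 : act 1 n212083 = n196560 := d18_6 (iv1 F211349) F165239 F164880 D196252 F400065 D212083 (iv4 D196560) D196559 F401082
def n212084 : Q := act 6 n145307
theorem D212084 : act 6 n145307 = n212084 := rfl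
theorem F464269 : act 2 n212084 = n211327 := d3_1 D212084 F461135 (iv2 F402257)
theorem F464270 : act 3 n212084 = n211403 := d7_1 D212084 F464266 (iv3 D212082)
theorem F464271 : act 5 n212084 = n211326 := d12_1 D212084 F461130 (iv5 F406737) F406735 F400065
theorem F464272 : act 7 n212084 = n211411 := d14_2 F402126 D212084 F461456 (iv7 F429449) (iv6 F429450)
theorem F464273 : act 1 n211413 = n212084 := d15_1 D211413 F464272 F461454
theorem F464274 : act 1 n212084 = n211412 := d15_1 F464273 (iv7 F461461) F461463
def n212085 : Q := act 4 n145308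
theorem D212085 : act 4 n145308 = n212085 := rfl
theorem F464275 : act 5 n212085 = n207554 := d9_2 F228342 D212085 (iv4 D207554) (iv5 D131961) F165525 D106822 D196252 F400065 D212083 F464267 (iv4 D207556) (iv5 D131963) F104284 (iv5 F163703) (iv4 F172322)
theorem F464276 : act 0 n212085 = n196560 := d17_0 F401086 D206954 (iv5 F464258) (iv4 D212080) (iv5 D145303) (iv0 D68122) D68124 D145308 D212085
def n212086 : Q := act 0 n145309
theorem D212086 : act 0 n145309 = n212086 := rfl
theorem F464277 : act 4 n212086 = n145340 := d18_3 (iv1 D145308) D145309 D212086 F228384 (iv4 D131970) (iv0 F96703) (iv4 F165220) (iv0 F245361) F228342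
theorem F464278 : act 5 n207566 = n212086 := d16_1 D207566 F464277 F228384 (iv4 D131970) (iv5 D61922) D61921 D131969 (iv7 F399255) F399254
theorem F464279 : act 1 n207559 = n212086 := d17_8 (iv1 F400653) (iv5 D196426) F164877 D144490 D211958 F463746 F441041 D207559 F464277
def n212087 : Q := act 1 n145309
theorem D212087 : act 1 n145309 = n212087 := rfl
theorem F464280 : act 1 n212087 = n207559 := d15_1 D212087 F445445 F402260
theorem F464281 : act 4 n212087 = n145341 := d18_7 F164877 (iv4 D67709) (iv1 F49765) (iv4 F50024) D68124 D145309 D212087 (iv0 F400652) (iv5 D196426)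
theorem F464282 : act 5 n207563 = n212087 := d9_0 F464281 (iv5 F228385) F165446 F100216 D61925 D131972 D207566 F464278 F464277 F228384 (iv4 D131970) (iv5 D61922) D61921 D131969 D207563
def n212088 : Q := act 3 n145309
theorem D212088 : act 3 n145309 = n212088 := rfl
def n212089 : Q := act 5 n145309
theorem D212089 : act 5 n145309 = n212089 := rfl
theorem F464283 : act 2 n212089 = n207560 := d2_1 D212089 F445448 F402260
theorem F464284 : act 4 n212089 = n196060 := d9_1 D212089 F399251 F164157 (iv5 F78392) (iv4 F165761) (iv5 F402263) (iv4 F445444) (iv5 D207559) (iv4 D131966) (iv5 D61917) F46996 (iv5 F24580) (iv4 F50024) D68124 D145309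
theorem F464285 : act 7 n212089 = n196059 := d16_8 (iv4 D131966) (iv5 D61917) F46996 (iv5 F24580) (iv4 F50024) D68124 D145309 D212089 F399249
theorem F464286 : act 0 n212089 = n207557 := d17_2 (iv1 D212087) D212089 (iv5 F445438) (iv4 D205104) (iv5 D125479) (iv0 F92822) D68143 D145341 (iv4 F464281)
theorem F464287 : act 1 n212089 = n206485 := d17_8 (iv1 F399296) F399293 (iv1 F164227) D131972 D207566 F464278 (iv0 D212086) D212089 (iv4 D206485)
def n212090 : Q := act 7 n145309
theorem D212090 : act 7 n145309 = n212090 := rfl
theorem F464288 : act 2 n212090 = n207559 := d4_1 D212090 F445445 F402260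
theorem F464289 : act 4 n212090 = n145310 := d11_1 D212090 (iv7 D145310) D145309
theorem F464290 : act 5 n212090 = n196059 := d13_1 D212090 (iv7 F464285) (iv5 D212089)
def n212091 : Q := act 6 n145310
theorem D212091 : act 6 n145310 = n212091 := rfl
def n212092 : Q := act 1 n145313
theorem D212092 : act 1 n145313 = n212092 := rfl
theorem F464291 : act 1 n212092 = n145317 := d15_1 D212092 (iv7 D145317) (iv2 F228353)
theorem F464292 : act 7 n212092 = n145314 := d15_2 (iv0 F393588) D212092 (iv2 F393598)
theorem F464293 : act 2 n145315 = n212092 := d4_3 F464292 (iv2 F393598) (iv7 F393597)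
def n212093 : Q := act 5 n145313
theorem D212093 : act 5 n145313 = n212093 := rfl
theorem F464294 : act 2 n212093 = n145316 := d2_1 D212093 (iv5 D145316) (iv2 F228353)
theorem F464295 : act 0 n205123 = n212093 := d21_7 F180606 (iv1 F181241) F39067 (iv6 F45130) D58754 D125503 D205123 (iv5 D212093) (iv6 D145313) (iv1 F165750)
def n212094 : Q := act 7 n145313
theorem D212094 : act 7 n145313 = n212094 := rfl
theorem F464296 : act 2 n212094 = n145317 := d4_1 D212094 (iv7 D145317) (iv2 F228353)
theorem F464297 : act 4 n212094 = n209722 := d11_1 D212094 (iv7 D209722) (iv4 F228354)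
theorem F464298 : act 1 n145315 = n212094 := d15_1 D145315 (iv7 D212094) F228353
theorem F464299 : act 1 n212094 = n145314 := d15_1 F464298 (iv7 F464292) (iv2 F464293)
def n212095 : Q := act 3 n145314
theorem D212095 : act 3 n145314 = n212095 := rfl
theorem F464300 : act 2 n212095 = n177183 := d0_1 D212095 (iv3 D177183) (iv2 F159156) D194526 F393598
theorem F464301 : act 6 n177285 = n212095 := d3_0 F464300 F276578 D177285
def n212096 : Q := act 4 n145314
theorem D212096 : act 4 n145314 = n212096 := rfl
theorem F464302 : act 2 n212096 = n208938 := d1_1 D212096 (iv4 F451480) F393598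
theorem F464303 : act 5 n191860 = n212096 := d2_0 F464302 (iv5 D208938) (iv2 F384601)
theorem F464304 : act 6 n208919 = n212096 := d3_0 F464302 F451479 (iv2 F451409)
def n212097 : Q := act 5 n145314
theorem D212097 : act 5 n145314 = n212097 := rfl
def n212098 : Q := act 6 n145314
theorem D212098 : act 6 n145314 = n212098 := rfl
theorem F464305 : act 2 n212098 = n176987 := d3_1 D212098 (iv6 F393587) F393598
theorem F464306 : act 3 n212098 = n177285 := d7_1 D212098 F464301 (iv3 D212095)
theorem F464307 : act 4 n212098 = n208919 := d10_1 D212098 F464304 (iv4 D212096)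
def n212099 : Q := act 4 n145315
theorem D212099 : act 4 n145315 = n212099 := rfl
theorem F464308 : act 7 n212099 = n208938 := d11_2 (iv7 F393597) D212099 (iv4 F451480)
theorem F464309 : act 5 n208939 = n212099 := d13_3 F464308 (iv5 D208938) D208939
def n212100 : Q := act 5 n145315
theorem D212100 : act 5 n145315 = n212100 := rfl
def n212101 : Q := act 0 n145316
theorem D212101 : act 0 n145316 = n212101 := rfl
def n212102 : Q := act 1 n145316
theorem D212102 : act 1 n145316 = n212102 := rfl
theorem F464310 : act 5 n205111 = n212102 := d21_6 (iv5 D51229) D51225 F80817 (iv6 F92850) (iv1 F219721) D205111 (iv1 D212102) (iv5 D145316) (iv6 D68132) (iv1 F172280)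
theorem F464311 : act 2 n212102 = n205123 := d2_1 F464310 (iv5 D205123) (iv2 F435018)
def n212103 : Q := act 4 n145316
theorem D212103 : act 4 n145316 = n212103 := rfl
def n212104 : Q := act 7 n145316
theorem D212104 : act 7 n145316 = n212104 := rfl
theorem F464312 : act 3 n212104 = n145324 := d8_1 D212104 (iv7 D145324) (iv3 F228355)
theorem F464313 : act 5 n212104 = n145317 := d13_1 D212104 (iv7 D145317) D145316
theorem F464314 : act 1 n205123 = n212104 := d15_1 (iv0 F464295) (iv7 D212104) (iv2 F464294)
theorem F464315 : act 4 n191851 = n212104 := d19_2 (iv1 F391386) F391355 F464312 (iv1 F228362) (iv5 D125489) F92841 (iv3 F80904) D111201 D199331 F411740 (iv3 D166171) (iv1 D79787) D79789 (iv4 F338183) (iv3 F364014) (iv1 F397393) F397390 F219739 (iv3 F219695)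
theorem F464316 : act 2 n212104 = n191858 := d1_1 F464315 F384599 (iv2 F384589)
theorem F464317 : act 6 n212104 = n191850 := d10_2 D191851 F464315 (iv4 D191850)
theorem F464318 : act 7 n212103 = n191851 := d11_0 F464315 (iv7 D212104) D212103
theorem F464319 : act 2 n191861 = n212103 := d4_3 F464318 F384589 D191861
theorem F464320 : act 1 n191860 = n212103 := d15_1 D191860 F464318 F384589
theorem F464321 : act 1 n212103 = n208939 := d15_1 F464320 (iv7 D208939) (iv2 F384601)
theorem E103982 : n208939 = n191859 := (c15_1 F464321 (iv0 D191859) D191861 F464319)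
theorem F464322 : act 0 n191859 = n212103 := (sb E103982 (iv1 F464321))
theorem F464323 : act 5 n191859 = n212099 := (sb E103982 F464309)
theorem F464324 : act 7 n191859 = n135421 := (sb E103982 (iv7 D208939))
theorem F464325 : act 4 n212093 = n191861 := d1_0 F464319 (iv4 D212103) (iv2 F464294)
theorem F464326 : act 5 n209731 = n193907 := d16_5 (iv4 D212103) (iv5 D145316) F104291 D136861 D209731 F391361 F157420 D191861 F464319
theorem F464327 : act 5 n191858 = n212094 := d16_7 F104291 D136861 D209731 F464326 F391361 F157420 (iv4 F384599) (iv7 D212094) F228353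
theorem F464328 : act 7 n212093 = n191858 := d13_0 F464327 (iv7 D212094) D212093
theorem F464329 : act 1 n212102 = n191858 := d15_1 D212102 (iv7 F464328) F464294
theorem F464330 : act 4 n189588 = n205123 := d20_6 F380069 (iv1 D92673) (iv4 F68574) (iv3 F295173) D94115 D189588 F464295 F464325 F384602 (iv1 F367531)
theorem F464331 : act 1 n191858 = n212101 := d15_0 (iv0 D212101) D212104 F464316
theorem F464332 : act 7 n212101 = n205123 := d15_2 F464329 F464331 (iv2 F464311)
theorem F464333 : act 5 n205124 = n212101 := d13_3 F464332 (iv5 D205123) D205124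
def n212105 : Q := act 4 n145319
theorem D212105 : act 4 n145319 = n212105 := rfl
theorem F464334 : act 3 n212105 = n207651 := d5_1 D212105 F446144 F364001 (iv4 F172819) (iv3 F360130)
theorem F464335 : act 6 n212105 = n199492 := d10_2 F351069 D212105 (iv4 D199492)
theorem F464336 : act 7 n212105 = n207719 := d11_2 F402205 D212105 F446137
theorem F464337 : act 5 n212105 = n200666 := d16_1 D212105 F417400 (iv5 F395625) F395624 F161157 (iv4 F104292) D145321 (iv7 F402196) F402194
theorem F464338 : act 0 n212105 = n201726 := d18_2 F403299 D212105 F421576 (iv5 D199107) F171976 (iv0 F163597) (iv4 F92841) (iv0 F166509) D197154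
theorem F464339 : act 1 n212105 = n201785 := d18_6 (iv1 D107061) F78209 D49458 (iv4 F165715) D145319 D212105 F421799 F410713 (iv5 D196544)
def n212106 : Q := act 4 n145321
theorem D212106 : act 4 n145321 = n212106 := rfl
theorem F464340 : act 2 n212106 = n207719 := d1_1 D212106 F446137 F402204
theorem F464341 : act 5 n212106 = n200665 := d9_2 D145321 D212106 F417399 F202234 F202232 (iv5 D107067) (iv4 F165715) D145319 D212105 F464337 F417400 (iv5 F395625) F395624 F161157 (iv4 F104292)
theorem F464342 : act 6 n212106 = n201783 := d10_2 (iv6 F424146) D212106 F424145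
theorem F464343 : act 0 n212106 = n201785 := d18_2 F403283 D212106 F421799 (iv5 D199109) F171983 F163601 (iv4 F164893) (iv0 F166496) D197151
theorem F464344 : act 1 n212106 = n201726 := d18_6 (iv1 F165032) F104301 (iv1 F82130) (iv4 F104292) D145321 D212106 F421576 F410703 (iv5 D196542)
def n212107 : Q := act 4 n145322
theorem D212107 : act 4 n145322 = n212107 := rfl
theorem F464345 : act 2 n212107 = n206884 := d1_1 D212107 F442510 F400670
theorem F464346 : act 3 n212107 = n204635 := d5_1 D212107 F433091 F198610 (iv4 F198614) F371923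
theorem F464347 : act 5 n212107 = n200676 := d9_2 (iv5 F228359) D212107 (iv4 D200676) (iv5 D113331) (iv4 D52311) (iv5 F40187) (iv4 F78158) D106980 D196436 (iv5 F417424) (iv4 D200672) (iv5 D113327) (iv4 D52308) D52309 D113329
theorem F464348 : act 6 n212107 = n204634 := d10_2 (iv6 F371922) D212107 F433085
theorem F464349 : act 7 n212107 = n205108 := d11_2 F228360 D212107 (iv4 D205108)
theorem F464350 : act 0 n212107 = n200668 := d17_0 (iv5 D200668) D200665 (iv5 F464341) (iv4 D212106) (iv5 D145321) F165726 (iv5 F400668) F400666 D212107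
theorem F464351 : act 1 n212107 = n196546 := d18_6 (iv1 F171954) (iv4 D106983) (iv1 F82691) D113329 (iv5 F228359) D212107 (iv4 D196546) F165035 (iv5 D107004)
def n212108 : Q := act 0 n145323
theorem D212108 : act 0 n145323 = n212108 := rfl
theorem F464352 : act 5 n212108 = n200965 := d17_1 D212108 F418534 D206594 F441484 (iv5 D196434) (iv0 F176533) (iv5 F228359) (iv0 D145322) D145323
theorem F464353 : act 4 n212108 = n145355 := d18_3 F164892 D145323 D212108 F228399 F164946 F80704 (iv4 F166502) (iv0 D106978) D106980
theorem F464354 : act 1 n200961 = n212108 := d15_0 (iv0 D212108) (iv7 F439217) F439215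
theorem F464355 : act 7 n212108 = n196458 := d15_2 (iv0 F418514) F464354 (iv2 F410714)
def n212109 : Q := act 3 n145323
theorem D212109 : act 3 n145323 = n212109 := rfl
theorem F464356 : act 6 n212109 = n206684 := d7_2 F402209 D212109 F441865
theorem F464357 : act 0 n212109 = n207788 := d20_4 (iv4 D196436) F164892 D145323 D212109 F446445 (iv4 D201713) (iv1 F179100) D115025 (iv3 F417407) (iv1 F417410)
theorem F464358 : act 1 n212109 = n203122 := d15_1 (iv0 F464357) (iv7 F442657) (iv2 F446444)
def n212110 : Q := act 6 n145324
theorem D212110 : act 6 n145324 = n212110 := rfl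
theorem F464359 : act 3 n212110 = n191850 := d7_1 D212110 (iv6 F464317) F464312
def n212111 : Q := act 5 n145325
theorem D212111 : act 5 n145325 = n212111 := rfl
theorem F464360 : act 2 n212111 = n154757 := d2_1 D212111 (iv5 F402455) (iv2 F402456)
theorem F464361 : act 3 n212111 = n145326 := d6_1 D212111 (iv5 D145326) D145325
theorem F464362 : act 6 n212111 = n147923 := d12_2 F424872 D212111 (iv5 D147923) (iv6 F319286) D202636
theorem F464363 : act 7 n212111 = n199624 := d13_2 F401017 D212111 F412898
def n212112 : Q := act 4 n145326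
theorem D212112 : act 4 n145326 = n212112 := rfl
theorem F464364 : act 5 n212112 = n200959 := d9_2 D145326 D212112 F418503 F395583 F202242 F100156 D67664 D144406 D211911 F463542 F418508 (iv5 F395594) F176595 (iv5 D68138) D68137
def n212113 : Q := act 5 n145330
theorem D212113 : act 5 n145330 = n212113 := rfl
theorem F464365 : act 2 n212113 = n196818 := d2_1 D212113 (iv5 D196818) F364304
theorem F464366 : act 4 n212113 = n192775 := d9_1 D212113 F388660 (iv4 F388661) F220118 (iv4 F323248) (iv5 F365294) (iv4 F401895) (iv5 F457218) F457217 F388590 F354886 (iv5 D136923) (iv4 F331264) (iv5 F375903) F375902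
theorem F464367 : act 6 n212113 = n192774 := d12_2 D145330 D212113 F388931 (iv6 D107345) F336126
theorem F464368 : act 0 n212113 = n201272 := d17_2 F375900 D212113 (iv5 F419788) (iv4 D128502) D128503 F339208 (iv5 F107533) (iv0 F346524) F203975
theorem F464369 : act 1 n212113 = n199146 := d17_6 (iv1 F376059) (iv5 F388845) F388847 (iv5 F375903) F375902 D212113 F410877 F440470 F440469
def n212114 : Q := act 3 n145336
theorem D212114 : act 3 n145336 = n212114 := rfl
theorem F464370 : act 6 n212114 = n210333 := d7_2 (iv6 F359164) D212114 (iv3 F457071)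
theorem F464371 : act 7 n212114 = n210653 := d8_2 (iv7 F365174) D212114 (iv3 F458342)
theorem F464372 : act 4 n212114 = n210334 := d20_6 F165755 (iv1 D51995) (iv4 F50032) (iv3 F104298) D145336 D212114 F457423 (iv4 F228331) F228330 (iv1 F165753)
theorem F464373 : act 2 n210651 = n212114 := d1_3 F464372 F457072 D210651
theorem F464374 : act 5 n190103 = n212114 := d16_1 D190103 F464372 (iv5 F457074) (iv4 D191436) (iv5 F151779) (iv4 F287732) (iv5 F381675) F381676 (iv2 D190102)
def n212115 : Q := act 5 n145336
theorem D212115 : act 5 n145336 = n212115 := rfl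
theorem F464375 : act 3 n212115 = n190103 := d6_1 D212115 F464374 (iv3 D212114)
theorem F464376 : act 4 n212115 = n174606 := d16_2 (iv4 F330944) D212115 (iv5 D174606) (iv4 D83438) (iv5 F117778) (iv4 F151524) F151526 (iv7 F300609) F300608
theorem F464377 : act 1 n212115 = n204897 := d17_6 D82938 (iv5 F127810) F299365 F298802 (iv4 F330944) D212115 F434064 (iv0 D173306) (iv4 D82940)
def n212116 : Q := act 3 n145337
theorem D212116 : act 3 n145337 = n212116 := rfl
def n212117 : Q := act 5 n145337
theorem D212117 : act 5 n145337 = n212117 := rfl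
theorem F464378 : act 4 n212117 = n174608 := d9_1 D212117 (iv5 D174608) (iv4 D83440) (iv5 F117783) (iv4 F298801) F298802 (iv4 F330944) D212115 F464376 (iv5 D174606) (iv4 D83438) (iv5 F117778) (iv4 F151524) F151526 (iv4 F330946)
theorem F464379 : act 0 n212117 = n204897 := d17_2 (iv1 F330945) D212117 F434064 F271715 F127876 (iv0 F301151) F301154 (iv0 D83432) D83434
theorem F464380 : act 3 n211397 = n212117 := d19_19 F464379 F434064 F271715 D173376 F332378 F332377 F268253 (iv3 F233022) (iv1 F233024) (iv5 F337827) (iv4 F442301) (iv3 F447002) F447003 D207929 (iv4 F447037) F405480 (iv1 F360126) (iv5 F360121) (iv4 F461405)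
theorem F464381 : act 5 n212116 = n211397 := d6_0 F464380 (iv5 D212117) D212116
def n212118 : Q := act 6 n145337
theorem D212118 : act 6 n145337 = n212118 := rfl
theorem F464382 : act 4 n212118 = n174516 := d10_1 D212118 (iv6 D174516) (iv4 F330946)
theorem F464383 : act 0 n212118 = n199097 := d20_1 (iv4 F464382) F410646 (iv3 F345591) (iv1 D107647) (iv3 F345598) D119519 (iv1 F428855) F428856 (iv3 F392787) F392789
def n212119 : Q := act 6 n145341
theorem D212119 : act 6 n145341 = n212119 := rfl
theorem F464384 : act 5 n212119 = n196865 := d12_1 D212119 (iv6 D196865) (iv5 D107397) D107398 F228385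
def n212120 : Q := act 0 n145342
theorem D212120 : act 0 n145342 = n212120 := rfl
theorem F464385 : act 4 n212120 = n196911 := d18_1 D212120 (iv1 F402259) (iv4 F464289) F464290 (iv4 D196059) D196058 (iv4 F445527) F445525 F364319
theorem F464386 : act 2 n212083 = n212120 := d1_3 F464385 (iv2 F402257) D212083
theorem F464387 : act 7 n212085 = n212120 := d11_0 F464385 F402258 D212085
theorem F464388 : act 1 n207578 = n212120 := d18_6 F78386 F78151 D49418 D106967 D196426 (iv4 F445531) F464385 (iv0 D196911) (iv5 D107443)
def n212121 : Q := act 1 n145342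
theorem D212121 : act 1 n145342 = n212121 := rfl
theorem F464389 : act 1 n212121 = n207578 := d15_1 D212121 F445532 F401084
theorem F464390 : act 7 n212121 = n212083 := d15_2 (iv0 D212120) D212121 F464386
theorem F464391 : act 4 n212121 = n196878 := d17_9 F402127 (iv5 D107443) F78386 D106966 D196424 F445529 F445525 F364319 D212121
theorem F464392 : act 2 n212085 = n212121 := d1_3 F464391 F402125 D212085
def n212122 : Q := act 7 n145342
theorem D212122 : act 7 n145342 = n212122 := rfl
theorem F464393 : act 2 n212122 = n207578 := d4_1 D212122 F445532 F401084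
theorem F464394 : act 3 n212122 = n209142 := d8_1 D212122 (iv7 D209142) (iv3 F335983)
theorem F464395 : act 4 n212122 = n145343 := d11_1 D212122 (iv7 D145343) D145342
theorem F464396 : act 5 n212122 = n196068 := d13_1 D212122 (iv7 F399289) F364319
theorem F464397 : act 1 n212085 = n212122 := d15_1 (iv0 F464276) (iv7 D212122) (iv2 F401084)
theorem F464398 : act 1 n212122 = n212083 := d15_1 F464397 (iv7 F464390) (iv2 F464392)
def n212123 : Q := act 6 n145343
theorem D212123 : act 6 n145343 = n212123 := rfl
def n212124 : Q := act 6 n145345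
theorem D212124 : act 6 n145345 = n212124 := rfl
theorem F464399 : act 2 n212124 = n209713 := d3_1 D212124 (iv6 D209713) F359142
theorem F464400 : act 3 n212124 = n145346 := d7_1 D212124 (iv6 D145346) D145345
theorem F464401 : act 4 n212124 = n209207 := d10_1 D212124 (iv6 D209207) (iv4 F228392)
theorem F464402 : act 7 n209976 = n212124 := d11_0 F464401 (iv7 F453663) D209976
theorem F464403 : act 5 n212124 = n192379 := d13_1 F464402 (iv7 F388176) F455596
theorem F464404 : act 1 n196972 = n209976 := d15_1 (iv0 F454717) F464402 F464399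
theorem F464405 : act 5 n211092 = n209713 := d2_2 F464403 F460068 (iv2 F464399)
def n212125 : Q := act 0 n145350
theorem D212125 : act 0 n145350 = n212125 := rfl
theorem F464406 : act 6 n212125 = n204826 := d21_5 F336126 (iv1 F165021) F165019 D145350 D212125 (iv5 D204826) F402112 (iv5 D107390) (iv6 D49603) (iv1 F336125)
theorem F464407 : act 5 n212125 = n189019 := d21_0 F375425 F410694 F410692 F388933 (iv6 D107345) F336126 (iv1 F165021) F165019 D145350 D212125
theorem F464408 : act 2 n145351 = n212125 := d2_3 F464407 F375424 (iv5 F428096)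
theorem F464409 : act 3 n204827 = n212125 := d6_3 F464407 (iv3 F431471) (iv5 F433735)
theorem F464410 : act 7 n145352 = n212125 := d13_0 F464407 (iv7 F375426) F424808
theorem F464411 : act 4 n204678 = n212125 := d16_2 F304735 D204678 F464407 (iv4 D189019) D189020 (iv4 F375433) F336004 (iv7 F277732) (iv2 D178178)
theorem F464412 : act 1 n145354 = n212125 := d17_6 D188642 F374288 F206230 D115023 D201723 (iv5 F421567) F464407 F375436 F374287
def n212126 : Q := act 1 n145350
theorem D212126 : act 1 n145350 = n212126 := rfl
theorem F464413 : act 1 n212126 = n145354 := d15_1 D212126 (iv7 D145354) (iv2 F228396)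
theorem F464414 : act 7 n212126 = n145351 := d15_2 (iv0 D212125) D212126 F464408
theorem F464415 : act 2 n145352 = n212126 := d4_3 F464414 F464408 (iv7 F464410)
theorem F464416 : act 5 n189023 = n212126 := d13_3 F464414 F428096 (iv7 F375449)
theorem F464417 : act 3 n212126 = n209728 := d20_5 F165715 F82131 (iv4 F104301) (iv3 F228398) (iv1 F464413) (iv4 D209728) (iv1 D136860) (iv4 F104291) F104290 D68133
def n212127 : Q := act 5 n145350
theorem D212127 : act 5 n145350 = n212127 := rfl
theorem F464418 : act 2 n212127 = n145353 := d2_1 D212127 (iv5 D145353) (iv2 F228396)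
theorem F464419 : act 4 n212127 = n201615 := d9_1 D212127 (iv5 D201615) F335494 (iv5 F334698) (iv4 F277904) (iv5 F423981) F423980 F421567 (iv4 D201723) (iv5 D115023) D115022 F334719 D178307 (iv5 F423975) F423974
theorem F464420 : act 1 n212127 = n196477 := d17_6 F404884 D197577 F404883 (iv5 F423975) F423974 D212127 (iv5 D196477) (iv0 F400785) (iv4 F404807)
def n212128 : Q := act 7 n145350
theorem D212128 : act 7 n145350 = n212128 := rfl
theorem F464421 : act 2 n212128 = n145354 := d4_1 D212128 (iv7 D145354) (iv2 F228396)
theorem F464422 : act 3 n212128 = n174600 := d8_1 D212128 (iv7 F401003) F401001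
theorem F464423 : act 4 n212128 = n178340 := d11_1 D212128 F423976 F423974
theorem F464424 : act 6 n212128 = n174599 := d14_1 D212128 F401064 (iv6 D196552) F165049 D145350
theorem F464425 : act 1 n145352 = n212128 := d15_1 D145352 (iv7 D212128) F228396
theorem F464426 : act 1 n212128 = n145351 := d15_1 F464425 (iv7 F464414) (iv2 F464415)
def n212129 : Q := act 3 n145351
theorem D212129 : act 3 n145351 = n212129 := rfl
theorem F464427 : act 2 n212129 = n209726 := d0_1 D212129 (iv3 F454771) (iv2 F433734) F464409 (iv2 F464408)
theorem F464428 : act 4 n212129 = n193204 := d5_2 (iv4 F459813) D212129 F389171 (iv4 F389176) (iv3 F459810)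
theorem F464429 : act 5 n212129 = n199660 := d6_2 (iv5 F428096) D212129 F413040
theorem F464430 : act 7 n212129 = n209728 := d8_2 F464414 D212129 (iv3 F464417)
theorem F464431 : act 1 n196957 = n209728 := d15_1 (iv0 F456441) (iv7 F464430) F464427
theorem F464432 : act 6 n193203 = n212129 := d12_0 F464429 (iv6 D199660) F232076 (iv6 F336513) (iv5 F389169)
def n212130 : Q := act 6 n145351
theorem D212130 : act 6 n145351 = n212130 := rfl
theorem F464433 : act 2 n212130 = n204826 := d3_1 D212130 (iv6 F464406) (iv2 F464408)
theorem F464434 : act 3 n212130 = n193203 := d7_1 D212130 F464432 (iv3 D212129)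
theorem F464435 : act 4 n212130 = n193205 := d10_1 D212130 F459811 (iv4 F459813)
theorem F464436 : act 5 n212130 = n204825 := d12_1 D212130 F433728 (iv5 F413036) (iv6 F413038) (iv5 F428096)
def n212131 : Q := act 0 n145353
theorem D212131 : act 0 n145353 = n212131 := rfl
theorem F464437 : act 5 n212131 = n196478 := d17_3 (iv1 D145352) D145353 D212131 (iv4 F419960) F419961 (iv0 D178142) (iv5 F358911) D211033 F459819
theorem F464438 : act 4 n212131 = n178375 := d20_2 F353306 D212131 F366567 (iv1 D146576) (iv3 F356647) F143863 D93283 D189114 F421164 (iv1 D201616)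
theorem F464439 : act 3 n212131 = n208937 := d20_5 D205108 F435007 (iv4 D145356) (iv3 F228397) D212131 F451477 (iv1 F384604) F464315 F464312 (iv1 F228362)
theorem F464440 : act 2 n204476 = n212131 := d15_3 (iv0 D212131) (iv0 F412673) (iv7 F432652)
theorem F464441 : act 7 n212131 = n196477 := d4_2 (iv7 F432652) F464440 (iv2 F412670)
theorem F464442 : act 1 n204476 = n212127 := d15_0 F464420 (iv7 F464441) (iv2 F464440)
theorem F464443 : act 6 n188924 = n212131 := d7_0 F464439 (iv6 D208937) (iv3 F413489)
def n212132 : Q := act 6 n145355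
theorem D212132 : act 6 n145355 = n212132 := rfl
theorem F464444 : act 3 n212132 = n154780 := d7_1 D212132 (iv6 F427619) F427617
theorem F464445 : act 5 n212132 = n211885 := d12_1 D212132 (iv6 D211885) F227014 (iv6 F164947) (iv5 F228399)
theorem F464446 : act 0 n188922 = n212132 := d17_0 F464445 F463403 (iv5 F453367) (iv4 D209353) (iv5 F417741) (iv0 D129444) D129447 D206883 (iv4 F442502)
def n212133 : Q := act 6 n145357
theorem D212133 : act 6 n145357 = n212133 := rfl
theorem F464447 : act 3 n212133 = n188968 := d7_1 D212133 (iv6 F421565) F421564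
def n212134 : Q := act 6 n145359
theorem D212134 : act 6 n145359 = n212134 := rfl
theorem F464448 : act 3 n212134 = n209713 := d7_1 D212134 (iv6 D209713) F228403
theorem F464449 : act 0 n212134 = n145378 := d21_4 F401345 (iv1 F401968) F401966 D212134 (iv6 F424816) F424813 (iv1 F216248) D140673 (iv6 F386492) (iv1 F401346)
theorem F464450 : act 0 n198357 = n212134 := d21_4 (iv5 D111498) (iv1 F166160) D109241 D198357 (iv6 D212134) (iv5 F401966) (iv1 F401969) F172163 (iv6 F322896) F358696
def n212135 : Q := act 0 n145360
theorem D212135 : act 0 n145360 = n212135 := rfl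
theorem F464451 : act 6 n212135 = n198349 := d21_5 (iv5 F402418) (iv1 D196946) (iv5 F166891) D145360 D212135 F407707 F400802 (iv5 F332215) F351552 (iv1 F401703)
def n212136 : Q := act 1 n145360
theorem D212136 : act 1 n145360 = n212136 := rfl
theorem F464452 : act 5 n211424 = n212136 := d21_0 (iv1 D212136) (iv5 F401351) (iv6 F461539) (iv1 D211438) (iv6 D141989) (iv5 D66568) D66565 D141980 D211430 F461507
def n212137 : Q := act 7 n145360
theorem D212137 : act 7 n145360 = n212137 := rfl
theorem F464453 : act 3 n212137 = n145365 := d8_1 D212137 (iv7 D145365) (iv3 F228404)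
theorem F464454 : act 5 n212137 = n204765 := d13_1 D212137 F433507 F401351
def n212138 : Q := act 7 n145364
theorem D212138 : act 7 n145364 = n212138 := rfl
theorem F464455 : act 3 n212138 = n204765 := d8_1 D212138 F433507 (iv3 F401352)
theorem F464456 : act 4 n212138 = n190845 := d11_1 D212138 (iv7 F381306) (iv4 F378962)
theorem F464457 : act 5 n212138 = n145365 := d13_1 D212138 (iv7 D145365) D145364
theorem F464458 : act 1 n191009 = n212138 := d15_1 F402297 (iv7 D212138) (iv2 F402295)
theorem F464459 : act 1 n212138 = n191008 := d15_1 F464458 F381861 (iv2 F381862)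
def n212139 : Q := act 6 n145367
theorem D212139 : act 6 n145367 = n212139 := rfl
theorem F464460 : act 2 n212139 = n145368 := d3_1 D212139 (iv6 D145368) D145367
theorem F464461 : act 4 n212139 = n209999 := d10_1 D212139 (iv6 F455690) (iv4 F228409)
def n212140 : Q := act 0 n145368
theorem D212140 : act 0 n145368 = n212140 := rfl
theorem F464462 : act 6 n212140 = n209980 := d21_5 (iv5 F220040) F336151 F166901 D145368 D212140 F455608 F433694 F433692 (iv6 F361553) (iv1 F225706)
theorem F464463 : act 3 n199641 = n212140 := d7_3 F464462 (iv3 F455611) (iv6 F412950)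
theorem F464464 : act 4 n202538 = n212140 := d10_3 F464462 F455609 (iv6 F424413)
theorem F464465 : act 5 n199638 = n212140 := d12_5 F464462 F455608 F406454 (iv5 F173050) D199638
def n212141 : Q := act 1 n145368
theorem D212141 : act 1 n145368 = n212141 := rfl
theorem F464466 : act 4 n202539 = n212141 := d20_6 (iv4 F359173) F333245 (iv4 F341127) F341126 D184992 F424414 (iv1 D212141) F228413 F223167 D139942
def n212142 : Q := act 5 n145368
theorem D212142 : act 5 n145368 = n212142 := rfl
theorem F464467 : act 3 n212142 = n145371 := d6_1 D212142 (iv5 D145371) (iv3 F228412)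
def n212143 : Q := act 7 n145368
theorem D212143 : act 7 n145368 = n212143 := rfl
theorem F464468 : act 3 n212143 = n145372 := d8_1 D212143 (iv7 D145372) (iv3 F228412)
theorem F464469 : act 4 n212143 = n210827 := d11_1 D212143 (iv7 D210827) (iv4 F228413)
theorem E103983 : n210827 = n209998 := ((c20_2 (iv4 F411092) D209998 (iv4 F464469) F464468 F401023 (iv3 D196543) F165026 (iv1 D49623) (iv4 F78368) (iv3 F165709) D196890)).symm
theorem F464470 : act 3 n209998 = n139945 := (sb E103983 F458934)
theorem F464471 : act 4 n209998 = n212143 := (sb E103983 (iv4 F464469))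
theorem F464472 : act 7 n209998 = n139937 := (sb E103983 (iv7 D210827))
def n212144 : Q := act 5 n145370
theorem D212144 : act 5 n145370 = n212144 := rfl
theorem F464473 : act 3 n212144 = n154757 := d6_1 D212144 (iv5 F402455) F402454
theorem F464474 : act 4 n212144 = n198113 := d9_1 D212144 F406886 (iv4 D184218) (iv5 D87862) (iv4 F125484) F318384 D139716 D210784 F458780 (iv5 F406802) (iv4 D193655) (iv5 F353228) (iv4 F317105) F324915 (iv4 F357271)
theorem F464475 : act 6 n212144 = n154755 := d12_2 F357269 D212144 (iv5 D154755) (iv6 F335445) (iv5 F357258)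
theorem F464476 : act 7 n212144 = n198110 := d13_2 F402277 D212144 F406861
theorem F464477 : act 0 n212144 = n206268 := d17_2 (iv1 F357270) D212144 F439998 F353405 (iv5 D84421) F75496 (iv5 F159159) F159162 D177174
def n212145 : Q := act 4 n145371
theorem D212145 : act 4 n145371 = n212145 := rfl
theorem F464478 : act 2 n212145 = n194550 := d1_1 D212145 (iv4 F402280) F402279
theorem F464479 : act 5 n212145 = n194457 := d16_3 (iv4 F104313) D145371 D212145 F393291 (iv5 F361888) (iv4 D127680) (iv5 F341008) (iv7 F336844) F336841
theorem F464480 : act 7 n194553 = n212145 := d13_0 F464479 (iv7 F393293) D194553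
def n212146 : Q := act 7 n145371
theorem D212146 : act 7 n145371 = n212146 := rfl
theorem F464481 : act 4 n212146 = n194553 := d11_1 D212146 F464480 (iv4 D212145)
theorem F464482 : act 5 n212146 = n145372 := d13_1 D212146 (iv7 D145372) D145371
theorem F464483 : act 1 n156803 = n212146 := d15_1 F402282 (iv7 D212146) (iv2 F402279)
theorem F464484 : act 1 n212146 = n153716 := d15_1 F464483 F412626 F412622
def n212147 : Q := act 6 n145373
theorem D212147 : act 6 n145373 = n212147 := rfl
theorem F464485 : act 2 n212147 = n145381 := d3_1 D212147 (iv6 D145381) (iv2 F348821)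
theorem F464486 : act 3 n212147 = n209968 := d7_1 D212147 F460105 (iv3 F460103)
theorem F464487 : act 4 n212147 = n146645 := d10_1 D212147 (iv6 F348846) (iv4 F228415)
theorem F464488 : act 5 n212147 = n193214 := d12_1 D212147 (iv6 D193214) D193213 (iv6 F460385) F460387
theorem F464489 : act 7 n212147 = n197457 := d14_2 (iv7 F348822) D212147 (iv6 D197457) F212174 F324139
theorem F464490 : act 1 n203133 = n212147 := d15_1 F427097 F464489 F404419
def n212148 : Q := act 5 n145374
theorem D212148 : act 5 n145374 = n212148 := rfl
theorem F464491 : act 2 n212148 = n145385 := d2_1 D212148 (iv5 D145385) (iv2 F348818)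
theorem F464492 : act 6 n212148 = n177056 := d12_2 (iv6 F348817) D212148 (iv5 F413634) (iv6 D199818) F343587
theorem F464493 : act 7 n212148 = n145380 := d13_2 (iv7 F348819) D212148 (iv5 D145380)
theorem F464494 : act 4 n212148 = n145569 := d16_6 (iv4 F437067) F437068 F225166 F223892 F348839 D212148 F228616 (iv7 F434350) F434353
theorem F464495 : act 0 n212148 = n211153 := d17_2 (iv1 F228417) D212148 F460351 F460319 (iv5 F434351) F423132 F320592 F104397 (iv4 F104318)
theorem F464496 : act 1 n212148 = n211152 := d17_6 (iv1 F223946) F350113 F350118 F223892 F348839 D212148 F460348 (iv0 F363158) (iv4 D140907)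
def n212149 : Q := act 0 n145378
theorem D212149 : act 0 n145378 = n212149 := rfl
theorem F464497 : act 3 n212149 = n145401 := d20_5 (iv4 D66102) D66100 F348826 D145378 D212149 F459938 (iv1 D211057) D211059 F459934 (iv1 D140924)
theorem F464498 : act 1 n198357 = n212149 := d15_0 (iv0 D212149) F413644 F413641
theorem F464499 : act 5 n212149 = n192374 := d18_9 F459659 F459658 F423877 F179714 (iv5 F331810) (iv4 F179707) (iv0 F400954) (iv4 F407745) F464498
def n212150 : Q := act 0 n145380
theorem D212150 : act 0 n145380 = n212150 := rfl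
theorem F464500 : act 5 n212150 = n211529 := d17_1 D212150 F461991 (iv5 D206269) F318467 F104406 F104400 D145542 (iv0 F423131) F423129
theorem F464501 : act 4 n212150 = n156644 := d18_1 D212150 (iv1 F350109) F350123 (iv5 D145586) (iv4 D68253) F104401 (iv4 F331039) F331037 D145380
theorem F464502 : act 6 n212150 = n156642 := d21_5 F389220 (iv1 F388895) F388898 (iv6 F363145) D212150 (iv5 F433232) (iv1 F460268) (iv5 D211135) F360591 (iv1 F389223)
theorem F464503 : act 2 n211152 = n212150 := d15_3 (iv0 D212150) (iv0 F350122) (iv7 F460347)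
theorem F464504 : act 1 n145385 = n212150 := d15_0 (iv0 D212150) (iv7 F464493) F464491
theorem F464505 : act 7 n212150 = n211153 := d15_2 F351576 F464504 F460350
def n212151 : Q := act 6 n145393
theorem D212151 : act 6 n145393 = n212151 := rfl
theorem F464506 : act 2 n212151 = n145395 := d3_1 D212151 (iv6 D145395) D145393
theorem F464507 : act 3 n212151 = n196803 := d7_1 D212151 F401851 F390076
theorem F464508 : act 4 n212151 = n174982 := d10_1 D212151 (iv6 D174982) (iv4 F362960)
theorem F464509 : act 5 n212151 = n209957 := d12_1 D212151 F455524 F402517 (iv6 F402515) (iv5 F390073)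
theorem F464510 : act 0 n212151 = n192409 := d21_4 D174502 (iv1 F390074) (iv5 F390073) D212151 F401006 F401007 F387015 F410707 F410705 (iv1 D174500)
def n212152 : Q := act 0 n145394
theorem D212152 : act 0 n145394 = n212152 := rfl
theorem F464511 : act 5 n212152 = n174503 := d17_3 F386495 D145394 D212152 F273382 F128510 (iv0 F155450) D100097 D192336 (iv4 F386480)
theorem F464512 : act 4 n212152 = n191982 := d18_3 D210930 (iv4 F459341) D212152 (iv5 D191982) (iv4 D99449) D99448 (iv4 F343490) (iv0 D140370) D140372
theorem F464513 : act 2 n192917 = n212152 := d15_3 (iv0 D212152) (iv0 F364905) F388213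
theorem F464514 : act 1 n211435 = n212152 := d15_0 (iv0 D212152) (iv7 F401289) (iv2 F461523)
theorem F464515 : act 7 n212152 = n174502 := d15_2 D211435 F464514 (iv2 F348944)
def n212153 : Q := act 3 n145396
theorem D212153 : act 3 n145396 = n212153 := rfl
theorem F464516 : act 5 n212153 = n196867 := d6_2 (iv5 F228430) D212153 F402089
theorem F464517 : act 7 n212153 = n193235 := d8_2 F401252 D212153 F401254
theorem F464518 : act 4 n193198 = n212153 := d19_2 F388853 F389147 (iv3 D212153) (iv1 F228431) (iv5 D68170) (iv4 F50038) F39784 F38527 (iv5 F39184) (iv4 F81076) (iv3 F351066) (iv1 D111122) (iv5 D51248) F39070 (iv3 F39023) D51144 D110917 D199085 F410595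
theorem F464519 : act 6 n212153 = n197652 := d10_2 (iv6 F389145) F464518 (iv4 F405217)
theorem F464520 : act 5 n197652 = n198116 := d12_1 F464519 (iv6 D198116) (iv5 F402072) D196867 (iv5 F464516)
theorem F464521 : act 0 n212153 = n211439 := d21_7 (iv5 F206928) (iv1 F400754) (iv5 D196462) D196463 (iv1 F401544) D196867 (iv5 F464516) F461540 (iv6 F409335) (iv1 F201786)
def n212154 : Q := act 4 n145396
theorem D212154 : act 4 n145396 = n212154 := rfl
theorem F464522 : act 3 n212154 = n193492 := d5_1 D212154 (iv4 D193492) F389146 F464518 (iv3 D212153)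
theorem F464523 : act 7 n212154 = n193608 := d11_2 F401252 D212154 (iv4 F401255)
theorem F464524 : act 5 n212154 = n205576 := d16_1 D212154 (iv4 D205576) (iv5 D126344) (iv4 D59237) D59238 D126345 F228433 F401250 (iv2 F401249)
theorem F464525 : act 0 n212154 = n145434 := d17_0 (iv5 F435904) (iv1 F435906) (iv5 D145416) (iv4 D68173) (iv5 D31735) D31734 D68170 F228431 D212154
theorem F464526 : act 1 n212154 = n145428 := d18_6 F342473 F165305 F104275 (iv4 F165451) (iv5 F228430) D212154 (iv4 D145428) D145427 (iv5 F342472)
theorem F464527 : act 6 n194346 = n212154 := d21_5 (iv5 D103231) (iv1 D47839) D47841 D103238 D194346 F464524 F437065 F402531 F402530 (iv1 F390821)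
def n212155 : Q := act 6 n145396
theorem D212155 : act 6 n145396 = n212155 := rfl
theorem F464528 : act 3 n212155 = n197652 := d7_1 D212155 (iv6 F464519) (iv3 D212153)
theorem F464529 : act 4 n212155 = n194346 := d10_1 D212155 F464527 (iv4 D212154)
theorem F464530 : act 5 n212155 = n196869 := d12_1 D212155 (iv6 D196869) (iv5 D107400) D107401 (iv5 F228430)
theorem F464531 : act 0 n212155 = n200239 := d21_4 (iv5 F172224) (iv1 F172229) (iv5 F228430) D212155 (iv6 D200239) D200238 F415665 F375324 F363392 (iv1 F165851)
theorem F464532 : act 0 n196869 = n211899 := d21_7 F389209 F411019 F411018 (iv6 D145399) D145396 D212155 F464530 F463485 F462874 (iv1 F389208)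
def n212156 : Q := act 4 n145397
theorem D212156 : act 4 n145397 = n212156 := rfl
theorem F464533 : act 2 n212156 = n193608 := d1_1 D212156 (iv4 F401255) (iv2 F401257)
theorem F464534 : act 3 n212156 = n155954 := d5_1 D212156 F346906 F225163 (iv4 F225166) (iv3 F388151)
theorem F464535 : act 5 n212156 = n155952 := d9_2 F228433 D212156 F244973 F332903 F168924 (iv5 F104274) (iv4 F165451) (iv5 F228430) D212154 F464524 (iv4 D205576) (iv5 D126344) (iv4 D59237) D59238 D126345
theorem F464536 : act 6 n212156 = n193606 := d10_2 F388152 D212156 F390440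
theorem F464537 : act 0 n212156 = n145428 := d17_0 (iv5 F435256) F435257 (iv5 F402548) F402547 F165855 F78445 D68167 D145397 D212156
theorem F464538 : act 1 n212156 = n145434 := d18_6 (iv1 F402631) (iv4 D197000) F165889 D126345 F228433 D212156 (iv4 D145434) F228453 F228452
def n212157 : Q := act 0 n145398
theorem D212157 : act 0 n145398 = n212157 := rfl
theorem F464539 : act 5 n212157 = n205308 := d17_1 D212157 F435883 (iv5 F388044) F388043 D192914 F388204 (iv5 F228430) (iv0 D145396) D145398
theorem F464540 : act 4 n212157 = n196885 := d18_1 D212157 F402158 D196995 F402608 (iv4 F402593) F402592 D200136 F415195 F406733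
theorem F464541 : act 1 n145404 = n212157 := d15_0 (iv0 D212157) (iv7 F401293) F401292
theorem F464542 : act 3 n198897 = n212157 := d19_19 (iv1 F464541) (iv5 F365218) (iv4 F330151) F330150 (iv1 F132683) D162905 F341676 (iv3 D83240) (iv1 F127715) F127707 F58977 F325600 D50644 F80006 F38777 (iv3 F38772) D50940 D110473 D198897
theorem F464543 : act 6 n212157 = n200228 := d7_2 (iv6 F409784) F464542 (iv3 D200228)
theorem F464544 : act 7 n212157 = n206057 := d8_2 (iv7 F409785) F464542 F439036
def n212158 : Q := act 1 n145398
theorem D212158 : act 1 n145398 = n212158 := rfl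
theorem F464545 : act 1 n212158 = n145404 := d15_1 D212158 (iv7 F401264) F401262
theorem F464546 : act 5 n212158 = n205310 := d17_7 F332905 F332903 (iv1 D108910) D108911 D198086 F406733 D212158 F435891 (iv4 F282126)
theorem F464547 : act 4 n212158 = n196990 := d17_9 (iv1 D196990) (iv5 D107513) F83906 F331800 (iv4 F202910) (iv5 F415192) F415195 F406733 D212158
theorem F464548 : act 2 n206057 = n212158 := d1_3 F464547 (iv2 F402582) (iv4 F439037)
theorem F464549 : act 6 n206055 = n212158 := d10_0 F464547 (iv6 F461130) F461129
def n212159 : Q := act 3 n145398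
theorem D212159 : act 3 n145398 = n212159 := rfl
theorem F464550 : act 2 n212159 = n203841 := d0_1 D212159 F430064 F272497 (iv3 F401263) F401262
theorem F464551 : act 5 n212159 = n203840 := d6_2 F406733 D212159 F430058
theorem F464552 : act 6 n212159 = n211701 := d7_2 F401268 D212159 (iv3 D211701)
theorem F464553 : act 0 n193620 = n212159 := d21_4 F378733 F346814 (iv5 F348024) D193620 F464552 (iv5 F463373) F463376 (iv5 F393828) F393829 (iv1 F378731)
def n212160 : Q := act 6 n145404
theorem D212160 : act 6 n145404 = n212160 := rfl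
theorem F464554 : act 4 n212160 = n145405 := d10_1 D212160 (iv6 D145405) D145404
theorem F464555 : act 7 n212160 = n211700 := d14_2 F401264 D212160 (iv6 D211700) F365016 (iv6 F401267)
def n212161 : Q := act 1 n145405
theorem D212161 : act 1 n145405 = n212161 := rfl
theorem F464556 : act 6 n196691 = n212161 := d21_3 F172193 F207051 (iv5 F401497) (iv1 D212161) (iv6 D145405) (iv5 D68170) (iv1 D31734) D31735 (iv6 F80775) D111032
theorem F464557 : act 5 n196871 = n212161 := d21_6 (iv5 D31410) (iv1 F37489) D49166 (iv6 F78356) D107402 D196871 (iv1 D212161) F228435 (iv6 D144326) (iv1 D67622)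
theorem F464558 : act 2 n212161 = n177058 := d2_1 F464557 F402109 (iv2 F402099)
theorem F464559 : act 3 n212161 = n210148 := d6_1 F464557 F456360 (iv3 F439162)
def n212162 : Q := act 7 n145405
theorem D212162 : act 7 n145405 = n212162 := rfl
theorem F464560 : act 3 n212162 = n192518 := d8_1 D212162 F386934 F386716
theorem F464561 : act 4 n212162 = n211700 := d11_1 D212162 (iv7 F464555) F464554
theorem F464562 : act 5 n212162 = n211903 := d13_1 D212162 (iv7 D211903) (iv5 F228435)
theorem F464563 : act 6 n212162 = n211699 := d14_1 D212162 F462751 (iv6 D196634) F165130 D145405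
theorem F464564 : act 1 n177058 = n212162 := d15_1 (iv0 F402110) (iv7 D212162) (iv2 F401294)
def n212163 : Q := act 5 n145407
theorem D212163 : act 5 n145407 = n212163 := rfl
theorem F464565 : act 2 n212163 = n162978 := d2_1 D212163 (iv5 F388044) F388042
theorem F464566 : act 3 n212163 = n162984 := d6_1 D212163 (iv5 F373256) F373254
theorem F464567 : act 4 n212163 = n145445 := d9_1 D212163 (iv5 D145445) F104342 (iv5 F82164) (iv4 F165315) F165316 (iv4 F332886) F332887 (iv4 F332890) (iv5 D145443) F165144 D112687 (iv4 F228437) (iv5 D145408) D145407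
theorem F464568 : act 6 n212163 = n187201 := d12_2 (iv6 F373252) D212163 (iv5 D187201) (iv6 F140350) D188387
theorem F464569 : act 0 n212163 = n209934 := d17_2 F228439 D212163 F455421 F439037 (iv5 F342472) (iv0 F402630) F402629 (iv0 D112681) D112683
def n212164 : Q := act 5 n145414
theorem D212164 : act 5 n145414 = n212164 := rfl
theorem F464570 : act 2 n212164 = n194867 := d2_1 D212164 (iv5 F402538) F402536
theorem F464571 : act 3 n212164 = n211798 := d6_1 D212164 (iv5 D211798) F340485
theorem F464572 : act 4 n212164 = n145437 := d9_1 D212164 (iv5 D145437) (iv4 D68184) D68185 D145438 F228463 F228464 (iv5 F376046) (iv4 F376047) (iv5 D145440) (iv4 D68188) D68189 D145441 F228475 (iv4 F228443)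
theorem F464573 : act 6 n212164 = n205316 := d12_2 (iv6 F340484) D212164 F435913 (iv6 D200293) (iv5 F340475)
theorem F464574 : act 7 n212164 = n194862 := d13_2 (iv7 F402528) D212164 F402531
theorem F464575 : act 1 n212164 = n194865 := d17_6 (iv1 F402580) (iv5 F406737) F406738 F228475 (iv4 F228443) D212164 F394797 (iv0 F402610) (iv4 D196995)
theorem F464576 : act 0 n212164 = n194866 := d18_0 F394803 (iv1 F228480) (iv4 F464567) (iv5 D212163) (iv4 D145407) (iv0 D68171) D68173 D145414 D212164
def n212165 : Q := act 5 n145423
theorem D212165 : act 5 n145423 = n212165 := rfl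
theorem F464577 : act 2 n212165 = n145424 := d2_1 D212165 (iv5 D145424) D145423
theorem F464578 : act 4 n212165 = n175113 := d9_1 D212165 F274082 F313492 (iv5 F119567) F303476 (iv5 F328876) F180576 D196994 F402605 (iv5 D119420) F309856 F163032 (iv4 F397611) F397613 F388403
theorem F464579 : act 7 n212165 = n175112 := d13_2 F402597 D212165 F402600
def n212166 : Q := act 1 n145424
theorem D212166 : act 1 n145424 = n212166 := rfl
theorem F464580 : act 1 n212166 = n175112 := d15_1 D212166 (iv7 F464579) F464577
theorem F464581 : act 4 n212166 = n167233 := d17_9 (iv1 F305462) F305463 (iv1 F130197) (iv5 F342400) (iv4 F459325) F459329 (iv0 D145421) D145424 D212166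
theorem F464582 : act 3 n193238 = n212166 := d19_19 (iv1 D212166) (iv5 D145424) (iv4 F228445) (iv3 D145419) F328061 (iv5 D37586) (iv4 F34427) (iv3 F57377) F115324 F325839 D141115 (iv3 F453129) F453133 (iv5 F455703) (iv4 D210003) (iv3 F424280) (iv1 D194705) (iv5 F381535) (iv4 F389277)
theorem F464583 : act 6 n212166 = n191350 := d7_2 D193238 F464582 F383156
def n212167 : Q := act 6 n145424
theorem D212167 : act 6 n145424 = n212167 := rfl
theorem F464584 : act 3 n212167 = n145429 := d7_1 D212167 (iv6 D145429) (iv3 F228449)
theorem F464585 : act 4 n212167 = n200170 := d10_1 D212167 (iv6 F428744) F428742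
theorem F464586 : act 7 n212167 = n211346 := d14_2 F402604 D212167 (iv6 F461221) (iv7 D203533) (iv6 F402603)
theorem F464587 : act 0 n163137 = n212167 := d18_2 F359730 D163137 F464585 (iv5 D200170) F175489 (iv0 D107133) (iv4 F80320) (iv0 F170743) F317713
theorem F464588 : act 1 n163154 = n212167 := d18_6 F167069 F161144 (iv1 F168167) F326490 D78431 D163154 F464585 F415370 (iv5 D125988)
def n212168 : Q := act 3 n145426
theorem D212168 : act 3 n145426 = n212168 := rfl
theorem F464589 : act 2 n212168 = n178163 := d0_1 D212168 (iv3 F360029) (iv2 F246266) (iv3 F402155) F402154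
theorem F464590 : act 5 n212168 = n199259 := d6_2 (iv5 F228452) D212168 F411354
theorem F464591 : act 7 n212168 = n211404 := d8_2 F402581 D212168 F461422
theorem F464592 : act 4 n202161 = n212168 := d20_8 D145434 (iv1 F464538) (iv4 D212156) F388151 F350122 F423095 (iv4 D202163) D202161 (iv3 D212168) (iv1 F228453)
theorem F464593 : act 6 n212168 = n177802 := d10_2 (iv6 F433002) F464592 (iv4 F431616)
theorem F464594 : act 0 n211408 = n212168 := d21_4 F425415 F400559 (iv5 F424697) F461445 F464593 F277306 (iv1 F300047) F300048 F349733 D202750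
theorem F464595 : act 0 n212168 = n211409 := d21_4 (iv5 F301768) F301766 (iv5 F277306) (iv6 F464593) (iv6 F461450) (iv5 D198347) F202429 (iv5 F351212) F351213 (iv1 F277691)
def n212169 : Q := act 4 n145426
theorem D212169 : act 4 n145426 = n212169 := rfl
theorem F464596 : act 2 n212169 = n212157 := d1_1 D212169 F464540 F402154
theorem F464597 : act 7 n212169 = n212158 := d11_2 F402581 D212169 F464547
theorem F464598 : act 0 n212169 = n196639 := d18_2 D145426 D212169 (iv4 D196639) (iv5 D107159) (iv4 D49508) F39789 (iv4 F82142) (iv0 F82146) D68178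
theorem F464599 : act 1 n212169 = n196633 := d18_6 F202241 F165315 F163707 (iv4 F172327) (iv5 F228452) D212169 (iv4 D196633) D196632 F401253
def n212170 : Q := act 6 n145426
theorem D212170 : act 6 n145426 = n212170 := rfl
theorem F464600 : act 2 n212170 = n156593 := d3_1 D212170 (iv6 F402156) F402154
theorem F464601 : act 3 n212170 = n177802 := d7_1 D212170 (iv6 F464593) (iv3 D212168)
theorem F464602 : act 5 n212170 = n199261 := d12_1 D212170 (iv6 D199261) (iv5 D111119) D111120 (iv5 F228452)
theorem F464603 : act 7 n212170 = n178160 := d14_2 F402581 D212170 F360086 (iv7 F461131) F461130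
theorem F464604 : act 0 n212170 = n208634 := d21_4 (iv5 F175348) F172328 (iv5 F228452) D212170 (iv6 D208634) D208633 F450264 F221903 F111563 (iv1 F331796)
theorem F464605 : act 0 n194345 = n212170 := d21_4 (iv5 F413505) F413506 (iv5 D194344) D194345 (iv6 D212170) F228452 (iv1 F402631) F402629 D200128 (iv1 F415137)
def n212171 : Q := act 3 n145428
theorem D212171 : act 3 n145428 = n212171 := rfl
theorem F464606 : act 4 n212171 = n206339 := d5_2 D145428 D212171 F440323 F428742 F228449
theorem F464607 : act 5 n212171 = n194814 := d6_2 F435256 D212171 (iv3 F435253)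
theorem F464608 : act 7 n212171 = n194813 := d8_2 F402609 D212171 (iv3 F402607)
theorem F464609 : act 0 n212171 = n194361 := d20_10 (iv4 F392937) F440039 F440035 F395608 F395607 (iv3 F439036) F439037 (iv1 D145427) D145428 D212171
theorem F464610 : act 1 n212171 = n194294 := d15_1 (iv0 F464609) (iv7 F394833) F394832
def n212172 : Q := act 5 n145432
theorem D212172 : act 5 n145432 = n212172 := rfl
theorem F464611 : act 2 n212172 = n145433 := d2_1 D212172 (iv5 D145433) D145432
theorem F464612 : act 3 n212172 = n175112 := d6_1 D212172 F402600 F402594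
theorem F464613 : act 6 n212172 = n175123 := d12_2 (iv6 F228456) D212172 F380596 F435061 F435057
def n212173 : Q := act 0 n145433
theorem D212173 : act 0 n145433 = n212173 := rfl
theorem F464614 : act 3 n212173 = n210932 := d20_5 D212154 F464525 (iv4 D145434) (iv3 F228457) D212173 (iv4 D210932) D210930 (iv4 F459341) F228428 D145396
theorem F464615 : act 2 n211377 = n212173 := d0_5 F464614 F459346 (iv3 F459949) F459948 (iv3 F461327)
theorem F464616 : act 4 n210943 = n212173 := d5_0 F464614 (iv4 D210932) F223479 D140382 D210943
theorem F464617 : act 6 n212173 = n211374 := d10_2 (iv6 F459401) F464616 (iv4 F461325)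
def n212174 : Q := act 1 n145433
theorem D212174 : act 1 n145433 = n212174 := rfl
theorem F464618 : act 7 n212174 = n211377 := d15_2 (iv0 D212173) D212174 F464615
theorem F464619 : act 3 n211060 = n212174 := d19_19 (iv1 D212174) (iv5 D145433) F104330 (iv3 D64494) (iv1 D30363) D30364 D64498 D137229 F455552 (iv5 D109057) (iv4 F169052) F169051 (iv1 F174279) D112138 F346893 F85080 D68242 D145542 (iv4 F459945)
theorem F464620 : act 5 n199251 = n212174 := d21_6 (iv5 F435084) (iv1 F435012) (iv5 D205109) (iv6 F411272) (iv1 F411273) D199251 (iv1 D212174) (iv5 D145433) F104331 D144318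
def n212175 : Q := act 4 n145433
theorem D212175 : act 4 n145433 = n212175 := rfl
theorem F464621 : act 5 n212175 = n202201 := d16_3 (iv4 F104330) D145433 D212175 F423224 (iv5 F336251) (iv4 F411808) (iv5 F452900) F452901 (iv2 D137217)
def n212176 : Q := act 6 n145433
theorem D212176 : act 6 n145433 = n212176 := rfl
theorem F464622 : act 2 n212176 = n175123 := d3_1 D212176 (iv6 F464613) F464611
theorem F464623 : act 3 n212176 = n145435 := d7_1 D212176 (iv6 D145435) (iv3 F228457)
theorem F464624 : act 5 n212176 = n194962 := d12_1 D212176 (iv6 F400578) (iv5 D144321) (iv6 F104331) D145433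
theorem F464625 : act 0 n169875 = n212176 := d17_2 (iv1 F394632) F394630 F464624 F395198 (iv5 D190684) F148354 D189861 (iv0 F378030) D189879
theorem F464626 : act 1 n194492 = n212176 := d17_6 F331201 F331194 (iv1 D48008) D48009 D103660 D194492 F464624 F395196 (iv4 D194852)
def n212177 : Q := act 3 n145434
theorem D212177 : act 3 n145434 = n212177 := rfl
theorem F464627 : act 0 n212177 = n209305 := d20_4 (iv4 D212169) (iv1 F228453) D145434 D212177 F453126 (iv4 F387936) F387938 F272498 (iv3 F401263) (iv1 F464599)
def n212178 : Q := act 6 n145434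
theorem D212178 : act 6 n145434 = n212178 := rfl
theorem F464628 : act 2 n212178 = n206337 := d3_1 D212178 F440317 F402606
theorem F464629 : act 4 n212178 = n145435 := d10_1 D212178 (iv6 D145435) D145434
theorem F464630 : act 0 n212178 = n194341 := d21_4 F402548 (iv1 F435907) F435904 D212178 (iv6 D194341) F365602 F367217 (iv5 F365264) (iv6 F376040) (iv1 F402550)
theorem F464631 : act 3 n209301 = n212178 := d20_5 F226650 (iv1 F399439) (iv4 F410924) F410923 D209301 F464629 F431959 F431961 F393839 F393028
theorem F464632 : act 6 n212177 = n209301 := d7_0 F464631 (iv6 D212178) D212177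
def n212179 : Q := act 1 n145435
theorem D212179 : act 1 n145435 = n212179 := rfl
theorem F464633 : act 1 n212179 = n211347 := d15_1 D212179 F461223 F402611
theorem F464634 : act 7 n212179 = n198053 := d15_2 (iv0 F431959) D212179 (iv2 F431956)
theorem F464635 : act 5 n197736 = n212179 := d21_0 (iv1 D212179) F228458 (iv6 D144322) F103635 D106992 (iv5 F400504) (iv1 F400509) F405456 (iv6 F431943) (iv1 F431944)
theorem F464636 : act 6 n202618 = n212179 := d21_3 F165221 D128802 (iv5 F424776) (iv1 D212179) (iv6 D145435) (iv5 D68181) F82148 D49503 (iv6 F78289) D107207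
theorem F464637 : act 2 n212179 = n202619 := d3_1 F464636 (iv6 D202619) D202618
theorem F464638 : act 3 n212179 = n197737 := d7_1 F464636 F423017 (iv3 F424775)
def n212180 : Q := act 7 n145435
theorem D212180 : act 7 n145435 = n212180 := rfl
theorem F464639 : act 2 n212180 = n211347 := d4_1 D212180 F461223 F402611
theorem F464640 : act 5 n212180 = n211896 := d13_1 D212180 (iv7 D211896) (iv5 F228458)
theorem F464641 : act 6 n212180 = n208643 := d14_1 D212180 F450299 (iv6 F339995) F165873 D145435
theorem F464642 : act 1 n202619 = n212180 := d15_1 (iv0 F424782) (iv7 D212180) (iv2 F402611)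
theorem F464643 : act 1 n212180 = n198053 := d15_1 F464642 (iv7 F464634) F464637
def n212181 : Q := act 6 n145437
theorem D212181 : act 6 n145437 = n212181 := rfl
theorem F464644 : act 3 n212181 = n200693 := d7_1 D212181 (iv6 D200693) (iv3 F406046)
theorem F464645 : act 4 n212181 = n205316 := d10_1 D212181 (iv6 F464573) F464572
theorem F464646 : act 7 n212181 = n205355 := d14_2 F402639 D212181 F436049 F395216 (iv6 F402638)
theorem F464647 : act 0 n212181 = n191356 := d21_4 (iv5 D107166) (iv1 F166491) D145437 D212181 F383181 F435236 (iv1 D205162) D205163 F435240 F201944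
theorem F464648 : act 1 n212181 = n191353 := d15_1 (iv0 F464647) F383172 (iv2 F383180)
def n212182 : Q := act 3 n145438
theorem D212182 : act 3 n145438 = n212182 := rfl
theorem F464649 : act 4 n212182 = n150098 := d5_2 D145438 D212182 F236215 F332914 F223555
theorem F464650 : act 5 n212182 = n196626 := d6_2 (iv5 F228463) D212182 (iv3 D196626)
theorem F464651 : act 6 n212182 = n196433 := d7_2 (iv6 F228461) D212182 (iv3 D196433)
theorem F464652 : act 7 n212182 = n196737 := d8_2 (iv7 F228462) D212182 F401640
theorem F464653 : act 0 n199257 = n212182 := d17_0 F464650 F459328 F459329 F331764 (iv5 D70621) D70620 D150086 (iv0 F390010) (iv4 F411346)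
def n212183 : Q := act 3 n145441
theorem D212183 : act 3 n145441 = n212183 := rfl
theorem F464654 : act 4 n212183 = n209268 := d5_2 D145441 D212183 F452972 (iv4 F221061) F221060
theorem F464655 : act 5 n212183 = n196627 := d6_2 (iv5 F228475) D212183 (iv3 D196627)
theorem F464656 : act 6 n212183 = n195914 := d7_2 (iv6 F228474) D212183 (iv3 D195914)
def n212184 : Q := act 1 n145444
theorem D212184 : act 1 n145444 = n212184 := rfl
theorem F464657 : act 1 n212184 = n163021 := d15_1 D212184 (iv7 F277008) (iv2 F357895)
theorem F464658 : act 7 n212184 = n195048 := d15_2 (iv0 F417097) D212184 F395570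
theorem F464659 : act 5 n212184 = n203829 := d17_7 D121035 (iv5 F341634) F341635 (iv5 D177557) D177556 F332896 D212184 (iv0 D203829) F192996
theorem F464660 : act 3 n206639 = n212184 := d19_19 (iv1 D212184) (iv5 F332896) (iv4 D177556) F129744 F333962 D147385 (iv4 F388861) (iv3 F455597) F455600 (iv5 F452973) (iv4 F464654) (iv3 D212183) F228476 D196885 (iv4 F464540) (iv3 F464542) F409786 D200718 (iv4 F441696)
theorem F464661 : act 6 n169906 = n212184 := d21_3 (iv5 D189789) F146870 (iv5 F267332) (iv1 D212184) (iv6 F409781) (iv5 F439105) (iv1 F439107) (iv5 F417485) (iv6 F417482) (iv1 F377757)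
theorem F464662 : act 2 n212184 = n200595 := d3_1 F464661 F417120 (iv2 F350078)
def n212185 : Q := act 6 n145445
theorem D212185 : act 6 n145445 = n212185 := rfl
theorem F464663 : act 2 n212185 = n180123 := d3_1 D212185 F299706 F332894
theorem F464664 : act 3 n212185 = n203944 := d7_1 D212185 F430513 (iv3 F332895)
theorem F464665 : act 4 n212185 = n187201 := d10_1 D212185 (iv6 F464568) F464567
theorem F464666 : act 5 n212185 = n205279 := d12_1 D212185 F435736 F355903 (iv6 F170873) D145445
theorem F464667 : act 7 n212185 = n189794 := d14_2 F395636 D212185 F377780 (iv7 F248678) (iv6 F395633)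
theorem F464668 : act 0 n212185 = n189793 := d21_4 F402663 (iv1 F165899) D145445 D212185 (iv6 F377775) (iv5 D128615) F168314 D132639 (iv6 F358170) (iv1 F402665)
theorem F464669 : act 0 n189792 = n212185 := d21_4 (iv5 F419249) (iv1 F436368) (iv5 D205428) F377772 (iv6 D212185) (iv5 D145445) (iv1 D68191) D68193 D145452 F362870
def n212186 : Q := act 3 n145447
theorem D212186 : act 3 n145447 = n212186 := rfl
theorem F464670 : act 2 n212186 = n177457 := d0_1 D212186 (iv3 F417604) F417603 (iv3 D167709) (iv2 F326470)
theorem F464671 : act 4 n212186 = n177494 := d5_2 (iv4 F326471) D212186 (iv3 D177494) F301653 (iv3 F119519)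
theorem F464672 : act 5 n212186 = n199630 := d6_2 (iv5 F326472) D212186 F412917
theorem F464673 : act 6 n212186 = n162898 := d7_2 (iv6 F326473) D212186 (iv3 D162898)
theorem F464674 : act 7 n212186 = n167722 := d8_2 (iv7 F326474) D212186 (iv3 D167722)
theorem F464675 : act 0 n212186 = n206623 := d19_4 D36682 (iv5 F119520) (iv4 F326471) D212186 (iv5 D206623) F333027 (iv3 D83544) D83542 (iv5 F343708) F343707 (iv3 F343698) F343695 (iv5 F273061) F357678 F308693 (iv1 F127709) F297017 F55935 (iv3 F28752)
def n212187 : Q := act 3 n145451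
theorem D212187 : act 3 n145451 = n212187 := rfl
theorem F464676 : act 2 n212187 = n199912 := d0_1 D212187 (iv3 D199912) (iv2 F175099) (iv3 F402651) F402650
theorem F464677 : act 4 n212187 = n211110 := d5_2 D145451 D212187 F460140 F425115 F228483
theorem F464678 : act 5 n212187 = n193663 := d6_2 F402548 D212187 (iv3 F402546)
theorem F464679 : act 7 n212187 = n209960 := d8_2 (iv7 F402543) D212187 F455535
theorem F464680 : act 0 n199945 = n212187 := d20_4 (iv4 D75779) F326444 (iv4 F174189) (iv3 F414264) (iv3 D212187) (iv4 D145451) F202331 F330151 (iv3 D162711) (iv1 F299496)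
def n212188 : Q := act 6 n145451
theorem D212188 : act 6 n145451 = n212188 := rfl
theorem F464681 : act 4 n212188 = n145452 := d10_1 D212188 (iv6 D145452) D145451
theorem F464682 : act 5 n212188 = n195532 := d21_6 (iv5 F344598) D133349 (iv5 F414011) (iv6 F435254) F435257 D212188 (iv1 D195532) D195533 F397246 F344596
def n212189 : Q := act 1 n145452
theorem D212189 : act 1 n145452 = n212189 := rfl
theorem F464683 : act 1 n212189 = n205573 := d15_1 D212189 F437047 F402656
theorem F464684 : act 7 n212189 = n206600 := d15_2 (iv0 F362870) D212189 F441507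
theorem F464685 : act 5 n212189 = n195184 := d17_7 F374537 (iv5 F346181) F346178 F83279 (iv4 F104369) (iv5 F228487) D212189 F436370 F436367
theorem F464686 : act 4 n212189 = n206528 := d17_9 (iv1 D206528) (iv5 F439001) F439002 (iv5 F408645) F408644 (iv5 F349556) (iv0 D145460) (iv5 F228487) D212189
theorem F464687 : act 3 n206431 = n212189 := d19_19 (iv1 D212189) F228487 F104369 (iv3 F176935) D200985 (iv5 F424858) F424857 F180953 D141440 (iv5 F337014) F332450 F232319 F188834 (iv5 D119695) (iv4 F308161) (iv3 F323683) F323681 (iv5 F322743) (iv4 F440759)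
theorem F464688 : act 6 n180338 = n212189 := d21_3 D125777 F359014 (iv5 F359010) (iv1 D212189) (iv6 D145452) (iv5 D68193) D68190 D145443 F332891 F328128
theorem F464689 : act 2 n212189 = n180340 := d3_1 F464688 (iv6 D180340) D180338
def n212190 : Q := act 4 n145457
theorem D212190 : act 4 n145457 = n212190 := rfl
theorem F464690 : act 2 n212190 = n145458 := d1_1 D212190 (iv4 D145458) (iv2 F228490)
theorem F464691 : act 6 n212190 = n206479 := d10_2 F343532 D212190 (iv4 D206479)
theorem F464692 : act 7 n212190 = n205538 := d11_2 (iv7 F228491) D212190 (iv4 D205538)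
theorem F464693 : act 5 n212190 = n198517 := d16_1 D212190 (iv4 D198517) (iv5 D109402) (iv4 D50476) (iv5 F38790) (iv4 F80392) (iv5 F165919) F165920 (iv2 F228490)
theorem F464694 : act 0 n212190 = n200797 := d17_0 F417941 (iv1 F398095) (iv5 D195768) F163283 F77524 (iv0 F80171) D110139 (iv0 F228492) D212190
theorem F464695 : act 1 n212190 = n205382 := d18_6 (iv1 F347422) F148457 F323113 (iv4 F104367) D145457 D212190 F436166 F417893 F417890
def n212191 : Q := act 1 n145475
theorem D212191 : act 1 n145475 = n212191 := rfl
theorem F464696 : act 7 n212191 = n210982 := d15_2 (iv0 F464236) D212191 F464235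
theorem F464697 : act 4 n210378 = n212191 := d20_0 (iv1 D212191) (iv4 F424108) F424107 F324146 F100848 F48970 D30553 D65049 D138492 D210378
theorem F464698 : act 6 n194549 = n212191 := d21_3 (iv5 D210923) D210921 F461514 (iv1 D212191) (iv6 D145475) D145474 (iv1 F400439) (iv5 D196349) D196350 (iv1 F459305)
theorem F464699 : act 3 n212191 = n194551 := d7_1 F464698 (iv6 D194551) D194549
theorem F464700 : act 2 n210985 = n212191 := d0_5 F464699 F464245 (iv3 D212073) F464221 F464223
theorem F464701 : act 0 n194551 = n200100 := d20_10 F415007 F379079 (iv4 F201794) F201793 (iv1 F164876) D196425 F400647 D210378 F464697 F464699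
theorem F464702 : act 0 n162612 = n194551 := d20_4 (iv4 D162608) (iv1 D78085) D78086 D162612 (iv3 F464699) (iv4 F464697) (iv1 F457281) (iv4 F401063) F401062 F360152
def n212192 : Q := act 5 n145475
theorem D212192 : act 5 n145475 = n212192 := rfl
theorem F464703 : act 3 n212192 = n145479 := d6_1 D212192 (iv5 D145479) (iv3 F228528)
theorem F464704 : act 6 n212192 = n174548 := d12_2 D145475 D212192 (iv5 D174548) (iv6 F343454) (iv5 D145474)
theorem F464705 : act 4 n174706 = n212192 := d10_3 F464704 F273416 D174706
def n212193 : Q := act 7 n145475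
theorem D212193 : act 7 n145475 = n212193 := rfl
theorem F464706 : act 3 n212193 = n145480 := d8_1 D212193 (iv7 D145480) (iv3 F228528)
theorem F464707 : act 1 n210985 = n212193 := d15_1 F464237 (iv7 D212193) (iv2 F436660)
theorem F464708 : act 1 n212193 = n210982 := d15_1 F464707 (iv7 F464696) (iv2 F464700)
def n212194 : Q := act 0 n145476
theorem D212194 : act 0 n145476 = n212194 := rfl
theorem F464709 : act 3 n212194 = n210982 := d20_5 F330946 (iv1 F128518) D83417 (iv3 F362967) D212194 (iv4 D210982) (iv1 F457289) F457285 (iv3 D174599) (iv1 F330945)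
theorem F464710 : act 7 n194551 = n212194 := d8_0 F464709 (iv7 F464696) F464699
def n212195 : Q := act 1 n145476
theorem D212195 : act 1 n145476 = n212195 := rfl
def n212196 : Q := act 5 n145476
theorem D212196 : act 5 n145476 = n212196 := rfl
theorem F464711 : act 3 n212196 = n174548 := d6_1 D212196 (iv5 D174548) (iv3 F362967)
theorem F464712 : act 6 n212196 = n145479 := d12_2 D145476 D212196 (iv5 D145479) (iv6 D68216) D68215
theorem F464713 : act 4 n187332 = n212196 := d10_3 F464712 (iv4 F379295) F379294
theorem F464714 : act 0 n212196 = n190180 := d21_4 (iv5 F379321) (iv1 D145478) D145479 (iv6 F464712) (iv6 D190180) F360811 (iv1 F292268) (iv5 D97145) (iv6 F149864) (iv1 F378994)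
def n212197 : Q := act 6 n145505
theorem D212197 : act 6 n145505 = n212197 := rfl
theorem F464715 : act 0 n201186 = n212197 := d21_4 F397145 (iv1 F162226) D127128 (iv6 F419363) (iv6 D212197) (iv5 D145505) (iv1 F162353) D144460 (iv6 F401602) (iv1 F401600)
def n212198 : Q := act 5 n145506
theorem D212198 : act 5 n145506 = n212198 := rfl
theorem F464716 : act 0 n212198 = n203237 := d17_2 F458851 D212198 (iv5 D203237) F185795 F86008 F278602 (iv5 F319628) D139819 D210801
theorem F464717 : act 1 n212198 = n197496 := d17_6 (iv1 D139088) D139089 (iv1 F334440) (iv5 D145511) (iv4 F228557) D212198 (iv5 D197496) D197495 (iv4 F404558)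
def n212199 : Q := act 3 n145507
theorem D212199 : act 3 n145507 = n212199 := rfl
theorem F464718 : act 4 n212199 = n145518 := d5_2 D145507 D212199 (iv3 D145518) (iv4 D68236) (iv3 F104394)
theorem F464719 : act 5 n212199 = n199843 := d6_2 (iv5 F228560) D212199 (iv3 D199843)
theorem F464720 : act 7 n212199 = n211542 := d8_2 (iv7 F228559) D212199 (iv3 D211542)
def n212200 : Q := act 6 n145507
theorem D212200 : act 6 n145507 = n212200 := rfl
theorem F464721 : act 2 n212200 = n211556 := d3_1 D212200 (iv6 D211556) (iv2 F228558)
theorem F464722 : act 4 n212200 = n145508 := d10_1 D212200 (iv6 D145508) D145507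
theorem F464723 : act 7 n212200 = n211557 := d14_2 (iv7 F228559) D212200 F462124 F378620 (iv6 F362063)
theorem F464724 : act 0 n212200 = n149215 := d21_4 (iv5 F319639) D111826 (iv5 F228560) D212200 (iv6 D149215) D149214 (iv1 F456117) (iv5 F462101) (iv6 D211553) F319637
theorem F464725 : act 0 n199852 = n212200 := d21_4 F205299 (iv1 F174299) (iv5 F224375) (iv6 F413827) (iv6 D212200) F228560 (iv1 F173626) F169498 F321629 D127697
def n212201 : Q := act 0 n145513
theorem D212201 : act 0 n145513 = n212201 := rfl
theorem F464726 : act 6 n212201 = n194595 := d21_5 (iv5 F180286) (iv1 F104386) D68234 D145513 D212201 F417110 F457621 F457619 (iv6 D142705) (iv1 F180292)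
def n212202 : Q := act 1 n145513
theorem D212202 : act 1 n145513 = n212202 := rfl
def n212203 : Q := act 5 n145513
theorem D212203 : act 5 n145513 = n212203 := rfl
theorem F464727 : act 3 n212203 = n196567 := d6_1 D212203 (iv5 D196567) (iv3 F228571)
theorem F464728 : act 6 n212203 = n145516 := d12_2 D145513 D212203 (iv5 D145516) (iv6 D68235) D68234
theorem F464729 : act 0 n212203 = n194643 := d21_7 F140573 (iv1 F140503) F345146 (iv6 F340512) F204481 D145513 D212203 (iv5 D194643) (iv6 D103910) F293297
theorem F464730 : act 4 n212202 = n211728 := d17_9 F462881 F410807 (iv1 D194651) (iv5 D103913) (iv4 F159344) D194643 (iv0 F464729) (iv5 D212203) D212202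
theorem F464731 : act 4 n197917 = n212203 := d20_0 F464729 (iv4 F393925) F245665 D156330 (iv3 F363340) F363341 F363357 F164792 (iv3 F168706) D197917
theorem F464732 : act 0 n199732 = n212203 := d21_4 F406150 (iv1 F172757) D111647 D199732 F464728 (iv5 D145516) (iv1 F363401) D194527 F406158 (iv1 F406156)
theorem F464733 : act 7 n199809 = n212203 := d8_0 F464727 (iv7 F401098) D199809
def n212204 : Q := act 7 n145513
theorem D212204 : act 7 n145513 = n212204 := rfl
theorem F464734 : act 3 n212204 = n196568 := d8_1 D212204 (iv7 D196568) (iv3 F228571)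
theorem F464735 : act 5 n212204 = n199809 := d13_1 D212204 F464733 (iv5 D212203)
def n212205 : Q := act 3 n145515
theorem D212205 : act 3 n145515 = n212205 := rfl
theorem F464736 : act 4 n212205 = n211908 := d5_2 (iv4 F341055) D212205 (iv3 D211908) (iv4 D144385) (iv3 F322401)
theorem F464737 : act 5 n212205 = n188850 := d6_2 F393688 D212205 (iv3 F393686)
theorem F464738 : act 6 n212205 = n192504 := d7_2 F363402 D212205 F386868
theorem F464739 : act 7 n212205 = n177183 := d8_2 (iv7 F341056) D212205 (iv3 D177183)
theorem F464740 : act 0 n174524 = n212205 := d21_4 D173380 (iv1 F273404) (iv5 D174523) D174524 F464738 (iv5 D192504) F386664 F386663 (iv6 D174573) F128535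
def n212206 : Q := act 0 n145516
theorem D212206 : act 0 n145516 = n212206 := rfl
theorem F464741 : act 5 n212206 = n206129 := d17_1 D212206 F439372 F427624 (iv4 D196777) (iv5 D107311) D107310 D196774 F401752 F393671
theorem F464742 : act 4 n212206 = n204583 := d18_1 D212206 F432944 (iv4 F464481) F464482 (iv4 F341051) (iv0 D103708) D103710 F363401 D145516
theorem F464743 : act 6 n204582 = n212206 := d10_0 F464742 (iv6 D204583) D204582
theorem F464744 : act 2 n206180 = n212206 := d2_3 F464741 F439370 D206180
def n212207 : Q := act 1 n145516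
theorem D212207 : act 1 n145516 = n212207 := rfl
theorem F464745 : act 7 n212207 = n206180 := d15_2 (iv0 D212206) D212207 F464744
theorem F464746 : act 5 n212207 = n205024 := d17_7 (iv1 F186235) (iv5 F323819) (iv1 D145536) (iv5 D68240) (iv4 F104396) D145516 D212207 (iv0 F434667) (iv4 D203276)
theorem F464747 : act 6 n199691 = n212207 := d21_9 (iv5 D145516) (iv1 F363401) D194527 F406158 (iv1 F406156) (iv6 F456355) F456354 (iv1 F409293) D199691 (iv1 D212207)
theorem F464748 : act 3 n212207 = n199696 := d7_1 F464747 (iv6 D199696) (iv3 F413138)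
def n212208 : Q := act 7 n145516
theorem D212208 : act 7 n145516 = n212208 := rfl
theorem F464749 : act 3 n212208 = n198804 := d8_1 D212208 F436652 F436645
theorem F464750 : act 5 n212208 = n145517 := d13_1 D212208 (iv7 D145517) D145516
theorem F464751 : act 0 n206180 = n212208 := d17_2 F241585 D206180 F464750 F228572 (iv5 F228589) F324926 F105013 D72729 D153722
def n212209 : Q := act 6 n145540
theorem D212209 : act 6 n145540 = n212209 := rfl
theorem F464752 : act 2 n212209 = n211562 := d3_1 D212209 F462151 F428128
theorem F464753 : act 3 n212209 = n145543 := d7_1 D212209 (iv6 D145543) D145540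
theorem F464754 : act 4 n212209 = n208244 := d10_1 D212209 F448557 (iv4 F397208)
theorem F464755 : act 5 n212209 = n202695 := d12_1 D212209 (iv6 F425146) F393651 D210465 F457655
theorem F464756 : act 7 n212209 = n197468 := d14_2 (iv7 F321165) D212209 (iv6 D197468) F212156 F321160
theorem F464757 : act 1 n201494 = n212209 := d15_1 (iv0 F434220) F464756 (iv2 F434216)
theorem F464758 : act 1 n212209 = n201425 := d15_1 F464757 F420466 (iv2 F420711)
def n212210 : Q := act 3 n145549
theorem D212210 : act 3 n145549 = n212210 := rfl
theorem F464759 : act 2 n212210 = n210991 := d0_1 D212210 F459657 F354202 (iv3 D145605) (iv2 F228594)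
theorem F464760 : act 5 n212210 = n211535 := d6_2 F353388 D212210 F462023
theorem F464761 : act 6 n212210 = n202485 := d7_2 (iv6 F348836) D212210 (iv3 D202485)
theorem F464762 : act 7 n212210 = n211145 := d8_2 F348835 D212210 (iv3 D211145)
theorem F464763 : act 0 n212210 = n192911 := d20_4 (iv4 F318451) (iv1 F320488) D145549 D212210 (iv3 D192911) F155575 F151926 D99314 (iv3 F331772) (iv1 F223707)
def n212211 : Q := act 6 n145565
theorem D212211 : act 6 n145565 = n212211 := rfl
theorem F464764 : act 3 n212211 = n145567 := d7_1 D212211 (iv6 D145567) D145565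
def n212212 : Q := act 1 n145567
theorem D212212 : act 1 n145567 = n212212 := rfl
theorem F464765 : act 1 n212212 = n197470 := d15_1 D212212 (iv7 F460357) F460353
theorem F464766 : act 7 n212212 = n210156 := d15_2 (iv0 F366270) D212212 F456396
theorem F464767 : act 4 n212212 = n167686 := d18_7 F440336 (iv4 F462591) F462595 (iv4 F354561) (iv5 D145576) (iv4 F228612) D212212 F348851 D206341
theorem F464768 : act 5 n212212 = n194736 := d18_9 F394302 (iv4 F357295) (iv1 F357279) (iv4 F335444) (iv5 F357258) (iv4 D147492) F322226 (iv4 F228612) D212212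
theorem F464769 : act 6 n153790 = n212212 := d21_3 D142749 F322342 (iv5 F312882) (iv1 D212212) (iv6 D145567) D145566 (iv1 F351577) (iv5 F459863) F459865 (iv1 D142748)
theorem F464770 : act 2 n212212 = n177290 := d3_1 F464769 (iv6 D177290) (iv2 F312880)
def n212213 : Q := act 5 n145567
theorem D212213 : act 5 n145567 = n212213 := rfl
theorem F464771 : act 2 n212213 = n157589 := d2_1 D212213 (iv5 F460356) F460353
theorem F464772 : act 6 n212213 = n153292 := d12_2 D145567 D212213 (iv5 F338944) F351573 (iv5 D145566)
theorem F464773 : act 4 n212213 = n153284 := d16_2 (iv4 F228612) D212213 (iv5 D153284) F108921 D148842 F355111 (iv5 F311293) (iv7 F318459) F320597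
theorem F464774 : act 0 n212213 = n211519 := d17_2 (iv1 D212212) D212213 (iv5 D211519) F225593 (iv5 F330054) (iv0 D146642) D146645 F348850 (iv4 F464767)
def n212214 : Q := act 3 n145571
theorem D212214 : act 3 n145571 = n212214 := rfl
theorem F464775 : act 4 n212214 = n191914 := d5_2 D145571 D212214 (iv3 F459877) F459878 F342442
theorem F464776 : act 5 n212214 = n175005 := d6_2 F459863 D212214 F459867
theorem F464777 : act 7 n212214 = n175004 := d8_2 F459950 D212214 (iv3 F459949)
theorem F464778 : act 2 n192389 = n212214 := d4_3 F464777 (iv2 F459346) F459347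
def n212215 : Q := act 0 n145640
theorem D212215 : act 0 n145640 = n212215 := rfl
theorem F464779 : act 3 n212215 = n200423 := d20_5 (iv4 D31770) D31767 D68270 D145640 D212215 F416367 (iv1 F404300) (iv4 F227214) F227213 F103706
theorem F464780 : act 4 n212215 = n202509 := d20_8 (iv4 F460482) (iv1 F460484) F422300 (iv3 D136023) (iv1 F169749) D198685 F408863 D212215 F424325 (iv1 F411726)
theorem F464781 : act 1 n211244 = n212215 := d15_0 (iv0 D212215) F396610 (iv2 F460783)
theorem F464782 : act 6 n197221 = n212215 := d21_3 D108092 (iv1 F176191) (iv5 F403609) (iv1 F464781) (iv6 D211244) (iv5 D141303) (iv1 F162190) F344609 F336214 (iv1 D108090)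
theorem F464783 : act 2 n212215 = n197269 := d3_1 F464782 (iv6 D197269) (iv2 F403620)
theorem F464784 : act 5 n203254 = n195365 := d21_2 F427480 D203254 F396823 D212215 (iv6 F464782) F403609 (iv1 F176190) (iv5 F204010) (iv6 F438426) F438427
theorem F464785 : act 3 n195376 = n203254 := d6_3 F464784 F396821 (iv5 F396857)
theorem F464786 : act 7 n195364 = n203254 := d13_0 F464784 (iv7 D195365) D195364
theorem F464787 : act 1 n209846 = n202069 := d17_6 F438427 F427480 D203254 F464784 F396822 D209846 (iv5 F454012) (iv0 D209521) (iv4 F438425)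
def n212216 : Q := act 1 n145640
theorem D212216 : act 1 n145640 = n212216 := rfl
theorem F464788 : act 7 n212216 = n197269 := d15_2 (iv0 D212215) D212216 (iv2 F464783)
theorem F464789 : act 4 n209240 = n212216 := d20_6 (iv4 D50623) F38654 (iv4 F48507) (iv3 F99485) D136006 D209240 (iv1 D212216) (iv4 F408863) (iv3 D198685) (iv1 D109758)
theorem F464790 : act 3 n212216 = n211258 := d5_1 F464789 F460840 F362015 (iv4 F337652) D209240
theorem F464791 : act 6 n212216 = n202341 := d10_2 F452844 F464789 F432051
theorem F464792 : act 0 n211244 = n212216 := d21_4 (iv5 F344611) F162189 D141303 D211244 F464791 (iv5 D202341) F180000 (iv5 F344610) (iv6 D105577) D105573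
def n212217 : Q := act 2 n145640
theorem D212217 : act 2 n145640 = n212217 := rfl
theorem F464793 : act 7 n212217 = n211244 := d4_2 (iv7 F396610) D212217 F460783
theorem F464794 : act 1 n197269 = n212217 := d15_1 (iv0 F403795) F464793 F460783
def n212218 : Q := act 5 n145640
theorem D212218 : act 5 n145640 = n212218 := rfl
theorem F464795 : act 3 n212218 = n145641 := d6_1 D212218 (iv5 D145641) D145640
theorem F464796 : act 4 n191918 = n212218 := d5_0 F464795 (iv4 F409570) F388270 F155592 (iv3 F384830)
theorem F464797 : act 6 n191917 = n212218 := d7_0 F464795 F409571 F388268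
def n212219 : Q := act 5 n145642
theorem D212219 : act 5 n145642 = n212219 := rfl
theorem F464798 : act 2 n212219 = n195529 := d2_1 D212219 (iv5 F429380) F429376
theorem F464799 : act 3 n212219 = n145643 := d6_1 D212219 (iv5 D145643) D145642
theorem F464800 : act 4 n212219 = n157672 := d9_1 D212219 (iv5 D157672) (iv4 D75118) (iv5 D34398) D34397 D75114 D157665 (iv5 F351837) (iv4 D138221) (iv5 F351798) F319955 (iv5 D79018) D79017 D164529 (iv4 F360160)
theorem F464801 : act 6 n212219 = n195499 := d12_2 (iv6 F361809) D212219 (iv5 D195499) (iv6 D105632) D105631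
theorem F464802 : act 7 n212219 = n210171 := d13_2 F396922 D212219 F456454
theorem F464803 : act 1 n212219 = n195417 := d17_6 F189184 (iv5 D118487) F155568 D164529 (iv4 F360160) D212219 F396946 (iv0 F429205) (iv4 D203641)
theorem F464804 : act 1 n205927 = n212219 := d15_0 F464803 (iv7 F403955) (iv2 F438455)
def n212220 : Q := act 6 n145643
theorem D212220 : act 6 n145643 = n212220 := rfl
theorem F464805 : act 2 n212220 = n145655 := d3_1 D212220 (iv6 D145655) (iv2 F228657)
theorem F464806 : act 3 n212220 = n195499 := d7_1 D212220 (iv6 F464801) F464799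
theorem F464807 : act 5 n212220 = n193927 := d12_1 D212220 F391423 F347220 (iv6 D145644) D145643
theorem F464808 : act 0 n212220 = n192273 := d21_4 (iv5 D107131) F104419 D145643 D212220 (iv6 F462132) F462131 F454404 (iv5 F456465) F456466 (iv1 D196607)
def n212221 : Q := act 4 n145646
theorem D212221 : act 4 n145646 = n212221 := rfl
theorem F464809 : act 5 n212221 = n163181 := d9_2 D145646 D212221 (iv4 D163181) (iv5 F327228) F82255 F79626 (iv4 F103705) D144420 D211924 F463605 (iv4 D163176) (iv5 F342299) F170766 F165119 (iv4 F104425)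
theorem F464810 : act 7 n212221 = n196608 := d11_2 (iv7 F228665) D212221 (iv4 D196608)
def n212222 : Q := act 3 n145652
theorem D212222 : act 3 n145652 = n212222 := rfl
theorem F464811 : act 2 n212222 = n211083 := d0_1 D212222 (iv3 F460041) (iv2 F434360) F434361 F404003
theorem F464812 : act 5 n212222 = n210937 := d6_2 F402140 D212222 F459375
theorem F464813 : act 6 n212222 = n196443 := d7_2 (iv6 F403633) D212222 (iv3 F403630)
theorem F464814 : act 7 n212222 = n196729 := d8_2 F425966 D212222 (iv3 F425963)
theorem F464815 : act 4 n212222 = n196444 := d20_6 F162006 (iv1 F79008) D108164 F351841 D145652 D212222 F400694 (iv4 F402135) (iv3 D196880) (iv1 F165695)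
theorem F464816 : act 1 n198141 = n212222 := d17_8 F400694 F342480 F168525 D108656 D197775 F405742 D211078 F460025 F464815
theorem F464817 : act 0 n198135 = n212222 := d18_0 F464815 F400694 (iv4 F402135) (iv5 F460015) (iv4 D211077) F223735 D140645 (iv0 F402473) (iv5 F406960)
def n212223 : Q := act 4 n145652
theorem D212223 : act 4 n145652 = n212223 := rfl
theorem F464818 : act 2 n212223 = n204964 := d1_1 D212223 F434376 F404003
theorem F464819 : act 5 n212223 = n163154 := d9_2 F402140 D212223 (iv4 D163154) (iv5 D78431) (iv4 F326490) D112135 D199981 F414456 (iv4 F424724) (iv5 F424725) (iv4 D163137) (iv5 D78426) D78425 (iv5 F327225) (iv4 F402139)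
theorem F464820 : act 6 n212223 = n204962 := d10_2 (iv6 F403633) D212223 F434366
theorem F464821 : act 3 n212223 = n211311 := d20_3 (iv4 D145654) D145652 D212223 F461073 (iv3 F424698) (iv4 F462720) F462721 (iv4 D197701) (iv3 F405352) (iv1 F405355)
def n212224 : Q := act 6 n145654
theorem D212224 : act 6 n145654 = n212224 := rfl
theorem F464822 : act 3 n212224 = n178240 := d7_1 D212224 F344447 (iv3 F351854)
theorem F464823 : act 4 n212224 = n145655 := d10_1 D212224 (iv6 D145655) D145654
theorem F464824 : act 5 n212224 = n194824 := d12_1 D212224 (iv6 F394621) (iv5 F406099) (iv6 F436381) F436380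
theorem F464825 : act 0 n199527 = n212224 := d17_2 F394637 D199527 F464824 (iv4 D194824) (iv5 D104621) (iv0 F76049) D103651 F160324 D194827
def n212225 : Q := act 0 n145655
theorem D212225 : act 0 n145655 = n212225 := rfl
theorem F464826 : act 4 n212225 = n194830 := d18_3 F464825 F464823 D212225 (iv5 D194830) (iv4 D104626) D104625 F331240 (iv0 F331242) D199527
theorem F464827 : act 5 n212225 = n192264 := d19_1 D212225 (iv4 D192264) (iv3 F371264) (iv1 F371267) F369091 (iv4 F377374) (iv3 D189679) (iv1 F377347) F377344 (iv4 F442797) (iv3 D206974) (iv1 F437325) F437323 F203377 (iv3 F96939) (iv1 F96941) D62200 D132576 (iv3 F351855)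
theorem F464828 : act 2 n192273 = n212225 := d2_3 F464827 F386237 D192273
def n212226 : Q := act 1 n145655
theorem D212226 : act 1 n145655 = n212226 := rfl
theorem F464829 : act 7 n212226 = n192273 := d15_2 (iv0 D212225) D212226 F464828
theorem F464830 : act 3 n150038 = n212226 := d8_3 F464829 F386262 F363486
theorem F464831 : act 5 n192168 = n212226 := d13_3 F464829 (iv5 D192273) (iv7 F385839)
theorem F464832 : act 6 n150036 = n212226 := d21_5 F167382 (iv1 F167381) F167193 D197348 F405242 (iv5 F464831) F403896 (iv5 D197299) (iv6 D108080) D108076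
def n212227 : Q := act 5 n145655
theorem D212227 : act 5 n145655 = n212227 := rfl
theorem F464833 : act 2 n212227 = n193927 := d2_1 D212227 (iv5 F464807) F464805
theorem F464834 : act 3 n212227 = n207921 := d6_1 D212227 (iv5 D207921) (iv3 F351855)
theorem F464835 : act 6 n212227 = n145658 := d12_2 D145655 D212227 (iv5 D145658) (iv6 D68276) D68275
theorem F464836 : act 4 n212227 = n194821 := d16_4 D194824 (iv5 F464824) F464823 D212227 (iv5 D194821) (iv4 D104618) D104619 F160308 (iv2 F160312)
theorem F464837 : act 7 n212227 = n193926 := d16_8 (iv4 D192077) (iv5 D99635) F76048 D104621 D194824 (iv5 F464824) F464823 D212227 (iv2 F391418)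
theorem F464838 : act 1 n212227 = n192181 := d17_6 (iv1 F459652) F412987 (iv1 F412988) (iv5 F464824) F464823 D212227 (iv5 F463695) (iv0 F463696) (iv4 F459648)
theorem F464839 : act 0 n212227 = n193923 := d18_0 (iv4 D193923) F329324 (iv4 F221045) (iv5 F456490) F456489 (iv0 F394647) (iv4 F464826) (iv0 D212225) D212227
def n212228 : Q := act 7 n145655
theorem D212228 : act 7 n145655 = n212228 := rfl
theorem F464840 : act 3 n212228 = n207869 := d8_1 D212228 F446814 (iv3 F351855)
theorem F464841 : act 5 n212228 = n193926 := d13_1 D212228 (iv7 F464837) (iv5 D212227)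
theorem F464842 : act 0 n192273 = n212228 := d17_0 F464841 (iv1 F391415) (iv5 F403897) (iv4 F403901) (iv5 D194964) D194962 (iv5 F464624) (iv0 F464625) F386263
def n212229 : Q := act 3 n145667
theorem D212229 : act 3 n145667 = n212229 := rfl
theorem F464843 : act 6 n212229 = n177050 := d7_2 (iv6 F318640) D212229 (iv3 F408616)
theorem F464844 : act 7 n212229 = n198443 := d8_2 F359888 D212229 F408026
theorem F464845 : act 4 n212229 = n198444 := d20_6 F322785 (iv1 F322789) (iv4 D68285) (iv3 F104441) D145667 D212229 (iv1 F408029) F339843 F101784 (iv1 F101778)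
theorem F464846 : act 0 n211151 = n212229 := d20_4 D211160 F460388 (iv4 D211152) (iv3 F460341) (iv3 D212229) (iv4 F396704) (iv1 F404330) F404333 F228624 (iv1 F350132)
theorem F464847 : act 2 n199979 = n212229 := d15_3 (iv0 F464846) F460344 (iv7 F414451)
theorem F464848 : act 1 n202598 = n212229 := d15_0 (iv0 F464846) F460343 (iv2 F424681)
def n212230 : Q := act 3 n145668
theorem D212230 : act 3 n145668 = n212230 := rfl
theorem F464849 : act 2 n212230 = n210734 := d0_1 D212230 F458635 F414187 F408026 F359891
theorem F464850 : act 4 n212230 = n197977 := d5_2 F396705 D212230 (iv3 F422532) F422534 F404183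
theorem F464851 : act 5 n212230 = n212229 := d6_2 (iv5 F318637) D212230 (iv3 D212229)
theorem F464852 : act 6 n212230 = n197504 := d7_2 F333706 D212230 (iv3 D197504)
theorem F464853 : act 7 n212230 = n211144 := d8_2 (iv7 F359893) D212230 F460314
theorem F464854 : act 0 n212230 = n210424 := d20_4 (iv4 F404333) (iv1 D197442) F396705 D212230 F457469 (iv4 F457479) (iv1 F460375) (iv4 D211158) D211157 (iv1 F460371)
theorem F464855 : act 1 n212230 = n210380 := d15_1 (iv0 F464854) F457294 (iv2 F457468)
def n212231 : Q := act 2 n145673
theorem D212231 : act 2 n145673 = n212231 := rfl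
theorem F464856 : act 3 n212231 = n167680 := d0_2 D145673 D212231 (iv2 F350117) F350112 F104448
theorem F464857 : act 4 n212231 = n209590 := d1_2 (iv4 F342377) D212231 F454252
theorem F464858 : act 5 n212231 = n198691 := d2_2 (iv5 F228726) D212231 (iv2 D198691)
theorem F464859 : act 6 n212231 = n167677 := d3_2 F342376 D212231 (iv2 F339093)
theorem F464860 : act 7 n212231 = n202596 := d4_2 (iv7 F228727) D212231 (iv2 F424677)
theorem F464861 : act 1 n212231 = n150911 := d15_0 (iv0 F342374) (iv7 F228727) D212231
theorem F464862 : act 1 n150915 = n212231 := d15_0 F464861 (iv7 F361191) (iv2 F361192)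
def n212232 : Q := act 0 n145733
theorem D212232 : act 0 n145733 = n212232 := rfl
theorem F464863 : act 5 n212232 = n192640 := d17_1 D212232 F387320 F347988 (iv4 F347980) F346435 (iv0 F346436) F228889 (iv0 D145738) (iv4 F228837)
theorem F464864 : act 3 n212232 = n178693 := d20_5 (iv4 D59876) F51031 D68326 D145733 D212232 F348478 (iv1 D164573) F120260 (iv3 D68985) (iv1 F94350)
theorem F464865 : act 1 n147153 = n212232 := d15_0 (iv0 D212232) F228838 D147153
theorem F464866 : act 6 n158231 = n212232 := d21_9 (iv5 F355095) (iv1 F355097) F253901 (iv6 F123620) (iv1 F350711) F350713 (iv5 F387325) (iv1 D192641) (iv5 F298231) (iv1 F464865)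
theorem F464867 : act 2 n212232 = n147152 := d3_1 F464866 F353663 (iv2 F298229)
theorem F464868 : act 7 n212232 = n147151 := d14_2 (iv7 F298232) F464866 (iv6 F434585) F434586 F348513
def n212233 : Q := act 1 n145733
theorem D212233 : act 1 n145733 = n212233 := rfl
theorem F464869 : act 7 n212233 = n147152 := d15_2 (iv0 D212232) D212233 (iv2 F464867)
theorem F464870 : act 5 n212233 = n200731 := d17_7 (iv1 F216948) D208626 F450228 (iv5 D197868) (iv4 F231236) F231234 D212233 (iv0 F417687) F349852
theorem F464871 : act 4 n212233 = n148817 := d17_9 F361643 F229440 F355110 (iv5 D80426) (iv4 F115778) (iv5 F298819) (iv0 F355092) F231234 D212233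
theorem F464872 : act 6 n175786 = n212233 := d21_9 (iv5 F231234) F355092 F298819 (iv6 D77049) (iv1 F57521) D80423 (iv5 F325430) D136346 F354222 (iv1 D212233)
theorem F464873 : act 2 n212233 = n147151 := d3_1 F464872 (iv6 F434585) F434587
theorem F464874 : act 3 n212233 = n176493 := d7_1 F464872 (iv6 F440180) F440179
theorem F464875 : act 1 n212233 = n147153 := d15_0 F464865 F464868 (iv2 F464873)
def n212234 : Q := act 2 n145733
theorem D212234 : act 2 n145733 = n212234 := rfl
theorem F464876 : act 3 n212234 = n147160 := d0_2 D145733 D212234 (iv2 D147160) (iv3 D68994) (iv2 F104501)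
theorem F464877 : act 4 n212234 = n145740 := d1_2 (iv4 F228837) D212234 (iv2 D145740)
theorem F464878 : act 5 n212234 = n160745 := d2_2 F231234 D212234 F353655
theorem F464879 : act 6 n212234 = n162570 := d3_2 (iv6 F355090) D212234 F355083
theorem F464880 : act 7 n212234 = n147153 := d4_2 (iv7 F228838) D212234 (iv2 D147153)
theorem F464881 : act 1 n212234 = n147151 := d15_0 (iv0 D147151) (iv7 F228838) D212234
theorem F464882 : act 1 n147152 = n212234 := d15_0 F464881 (iv7 F464868) F464867
def n212235 : Q := act 6 n145740
theorem D212235 : act 6 n145740 = n212235 := rfl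
theorem F464883 : act 2 n212235 = n145741 := d3_1 D212235 (iv6 D145741) D145740
theorem F464884 : act 3 n212235 = n164301 := d7_1 D212235 F353817 F229411
theorem F464885 : act 4 n212235 = n162570 := d10_1 D212235 (iv6 F464879) F464877
theorem F464886 : act 7 n212235 = n170733 := d14_2 (iv7 F228855) D212235 (iv6 F355100) F282971 F233919
theorem F464887 : act 0 n212235 = n170735 := d21_4 F414853 (iv1 F229410) (iv5 F228854) D212235 F336060 (iv5 F336056) (iv1 F352106) (iv5 F425513) (iv6 D202771) (iv1 F414855)
theorem F464888 : act 0 n158394 = n212235 := d21_4 (iv5 D35182) (iv1 F55923) (iv5 F296652) D158394 (iv6 D212235) F228854 F334745 F298375 (iv6 D81998) F58446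
def n212236 : Q := act 0 n145741
theorem D212236 : act 0 n145741 = n212236 := rfl
theorem F464889 : act 4 n212236 = n172116 := d18_3 D86328 (iv4 F355089) D212236 (iv5 F330901) F371513 F374868 F374866 (iv0 D180746) (iv5 D86330)
theorem F464890 : act 5 n212236 = n174603 := d19_1 D212236 (iv4 F401002) F401001 D212125 F464407 (iv4 D189019) D189018 (iv1 F375423) (iv5 F258846) F346135 F271897 D175137 (iv5 F404641) (iv4 D197511) (iv3 D108404) (iv1 D50056) (iv5 F50098) (iv4 F104509) (iv3 F228858)
theorem F464891 : act 6 n212236 = n172116 := d21_5 F342097 (iv1 D76542) (iv5 F104507) D145741 D212236 (iv5 F330901) (iv1 F214816) (iv5 F373934) (iv6 F425509) (iv1 F425508)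
theorem F464892 : act 2 n170735 = n212236 := d15_3 (iv0 D212236) F345564 D170735
theorem F464893 : act 1 n170733 = n212236 := d15_0 (iv0 D212236) (iv7 F282980) (iv2 F355101)
theorem F464894 : act 7 n212236 = n158394 := d15_2 D170733 F464893 F298184
def n212237 : Q := act 6 n145913
theorem D212237 : act 6 n145913 = n212237 := rfl
theorem F464895 : act 2 n212237 = n146036 := d3_1 D212237 (iv6 F360611) (iv2 F229088)
theorem F464896 : act 3 n212237 = n206341 := d7_1 D212237 F440332 (iv3 F229089)
theorem F464897 : act 4 n212237 = n158962 := d10_1 D212237 (iv6 D158962) (iv4 F229091)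
theorem F464898 : act 5 n212237 = n206340 := d12_1 D212237 (iv6 D206340) (iv5 D128336) D128337 F229087
theorem F464899 : act 0 n212237 = n202967 := d21_10 F426422 (iv1 D141533) (iv5 F321267) (iv6 F349463) F197243 D204160 F431260 F315817 F229087 D212237
theorem F464900 : act 1 n212237 = n202334 := d15_1 (iv0 F464899) (iv7 F432618) F432616
theorem F464901 : act 7 n212237 = n202968 := d15_2 D202967 (iv0 F464899) (iv2 D202968)
def n212238 : Q := act 6 n145926
theorem D212238 : act 6 n145926 = n212238 := rfl
theorem F464902 : act 2 n212238 = n211560 := d3_1 D212238 F462135 (iv2 F229136)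
theorem F464903 : act 3 n212238 = n164428 := d7_1 D212238 (iv6 F418315) F418312
theorem F464904 : act 4 n212238 = n203790 := d10_1 D212238 (iv6 D203790) F229128
theorem F464905 : act 5 n212238 = n203462 := d12_1 D212238 (iv6 F451189) (iv5 D208871) (iv6 F371308) F355405
theorem F464906 : act 7 n212238 = n211561 := d14_2 F229139 D212238 F462142 F393628 F390818
theorem F464907 : act 0 n212238 = n164338 := d21_4 F114783 D146869 F355405 D212238 (iv6 D164338) D164337 (iv1 F444078) F444076 F347614 (iv1 D159896)
theorem F464908 : act 0 n211259 = n212238 := d21_4 (iv5 F367082) D194169 F392237 (iv6 F460844) (iv6 D212238) (iv5 F355405) (iv1 F418595) F418592 (iv6 F259007) (iv1 F259009)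
def n212239 : Q := act 6 n145937
theorem D212239 : act 6 n145937 = n212239 := rfl
theorem F464909 : act 2 n212239 = n207410 := d3_1 D212239 F444757 F341546
theorem F464910 : act 3 n212239 = n190458 := d7_1 D212239 F379809 F229160
theorem F464911 : act 4 n212239 = n211551 := d10_1 D212239 F462089 (iv4 F341548)
theorem F464912 : act 5 n212239 = n159988 := d12_1 D212239 F397522 (iv5 F147693) D190501 F379928
theorem F464913 : act 7 n212239 = n151402 := d14_2 (iv7 F229161) D212239 (iv6 D151402) (iv7 F357308) (iv6 F350248)
theorem F464914 : act 0 n212239 = n208292 := d21_4 F353535 F379929 F379928 D212239 (iv6 F448773) (iv5 F427945) F428312 (iv5 D147934) (iv6 F324896) F324893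
theorem F464915 : act 1 n212239 = n199315 := d15_1 (iv0 F464914) (iv7 F411631) (iv2 F448768)
def n212240 : Q := act 4 n145939
theorem D212240 : act 4 n145939 = n212240 := rfl
theorem F464916 : act 2 n212240 = n151666 := d1_1 D212240 (iv4 F355688) (iv2 F355731)
theorem F464917 : act 3 n212240 = n212028 := d5_1 D212240 F464018 F229193 F104636 (iv3 F229170)
theorem F464918 : act 6 n212240 = n189348 := d10_2 F355757 D212240 F376450
theorem F464919 : act 7 n212240 = n151665 := d11_2 (iv7 F229171) D212240 (iv4 F355206)
theorem F464920 : act 5 n212240 = n211517 := d16_1 D212240 (iv4 D211517) F225556 (iv4 F455713) F455714 F426444 (iv5 F416156) F416157 (iv2 F355731)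
theorem F464921 : act 0 n212240 = n151446 := d17_0 F355797 F231750 (iv5 F314514) (iv4 F448383) (iv5 F448384) F343295 D159900 (iv0 F355697) D212240
theorem F464922 : act 1 n212240 = n151669 := d18_6 F462207 F341539 F341538 F229152 D145939 D212240 F238521 F238187 (iv5 F462209)
def n212241 : Q := act 6 n145952
theorem D212241 : act 6 n145952 = n212241 := rfl
theorem F464923 : act 2 n212241 = n201392 := d3_1 D212241 (iv6 D201392) (iv2 F355826)
theorem F464924 : act 3 n212241 = n145954 := d7_1 D212241 (iv6 D145954) (iv3 F229193)
theorem F464925 : act 4 n212241 = n209104 := d10_1 D212241 (iv6 F464019) F464018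
theorem F464926 : act 5 n212241 = n201864 := d12_1 D212241 (iv6 D201864) (iv5 F338626) (iv6 D145953) D145952
def n212242 : Q := act 7 n145954
theorem D212242 : act 7 n145954 = n212242 := rfl
theorem F464927 : act 2 n212242 = n186406 := d4_1 D212242 (iv7 F326240) (iv2 F229196)
theorem F464928 : act 4 n212242 = n186405 := d11_1 D212242 (iv7 F291021) F326237
theorem F464929 : act 5 n212242 = n201868 := d13_1 D212242 (iv7 D201868) (iv5 F338627)
theorem F464930 : act 6 n212242 = n212035 := d14_1 D212242 (iv7 D212035) (iv6 D145023) (iv7 F104635) D145954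
theorem F464931 : act 1 n208035 = n212242 := d15_1 (iv0 F447545) (iv7 D212242) F229196
theorem F464932 : act 1 n212242 = n209040 := d15_1 F464931 F451974 (iv2 F447541)
def n212243 : Q := act 7 n145964
theorem D212243 : act 7 n145964 = n212243 := rfl
theorem F464933 : act 2 n212243 = n212035 := d4_1 D212243 (iv7 D212035) (iv2 F229201)
theorem F464934 : act 3 n212243 = n189242 := d8_1 D212243 F376199 (iv3 F366176)
theorem F464935 : act 4 n212243 = n186407 := d11_1 D212243 (iv7 F366051) (iv4 F229202)
theorem F464936 : act 6 n212243 = n186406 := d14_1 D212243 (iv7 F326240) (iv6 D145025) (iv7 F104641) D145964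
theorem F464937 : act 1 n189224 = n212243 := d15_1 (iv0 F376148) (iv7 D212243) F229201
theorem F464938 : act 1 n212243 = n212034 := d15_1 F464937 F464051 F452306
def n212244 : Q := act 3 n146007
theorem D212244 : act 3 n146007 = n212244 := rfl
theorem F464939 : act 2 n212244 = n187434 := d0_1 D212244 F370304 (iv2 F142396) (iv3 F374040) F374039
theorem F464940 : act 5 n212244 = n201660 := d6_2 (iv5 F338691) D212244 F421286
theorem F464941 : act 6 n212244 = n187431 := d7_2 F338692 D212244 F370303
theorem F464942 : act 7 n212244 = n203464 := d8_2 F339564 D212244 F428418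
theorem F464943 : act 0 n212244 = n159914 := d19_4 D31850 D68450 D146007 D212244 (iv5 F335889) (iv4 F349026) F354893 (iv1 F354896) F251208 (iv4 F346727) F353460 (iv1 F353459) (iv5 F353457) F239889 F131013 (iv1 D33313) F315903 F24393 (iv3 F24628)
def n212245 : Q := act 6 n146013
theorem D212245 : act 6 n146013 = n212245 := rfl
theorem F464944 : act 2 n212245 = n202976 := d3_1 D212245 (iv6 D202976) (iv2 F319320)
theorem F464945 : act 3 n212245 = n151332 := d7_1 D212245 (iv6 F349048) F336785
theorem F464946 : act 4 n212245 = n146014 := d10_1 D212245 (iv6 D146014) D146013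
theorem F464947 : act 7 n212245 = n151328 := d14_2 (iv7 F319322) D212245 (iv6 D151328) F107822 (iv6 F306471)
theorem F464948 : act 0 n212245 = n203716 := d21_4 (iv5 D150139) (iv1 F134125) (iv5 F319321) D212245 (iv6 F429526) D208480 F449548 (iv5 F426552) F426555 F378124
theorem F464949 : act 0 n203715 = n212245 := d21_4 F221798 D156463 F358661 (iv6 F429519) (iv6 D212245) F319321 (iv1 F134124) (iv5 F345989) F233321 (iv1 F345978)
def n212246 : Q := act 6 n146020
theorem D212246 : act 6 n146020 = n212246 := rfl
theorem F464950 : act 2 n212246 = n198528 := d3_1 D212246 (iv6 D198528) (iv2 F229238)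
theorem F464951 : act 3 n212246 = n146021 := d7_1 D212246 (iv6 D146021) D146020
theorem F464952 : act 4 n212246 = n164408 := d10_1 D212246 F331578 (iv4 F229239)
theorem F464953 : act 5 n212246 = n190775 := d12_1 D212246 F443733 (iv5 F443732) F395187 (iv5 F229240)
theorem F464954 : act 7 n212246 = n191122 := d14_2 (iv7 F229241) D212246 F382313 F319840 (iv6 F322987)
theorem F464955 : act 0 n212246 = n208135 := d21_4 F338517 (iv1 F169472) (iv5 F229240) D212246 F448033 F393636 (iv1 F220422) (iv5 F357978) (iv6 D137292) (iv1 F318861)
theorem F464956 : act 0 n164448 = n212246 := d21_4 (iv5 F394931) F394932 (iv5 D164447) D164448 (iv6 D212246) F229240 (iv1 F169473) (iv5 F338519) (iv6 F361668) F379538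
def n212247 : Q := act 4 n146024
theorem D212247 : act 4 n146024 = n212247 := rfl
theorem F464957 : act 2 n212247 = n190345 := d1_1 D212247 (iv4 D190345) (iv2 F366091)
theorem F464958 : act 6 n212247 = n190405 := d10_2 (iv6 F364483) D212247 (iv4 D190405)
theorem F464959 : act 7 n212247 = n190343 := d11_2 (iv7 F366090) D212247 (iv4 D190343)
theorem F464960 : act 5 n212247 = n206238 := d16_1 D212247 F439860 F240876 (iv4 F235617) F235618 F363396 (iv5 F378411) F378414 (iv2 F366091)
theorem F464961 : act 3 n212247 = n206239 := d19_3 F335097 D146024 D212247 F439866 (iv5 F375328) (iv4 F401772) F401771 (iv1 F432454) F432452 F200391 F313630 F246633 (iv5 F42834) (iv4 F87498) (iv3 D55288) D55286 (iv5 F346714) (iv4 F379568) F379567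
def n212248 : Q := act 4 n146164
theorem D212248 : act 4 n146164 = n212248 := rfl
theorem F464962 : act 2 n212248 = n157698 := d1_1 D212248 (iv4 D157698) (iv2 F357687)
theorem F464963 : act 3 n212248 = n190244 := d5_1 D212248 F379169 (iv3 F318118) F355122 F357686
theorem F464964 : act 6 n212248 = n190367 := d10_2 F347825 D212248 F379568
theorem F464965 : act 7 n212248 = n157703 := d11_2 (iv7 F357689) D212248 (iv4 D157703)
theorem F464966 : act 0 n212248 = n190220 := d17_0 (iv5 F379117) (iv1 F382011) (iv5 D191053) (iv4 F347819) (iv5 D148819) (iv0 D69750) (iv5 F104741) D146164 D212248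
def n212249 : Q := act 6 n146165
theorem D212249 : act 6 n146165 = n212249 := rfl
theorem F464967 : act 2 n212249 = n146166 := d3_1 D212249 (iv6 D146166) D146165
theorem F464968 : act 4 n212249 = n190843 := d10_1 D212249 F408268 F408267
theorem F464969 : act 5 n212249 = n197666 := d12_1 D212249 (iv6 D197666) F319277 F113853 (iv5 F229430)
theorem F464970 : act 7 n212249 = n154610 := d14_2 (iv7 F229431) D212249 F359975 (iv7 F192212) F192211
theorem F464971 : act 0 n212249 = n153903 := d21_4 (iv5 F353671) F353667 (iv5 F229430) D212249 F348929 F348926 (iv1 F358023) F358024 (iv6 D145779) (iv1 F354584)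
theorem F464972 : act 0 n154611 = n212249 := d21_4 F134281 (iv1 F303646) F300848 F347848 (iv6 D212249) F229430 (iv1 F347933) F347934 (iv6 D97189) (iv1 F134282)
def n212250 : Q := act 2 n146167
theorem D212250 : act 2 n146167 = n212250 := rfl
theorem F464973 : act 4 n212250 = n146642 := d1_2 F440420 D212250 (iv2 F440416)
theorem F464974 : act 5 n212250 = n202980 := d2_2 F354088 D212250 F426480
theorem F464975 : act 6 n212250 = n147193 := d3_2 (iv6 F354103) D212250 F230768
theorem F464976 : act 7 n212250 = n154605 := d4_2 F462594 D212250 (iv2 F462590)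
theorem F464977 : act 1 n212250 = n157702 := d15_0 (iv0 F462595) F462594 D212250
theorem F464978 : act 1 n148842 = n212250 := d15_0 F464977 (iv7 F357685) F248336
def n212251 : Q := act 0 n146170
theorem D212251 : act 0 n146170 = n212251 := rfl
theorem F464979 : act 5 n212251 = n147322 := d17_1 D212251 F420388 F420384 F350712 (iv5 D86226) D86225 (iv5 F323079) F403580 F403577
theorem F464980 : act 4 n212251 = n212232 := d18_1 D212251 (iv1 F464865) F230739 (iv5 F229412) (iv4 F229857) F252109 F355113 (iv0 F355110) (iv5 F229440)
theorem F464981 : act 3 n212251 = n147326 := d20_5 (iv4 F398523) (iv1 F398525) F330317 D146170 D212251 F357252 D193246 F389309 (iv3 F350797) F332296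
theorem F464982 : act 2 n172169 = n212251 := d15_3 (iv0 D212251) (iv0 F361643) (iv7 F358632)
theorem F464983 : act 6 n212251 = n160718 := d3_2 D172169 F464982 F301006
def n212252 : Q := act 0 n146178
theorem D212252 : act 0 n146178 = n212252 := rfl
theorem F464984 : act 3 n212252 = n195637 := d20_5 (iv4 D76345) F55157 D68547 D146178 D212252 (iv4 D195637) (iv1 D106107) (iv4 F163125) (iv3 D106099) (iv1 F114455)
def n212253 : Q := act 1 n146178
theorem D212253 : act 1 n146178 = n212253 := rfl
theorem F464985 : act 5 n212253 = n159655 := d17_7 (iv1 F218369) F420736 (iv1 D201501) F178742 (iv4 F230159) F335969 D212253 F437827 F437824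
theorem F464986 : act 3 n206938 = n212253 := d20_3 (iv4 D210248) D210246 F456732 (iv1 D212253) (iv3 D146178) (iv4 D68547) (iv1 F55171) D76347 D159581 (iv1 F456734)
def n212254 : Q := act 2 n146178
theorem D212254 : act 2 n146178 = n212254 := rfl
theorem F464987 : act 3 n212254 = n200911 := d0_2 D146178 D212254 F418373 (iv3 F335968) F176964
theorem F464988 : act 5 n212254 = n200911 := d2_2 F335969 D212254 F418373
theorem F464989 : act 6 n200909 = n212254 := d7_0 F464987 (iv6 D200911) D200909
def n212255 : Q := act 6 n146178
theorem D212255 : act 6 n146178 = n212255 := rfl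
theorem F464990 : act 2 n212255 = n200909 := d3_1 D212255 F464989 (iv2 D212254)
theorem F464991 : act 3 n212255 = n146179 := d7_1 D212255 (iv6 D146179) D146178
theorem F464992 : act 4 n212255 = n212254 := d10_1 D212255 (iv6 F464989) F418365
def n212256 : Q := act 1 n146179
theorem D212256 : act 1 n146179 = n212256 := rfl
theorem F464993 : act 1 n212256 = n200912 := d15_1 D212256 F418375 F335966
theorem F464994 : act 4 n212256 = n195632 := d18_7 (iv1 F205610) (iv4 F406849) (iv1 D151248) F107779 (iv5 F104748) (iv4 F229454) D212256 F418701 F418699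
theorem F464995 : act 3 n210278 = n212256 := d5_5 F464994 F397674 (iv4 F394465) (iv3 F456658) (iv4 F456839)
def n212257 : Q := act 5 n146179
theorem D212257 : act 5 n146179 = n212257 := rfl
theorem F464996 : act 2 n212257 = n199460 := d2_1 D212257 F412288 F335966
theorem F464997 : act 6 n212257 = n199460 := d12_2 D146179 D212257 F412288 F335967 F176965
theorem F464998 : act 4 n212257 = n199452 := d16_2 (iv4 F229454) D212257 (iv5 D199452) F361207 (iv5 F411076) F411075 (iv5 F418713) (iv7 D201008) F176968
theorem F464999 : act 0 n212257 = n206931 := d17_2 (iv1 D212256) D212257 (iv5 D206931) (iv4 F218224) F354429 (iv0 D127808) (iv5 F163133) D195632 (iv4 F464994)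
theorem F465000 : act 7 n199467 = n212257 := d11_0 F464998 F412260 D199467
def n212258 : Q := act 7 n146179
theorem D212258 : act 7 n146179 = n212258 := rfl
theorem F465001 : act 2 n212258 = n200912 := d4_1 D212258 F418375 F335966
theorem F465002 : act 4 n212258 = n146182 := d11_1 D212258 (iv7 D146182) (iv4 F229454)
theorem F465003 : act 5 n212258 = n199467 := d13_1 D212258 F465000 (iv5 D212257)
theorem F465004 : act 6 n212258 = n207637 := d14_1 D212258 F445795 (iv6 D201010) F176970 D146179
def n212259 : Q := act 4 n146180
theorem D212259 : act 4 n146180 = n212259 := rfl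
theorem F465005 : act 3 n212259 = n199068 := d5_1 D212259 F410527 F409964 (iv4 F396013) F405876
theorem F465006 : act 7 n212259 = n199479 := d11_2 F418705 D212259 (iv4 F418708)
theorem F465007 : act 5 n212259 = n199067 := d16_1 D212259 F410523 F171820 F81054 (iv5 F164793) (iv4 F370731) (iv5 F370734) (iv7 F405869) F405867
theorem F465008 : act 1 n212259 = n201003 := d18_6 F439845 F420201 (iv1 F400500) D197804 F405842 D212259 F418687 D201005 (iv5 F439844)
def n212260 : Q := act 4 n146181
theorem D212260 : act 4 n146181 = n212260 := rfl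
theorem F465009 : act 2 n212260 = n199479 := d1_1 D212260 (iv4 F418708) F418707
theorem F465010 : act 3 n212260 = n206966 := d5_1 D212260 (iv4 F449859) F449857 F288113 (iv3 F370733)
theorem F465011 : act 5 n212260 = n199470 := d9_2 (iv5 F370734) D212260 (iv4 D199470) (iv5 D111346) F81050 D108679 D197804 F405842 D212259 F465007 F410523 F171820 F81054 (iv5 F164793) (iv4 F370731)
theorem F465012 : act 6 n212260 = n185789 := d10_2 (iv6 F370735) D212260 (iv4 D185789)
theorem F465013 : act 0 n212260 = n201003 := d18_2 (iv1 F418715) D212260 F418687 F176963 (iv4 F178313) (iv0 F339986) F363672 F178418 (iv5 F418713)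
def n212261 : Q := act 3 n146323
theorem D212261 : act 3 n146323 = n212261 := rfl
theorem F465014 : act 2 n212261 = n210145 := d0_1 D212261 F456343 (iv2 F398146) F203043 F229661
theorem F465015 : act 4 n212261 = n194035 := d5_2 (iv4 F229660) D212261 F391823 (iv4 D113915) (iv3 F104859)
theorem F465016 : act 5 n212261 = n147974 := d6_2 F229664 D212261 (iv3 D147974)
theorem F465017 : act 6 n212261 = n208969 := d7_2 F359587 D212261 (iv3 F451624)
theorem F465018 : act 7 n212261 = n201087 := d8_2 (iv7 F229663) D212261 (iv3 D201087)
theorem F465019 : act 0 n146636 = n212261 := d20_4 (iv4 F446943) (iv1 F452057) F230243 (iv3 F229932) (iv3 D212261) F229660 (iv1 F104857) D68655 (iv3 F335972) F419026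
theorem F465020 : act 0 n212261 = n209737 := d21_7 (iv5 F428094) F355207 F355811 (iv6 D151707) D151705 F356693 (iv5 F465016) F454797 F428120 (iv1 F428091)
def n212262 : Q := act 3 n146331
theorem D212262 : act 3 n146331 = n212262 := rfl
theorem F465021 : act 2 n212262 = n201429 := d0_1 D212262 F420478 F178554 (iv3 F349239) (iv2 F349242)
theorem F465022 : act 4 n212262 = n152540 := d5_2 D146331 D212262 (iv3 D152540) (iv4 D71944) (iv3 F104822)
theorem F465023 : act 5 n212262 = n189624 := d6_2 F335905 D212262 F377154
theorem F465024 : act 6 n212262 = n146378 := d7_2 (iv6 F335902) D212262 F229705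
theorem F465025 : act 7 n212262 = n151351 := d8_2 (iv7 F229671) D212262 (iv3 D151351)
theorem F465026 : act 0 n188617 = n212262 := d21_4 F420660 F247866 D207217 F443853 F465024 (iv5 D146378) (iv1 F319125) (iv5 F178738) F356871 D201479
def n212263 : Q := act 6 n146332
theorem D212263 : act 6 n146332 = n212263 := rfl
theorem F465027 : act 2 n212263 = n155580 := d3_1 D212263 (iv6 F366607) (iv2 F229819)
theorem F465028 : act 5 n212263 = n207404 := d12_1 D212263 F444720 F383040 F316813 D146332
theorem F465029 : act 7 n212263 = n151366 := d14_2 F314511 D212263 (iv6 D151366) F107838 (iv6 F161814)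
theorem F465030 : act 0 n212263 = n155579 := d21_4 (iv5 D68635) (iv1 F104824) D146332 D212263 F421589 F231788 (iv1 F229655) (iv5 F439435) (iv6 F439440) F204905
theorem F465031 : act 0 n155578 = n212263 := d21_4 (iv5 F421209) (iv1 F395946) (iv5 F452322) (iv6 F452323) (iv6 D212263) (iv5 D146332) (iv1 D68620) D68622 D146341 F421207
def n212264 : Q := act 6 n146339
theorem D212264 : act 6 n146339 = n212264 := rfl
theorem F465032 : act 5 n212264 = n201606 := d12_1 D212264 (iv6 D201606) (iv5 D114880) (iv6 F319824) (iv5 F229678)
def n212265 : Q := act 5 n146348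
theorem D212265 : act 5 n146348 = n212265 := rfl
theorem F465033 : act 2 n212265 = n148594 := d2_1 D212265 (iv5 D148594) (iv2 F327713)
theorem F465034 : act 3 n212265 = n201848 := d6_1 D212265 F422044 F357771
theorem F465035 : act 4 n212265 = n195149 := d9_1 D212265 F396004 F390218 (iv5 D139493) (iv4 F320790) (iv5 D117906) D117905 D203162 F427242 (iv5 F390339) F390323 (iv5 F424455) F424454 F363469 D146348
theorem F465036 : act 7 n212265 = n208987 := d13_2 F426270 D212265 F451716
theorem F465037 : act 1 n212265 = n195572 := d17_6 (iv1 D105436) D105437 (iv1 F363467) F363469 D146348 D212265 F397403 (iv0 F396336) (iv4 D195220)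
theorem F465038 : act 6 n212265 = n201847 := d21_3 (iv5 D147959) (iv1 F339600) D212265 F451228 F463941 F463939 (iv1 D207409) (iv5 F367657) (iv6 F398341) F398342
def n212266 : Q := act 6 n146348
theorem D212266 : act 6 n146348 = n212266 := rfl
theorem F465039 : act 2 n212266 = n148595 := d3_1 D212266 (iv6 D148595) (iv2 F327713)
theorem F465040 : act 4 n212266 = n146350 := d10_1 D212266 (iv6 D146350) D146348
theorem F465041 : act 5 n212266 = n203934 := d12_1 D212266 (iv6 D203934) (iv5 F422037) (iv6 F465038) (iv5 D212265)
theorem F465042 : act 7 n212266 = n170545 := d14_2 F426270 D212266 F361071 (iv7 F349077) (iv6 F426269)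
theorem F465043 : act 0 n212266 = n147989 := d21_4 (iv5 F397403) (iv1 F465037) (iv5 D212265) D212266 (iv6 D147989) D147988 (iv1 F355690) (iv5 F355732) (iv6 F396334) F396336
theorem F465044 : act 0 n170543 = n212266 := d17_0 F465041 F430473 (iv5 D146556) F104898 F104729 D107974 D197203 F403510 (iv4 F354306)
def n212267 : Q := act 5 n146358
theorem D212267 : act 5 n146358 = n212267 := rfl
theorem F465045 : act 2 n212267 = n210838 := d2_1 D212267 F458958 F426273
theorem F465046 : act 7 n212267 = n210839 := d13_2 F434398 D212267 F458964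
theorem F465047 : act 4 n212267 = n177961 := d16_2 D146358 D212267 (iv5 F431880) F431879 (iv5 F420830) F420829 F232250 F233005 F183684
theorem F465048 : act 0 n212267 = n210840 := d17_2 (iv1 F425103) D212267 F458967 F223177 (iv5 F223188) F341092 F182660 (iv0 F319705) (iv4 F425100)
theorem F465049 : act 1 n212267 = n202580 := d17_6 (iv1 F324379) (iv5 D117906) (iv1 F326376) D68626 D146358 D212267 (iv5 D202580) D202579 F424595
theorem F465050 : act 6 n177959 = n212267 := d10_0 F465047 (iv6 D177961) D177959
def n212268 : Q := act 2 n146360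
theorem D212268 : act 2 n146360 = n212268 := rfl
theorem F465051 : act 3 n212268 = n189166 := d0_2 D146360 D212268 F375919 F352997 F183692
theorem F465052 : act 6 n212268 = n199379 := d3_2 F457458 D212268 F457460
theorem F465053 : act 7 n212268 = n151380 := d4_2 (iv7 F229688) D212268 (iv2 D151380)
theorem F465054 : act 1 n212268 = n151378 := d15_0 (iv0 D151378) (iv7 F229688) D212268
theorem F465055 : act 1 n151379 = n212268 := d15_0 F465054 (iv7 F349223) (iv2 F349219)
theorem F465056 : act 5 n191157 = n212268 := d17_5 F154106 D192414 F386680 F367031 D191157 F465054 F349225 F158454 (iv4 D103205)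
def n212269 : Q := act 5 n146360
theorem D212269 : act 5 n146360 = n212269 := rfl
theorem F465057 : act 2 n212269 = n191157 := d2_1 D212269 F465056 (iv2 D212268)
theorem F465058 : act 3 n212269 = n146361 := d6_1 D212269 (iv5 D146361) D146360
theorem F465059 : act 7 n212269 = n151381 := d13_2 (iv7 F229688) D212269 (iv5 D151381)
theorem F465060 : act 4 n212269 = n187360 := d17_4 F157779 D100862 (iv1 F365254) D212269 F369957 (iv0 F360496) (iv5 D100170) D100169 (iv4 F157781)
theorem F465061 : act 1 n212269 = n210714 := d17_8 (iv1 F379039) (iv5 D112024) D112022 F358508 (iv4 F159264) (iv5 F329911) (iv0 F365253) D212269 F458544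
theorem F465062 : act 6 n212269 = n205259 := d21_3 D100862 (iv1 F365254) D212269 F435643 (iv6 F420765) (iv5 D201506) (iv1 D114646) D114648 (iv6 F335404) F157779
theorem F465063 : act 1 n191331 = n212269 := d15_0 F465061 F458543 (iv2 F383075)
def n212270 : Q := act 6 n146361
theorem D212270 : act 6 n146361 = n212270 := rfl
theorem F465064 : act 3 n212270 = n205259 := d7_1 D212270 (iv6 F465062) F465058
theorem F465065 : act 4 n212270 = n188508 := d10_1 D212270 (iv6 F375153) F375151
theorem F465066 : act 5 n212270 = n177959 := d12_1 D212270 F465050 (iv5 D212267) F229685 D146361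
theorem F465067 : act 7 n212270 = n189623 := d14_2 (iv7 F229689) D212270 (iv6 D189623) (iv7 F356580) (iv6 D151383)
theorem F465068 : act 0 n212270 = n210113 := d21_4 (iv5 F335920) F166784 D146361 D212270 F456219 (iv5 D193017) (iv1 F387114) F385313 (iv6 F349197) (iv1 F335925)
def n212271 : Q := act 6 n146362
theorem D212271 : act 6 n146362 = n212271 := rfl
theorem F465069 : act 2 n212271 = n209793 := d3_1 D212271 (iv6 F454977) F397397
theorem F465070 : act 3 n212271 = n210217 := d7_1 D212271 (iv6 D210217) (iv3 F229690)
theorem F465071 : act 4 n212271 = n146363 := d10_1 D212271 (iv6 D146363) D146362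
theorem F465072 : act 7 n212271 = n209738 := d14_2 (iv7 F229691) D212271 (iv6 D209738) (iv7 F452686) F452689
theorem F465073 : act 0 n195155 = n212271 := d21_4 D209098 F452247 (iv5 F335168) (iv6 F396001) (iv6 D212271) (iv5 F434418) F434420 (iv5 D146484) (iv6 F366216) F366214
theorem F465074 : act 1 n195154 = n212271 := d15_0 (iv0 F465073) F396002 (iv2 F395999)
def n212272 : Q := act 7 n146363
theorem D212272 : act 7 n146363 = n212272 := rfl
theorem F465075 : act 3 n212272 = n175630 := d8_1 D212272 F371118 F371115
theorem F465076 : act 4 n212272 = n209738 := d11_1 D212272 (iv7 F465072) F465071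
theorem F465077 : act 5 n212272 = n146574 := d13_1 D212272 F359206 (iv5 F229694)
theorem F465078 : act 6 n212272 = n209737 := d14_1 D212272 F454796 (iv6 D195570) F162397 D146363
theorem F465079 : act 1 n203162 = n212272 := d15_1 (iv0 F427243) (iv7 D212272) (iv2 F397401)
theorem F465080 : act 1 n212272 = n212265 := d15_1 F465079 F465036 F451713
def n212273 : Q := act 5 n146372
theorem D212273 : act 5 n146372 = n212273 := rfl
theorem F465081 : act 2 n212273 = n186490 := d2_1 D212273 (iv5 F422044) F422040
theorem F465082 : act 3 n212273 = n170548 := d6_1 D212273 (iv5 F398011) (iv3 F398015)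
theorem F465083 : act 4 n212273 = n186456 := d9_1 D212273 (iv5 D186456) (iv4 F151729) D191405 F383374 F357754 F349026 F335889 F356613 (iv5 D186459) (iv4 F349053) (iv5 F431668) F431667 (iv5 F233477) F349019
theorem F465084 : act 6 n212273 = n170546 := d12_2 (iv6 F349018) D212273 (iv5 D170546) (iv6 F349012) F349011
theorem F465085 : act 7 n212273 = n186501 := d13_2 F349022 D212273 F349055
theorem F465086 : act 0 n212273 = n212244 := d17_2 D146372 D212273 F464940 (iv4 F452076) F452077 (iv0 F428419) F349055 (iv0 F339458) F229702
def n212274 : Q := act 4 n146378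
theorem D212274 : act 4 n146378 = n212274 := rfl
theorem F465087 : act 2 n212274 = n201428 := d1_1 D212274 (iv4 D201428) (iv2 F366489)
theorem F465088 : act 3 n212274 = n152542 := d5_1 D212274 F239725 (iv3 F335900) F229665 (iv3 F229705)
theorem F465089 : act 6 n212274 = n152540 := d10_2 F465024 D212274 (iv4 F465022)
theorem F465090 : act 7 n212274 = n201495 := d11_2 (iv7 F366603) D212274 (iv4 D201495)
theorem F465091 : act 0 n212274 = n199045 := d17_0 (iv5 D199045) F410420 F410418 (iv4 F387681) F349969 F349971 D201538 F420893 D212274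
def n212275 : Q := act 0 n146401
theorem D212275 : act 0 n146401 = n212275 := rfl
theorem F465092 : act 5 n212275 = n147932 := d19_1 D212275 F347725 F347726 (iv1 D122641) (iv5 F350733) D135195 (iv3 F362325) (iv1 F216768) F169166 (iv4 F204070) F204069 (iv1 F165418) F323657 (iv4 F209554) (iv3 F327874) (iv1 D117335) D117337 F183745 (iv3 F229723)
theorem F465093 : act 3 n212275 = n188991 := d20_5 (iv4 F397536) F397538 F183745 (iv3 F229723) D212275 (iv4 F412464) (iv1 F412853) F412850 F426252 (iv1 D202933)
theorem F465094 : act 2 n203463 = n212275 := d15_3 (iv0 D212275) (iv0 F464075) F464074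
theorem F465095 : act 7 n212275 = n188986 := d4_2 F464074 F465094 (iv2 F464071)
def n212276 : Q := act 0 n146403
theorem D212276 : act 0 n146403 = n212276 := rfl
theorem F465096 : act 5 n212276 = n188297 := d17_3 (iv1 F375790) F375787 D212276 (iv4 F374476) (iv5 D188689) F294597 D183025 F370994 (iv4 F374477)
theorem F465097 : act 1 n146567 = n212276 := d15_0 (iv0 D212276) (iv7 F356764) (iv2 F356640)
theorem F465098 : act 2 n146564 = n212276 := d2_3 F465096 (iv2 F374469) F371023
theorem F465099 : act 7 n146565 = n212276 := d13_0 F465096 (iv7 F374471) (iv5 F373012)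
def n212277 : Q := act 1 n146403
theorem D212277 : act 1 n146403 = n212277 := rfl
theorem F465100 : act 1 n212277 = n146567 := d15_1 D212277 (iv7 D146567) (iv2 F229725)
theorem F465101 : act 7 n212277 = n146564 := d15_2 (iv0 D212276) D212277 F465098
theorem F465102 : act 5 n212277 = n188296 := d17_7 D91215 F294991 (iv1 F294793) (iv5 F295022) (iv4 F375786) F375787 D212277 (iv0 D188296) F140230
theorem F465103 : act 2 n146565 = n212277 := d2_3 F465102 F374470 (iv5 F373012)
def n212278 : Q := act 0 n146406
theorem D212278 : act 0 n146406 = n212278 := rfl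
theorem F465104 : act 5 n212278 = n202882 := d17_3 (iv1 D146405) D146406 D212278 (iv4 D202882) (iv5 D117164) F243195 (iv5 F114765) F243202 (iv4 F229733)
theorem F465105 : act 2 n146575 = n212278 := d15_3 (iv0 D212278) (iv0 F355812) (iv7 F392652)
theorem F465106 : act 7 n212278 = n146576 := d4_2 (iv7 F392652) F465105 (iv2 F355809)
theorem F465107 : act 1 n146578 = n212278 := d15_1 F355813 F465106 (iv2 F355809)
def n212279 : Q := act 7 n146406
theorem D212279 : act 7 n146406 = n212279 := rfl
theorem F465108 : act 2 n212279 = n146578 := d4_1 D212279 (iv7 D146578) (iv2 F229734)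
theorem F465109 : act 3 n212279 = n151336 := d8_1 D212279 (iv7 F427769) F427768
theorem F465110 : act 5 n212279 = n146407 := d13_1 D212279 (iv7 D146407) D146406
theorem F465111 : act 6 n212279 = n208997 := d14_1 D212279 (iv7 F451762) F371406 (iv7 F375789) F375788
theorem F465112 : act 1 n146576 = n212279 := d15_1 D146576 (iv7 D212279) F229734
theorem F465113 : act 1 n212279 = n146575 := d15_1 F465112 F392652 F355809
def n212280 : Q := act 0 n146418
theorem D212280 : act 0 n146418 = n212280 := rfl
theorem F465114 : act 5 n212280 = n189662 := d17_3 (iv1 D207405) (iv5 F229748) D212280 (iv4 F452281) (iv5 F452280) F439078 (iv5 F444745) (iv0 F444747) (iv4 F444728)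
theorem F465115 : act 4 n212280 = n209047 := d20_2 (iv4 F359588) D212280 F452009 (iv1 F218127) F365385 (iv4 D63841) (iv1 D30118) (iv4 F48407) (iv3 F99230) D135754
theorem F465116 : act 3 n212280 = n159583 := d20_5 F374710 F367980 (iv4 F367979) (iv3 F229747) D212280 (iv4 F447092) (iv1 F447096) (iv4 F437453) (iv3 F374719) (iv1 F374721)
theorem F465117 : act 6 n212280 = n187738 := d21_5 F85343 (iv1 F55196) (iv5 F104855) D146418 D212280 (iv5 D187738) (iv1 D90521) (iv5 F85347) (iv6 D54079) D54077
theorem F465118 : act 2 n187743 = n212280 := d15_3 (iv0 D212280) (iv0 F422121) F422120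
theorem F465119 : act 1 n195169 = n212280 := d15_0 (iv0 D212280) (iv7 F394473) (iv2 F396072)
theorem F465120 : act 7 n212280 = n195168 := d15_2 F422122 F465119 (iv2 F422118)
def n212281 : Q := act 3 n146438
theorem D212281 : act 3 n146438 = n212281 := rfl
theorem F465121 : act 4 n212281 = n195573 := d5_2 (iv4 F229781) D212281 (iv3 D195573) (iv4 D105751) (iv3 F162407)
theorem F465122 : act 6 n212281 = n209079 := d7_2 F355834 D212281 (iv3 D209079)
theorem F465123 : act 7 n212281 = n206137 := d8_2 (iv7 F229780) D212281 (iv3 D206137)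
def n212282 : Q := act 6 n146446
theorem D212282 : act 6 n146446 = n212282 := rfl
theorem F465124 : act 2 n212282 = n155579 := d3_1 D212282 F421589 F231787
theorem F465125 : act 3 n212282 = n201507 := d7_1 D212282 (iv6 F452345) F452342
theorem F465126 : act 4 n212282 = n146544 := d10_1 D212282 (iv6 D146544) (iv4 F229786)
theorem F465127 : act 5 n212282 = n194187 := d12_1 D212282 F398986 (iv5 F398985) (iv6 D146447) D146446
theorem F465128 : act 7 n212282 = n155578 := d14_2 F231782 D212282 F452323 (iv7 D209114) F363821
theorem F465129 : act 0 n212282 = n151366 := d21_4 F419285 (iv1 F229776) D146446 D212282 (iv6 D151366) (iv5 D71349) F52190 D52786 D114384 F419287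
theorem F465130 : act 0 n155580 = n212282 := d21_4 (iv5 D117305) (iv1 F114746) (iv5 F229817) F366607 (iv6 D212282) (iv5 D146446) (iv1 F229779) (iv5 F420226) F426253 (iv1 D202933)
def n212283 : Q := act 5 n146449
theorem D212283 : act 5 n146449 = n212283 := rfl
theorem F465131 : act 2 n212283 = n208192 := d2_1 D212283 F448301 F426305
theorem F465132 : act 4 n212283 = n189520 := d16_6 F179343 D135756 (iv4 F451647) (iv5 D208973) F364743 D212283 F376792 D194000 F391712
theorem F465133 : act 6 n212283 = n189519 := d21_3 (iv5 F426308) (iv1 F426310) D212283 F376788 F238561 (iv5 D93893) (iv1 F294848) D188166 (iv6 F372534) F372536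
def n212284 : Q := act 6 n146455
theorem D212284 : act 6 n146455 = n212284 := rfl
theorem F465134 : act 2 n212284 = n147976 := d3_1 D212284 F356767 (iv2 F231800)
theorem F465135 : act 4 n212284 = n146494 := d10_1 D212284 (iv6 D146494) (iv4 F229790)
theorem F465136 : act 0 n212284 = n147979 := d21_4 (iv5 F183699) F183700 D146455 D212284 (iv6 F350244) F162653 (iv1 F77258) D68619 (iv6 F335901) F229666
theorem F465137 : act 0 n147937 = n212284 := d21_4 F183791 (iv1 F85580) D69308 D147937 (iv6 D212284) (iv5 D146455) (iv1 D68663) D68665 F335880 D117357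
theorem F465138 : act 7 n147977 = n212284 := d15_2 (iv0 D147976) D147977 F465134
def n212285 : Q := act 5 n146456
theorem D212285 : act 5 n146456 = n212285 := rfl
theorem F465139 : act 2 n212285 = n208977 := d2_1 D212285 F451661 F364329
theorem F465140 : act 3 n212285 = n196140 := d6_1 D212285 (iv5 F447456) F447454
theorem F465141 : act 4 n212285 = n197044 := d9_1 D212285 (iv5 F451998) F451999 (iv5 F403340) (iv4 F422023) (iv5 D201844) F179235 D135518 (iv4 F364269) D207237 (iv4 F443922) (iv5 F451655) (iv4 F451656) (iv5 F397375) F397374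
theorem F465142 : act 7 n212285 = n208967 := d13_2 (iv7 F364328) D212285 (iv5 D208967)
theorem F465143 : act 0 n212285 = n208976 := d17_2 (iv1 F364330) D212285 F451655 F443922 (iv5 D207237) (iv0 F372535) F165949 D146449 (iv4 F364743)
theorem F465144 : act 1 n212285 = n197162 := d17_6 D135754 D209101 F452266 (iv5 F397375) F397374 D212285 F403340 (iv0 F363718) F179343
def n212286 : Q := act 5 n146457
theorem D212286 : act 5 n146457 = n212286 := rfl
theorem F465145 : act 4 n212286 = n147598 := d16_2 (iv4 F409941) D212286 (iv5 D147598) (iv4 D69176) D69177 (iv4 F176842) F401531 (iv7 F417887) F417885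
theorem F465146 : act 1 n212286 = n205555 := d17_6 F417856 (iv5 F415206) F415212 (iv5 F409940) (iv4 F409941) D212286 (iv5 D205555) F417299 (iv4 F417855)
def n212287 : Q := act 5 n146458
theorem D212287 : act 5 n146458 = n212287 := rfl
theorem F465147 : act 3 n212287 = n201366 := d6_1 D212287 (iv5 F452187) F452188
theorem F465148 : act 4 n212287 = n153315 := d9_1 D212287 (iv5 D153315) (iv4 F206189) F311877 (iv4 F409937) (iv5 F409940) (iv4 F409941) D212286 F465145 (iv5 D147598) (iv4 D69176) D69177 (iv4 F176842) F401531 F401530
theorem F465149 : act 0 n212287 = n205555 := d17_2 (iv1 F426324) D212287 (iv5 D205555) (iv4 D126279) F93396 D105186 (iv5 F176589) F202952 (iv4 F426320)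
theorem F465150 : act 6 n212287 = n153319 := d21_3 (iv5 F426321) (iv1 F426324) D212287 (iv1 F383116) F383114 (iv5 D127796) (iv1 F94487) D106258 (iv6 F398149) (iv1 F398151)
def n212288 : Q := act 6 n146458
theorem D212288 : act 6 n146458 = n212288 := rfl
theorem F465151 : act 3 n212288 = n208108 := d7_1 D212288 (iv6 F452189) F452188
theorem F465152 : act 5 n212288 = n196161 := d12_1 D212288 F399660 F379467 (iv6 F465150) (iv5 D212287)
theorem F465153 : act 0 n190451 = n212288 := d17_2 F399896 D190451 F465152 (iv4 F399663) F379469 (iv0 F379306) (iv5 D96025) D96024 D190429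
theorem F465154 : act 0 n212288 = n208974 := d21_1 (iv5 F465152) (iv5 F451651) (iv6 D196185) (iv1 D106735) (iv6 D49322) (iv5 D24071) D24068 D49311 D106713 D196161
def n212289 : Q := act 4 n146460
theorem D212289 : act 4 n146460 = n212289 := rfl
theorem F465155 : act 2 n212289 = n188308 := d1_1 D212289 (iv4 F420061) F420060
theorem F465156 : act 3 n212289 = n203341 := d5_1 D212289 F427955 F426288 F183705 (iv3 F229793)
theorem F465157 : act 5 n212289 = n147593 := d9_2 D146460 D212289 (iv4 D147593) (iv5 F231073) (iv4 D126199) D126200 (iv4 F426320) F426321 F373030 F356633 F356630 F105457 F82715 D52343 (iv4 F104875)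
theorem F465158 : act 6 n212289 = n188293 := d10_2 F356759 D212289 F372997
theorem F465159 : act 7 n212289 = n183181 := d11_2 (iv7 F356636) D212289 F284796
theorem F465160 : act 0 n212289 = n188310 := d18_2 (iv1 F420064) D212289 F420454 F420452 (iv4 D200639) (iv0 D113307) D113309 D200644 (iv5 F420063)
theorem F465161 : act 1 n212289 = n188309 := d15_0 (iv0 D188309) (iv7 F373050) (iv2 F465155)
def n212290 : Q := act 1 n146482
theorem D212290 : act 1 n146482 = n212290 := rfl
theorem F465162 : act 1 n212290 = n195156 := d15_1 D212290 F396011 (iv2 F229807)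
theorem F465163 : act 7 n212290 = n195157 := d15_2 (iv0 F369360) D212290 (iv2 F396014)
theorem F465164 : act 4 n212290 = n209215 := d17_9 (iv1 F452744) (iv5 D136875) (iv1 D64343) D64345 D136881 D209744 (iv0 F454822) F239985 D212290
theorem F465165 : act 3 n201007 = n212290 := d19_19 (iv1 D212290) (iv5 F239985) (iv4 F372991) (iv3 F372990) (iv1 D141203) D141204 (iv4 F425062) F425061 (iv1 D188323) (iv5 F361655) (iv4 D118756) D118755 F283569 F107032 (iv4 F179164) (iv3 F421739) (iv1 D199478) D199479 (iv4 F418708)
theorem F465166 : act 5 n187927 = n212290 := d21_6 (iv5 F114182) F94172 F86493 (iv6 F143065) (iv1 F157684) D187927 (iv1 D212290) (iv5 F239985) (iv6 D152772) (iv1 F114181)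
theorem F465167 : act 2 n212290 = n185876 := d2_1 F465166 F288339 (iv2 F371855)
theorem F465168 : act 6 n185874 = n212290 := d3_0 F465167 (iv6 D185876) D185874
def n212291 : Q := act 1 n146494
theorem D212291 : act 1 n146494 = n212291 := rfl
theorem F465169 : act 7 n212291 = n188650 := d15_2 (iv0 F335906) D212291 F374309
theorem F465170 : act 6 n188895 = n212291 := d21_3 (iv5 D146426) (iv1 F335942) (iv5 F375159) (iv1 D212291) (iv6 D146494) (iv5 D68675) (iv1 F94346) D127476 F439440 F439437
theorem F465171 : act 5 n189354 = n212291 := d21_6 F340687 (iv1 F313232) (iv5 F340679) F349255 (iv1 F402806) (iv6 F402810) (iv1 D212291) (iv5 F398868) (iv6 D195961) (iv1 F193594)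
theorem F465172 : act 3 n212291 = n188654 := d6_1 F465171 F374317 (iv3 F376454)
theorem F465173 : act 4 n212291 = n212263 := d20_6 (iv4 F293369) (iv1 F371973) (iv4 D187967) F376566 (iv1 F374321) (iv3 F465172) F465030 F421588 (iv3 F387760) (iv1 D100716)
def n212292 : Q := act 7 n146494
theorem D212292 : act 7 n146494 = n212292 := rfl
theorem F465174 : act 3 n212292 = n195979 := d8_1 D212292 F398940 (iv3 F366037)
theorem F465175 : act 4 n212292 = n147977 := d11_1 D212292 F465138 F465135
theorem F465176 : act 5 n212292 = n151650 := d13_1 D212292 (iv7 F398869) F398868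
theorem F465177 : act 6 n212292 = n151653 := d14_1 D212292 F420511 (iv6 D201437) (iv7 F324273) D146494
theorem F465178 : act 0 n188650 = n212292 := d21_4 (iv5 F360969) (iv1 D93908) (iv5 F142663) D188650 F465177 (iv5 D151653) D151651 F238512 (iv6 F360958) (iv1 D151350)
def n212293 : Q := act 5 n146520
theorem D212293 : act 5 n146520 = n212293 := rfl
theorem F465179 : act 2 n212293 = n151654 := d2_1 D212293 (iv5 F420510) F420508
theorem F465180 : act 3 n212293 = n155473 := d6_1 D212293 F420722 F420720
theorem F465181 : act 6 n212293 = n146523 := d12_2 D146520 D212293 (iv5 D146523) (iv6 D68684) D68683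
theorem F465182 : act 7 n212293 = n151443 := d13_2 F421500 D212293 (iv5 F421497)
theorem F465183 : act 0 n212293 = n151565 := d17_2 (iv1 F420513) D212293 F238437 (iv4 F452313) (iv5 D209112) (iv0 D135782) D135784 (iv0 F428267) (iv4 D201630)
theorem F465184 : act 1 n212293 = n151651 := d17_6 F360982 (iv5 F398030) F398031 D209084 F452175 D212293 F238512 F238461 (iv4 F237334)
theorem E103984 : n151652 = n151565 := (c15_1 D151652 (iv0 F465183) F465182 F335453)
theorem F465185 : act 0 n151565 = n71472 := (sb E103984 (iv1 D151652))
def n212294 : Q := act 4 n146523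
theorem D212294 : act 4 n146523 = n212294 := rfl
theorem F465186 : act 2 n212294 = n203914 := d1_1 D212294 (iv4 D203914) (iv2 F364428)
theorem F465187 : act 3 n212294 = n185247 := d5_1 D212294 (iv4 F446321) F446318 (iv4 F420773) F420772
theorem F465188 : act 7 n212294 = n151629 := d11_2 (iv7 F364429) D212294 F238497
def n212295 : Q := act 0 n146536
theorem D212295 : act 0 n146536 = n212295 := rfl
theorem F465189 : act 5 n212295 = n175490 := d17_1 D212295 (iv1 D175490) (iv5 D83797) (iv4 F128756) D175210 F357751 (iv5 D133316) F329020 D146536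
theorem F465190 : act 4 n212295 = n170024 := d18_1 D212295 F334135 (iv4 F403495) (iv5 F431636) F431637 (iv0 D203908) (iv4 F338147) F338139 (iv5 F338136)
theorem F465191 : act 2 n152004 = n212295 := d15_3 (iv0 D212295) (iv0 F444982) F444981
theorem F465192 : act 1 n152007 = n212295 := d15_0 (iv0 D212295) (iv7 F338137) F338060
theorem F465193 : act 7 n212295 = n152005 := d15_2 F444983 F465192 (iv2 F444979)
theorem F465194 : act 6 n170022 = n212295 := d14_5 F465193 F459079 (iv7 D210869) F340975 (iv7 F340971)
def n212296 : Q := act 4 n146539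
theorem D212296 : act 4 n146539 = n212296 := rfl
theorem F465195 : act 2 n212296 = n175939 := d1_1 D212296 F342076 F353823
theorem F465196 : act 3 n212296 = n175352 := d5_1 D212296 (iv4 F383404) (iv3 F462237) F462236 F419455
theorem F465197 : act 6 n212296 = n152221 := d10_2 (iv6 F353822) D212296 F335516
theorem F465198 : act 7 n212296 = n197091 := d11_2 F353824 D212296 F403009
theorem F465199 : act 5 n212296 = n197205 := d17_5 D33234 D71928 D152494 (iv5 F353821) D212296 (iv0 D197205) F347796 (iv0 D71921) F52466
theorem F465200 : act 0 n212296 = n173517 := d17_0 (iv5 F354831) (iv1 F354830) F239663 F108434 (iv5 F108442) (iv0 F354438) (iv5 D146542) D146539 D212296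
theorem F465201 : act 0 n164283 = n212296 := d20_10 (iv4 D212296) (iv1 D146539) D146541 F229853 (iv1 F105140) F82052 F82053 (iv1 F82846) (iv4 F166919) (iv3 F354603)
def n212297 : Q := act 6 n146540
theorem D212297 : act 6 n146540 = n212297 := rfl
theorem F465202 : act 2 n212297 = n146543 := d3_1 D212297 (iv6 D146543) D146540
theorem F465203 : act 3 n212297 = n194173 := d7_1 D212297 F392250 F252110
theorem F465204 : act 5 n212297 = n194172 := d12_1 D212297 F444355 (iv5 F444353) (iv6 D152518) (iv5 F346145)
theorem F465205 : act 7 n212297 = n164274 := d14_2 (iv7 F353819) D212297 (iv6 D164274) (iv7 F323424) D78922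
theorem F465206 : act 0 n212297 = n152366 := d21_4 D33236 D71935 (iv5 F346145) D212297 (iv6 D152366) D152365 F239689 (iv5 D152512) (iv6 D71934) (iv1 D33235)
theorem F465207 : act 0 n164330 = n212297 := d21_4 D114210 (iv1 F419695) F419697 F398524 (iv6 D212297) F346145 (iv1 F239361) F239358 (iv6 F177984) (iv1 F177986)
def n212298 : Q := act 4 n146542
theorem D212298 : act 4 n146542 = n212298 := rfl
theorem F465208 : act 2 n212298 = n152516 := d1_1 D212298 (iv4 D152516) (iv2 F346142)
theorem F465209 : act 3 n212298 = n203459 := d5_1 D212298 (iv4 F452343) F452342 F229786 (iv3 F229855)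
theorem F465210 : act 7 n212298 = n152521 := d11_2 (iv7 F346143) D212298 (iv4 D152521)
theorem F465211 : act 1 n212298 = n201486 := d18_6 (iv1 F430354) F420886 F352067 (iv4 D146541) D146542 D212298 (iv4 D201486) D201485 (iv5 F430352)
theorem F465212 : act 6 n173495 = n212298 := d7_0 F465209 (iv6 D203459) (iv3 F366726)
theorem F465213 : act 5 n212298 = n208936 := d12_1 F465212 (iv6 D208936) (iv5 F354649) (iv6 D173496) D173495
theorem F465214 : act 0 n208934 = n203386 := d21_4 (iv5 D152044) (iv1 F108167) D135416 D208934 (iv6 F428115) (iv5 F420682) (iv1 F465211) F465213 (iv6 D208936) (iv1 F239064)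
def n212299 : Q := act 6 n146542
theorem D212299 : act 6 n146542 = n212299 := rfl
theorem F465215 : act 2 n212299 = n152518 := d3_1 D212299 (iv6 D152518) (iv2 F346142)
theorem F465216 : act 3 n212299 = n146544 := d7_1 D212299 (iv6 D146544) (iv3 F229855)
theorem F465217 : act 4 n212299 = n173495 := d10_1 D212299 F465212 (iv4 D212298)
theorem F465218 : act 5 n212299 = n157396 := d12_1 D212299 F448360 F448356 (iv6 D146543) D146542
theorem F465219 : act 0 n212299 = n184492 := d21_4 (iv5 F353821) (iv1 D146539) D146542 D212299 F286434 (iv5 F345134) (iv1 D100672) F291329 (iv6 F143454) D152494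
theorem F465220 : act 0 n209089 = n212299 := d21_4 (iv5 D141728) F218231 F218230 D209089 (iv6 D212299) (iv5 D146542) (iv1 F353827) (iv5 F354424) (iv6 F354423) (iv1 F224773)
def n212300 : Q := act 0 n146544
theorem D212300 : act 0 n146544 = n212300 := rfl
theorem F465221 : act 4 n212300 = n147979 := d18_3 F465130 F465126 D212300 F350242 F403398 F403397 (iv4 F428331) (iv0 F428335) F398878
theorem F465222 : act 6 n212300 = n188706 := d21_5 (iv5 D31965) D31963 D68690 D146544 D212300 F374497 (iv1 D187114) (iv5 F139680) F360975 (iv1 D68696)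
theorem F465223 : act 3 n192537 = n212300 := d7_3 F465222 F374500 D192537
theorem F465224 : act 7 n147975 = n212300 := d14_0 F465222 F374496 (iv6 F335904) F184400 D147975
def n212301 : Q := act 1 n146544
theorem D212301 : act 1 n146544 = n212301 := rfl
theorem F465225 : act 6 n147936 = n212301 := d21_3 F397537 F183675 (iv5 F231743) (iv1 D212301) (iv6 D146544) (iv5 D68690) (iv1 F85327) D117323 F356765 F397539
theorem F465226 : act 2 n212301 = n147975 := d3_1 F465225 (iv6 D147975) (iv2 F231742)
theorem F465227 : act 3 n212301 = n208677 := d7_1 F465225 (iv6 F450420) F436976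
theorem F465228 : act 4 n212301 = n147937 := d10_1 F465225 (iv6 D147937) D147936
def n212302 : Q := act 7 n146544
theorem D212302 : act 7 n146544 = n212302 := rfl
theorem F465229 : act 4 n212302 = n155578 := d11_1 D212302 (iv7 F465128) F465126
theorem F465230 : act 5 n212302 = n197174 := d13_1 D212302 (iv7 F448365) F448364
theorem F465231 : act 1 n147975 = n212302 := d15_1 (iv0 F364332) (iv7 D212302) (iv2 F231790)
def n212303 : Q := act 6 n146552
theorem D212303 : act 6 n146552 = n212303 := rfl
theorem F465232 : act 2 n212303 = n201669 := d3_1 D212303 F421922 F421923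
theorem F465233 : act 3 n212303 = n146554 := d7_1 D212303 (iv6 D146554) (iv3 F229858)
theorem F465234 : act 5 n212303 = n186900 := d12_1 D212303 (iv6 F419517) (iv5 D201224) F353779 D146552
theorem F465235 : act 7 n212303 = n201668 := d14_2 F231786 D212303 (iv6 F421319) F387761 (iv6 F387758)
theorem F465236 : act 0 n212303 = n201667 := d21_4 F372217 (iv1 D146550) D146552 D212303 (iv6 F432186) (iv5 D204355) (iv1 F374742) F374739 (iv6 F387774) (iv1 F387775)
theorem F465237 : act 1 n212303 = n159472 := d15_1 (iv0 F465236) F251125 (iv2 F421312)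
def n212304 : Q := act 5 n146554
theorem D212304 : act 5 n146554 = n212304 := rfl
theorem F465238 : act 3 n212304 = n186900 := d6_1 D212304 (iv5 F465234) F465233
theorem F465239 : act 6 n212304 = n146556 := d12_2 D146554 D212304 (iv5 D146556) (iv6 D68694) D68693
theorem F465240 : act 0 n212304 = n159982 := d21_10 F252359 (iv1 D151344) (iv5 D71325) (iv6 D33004) D33001 D71318 (iv5 F114717) (iv1 F316588) D146556 (iv6 F465239)
def n212305 : Q := act 7 n146554
theorem D212305 : act 7 n146554 = n212305 := rfl
theorem F465241 : act 3 n212305 = n201668 := d8_1 D212305 (iv7 F465235) F465233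
theorem F465242 : act 1 n151341 = n212305 := d15_1 F427792 (iv7 D212305) (iv2 F231784)
theorem F465243 : act 1 n212305 = n151336 := d15_1 F465242 (iv7 F427769) F427767
def n212306 : Q := act 0 n146559
theorem D212306 : act 0 n146559 = n212306 := rfl
theorem F465244 : act 4 n212306 = n151344 := d20_2 (iv4 F335936) D212306 F398379 (iv1 D195832) F163396 D106344 (iv1 F179131) (iv4 D115029) D115028 F238460
theorem F465245 : act 1 n150768 = n212306 := d15_0 (iv0 D212306) (iv7 F335935) F238396
theorem F465246 : act 7 n212306 = n203308 := d15_2 (iv0 F360982) F465245 F427793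
theorem F465247 : act 5 n208994 = n212306 := d21_0 (iv1 F465245) (iv5 F371166) (iv6 D187675) (iv1 F371163) F371125 F349125 (iv1 D63809) D63811 D135712 F451748
theorem F465248 : act 3 n212306 = n208995 := d6_1 F465247 (iv5 D208995) D208994
def n212307 : Q := act 5 n146559
theorem D212307 : act 5 n146559 = n212307 := rfl
theorem F465249 : act 6 n212307 = n147959 := d12_2 D146559 D212307 (iv5 D147959) (iv6 D69315) (iv5 F104899)
theorem F465250 : act 0 n212307 = n187752 := d18_0 F371404 D187770 (iv4 F443962) (iv5 F443964) (iv4 D151345) D151344 (iv4 F465244) (iv0 D212306) D212307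
def n212308 : Q := act 3 n146564
theorem D212308 : act 3 n146564 = n212308 := rfl
def n212309 : Q := act 4 n146564
theorem D212309 : act 4 n146564 = n212309 := rfl
theorem F465251 : act 5 n212309 = n187616 := d16_1 D212309 (iv4 D187616) F295171 D99067 D191886 F384667 (iv5 F373012) F465099 (iv2 F465098)
theorem F465252 : act 0 n212309 = n212264 := d21_7 (iv5 F427233) F427234 F421090 (iv6 F450864) F450862 (iv6 F448743) (iv5 F465251) F465032 (iv6 D201606) (iv1 F421106)
def n212310 : Q := act 6 n146564
theorem D212310 : act 6 n146564 = n212310 := rfl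
theorem F465253 : act 5 n212310 = n207201 := d12_1 D212310 (iv6 D207201) D207200 F443774 F371023
def n212311 : Q := act 3 n146565
theorem D212311 : act 3 n146565 = n212311 := rfl
theorem F465254 : act 4 n170873 = n212311 := d19_2 D157888 (iv5 F406487) (iv3 D212311) (iv1 D146565) (iv5 F356645) F143861 (iv3 D43638) F32755 (iv5 D20140) (iv4 F16850) F16849 F13939 (iv5 D8964) (iv4 F12249) (iv3 F13793) F17007 F27392 D34442 D75217
def n212312 : Q := act 4 n146565
theorem D212312 : act 4 n146565 = n212312 := rfl
theorem F465255 : act 5 n212312 = n186444 := d9_2 (iv5 F373012) D212312 (iv4 D186444) (iv5 D88801) (iv4 F136178) D186443 (iv4 F371024) F371023 D212309 F465251 (iv4 D187616) F295171 D99067 D191886 F384667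
theorem F465256 : act 1 n212312 = n212264 := d18_8 F421119 (iv4 F374800) F295017 D183167 (iv5 F356762) F229868 D146565 D212312 F465032
def n212313 : Q := act 6 n146565
theorem D212313 : act 6 n146565 = n212313 := rfl
def n212314 : Q := act 5 n146569
theorem D212314 : act 5 n146569 = n212314 := rfl
theorem F465257 : act 2 n212314 = n149300 := d2_1 D212314 (iv5 F338195) (iv2 F229870)
theorem F465258 : act 3 n212314 = n190331 := d6_1 D212314 F379424 F243301
theorem F465259 : act 4 n212314 = n195569 := d9_1 D212314 F397390 F219739 D136623 (iv4 F359429) (iv5 D146573) (iv4 F104982) (iv5 F316394) F162524 (iv5 F114308) (iv4 F251061) (iv5 F428090) F428089 F338204 D146569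
theorem F465260 : act 6 n212314 = n190651 := d12_2 (iv6 F338197) D212314 (iv5 D190651) (iv6 D96301) (iv5 F108376)
theorem F465261 : act 7 n212314 = n195567 := d13_2 (iv7 F229871) D212314 F397379
theorem F465262 : act 0 n212314 = n190329 := d17_2 F243111 D212314 F426013 (iv4 F464024) F464023 (iv0 F370716) (iv5 D114870) D114869 (iv4 F318007)
theorem F465263 : act 1 n212314 = n195584 := d17_6 F426019 F428094 (iv1 D203376) F338204 D146569 D212314 F397454 F243220 D202882
def n212315 : Q := act 4 n146575
theorem D212315 : act 4 n146575 = n212315 := rfl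
theorem F465264 : act 5 n212315 = n198588 := d9_2 F392650 D212315 F408417 F334905 (iv4 D68509) D68510 D146108 F231751 (iv4 F355810) (iv5 F393517) (iv4 D194513) (iv5 D103696) F75488 D103131 D194284
theorem F465265 : act 6 n212315 = n203339 := d10_2 (iv6 F428430) D212315 F428428
theorem F465266 : act 7 n212315 = n197187 := d11_2 (iv7 F392652) D212315 F403451
theorem F465267 : act 0 n212315 = n209473 := d17_0 (iv5 D209473) F359419 D136623 (iv4 F359429) (iv5 D146573) F229737 (iv5 F465110) F465113 D212315
theorem F465268 : act 1 n212315 = n209561 := d18_6 (iv1 F421128) F421127 F360235 D194284 F392650 D212315 F454138 F421508 F421505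
def n212316 : Q := act 6 n146578
theorem D212316 : act 6 n146578 = n212316 := rfl
theorem F465269 : act 2 n212316 = n208997 := d3_1 D212316 (iv6 F465111) F465108
theorem F465270 : act 3 n212316 = n189587 := d7_1 D212316 F377051 (iv3 F356757)
theorem F465271 : act 4 n212316 = n188695 := d10_1 D212316 (iv6 F375830) F375828
theorem F465272 : act 5 n212316 = n201874 := d12_1 D212316 (iv6 D201874) F339428 F183803 (iv5 F229877)
theorem F465273 : act 7 n212316 = n188692 := d14_2 D146578 D212316 (iv6 D188692) (iv7 F143862) F356646
theorem F465274 : act 1 n208998 = n212316 := d15_1 F451768 F465273 F374479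
theorem F465275 : act 1 n212316 = n208990 := d15_1 F465274 F451730 (iv2 F451764)
def n212317 : Q := act 6 n146614
theorem D212317 : act 6 n146614 = n212317 := rfl
theorem F465276 : act 2 n212317 = n201613 := d3_1 D212317 (iv6 D201613) F363437
theorem F465277 : act 3 n212317 = n152777 := d7_1 D212317 (iv6 F420602) F420600
theorem F465278 : act 4 n212317 = n210853 := d10_1 D212317 F459030 F457636
theorem F465279 : act 5 n212317 = n209065 := d12_1 D212317 (iv6 D209065) (iv5 F355708) F319423 D146614
theorem F465280 : act 7 n212317 = n152772 := d14_2 (iv7 F363436) D212317 (iv6 D152772) F108549 (iv6 F178951)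
theorem F465281 : act 1 n203356 = n212317 := d15_1 D203356 F465280 F239983
theorem F465282 : act 1 n212317 = n151252 := d15_1 F465281 (iv7 F420239) (iv2 F428024)
def n212318 : Q := act 3 n146635
theorem D212318 : act 3 n146635 = n212318 := rfl
theorem F465283 : act 2 n212318 = n210220 := d0_1 D212318 (iv3 D210220) F221234 D138002 (iv2 F229929)
theorem F465284 : act 4 n212318 = n146851 := d5_2 D146635 D212318 (iv3 D146851) (iv4 D68845) (iv3 F104907)
theorem F465285 : act 6 n212318 = n209739 := d7_2 F395952 D212318 F454801
theorem F465286 : act 7 n212318 = n210232 := d8_2 F397398 D212318 F456665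
theorem F465287 : act 0 n212318 = n210231 := d19_4 F77031 D68717 D146635 D212318 F456663 (iv4 F396974) (iv3 D195426) (iv1 F347226) (iv5 D137802) (iv4 F100625) (iv3 D64561) (iv1 F99558) D136067 F218974 D187757 F371424 (iv5 D106232) (iv4 D49092) F77033
theorem F465288 : act 0 n210230 = n212318 := d20_7 F230235 (iv1 F177138) F176802 D200912 (iv1 F464993) (iv3 F464995) F456839 F465284 (iv3 D146851) (iv1 F230233)
def n212319 : Q := act 1 n146636
theorem D212319 : act 1 n146636 = n212319 := rfl
theorem F465289 : act 1 n212319 = n209737 := d15_1 D212319 F454796 F397394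
theorem F465290 : act 7 n212319 = n210145 := d15_2 (iv0 F465019) D212319 (iv2 F465014)
theorem F465291 : act 4 n212319 = n194038 := d17_9 (iv1 F395996) F395997 F455436 F455433 (iv4 F426279) F426280 (iv0 F427872) F427871 D212319
theorem F465292 : act 3 n200633 = n212319 := d20_9 F395953 F401849 D136958 F363977 (iv1 F288355) (iv3 F436758) (iv4 D205507) F358830 D200633 (iv1 D212319)
theorem F465293 : act 6 n188745 = n212319 := d21_3 F367259 D192788 F387777 (iv1 D212319) (iv6 D146636) (iv5 D68717) (iv1 F77066) (iv5 F114797) (iv6 F154326) F367260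
theorem F465294 : act 5 n192535 = n212319 := d21_6 (iv5 D159870) F114742 D100349 F154338 D100359 D192535 (iv1 D212319) (iv5 F427871) (iv6 D203321) (iv1 F252055)
theorem F465295 : act 2 n212319 = n201087 := d2_1 F465294 (iv5 F427101) (iv2 F427104)
def n212320 : Q := act 7 n146636
theorem D212320 : act 7 n146636 = n212320 := rfl
theorem F465296 : act 2 n212320 = n209737 := d4_1 D212320 F454796 F397394
theorem F465297 : act 3 n212320 = n146856 := d8_1 D212320 (iv7 D146856) (iv3 F229932)
theorem F465298 : act 4 n212320 = n209199 := d11_1 D212320 F452692 (iv4 F395953)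
theorem F465299 : act 1 n201087 = n212320 := d15_1 (iv0 F419044) (iv7 D212320) (iv2 F397394)
theorem F465300 : act 1 n212320 = n210145 := d15_1 F465299 (iv7 F465290) F465295
def n212321 : Q := act 6 n146655
theorem D212321 : act 6 n146655 = n212321 := rfl
theorem F465301 : act 2 n212321 = n177140 := d3_1 D212321 F366834 (iv2 F259435)
theorem F465302 : act 3 n212321 = n201203 := d7_1 D212321 F419435 (iv3 F411587)
theorem F465303 : act 4 n212321 = n177139 := d10_1 D212321 F366833 (iv4 F259430)
theorem F465304 : act 0 n212321 = n186935 := d21_4 F362457 F457003 F457001 D212321 (iv6 D186935) (iv5 D89397) (iv1 D41746) D41749 D89409 F352629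
theorem F465305 : act 1 n212321 = n160107 := d15_1 (iv0 F465304) (iv7 F426228) F426225
def n212322 : Q := act 3 n146656
theorem D212322 : act 3 n146656 = n212322 := rfl
theorem F465306 : act 4 n212322 = n199849 := d5_2 (iv4 F259441) D212322 (iv3 F413812) F378981 F259440
theorem F465307 : act 5 n212322 = n189071 := d6_2 F457155 D212322 F457157
theorem F465308 : act 6 n212322 = n188328 := d7_2 (iv6 F461001) D212322 F460998
theorem F465309 : act 7 n212322 = n186995 := d8_2 (iv7 F259437) D212322 F368790
theorem F465310 : act 0 n212322 = n186978 := d20_4 D199002 (iv1 F410271) (iv4 F259441) D212322 (iv3 F411489) F411490 (iv1 D159014) (iv4 F348682) F348681 (iv1 F338238)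
def n212323 : Q := act 6 n146661
theorem D212323 : act 6 n146661 = n212323 := rfl
theorem F465311 : act 2 n212323 = n158952 := d3_1 D212323 (iv6 D158952) (iv2 F229958)
theorem F465312 : act 3 n212323 = n154809 := d7_1 D212323 (iv6 F452249) F452244
theorem F465313 : act 4 n212323 = n146662 := d10_1 D212323 (iv6 D146662) D146661
theorem F465314 : act 5 n212323 = n194896 := d12_1 D212323 (iv6 F395347) F442766 (iv6 D206965) (iv5 F336977)
theorem F465315 : act 7 n212323 = n154955 := d14_2 (iv7 F229959) D212323 (iv6 F425173) F425174 F316210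
theorem F465316 : act 0 n212323 = n203727 := d21_4 (iv5 F441874) (iv1 F441877) (iv5 F336977) D212323 F429563 (iv5 F432500) (iv1 F432501) F368838 (iv6 D158940) D158936
theorem F465317 : act 0 n186752 = n212323 := d21_4 (iv5 F309440) (iv1 F90017) (iv5 F177737) (iv6 F367885) (iv6 D212323) F336977 F207834 (iv5 F329643) (iv6 D123065) F309437
def n212324 : Q := act 5 n146685
theorem D212324 : act 5 n146685 = n212324 := rfl
theorem F465318 : act 2 n212324 = n204313 := d2_1 D212324 (iv5 D204313) (iv2 F310209)
theorem F465319 : act 3 n212324 = n160100 := d6_1 D212324 (iv5 D160100) (iv3 F310210)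
theorem F465320 : act 6 n212324 = n204159 := d12_2 (iv6 F310211) D212324 (iv5 D204159) (iv6 D123062) F115008
theorem F465321 : act 7 n212324 = n155512 := d13_2 (iv7 F230020) D212324 (iv5 D155512)
theorem F465322 : act 0 n193770 = n212324 := d19_0 (iv5 D212324) (iv4 D146685) (iv3 D68746) (iv1 D31985) F24711 (iv4 F47344) (iv3 F97349) (iv1 F316624) D81823 (iv4 F327675) F153211 (iv1 F343853) F343854 F343856 F137229 (iv1 F136323) (iv5 F291162) F291161 D193770
theorem F465323 : act 1 n204504 = n212324 := d15_0 (iv0 F465322) (iv7 F392029) (iv2 F432740)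
def n212325 : Q := act 1 n146690
theorem D212325 : act 1 n146690 = n212325 := rfl
theorem F465324 : act 1 n212325 = n148544 := d15_1 D212325 (iv7 F426466) F426465
theorem F465325 : act 4 n212325 = n186946 := d18_7 (iv1 D127431) F329756 (iv1 F329751) (iv4 D68756) D68757 D146690 D212325 (iv0 F439387) (iv5 D206132)
theorem F465326 : act 2 n203097 = n212325 := d1_3 F465325 (iv2 F397483) (iv4 F426951)
theorem F465327 : act 6 n146791 = n212325 := d10_0 F465325 F397478 (iv4 F397477)
def n212326 : Q := act 5 n146690
theorem D212326 : act 5 n146690 = n212326 := rfl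
theorem F465328 : act 3 n212326 = n200192 := d6_1 D212326 (iv5 D200192) (iv3 F366007)
theorem F465329 : act 7 n212326 = n186793 := d13_2 F426233 D212326 (iv5 F426234)
theorem F465330 : act 4 n212326 = n186794 := d16_2 D146690 D212326 F368034 F337239 D89397 (iv4 F337247) (iv5 F183506) (iv7 F183956) F183955
theorem F465331 : act 0 n212326 = n185370 := d17_2 (iv1 D212325) D212326 F426208 F426205 (iv5 F418898) F418900 D206131 F439383 (iv4 F465325)
def n212327 : Q := act 6 n146690
theorem D212327 : act 6 n146690 = n212327 := rfl
theorem F465332 : act 2 n212327 = n187087 := d3_1 D212327 (iv6 F426473) F426465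
theorem F465333 : act 3 n212327 = n200183 := d7_1 D212327 F415447 (iv3 F366007)
theorem F465334 : act 4 n212327 = n146691 := d10_1 D212327 (iv6 D146691) D146690
theorem F465335 : act 7 n212327 = n203017 := d14_2 F426233 D212327 (iv6 D203017) (iv7 F349469) (iv6 F426232)
theorem F465336 : act 0 n203088 = n212327 := d21_4 D146976 (iv1 F411748) (iv5 F411751) F426919 (iv6 D212327) D212326 F465331 F426208 (iv6 F426209) (iv1 F230353)
theorem F465337 : act 1 n203011 = n212327 := d15_0 (iv0 F465336) (iv7 F433926) F433924
def n212328 : Q := act 4 n146718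
theorem D212328 : act 4 n146718 = n212328 := rfl
theorem F465338 : act 3 n212328 = n157705 := d5_1 D212328 (iv4 F340701) (iv3 D103604) D103605 F335070
theorem F465339 : act 6 n212328 = n157702 := d10_2 F335071 D212328 (iv4 F354561)
theorem F465340 : act 7 n212328 = n166491 := d11_2 F308701 D212328 F346916
theorem F465341 : act 5 n212328 = n166460 := d17_5 (iv1 D32209) D32210 D69293 (iv5 F243024) D212328 (iv0 F395544) F373663 F237576 (iv4 D69290)
theorem F465342 : act 0 n212328 = n160713 := d18_2 D146718 D212328 (iv4 F319653) (iv5 D139739) (iv4 F222918) F342464 (iv4 F182472) F322077 (iv5 D146720)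
theorem F465343 : act 1 n212328 = n147188 := d18_6 (iv1 F316994) (iv4 F206010) (iv1 F237582) (iv4 D147899) (iv5 F243024) D212328 (iv4 F355141) F345648 F316998
def n212329 : Q := act 4 n146719
theorem D212329 : act 4 n146719 = n212329 := rfl
theorem F465344 : act 2 n212329 = n166491 := d1_1 D212329 F346916 F308698
theorem F465345 : act 3 n212329 = n167611 := d5_1 D212329 F301481 (iv3 F419442) F419439 (iv3 F357841)
theorem F465346 : act 6 n212329 = n147147 := d10_2 (iv6 F243028) D212329 (iv4 D147147)
theorem F465347 : act 0 n212329 = n147188 := d18_2 F335067 D212329 (iv4 F355141) (iv5 D140796) (iv4 F363685) F424099 F424097 F425443 F425439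
theorem F465348 : act 5 n212329 = n166489 := d18_4 (iv1 F337727) F337729 F335067 D212329 (iv4 F416857) (iv0 D200525) F356018 F130052 (iv5 F321714)
theorem F465349 : act 1 n212329 = n160713 := d18_6 (iv1 D74484) (iv4 F111765) (iv1 F316989) (iv4 D147902) (iv5 F243027) D212329 (iv4 F319653) (iv0 F330037) F330038
def n212330 : Q := act 4 n146753
theorem D212330 : act 4 n146753 = n212330 := rfl
theorem F465350 : act 2 n212330 = n202681 := d1_1 D212330 F425073 (iv2 F230106)
theorem F465351 : act 3 n212330 = n203567 := d5_1 D212330 F428916 F190205 F350769 D146753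
theorem F465352 : act 6 n212330 = n153801 := d10_2 (iv6 F360237) D212330 F355103
theorem F465353 : act 7 n212330 = n211296 := d11_2 F463789 D212330 (iv4 F463787)
theorem F465354 : act 0 n212330 = n148823 := d18_2 (iv1 F252119) D212330 (iv4 D148823) F347909 (iv4 F316665) F381990 (iv4 F409845) F409843 F408277
theorem F465355 : act 0 n148818 = n212330 := d20_1 D148818 (iv4 D212330) (iv3 D146753) (iv1 D68804) (iv3 D32003) (iv4 D15093) F11553 D15272 D32376 D69750
def n212331 : Q := act 3 n146767
theorem D212331 : act 3 n146767 = n212331 := rfl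
theorem F465356 : act 4 n212331 = n195760 := d5_2 D146767 D212331 (iv3 D195760) F177122 F177120
def n212332 : Q := act 0 n146769
theorem D212332 : act 0 n146769 = n212332 := rfl
theorem F465357 : act 5 n212332 = n206864 := d19_1 D212332 (iv4 F458481) (iv3 D210699) (iv1 F424464) F424462 (iv4 D140058) F101446 D69399 F105682 (iv4 F104595) F104594 F104041 (iv5 D52556) (iv4 D25512) D25511 F77057 D32009 D68813 D146769
theorem F465358 : act 3 n212332 = n206871 := d20_5 (iv4 D113844) (iv1 F83084) D68813 D146769 D212332 F442471 (iv1 F411181) (iv4 F418338) (iv3 D200901) (iv1 F177140)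
theorem F465359 : act 1 n212255 = n212332 := d15_0 (iv0 D212332) (iv7 F418366) (iv2 F464990)
theorem F465360 : act 4 n207697 = n212332 := d5_0 F465358 F442471 F221029 (iv4 F347217) (iv3 F446047)
theorem F465361 : act 6 n206867 = n212332 := d7_0 F465358 F442470 (iv3 F442453)
def n212333 : Q := act 1 n146769
theorem D212333 : act 1 n146769 = n212333 := rfl
def n212334 : Q := act 2 n146769
theorem D212334 : act 2 n146769 = n212334 := rfl
theorem F465362 : act 3 n212334 = n212258 := d0_2 D146769 D212334 F465001 (iv3 D200912) F176803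
theorem F465363 : act 7 n212334 = n212255 := d4_2 F418366 D212334 F464990
theorem F465364 : act 1 n212333 = n212255 := d15_1 D212333 (iv7 F465363) (iv2 D212334)
def n212335 : Q := act 5 n146769
theorem D212335 : act 5 n146769 = n212335 := rfl
theorem F465365 : act 3 n212335 = n146770 := d6_1 D212335 (iv5 D146770) D146769
theorem F465366 : act 4 n212335 = n186654 := d16_4 (iv4 F452064) (iv5 F452066) F418717 D212335 F367566 F325485 (iv5 F183415) (iv7 F362731) (iv2 F362732)
theorem F465367 : act 0 n201811 = n212335 := d19_0 (iv5 D212335) (iv4 F418717) (iv3 D201009) F176971 F106099 F106088 D76337 (iv1 F142971) F142973 F76658 F45865 (iv1 F94192) (iv5 F104820) D146321 (iv3 F335957) (iv1 D105369) (iv5 F114220) (iv4 F179175) (iv3 F421866)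
theorem F465368 : act 6 n186653 = n212335 := d10_0 F465366 (iv6 D186654) D186653
theorem F465369 : act 5 n207915 = n212333 := d21_0 (iv1 D212333) D212335 (iv6 F465368) (iv1 F447010) (iv6 D207923) (iv5 D132580) F97288 D132987 D207988 F447295
theorem F465370 : act 6 n212333 = n205752 := d12_2 D207915 F465369 (iv5 D205752) F203582 D132568
theorem F465371 : act 2 n207948 = n212333 := d3_3 F465370 F437707 D207948
theorem F465372 : act 4 n207939 = n212333 := d10_3 F465370 F437708 (iv6 F447077)
theorem F465373 : act 7 n212332 = n207948 := d15_2 F465364 F465359 F465371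
def n212336 : Q := act 6 n146776
theorem D212336 : act 6 n146776 = n212336 := rfl
theorem F465374 : act 3 n212336 = n198587 := d7_1 D212336 F408413 (iv3 F361669)
theorem F465375 : act 5 n212336 = n198586 := d12_1 D212336 F408410 (iv5 D117538) F347737 D146776
theorem F465376 : act 7 n212336 = n209676 := d14_2 (iv7 F230286) D212336 F454596 (iv7 F434625) F434624
theorem F465377 : act 0 n210195 = n212336 := d21_4 (iv5 D94097) (iv1 F136555) (iv5 F287767) (iv6 F456520) (iv6 D212336) (iv5 D146776) (iv1 F105008) D68827 (iv6 F346313) F145004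
def n212337 : Q := act 5 n146783
theorem D212337 : act 5 n146783 = n212337 := rfl
theorem F465378 : act 2 n212337 = n146784 := d2_1 D212337 (iv5 D146784) D146783
theorem F465379 : act 3 n212337 = n186651 := d6_1 D212337 (iv5 F378245) (iv3 F378250)
theorem F465380 : act 7 n212337 = n186648 := d13_2 (iv7 F391587) D212337 (iv5 F391586)
theorem F465381 : act 1 n212337 = n199637 := d17_6 D69750 D148819 (iv1 F248416) (iv5 F425522) F425521 D212337 F412943 (iv0 D148793) F106116
theorem F465382 : act 6 n212337 = n191877 := d21_9 (iv5 F420682) (iv1 F465211) F465213 (iv6 D208936) (iv1 F239064) (iv6 F412683) (iv5 F426085) (iv1 F426088) D212337 (iv1 F412773)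
def n212338 : Q := act 6 n146783
theorem D212338 : act 6 n146783 = n212338 := rfl
theorem F465383 : act 2 n212338 = n146785 := d3_1 D212338 (iv6 D146785) D146783
theorem F465384 : act 3 n212338 = n187078 := d7_1 D212338 F378249 (iv3 F378250)
theorem F465385 : act 4 n212338 = n206944 := d10_1 D212338 (iv6 F442681) F425521
theorem F465386 : act 7 n212338 = n187074 := d14_2 (iv7 F391587) D212338 (iv6 D187074) (iv7 F157478) D193979
theorem F465387 : act 5 n192716 = n212338 := d13_3 F465386 F369039 D192716
def n212339 : Q := act 1 n146784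
theorem D212339 : act 1 n146784 = n212339 := rfl
theorem F465388 : act 1 n212339 = n186648 := d15_1 D212339 (iv7 F465380) F465378
theorem F465389 : act 5 n212339 = n146898 := d17_7 (iv1 F347933) F347934 F354582 (iv5 F182687) F182686 D146784 D212339 F233627 F233623
theorem F465390 : act 4 n212339 = n199636 := d17_9 (iv1 F412941) F412519 (iv1 F409255) (iv5 F215911) (iv4 F448519) F448522 (iv0 D146781) D146784 D212339
theorem F465391 : act 2 n199637 = n212339 := d1_3 F465390 (iv2 D199636) D199637
def n212340 : Q := act 6 n146784
theorem D212340 : act 6 n146784 = n212340 := rfl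
theorem F465392 : act 2 n212340 = n191877 := d3_1 D212340 (iv6 F465382) F465378
theorem F465393 : act 3 n212340 = n146789 := d7_1 D212340 (iv6 D146789) (iv3 F230144)
theorem F465394 : act 7 n212340 = n191871 := d14_2 F426097 D212340 (iv6 D191871) (iv7 F367545) (iv6 F426096)
theorem F465395 : act 1 n191876 = n212340 := d15_1 D191876 F465394 F384626
theorem F465396 : act 5 n152508 = n212340 := d16_7 (iv4 F384629) (iv5 F384630) F253653 (iv5 F336472) (iv4 D71932) D71933 D152508 F465394 F384626
theorem F465397 : act 1 n212340 = n191875 := d17_6 (iv1 F239361) F239358 (iv1 F108286) D71933 D152508 F465396 F454121 (iv0 F454122) (iv4 D152516)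
def n212341 : Q := act 0 n146785
theorem D212341 : act 0 n146785 = n212341 := rfl
theorem F465398 : act 4 n212341 = n197616 := d18_3 F425529 F425527 D212341 (iv5 F447246) F447245 (iv0 F442548) F207838 F207893 (iv5 F415473)
theorem F465399 : act 6 n212341 = n197615 := d21_5 (iv5 F465389) (iv1 D212339) (iv5 D146784) D146785 D212341 (iv5 F448755) (iv1 F448754) (iv5 F354744) F250299 (iv1 F233627)
theorem F465400 : act 1 n187074 = n212341 := d15_0 (iv0 D212341) (iv7 F427176) F427173
def n212342 : Q := act 1 n146785
theorem D212342 : act 1 n146785 = n212342 := rfl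
theorem F465401 : act 1 n212342 = n187074 := d15_1 D212342 (iv7 F465386) F465383
theorem F465402 : act 4 n212342 = n207079 := d18_7 (iv1 D187798) (iv4 F371479) (iv1 F444242) (iv4 D207303) (iv5 F425528) F425527 D212342 (iv0 F443222) (iv5 F371527)
theorem F465403 : act 6 n200191 = n212342 := d10_0 F465402 F443221 (iv4 F415475)
def n212343 : Q := act 5 n146785
theorem D212343 : act 5 n146785 = n212343 := rfl
theorem F465404 : act 2 n212343 = n192716 := d2_1 D212343 F465387 F465383
theorem F465405 : act 3 n212343 = n146792 := d6_1 D212343 (iv5 D146792) (iv3 F230145)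
theorem F465406 : act 6 n212343 = n152508 := d12_2 D146785 D212343 F465396 (iv6 D212340) (iv5 D146784)
theorem F465407 : act 7 n212343 = n192710 := d13_2 F427176 D212343 (iv5 F427174)
theorem F465408 : act 0 n212343 = n192715 := d18_0 (iv4 F451984) F451988 (iv4 F431372) (iv5 F449240) F449241 (iv0 F427167) (iv4 F465398) (iv0 D212341) D212343
theorem F465409 : act 4 n152509 = n212343 := d16_0 (iv5 D212343) (iv4 F425527) F425528 D207303 (iv5 F444243) (iv4 F442543) (iv5 F372222) (iv7 F418393) (iv2 F418392)
theorem F465410 : act 1 n212343 = n192714 := d18_8 (iv1 D207006) (iv4 D129735) D129733 F342213 D204172 F431326 F418398 F465409 (iv5 F442944)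
def n212344 : Q := act 3 n146786
theorem D212344 : act 3 n146786 = n212344 := rfl
theorem F465411 : act 5 n212344 = n146893 := d6_2 (iv5 F230146) D212344 (iv3 D146893)
theorem F465412 : act 7 n212344 = n208478 := d8_2 F233606 D212344 F449538
theorem F465413 : act 0 n212344 = n203022 := d19_4 (iv1 F177080) D201054 F418908 D212344 (iv5 D203022) (iv4 F348010) F348009 (iv1 F104060) F315683 D116199 F181083 F162197 D105615 F347207 D136095 (iv1 F219046) D137882 (iv4 F418580) (iv3 D200974)
theorem F465414 : act 0 n197878 = n212344 := d20_4 F411920 F360792 D141921 (iv3 F406085) (iv3 D212344) (iv4 F418908) F418909 F418363 (iv3 F383094) F411921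
theorem F465415 : act 2 n212344 = n208480 := d15_3 (iv0 F464068) F464069 (iv7 F465412)
def n212345 : Q := act 6 n146786
theorem D212345 : act 6 n146786 = n212345 := rfl
def n212346 : Q := act 6 n146788
theorem D212346 : act 6 n146788 = n212346 := rfl
theorem F465416 : act 3 n212346 = n212257 := d7_1 D212346 F464997 F412287
theorem F465417 : act 4 n212346 = n146789 := d10_1 D212346 (iv6 D146789) D146788
theorem F465418 : act 5 n212346 = n212255 := d12_1 D212346 (iv6 D212255) (iv5 F335969) (iv6 D146797) (iv5 F230150)
theorem F465419 : act 0 n212346 = n201811 := d21_4 (iv5 F176783) F176784 (iv5 F230150) D212346 (iv6 D201811) (iv5 D115070) D115067 D201804 F421843 (iv1 D148135)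
def n212347 : Q := act 0 n146789
theorem D212347 : act 0 n146789 = n212347 := rfl
def n212348 : Q := act 1 n146789
theorem D212348 : act 1 n146789 = n212348 := rfl
theorem F465420 : act 1 n212348 = n186654 := d15_1 D212348 (iv7 F426106) F426104
theorem F465421 : act 5 n211048 = n212348 := d17_5 F451188 (iv5 D200905) D200904 F451788 (iv4 F459894) F465420 F367566 D192695 (iv4 F451192)
theorem F465422 : act 3 n212348 = n211049 := d20_5 (iv4 F373125) (iv1 D99033) (iv4 F294986) (iv3 F367565) (iv1 F465420) F459899 (iv1 F373027) F373024 F140238 (iv1 F139108)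
def n212349 : Q := act 5 n146789
theorem D212349 : act 5 n146789 = n212349 := rfl
theorem F465423 : act 2 n212349 = n192696 := d2_1 D212349 F426107 F426104
theorem F465424 : act 3 n212349 = n152508 := d6_1 D212349 F465396 F465393
theorem F465425 : act 4 n212349 = n201502 := d9_1 D212349 F420740 (iv4 F452064) (iv5 F452066) F418717 D212335 F465366 F367566 F325485 (iv5 F183415) (iv4 F418374) (iv5 F464988) (iv4 F464992) (iv5 F465418) F465417
theorem F465426 : act 6 n212349 = n146792 := d12_2 D146789 D212349 (iv5 D146792) (iv6 D68819) D68818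
theorem F465427 : act 7 n212349 = n192692 := d16_8 F325485 (iv5 F183415) (iv4 F418374) (iv5 F464988) (iv4 F464992) (iv5 F465418) F465417 D212349 F387506
theorem F465428 : act 0 n192694 = n212349 := d19_0 (iv5 D212349) (iv4 F465417) F465416 F464999 (iv5 D206931) (iv4 F218224) (iv3 D135721) (iv1 F99193) (iv5 F209560) (iv4 F444552) F444551 (iv1 F350410) (iv5 F350400) F172958 F101547 F84230 (iv5 F180318) D141894 (iv3 F387530)
theorem F465429 : act 1 n192695 = n212349 := d15_0 (iv0 F465428) (iv7 F459826) F459824
def n212350 : Q := act 7 n146789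
theorem D212350 : act 7 n146789 = n212350 := rfl
theorem F465430 : act 2 n212350 = n186654 := d4_1 D212350 (iv7 F426106) F426104
theorem F465431 : act 3 n212350 = n191871 := d8_1 D212350 (iv7 F465394) F465393
theorem F465432 : act 5 n212350 = n192692 := d13_1 D212350 (iv7 F465427) (iv5 D212349)
theorem F465433 : act 6 n212350 = n186652 := d14_1 D212350 F367560 (iv6 F346314) F183424 D146789
theorem F465434 : act 1 n186654 = n212347 := d15_0 (iv0 D212347) D212350 F465430
def n212351 : Q := act 3 n146791
theorem D212351 : act 3 n146791 = n212351 := rfl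
theorem F465435 : act 4 n212351 = n147392 := d5_2 (iv4 F397477) D212351 (iv3 D147392) D147393 (iv3 F397473)
theorem F465436 : act 7 n212351 = n147736 := d8_2 F426111 D212351 F426112
theorem F465437 : act 0 n187193 = n212351 := d20_4 F432177 (iv1 D201579) D201580 (iv3 F421009) (iv3 D212351) F397477 (iv1 F397476) (iv4 F184319) (iv3 F427048) (iv1 F432179)
def n212352 : Q := act 5 n146791
theorem D212352 : act 5 n146791 = n212352 := rfl
theorem F465438 : act 0 n212352 = n203643 := d17_2 (iv1 F230154) D212352 (iv5 D203643) (iv4 D119858) (iv5 F188613) (iv0 D69610) (iv5 D32317) D32314 D69599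
theorem F465439 : act 4 n212352 = n201180 := d17_4 F444668 (iv5 D148516) (iv1 F230154) D212352 (iv5 D201180) (iv0 D114055) D114057 (iv0 F398407) (iv4 F444666)
theorem F465440 : act 6 n212352 = n207262 := d21_3 (iv5 D148516) (iv1 F230154) D212352 (iv1 F452359) F452357 (iv5 D157401) (iv1 F112355) D131149 D207392 F444668
theorem F465441 : act 0 n203644 = n212352 := d21_10 (iv5 D212352) (iv1 D146791) D146792 (iv6 F465426) (iv1 F465429) (iv6 F458324) F458323 (iv1 F410468) (iv5 F457927) F457931
def n212353 : Q := act 0 n146796
theorem D212353 : act 0 n146796 = n212353 := rfl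
theorem F465442 : act 6 n212353 = n207065 := d21_5 (iv5 F114705) F114706 (iv5 F176965) (iv6 F335967) D212353 (iv5 F443169) (iv1 D205672) F343669 (iv6 D148768) (iv1 F106097)
theorem F465443 : act 1 n212258 = n212353 := d15_0 (iv0 D212353) (iv7 F418375) (iv2 F465001)
theorem F465444 : act 4 n212353 = n201004 := d17_9 F418691 F397669 (iv1 F205616) (iv5 F333213) F209241 D205978 (iv0 F463549) (iv5 F465003) F465443
theorem F465445 : act 2 n207067 = n212353 := d1_3 F465444 (iv2 F418689) (iv4 F443178)
theorem F465446 : act 7 n212256 = n212353 := d11_0 F465444 (iv7 F418690) (iv4 F464994)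
def n212354 : Q := act 1 n146796
theorem D212354 : act 1 n146796 = n212354 := rfl
theorem F465447 : act 1 n212354 = n212258 := d15_1 D212354 (iv7 D212258) (iv2 F335966)
theorem F465448 : act 7 n212354 = n207067 := d15_2 (iv0 D212353) D212354 F465445
theorem F465449 : act 4 n212354 = n201005 := d18_7 (iv1 F205616) D201342 (iv1 F420079) F178414 (iv5 F176969) F335948 D212354 F418692 F397669
theorem F465450 : act 3 n205648 = n212354 := d20_3 (iv4 D126869) (iv1 F203402) (iv4 F437341) (iv1 D212354) (iv3 D146796) (iv4 D68824) F83085 D113844 D201067 (iv1 F418968)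
theorem F465451 : act 2 n212354 = n212256 := d0_1 F465450 (iv3 F464995) (iv2 F456840) F442864 (iv2 F437340)
theorem F465452 : act 6 n212354 = n205646 := d7_2 D205648 F465450 (iv3 D205646)
def n212355 : Q := act 0 n146797
theorem D212355 : act 0 n146797 = n212355 := rfl
theorem F465453 : act 5 n212355 = n148762 := d17_1 D212355 (iv1 F437821) (iv5 D205773) F203622 D135595 D209026 (iv5 F451903) (iv0 D146798) (iv4 F230159)
theorem F465454 : act 4 n212355 = n146854 := d18_3 (iv1 D146799) (iv4 F230159) D212355 (iv5 F451194) (iv4 F452546) (iv0 F452547) (iv4 F452343) F452347 F451901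
theorem F465455 : act 6 n212355 = n205694 := d21_5 F176906 (iv1 F230152) F230150 D146797 D212355 F437481 (iv1 F383952) F383950 (iv6 D146874) (iv1 F176908)
theorem F465456 : act 1 n209145 = n212355 := d15_0 (iv0 D212355) (iv7 F452065) (iv2 F452448)
def n212356 : Q := act 1 n146797
theorem D212356 : act 1 n146797 = n212356 := rfl
theorem F465457 : act 1 n212356 = n209145 := d15_1 D212356 F452450 F418373
theorem F465458 : act 4 n146855 = n212356 := d20_6 (iv4 D146319) (iv1 F104818) D68632 D146370 F364114 (iv3 F230245) (iv1 D212356) F230159 F105015 (iv1 F335942)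
theorem F465459 : act 5 n148763 = n212356 := d21_0 (iv1 D212356) F335969 D212255 (iv1 F465364) F465370 (iv5 D205752) F203584 D126589 (iv6 F437818) (iv1 F437820)
theorem F465460 : act 6 n212356 = n194001 := d21_9 F437915 F438680 F438678 (iv6 D132381) F96812 D126588 D205773 (iv1 F437820) F465459 F437917
theorem F465461 : act 5 n212252 = n159654 := d17_3 (iv1 D212356) F335969 D212252 F437666 (iv5 F432784) (iv0 D203470) F187583 D146855 F465458
theorem F465462 : act 6 n207077 = n212252 := d21_5 F437787 (iv1 F217838) F217129 D205682 (iv1 F443215) F465461 (iv1 F437828) F437825 F364738 D205767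
def n212357 : Q := act 4 n146798
theorem D212357 : act 4 n146798 = n212357 := rfl
theorem F465463 : act 2 n212357 = n207831 := d1_1 D212357 F446627 (iv2 F426080)
theorem F465464 : act 3 n212357 = n205745 := d5_1 D212357 F437673 F216459 (iv4 F216461) (iv3 F349040)
theorem F465465 : act 6 n212357 = n205724 := d10_2 F349041 D212357 F437571
theorem F465466 : act 7 n212357 = n207905 := d11_2 F419025 D212357 F446943
theorem F465467 : act 5 n212357 = n207837 := d17_5 (iv1 F218376) (iv5 F452344) (iv1 F452346) (iv5 F451903) D212357 (iv0 F446654) (iv5 F437662) F437665 F347277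
theorem F465468 : act 1 n212357 = n200903 := d18_6 (iv1 F451780) F432781 D204516 F451905 (iv5 F451903) D212357 F418348 (iv0 F398250) (iv5 F451778)
theorem F465469 : act 0 n212357 = n209139 := d20_1 D212357 F452433 (iv3 F465297) (iv1 F465299) (iv3 D201087) (iv4 D113893) F85339 F335945 (iv3 F105015) D146798
def n212358 : Q := act 3 n146799
theorem D212358 : act 3 n146799 = n212358 := rfl
theorem F465470 : act 2 n212358 = n208521 := d0_1 D212358 F449715 F363763 D201081 F419028
theorem F465471 : act 5 n212358 = n188626 := d6_2 F451901 D212358 F451902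
theorem F465472 : act 6 n185754 = n212358 := d12_0 F465471 (iv6 D188626) (iv5 F364346) F370401 F370402
theorem F465473 : act 0 n200642 = n212358 := d17_0 F465471 F376613 (iv5 F417273) (iv4 D200626) (iv5 D113298) (iv0 D52299) D52302 D113308 D200642
theorem F465474 : act 0 n212358 = n200639 := d21_7 (iv5 D187801) (iv1 D90582) D90583 F139440 D92586 D188626 (iv5 F465471) (iv5 F420452) (iv6 D201422) (iv1 F371539)
def n212359 : Q := act 4 n146799
theorem D212359 : act 4 n146799 = n212359 := rfl
theorem F465475 : act 2 n212359 = n207905 := d1_1 D212359 F446943 F419028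
theorem F465476 : act 7 n212359 = n207831 := d11_2 F426082 D212359 F446627
theorem F465477 : act 5 n212359 = n206831 := d17_5 F364474 D135595 D209025 F451901 D212359 F442343 (iv5 D132670) (iv0 F347625) F211850
theorem F465478 : act 1 n212359 = n209139 := d18_6 (iv1 D209001) (iv4 F448350) (iv1 F448352) (iv4 F451899) F451901 D212359 F452433 F418353 F451788
theorem F465479 : act 3 n195619 = n212359 := d20_5 (iv4 D69727) F51392 D49045 D106099 D195619 (iv4 D212359) (iv1 D146799) (iv4 F230159) (iv3 F335968) F176966
theorem F465480 : act 1 n200903 = n212359 := d15_0 F465478 F452434 (iv2 F418347)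
theorem F465481 : act 6 n207903 = n212359 := d3_0 F465475 (iv6 D207905) D207903
theorem F465482 : act 0 n207903 = n188735 := d21_4 D132670 (iv1 F442343) (iv5 F465477) (iv6 F465481) (iv6 F374636) (iv5 F347623) (iv1 F347624) F208196 D132224 F347625
def n212360 : Q := act 6 n146799
theorem D212360 : act 6 n146799 = n212360 := rfl
theorem F465483 : act 2 n212360 = n201852 := d3_1 D212360 F422065 F419028
theorem F465484 : act 3 n212360 = n185754 := d7_1 D212360 F465472 (iv3 D212358)
theorem F465485 : act 4 n212360 = n207903 := d10_1 D212360 F465481 (iv4 D212359)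
theorem F465486 : act 7 n212360 = n201861 := d14_2 F426082 D212360 F422104 F378533 (iv6 F426083)
theorem F465487 : act 0 n212360 = n201858 := d21_4 D135595 D209025 F451901 D212360 (iv6 D201858) F335155 (iv1 F232609) (iv5 F322394) (iv6 F179794) F364474
theorem F465488 : act 0 n201862 = n212360 := d21_4 (iv5 F447955) (iv1 F447958) (iv5 F418976) F422111 (iv6 D212360) (iv5 F451901) (iv1 F452347) F452344 F218373 (iv1 F344976)
def n212361 : Q := act 6 n146808
theorem D212361 : act 6 n146808 = n212361 := rfl
theorem F465489 : act 2 n212361 = n187202 := d3_1 D212361 (iv6 D187202) F356590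
theorem F465490 : act 3 n212361 = n152593 := d7_1 D212361 F345986 F356591
theorem F465491 : act 4 n212361 = n191072 := d10_1 D212361 (iv6 F397490) F397488
theorem F465492 : act 5 n212361 = n192423 := d12_1 D212361 (iv6 D192423) F367461 (iv6 D186619) (iv5 F356589)
theorem F465493 : act 7 n212361 = n203090 := d14_2 F356592 D212361 (iv6 D203090) (iv7 F426633) F426632
theorem F465494 : act 0 n212361 = n187123 := d21_4 F285099 (iv1 F136478) (iv5 F356589) D212361 F369173 F380835 (iv1 D190729) (iv5 F347316) (iv6 F360626) (iv1 F360634)
theorem F465495 : act 0 n148160 = n212361 := d21_4 F108987 D72844 F309447 D148160 (iv6 D212361) F356589 (iv1 D88922) D88923 (iv6 F154002) F302984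
def n212362 : Q := act 3 n146823
theorem D212362 : act 3 n146823 = n212362 := rfl
theorem F465496 : act 2 n212362 = n186975 := d0_1 D212362 F368723 (iv2 F448869) F448870 F426124
theorem F465497 : act 6 n212362 = n186579 := d7_2 (iv6 F421310) D212362 (iv3 F421302)
theorem F465498 : act 0 n212362 = n188328 := d19_4 D203312 F427819 F421309 D212362 (iv5 D188328) (iv4 F378246) (iv3 F409077) F409080 F406056 F363316 (iv3 F412370) F412374 (iv5 D199452) F361207 F361203 (iv1 F216943) (iv5 F371653) F371652 (iv3 F186703)
theorem F465499 : act 0 n186992 = n212362 := d20_4 (iv4 F333379) D189625 (iv4 F426173) F426172 (iv3 D212362) (iv4 F421309) F421304 (iv4 F448780) F460966 (iv1 D211286)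
theorem F465500 : act 5 n212362 = n193391 := d17_1 F465499 F389681 F375841 F368341 (iv5 F378267) (iv0 F380549) F380547 (iv0 F387992) F387991
theorem F465501 : act 0 n188314 = n188333 := d21_4 F380085 (iv1 F380088) F345384 D188314 (iv6 D188333) (iv5 F368787) F465499 F465500 (iv6 D193391) (iv1 F287083)
def n212363 : Q := act 5 n146823
theorem D212363 : act 5 n146823 = n212363 := rfl
theorem F465502 : act 3 n212363 = n193391 := d6_1 D212363 (iv5 F465500) (iv3 D212362)
theorem F465503 : act 6 n212363 = n193390 := d12_2 (iv6 F421310) D212363 F449095 F449091 F449085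
theorem F465504 : act 4 n212363 = n211138 := d16_6 F314115 D148104 (iv4 F427818) F427819 F421309 D212363 (iv5 D211138) F318940 F114786
theorem F465505 : act 0 n212363 = n203114 := d17_2 (iv1 F425053) D212363 (iv5 D203114) F184291 D147934 (iv0 F428312) F427945 F426285 (iv4 F425050)
theorem F465506 : act 1 n212363 = n203348 := d17_6 (iv1 D118703) D118704 D203312 F427819 F421309 D212363 F427990 F427018 F427016
def n212364 : Q := act 6 n146824
theorem D212364 : act 6 n146824 = n212364 := rfl
theorem F465507 : act 3 n212364 = n146826 := d7_1 D212364 (iv6 D146826) (iv3 F230171)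
theorem F465508 : act 4 n212364 = n203346 := d10_1 D212364 (iv6 D203346) F361652
theorem F465509 : act 0 n212364 = n152023 := d21_4 (iv5 D212363) (iv1 D146823) D146824 D212364 (iv6 D152023) (iv5 D71672) (iv1 F108155) (iv5 F238964) F427993 (iv1 F465506)
theorem F465510 : act 1 n212364 = n194020 := d15_1 (iv0 F465509) F391799 F389703
def n212365 : Q := act 7 n146826
theorem D212365 : act 7 n146826 = n212365 := rfl
theorem F465511 : act 2 n212365 = n146948 := d4_1 D212365 (iv7 D146948) (iv2 F230173)
theorem F465512 : act 4 n212365 = n206686 := d11_1 D212365 (iv7 D206686) (iv4 F365822)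
theorem F465513 : act 5 n212365 = n197309 := d13_1 D212365 F457039 F457034
theorem F465514 : act 1 n146946 = n212365 := d15_1 D146946 (iv7 D212365) F230173
theorem F465515 : act 1 n212365 = n146945 := d15_1 F465514 (iv7 F396491) (iv2 F398424)
def n212366 : Q := act 0 n146832
theorem D212366 : act 0 n146832 = n212366 := rfl
theorem F465516 : act 4 n212366 = n208475 := d20_2 D146832 D212366 F449524 (iv1 F233907) (iv3 F422047) (iv4 D201849) F349118 F183710 F85329 D68836
theorem F465517 : act 2 n146962 = n212366 := d15_3 (iv0 D212366) F243397 (iv7 F233611)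
theorem F465518 : act 1 n146835 = n212366 := d15_0 (iv0 D212366) F230184 (iv2 F230191)
theorem F465519 : act 7 n212366 = n146896 := d15_2 (iv0 F243394) F465518 (iv2 F233609)
def n212367 : Q := act 5 n146835
theorem D212367 : act 5 n146835 = n212367 := rfl
theorem F465520 : act 2 n212367 = n146976 := d2_1 D212367 (iv5 D146976) (iv2 F230191)
theorem F465521 : act 3 n212367 = n175403 := d6_1 D212367 F274443 (iv3 F361423)
theorem F465522 : act 4 n212367 = n197254 := d9_1 D212367 (iv5 D197254) F167037 F318489 F339410 F318629 D146832 (iv5 F411797) F411796 (iv5 D179913) F131914 (iv5 F113849) (iv4 F321863) F321864 D146835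
theorem F465523 : act 6 n212367 = n199043 := d12_2 (iv6 F230192) D212367 F420715 (iv6 F420716) (iv5 D155491)
theorem F465524 : act 7 n212367 = n146964 := d13_2 (iv7 F230193) D212367 (iv5 D146964)
theorem F465525 : act 0 n212367 = n198998 := d17_2 (iv1 F465518) D212367 F426924 F432058 F432061 F360158 (iv5 F234593) F449527 (iv4 F465516)
def n212368 : Q := act 1 n146837
theorem D212368 : act 1 n146837 = n212368 := rfl
theorem F465526 : act 1 n212368 = n146988 := d15_1 D212368 (iv7 D146988) (iv2 F230199)
theorem F465527 : act 7 n212368 = n146984 := d15_2 (iv0 F425395) D212368 (iv2 F428693)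
theorem F465528 : act 3 n175739 = n212368 := d20_3 (iv4 D83967) (iv1 F278411) D175739 (iv1 D212368) (iv3 F405027) F405031 (iv1 F360777) (iv4 F415465) F415464 F323226
theorem F465529 : act 6 n207968 = n212368 := d21_3 F359633 F394442 D207968 (iv1 D212368) F230200 (iv5 F125801) (iv1 F125802) (iv5 F106453) D149259 F362061
theorem F465530 : act 2 n212368 = n146985 := d3_1 F465529 (iv6 F443340) (iv2 F447190)
theorem F465531 : act 4 n212368 = n204327 := d5_2 D175739 F465528 F432062 F431849 F344162
def n212369 : Q := act 5 n146837
theorem D212369 : act 5 n146837 = n212369 := rfl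
theorem F465532 : act 2 n212369 = n146987 := d2_1 D212369 (iv5 D146987) (iv2 F230199)
theorem F465533 : act 3 n212369 = n207140 := d6_1 D212369 F443488 F405027
theorem F465534 : act 4 n212369 = n179910 := d9_1 D212369 F336911 (iv4 F332266) F356554 F105070 (iv5 F105076) (iv4 F230381) F355444 F280194 F356558 (iv4 F356560) F356561 F105020 D68838 D146837
theorem F465535 : act 6 n212369 = n203492 := d12_2 (iv6 F230200) D212369 (iv5 D203492) F310883 F125801
theorem F465536 : act 0 n212369 = n197069 := d17_2 (iv1 D212368) D212369 (iv5 F403560) F403559 (iv5 F397303) (iv0 F230427) (iv5 F253030) (iv0 F432063) (iv4 F465531)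
def n212370 : Q := act 6 n146840
theorem D212370 : act 6 n146840 = n212370 := rfl
theorem F465537 : act 2 n212370 = n193581 := d3_1 D212370 (iv6 F390330) (iv2 F230211)
theorem F465538 : act 3 n212370 = n210223 := d7_1 D212370 (iv6 D210223) F230215
theorem F465539 : act 4 n212370 = n146841 := d10_1 D212370 (iv6 D146841) D146840
theorem F465540 : act 0 n212370 = n175535 := d21_10 (iv5 D175535) D175532 (iv5 F371449) (iv6 D187769) (iv1 D90546) (iv6 F139357) (iv5 F220271) (iv1 F454898) F454894 D212370
theorem F465541 : act 0 n175681 = n212370 := d21_4 (iv5 F447178) F447180 (iv5 F447140) F447141 (iv6 D212370) (iv5 F454894) F454897 F220276 D195130 (iv1 F443250)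
theorem F465542 : act 5 n175625 = n212370 := d21_8 (iv5 F161536) F177276 D64830 D137944 F356272 (iv6 F421375) F421376 F366670 (iv6 D212370) F230213
theorem F465543 : act 7 n212370 = n193580 := d13_2 F431604 F465542 (iv5 F431605)
def n212371 : Q := act 3 n146844
theorem D212371 : act 3 n146844 = n212371 := rfl
theorem F465544 : act 2 n212371 = n207058 := d0_1 D212371 F443146 (iv2 F418965) (iv3 D201067) F230236
theorem F465545 : act 7 n212371 = n212331 := d8_2 (iv7 F230234) D212371 (iv3 D212331)
theorem F465546 : act 0 n195711 = n212371 := d20_4 F464994 (iv1 D195632) (iv4 F397661) (iv3 F397918) (iv3 D212371) F230235 (iv1 F177138) F176802 D200912 (iv1 F464993)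
theorem F465547 : act 6 n207057 = n212371 := d3_0 F465544 (iv6 D207058) D207057
def n212372 : Q := act 5 n146844
theorem D212372 : act 5 n146844 = n212372 := rfl
theorem F465548 : act 2 n212372 = n201068 := d2_1 D212372 (iv5 D201068) F230236
theorem F465549 : act 4 n212372 = n146903 := d9_1 D212372 F230289 F183418 (iv5 D67926) (iv4 F103881) (iv5 F177086) (iv4 F230229) (iv5 F443046) F443045 F230283 (iv4 D105793) F77127 (iv4 F97649) (iv5 F177135) (iv4 F230235)
theorem F465550 : act 7 n212372 = n206903 := d13_2 (iv7 F230234) D212372 F442559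
theorem F465551 : act 0 n212372 = n148132 := d17_2 (iv1 F230233) D212372 F231947 (iv4 D113697) F82884 (iv0 D28384) D28387 (iv0 F50399) D68845
theorem F465552 : act 1 n212372 = n148129 := d17_6 (iv1 F106062) F106060 (iv1 F97651) (iv5 F177135) (iv4 F230235) D212372 F231942 (iv0 F177079) (iv4 D113808)
def n212373 : Q := act 6 n146844
theorem D212373 : act 6 n146844 = n212373 := rfl
theorem F465553 : act 2 n212373 = n201069 := d3_1 D212373 (iv6 D201069) F230236
theorem F465554 : act 3 n212373 = n207057 := d7_1 D212373 F465547 (iv3 D212371)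
theorem F465555 : act 4 n212373 = n201066 := d10_1 D212373 (iv6 D201066) (iv4 F230235)
theorem F465556 : act 7 n212373 = n206734 := d14_2 (iv7 F230234) D212373 (iv6 D206734) (iv7 F437230) F437233
theorem F465557 : act 0 n206107 = n212373 := d21_4 (iv5 F208196) (iv1 F443007) (iv5 D207021) (iv6 F439282) (iv6 D212373) D212372 F465551 F231947 (iv6 F347374) (iv1 D132222)
theorem F465558 : act 5 n206971 = n212373 := d21_8 D146846 (iv1 F441928) (iv5 D206707) (iv6 D129132) F95312 D60906 D129664 D206971 (iv6 D212373) (iv1 D146844)
theorem F465559 : act 1 n206105 = n212373 := d15_1 (iv0 F439277) F465556 F442000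
def n212374 : Q := act 1 n146846
theorem D212374 : act 1 n146846 = n212374 := rfl
theorem F465560 : act 1 n212374 = n146852 := d15_1 D212374 (iv7 F418364) F418362
theorem F465561 : act 7 n212374 = n201053 := d15_2 F441928 D212374 (iv2 F441922)
theorem F465562 : act 5 n212374 = n146859 := d17_7 (iv1 D32025) (iv5 D15110) D15108 D32022 D68843 D146846 D212374 F230251 (iv4 D68850)
theorem F465563 : act 4 n212374 = n148791 := d17_9 F233617 (iv5 D117229) (iv1 F162491) (iv5 F230283) (iv4 F443045) F443046 (iv0 D146843) D146846 D212374
theorem F465564 : act 6 n159494 = n212374 := d21_9 (iv5 D146846) D146843 (iv5 F443046) (iv6 D207031) (iv1 F212769) D207881 F446874 (iv1 D159492) D159494 (iv1 D212374)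
theorem F465565 : act 3 n212374 = n159496 := d7_1 F465564 (iv6 D159496) (iv3 F251167)
theorem F465566 : act 2 n201054 = n212374 := d0_5 F465565 (iv2 F251173) F362932 (iv2 F441934) F441935
def n212375 : Q := act 0 n146851
theorem D212375 : act 0 n146851 = n212375 := rfl
theorem F465567 : act 6 n212375 = n190722 := d21_5 D207835 (iv1 F446649) (iv5 F442527) (iv6 F454806) D212375 (iv5 F384121) (iv1 D132414) D132415 F212485 D132419
theorem F465568 : act 1 n210224 = n212375 := d15_0 (iv0 D212375) (iv7 F418361) (iv2 F456644)
theorem F465569 : act 4 n190723 = n212375 := d20_0 (iv1 F465568) F456645 (iv3 D137994) D137992 (iv3 F352442) (iv4 F418046) (iv1 F418049) F416725 F380757 F380810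
theorem F465570 : act 2 n212375 = n191659 := d1_1 F465569 F384071 (iv2 F380808)
theorem F465571 : act 7 n212375 = n210281 := d11_2 F380811 F465569 (iv4 D210281)
theorem F465572 : act 3 n207738 = n212375 := d7_3 F465567 F380807 D207738
def n212376 : Q := act 1 n146851
theorem D212376 : act 1 n146851 = n212376 := rfl
theorem F465573 : act 7 n212376 = n191659 := d15_2 (iv0 D212375) D212376 (iv2 F465570)
theorem F465574 : act 4 n191662 = n212376 := d20_0 (iv1 D212376) (iv4 F465284) (iv3 D212318) F229930 F350285 D137192 F360532 F203973 (iv3 F221323) (iv1 F384083)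
theorem F465575 : act 2 n212376 = n210281 := d1_1 F465574 (iv4 D210281) (iv2 F384080)
theorem F465576 : act 0 n210224 = n212376 := d20_1 (iv4 F456645) (iv4 F465574) F384081 (iv1 F360365) F350311 F350306 F404678 F404674 F456662 (iv1 D210231)
def n212377 : Q := act 2 n146851
theorem D212377 : act 2 n146851 = n212377 := rfl
theorem F465577 : act 3 n212377 = n210218 := d0_2 D146851 D212377 F456625 (iv3 D200901) F176791
theorem F465578 : act 4 n212377 = n210220 := d1_2 F465284 D212377 (iv2 F465283)
theorem F465579 : act 6 n212377 = n206042 := d3_2 (iv6 F454806) D212377 F442529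
theorem F465580 : act 7 n212377 = n210224 := d4_2 F418361 D212377 F456644
theorem F465581 : act 1 n212377 = n210281 := d15_0 (iv0 F456848) F418361 D212377
theorem F465582 : act 1 n191659 = n212377 := d15_0 F465581 (iv7 F465571) F465570
def n212378 : Q := act 5 n146851
theorem D212378 : act 5 n146851 = n212378 := rfl
theorem F465583 : act 3 n212378 = n146852 := d6_1 D212378 (iv5 D146852) D146851
theorem F465584 : act 6 n212378 = n198177 := d12_2 (iv6 F454806) D212378 F407116 (iv6 F396985) (iv5 F442527)
theorem F465585 : act 4 n196308 = n212378 := d10_3 F465584 (iv4 D198177) F400292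
def n212379 : Q := act 6 n146852
theorem D212379 : act 6 n146852 = n212379 := rfl
theorem F465586 : act 3 n212379 = n198177 := d7_1 D212379 (iv6 F465584) F465583
theorem F465587 : act 4 n212379 = n146940 := d10_1 D212379 (iv6 D146940) (iv4 F230242)
theorem F465588 : act 5 n205973 = n212379 := d6_0 F465586 F407116 D205973
def n212380 : Q := act 5 n146853
theorem D212380 : act 5 n146853 = n212380 := rfl
theorem F465589 : act 3 n212380 = n195428 := d6_1 D212380 (iv5 F442527) F454805
theorem F465590 : act 6 n212380 = n205973 := d12_2 D146853 D212380 F465588 (iv6 D212379) (iv5 D146852)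
theorem F465591 : act 0 n212380 = n207939 := d17_2 (iv1 F452057) D212380 (iv5 D207939) F347277 (iv5 F420748) (iv0 D151231) (iv5 F183415) F419027 (iv4 F446943)
theorem F465592 : act 1 n212380 = n207697 := d17_6 (iv1 F217980) F428443 (iv1 D203471) F187583 (iv4 F230243) D212380 (iv5 D207697) F437664 F437661
theorem F465593 : act 4 n212380 = n205973 := d19_2 (iv1 F452057) D212380 (iv3 D205973) F418967 F418966 D206928 F442632 (iv1 F461873) (iv5 D211506) (iv4 D142506) (iv3 F162256) F344596 (iv5 F344598) F97594 (iv3 F97590) F209564 (iv5 F421981) F421980 (iv3 F446942)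
def n212381 : Q := act 0 n146857
theorem D212381 : act 0 n146857 = n212381 := rfl
theorem F465594 : act 4 n212381 = n172224 := d18_3 F367646 (iv4 F367055) D212381 (iv5 D172224) (iv4 F148707) (iv0 F285232) (iv4 D183478) F136707 D186678
theorem F465595 : act 6 n212381 = n188759 := d21_5 (iv5 D159852) (iv1 F114696) (iv5 F105038) D146857 D212381 F374750 F353426 (iv5 F371116) (iv6 D187654) (iv1 F252001)
theorem F465596 : act 2 n201845 = n212381 := d15_3 (iv0 D212381) (iv0 F367056) (iv7 F422025)
theorem F465597 : act 1 n207260 = n212381 := d15_0 (iv0 D212381) (iv7 F376903) (iv2 F444023)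
theorem F465598 : act 0 n189274 = n189465 := d18_2 (iv1 D189276) (iv4 F376292) (iv4 F376632) F380123 (iv4 D190552) (iv0 F357560) (iv4 F465594) (iv0 D212381) F376294
theorem F465599 : act 7 n212381 = n207273 := d15_2 (iv0 F444027) F465597 (iv2 D207273)
theorem F465600 : act 3 n195663 = n212381 := d8_3 F465599 F444085 F397781
def n212382 : Q := act 6 n146860
theorem D212382 : act 6 n146860 = n212382 := rfl
theorem F465601 : act 2 n212382 = n191580 := d3_1 D212382 F454764 (iv2 F454765)
theorem F465602 : act 3 n212382 = n146862 := d7_1 D212382 (iv6 D146862) D146860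
theorem F465603 : act 4 n212382 = n186711 := d10_1 D212382 (iv6 F411280) (iv4 F411283)
theorem F465604 : act 5 n212382 = n206107 := d12_1 D212382 F439282 D207021 (iv6 F443008) (iv5 F411286)
theorem F465605 : act 7 n212382 = n191581 := d14_2 F418581 D212382 (iv6 F442536) (iv7 F446043) F446042
theorem F465606 : act 0 n207061 = n212382 := d17_0 F465604 F465557 (iv5 F465558) F442786 (iv5 F339538) F160957 D182415 (iv0 F338482) (iv4 F443152)
def n212383 : Q := act 6 n146861
theorem D212383 : act 6 n146861 = n212383 := rfl
theorem F465607 : act 2 n212383 = n197529 := d3_1 D212383 F404705 F231940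
theorem F465608 : act 3 n212383 = n207021 := d7_1 D212383 (iv6 F443008) F411287
theorem F465609 : act 4 n212383 = n146936 := d10_1 D212383 (iv6 D146936) (iv4 F230255)
theorem F465610 : act 5 n212383 = n197525 := d21_6 (iv5 D132231) (iv1 F96674) D129466 D206903 F442560 D212383 F446596 F446595 (iv6 D206907) F211868
theorem F465611 : act 1 n208816 = n212383 := d18_8 F446596 F446594 (iv1 D135113) F207586 D206816 (iv4 F450906) F450989 D208816 F465610
def n212384 : Q := act 5 n146862
theorem D212384 : act 5 n146862 = n212384 := rfl
theorem F465612 : act 2 n212384 = n191656 := d2_1 D212384 F418599 F418597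
theorem F465613 : act 3 n212384 = n206107 := d6_1 D212384 (iv5 F465604) F465602
theorem F465614 : act 6 n212384 = n197525 := d12_2 D146862 D212384 (iv5 F465610) (iv6 D212383) (iv5 D146861)
theorem F465615 : act 7 n212384 = n191655 := d13_2 F442539 D212384 F442540
theorem F465616 : act 4 n212384 = n190376 := d16_2 (iv4 F230256) D212384 (iv5 D190376) (iv4 D95959) D95960 (iv4 F377673) (iv5 F418607) (iv7 D200980) F176917
theorem F465617 : act 0 n212384 = n190722 := d17_2 (iv1 F442785) D212384 (iv5 F384121) F384120 F365387 (iv0 F363171) F238569 D206120 (iv4 F442782)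
theorem F465618 : act 1 n212384 = n186721 := d17_6 D135520 F415796 (iv1 D200276) F175870 (iv4 F230256) D212384 F384122 (iv0 D132413) (iv4 F99080)
def n212385 : Q := act 4 n146864
theorem D212385 : act 4 n146864 = n212385 := rfl
theorem F465619 : act 2 n212385 = n207790 := d1_1 D212385 F446452 F418604
theorem F465620 : act 5 n212385 = n190725 := d9_2 F447508 D212385 (iv4 F448876) F448877 (iv4 D183231) D183232 (iv4 F447503) F447502 (iv4 F442056) (iv5 D206751) (iv4 F407188) F407189 F268360 D183234 (iv4 F447509)
theorem F465621 : act 6 n212385 = n191585 := d10_2 F398517 D212385 F383900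
theorem F465622 : act 0 n212385 = n146874 := d17_0 (iv5 F383950) (iv1 F383951) (iv5 F437482) (iv4 F437483) (iv5 F359564) (iv0 F175871) F175870 D146864 D212385
theorem F465623 : act 1 n212385 = n183412 := d18_6 (iv1 F452017) F452014 (iv1 F382665) (iv4 F447509) F447508 D212385 (iv4 F439338) F463300 (iv5 D211860)
def n212386 : Q := act 0 n146866
theorem D212386 : act 0 n146866 = n212386 := rfl
def n212387 : Q := act 5 n146866
theorem D212387 : act 5 n146866 = n212387 := rfl
theorem F465624 : act 3 n212387 = n146867 := d6_1 D212387 (iv5 D146867) D146866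
theorem F465625 : act 4 n212387 = n196304 := d16_2 F252189 D212387 (iv5 D196304) (iv4 F397100) (iv5 F448573) F448572 D208250 (iv7 F448581) (iv2 F252188)
def n212388 : Q := act 6 n146867
theorem D212388 : act 6 n146867 = n212388 := rfl
theorem F465626 : act 4 n212388 = n146926 := d10_1 D212388 (iv6 D146926) (iv4 F230257)
theorem F465627 : act 5 n212388 = n209360 := d12_1 D212388 (iv6 D209360) (iv5 F355266) F355267 D146867
def n212389 : Q := act 0 n146872
theorem D212389 : act 0 n146872 = n212389 := rfl
theorem F465628 : act 3 n212389 = n208689 := d20_5 (iv4 D113808) (iv1 F106062) (iv4 F106063) D146872 D212389 (iv4 F453004) F453003 (iv4 F418580) (iv3 D200974) (iv1 F177080)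
theorem F465629 : act 4 n212389 = n205723 := d20_8 F347241 F220981 (iv4 F221048) (iv3 F221049) (iv1 F114500) (iv3 F233565) F233566 D212389 (iv3 F437618) (iv1 F437600)
theorem F465630 : act 6 n212389 = n205767 := d21_5 (iv5 D207077) F443204 (iv5 F443203) F437421 D212389 F437787 (iv1 F217838) F217129 D205682 (iv1 F443215)
def n212390 : Q := act 1 n146872
theorem D212390 : act 1 n146872 = n212390 := rfl
theorem F465631 : act 4 n212390 = n205722 := d18_7 (iv1 F437649) F437653 (iv1 D135787) (iv4 F333184) (iv5 F233567) F233566 D212390 (iv0 D205722) F345899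
theorem F465632 : act 3 n201741 = n212390 := d5_5 F465631 F445768 F445764 F445760 (iv4 F421638)
theorem F465633 : act 5 n201811 = n212390 := d17_3 (iv1 F465359) (iv5 F465418) F465419 F465631 (iv5 F446628) (iv0 F446629) D212380 F465592 F465360
theorem F465634 : act 6 n212390 = n201738 := d12_2 D201811 F465633 (iv5 D201738) F179140 D115070
def n212391 : Q := act 2 n146872
theorem D212391 : act 2 n146872 = n212391 := rfl
theorem F465635 : act 3 n212391 = n205976 := d0_2 D146872 D212391 F442409 (iv3 D200981) (iv2 F176921)
theorem F465636 : act 4 n212391 = n205773 := d1_2 F233566 D212391 F437817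
theorem F465637 : act 6 n212391 = n205775 := d3_2 F437421 D212391 F437829
theorem F465638 : act 5 n207988 = n212391 := d12_5 F465637 F437830 (iv6 D132988) D132987 D207988
def n212392 : Q := act 5 n146872
theorem D212392 : act 5 n146872 = n212392 := rfl
theorem F465639 : act 2 n212392 = n207988 := d2_1 D212392 F465638 (iv2 D212391)
theorem F465640 : act 3 n212392 = n146873 := d6_1 D212392 (iv5 D146873) D146872
theorem F465641 : act 6 n212392 = n191800 := d12_2 F437421 D212392 F384486 D207072 (iv5 F443203)
theorem F465642 : act 4 n212392 = n191801 := d16_2 F233566 D212392 (iv5 F444816) (iv4 F451908) F451909 (iv4 F437824) F437825 F437819 F437817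
def n212393 : Q := act 7 n146874
theorem D212393 : act 7 n146874 = n212393 := rfl
theorem F465643 : act 2 n212393 = n183412 := d4_1 D212393 (iv7 F418617) F418614
theorem F465644 : act 4 n212393 = n208138 := d11_1 D212393 F448049 F233473
theorem F465645 : act 5 n212393 = n183390 := d13_1 D212393 (iv7 F383949) F383950
theorem F465646 : act 6 n212393 = n207779 := d14_1 D212393 F446402 F233454 F106064 D146874
theorem F465647 : act 1 n207790 = n212393 := d15_1 (iv0 F446456) (iv7 D212393) (iv2 F418614)
def n212394 : Q := act 5 n146875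
theorem D212394 : act 5 n146875 = n212394 := rfl
theorem F465648 : act 2 n212394 = n199475 := d2_1 D212394 (iv5 F442405) F442403
theorem F465649 : act 3 n212394 = n146876 := d6_1 D212394 (iv5 D146876) D146875
theorem F465650 : act 7 n212394 = n199472 := d13_2 F418612 D212394 (iv5 F418611)
theorem F465651 : act 4 n212394 = n199072 := d16_6 D199490 (iv5 F463397) F463396 F419084 (iv4 F230262) D212394 F410540 F411945 F411942
def n212395 : Q := act 6 n146876
theorem D212395 : act 6 n146876 = n212395 := rfl
theorem F465652 : act 2 n212395 = n201804 := d3_1 D212395 F421843 (iv2 F231959)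
theorem F465653 : act 4 n212395 = n146904 := d10_1 D212395 (iv6 D146904) (iv4 F230263)
theorem F465654 : act 5 n212395 = n201165 := d12_1 D212395 F421606 F396552 (iv6 D146877) D146876
theorem F465655 : act 7 n212395 = n201806 := d14_2 (iv7 F231954) D212395 F421847 (iv7 F442288) F442287
theorem F465656 : act 0 n212395 = n206376 := d21_10 F440492 (iv1 F421644) (iv5 F421855) (iv6 F421859) F396489 F365821 (iv5 F176906) F176907 D146876 D212395
def n212396 : Q := act 5 n146880
theorem D212396 : act 5 n146880 = n212396 := rfl
theorem F465657 : act 2 n212396 = n146881 := d2_1 D212396 (iv5 D146881) D146880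
theorem F465658 : act 6 n188035 = n212396 := d21_5 (iv5 D207659) (iv1 F211789) F372198 (iv6 D188039) D188035 (iv5 D212396) (iv1 F417904) (iv5 F440504) F440505 (iv1 F445890)
def n212397 : Q := act 0 n146881
theorem D212397 : act 0 n146881 = n212397 := rfl
theorem F465659 : act 5 n212397 = n206098 := d17_3 (iv1 D146879) D146881 D212397 (iv4 F445710) F445711 F417444 (iv5 F439203) F439206 F417093
theorem F465660 : act 4 n212397 = n206208 := d18_3 F439432 (iv4 F375116) D212397 F439722 (iv4 F393622) (iv0 F393625) F259086 (iv0 F393626) D206140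
theorem F465661 : act 3 n212397 = n198178 := d19_3 (iv1 F353127) (iv5 F439722) (iv4 F465660) (iv1 F407120) (iv5 D126872) (iv4 D59538) (iv3 F93935) F93937 D61881 (iv4 F111079) (iv3 F330560) (iv1 F423786) F423782 (iv4 D115804) D115803 F180750 D140547 F223691 F324158
def n212398 : Q := act 1 n146881
theorem D212398 : act 1 n146881 = n212398 := rfl
theorem F465662 : act 5 n212398 = n206099 := d17_7 (iv1 F204718) F204921 (iv1 D105228) (iv5 F94258) (iv4 F105042) D146881 D212398 F439254 (iv4 D200830)
theorem F465663 : act 4 n212398 = n206207 := d17_9 (iv1 F439716) (iv5 D201312) (iv1 F178288) (iv5 F179203) (iv4 F421942) F421943 (iv0 D146878) D146881 D212398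
theorem F465664 : act 3 n210648 = n212398 := d19_19 (iv1 D212398) (iv5 D146881) F105042 (iv3 D59838) (iv1 F82187) F82184 (iv4 D25390) F38475 (iv1 F38474) (iv5 D12053) D12052 F19969 (iv1 F19157) (iv5 F19180) (iv4 F39020) (iv3 F80660) (iv1 F359134) F359136 D210648
theorem F465665 : act 6 n201813 = n212398 := d10_0 F465663 (iv6 F439717) (iv4 F421873)
def n212399 : Q := act 5 n146882
theorem D212399 : act 5 n146882 = n212399 := rfl
theorem F465666 : act 2 n212399 = n212112 := d2_1 D212399 F464364 (iv2 F418504)
theorem F465667 : act 3 n212399 = n146886 := d6_1 D212399 (iv5 D146886) (iv3 F230269)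
theorem F465668 : act 7 n212399 = n211911 := d13_2 F418507 D212399 F463542
theorem F465669 : act 4 n212399 = n196544 := d16_2 F395590 D212399 (iv5 D196544) F165026 (iv5 F93340) (iv4 F326809) F326810 F395586 F395588
theorem F465670 : act 0 n212399 = n206594 := d17_2 F383701 D212399 (iv5 D206594) F207152 D128932 (iv0 F414490) F414489 (iv0 D127374) D127376
def n212400 : Q := act 0 n146883
theorem D212400 : act 0 n146883 = n212400 := rfl
def n212401 : Q := act 1 n146883
theorem D212401 : act 1 n146883 = n212401 := rfl
theorem F465671 : act 6 n206820 = n212401 := d21_3 (iv5 D129435) D129432 (iv5 F442313) (iv1 D212401) (iv6 D146883) (iv5 D68855) D68852 D146873 (iv6 F396563) F396565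
def n212402 : Q := act 5 n146883
theorem D212402 : act 5 n146883 = n212402 := rfl
theorem F465672 : act 6 n212402 = n146886 := d12_2 D146883 D212402 (iv5 D146886) (iv6 D68856) D68855
theorem F465673 : act 7 n206932 = n212402 := d14_0 F465672 F438679 (iv6 D205979) (iv7 F207639) D206932
theorem F465674 : act 1 n201802 = n212402 := d15_1 F421839 (iv7 F465673) F442641
def n212403 : Q := act 7 n146883
theorem D212403 : act 7 n146883 = n212403 := rfl
theorem F465675 : act 3 n212403 = n188036 := d8_1 D212403 (iv7 F375111) (iv3 F375118)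
theorem F465676 : act 5 n212403 = n206932 := d13_1 D212403 F465673 (iv5 D212402)
theorem F465677 : act 6 n212403 = n206686 := d14_1 D212403 (iv7 D206686) F365819 F176923 D146883
def n212404 : Q := act 3 n146884
theorem D212404 : act 3 n146884 = n212404 := rfl
theorem F465678 : act 0 n201738 = n212404 := d20_4 F417402 (iv1 F396125) (iv4 F179143) (iv3 F421625) (iv3 D212404) (iv4 F371466) F371467 F209518 (iv3 F398199) F417404
def n212405 : Q := act 5 n146884
theorem D212405 : act 5 n146884 = n212405 := rfl
theorem F465679 : act 4 n212405 = n211050 := d16_4 (iv4 F377374) F377372 F371466 D212405 F459904 F363853 F367443 (iv7 F369096) (iv2 F369095)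
def n212406 : Q := act 6 n146884
theorem D212406 : act 6 n146884 = n212406 := rfl
theorem F465680 : act 5 n212406 = n207784 := d21_6 (iv5 F230150) F230151 (iv5 D68855) D68856 D146884 D212406 (iv1 D207784) (iv5 F418327) (iv6 D200898) F176784
theorem F465681 : act 1 n207782 = n212406 := d17_6 (iv1 F371342) (iv5 F425528) F434568 F434567 D206996 (iv5 F446423) F465680 F446425 F442674
def n212407 : Q := act 5 n146885
theorem D212407 : act 5 n146885 = n212407 := rfl
def n212408 : Q := act 6 n146885
theorem D212408 : act 6 n146885 = n212408 := rfl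
theorem F465682 : act 4 n212408 = n201872 := d10_1 D212408 F422158 F371389
theorem F465683 : act 1 n195668 = n212408 := d18_6 F258995 (iv4 F177580) F258993 (iv4 D106158) D106159 D195668 F465682 F422157 (iv5 D201525)
def n212409 : Q := act 0 n146886
theorem D212409 : act 0 n146886 = n212409 := rfl
theorem F465684 : act 5 n212409 = n201860 := d17_3 (iv1 D146885) D146886 D212409 F422099 (iv5 F338623) F290314 (iv5 F177082) F371391 F371389
theorem F465685 : act 4 n212409 = n198943 := d18_3 (iv1 F391221) F391220 D212409 (iv5 D198943) (iv4 F331213) F342515 D102475 (iv0 F157418) D193228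
theorem F465686 : act 3 n212409 = n201735 := d20_5 F421576 F410702 (iv4 F465669) F465667 D212409 (iv4 F453289) F393979 (iv4 F446144) (iv3 F464334) F464338
theorem F465687 : act 1 n206697 = n212409 := d15_0 (iv0 D212409) F438679 (iv2 F441885)
theorem F465688 : act 6 n184000 = n212409 := d21_3 (iv5 D193027) F155771 D184000 (iv1 F465687) F441887 (iv5 D129120) F179210 (iv5 F421937) (iv6 D201826) (iv1 F388549)
theorem F465689 : act 2 n212409 = n201799 := d3_1 F465688 (iv6 D201799) (iv2 F361000)
def n212410 : Q := act 1 n146886
theorem D212410 : act 1 n146886 = n212410 := rfl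
theorem F465690 : act 1 n212410 = n206697 := d15_1 D212410 F441888 F371324
theorem F465691 : act 7 n212410 = n201799 := d15_2 (iv0 D212409) D212410 (iv2 F465689)
theorem F465692 : act 3 n201801 = n212410 := d20_3 (iv4 F460301) (iv1 F398568) (iv4 F421836) (iv1 D212410) (iv3 F465667) F465669 (iv1 F410713) (iv4 F421799) F421798 D201786
def n212411 : Q := act 3 n146888
theorem D212411 : act 3 n146888 = n212411 := rfl
theorem F465693 : act 4 n212411 = n187767 := d5_2 D146888 D212411 (iv3 D187767) F139363 F142375
theorem F465694 : act 6 n212411 = n207670 := d7_2 F442544 D212411 F445937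
theorem F465695 : act 0 n210057 = n212411 := d20_4 F446329 (iv1 F444258) (iv4 F441956) (iv3 F455971) (iv3 D212411) (iv4 D146888) (iv1 F135540) (iv4 F325467) (iv3 F207503) D206784
def n212412 : Q := act 5 n146888
theorem D212412 : act 5 n146888 = n212412 := rfl
theorem F465696 : act 0 n212412 = n207904 := d21_1 D212412 (iv5 D207904) D207905 (iv1 F452057) (iv6 D146853) D146852 (iv1 F465560) F465562 (iv6 F442775) (iv1 F442776)
def n212413 : Q := act 7 n146889
theorem D212413 : act 7 n146889 = n212413 := rfl
theorem F465697 : act 3 n212413 = n188755 := d8_1 D212413 (iv7 D188755) (iv3 F230272)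
theorem F465698 : act 5 n212413 = n200918 := d13_1 D212413 F418393 F372222
theorem F465699 : act 6 n212413 = n195667 := d14_1 D212413 (iv7 F397797) (iv6 D187681) (iv7 F142373) D146889
theorem F465700 : act 1 n208870 = n212413 := d15_1 (iv0 F451184) (iv7 D212413) (iv2 F371318)
def n212414 : Q := act 6 n146890
theorem D212414 : act 6 n146890 = n212414 := rfl
theorem F465701 : act 2 n212414 = n188757 := d3_1 D212414 (iv6 D188757) (iv2 F230273)
theorem F465702 : act 3 n212414 = n146892 := d7_1 D212414 (iv6 D146892) D146890
theorem F465703 : act 5 n212414 = n147960 := d12_1 D212414 F231774 (iv5 F317603) D188552 F373927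
theorem F465704 : act 7 n147959 = n212414 := d13_0 F465703 (iv7 D147960) D147959
def n212415 : Q := act 3 n146891
theorem D212415 : act 3 n146891 = n212415 := rfl
theorem F465705 : act 0 n191550 = n212415 := d20_4 F418516 (iv1 F204684) D206090 F439209 (iv3 D212415) (iv4 D146891) (iv1 D68858) (iv4 F105043) (iv3 F230269) (iv1 F418519)
theorem F465706 : act 5 n212415 = n206887 := d19_1 F465705 F453471 (iv3 F453470) F459299 F459298 (iv4 F379118) (iv3 D190221) (iv1 D95747) D95748 D190227 (iv3 F462976) F462979 (iv5 F381684) (iv4 D128944) (iv3 F207155) (iv1 F352199) F204685 D206090 F439209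
def n212416 : Q := act 5 n146891
theorem D212416 : act 5 n146891 = n212416 := rfl
theorem F465707 : act 3 n212416 = n206887 := d6_1 D212416 (iv5 F465706) (iv3 D212415)
theorem F465708 : act 4 n212416 = n193259 := d16_2 D146891 D212416 (iv5 D193259) (iv4 D101420) (iv5 F145059) F145058 F144897 F142373 (iv2 F142371)
theorem F465709 : act 1 n212416 = n207904 := d17_6 F159976 F157531 (iv1 F144900) F142370 D146891 D212416 (iv5 D207904) (iv0 F422069) (iv4 D187667)
def n212417 : Q := act 6 n146891
theorem D212417 : act 6 n146891 = n212417 := rfl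
theorem F465710 : act 4 n212417 = n146892 := d10_1 D212417 (iv6 D146892) D146891
theorem F465711 : act 5 n212417 = n209141 := d21_6 (iv5 D59376) (iv1 F46447) D60709 D129133 (iv1 F371175) D212417 (iv1 D209141) (iv5 D135851) (iv6 D63878) (iv1 F93671)
theorem F465712 : act 0 n201528 = n212417 := d17_0 F465711 (iv1 D209141) (iv5 D135851) F99349 (iv5 F83945) D115227 (iv5 F420863) (iv0 D201526) D201528
def n212418 : Q := act 6 n146893
theorem D212418 : act 6 n146893 = n212418 := rfl
theorem F465713 : act 2 n212418 = n203716 := d3_1 D212418 (iv6 F429526) (iv2 F363096)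
theorem F465714 : act 3 n212418 = n146894 := d7_1 D212418 (iv6 D146894) D146893
theorem F465715 : act 4 n212418 = n202930 := d10_1 D212418 F426237 F325092
theorem F465716 : act 7 n212418 = n203715 := d14_2 F363094 D212418 F429519 (iv7 F259409) (iv6 F363093)
theorem F465717 : act 0 n212418 = n151328 := d21_4 F406088 F465414 F465411 D212418 (iv6 D151328) F107821 (iv1 F87703) D57107 D122837 (iv1 F348005)
theorem F465718 : act 0 n202976 = n212418 := d21_4 (iv5 D89707) F335592 (iv5 F321337) D202976 (iv6 D212418) (iv5 F465411) F465413 (iv5 D203022) (iv6 F369425) (iv1 D187190)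
def n212419 : Q := act 6 n146895
theorem D212419 : act 6 n146895 = n212419 := rfl
theorem F465719 : act 2 n212419 = n178896 := d3_1 D212419 (iv6 F460983) (iv2 F460984)
theorem F465720 : act 3 n212419 = n146896 := d7_1 D212419 (iv6 D146896) D146895
theorem F465721 : act 4 n212419 = n178960 := d10_1 D212419 (iv6 F356771) (iv4 F230276)
theorem F465722 : act 5 n212419 = n204913 := d12_1 D212419 (iv6 F434140) D206301 (iv6 F440148) F359700
theorem F465723 : act 0 n212419 = n179158 := d21_4 F359696 D183145 F359700 D212419 F353933 D202983 (iv1 F426542) (iv5 D202991) F314965 F316670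
theorem F465724 : act 0 n206307 = n212419 := d17_0 F465722 F434141 F327053 (iv4 F206311) (iv5 F434711) F453397 F453394 (iv0 D206308) (iv4 F440174)
def n212420 : Q := act 5 n146896
theorem D212420 : act 5 n146896 = n212420 := rfl
theorem F465725 : act 2 n212420 = n210330 := d2_1 D212420 F457054 F233609
theorem F465726 : act 3 n212420 = n204913 := d6_1 D212420 (iv5 F465722) F465720
theorem F465727 : act 6 n212420 = n206300 := d12_2 D146896 D212420 (iv5 F441921) F441920 F230149
theorem F465728 : act 4 n212420 = n209659 := d16_4 (iv4 F253029) F253030 (iv4 F230278) D212420 F454527 F411759 F350997 F350993 (iv2 F235310)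
theorem F465729 : act 0 n212420 = n197242 := d17_2 (iv1 F230280) D212420 F403706 (iv4 F336909) (iv5 D146979) (iv0 D68898) (iv5 D32041) D32040 D68895
theorem F465730 : act 1 n212420 = n199266 := d17_8 (iv1 F403699) (iv5 F404145) (iv1 F404150) (iv5 F404075) F404074 (iv5 D146964) (iv0 F230279) D212420 F411384
def n212421 : Q := act 3 n146898
theorem D212421 : act 3 n146898 = n212421 := rfl
theorem F465731 : act 2 n212421 = n208294 := d0_1 D212421 F460966 (iv2 F460967) (iv3 F392176) F403165
theorem F465732 : act 7 n212421 = n204101 := d8_2 F403168 D212421 F431084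
theorem F465733 : act 0 n212421 = n203350 := d19_4 (iv1 F409842) F408277 F252117 D212421 (iv5 D203350) (iv4 D118761) F86485 D75154 F325420 F324271 F323346 (iv1 D54012) D54013 (iv4 F104584) (iv3 F226879) (iv1 F425212) F425209 (iv4 F419649) (iv3 F419650)
theorem F465734 : act 0 n208293 = n212421 := d20_4 (iv4 F393567) F449523 F449520 (iv3 F448775) (iv3 D212421) (iv4 F252117) (iv1 F252119) D212330 F465351 F428918
theorem F465735 : act 6 n212421 = n210329 := d21_5 (iv5 F355341) F355347 D134066 D208293 F465734 (iv5 D210329) (iv1 D138289) (iv5 F329496) (iv6 F329096) F329092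
def n212422 : Q := act 6 n146898
theorem D212422 : act 6 n146898 = n212422 := rfl
theorem F465736 : act 2 n212422 = n175311 := d3_1 D212422 (iv6 F403166) F403165
theorem F465737 : act 3 n212422 = n210329 := d7_1 D212422 (iv6 F465735) (iv3 D212421)
theorem F465738 : act 4 n212422 = n173614 := d10_1 D212422 (iv6 F365765) F252117
theorem F465739 : act 5 n212422 = n210328 := d21_6 (iv5 F448755) (iv1 F448754) (iv5 F354744) F250299 (iv1 F233627) D212422 F457049 F316173 D175392 (iv1 F405034)
theorem F465740 : act 0 n212422 = n146963 := d21_10 F361427 (iv1 F247058) F320443 (iv6 F335206) F344373 D193979 F391586 (iv1 F465388) F465389 D212422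
theorem F465741 : act 1 n212422 = n178551 := d15_1 (iv0 F465740) F278253 (iv2 F361425)
theorem F465742 : act 7 n175314 = n212422 := d13_0 F465739 F457048 F332250
def n212423 : Q := act 5 n146899
theorem D212423 : act 5 n146899 = n212423 := rfl
theorem F465743 : act 2 n212423 = n146900 := d2_1 D212423 (iv5 D146900) D146899
theorem F465744 : act 3 n212423 = n188614 := d6_1 D212423 (iv5 F426146) F426144
theorem F465745 : act 0 n212423 = n152048 := d17_2 (iv1 F233621) D212423 F391589 (iv4 F420380) F420381 (iv0 F403140) (iv5 F403139) (iv0 F403145) F403164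
theorem F465746 : act 1 n212423 = n208237 := d17_6 D202772 F425514 (iv1 F229429) (iv5 F233674) F233673 D212423 F448522 (iv0 D146781) (iv4 F182686)
theorem F465747 : act 6 n188612 = n212423 := d7_0 F465744 (iv6 D188614) D188612
def n212424 : Q := act 1 n146900
theorem D212424 : act 1 n146900 = n212424 := rfl
theorem F465748 : act 7 n212424 = n152048 := d15_2 (iv0 F412684) D212424 (iv2 F412681)
theorem F465749 : act 5 n212424 = n202896 := d17_7 (iv1 F425525) F353675 (iv1 D75137) (iv5 F106153) F106152 D146900 D212424 F426091 (iv4 F425521)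
theorem F465750 : act 4 n212424 = n208241 := d17_9 (iv1 F448543) (iv5 D199520) (iv1 D111384) D111386 D199525 F412524 (iv0 D146897) D146900 D212424
theorem F465751 : act 2 n208237 = n212424 := d1_3 F465750 (iv2 D208241) (iv4 F448519)
theorem F465752 : act 3 n212424 = n152057 := d19_3 D198789 (iv5 F448540) (iv4 F465750) (iv1 F363658) D203350 (iv4 F428002) F419481 (iv1 F419493) F419456 (iv4 F409281) F409279 (iv1 F223796) (iv5 D140707) F101702 (iv3 F81429) (iv1 F81434) (iv5 F170048) D50847 D110265
theorem F465753 : act 6 n191859 = n212424 := d21_5 (iv5 D99008) (iv1 D46318) D46320 D99015 D191859 F465749 (iv1 D202896) D202897 F426096 (iv1 F367547)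
def n212425 : Q := act 4 n146900
theorem D212425 : act 4 n146900 = n212425 := rfl
theorem F465754 : act 3 n212425 = n199072 := d5_1 D212425 (iv4 F465651) F465649 F230263 (iv3 F230281)
theorem F465755 : act 7 n212425 = n199471 := d11_2 F233629 D212425 F412317
theorem F465756 : act 5 n212425 = n198536 := d16_3 F106152 D146900 D212425 (iv4 D198536) D198537 F408267 F229430 (iv7 F233675) (iv2 F233671)
theorem F465757 : act 0 n212425 = n199699 := d21_1 (iv5 F465756) (iv5 D199699) F378716 F405812 (iv6 F455662) (iv5 D209991) (iv1 F452943) F452941 F417107 F417105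
def n212426 : Q := act 6 n146900
theorem D212426 : act 6 n146900 = n212426 := rfl
theorem F465758 : act 2 n212426 = n188612 := d3_1 D212426 F465747 F465743
theorem F465759 : act 3 n212426 = n146904 := d7_1 D212426 (iv6 D146904) (iv3 F230281)
theorem F465760 : act 0 n212426 = n191855 := d21_4 F465389 (iv1 D146898) D146900 D212426 (iv6 D191855) (iv5 F367070) (iv1 D90202) (iv5 F291613) D186648 (iv1 F465388)
theorem F465761 : act 1 n212426 = n203364 := d15_0 (iv0 F428055) (iv7 F374188) (iv2 F465758)
def n212427 : Q := act 5 n146901
theorem D212427 : act 5 n146901 = n212427 := rfl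
theorem F465762 : act 2 n212427 = n193804 := d2_1 D212427 (iv5 F391049) (iv2 F374132)
theorem F465763 : act 3 n212427 = n146907 := d6_1 D212427 (iv5 D146907) (iv3 F230282)
theorem F465764 : act 7 n212427 = n193805 := d13_2 F374131 D212427 (iv5 F411698)
theorem F465765 : act 0 n193806 = n212427 := d21_7 (iv5 F412524) (iv1 F412526) (iv5 F391586) (iv6 D193979) F368188 D191409 (iv5 F391050) (iv5 D212427) (iv6 D146901) D146897
def n212428 : Q := act 6 n146903
theorem D212428 : act 6 n146903 = n212428 := rfl
theorem F465766 : act 2 n212428 = n212336 := d3_1 D212428 (iv6 D212336) F230290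
theorem F465767 : act 3 n212428 = n190517 := d7_1 D212428 F379975 F231387
theorem F465768 : act 0 n186641 = n212428 := d21_4 (iv5 D186639) (iv1 D88969) D88971 D186641 (iv6 D212428) F230289 (iv1 D117227) D117229 F346314 F367523
def n212429 : Q := act 0 n146904
theorem D212429 : act 0 n146904 = n212429 := rfl
theorem F465769 : act 6 n212429 = n185476 := d21_5 F230149 (iv1 D68862) D68864 D146904 D212429 (iv5 D185476) F293093 (iv5 F293094) F346313 (iv1 F230148)
theorem F465770 : act 2 n185490 = n212429 := d3_3 F465769 F287736 (iv6 F287754)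
theorem F465771 : act 5 n185475 = n212429 := d12_5 F465769 (iv5 D185476) (iv6 D88356) D88355 D185475
theorem F465772 : act 0 n212429 = n188610 := d21_4 F367559 F293670 D185476 (iv6 F465769) F450907 (iv5 D208793) (iv1 F363948) (iv5 F377009) (iv6 D189572) (iv1 F367561)
def n212430 : Q := act 1 n146904
theorem D212430 : act 1 n146904 = n212430 := rfl
theorem F465773 : act 1 n212430 = n188610 := d15_1 D212430 F374185 (iv2 F370530)
theorem F465774 : act 7 n212430 = n185490 := d15_2 (iv0 D212429) D212430 F465770
theorem F465775 : act 3 n185503 = n212430 := d8_3 F465774 F287753 (iv7 F329983)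
theorem F465776 : act 5 n185491 = n212430 := d13_3 F465774 (iv5 D185490) D185491
theorem F465777 : act 4 n212430 = n207896 := d5_2 F356698 F465775 F446918 (iv4 D159849) (iv3 F251978)
def n212431 : Q := act 5 n146904
theorem D212431 : act 5 n146904 = n212431 := rfl
theorem F465778 : act 6 n212431 = n146907 := d12_2 D146904 D212431 (iv5 D146907) (iv6 D68865) D68864
def n212432 : Q := act 7 n146904
theorem D212432 : act 7 n146904 = n212432 := rfl
theorem F465779 : act 2 n212432 = n188610 := d4_1 D212432 F374185 (iv2 F370530)
theorem F465780 : act 4 n212432 = n201806 := d11_1 D212432 (iv7 F465655) F465653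
theorem F465781 : act 0 n185490 = n212432 := d20_10 F465780 F458922 (iv4 F428045) (iv3 D203361) (iv1 F205915) F362823 (iv4 F420114) (iv1 F420117) (iv4 D185516) (iv3 F287753)
def n212433 : Q := act 5 n146905
theorem D212433 : act 5 n146905 = n212433 := rfl
theorem F465782 : act 3 n212433 = n203509 := d6_1 D212433 (iv5 D203509) (iv3 F357749)
theorem F465783 : act 7 n212433 = n203573 := d13_2 F357746 D212433 (iv5 D203573)
def n212434 : Q := act 5 n146906
theorem D212434 : act 5 n146906 = n212434 := rfl
theorem F465784 : act 2 n212434 = n203573 := d2_1 D212434 (iv5 D203573) (iv2 F357742)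
theorem F465785 : act 3 n212434 = n204908 := d6_1 D212434 (iv5 D204908) F357741
theorem F465786 : act 6 n212434 = n204907 := d12_2 (iv6 F357744) D212434 (iv5 D204907) (iv6 D124670) D124669
def n212435 : Q := act 4 n146907
theorem D212435 : act 4 n146907 = n212435 := rfl
theorem F465787 : act 2 n212435 = n210550 := d1_1 D212435 F458003 F426157
theorem F465788 : act 5 n212435 = n203565 := d16_3 (iv4 F105055) D146907 D212435 F428908 (iv5 F341160) F237481 F237478 (iv7 D117249) F85263
theorem F465789 : act 1 n212435 = n202214 := d18_6 F370350 (iv4 D146685) F130732 (iv4 F105055) D146907 D212435 (iv4 F426822) (iv0 D192257) (iv5 F370348)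
theorem F465790 : act 0 n212427 = n187097 := d20_4 F426822 (iv1 F465789) (iv4 D212435) (iv3 F465763) (iv3 D187097) (iv4 D89538) F64464 D46677 D99940 D192257
def n212436 : Q := act 7 n146907
theorem D212436 : act 7 n146907 = n212436 := rfl
theorem F465791 : act 3 n212436 = n193805 := d8_1 D212436 (iv7 F465764) F465763
theorem F465792 : act 5 n212436 = n146908 := d13_1 D212436 (iv7 D146908) D146907
def n212437 : Q := act 5 n146909
theorem D212437 : act 5 n146909 = n212437 := rfl
theorem F465793 : act 2 n212437 = n155512 := d2_1 D212437 (iv5 D155512) (iv2 F230294)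
theorem F465794 : act 7 n212437 = n204313 := d13_2 F354935 D212437 (iv5 D204313)
theorem F465795 : act 0 n212437 = n193770 := d17_2 (iv1 F338164) D212437 F390959 (iv4 F433909) (iv5 D204864) (iv0 D124536) D124539 (iv0 F341977) F227868
theorem F465796 : act 1 n212437 = n204504 := d15_1 (iv0 F465795) F432741 F432599
def n212438 : Q := act 0 n146926
theorem D212438 : act 0 n146926 = n212438 := rfl
theorem F465797 : act 3 n212438 = n187605 := d20_5 F370521 (iv1 F167930) (iv4 F405404) F405403 D212438 F374804 (iv1 F186715) (iv4 F186825) F351270 (iv1 F370524)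
theorem F465798 : act 6 n212438 = n187601 := d21_5 (iv5 D32037) D32035 D68875 D146926 D212438 (iv5 D187601) (iv1 F370941) F370937 (iv6 D146942) (iv1 D68881)
theorem F465799 : act 4 n206376 = n212438 := d5_0 F465797 F374804 (iv3 F186714) (iv4 F206679) D206376
theorem F465800 : act 7 n203361 = n212438 := d8_0 F465797 (iv7 F374810) D203361
def n212439 : Q := act 1 n146926
theorem D212439 : act 1 n146926 = n212439 := rfl
def n212440 : Q := act 5 n146926
theorem D212440 : act 5 n146926 = n212440 := rfl
theorem F465801 : act 3 n212440 = n204502 := d6_1 D212440 F432733 F405403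
theorem F465802 : act 6 n212440 = n146929 := d12_2 D146926 D212440 (iv5 D146929) (iv6 D68876) D68875
def n212441 : Q := act 4 n146929
theorem D212441 : act 4 n146929 = n212441 := rfl
theorem F465803 : act 2 n212441 = n210755 := d1_1 D212441 (iv4 F458699) F386231
theorem F465804 : act 5 n212441 = n203555 := d9_2 D146929 D212441 F428860 D203557 F428869 (iv5 F227873) (iv4 F370347) F370348 (iv4 F386209) F403863 F403862 F402926 (iv4 F210715) (iv5 F227869) F227868
theorem F465805 : act 0 n201986 = n212441 := d17_2 (iv1 D201985) D201986 F465804 F428860 D203557 (iv0 F428870) (iv5 D198860) D198859 (iv4 F422613)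
theorem F465806 : act 1 n210758 = n212441 := d17_6 D174508 F383339 F442697 F442694 F350655 (iv5 F458704) F465804 (iv0 F428861) (iv4 D174510)
theorem F465807 : act 7 n210756 = n212441 := d15_2 (iv0 D210755) D210756 F465803
theorem F465808 : act 2 n210756 = n192251 := d4_3 F458698 (iv2 F465803) (iv7 F465807)
theorem F465809 : act 4 n192259 = n210756 := d1_0 F465808 F386209 D192259
def n212442 : Q := act 5 n146932
theorem D212442 : act 5 n146932 = n212442 := rfl
theorem F465810 : act 2 n212442 = n188331 := d2_1 D212442 (iv5 F426171) (iv2 F426175)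
theorem F465811 : act 4 n212442 = n211194 := d9_1 D212442 F460562 F424440 D211960 F463750 (iv5 D194143) (iv4 F377180) F373186 F373185 (iv5 D139498) (iv4 F183001) D202857 F425900 (iv5 D194141) F365208
theorem F465812 : act 0 n212442 = n146941 := d17_2 (iv1 F370344) D212442 F230337 F105680 D144972 (iv0 F463210) F463209 (iv0 F322602) (iv4 F370342)
theorem F465813 : act 1 n212442 = n208232 := d17_6 (iv1 F396232) F396229 (iv1 F392182) (iv5 D194141) F365208 D212442 F448494 (iv0 F396210) F347741
def n212443 : Q := act 0 n146940
theorem D212443 : act 0 n146940 = n212443 := rfl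
theorem F465814 : act 5 n212443 = n208205 := d19_1 D212443 (iv4 F452326) F452327 (iv1 F444012) (iv5 D207257) F209230 F96467 (iv1 F46984) F46378 (iv4 F76919) F76918 D66807 D142497 F344504 F223537 F326103 D178105 (iv4 F407452) F407508
theorem F465815 : act 3 n212443 = n203355 := d20_5 (iv4 D198751) F360062 (iv4 F407452) F407508 D212443 F428017 F421874 (iv4 F458235) F458233 (iv1 F409081)
theorem F465816 : act 4 n212443 = n201811 := d20_8 F421868 (iv1 F398261) (iv4 F446557) F446556 (iv1 F407118) (iv3 F465586) F465587 D212443 F421866 D201812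
theorem F465817 : act 2 n210829 = n212443 := d15_3 (iv0 D212443) (iv0 F460588) F460587
theorem F465818 : act 6 n201810 = n212443 := d10_0 F465816 (iv6 D201811) D201810
def n212444 : Q := act 5 n146940
theorem D212444 : act 5 n146940 = n212444 := rfl
theorem F465819 : act 3 n212444 = n199032 := d6_1 D212444 F410396 F407508
theorem F465820 : act 6 n212444 = n148119 := d12_2 D146940 D212444 (iv5 D148119) (iv6 D69396) (iv5 F105068)
theorem F465821 : act 0 n212444 = n210579 := d18_0 F458110 (iv1 D151232) (iv4 F325485) (iv5 F367566) (iv4 F465366) (iv0 F465367) (iv4 F465816) (iv0 D212443) D212444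
def n212445 : Q := act 7 n146940
theorem D212445 : act 7 n146940 = n212445 := rfl
theorem F465822 : act 3 n212445 = n198765 := d8_1 D212445 F409139 F407508
theorem F465823 : act 0 n210829 = n212445 := d20_4 F384443 (iv1 D139939) D139940 D210829 F465822 (iv4 D198765) (iv1 D110161) D110162 F345632 (iv1 F384445)
def n212446 : Q := act 0 n146943
theorem D212446 : act 0 n146943 = n212446 := rfl
theorem F465824 : act 3 n212446 = n201813 := d20_5 F230239 (iv1 D68881) D68882 D146943 D212446 F421873 (iv1 D195806) (iv4 F251172) (iv3 F465565) (iv1 D212374)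
theorem F465825 : act 4 n209628 = n212446 := d5_0 F465824 F421873 (iv3 F451186) F451192 (iv3 F454376)
theorem F465826 : act 6 n210648 = n212446 := d7_0 F465824 F465665 (iv3 F465664)
theorem F465827 : act 7 n209626 = n212446 := d8_0 F465824 F421872 (iv3 F454369)
def n212447 : Q := act 1 n146943
theorem D212447 : act 1 n146943 = n212447 := rfl
theorem F465828 : act 3 n211024 = n212447 := d19_19 (iv1 D212447) (iv5 F365936) F212517 (iv3 F325471) (iv1 D126959) (iv5 D59585) (iv4 F48537) (iv3 D30173) (iv1 F38875) D51051 (iv4 F93867) D126745 F438205 (iv5 D205870) D205869 F438201 (iv1 D140542) D140545 D211024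
theorem F465829 : act 4 n209194 = n212447 := d20_6 F361419 (iv1 F226076) (iv4 F372580) F371708 F358483 (iv3 F452660) (iv1 D212447) (iv4 F388504) F388503 F361421
theorem F465830 : act 2 n212447 = n209626 := d1_1 F465829 F454370 (iv2 F452659)
theorem F465831 : act 6 n212447 = n206826 := d10_2 D209194 F465829 F442327
def n212448 : Q := act 3 n146946
theorem D212448 : act 3 n146946 = n212448 := rfl
theorem F465832 : act 5 n212448 = n194052 := d6_2 F425008 D212448 (iv3 F425006)
def n212449 : Q := act 6 n146946
theorem D212449 : act 6 n146946 = n212449 := rfl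
theorem F465833 : act 2 n212449 = n207900 := d3_1 D212449 F446928 (iv2 F398424)
theorem F465834 : act 4 n212449 = n206914 := d10_1 D212449 F442596 F398423
theorem F465835 : act 7 n212449 = n206910 := d14_2 (iv7 F446100) D212449 (iv6 D206910) (iv7 F211875) D207708
theorem F465836 : act 0 n201810 = n212449 := d18_2 (iv1 D201809) D201810 F465834 F442595 F212711 D136529 (iv4 F421641) F453315 F453314
def n212450 : Q := act 5 n146962
theorem D212450 : act 5 n146962 = n212450 := rfl
theorem F465837 : act 3 n212450 = n156463 := d6_1 D212450 F358661 (iv3 F361431)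
theorem F465838 : act 7 n212450 = n210330 := d13_2 (iv7 F233611) D212450 F457054
theorem F465839 : act 4 n212450 = n209660 := d16_2 F397422 D212450 F454534 F411766 (iv5 F351001) (iv4 F253029) F253030 (iv7 F449528) (iv2 F449526)
theorem F465840 : act 1 n212450 = n197242 := d17_8 D197241 F434685 (iv1 D205028) (iv5 F404114) (iv4 F404113) (iv5 D146976) F230353 D212450 (iv4 D197242)
theorem F465841 : act 0 n212450 = n199266 := d18_0 F411384 (iv1 F403699) (iv4 D146960) (iv5 D68886) F50666 D32040 D68895 F230353 D212450
theorem F465842 : act 6 n210650 = n212450 := d7_0 F465837 (iv6 F358664) D210650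
def n212451 : Q := act 0 n146963
theorem D212451 : act 0 n146963 = n212451 := rfl
theorem F465843 : act 4 n212451 = n175146 := d18_1 D212451 (iv1 D175146) D175147 F332230 F319531 F321515 D156958 F247058 (iv5 F361427)
theorem F465844 : act 2 n175314 = n212451 := d15_3 (iv0 D212451) (iv0 F465740) (iv7 F465742)
theorem F465845 : act 1 n178551 = n212451 := d15_0 (iv0 D212451) F361428 (iv2 F278252)
theorem F465846 : act 7 n212451 = n175311 := d15_2 F465741 F465845 (iv2 F465736)
theorem F465847 : act 6 n200193 = n212451 := d14_5 F465846 (iv6 F403166) (iv7 F403167) (iv6 F409866) (iv7 F415477)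
def n212452 : Q := act 6 n146964
theorem D212452 : act 6 n146964 = n212452 := rfl
theorem F465848 : act 0 n212452 = n210313 := d21_4 (iv5 D212420) F230279 D146964 D212452 F456967 (iv5 F386551) F431602 F431600 (iv6 F411385) (iv1 F465730)
def n212453 : Q := act 4 n146982
theorem D212453 : act 4 n146982 = n212453 := rfl
theorem F465849 : act 2 n212453 = n148160 := d1_1 D212453 F231974 (iv2 F230376)
theorem F465850 : act 3 n212453 = n186600 := d5_1 D212453 F367408 F136820 (iv4 F125280) (iv3 F309430)
theorem F465851 : act 5 n212453 = n199266 := d9_2 D146982 D212453 F411384 F366393 (iv4 D85534) (iv5 F113958) F313192 D146979 F336909 (iv5 F403706) (iv4 D197242) (iv5 D108033) F78896 D107613 F322419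
theorem F465852 : act 6 n212453 = n148112 := d10_2 (iv6 F230377) D212453 (iv4 D148112)
theorem F465853 : act 7 n212453 = n187123 := d11_2 F250264 D212453 F369172
theorem F465854 : act 0 n212453 = n187202 := d18_2 F411905 D212453 (iv4 F432053) F432052 (iv4 F225421) F339409 F339410 F320308 (iv5 F411904)
theorem F465855 : act 1 n212453 = n203090 := d18_8 F411799 F411796 F343129 (iv4 D111248) D111249 F356570 (iv0 F239156) D212453 (iv5 F426924)
def n212454 : Q := act 4 n146985
theorem D212454 : act 4 n146985 = n212454 := rfl
theorem F465856 : act 2 n212454 = n204327 := d1_1 D212454 (iv4 F465531) F465530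
theorem F465857 : act 5 n212454 = n201469 := d9_2 (iv5 F403116) D212454 F420631 (iv5 F356543) (iv4 F454539) F454540 F438451 F428695 (iv4 F440053) F440055 F432065 F329114 (iv4 F167048) D197259 (iv4 F403754)
theorem F465858 : act 6 n212454 = n206188 := d10_2 F443340 D212454 (iv4 F443343)
theorem F465859 : act 7 n212454 = n149187 := d11_2 (iv7 F428696) D212454 (iv4 F425394)
theorem F465860 : act 0 n212454 = n149241 := d17_0 F234629 (iv1 F331623) F423665 (iv4 F458766) F458767 (iv0 F453523) (iv5 D146987) D146985 D212454
theorem F465861 : act 3 n212454 = n149203 := d20_3 (iv4 F449803) F449805 D212454 (iv1 F234581) F106443 F307004 F130808 (iv4 F308780) F131626 (iv1 F230204)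
def n212455 : Q := act 3 n146998
theorem D212455 : act 3 n146998 = n212455 := rfl
theorem F465862 : act 2 n212455 = n197610 := d0_1 D212455 F405014 F227374 (iv3 F323537) (iv2 F230423)
theorem F465863 : act 4 n212455 = n208262 := d5_2 D146998 D212455 (iv3 F448636) (iv4 F330250) F183814
theorem F465864 : act 5 n212455 = n197112 := d6_2 F355155 D212455 (iv3 F403093)
theorem F465865 : act 6 n212455 = n211972 := d7_2 F355126 D212455 F463786
theorem F465866 : act 7 n212455 = n147292 := d8_2 (iv7 F230424) D212455 (iv3 D147292)
theorem F465867 : act 0 n212455 = n197124 := d20_4 F105215 F190194 D146998 D212455 (iv3 D197124) F166302 F95792 (iv4 F166032) (iv3 F339418) (iv1 D147194)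
def n212456 : Q := act 4 n147050
theorem D212456 : act 4 n147050 = n212456 := rfl
theorem F465868 : act 2 n212456 = n147363 := d1_1 D212456 (iv4 D147363) (iv2 F343338)
theorem F465869 : act 3 n212456 = n151433 := d5_1 D212456 F238173 (iv3 F238150) (iv4 F434104) F434100
theorem F465870 : act 6 n212456 = n202896 := d10_2 (iv6 F461708) D212456 (iv4 F461703)
theorem F465871 : act 7 n212456 = n147368 := d11_2 (iv7 F343339) D212456 (iv4 D147368)
theorem F465872 : act 0 n212456 = n180610 := d17_0 F391510 (iv1 F391509) D210202 F456547 (iv5 F412997) (iv0 F413002) F205186 D147050 D212456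
theorem F465873 : act 1 n212456 = n198713 := d18_6 (iv1 D110588) (iv4 F82199) F325673 D163847 (iv5 F354868) D212456 F408964 (iv0 F348468) F348465
def n212457 : Q := act 5 n147058
theorem D212457 : act 5 n147058 = n212457 := rfl
theorem F465874 : act 2 n212457 = n147876 := d2_1 D212457 (iv5 D147876) (iv2 F241164)
theorem F465875 : act 6 n212457 = n203826 := d12_2 (iv6 F348864) D212457 (iv5 F445631) (iv6 F445634) (iv5 F348861)
theorem F465876 : act 7 n212457 = n147893 := d13_2 (iv7 F241165) D212457 (iv5 D147893)
theorem F465877 : act 0 n212457 = n178180 := d17_2 (iv1 F241182) D212457 F355143 (iv4 F355141) (iv5 D140796) F180273 F335054 F335055 (iv4 F105414)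
def n212458 : Q := act 5 n147062
theorem D212458 : act 5 n147062 = n212458 := rfl
theorem F465878 : act 2 n212458 = n147893 := d2_1 D212458 (iv5 D147893) (iv2 F241156)
theorem F465879 : act 3 n212458 = n166148 := d6_1 D212458 F346945 (iv3 F354262)
theorem F465880 : act 6 n212458 = n180625 := d12_2 (iv6 F354263) D212458 F355477 (iv6 D179279) D179278
theorem F465881 : act 7 n212458 = n147876 := d13_2 (iv7 F241157) D212458 (iv5 D147876)
theorem F465882 : act 1 n212458 = n178180 := d17_6 (iv1 D146719) D146720 (iv1 F322077) F322079 D147062 D212458 F355143 (iv0 F465347) (iv4 D212329)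
theorem F465883 : act 4 n212458 = n205517 := d18_5 F338188 F105509 (iv1 F105124) D147062 D212458 F436799 (iv4 D166167) (iv0 D79786) D79789
def n212459 : Q := act 2 n147066
theorem D212459 : act 2 n147066 = n212459 := rfl
theorem F465884 : act 3 n212459 = n147929 := d0_2 D147066 D212459 (iv2 D147929) (iv3 D69305) (iv2 F105133)
theorem F465885 : act 4 n212459 = n152780 := d1_2 (iv4 F230545) D212459 (iv2 D152780)
theorem F465886 : act 6 n212459 = n204062 := d3_2 (iv6 F356032) D212459 (iv2 F430947)
theorem F465887 : act 7 n212459 = n153177 := d4_2 (iv7 F230546) D212459 (iv2 D153177)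
theorem F465888 : act 1 n212459 = n153175 := d15_0 (iv0 D153175) (iv7 F230546) D212459
theorem F465889 : act 1 n153176 = n212459 := d15_0 F465888 (iv7 F365332) (iv2 F412547)
def n212460 : Q := act 4 n147094
theorem D212460 : act 4 n147094 = n212460 := rfl
theorem F465890 : act 2 n212460 = n147764 := d1_1 D212460 F355209 (iv2 F241127)
theorem F465891 : act 3 n212460 = n175138 := d5_1 D212460 (iv4 F368183) (iv3 F368186) F344224 (iv3 F242951)
theorem F465892 : act 5 n212460 = n207996 := d9_2 D147094 D212460 (iv4 D207996) (iv5 F341650) (iv4 F346764) F346767 F314952 F184335 (iv4 F427088) (iv5 F447349) (iv4 D207997) F341653 F346787 (iv5 D95293) F314846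
theorem F465893 : act 6 n212460 = n181686 := d10_2 (iv6 F314819) D212460 (iv4 D181686)
theorem F465894 : act 7 n212460 = n147488 := d11_2 (iv7 F241128) D212460 F231270
theorem F465895 : act 0 n212460 = n147767 := d17_0 F334578 (iv1 F307887) (iv5 F345663) (iv4 D117280) D117281 F242994 F231636 F231169 D212460
theorem F465896 : act 1 n212460 = n147395 := d18_6 (iv1 F243306) (iv4 F94321) F317102 F314846 D147094 D212460 (iv4 F345661) (iv0 F313332) (iv5 D117172)
def n212461 : Q := act 4 n147151
theorem D212461 : act 4 n147151 = n212461 := rfl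
theorem F465897 : act 2 n212461 = n148817 := d1_1 D212461 (iv4 F464871) F464873
theorem F465898 : act 3 n212461 = n206304 := d5_1 D212461 F440159 (iv3 F448981) F448982 F413368
theorem F465899 : act 5 n212461 = n201410 := d9_2 (iv5 F413367) D212461 F420396 (iv5 F419783) F419782 (iv5 D198241) (iv4 F358828) (iv5 F353662) (iv4 F353664) (iv5 F409881) F409880 (iv5 F421927) F421926 (iv5 D198271) (iv4 F359054)
theorem F465900 : act 7 n212461 = n212251 := d11_2 F464868 D212461 F464980
theorem F465901 : act 0 n212461 = n162578 := d17_0 (iv5 F461892) (iv1 F461895) F347970 F115842 D77122 D160745 (iv5 F464878) F464881 D212461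
theorem F465902 : act 1 n212461 = n208884 := d18_6 (iv1 F321441) (iv4 F280915) F359055 (iv4 F359054) (iv5 F413367) D212461 F451241 (iv0 F342096) (iv5 D110583)
def n212462 : Q := act 6 n147153
theorem D212462 : act 6 n147153 = n212462 := rfl
theorem F465903 : act 2 n212462 = n147155 := d3_1 D212462 (iv6 D147155) D147153
theorem F465904 : act 4 n212462 = n148875 := d10_1 D212462 F233919 (iv4 F230739)
theorem F465905 : act 7 n212462 = n180745 := d14_2 F464880 D212462 (iv6 D180745) (iv7 F355086) (iv6 F464879)
theorem F465906 : act 0 n212462 = n172164 := d21_4 (iv5 F298819) D174141 F355095 D212462 (iv6 D172164) D172163 (iv1 F409885) F409887 (iv6 D147436) F353593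
theorem F465907 : act 5 n212462 = n174377 := d21_6 (iv5 F387325) (iv1 D192641) (iv5 F298231) F464866 (iv1 F464865) D212462 (iv1 D174377) F342663 (iv6 F342664) (iv1 F334605)
theorem F465908 : act 0 n178633 = n212462 := d21_4 (iv5 F420384) F420387 F397722 (iv6 F361640) (iv6 D212462) (iv5 F355095) (iv1 F355097) F253901 (iv6 F123620) (iv1 F350711)
def n212463 : Q := act 6 n147154
theorem D212463 : act 6 n147154 = n212463 := rfl
theorem F465909 : act 3 n212463 = n147156 := d7_1 D212463 (iv6 D147156) (iv3 F230740)
theorem F465910 : act 4 n212463 = n210954 := d10_1 D212463 (iv6 D210954) F230741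
theorem F465911 : act 5 n212463 = n193448 := d12_1 D212463 (iv6 F389872) F383201 (iv6 D147155) D147154
theorem F465912 : act 0 n212463 = n203478 := d21_10 (iv5 D203478) (iv1 F384261) (iv5 F434738) F434739 (iv1 D174038) D174040 (iv5 F353662) (iv1 D147152) D147154 D212463
theorem F465913 : act 0 n204305 = n212463 := d17_0 F465911 (iv1 F389871) F304132 (iv4 F272922) (iv5 F431998) F431996 (iv5 F431962) (iv0 D204303) D204305
def n212464 : Q := act 0 n147155
theorem D212464 : act 0 n147155 = n212464 := rfl
theorem F465914 : act 5 n212464 = n173796 := d17_1 D212464 (iv1 D173796) (iv5 D83107) (iv4 F115743) D160596 (iv0 F342682) (iv5 F346441) (iv0 D148873) (iv4 F230743)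
theorem F465915 : act 4 n212464 = n208882 := d18_1 D212464 (iv1 F451231) F319429 (iv5 D83898) D83897 F155433 (iv4 F187916) (iv0 F383203) F383201
theorem F465916 : act 3 n212464 = n178550 := d20_5 F340252 (iv1 D69780) (iv4 F105205) (iv3 F230742) D212464 (iv4 F278251) (iv1 D175317) (iv4 D83721) (iv3 F128771) (iv1 F340250)
theorem F465917 : act 6 n212464 = n160717 := d21_5 D77122 (iv1 F353650) (iv5 D147154) D147155 D212464 (iv5 F332156) (iv1 F352213) F347986 (iv6 D160743) (iv1 D77121)
theorem F465918 : act 1 n180745 = n212464 := d15_0 (iv0 D212464) (iv7 F282977) F355098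
theorem F465919 : act 2 n172164 = n212464 := d3_3 F465917 F301004 D172164
theorem F465920 : act 7 n178633 = n212464 := d14_0 F465917 F301005 D172169 F358632 (iv6 F361640)
def n212465 : Q := act 1 n147155
theorem D212465 : act 1 n147155 = n212465 := rfl
theorem F465921 : act 1 n212465 = n180745 := d15_1 D212465 (iv7 F465905) F465903
theorem F465922 : act 7 n212465 = n172164 := d15_2 (iv0 D212464) D212465 F465919
theorem F465923 : act 4 n212465 = n205010 := d17_9 F434588 F217455 D136449 (iv5 F344830) F342692 F342652 (iv0 F383203) F383201 D212465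
theorem F465924 : act 5 n212465 = n153208 := d18_9 F429814 F429810 (iv1 F361347) F344948 (iv5 D175784) (iv4 F344862) (iv0 D148873) (iv4 F230743) D212465
theorem F465925 : act 3 n173696 = n212465 := d19_19 (iv1 D212465) (iv5 F383201) F383200 F319025 (iv1 D86939) D86940 D182032 F372191 (iv1 D188041) D188042 (iv4 F372199) (iv3 F399269) F399271 (iv5 F362887) (iv4 F336391) F336390 (iv1 F215999) (iv5 F368231) F368230
theorem F465926 : act 6 n212461 = n212465 := d21_3 (iv5 F359835) F420399 (iv5 F465899) (iv1 D212465) (iv6 D147155) D147154 (iv1 F353659) F350703 (iv6 F253894) (iv1 F253896)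
theorem F465927 : act 2 n212465 = n178633 := d3_1 F465926 F361640 (iv2 F465897)
def n212466 : Q := act 4 n147161
theorem D212466 : act 4 n147161 = n212466 := rfl
theorem F465928 : act 2 n212466 = n199489 := d1_1 D212466 F412362 F348612
theorem F465929 : act 3 n212466 = n198533 := d5_1 D212466 (iv4 D198533) F169495 F112589 (iv3 F230748)
theorem F465930 : act 0 n212466 = n152484 := d18_2 F230749 D212466 (iv4 D152484) (iv5 D71923) F52466 D33235 D71932 F239672 (iv5 F322481)
theorem F465931 : act 1 n212466 = n199575 := d18_6 F403011 F403009 F346150 F183788 D147161 D212466 (iv4 D199575) (iv0 D111440) D111443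
def n212467 : Q := act 4 n147174
theorem D212467 : act 4 n147174 = n212467 := rfl
theorem F465932 : act 2 n212467 = n199451 := d1_1 D212467 F412257 (iv2 F339248)
theorem F465933 : act 3 n212467 = n198702 := d5_1 D212467 (iv4 D198702) (iv3 F320040) F320041 D147174
theorem F465934 : act 6 n212467 = n163061 := d10_2 (iv6 F336518) D212467 (iv4 D163061)
theorem F465935 : act 7 n212467 = n160571 := d11_2 (iv7 F339249) D212467 F253653
theorem F465936 : act 0 n212467 = n199424 := d18_2 (iv1 F323591) D212467 F412123 (iv5 F342074) F342076 (iv0 F342077) F183788 (iv0 F339247) F318594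
theorem F465937 : act 1 n212467 = n199464 := d18_6 F347797 F108280 D71839 (iv4 F319129) (iv5 F230756) D212467 F412301 (iv0 D111547) D111550
def n212468 : Q := act 5 n147175
theorem D212468 : act 5 n147175 = n212468 := rfl
theorem F465938 : act 3 n212468 = n163062 := d6_1 D212468 (iv5 D163062) (iv3 F336519)
theorem F465939 : act 6 n212468 = n147444 := d12_2 D147175 D212468 (iv5 D147444) (iv6 D69117) (iv5 F105211)
theorem F465940 : act 7 n212468 = n205063 := d13_2 (iv7 F339262) D212468 (iv5 D205063)
theorem F465941 : act 0 n212468 = n163180 := d17_2 F394735 D212468 (iv5 F354190) F175538 D198403 (iv0 F407900) (iv5 D147707) (iv0 F364599) (iv4 F394734)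
theorem F465942 : act 4 n212468 = n184338 := d18_5 (iv1 F333963) (iv4 F257340) (iv1 F277034) (iv4 F336520) D212468 F394167 F394164 (iv0 F333976) F231458
theorem F465943 : act 0 n206299 = n212468 := d21_10 (iv5 D212468) F353265 D163149 F410345 F410344 (iv6 F401936) F264139 (iv1 D167767) F206312 D206299
def n212469 : Q := act 3 n147208
theorem D212469 : act 3 n147208 = n212469 := rfl
theorem F465944 : act 2 n212469 = n199964 := d0_1 D212469 F414368 F363696 F368640 (iv2 F368639)
theorem F465945 : act 4 n212469 = n187090 := d5_2 D147208 D212469 F426474 (iv4 D202977) F242999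
theorem F465946 : act 5 n212469 = n193623 := d6_2 F346002 D212469 (iv3 D193623)
theorem F465947 : act 6 n212469 = n187088 := d7_2 F378293 D212469 (iv3 F378290)
theorem F465948 : act 7 n212469 = n190629 := d8_2 (iv7 F360230) D212469 F380377
theorem F465949 : act 0 n212469 = n199962 := d20_4 F334502 F243012 D147208 D212469 (iv3 F414361) F267881 (iv1 F341039) (iv4 F317119) (iv3 F353135) (iv1 F334501)
theorem F465950 : act 1 n212469 = n199961 := d15_0 (iv0 D199961) D199964 (iv2 F465944)
def n212470 : Q := act 5 n147235
theorem D212470 : act 5 n147235 = n212470 := rfl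
theorem F465951 : act 2 n212470 = n147236 := d2_1 D212470 (iv5 D147236) D147235
theorem F465952 : act 1 n212470 = n211489 := d17_6 D147320 (iv5 F232043) (iv1 D113141) F105258 (iv4 F230824) D212470 F461789 (iv0 F419667) F313051
def n212471 : Q := act 6 n147235
theorem D212471 : act 6 n147235 = n212471 := rfl
theorem F465953 : act 2 n212471 = n147237 := d3_1 D212471 (iv6 D147237) D147235
theorem F465954 : act 3 n212471 = n200371 := d7_1 D212471 F416170 F397790
theorem F465955 : act 4 n212471 = n147275 := d10_1 D212471 (iv6 D147275) (iv4 F230824)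
theorem F465956 : act 5 n212471 = n200362 := d21_6 F317559 (iv1 D62351) D62352 D132867 (iv1 F342094) D212471 F444734 F444731 (iv6 D173657) (iv1 F129055)
theorem F465957 : act 0 n212471 = n150316 := d21_10 (iv5 F355118) (iv1 F289017) F355323 (iv6 F375467) (iv1 F375468) F419668 (iv5 F461789) (iv1 F465952) (iv5 D212470) D212471
theorem F465958 : act 1 n212471 = n201226 := d15_1 (iv0 F465957) F419527 F392248
def n212472 : Q := act 4 n147236
theorem D212472 : act 4 n147236 = n212472 := rfl
theorem F465959 : act 3 n212472 = n200557 := d5_1 D212472 (iv4 F463946) F463943 F227877 (iv3 F230825)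
theorem F465960 : act 6 n212472 = n189477 := d10_2 F376725 D212472 (iv4 F376724)
theorem F465961 : act 7 n212472 = n200557 := d11_2 F463945 D212472 (iv4 F463946)
theorem F465962 : act 5 n212472 = n200556 := d16_3 (iv4 F105236) D147236 D212472 F416964 F176418 (iv4 F93185) (iv5 F175177) F175178 (iv2 D69039)
theorem F465963 : act 0 n200556 = n194209 := d21_7 F69128 (iv1 D43922) D43924 D93981 D189477 (iv6 F465960) F465962 (iv5 D194209) (iv6 D102977) (iv1 F293766)
theorem F465964 : act 1 n200548 = n194209 := d15_0 (iv0 F465963) (iv7 F416965) (iv2 F416956)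
def n212473 : Q := act 5 n147237
theorem D212473 : act 5 n147237 = n212473 := rfl
theorem F465965 : act 2 n212473 = n200362 := d2_1 D212473 (iv5 F465956) F465953
theorem F465966 : act 3 n212473 = n147241 := d6_1 D212473 (iv5 D147241) (iv3 F230826)
theorem F465967 : act 0 n212473 = n175980 := d17_2 F392259 D212473 (iv5 D175980) F128959 D83976 D175992 (iv5 F275318) F353635 (iv4 F392257)
theorem F465968 : act 1 n212473 = n200356 := d17_6 F350633 D201414 F420423 (iv5 D147278) (iv4 F230827) D212473 F416124 (iv0 F326296) F350628
theorem F465969 : act 7 n212473 = n200363 := d15_2 F416126 (iv0 F465967) (iv2 F444739)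
def n212474 : Q := act 7 n147237
theorem D212474 : act 7 n147237 = n212474 := rfl
theorem F465970 : act 3 n212474 = n147242 := d8_1 D212474 (iv7 D147242) (iv3 F230826)
theorem F465971 : act 4 n212474 = n147279 := d11_1 D212474 (iv7 D147279) (iv4 F230827)
theorem F465972 : act 5 n212474 = n200363 := d13_1 D212474 (iv7 F465969) (iv5 D212473)
theorem F465973 : act 6 n212474 = n201228 := d14_1 D212474 F419539 (iv6 F343355) F227875 D147237
theorem F465974 : act 1 n201226 = n212474 := d15_1 F465958 (iv7 D212474) (iv2 F465953)
theorem F465975 : act 1 n212474 = n150316 := d15_1 F465974 (iv7 F392256) (iv2 F419524)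
def n212475 : Q := act 0 n147255
theorem D212475 : act 0 n147255 = n212475 := rfl
theorem F465976 : act 4 n212475 = n149062 := d18_3 F359662 D147255 D212475 (iv5 F280336) F334455 F259008 (iv4 F355308) (iv0 D120100) D120102
theorem F465977 : act 3 n212475 = n183227 := d20_5 (iv4 F258976) (iv1 D78983) (iv4 F120153) (iv3 F230848) D212475 (iv4 F342243) F210100 (iv4 F342256) (iv3 F342257) (iv1 D97281)
theorem F465978 : act 6 n212475 = n149061 := d21_5 F96256 F70292 (iv5 F105249) (iv6 F230849) D212475 F443596 F443595 (iv5 D204923) F199527 F120158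
theorem F465979 : act 2 n149200 = n212475 := d3_3 F465978 F234416 D149200
theorem F465980 : act 5 n200334 = n212475 := d12_5 F465978 F443596 (iv6 D207164) (iv5 F245134) D200334
theorem F465981 : act 7 n202892 = n212475 := d14_0 F465978 F234417 D149181 (iv7 F366434) (iv6 F426071)
def n212476 : Q := act 1 n147255
theorem D212476 : act 1 n147255 = n212476 := rfl
theorem F465982 : act 7 n212476 = n149200 := d15_2 (iv0 D212475) D212476 F465979
theorem F465983 : act 4 n212476 = n149203 := d18_7 (iv1 F183340) F230828 (iv1 D147240) F105239 D69028 D147255 D212476 F234582 F183362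
theorem F465984 : act 2 n202892 = n212476 := d1_3 F465983 F234579 D202892
theorem F465985 : act 6 n206189 = n212476 := d10_0 F465983 F363631 D206189
def n212477 : Q := act 5 n147255
theorem D212477 : act 5 n147255 = n212477 := rfl
theorem F465986 : act 2 n212477 = n210088 := d2_1 D212477 F456106 F380238
theorem F465987 : act 3 n212477 = n164453 := d6_1 D212477 (iv5 D164453) (iv3 F230848)
theorem F465988 : act 6 n212477 = n190029 := d12_2 (iv6 F230849) D212477 (iv5 D190029) (iv6 D95565) (iv5 F105249)
theorem F465989 : act 1 n212477 = n211771 := d17_6 F346230 F316977 (iv1 D69027) D69028 D147255 D212477 F463037 (iv0 F464724) F464722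
def n212478 : Q := act 7 n147255
theorem D212478 : act 7 n147255 = n212478 := rfl
theorem F465990 : act 3 n212478 = n164454 := d8_1 D212478 (iv7 D164454) (iv3 F230848)
theorem F465991 : act 4 n212478 = n147256 := d11_1 D212478 (iv7 D147256) D147255
theorem F465992 : act 1 n202892 = n212478 := d15_1 (iv0 F426072) (iv7 D212478) (iv2 F380238)
theorem F465993 : act 1 n212478 = n149200 := d15_1 F465992 (iv7 F465982) (iv2 F465984)
def n212479 : Q := act 5 n147260
theorem D212479 : act 5 n147260 = n212479 := rfl
theorem F465994 : act 2 n212479 = n191262 := d2_1 D212479 F382797 (iv2 F361087)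
theorem F465995 : act 3 n212479 = n158873 := d6_1 D212479 (iv5 F413793) F413791
theorem F465996 : act 4 n212479 = n196017 := d9_1 D212479 (iv5 F399084) (iv4 F214571) F363737 (iv4 F335140) F315691 (iv4 F320367) D190933 F381597 F211424 F163708 D130655 (iv4 F335849) F335130 D147260
theorem F465997 : act 6 n212479 = n158871 := d12_2 F378298 D212479 (iv5 D158871) (iv6 F340710) D189934
theorem F465998 : act 7 n212479 = n190071 := d13_2 F348972 D212479 (iv5 D190071)
theorem F465999 : act 0 n212479 = n190619 := d17_2 F230857 D212479 (iv5 D190619) F350619 D97240 (iv0 F330071) F350182 (iv0 F188388) (iv4 F204884)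
theorem F466000 : act 1 n212479 = n190621 := d17_6 (iv1 F335136) (iv5 F335139) (iv1 F228578) F335130 D147260 D212479 (iv5 D190621) F148030 (iv4 F308128)
def n212480 : Q := act 4 n147278
theorem D212480 : act 4 n147278 = n212480 := rfl
theorem F466001 : act 2 n212480 = n198337 := d1_1 D212480 (iv4 F407654) (iv2 F230890)
theorem F466002 : act 3 n212480 = n200212 := d5_1 D212480 (iv4 D200212) (iv3 F335867) (iv4 D147290) (iv3 F230891)
theorem F466003 : act 6 n212480 = n200500 := d10_2 (iv6 F230892) D212480 (iv4 D200500)
theorem F466004 : act 5 n212480 = n198203 := d17_5 F398601 F398599 (iv1 D147277) D147278 D212480 (iv0 D198203) F355980 (iv0 F413616) (iv4 F413614)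
theorem F466005 : act 0 n212480 = n175993 := d18_2 F420423 D212480 (iv4 D175993) (iv5 D83976) (iv4 F128959) D175979 (iv4 F420413) (iv0 D201413) D201414
theorem F466006 : act 1 n212480 = n179609 := d18_6 F339214 (iv4 F392257) F392259 F230827 D147278 D212480 F279725 (iv0 F331955) F331957
def n212481 : Q := act 1 n147292
theorem D212481 : act 1 n147292 = n212481 := rfl
theorem F466007 : act 4 n212481 = n191412 := d17_9 (iv1 F411697) D205012 (iv1 F448753) F448755 (iv4 D197615) (iv5 D108508) D108506 F360548 D212481
theorem F466008 : act 3 n150319 = n212481 := d20_3 (iv4 F392343) (iv1 F396399) F396397 (iv1 D212481) (iv3 D147292) (iv4 D69054) (iv1 D32121) (iv4 F51069) (iv3 F105263) D147276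
theorem F466009 : act 5 n207141 = n212481 := d21_0 (iv1 D212481) (iv5 F360548) (iv6 F372108) F372110 F359335 (iv5 F359309) (iv1 F428243) F428245 (iv6 F409559) (iv1 F443496)
theorem F466010 : act 6 n191411 = n212481 := d21_9 (iv5 F360548) (iv1 D108506) D108508 D197616 F427167 (iv6 D175279) (iv5 F333658) F428729 F428728 (iv1 D212481)
theorem F466011 : act 2 n212481 = n197124 := d3_1 F466010 F403148 (iv2 F383399)
theorem F466012 : act 0 n197610 = n212481 := d21_4 F419642 D203291 F427705 (iv6 F405016) (iv6 F466010) (iv5 F428728) (iv1 F428730) F354872 (iv6 F357760) F419645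
def n212482 : Q := act 2 n147292
theorem D212482 : act 2 n147292 = n212482 := rfl
theorem F466013 : act 3 n212482 = n211974 := d0_2 D147292 D212482 F463800 F425161 (iv2 F190209)
theorem F466014 : act 4 n212482 = n208261 := d1_2 F348522 D212482 (iv2 F448630)
theorem F466015 : act 5 n212482 = n197111 := d2_2 F360548 D212482 (iv2 F403098)
theorem F466016 : act 7 n212482 = n197610 := d4_2 F465866 D212482 (iv2 F465862)
theorem F466017 : act 1 n212482 = n197124 := d15_0 (iv0 F465867) F465866 D212482
def n212483 : Q := act 5 n147295
theorem D212483 : act 5 n147295 = n212483 := rfl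
theorem F466018 : act 2 n212483 = n190442 := d2_1 D212483 F379780 (iv2 F230915)
theorem F466019 : act 3 n212483 = n203804 := d6_1 D212483 (iv5 F429893) F259178
theorem F466020 : act 4 n212483 = n190007 := d9_1 D212483 F378548 F360550 F354244 (iv4 D68910) F318128 (iv4 F181615) F333591 F147652 (iv5 F139652) F350209 F350202 (iv4 D69054) D69055 D147295
theorem F466021 : act 6 n212483 = n190422 := d12_2 (iv6 F230916) D212483 F447553 F447551 (iv5 D154053)
theorem F466022 : act 7 n212483 = n190005 := d13_2 F425132 D212483 (iv5 F425131)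
theorem F466023 : act 0 n212483 = n190441 := d17_2 F363628 D212483 F379774 F235005 F106614 D127483 (iv5 F326252) (iv0 D142085) (iv4 F225111)
theorem F466024 : act 1 n212483 = n190440 := d17_6 D143769 F315734 F190185 D69055 D147295 D212483 F379771 F363615 F315728
def n212484 : Q := act 5 n147319
theorem D212484 : act 5 n147319 = n212484 := rfl
theorem F466025 : act 2 n212484 = n147444 := d2_1 D212484 (iv5 D147444) (iv2 F230982)
theorem F466026 : act 3 n212484 = n174526 := d6_1 D212484 (iv5 F366958) F361634
theorem F466027 : act 7 n212484 = n147808 := d13_2 F230986 D212484 (iv5 D147808)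
theorem F466028 : act 4 n212484 = n210667 := d16_2 (iv4 F230983) D212484 F458391 (iv4 F306620) (iv5 D149129) F308457 (iv5 F231484) F310455 (iv2 F310451)
theorem F466029 : act 0 n212484 = n153890 := d17_2 F230984 D212484 (iv5 D153890) (iv4 D72801) (iv5 D33578) (iv0 D16224) (iv5 F24806) D32148 D69106
theorem F466030 : act 1 n212484 = n153904 := d17_6 (iv1 F242481) (iv5 D73173) (iv1 F110492) (iv5 F182675) (iv4 F230983) D212484 (iv5 D153904) F241834 (iv4 F242479)
def n212485 : Q := act 6 n147320
theorem D212485 : act 6 n147320 = n212485 := rfl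
theorem F466031 : act 2 n212485 = n147553 := d3_1 D212485 (iv6 D147553) F230991
theorem F466032 : act 3 n212485 = n186838 := d7_1 D212485 (iv6 F368204) (iv3 F347993)
theorem F466033 : act 5 n212485 = n166465 := d12_1 D212485 F358929 (iv5 F254313) (iv6 F330676) F232043
theorem F466034 : act 0 n212485 = n166516 := d21_4 (iv5 F202633) (iv1 F202636) F232043 D212485 (iv6 F354321) F283776 (iv1 D88537) (iv5 F328234) (iv6 F343351) (iv1 D147072)
theorem F466035 : act 1 n212485 = n147892 := d15_1 (iv0 F466034) F375462 F375458
def n212486 : Q := act 4 n147335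
theorem D212486 : act 4 n147335 = n212486 := rfl
theorem F466036 : act 2 n212486 = n147506 := d1_1 D212486 (iv4 D147506) (iv2 F241111)
theorem F466037 : act 5 n212486 = n193243 := d9_2 D147335 D212486 (iv4 D193243) F357287 (iv4 F350764) F350765 (iv4 D117712) D117713 D203133 F427096 (iv4 D193244) F357284 (iv4 F350721) (iv5 F348852) (iv4 D147334)
theorem F466038 : act 6 n212486 = n167688 := d10_2 F237836 D212486 (iv4 F308515)
theorem F466039 : act 7 n212486 = n147492 := d11_2 (iv7 F241112) D212486 (iv4 D147492)
theorem F466040 : act 0 n212486 = n212147 := d17_0 F464488 F389195 (iv5 D107287) F78324 D53663 D116432 (iv5 F228592) F318458 D212486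
theorem F466041 : act 1 n212486 = n157155 := d18_6 (iv1 F243366) F231392 (iv1 F243368) (iv4 D147334) D147335 D212486 (iv4 F361195) F355145 F243347
theorem F466042 : act 3 n202637 = n212486 := d20_5 F424767 (iv1 D195467) D195468 (iv3 F410604) (iv1 F424876) (iv4 D212486) (iv1 F318458) (iv4 F460355) F460354 (iv1 F424768)
def n212487 : Q := act 0 n147338
theorem D212487 : act 0 n147338 = n212487 := rfl
theorem F466043 : act 4 n212487 = n206181 := d18_1 D212487 (iv1 F439604) F320821 (iv5 F381491) F381490 F329316 D137710 F456325 F456323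
theorem F466044 : act 2 n147513 = n212487 := d15_3 (iv0 D212487) (iv0 F350011) (iv7 F360693)
theorem F466045 : act 1 n147517 = n212487 := d15_0 (iv0 D212487) (iv7 F360682) (iv2 F360681)
theorem F466046 : act 7 n212487 = n147514 := d15_2 (iv0 F357290) F466045 (iv2 F360685)
theorem F466047 : act 3 n199244 = n212487 := d19_19 (iv1 F466045) (iv5 F357281) F156194 (iv3 F156174) (iv1 F365536) F365529 F183877 (iv3 D68952) (iv1 F50687) D32180 (iv4 F94383) F105467 (iv1 D50541) D50543 (iv4 F322923) D194079 (iv1 F456560) F456557 (iv4 F411298)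
theorem F466048 : act 6 n212487 = n204960 := d7_2 (iv6 F411299) F466047 (iv3 F434359)
def n212488 : Q := act 5 n147363
theorem D212488 : act 5 n147363 = n212488 := rfl
def n212489 : Q := act 5 n147368
theorem D212489 : act 5 n147368 = n212489 := rfl
theorem F466049 : act 3 n212489 = n151432 := d6_1 D212489 (iv5 D151432) (iv3 F343330)
theorem F466050 : act 6 n212489 = n204098 := d12_2 (iv6 F343331) D212489 (iv5 D204098) (iv6 D122665) (iv5 F107880)
def n212490 : Q := act 6 n147371
theorem D212490 : act 6 n147371 = n212490 := rfl
theorem F466051 : act 2 n212490 = n147376 := d3_1 D212490 (iv6 D147376) (iv2 F231087)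
theorem F466052 : act 3 n212490 = n147664 := d7_1 D212490 (iv6 D147664) (iv3 F231088)
theorem F466053 : act 4 n212490 = n160953 := d10_1 D212490 (iv6 F453106) F453105
theorem F466054 : act 5 n212490 = n211906 := d12_1 D212490 (iv6 D211906) F364895 (iv6 D147372) D147371
theorem F466055 : act 7 n212490 = n177606 := d14_2 F403555 D212490 F359274 (iv7 F262444) (iv6 F403554)
theorem F466056 : act 0 n212490 = n163771 := d21_4 (iv5 F354823) (iv1 F230527) D147371 D212490 (iv6 D163771) (iv5 F334329) (iv1 F359610) (iv5 F334310) F354849 (iv1 F354857)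
theorem F466057 : act 0 n174108 = n212490 := d21_4 (iv5 F373443) (iv1 F413017) (iv5 F434772) F434773 (iv6 D212490) (iv5 D147371) (iv1 F230528) F354868 F330810 F362445
def n212491 : Q := act 1 n147372
theorem D212491 : act 1 n147372 = n212491 := rfl
theorem F466058 : act 1 n212491 = n147380 := d15_1 D212491 (iv7 D147380) (iv2 F231089)
theorem F466059 : act 7 n212491 = n147377 := d15_2 (iv0 F364023) D212491 F354818
theorem F466060 : act 3 n188110 = n212491 := d19_19 (iv1 D212491) (iv5 F364895) (iv4 F362475) (iv3 F362476) (iv1 F179578) (iv5 F222822) (iv4 F378221) (iv3 D189913) (iv1 F147068) (iv5 D87717) (iv4 F63106) F34349 (iv1 F63132) D22868 (iv4 F65430) (iv3 F135137) F135139 D90814 D188110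
theorem F466061 : act 4 n188123 = n212491 := d20_0 (iv1 D212491) (iv4 F426599) F426598 D203048 (iv3 F432067) F432068 F237501 (iv4 F465334) F465333 (iv1 F415449)
theorem F466062 : act 5 n197121 = n212491 := d21_0 (iv1 D212491) (iv5 F364895) D211906 (iv1 F463519) (iv6 F438337) F438334 (iv1 F372111) (iv5 F376001) F428882 (iv1 F428880)
theorem F466063 : act 6 n175140 = n212491 := d21_3 (iv5 D83689) (iv1 F128706) (iv5 F274113) (iv1 D212491) (iv6 D147372) D147371 F416614 F416611 F354871 (iv1 D175246)
theorem F466064 : act 2 n212491 = n147378 := d3_1 F466063 F354821 (iv2 F274112)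
def n212492 : Q := act 3 n147377
theorem D212492 : act 3 n147377 = n212492 := rfl
theorem F466065 : act 2 n212492 = n173537 := d0_1 D212492 F271973 F128008 (iv3 F128795) (iv2 F354818)
theorem F466066 : act 6 n212492 = n152446 := d7_2 (iv6 F354819) D212492 F327794
theorem F466067 : act 7 n212492 = n188110 := d8_2 F466059 D212492 F466060
theorem F466068 : act 4 n212492 = n152448 := d20_6 (iv4 D69106) (iv1 D32148) (iv4 F51102) (iv3 F105341) D147377 D212492 F239683 D188566 F373995 (iv1 F231137)
theorem F466069 : act 0 n152476 = n212492 := d18_2 F429189 F420674 F466068 (iv5 F239627) F290584 D187700 (iv4 F371830) (iv0 F372526) (iv5 F429188)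
def n212493 : Q := act 4 n147377
theorem D212493 : act 4 n147377 = n212493 := rfl
theorem F466070 : act 2 n212493 = n175408 := d1_1 D212493 F274460 (iv2 F354818)
theorem F466071 : act 3 n212493 = n187098 := d5_1 D212493 F369075 (iv3 F239628) (iv4 F466068) (iv3 D212492)
theorem F466072 : act 6 n212493 = n175169 := d10_2 (iv6 F354819) D212493 F274186
theorem F466073 : act 7 n212493 = n188123 := d11_2 F466059 D212493 F466061
theorem F466074 : act 5 n212493 = n187097 := d17_5 F420957 F403125 F428603 F428601 D212493 (iv0 F465790) (iv5 D212427) (iv0 F374136) (iv4 F420956)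
def n212494 : Q := act 1 n147392
theorem D212494 : act 1 n147392 = n212494 := rfl
theorem F466075 : act 7 n212494 = n147594 := d15_2 F436778 D212494 (iv2 F436773)
theorem F466076 : act 4 n186837 = n212494 := d20_0 (iv1 D212494) (iv4 F465435) (iv3 D212351) (iv1 D146791) (iv3 F230145) (iv4 F425527) F434568 (iv4 F449228) F449227 F432226
theorem F466077 : act 6 n178247 = n212494 := d21_9 F393128 (iv1 F393129) F392928 F355149 (iv1 D117300) F321422 (iv5 D84840) D84836 D178247 (iv1 D212494)
theorem F466078 : act 2 n212494 = n147733 := d3_1 F466077 F361710 F356626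
theorem F466079 : act 0 n147735 = n212494 := d21_4 F427699 F213518 F347353 (iv6 F361775) (iv6 F466077) (iv5 D178247) (iv1 F130028) (iv5 F323556) D190704 F427704
def n212495 : Q := act 2 n147392
theorem D212495 : act 2 n147392 = n212495 := rfl
theorem F466080 : act 3 n212495 = n147756 := d0_2 D147392 D212495 (iv2 D147756) (iv3 D69228) (iv2 F233780)
theorem F466081 : act 5 n212495 = n194354 := d2_2 (iv5 F393128) D212495 (iv2 F393124)
theorem F466082 : act 7 n212495 = n147735 := d4_2 (iv7 F233782) D212495 (iv2 D147735)
theorem F466083 : act 1 n212495 = n147733 := d15_0 (iv0 D147733) (iv7 F233782) D212495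
theorem F466084 : act 1 n147594 = n212495 := d15_0 F466083 (iv7 F436776) F436773
theorem F466085 : act 6 n212495 = n174316 := d21_5 F292807 (iv1 F321870) (iv5 F323552) (iv6 F361710) (iv1 F466083) F273111 (iv1 F303172) (iv5 F309748) (iv6 F342716) (iv1 F292806)
def n212496 : Q := act 6 n147392
theorem D212496 : act 6 n147392 = n212496 := rfl
theorem F466086 : act 2 n212496 = n174316 := d3_1 D212496 (iv6 F466085) (iv2 D212495)
theorem F466087 : act 3 n212496 = n147395 := d7_1 D212496 (iv6 D147395) D147392
theorem F466088 : act 5 n212496 = n174299 := d12_1 D212496 F273099 (iv5 F440318) F440321 (iv5 F393128)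
theorem F466089 : act 7 n212496 = n174298 := d14_2 (iv7 F233782) D212496 (iv6 F349794) (iv7 F349791) F347339
theorem F466090 : act 0 n212496 = n174314 := d21_4 (iv5 F392486) (iv1 F393126) (iv5 F393128) D212496 (iv6 F446296) (iv5 F446295) F446299 (iv5 F213317) (iv6 F432351) (iv1 F432348)
theorem F466091 : act 0 n174313 = n212496 := d21_4 F316681 (iv1 F243370) (iv5 F350765) F429183 (iv6 D212496) F393128 (iv1 F393129) F392928 F355149 (iv1 D117300)
def n212497 : Q := act 3 n147397
theorem D212497 : act 3 n147397 = n212497 := rfl
theorem F466092 : act 2 n212497 = n148645 := d0_1 D212497 (iv3 D148645) (iv2 F184920) F336321 (iv2 F337906)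
theorem F466093 : act 5 n212497 = n184836 := d6_2 (iv5 F337905) D212497 (iv3 D184836)
theorem F466094 : act 6 n212497 = n205816 := d7_2 (iv6 F337907) D212497 (iv3 D205816)
theorem F466095 : act 7 n212497 = n147769 := d8_2 (iv7 F337908) D212497 (iv3 D147769)
theorem F466096 : act 4 n212497 = n209899 := d20_6 F203918 (iv1 F93852) D67641 (iv3 F332110) (iv1 F231110) D212497 (iv1 F462927) F425654 (iv3 D144346) (iv1 F203920)
def n212498 : Q := act 3 n147398
theorem D212498 : act 3 n147398 = n212498 := rfl
theorem F466097 : act 2 n212498 = n198059 := d0_1 D212498 (iv3 D198059) (iv2 F171929) (iv3 F349409) (iv2 F231111)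
theorem F466098 : act 4 n212498 = n210760 := d5_2 D147398 D212498 F458708 F422515 F231095
theorem F466099 : act 5 n212498 = n154527 := d6_2 (iv5 F231112) D212498 F242555
theorem F466100 : act 6 n212498 = n209977 := d7_2 (iv6 F388859) D212498 F455597
theorem F466101 : act 7 n212498 = n154526 := d8_2 F231113 D212498 F242554
theorem F466102 : act 0 n202578 = n212498 := d20_4 F395974 (iv1 D116021) (iv4 F180762) (iv3 F424588) (iv3 D212498) (iv4 D147398) D147396 F337988 (iv3 F341126) (iv1 F395976)
theorem F466103 : act 1 n210546 = n212498 := d15_1 D210546 F466101 F349415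
theorem F466104 : act 5 n210546 = n185176 := d21_0 (iv1 F411821) (iv5 D199354) (iv6 D111228) D111224 D199349 (iv5 F452900) (iv1 F452903) D209977 (iv6 F466100) (iv1 F466103)
def n212499 : Q := act 5 n147406
theorem D212499 : act 5 n147406 = n212499 := rfl
theorem F466105 : act 2 n212499 = n147808 := d2_1 D212499 (iv5 D147808) F231136
theorem F466106 : act 3 n212499 = n205866 := d6_1 D212499 F438191 F373995
theorem F466107 : act 4 n212499 = n210668 := d9_1 D212499 F458399 (iv4 F242547) (iv5 D124672) F92105 (iv5 F182675) (iv4 F230983) D212484 F466028 F458391 (iv4 F306620) (iv5 D149129) F308457 (iv5 F231484) (iv4 F231485)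
theorem F466108 : act 7 n212499 = n147444 := d13_2 (iv7 F231138) D212499 (iv5 D147444)
theorem F466109 : act 0 n212499 = n153904 := d17_2 D147406 D212499 (iv5 D153904) (iv4 D72816) (iv5 D33583) F25770 (iv5 F24813) F51106 D69101
theorem F466110 : act 1 n212499 = n153890 := d17_6 (iv1 F230910) (iv5 D73154) D73151 (iv5 F231484) (iv4 F231485) D212499 (iv5 D153890) F230908 F230906
def n212500 : Q := act 3 n147431
theorem D212500 : act 3 n147431 = n212500 := rfl
theorem F466111 : act 4 n212500 = n147515 := d5_2 D147431 D212500 (iv3 D147515) (iv4 D69138) (iv3 F105410)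
theorem F466112 : act 6 n212500 = n147914 := d7_2 (iv6 F231209) D212500 (iv3 D147914)
theorem F466113 : act 7 n212500 = n196799 := d8_2 F349999 D212500 (iv3 F401839)
theorem F466114 : act 0 n212500 = n193242 := d19_4 (iv1 D69111) D69112 D147431 D212500 (iv5 F411126) (iv4 F411124) (iv3 F401839) (iv1 D116099) D116100 (iv4 F373309) (iv3 F391501) (iv1 D193953) F344567 F324000 (iv3 D86237) F320742 D51834 F316332 F243077
theorem F466115 : act 0 n196784 = n212500 := d20_4 F459597 F461195 F461192 (iv3 F401791) (iv3 D212500) (iv4 D147431) D147430 (iv4 F424862) F424863 F459600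
theorem F466116 : act 2 n212500 = n196798 := d15_3 (iv0 D196798) D196799 (iv7 F466113)
def n212501 : Q := act 5 n147431
theorem D212501 : act 5 n147431 = n212501 := rfl
theorem F466117 : act 2 n212501 = n154736 := d2_1 D212501 (iv5 D154736) (iv2 F231208)
theorem F466118 : act 7 n212501 = n202608 := d13_2 F349999 D212501 (iv5 D202608)
theorem F466119 : act 4 n212501 = n190326 := d16_2 D147431 D212501 (iv5 D190326) (iv4 D95871) (iv5 D44761) (iv4 F58162) (iv5 F310611) (iv7 D73383) (iv2 F105409)
theorem F466120 : act 0 n212501 = n212060 := d17_2 (iv1 F350026) D212501 (iv5 D212060) (iv4 D145149) (iv5 D68039) (iv0 F243327) (iv5 F316877) (iv0 D116147) (iv4 F180886)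
theorem F466121 : act 6 n212501 = n212202 := d21_3 F373458 (iv1 F350026) D212501 (iv1 D212202) (iv6 D145513) (iv5 D68234) (iv1 F104382) (iv5 F180289) D199189 F411096
def n212502 : Q := act 7 n147436
theorem D212502 : act 7 n147436 = n212502 := rfl
theorem F466122 : act 3 n212502 = n147440 := d8_1 D212502 (iv7 D147440) (iv3 F231224)
theorem F466123 : act 4 n212502 = n156666 := d11_1 D212502 F346428 (iv4 F231225)
theorem F466124 : act 5 n212502 = n194507 := d13_1 D212502 (iv7 F409886) F409887
theorem F466125 : act 6 n212502 = n147806 := d14_1 D212502 F361635 (iv6 D160738) (iv7 F347978) D147436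
theorem F466126 : act 1 n172857 = n212502 := d15_1 (iv0 F347984) (iv7 D212502) (iv2 F347981)
theorem F466127 : act 1 n212502 = n172846 := d15_1 F466126 (iv7 F383786) F383783
def n212503 : Q := act 7 n147439
theorem D212503 : act 7 n147439 = n212503 := rfl
theorem F466128 : act 2 n212503 = n166399 := d4_1 D212503 F373669 F373660
theorem F466129 : act 3 n212503 = n194507 := d8_1 D212503 (iv7 F409886) (iv3 F409888)
theorem F466130 : act 4 n212503 = n166318 := d11_1 D212503 F373667 (iv4 F339608)
theorem F466131 : act 5 n212503 = n147440 := d13_1 D212503 (iv7 D147440) D147439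
theorem F466132 : act 6 n212503 = n200174 := d14_1 D212503 F415385 F409654 F257739 (iv6 F344729)
theorem F466133 : act 1 n166489 = n212503 := d15_1 (iv0 F373664) (iv7 D212503) (iv2 F373660)
theorem F466134 : act 1 n212503 = n166460 := d15_1 F466133 F262017 D166489
def n212504 : Q := act 0 n147443
theorem D212504 : act 0 n147443 = n212504 := rfl
theorem F466135 : act 5 n212504 = n197129 := d17_1 D212504 F414006 (iv5 D197137) F166356 (iv5 F321885) D185025 (iv5 F287426) F251415 F363649
theorem F466136 : act 4 n212504 = n203802 := d18_3 (iv1 F239339) F363649 D212504 F429883 (iv4 D185052) F287418 F287415 (iv0 D90813) D90814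
theorem F466137 : act 3 n212504 = n148265 := d20_5 D147393 F310858 (iv4 F310860) (iv3 F231229) D212504 (iv4 D148265) (iv1 F105803) (iv4 F105503) F105502 (iv1 F105394)
theorem F466138 : act 2 n203639 = n212504 := d15_3 (iv0 D212504) (iv0 F338181) D203639
theorem F466139 : act 1 n187486 = n212504 := d15_0 (iv0 D212504) (iv7 F373997) F373994
theorem F466140 : act 7 n212504 = n148312 := d15_2 F370536 F466139 F363831
theorem F466141 : act 6 n164213 = n212504 := d21_3 (iv5 D135320) D135318 F357813 (iv1 F466139) F403244 F403241 (iv1 D121720) D121723 D203953 F430562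
def n212505 : Q := act 5 n147443
theorem D212505 : act 5 n147443 = n212505 := rfl
theorem F466142 : act 2 n212505 = n205865 := d2_1 D212505 F438189 (iv2 F363650)
theorem F466143 : act 3 n212505 = n147444 := d6_1 D212505 (iv5 D147444) (iv3 F231229)
theorem F466144 : act 6 n212505 = n163062 := d12_2 D147443 D212505 (iv5 D163062) (iv6 F336518) F230756
theorem F466145 : act 7 n212505 = n205866 := d13_2 F373997 D212505 F438191
theorem F466146 : act 0 n212505 = n205867 := d17_2 F338181 D212505 F438193 F239268 (iv5 F144543) F333361 (iv5 F420676) (iv0 F429189) F429186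
theorem F466147 : act 1 n212505 = n205862 := d17_6 (iv1 F142385) F142381 (iv1 F142255) (iv5 F239332) F363649 D212505 F438175 (iv0 D201188) (iv4 D114071)
theorem F466148 : act 3 n162585 = n205865 := d0_4 F466143 (iv2 F466025) F466026 F409645 (iv2 F466142)
def n212506 : Q := act 6 n147449
theorem D212506 : act 6 n147449 = n212506 := rfl
theorem F466149 : act 2 n212506 = n164027 := d3_1 D212506 F353658 F353655
theorem F466150 : act 3 n212506 = n147450 := d7_1 D212506 (iv6 D147450) D147449
theorem F466151 : act 4 n212506 = n197869 := d10_1 D212506 (iv6 D197869) (iv4 F231236)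
theorem F466152 : act 5 n212506 = n208907 := d12_1 D212506 F451354 (iv5 D180739) (iv6 F355090) (iv5 F231234)
theorem F466153 : act 0 n212506 = n163802 := d21_4 (iv5 F464870) (iv1 D212233) (iv5 F231234) D212506 (iv6 D163802) (iv5 F325693) F325691 F254076 D125449 F417687
theorem F466154 : act 0 n165938 = n212506 := d21_4 F387300 (iv1 F272692) (iv5 F272690) (iv6 F365186) (iv6 D212506) F231234 D212232 F464863 (iv6 D192640) D192637
theorem F466155 : act 7 n212506 = n165937 := d15_2 (iv0 F362638) (iv0 F466153) F377700
def n212507 : Q := act 5 n147450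
theorem D212507 : act 5 n147450 = n212507 := rfl
theorem F466156 : act 2 n212507 = n186802 := d2_1 D212507 F368054 (iv2 F231241)
theorem F466157 : act 3 n212507 = n208907 := d6_1 D212507 (iv5 F466152) F466150
theorem F466158 : act 4 n212507 = n186812 := d9_1 D212507 (iv5 F368095) F218482 D135837 F378608 F378607 (iv4 F304018) F348596 F207266 D129016 D206617 F441597 (iv4 F379678) F378599 F348602
theorem F466159 : act 6 n212507 = n206612 := d12_2 D147450 D212507 F441572 (iv6 D145734) (iv5 F105416)
theorem F466160 : act 7 n212507 = n206326 := d13_2 F430613 D212507 F440261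
theorem F466161 : act 0 n212507 = n206613 := d17_2 F351678 D212507 F441576 (iv4 D190406) (iv5 D96011) D96010 F364484 (iv0 F413698) F413695
theorem F466162 : act 1 n212507 = n200078 := d17_6 (iv1 D158042) (iv5 F328695) (iv1 F378598) F378599 F348602 D212507 F414932 F429965 F429964
def n212508 : Q := act 4 n147451
theorem D212508 : act 4 n147451 = n212508 := rfl
theorem F466163 : act 3 n212508 = n199839 := d5_1 D212508 (iv4 D199839) (iv3 F320059) F320060 D147451
theorem F466164 : act 7 n212508 = n212466 := d11_2 (iv7 F231243) D212508 (iv4 D212466)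
def n212509 : Q := act 6 n147460
theorem D212509 : act 6 n147460 = n212509 := rfl
theorem F466165 : act 2 n212509 = n203627 := d3_1 D212509 F429118 F355521
theorem F466166 : act 3 n212509 = n191362 := d7_1 D212509 (iv6 F420385) F420383
theorem F466167 : act 0 n212509 = n191531 := d21_10 (iv5 D191531) F319573 (iv5 F348692) F361223 (iv1 F284567) F321396 (iv5 D69124) D69122 D147460 D212509
theorem F466168 : act 0 n208369 = n212509 := d21_4 (iv5 D84150) (iv1 F155157) (iv5 F336891) D208369 (iv6 D212509) (iv5 D147460) (iv1 F231003) (iv5 F440160) (iv6 F440161) (iv1 F272230)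
def n212510 : Q := act 6 n147487
theorem D212510 : act 6 n147487 = n212510 := rfl
theorem F466169 : act 2 n212510 = n174313 := d3_1 D212510 (iv6 F429183) (iv2 F350766)
theorem F466170 : act 4 n212510 = n208370 := d10_1 D212510 F449109 F350782
theorem F466171 : act 7 n212510 = n174314 := d14_2 (iv7 F350785) D212510 (iv6 F446296) (iv7 F446332) F446331
theorem F466172 : act 0 n212510 = n174316 := d21_4 (iv5 D69184) (iv1 F242682) D147487 D212510 (iv6 F466085) F466081 (iv1 F392930) (iv5 F432245) F432242 F321141
theorem F466173 : act 0 n174298 = n212510 := d21_4 (iv5 D173512) (iv1 F309617) F349790 F349794 (iv6 D212510) (iv5 D147487) F314300 (iv5 F106139) D148812 F349813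
def n212511 : Q := act 5 n147513
theorem D212511 : act 5 n147513 = n212511 := rfl
theorem F466174 : act 3 n212511 = n197534 := d6_1 D212511 F417958 F417955
theorem F466175 : act 7 n212511 = n211519 := d13_2 (iv7 F360693) D212511 (iv5 D211519)
theorem F466176 : act 4 n212511 = n203032 := d16_2 (iv4 F231300) D212511 F426705 F394308 F354088 (iv4 F440420) (iv5 D206361) (iv7 F439603) (iv2 F439602)
theorem F466177 : act 0 n212511 = n157589 := d17_2 D147513 D212511 (iv5 F460356) F460355 F228592 F318121 F109730 (iv0 D69136) D69138
theorem F466178 : act 6 n212511 = n193270 := d21_3 (iv5 D147516) D147513 D212511 F407604 F407600 (iv5 D140415) D140413 D210969 F459550 F394302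
def n212512 : Q := act 5 n147514
theorem D212512 : act 5 n147514 = n212512 := rfl
theorem F466179 : act 2 n212512 = n211519 := d2_1 D212512 (iv5 D211519) F360685
theorem F466180 : act 3 n212512 = n199243 := d6_1 D212512 (iv5 D199243) F360686
theorem F466181 : act 4 n212512 = n203031 := d9_1 D212512 F426701 F394305 F242695 F280373 F280370 (iv4 F231300) D212511 F466176 F426705 F394308 F354088 (iv4 F440420) (iv5 D206361) F363002
theorem F466182 : act 1 n212512 = n157589 := d17_6 (iv1 F341035) (iv5 F355129) (iv1 F440421) (iv5 D206361) F363002 D212512 (iv5 F460356) (iv0 F460359) F276669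
def n212513 : Q := act 1 n147553
theorem D212513 : act 1 n147553 = n212513 := rfl
theorem F466183 : act 7 n212513 = n166516 := d15_2 F375461 D212513 (iv2 F375458)
theorem F466184 : act 4 n178373 = n212513 := d20_0 (iv1 D212513) (iv4 F375137) (iv3 F375136) F333386 (iv3 F429165) (iv4 D203635) (iv1 F189144) D155470 (iv3 F375453) (iv1 F375457)
theorem F466185 : act 3 n166513 = n212513 := d20_3 (iv4 F425248) F425246 F346938 (iv1 D212513) F358890 (iv4 F261794) (iv1 F278148) (iv4 F425361) (iv3 F425363) (iv1 F417667)
theorem F466186 : act 5 n203851 = n212513 := d21_0 (iv1 D212513) (iv5 F358889) (iv6 D180674) (iv1 F258215) D166735 F330844 (iv1 F274806) (iv5 F272769) (iv6 F378058) F430102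
theorem F466187 : act 2 n212513 = n147892 := d0_1 F466185 (iv3 D147892) (iv2 F241156) F354262 (iv2 F346930)
def n212514 : Q := act 7 n147553
theorem D212514 : act 7 n147553 = n212514 := rfl
theorem F466188 : act 3 n212514 = n166437 := d8_1 D212514 (iv7 F337707) (iv3 F358890)
theorem F466189 : act 5 n212514 = n166435 := d13_1 D212514 F358936 F358889
theorem F466190 : act 6 n212514 = n147844 := d14_1 D212514 (iv7 F361687) F361684 F230990 D147553
theorem F466191 : act 1 n147892 = n212514 := d15_1 F466035 (iv7 D212514) (iv2 F466031)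
theorem F466192 : act 1 n212514 = n166516 := d15_1 F466191 (iv7 F466183) F466187
def n212515 : Q := act 0 n147556
theorem D212515 : act 0 n147556 = n212515 := rfl
theorem F466193 : act 5 n212515 = n162737 := d17_1 D212515 F334393 F328022 (iv4 F258048) F345741 F345742 (iv5 D174849) D174847 (iv4 F355870)
theorem F466194 : act 4 n212515 = n206424 := d18_1 D212515 F440718 (iv4 F342119) (iv5 F347444) F351923 F351925 (iv4 F248370) (iv0 F338863) (iv5 F355872)
theorem F466195 : act 3 n212515 = n173870 := d20_5 (iv4 F392601) (iv1 F392602) F205071 (iv3 F231347) D212515 (iv4 F341699) D190800 F381120 F277843 (iv1 F341905)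
theorem F466196 : act 6 n212515 = n172430 := d21_5 F330672 (iv1 D69150) D69152 D147556 D212515 F270652 F275035 (iv5 F327358) (iv6 D125963) F351030
theorem F466197 : act 2 n193338 = n212515 := d3_3 F466196 (iv2 F368323) (iv6 F389506)
theorem F466198 : act 7 n193446 = n212515 := d14_0 F466196 F354764 F354767 (iv7 F354784) (iv6 F389860)
theorem F466199 : act 0 n212515 = n178466 := d21_4 (iv5 F249455) (iv1 F275041) (iv5 F270652) (iv6 F466196) F358042 F332156 (iv1 F253871) (iv5 F270332) F303453 (iv1 F249454)
def n212516 : Q := act 1 n147556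
theorem D212516 : act 1 n147556 = n212516 := rfl
theorem F466200 : act 1 n212516 = n178466 := d15_1 D212516 (iv7 F358043) (iv2 F231346)
theorem F466201 : act 7 n212516 = n193338 := d15_2 (iv0 D212515) D212516 F466197
theorem F466202 : act 5 n212516 = n162738 := d17_7 (iv1 F156709) F339177 F351875 F153530 F301489 (iv5 F355872) D212516 F334398 F324278
theorem F466203 : act 4 n212516 = n205311 := d18_7 (iv1 F341717) F341718 (iv1 F351046) (iv4 F277078) F339193 (iv4 F355870) D212516 F435896 (iv5 D177449)
theorem F466204 : act 3 n177533 = n212516 := d19_19 (iv1 D212516) F355872 (iv4 F301489) F136999 (iv1 F155791) (iv5 F74536) D101770 F346676 F407920 (iv5 D198407) F169307 (iv3 F227230) F463621 (iv5 F408731) (iv4 D198657) D198656 F415150 (iv5 F415149) F414181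
theorem F466205 : act 6 n172507 = n212516 := d21_3 F352336 F351803 F349883 (iv1 D212516) (iv6 D147556) (iv5 D69152) D69149 (iv5 F351027) (iv6 F390108) F390107
theorem F466206 : act 2 n212516 = n193446 := d3_1 F466205 F389860 (iv2 F354783)
def n212517 : Q := act 7 n147556
theorem D212517 : act 7 n147556 = n212517 := rfl
theorem F466207 : act 2 n212517 = n178466 := d4_1 D212517 (iv7 F358043) (iv2 F231346)
theorem F466208 : act 3 n212517 = n147564 := d8_1 D212517 (iv7 D147564) (iv3 F231347)
theorem F466209 : act 5 n212517 = n193506 := d13_1 D212517 F390113 (iv5 F355872)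
theorem F466210 : act 6 n212517 = n172163 := d14_1 D212517 F353942 F352211 F171208 D147556
theorem F466211 : act 1 n193446 = n212517 := d15_1 (iv0 F389862) (iv7 D212517) F231346
theorem F466212 : act 1 n212517 = n193338 := d15_1 F466211 (iv7 F466201) F466206
def n212518 : Q := act 6 n147562
theorem D212518 : act 6 n147562 = n212518 := rfl
theorem F466213 : act 2 n212518 = n177511 := d3_1 D212518 (iv6 F409902) (iv2 F409900)
theorem F466214 : act 3 n212518 = n173242 := d7_1 D212518 (iv6 D173242) (iv3 F308693)
theorem F466215 : act 4 n212518 = n162756 := d10_1 D212518 F378045 F357678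
theorem F466216 : act 5 n212518 = n174461 := d12_1 D212518 (iv6 D174461) F128505 (iv6 F127680) (iv5 F308694)
theorem F466217 : act 7 n212518 = n200178 := d14_2 (iv7 F308695) D212518 F447281 F447277 F271509
theorem F466218 : act 0 n212518 = n200177 := d21_4 (iv5 F344717) F188059 (iv5 F308694) D212518 (iv6 D200177) F376066 (iv1 F376067) F354126 D205454 F436507
theorem F466219 : act 0 n200179 = n212518 := d21_4 (iv5 D150242) F190178 D167760 (iv6 F415419) (iv6 D212518) F308694 (iv1 F334403) (iv5 F345766) (iv6 D172517) (iv1 F304292)
def n212519 : Q := act 6 n147592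
theorem D212519 : act 6 n147592 = n212519 := rfl
theorem F466220 : act 2 n212519 = n152476 := d3_1 D212519 (iv6 D152476) (iv2 F347792)
theorem F466221 : act 3 n212519 = n147594 := d7_1 D212519 (iv6 D147594) D147592
theorem F466222 : act 4 n212519 = n189283 := d10_1 D212519 (iv6 F376326) (iv4 F347793)
theorem F466223 : act 0 n212519 = n173537 := d21_4 F403010 (iv1 F403534) F403532 D212519 (iv6 D173537) F127937 (iv1 F127914) D173453 F354606 F403011
theorem F466224 : act 5 n212519 = n201185 := d21_6 (iv5 F94625) (iv1 F94627) F86255 D71838 (iv1 F347791) D212519 (iv1 D201185) (iv5 D114069) (iv6 D52647) D52644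
theorem F466225 : act 0 n188110 = n212519 := d21_4 (iv5 D71792) D71790 D152213 (iv6 F372346) (iv6 D212519) (iv5 F403532) (iv1 F403535) (iv5 F342074) (iv6 F342075) F335509
def n212520 : Q := act 5 n147594
theorem D212520 : act 5 n147594 = n212520 := rfl
theorem F466226 : act 3 n212520 = n201185 := d6_1 D212520 (iv5 F466224) F466221
theorem F466227 : act 6 n212520 = n177549 := d12_2 D147594 D212520 (iv5 D177549) (iv6 F338325) F231073
theorem F466228 : act 1 n212520 = n148645 := d17_6 (iv1 F198124) (iv5 F359719) (iv1 F359723) D204397 (iv4 F432388) D212520 (iv5 F432345) (iv0 D204388) (iv4 D123717)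
theorem F466229 : act 0 n212520 = n147769 := d18_0 F462922 (iv1 D211745) F346565 D206310 F440186 (iv0 F426113) (iv4 D147736) (iv0 F392934) D212520
def n212521 : Q := act 5 n147595
theorem D212521 : act 5 n147595 = n212521 := rfl
theorem F466230 : act 2 n212521 = n147598 := d2_1 D212521 (iv5 D147598) (iv2 F231384)
theorem F466231 : act 3 n212521 = n202993 := d6_1 D212521 (iv5 D202993) (iv3 F348002)
theorem F466232 : act 6 n212521 = n183135 := d12_2 F314965 D212521 F426546 F426544 (iv5 D202991)
theorem F466233 : act 7 n212521 = n153315 := d13_2 (iv7 F316672) D212521 (iv5 D153315)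
theorem F466234 : act 1 n212521 = n211290 := d17_6 F204836 (iv5 D113291) F320721 F318601 D147595 D212521 (iv5 D211290) (iv0 F233614) F233612
def n212522 : Q := act 6 n147597
theorem D212522 : act 6 n147597 = n212522 := rfl
theorem F466235 : act 4 n212522 = n206311 := d10_1 D212522 F440188 F231386
theorem F466236 : act 7 n212522 = n187193 := d14_2 F347998 D212522 (iv6 D187193) F291577 (iv6 F359698)
theorem F466237 : act 5 n212522 = n194410 := d21_6 (iv5 D16201) (iv1 F25694) D33440 D72435 (iv1 F316669) D212522 (iv1 F393094) (iv5 D153367) (iv6 D72458) (iv1 F52737)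
theorem F466238 : act 1 n147736 = n212522 := d18_8 (iv1 F393094) F373430 (iv1 D188423) F140511 D91375 F361711 (iv0 D147733) D147736 F466237
def n212523 : Q := act 1 n147598
theorem D212523 : act 1 n147598 = n212523 := rfl
theorem F466239 : act 1 n212523 = n153315 := d15_1 D212523 (iv7 F466233) F466230
theorem F466240 : act 5 n212523 = n176492 := d17_7 (iv1 F417241) (iv5 D200619) (iv1 F176503) (iv5 D69177) D69176 D147598 D212523 (iv0 F449543) F449541
theorem F466241 : act 6 n207580 = n212523 := d21_9 (iv5 D147598) F223260 F359695 (iv6 D182037) (iv1 F133448) D87430 (iv5 F337796) F217263 D207580 (iv1 D212523)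
theorem F466242 : act 3 n212523 = n210495 := d7_1 F466241 F457780 (iv3 F445540)
theorem F466243 : act 2 n211290 = n212523 := d0_5 F466242 (iv2 F457782) F448518 (iv2 F224526) (iv3 F460987)
def n212524 : Q := act 5 n147599
theorem D212524 : act 5 n147599 = n212524 := rfl
theorem F466244 : act 2 n212524 = n202991 := d2_1 D212524 (iv5 D202991) F314964
theorem F466245 : act 3 n212524 = n203018 := d6_1 D212524 (iv5 D203018) (iv3 F349454)
theorem F466246 : act 6 n212524 = n209679 := d12_2 D147599 D212524 F454602 F379975 (iv5 D147598)
theorem F466247 : act 7 n212524 = n153308 := d13_2 (iv7 F316673) D212524 (iv5 D153308)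
theorem F466248 : act 0 n212524 = n203032 := d17_2 F314957 D212524 F426705 F394308 F354088 (iv0 F425152) F425151 F248340 (iv4 F355527)
theorem F466249 : act 1 n212524 = n203031 := d17_6 D117299 F350795 (iv1 F227417) F319427 (iv4 F231388) D212524 F426701 (iv0 D194738) F329321
theorem F466250 : act 0 n209679 = n210152 := d21_4 (iv5 F355528) F314957 D212524 F466246 (iv6 D210152) (iv5 D137699) (iv1 D64727) (iv5 D30448) D30449 D64730
def n212525 : Q := act 5 n147644
theorem D212525 : act 5 n147644 = n212525 := rfl
theorem F466251 : act 2 n212525 = n160960 := d2_1 D212525 F336620 (iv2 F345797)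
theorem F466252 : act 3 n212525 = n177188 := d6_1 D212525 (iv5 F342338) F334258
theorem F466253 : act 4 n212525 = n155112 := d9_1 D212525 (iv5 F440223) F440224 (iv5 D194874) D194873 F394830 F392604 F334247 F270066 (iv5 F440214) (iv4 F440218) (iv5 D194871) D194870 F394815 F392601
theorem F466254 : act 6 n212525 = n207080 := d12_2 F362184 D212525 F443226 (iv6 F376019) (iv5 F362183)
theorem F466255 : act 7 n212525 = n160961 := d13_2 (iv7 F334257) D212525 F341912
theorem F466256 : act 0 n212525 = n160963 := d17_2 (iv1 F341905) D212525 F254168 F302610 (iv5 F337353) (iv0 F337340) (iv5 F378079) (iv0 D189882) F358102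
theorem F466257 : act 1 n212525 = n160959 := d17_6 F395174 (iv5 F354536) (iv1 F394816) F394815 F392601 D212525 (iv5 D160959) (iv0 F336546) (iv4 F395170)
def n212526 : Q := act 6 n147651
theorem D212526 : act 6 n147651 = n212526 := rfl
theorem F466258 : act 3 n212526 = n173680 := d7_1 D212526 (iv6 F419683) F419682
theorem F466259 : act 4 n212526 = n197142 := d10_1 D212526 F403238 (iv4 F350707)
theorem F466260 : act 7 n212526 = n176085 := d14_2 F352176 D212526 F434076 F434073 (iv6 F352175)
theorem F466261 : act 0 n212526 = n147678 := d21_4 (iv5 D108019) D108016 (iv5 F231419) D212526 F356064 (iv5 D83890) (iv1 F127980) D173635 F403585 (iv1 D197216)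
theorem F466262 : act 0 n175450 = n212526 := d21_4 (iv5 D38604) D38602 D83781 D175450 (iv6 D212526) F231419 (iv1 F321444) (iv5 F323079) F334609 (iv1 D83789)
def n212527 : Q := act 3 n147666
theorem D212527 : act 3 n147666 = n212527 := rfl
theorem F466263 : act 5 n212527 = n175000 := d6_2 F349876 D212527 (iv3 F361996)
theorem F466264 : act 6 n212527 = n158384 := d7_2 F461745 D212527 (iv3 F461744)
theorem F466265 : act 7 n212527 = n147678 := d8_2 (iv7 F344146) D212527 (iv3 D147678)
theorem F466266 : act 4 n212527 = n207957 := d20_6 (iv4 D69101) (iv1 F51106) (iv4 F51141) (iv3 F105502) (iv1 F231427) D212527 F447151 F425512 F361634 (iv1 F230985)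
theorem F466267 : act 2 n175450 = n212527 := d1_3 F466266 F447147 F364316
theorem F466268 : act 0 n176085 = n212527 := d18_0 F466266 F447151 F425512 F366958 (iv4 F401015) (iv0 D196537) (iv4 F219920) F346555 F434077
def n212528 : Q := act 4 n147666
theorem D212528 : act 4 n147666 = n212528 := rfl
theorem F466269 : act 2 n212528 = n147684 := d1_1 D212528 (iv4 D147684) (iv2 F344145)
theorem F466270 : act 3 n212528 = n206191 := d5_1 D212528 (iv4 F439649) (iv3 F447148) (iv4 F466266) (iv3 D212527)
theorem F466271 : act 5 n212528 = n161016 := d9_2 F349876 D212528 F340796 (iv5 F453635) (iv4 D209424) (iv5 D136456) (iv4 F166311) F344153 (iv4 F231433) F340797 (iv4 F381146) (iv5 F414820) F414819 F176364 (iv4 F175457)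
theorem F466272 : act 6 n212528 = n149152 := d10_2 F461745 D212528 (iv4 F461743)
theorem F466273 : act 7 n212528 = n147679 := d11_2 (iv7 F344146) D212528 (iv4 D147679)
theorem F466274 : act 0 n212528 = n170051 := d17_0 F267499 (iv1 F344134) D131362 (iv4 F210573) (iv5 F344915) F203937 (iv5 F332102) D147666 D212528
theorem F466275 : act 1 n212528 = n148553 := d18_6 F167738 (iv4 F167734) (iv1 F167736) (iv4 F175457) F349876 D212528 (iv4 F233326) (iv0 D148290) (iv5 F337679)
def n212529 : Q := act 2 n147678
theorem D212529 : act 2 n147678 = n212529 := rfl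
theorem F466276 : act 3 n212529 = n198719 := d0_2 D147678 D212529 (iv2 F429346) F429347 F344143
theorem F466277 : act 4 n212529 = n207958 := d1_2 (iv4 F356063) D212529 F447153
theorem F466278 : act 6 n212529 = n173633 := d3_2 (iv6 F356064) D212529 F279266
theorem F466279 : act 7 n212529 = n175450 := d4_2 F466265 D212529 F466267
theorem F466280 : act 1 n176085 = n212529 := d15_1 (iv0 F466268) F466279 F466267
def n212530 : Q := act 3 n147679
theorem D212530 : act 3 n147679 = n212530 := rfl
theorem F466281 : act 2 n212530 = n206188 := d0_1 D212530 (iv3 D206188) F363632 D127719 (iv2 F344147)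
theorem F466282 : act 4 n212530 = n207968 := d5_2 D147679 D212530 F447191 (iv4 F356063) (iv3 D147678)
theorem F466283 : act 5 n212530 = n170259 := d6_2 (iv5 F332125) D212530 F267771
theorem F466284 : act 6 n212530 = n204327 := d7_2 F431848 D212530 F432062
theorem F466285 : act 7 n212530 = n206191 := d8_2 F466273 D212530 (iv3 F466270)
theorem F466286 : act 0 n212530 = n148484 := d20_4 (iv4 F51139) D69208 D147679 D212530 (iv3 D148484) (iv4 F317796) F317795 (iv4 D148309) (iv3 D69510) (iv1 D32275)
theorem F466287 : act 0 n206187 = n212530 := d20_4 D117811 F427113 F427111 (iv3 F439638) (iv3 D212530) (iv4 D147679) (iv1 F231434) F231430 (iv3 F184489) (iv1 F184492)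
def n212531 : Q := act 1 n147683
theorem D212531 : act 1 n147683 = n212531 := rfl
theorem F466288 : act 7 n212531 = n195058 := d15_2 (iv0 F408916) D212531 (iv2 F403546)
theorem F466289 : act 5 n212531 = n205877 := d18_9 (iv1 D205877) F203932 D140469 (iv4 F408977) (iv5 D198716) F169910 D109899 F358574 D212531
theorem F466290 : act 4 n206163 = n212531 := d20_0 (iv1 D212531) (iv4 F358574) (iv3 F358573) F419570 (iv3 D201234) (iv4 D114165) (iv1 F177885) (iv4 F379536) (iv3 F436407) F439533
theorem F466291 : act 3 n147733 = n212531 := d20_3 (iv4 F339649) F359722 F361711 (iv1 D212531) (iv3 D147683) D147684 (iv1 F424627) F424624 (iv3 F463503) F463505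
theorem F466292 : act 6 n188431 = n212531 := d21_3 F368256 F362445 (iv5 F373443) (iv1 D212531) (iv6 F428779) (iv5 D203536) F311007 D145267 (iv6 F393602) F393604
theorem F466293 : act 0 n198719 = n212531 := d21_4 (iv5 D173491) (iv1 F315051) (iv5 F427666) (iv6 F427676) (iv6 F466292) F373443 (iv1 F428478) F428474 F368253 (iv1 F354612)
def n212532 : Q := act 2 n147683
theorem D212532 : act 2 n147683 = n212532 := rfl
theorem F466294 : act 3 n212532 = n175450 := d0_2 D147683 D212532 F466267 (iv3 D212527) F344145
theorem F466295 : act 4 n212532 = n198696 := d1_2 F358574 D212532 (iv2 F408919)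
theorem F466296 : act 6 n212532 = n175197 := d3_2 F428779 D212532 (iv2 F428775)
theorem F466297 : act 7 n212532 = n198719 := d4_2 F429350 D212532 (iv2 F429346)
theorem F466298 : act 1 n195058 = n212532 := d15_1 (iv0 F429351) F466297 (iv2 F429346)
def n212533 : Q := act 5 n147683
theorem D212533 : act 5 n147683 = n212533 := rfl
theorem F466299 : act 3 n212533 = n147685 := d6_1 D212533 (iv5 D147685) D147683
theorem F466300 : act 6 n212533 = n175111 := d12_2 F428779 D212533 F359255 (iv6 F359257) D203536
theorem F466301 : act 7 n212533 = n197127 := d13_2 F429350 D212533 (iv5 F429349)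
theorem F466302 : act 4 n212533 = n156602 := d16_2 F358574 D212533 F406972 (iv4 F408786) F408787 F434033 (iv5 D198720) F408921 (iv2 F408919)
theorem F466303 : act 0 n212533 = n197611 := d17_2 (iv1 D212531) D212533 (iv5 F419361) (iv4 D190218) D190219 (iv0 F461881) (iv5 D206165) D206163 F466290
theorem F466304 : act 0 n194353 = n212533 := d21_10 (iv5 D212533) F408916 (iv5 F438224) F438222 F403550 (iv6 F393002) (iv5 F392999) (iv1 F393003) (iv5 F359963) D194353
def n212534 : Q := act 3 n147701
theorem D212534 : act 3 n147701 = n212534 := rfl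
theorem F466305 : act 2 n212534 = n200046 := d0_1 D212534 (iv3 F416662) F355950 (iv3 F358433) F358437
theorem F466306 : act 4 n212534 = n199436 := d5_2 (iv4 F231450) D212534 (iv3 D199436) (iv4 F408502) (iv3 D198606)
theorem F466307 : act 5 n212534 = n212248 := d6_2 (iv5 F379171) D212534 F464963
theorem F466308 : act 6 n212534 = n194935 := d7_2 (iv6 F358439) D212534 (iv3 D194935)
theorem F466309 : act 7 n212534 = n199698 := d8_2 F379377 D212534 F413162
theorem F466310 : act 0 n212534 = n191056 := d19_4 (iv1 F393870) F393871 (iv4 F231450) D212534 (iv5 D191056) D191055 F382020 (iv1 F419660) F419657 F225407 F162327 F162319 (iv5 D30751) D30750 F49209 F39890 D49491 (iv4 F79775) (iv3 F169220)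
theorem F466311 : act 0 n191060 = n212534 := d20_4 F322504 (iv1 F322509) (iv4 F170045) (iv3 F382041) (iv3 D212534) F231450 (iv1 F174514) (iv4 F337332) F337331 (iv1 F81638)
def n212535 : Q := act 4 n147707
theorem D212535 : act 4 n147707 = n212535 := rfl
theorem F466312 : act 3 n212535 = n175001 := d5_1 D212535 F273904 F440217 (iv4 F440218) F394818
theorem F466313 : act 6 n212535 = n199219 := d10_2 F379354 D212535 F411202
def n212536 : Q := act 3 n147711
theorem D212536 : act 3 n147711 = n212536 := rfl
theorem F466314 : act 2 n212536 = n173848 := d0_1 D212536 (iv3 D173848) (iv2 F298052) (iv3 F300482) (iv2 F336334)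
theorem F466315 : act 4 n212536 = n195066 := d5_2 D147711 D212536 F395632 F257377 F336331
theorem F466316 : act 6 n212536 = n186083 := d7_2 (iv6 F364272) D212536 F288741
theorem F466317 : act 7 n212536 = n212163 := d8_2 (iv7 F336335) D212536 F464566
theorem F466318 : act 0 n212536 = n205308 := d19_4 F360761 (iv5 D147712) D147711 D212536 (iv5 F464539) F464540 F402155 F246269 F223736 D211077 F460014 (iv1 F228707) (iv5 F438726) F438725 F204311 (iv1 F204309) (iv5 D59631) D59630 D127076
theorem F466319 : act 0 n205310 = n212536 := d20_4 F394597 (iv1 F250703) D159281 (iv3 F435889) (iv3 D212536) (iv4 D147711) F334032 (iv4 F254495) (iv3 F364270) F394601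
theorem F466320 : act 5 n212536 = n196628 := d17_1 F466319 (iv1 D196628) D196629 (iv4 F415199) F415200 F175376 D145437 F228460 D205310
def n212537 : Q := act 5 n147711
theorem D212537 : act 5 n147711 = n212537 := rfl
theorem F466321 : act 2 n212537 = n177583 := d2_1 D212537 (iv5 D177583) (iv2 F336334)
theorem F466322 : act 3 n212537 = n196628 := d6_1 D212537 (iv5 F466320) (iv3 D212536)
theorem F466323 : act 6 n212537 = n190505 := d12_2 (iv6 F364272) D212537 F379943 (iv6 F378603) F378602
theorem F466324 : act 7 n212537 = n188388 := d13_2 (iv7 F336335) D212537 F373256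
theorem F466325 : act 4 n212537 = n194591 := d16_2 D147711 D212537 F459313 F459311 F455697 (iv4 D163005) (iv5 D78384) (iv7 F60066) F336330
theorem F466326 : act 1 n212537 = n196973 := d17_6 D121062 (iv5 F360764) F360761 (iv5 D147712) D147711 D212537 (iv5 F430047) (iv0 D203838) F193051
theorem F466327 : act 0 n212537 = n196969 := d18_0 (iv4 D196969) (iv1 F359501) F159242 D103823 F359595 (iv0 F368205) (iv4 F254099) F353255 D212537
def n212538 : Q := act 5 n147721
theorem D212538 : act 5 n147721 = n212538 := rfl
theorem F466328 : act 2 n212538 = n193329 := d2_1 D212538 F389478 F388860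
theorem F466329 : act 3 n212538 = n199328 := d6_1 D212538 F411722 F349413
theorem F466330 : act 7 n212538 = n209942 := d13_2 F388854 D212538 F455465
theorem F466331 : act 0 n212538 = n193277 := d17_2 (iv1 F388865) D212538 (iv5 F410348) F410347 (iv5 D163149) (iv0 F353265) D212468 (iv0 F465943) F440138
theorem F466332 : act 1 n212538 = n209959 := d17_6 (iv1 D163004) (iv5 D78384) F336338 D69219 D147721 D212538 F455533 F411866 F376025
theorem F466333 : act 6 n193164 = n212538 := d21_5 (iv5 D22701) (iv1 F35259) (iv5 F74419) D101256 D193164 (iv5 D212538) F354191 (iv5 F156189) (iv6 D101388) (iv1 D47189)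
def n212539 : Q := act 5 n147733
theorem D212539 : act 5 n147733 = n212539 := rfl
theorem F466334 : act 3 n212539 = n205877 := d6_1 D212539 (iv5 F466289) (iv3 F466291)
theorem F466335 : act 6 n212539 = n178940 := d12_2 (iv6 F361710) D212539 (iv5 F352003) F352002 (iv5 F323552)
theorem F466336 : act 0 n212539 = n148645 := d17_2 D147733 D212539 (iv5 F432345) F432346 (iv5 F428974) (iv0 D184083) D184085 (iv0 F426113) (iv4 D147736)
theorem F466337 : act 1 n212539 = n147769 := d17_6 (iv1 D57673) D57674 (iv1 F308579) D91375 F361711 D212539 (iv5 F354072) (iv0 F355764) (iv4 D123722)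
def n212540 : Q := act 5 n147736
theorem D212540 : act 5 n147736 = n212540 := rfl
theorem F466338 : act 6 n212540 = n194719 := d12_2 F361779 D212540 (iv5 F449501) (iv6 D208470) (iv5 F347342)
def n212541 : Q := act 5 n147741
theorem D212541 : act 5 n147741 = n212541 := rfl
theorem F466339 : act 3 n212541 = n147742 := d6_1 D212541 (iv5 D147742) D147741
theorem F466340 : act 6 n212541 = n150197 := d12_2 (iv6 F236235) D212541 F238785 (iv6 D150106) D150105
theorem F466341 : act 0 n212541 = n206366 := d17_2 F231473 D212541 (iv5 D206366) F206586 (iv5 F233292) (iv0 F427184) (iv5 D203151) (iv0 F230225) (iv4 F230220)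
theorem F466342 : act 4 n212541 = n152734 := d17_4 (iv1 F184591) (iv5 F230221) F231473 D212541 (iv5 F335507) (iv0 D152220) F305733 F309809 F307808
theorem F466343 : act 1 n212541 = n204465 := d17_8 (iv1 F427191) F427187 F303497 (iv5 D73935) D73934 (iv5 F233284) (iv0 F233286) D212541 F432613
def n212542 : Q := act 3 n147747
theorem D212542 : act 3 n147747 = n212542 := rfl
theorem F466344 : act 4 n212542 = n194639 := d5_2 D147747 D212542 (iv3 F393915) F390481 F231470
theorem F466345 : act 5 n212542 = n154511 := d6_2 F231492 D212542 (iv3 D154511)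
theorem F466346 : act 6 n194028 = n212542 := d10_0 F466344 F393916 F391810
theorem F466347 : act 0 n200393 = n212542 := d20_1 (iv4 F416276) F466344 (iv3 F393915) F390483 (iv3 F331346) F175941 (iv1 F82547) F167332 D197475 (iv1 F415576)
theorem F466348 : act 4 n199353 = n178813 := d20_0 (iv1 D178813) (iv4 F278675) (iv3 F416275) F466347 (iv3 D212542) (iv4 D147747) D147745 F336311 (iv3 F287516) (iv1 F411816)
def n212543 : Q := act 6 n147747
theorem D212543 : act 6 n147747 = n212543 := rfl
theorem F466349 : act 2 n212543 = n205982 := d3_1 D212543 (iv6 F457372) (iv2 F457377)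
theorem F466350 : act 3 n212543 = n194028 := d7_1 D212543 F466346 (iv3 D212542)
theorem F466351 : act 4 n212543 = n147748 := d10_1 D212543 (iv6 D147748) D147747
theorem F466352 : act 7 n212543 = n194696 := d14_2 (iv7 F358565) D212543 (iv6 D194696) F307377 D184287
theorem F466353 : act 2 n194028 = n202650 := d0_1 F466350 (iv3 D202650) F319677 (iv3 F438692) (iv2 F466349)
def n212544 : Q := act 3 n147770
theorem D212544 : act 3 n147770 = n212544 := rfl
theorem F466354 : act 5 n212544 = n154482 := d6_2 (iv5 F231511) D212544 (iv3 D154482)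
def n212545 : Q := act 6 n147770
theorem D212545 : act 6 n147770 = n212545 := rfl
theorem F466355 : act 2 n212545 = n184995 := d3_1 D212545 (iv6 D184995) (iv2 F310368)
theorem F466356 : act 4 n212545 = n147772 := d10_1 D212545 (iv6 D147772) D147770
theorem F466357 : act 5 n212545 = n182221 := d12_1 D212545 (iv6 D182221) F133522 (iv6 F308277) (iv5 F231511)
theorem F466358 : act 7 n212545 = n205943 := d14_2 F458384 D212545 (iv6 D205943) (iv7 F222672) D210665
def n212546 : Q := act 3 n147778
theorem D212546 : act 3 n147778 = n212546 := rfl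
theorem F466359 : act 5 n212546 = n154660 := d6_2 F231520 D212546 (iv3 D154660)
theorem F466360 : act 7 n212546 = n193798 := d8_2 (iv7 F352424) D212546 F391035
theorem F466361 : act 0 n212546 = n193763 := d19_4 (iv1 D73288) D73290 (iv4 F231519) D212546 (iv5 D193763) (iv4 D102302) F74650 D47476 F74652 F64233 F65780 F290664 F32934 (iv4 F66010) (iv3 F139795) (iv1 F143474) F142963 D114074 F353773
theorem F466362 : act 4 n212546 = n194920 := d20_6 F84353 D65914 (iv4 F168899) (iv3 F349409) D147778 D212546 (iv1 F406613) (iv4 F406608) (iv3 D198057) F168886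
theorem F466363 : act 0 n209964 = n212546 := d20_4 F180536 D196890 (iv4 F411092) (iv3 F455554) (iv3 D212546) F231519 F231623 (iv4 F337992) F424414 (iv1 D202539)
theorem F466364 : act 2 n193797 = n212546 := d15_3 (iv0 F466363) (iv0 F455555) (iv7 F391032)
def n212547 : Q := act 6 n147778
theorem D212547 : act 6 n147778 = n212547 := rfl
theorem F466365 : act 2 n212547 = n174436 := d3_1 D212547 F354166 (iv2 F352426)
theorem F466366 : act 4 n212547 = n154614 := d10_1 D212547 (iv6 D154614) (iv4 F231519)
theorem F466367 : act 7 n212547 = n174442 := d14_2 (iv7 F352424) D212547 F354175 F220268 F329613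
theorem F466368 : act 0 n197102 = n212547 := d21_4 D199363 F411861 F172561 D197102 (iv6 D212547) (iv5 F231520) F337930 (iv5 F287530) (iv6 F352348) (iv1 F172530)
theorem F466369 : act 1 n210597 = n212547 := d15_0 (iv0 F466368) F403050 D210597
def n212548 : Q := act 3 n147779
theorem D212548 : act 3 n147779 = n212548 := rfl
theorem F466370 : act 5 n212548 = n154586 := d6_2 (iv5 F231524) D212548 (iv3 D154586)
theorem F466371 : act 6 n212548 = n205931 := d7_2 (iv6 F352354) D212548 (iv3 D205931)
theorem F466372 : act 0 n212548 = n210835 := d20_4 F337992 F231574 F231523 D212548 (iv3 D210835) (iv4 F359173) F333245 (iv4 F341127) F341126 D184992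
theorem F466373 : act 0 n210236 = n212548 := d21_10 F466370 F458963 (iv5 F386803) (iv6 D192489) (iv1 D100235) D100237 (iv5 F350425) (iv1 D137993) D137995 D210236
def n212549 : Q := act 6 n147781
theorem D212549 : act 6 n147781 = n212549 := rfl
theorem F466374 : act 2 n212549 = n154529 := d3_1 D212549 (iv6 D154529) (iv2 F231525)
theorem F466375 : act 3 n212549 = n210545 := d7_1 D212549 (iv6 D210545) F349412
theorem F466376 : act 4 n212549 = n153866 := d10_1 D212549 (iv6 D153866) (iv4 F231526)
theorem F466377 : act 5 n212549 = n193164 := d12_1 D212549 F466333 (iv5 D212538) F231457 D147781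
theorem F466378 : act 7 n212549 = n193332 := d14_2 (iv7 F231527) D212549 F389483 (iv7 F358581) F241677
theorem F466379 : act 0 n185071 = n212549 := d21_4 (iv5 F337943) F337940 F283691 D185071 (iv6 D212549) (iv5 D147781) D147778 (iv5 F231520) (iv6 F308466) F134711
def n212550 : Q := act 5 n147799
theorem D212550 : act 5 n147799 = n212550 := rfl
theorem F466380 : act 3 n212550 = n147800 := d6_1 D212550 (iv5 D147800) D147799
theorem F466381 : act 6 n212550 = n198505 := d12_2 (iv6 F342245) D212550 (iv5 F418993) F418992 (iv5 D189985)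
theorem F466382 : act 7 n212550 = n206165 := d13_2 (iv7 F231540) D212550 (iv5 D206165)
theorem F466383 : act 4 n212550 = n198743 := d17_4 (iv1 F379120) (iv5 F379121) F378451 D212550 F409044 F394858 F394856 (iv0 D190109) (iv4 F378636)
def n212551 : Q := act 6 n147800
theorem D212551 : act 6 n147800 = n212551 := rfl
theorem F466384 : act 2 n212551 = n190364 := d3_1 D212551 F379556 F317846
theorem F466385 : act 3 n212551 = n198505 := d7_1 D212551 (iv6 F466381) F466380
theorem F466386 : act 4 n212551 = n208079 := d10_1 D212551 F447796 F358455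
theorem F466387 : act 5 n212551 = n185703 := d12_1 D212551 F367198 (iv5 D95523) (iv6 F313190) D147800
theorem F466388 : act 7 n212551 = n187356 := d14_2 (iv7 F231542) D212551 (iv6 D187356) F369934 (iv6 F369796)
def n212552 : Q := act 1 n147806
theorem D212552 : act 1 n147806 = n212552 := rfl
theorem F466389 : act 7 n212552 = n191534 := d15_2 (iv0 F415440) D212552 F383688
theorem F466390 : act 6 n167565 = n212552 := d21_3 (iv5 F384348) F384350 (iv5 F342647) (iv1 D212552) (iv6 F466125) F466124 (iv1 F393488) F332156 (iv6 F465917) (iv1 F465918)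
theorem F466391 : act 2 n212552 = n173794 := d3_1 F466390 (iv6 D173794) F342666
def n212553 : Q := act 2 n147806
theorem D212553 : act 2 n147806 = n212553 := rfl
theorem F466392 : act 3 n212553 = n187486 := d0_2 D147806 D212553 (iv2 F373994) F373995 (iv2 F231136)
theorem F466393 : act 4 n212553 = n187489 := d1_2 F446340 D212553 (iv2 F446336)
theorem F466394 : act 5 n212553 = n174525 := d2_2 F409646 D212553 (iv2 F409642)
theorem F466395 : act 1 n212553 = n173794 := d15_0 (iv0 F433967) (iv7 F361635) D212553
theorem F466396 : act 1 n191534 = n212553 := d15_0 F466395 (iv7 F363113) (iv2 F383688)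
def n212554 : Q := act 4 n147812
theorem D212554 : act 4 n147812 = n212554 := rfl
theorem F466397 : act 3 n212554 = n211321 := d5_1 D212554 F461104 (iv3 F386834) (iv4 D147816) (iv3 F231575)
theorem F466398 : act 6 n212554 = n211319 := d10_2 (iv6 F442701) D212554 F461100
theorem F466399 : act 5 n212554 = n194888 := d16_5 (iv4 F466383) (iv5 D212550) F231539 D147812 D212554 (iv4 D194888) (iv5 F369660) (iv7 F369904) (iv2 F409042)
def n212555 : Q := act 6 n147816
theorem D212555 : act 6 n147816 = n212555 := rfl
theorem F466400 : act 2 n212555 = n166218 := d3_1 D212555 F375962 (iv2 F375961)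
theorem F466401 : act 3 n212555 = n189142 := d7_1 D212555 F386836 (iv3 F386834)
theorem F466402 : act 4 n212555 = n147817 := d10_1 D212555 (iv6 D147817) D147816
theorem F466403 : act 7 n212555 = n184665 := d14_2 F353731 D212555 (iv6 D184665) F156900 (iv6 F353858)
theorem F466404 : act 0 n212555 = n189115 := d21_4 D147781 (iv1 F231528) (iv5 F231629) D212555 F375802 D205981 F438690 F407332 (iv6 F352354) (iv1 D147779)
theorem F466405 : act 0 n189118 = n212555 := d21_4 (iv5 D208310) F352550 F365358 (iv6 F375812) (iv6 D212555) F231629 (iv1 D73192) D73194 D154528 (iv1 F448861)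
def n212556 : Q := act 0 n147824
theorem D212556 : act 0 n147824 = n212556 := rfl
theorem F466406 : act 5 n212556 = n193575 := d17_3 (iv1 F390969) F390968 D212556 (iv4 F421382) F421392 (iv0 F421393) (iv5 D194103) (iv0 D102674) (iv4 F157919)
theorem F466407 : act 4 n212556 = n208007 := d18_1 D212556 (iv1 F447413) (iv4 F429483) F429485 (iv4 F390227) F382991 F382988 (iv0 F390972) F390968
theorem F466408 : act 3 n212556 = n197200 := d20_5 (iv4 F306458) (iv1 F190151) D69261 D147824 D212556 F403501 (iv1 F328584) D146536 F338135 F306448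
def n212557 : Q := act 2 n147824
theorem D212557 : act 2 n147824 = n212557 := rfl
theorem F466409 : act 3 n212557 = n171134 := d0_2 D147824 D212557 (iv2 F384732) F384733 F307367
theorem F466410 : act 4 n212557 = n173815 := d1_2 F358451 D212557 F272403
theorem F466411 : act 6 n212557 = n171131 := d3_2 (iv6 F307390) D212557 F268868
def n212558 : Q := act 4 n147846
theorem D212558 : act 4 n147846 = n212558 := rfl
theorem F466412 : act 6 n212558 = n193431 := d10_2 (iv6 F357768) D212558 F389814
theorem F466413 : act 7 n212558 = n166233 := d11_2 (iv7 F357769) D212558 F261723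
theorem F466414 : act 1 n212558 = n206375 := d18_6 D173679 (iv4 F347651) (iv1 F347652) F231611 D147846 D212558 F440490 F354526 F270130
def n212559 : Q := act 3 n147848
theorem D212559 : act 3 n147848 = n212559 := rfl
theorem F466415 : act 5 n212559 = n154518 := d6_2 (iv5 F231622) D212559 (iv3 D154518)
theorem F466416 : act 6 n212559 = n184670 := d7_2 (iv6 F353727) D212559 F286662
def n212560 : Q := act 0 n147876
theorem D212560 : act 0 n147876 = n212560 := rfl
theorem F466417 : act 5 n212560 = n211910 := d17_3 F237575 D147876 D212560 (iv4 D211910) (iv5 D144402) F350160 (iv5 F223875) (iv0 F339599) (iv4 F230979)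
theorem F466418 : act 4 n212560 = n166090 := d18_1 D212560 (iv1 F430515) F430512 (iv5 F338186) F330016 F330018 (iv4 F317007) F237574 D147876
theorem F466419 : act 2 n178180 = n212560 := d15_3 (iv0 D212560) F434052 F434049
theorem F466420 : act 1 n147893 = n212560 := d15_0 (iv0 D212560) (iv7 F465881) F465878
theorem F466421 : act 6 n206436 = n212560 := d21_9 (iv5 D147893) (iv1 F237576) (iv5 F373663) (iv6 D188489) (iv1 F258183) D163817 (iv5 F355018) (iv1 F337610) (iv5 F440790) (iv1 F466420)
def n212561 : Q := act 5 n147892
theorem D212561 : act 5 n147892 = n212561 := rfl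
theorem F466422 : act 2 n212561 = n203851 := d2_1 D212561 F466186 F466187
theorem F466423 : act 3 n212561 = n147893 := d6_1 D212561 (iv5 D147893) D147892
theorem F466424 : act 1 n212561 = n178234 := d17_6 F353309 (iv5 F374394) (iv1 F374405) (iv5 F375466) F375465 D212561 F361916 (iv0 D176364) (iv4 F275659)
theorem F466425 : act 0 n212561 = n190682 := d21_1 D212561 F380568 (iv6 D128201) (iv1 F94828) (iv6 F177755) D201227 F419531 (iv5 F332128) (iv6 F466190) (iv1 F466191)
theorem F466426 : act 6 n203850 = n212561 := d21_5 F194346 (iv1 F280682) F250816 D160582 F430098 (iv5 D212561) (iv1 F466035) F466033 F358929 (iv1 D80032)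
theorem F466427 : act 4 n212561 = n204834 := d10_1 F466426 (iv6 D204834) (iv4 F430097)
theorem F466428 : act 0 n204834 = n204677 := d17_0 (iv5 F459809) F459814 (iv5 D178150) (iv4 F350678) F358884 (iv0 F346739) (iv5 F380568) (iv0 F466425) F466427
theorem F466429 : act 1 n204834 = n166155 := d18_6 (iv1 F277918) (iv4 F277929) (iv1 F375469) F375465 D212561 F466427 (iv4 D166155) D166153 F345525
def n212562 : Q := act 4 n147893
theorem D212562 : act 4 n147893 = n212562 := rfl
theorem F466430 : act 2 n212562 = n205517 := d1_1 D212562 (iv4 F465883) F465878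
theorem F466431 : act 5 n212562 = n181228 := d9_2 D147893 D212562 (iv4 F459844) F459845 F359816 (iv5 D69286) D69285 D147876 (iv4 F352250) (iv5 F270744) (iv4 F352242) (iv5 F352246) F352245 (iv5 D69291) D69290
theorem F466432 : act 0 n212562 = n203947 := d17_0 F430531 F377753 (iv5 F355918) (iv4 D166490) D166491 (iv0 F419352) (iv5 F434047) (iv0 F434051) D212562
theorem F466433 : act 1 n212562 = n203948 := d18_6 (iv1 F230537) F230533 (iv1 F105131) D69290 D147893 D212562 (iv4 D203948) F194226 F337755
theorem F466434 : act 0 n196472 = n193907 := d19_8 (iv1 F466433) F466431 (iv4 F459844) F459843 F358915 D178153 (iv4 F358687) (iv3 F400775) (iv5 F464326) (iv4 D209731) F220047 D136867 F220050 F218584 F99381 (iv1 F82543) (iv5 F161230) (iv4 F203078) (iv3 F430536)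
theorem F466435 : act 6 n212562 = n205510 := d21_5 (iv5 D208367) (iv1 F216267) (iv5 F349815) (iv6 F430537) (iv1 F466433) F436770 F418218 (iv5 F418217) (iv6 F456388) F456390
def n212563 : Q := act 6 n147893
theorem D212563 : act 6 n147893 = n212563 := rfl
theorem F466436 : act 2 n212563 = n180625 := d3_1 D212563 (iv6 F465880) F465878
theorem F466437 : act 3 n212563 = n203850 := d7_1 D212563 F466426 F466423
theorem F466438 : act 4 n212563 = n205510 := d10_1 D212563 (iv6 F466435) (iv4 D212562)
theorem F466439 : act 0 n212563 = n180628 := d21_4 F466131 F237573 D147893 D212563 (iv6 F417682) (iv5 F417681) (iv1 F429620) F429617 (iv6 F395536) (iv1 F466134)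
theorem F466440 : act 0 n180622 = n212563 := d21_4 (iv5 F325700) F325696 (iv5 D180621) D180622 (iv6 D212563) (iv5 D147893) (iv1 F237576) (iv5 F373663) (iv6 D188489) (iv1 F258183)
theorem F466441 : act 7 n212563 = n180626 := d15_2 F389965 (iv0 F466439) F430130
def n212564 : Q := act 3 n147899
theorem D212564 : act 3 n147899 = n212564 := rfl
theorem F466442 : act 6 n212564 = n212214 := d7_2 F366271 D212564 (iv3 D212214)
theorem F466443 : act 7 n212564 = n178154 := d8_2 F322940 D212564 F356033
theorem F466444 : act 0 n212564 = n178153 := d19_4 D146718 F243024 D147899 D212564 (iv5 D178153) F130006 (iv3 F92070) (iv1 F347458) F347459 F336429 D175462 F348529 (iv5 D101598) F306169 F307119 (iv1 F307116) (iv5 F87145) (iv4 F310816) (iv3 F104968)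
theorem F466445 : act 0 n178158 = n212564 := d20_4 D204063 F430954 F277241 (iv3 F277711) (iv3 D212564) (iv4 D147899) (iv1 F200403) (iv4 F434230) F434229 (iv1 F302317)
theorem F466446 : act 5 n212564 = n204834 := d17_3 F262023 (iv5 F277712) F466445 (iv4 F466427) (iv5 D212561) F466191 F466189 F358935 D166467
theorem F466447 : act 2 n178155 = n212564 := d2_3 F466446 F433762 F433228
def n212565 : Q := act 5 n147899
theorem D212565 : act 5 n147899 = n212565 := rfl
theorem F466448 : act 3 n212565 = n204834 := d6_1 D212565 (iv5 F466446) (iv3 D212564)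
theorem F466449 : act 6 n212565 = n197772 := d12_2 F366271 D212565 F405714 (iv6 F459865) F459863
theorem F466450 : act 7 n212565 = n211383 := d13_2 F322940 D212565 (iv5 D211383)
theorem F466451 : act 0 n212565 = n210785 := d17_2 (iv1 F237582) D212565 (iv5 D210785) F222918 D139739 (iv0 F330037) F330038 (iv0 F316993) (iv4 F206010)
theorem F466452 : act 1 n212565 = n211037 := d17_6 (iv1 F243030) (iv5 D146720) D146718 F243024 D147899 D212565 (iv5 D211037) F424099 F424097
def n212566 : Q := act 4 n147901
theorem D212566 : act 4 n147901 = n212566 := rfl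
theorem F466453 : act 2 n212566 = n197494 := d1_1 D212566 F404554 F363424
theorem F466454 : act 6 n212566 = n203211 := d10_2 F357851 D212566 F427425
theorem F466455 : act 7 n212566 = n197495 := d11_2 F363422 D212566 (iv4 F404558)
theorem F466456 : act 0 n212566 = n197497 := d18_2 (iv1 F357844) D212566 F404561 F315159 (iv4 F183172) F366072 (iv4 D147889) F334976 (iv5 F334983)
theorem F466457 : act 1 n212566 = n197489 := d18_6 F333620 F178797 D201204 F419439 (iv5 F357845) D212566 F404533 (iv0 F317358) F317359
def n212567 : Q := act 3 n147902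
theorem D212567 : act 3 n147902 = n212567 := rfl
theorem F466458 : act 6 n212567 = n211357 := d7_2 F319314 D212567 (iv3 D211357)
def n212568 : Q := act 3 n147904
theorem D212568 : act 3 n147904 = n212568 := rfl
theorem F466459 : act 4 n212568 = n210451 := d5_2 (iv4 F363743) D212568 (iv3 D210451) F366535 (iv3 D150853)
theorem F466460 : act 5 n212568 = n196859 := d6_2 F462654 D212568 (iv3 F462652)
theorem F466461 : act 6 n212568 = n196631 := d7_2 F460346 D212568 (iv3 F460349)
theorem F466462 : act 0 n208636 = n212554 := d20_10 (iv4 D212554) F358571 (iv4 F231677) (iv3 D147906) D147904 D212568 F466459 F457592 F392894 (iv3 F450272)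
theorem F466463 : act 0 n212568 = n197573 := d20_10 (iv4 F415644) F415646 F404511 F225008 F167339 F319260 F107639 D71120 (iv4 F363743) D212568
theorem F466464 : act 2 n212155 = n212568 := d3_3 F466461 (iv2 F401249) D212155
theorem F466465 : act 2 n210451 = n194346 := d1_3 (iv4 F464529) F466464 F466459
theorem F466466 : act 7 n194347 = n210451 := d15_2 (iv0 D194346) D194347 F466465
theorem F466467 : act 3 n151278 = n194347 := d8_3 F466466 (iv3 D210451) F366594
theorem F466468 : act 6 n194347 = n202713 := d7_2 F366537 F466467 (iv3 D202713)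
def n212569 : Q := act 0 n147907
theorem D212569 : act 0 n147907 = n212569 := rfl
theorem F466469 : act 5 n212569 = n202493 := d17_1 D212569 (iv1 F424247) (iv5 F390356) (iv4 F377751) (iv5 F430531) (iv0 F466432) F466431 F416867 F416865
theorem F466470 : act 4 n212569 = n203945 := d18_1 D212569 F430522 F459839 F459838 F246247 (iv0 F317006) (iv4 F363743) (iv0 D147904) D147907
theorem F466471 : act 6 n212569 = n199631 := d21_5 F173037 (iv1 F406699) F409174 F409173 D212569 (iv5 D199631) (iv1 D111518) D111519 F341321 F173038
theorem F466472 : act 2 n211136 = n212569 := d15_3 (iv0 D212569) F360895 D211136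
theorem F466473 : act 1 n181154 = n212569 := d15_0 (iv0 D212569) (iv7 F434393) F434390
theorem F466474 : act 7 n212569 = n202492 := d15_2 F360896 F466473 F424240
def n212570 : Q := act 1 n147909
theorem D212570 : act 1 n147909 = n212570 := rfl
theorem F466475 : act 7 n212570 = n154700 := d15_2 (iv0 F459745) D212570 (iv2 F459742)
theorem F466476 : act 3 n189055 = n212570 := d20_3 F222761 (iv1 F438362) (iv4 F438363) (iv1 D212570) (iv3 D147909) (iv4 D69297) (iv1 F54207) D70334 (iv3 F354206) F354205
theorem F466477 : act 0 n154701 = n212570 := d20_4 (iv4 F464205) F464207 (iv4 F241515) (iv3 F242866) (iv3 F466476) F438363 (iv1 F438361) (iv4 F424158) F424157 F387013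
theorem F466478 : act 2 n154699 = n212570 := d15_3 (iv0 F466477) (iv0 F459746) F459744
def n212571 : Q := act 2 n147909
theorem D212571 : act 2 n147909 = n212571 := rfl
theorem F466479 : act 3 n212571 = n154687 := d0_2 D147909 D212571 (iv2 D154687) (iv3 D73357) (iv2 F105550)
theorem F466480 : act 4 n212571 = n211984 := d1_2 F464077 D212571 (iv2 F464076)
theorem F466481 : act 5 n212571 = n187808 := d2_2 F241642 D212571 F371570
theorem F466482 : act 7 n212571 = n154701 := d4_2 (iv7 F231682) D212571 (iv2 D154701)
theorem F466483 : act 1 n212571 = n154699 := d15_0 (iv0 D154699) (iv7 F231682) D212571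
theorem F466484 : act 1 n154700 = n212571 := d15_0 F466483 (iv7 F459744) F459742
theorem F466485 : act 6 n212221 = n212571 := d12_0 F466481 F371571 D188659 F374330 (iv5 F464809)
def n212572 : Q := act 6 n147909
theorem D212572 : act 6 n147909 = n212572 := rfl
theorem F466486 : act 2 n212572 = n212221 := d3_1 D212572 F466485 (iv2 D212571)
theorem F466487 : act 3 n212572 = n147910 := d7_1 D212572 (iv6 D147910) D147909
theorem F466488 : act 4 n212572 = n202870 := d10_1 D212572 F464080 F464077
theorem F466489 : act 5 n198870 = n212572 := d9_0 F466488 (iv5 D202870) F183136 (iv5 F168803) (iv4 F175542) (iv5 F202656) D205443 F436453 (iv4 D196608) (iv5 D107131) F78244 D49495 (iv4 F80320) D110400 D198870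
theorem F466490 : act 7 n211924 = n212572 := d11_0 F466488 F425960 D211924
def n212573 : Q := act 0 n147910
theorem D212573 : act 0 n147910 = n212573 := rfl
theorem F466491 : act 5 n212573 = n193139 := d17_1 D212573 F388885 F338938 F316710 (iv5 D84501) D84499 F129626 (iv0 F309673) (iv4 F231684)
theorem F466492 : act 4 n212573 = n202753 := d18_1 D212573 (iv1 F425433) (iv4 F388900) (iv5 F388903) (iv4 D101232) (iv0 F305548) D153292 (iv0 F242671) F242670
theorem F466493 : act 2 n154690 = n212573 := d15_3 (iv0 D212573) (iv0 F320346) F320349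
theorem F466494 : act 7 n212573 = n154691 := d4_2 F320349 F466493 (iv2 F320348)
theorem F466495 : act 1 n154693 = n212573 := d15_1 F320347 F466494 (iv2 F320348)
theorem F466496 : act 3 n188957 = n212573 := d20_9 F242860 (iv1 F231689) (iv4 F389212) F389216 F386752 F386749 F154141 D100196 (iv4 F455478) (iv1 F466495)
def n212574 : Q := act 7 n147910
theorem D212574 : act 7 n147910 = n212574 := rfl
theorem F466497 : act 2 n212574 = n154693 := d4_1 D212574 (iv7 D154693) (iv2 F231683)
theorem F466498 : act 3 n212574 = n211924 := d8_1 D212574 F466490 F466487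
theorem F466499 : act 4 n212574 = n147913 := d11_1 D212574 (iv7 D147913) (iv4 F231684)
theorem F466500 : act 5 n212574 = n157613 := d13_1 D212574 (iv7 F248366) F242670
theorem F466501 : act 6 n212574 = n154707 := d14_1 D212574 (iv7 D154707) (iv6 D73365) (iv7 F105551) D147910
theorem F466502 : act 1 n154691 = n212574 := d15_1 D154691 (iv7 D212574) F231683
theorem F466503 : act 1 n212574 = n154690 := d15_1 F466502 (iv7 F320349) F320348
def n212575 : Q := act 6 n147915
theorem D212575 : act 6 n147915 = n212575 := rfl
theorem F466504 : act 2 n212575 = n154733 := d3_1 D212575 (iv6 D154733) (iv2 F231700)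
theorem F466505 : act 5 n212575 = n212202 := d12_1 D212575 (iv6 F466121) (iv5 D212501) F231209 D147915
theorem F466506 : act 0 n204495 = n212575 := d21_4 F432938 (iv1 F432940) (iv5 D204579) (iv6 F432704) (iv6 D212575) (iv5 D147915) F105558 D118314 D203263 F432937
def n212576 : Q := act 1 n147916
theorem D212576 : act 1 n147916 = n212576 := rfl
theorem F466507 : act 1 n212576 = n169816 := d15_1 D212576 (iv7 F340766) F236047
theorem F466508 : act 7 n212576 = n155686 := d15_2 (iv0 F360580) D212576 F340773
theorem F466509 : act 3 n151376 = n212576 := d20_3 (iv4 F224585) D211300 F461024 (iv1 D212576) F231703 (iv4 F231710) F360576 (iv4 D166063) (iv3 F321897) F363156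
theorem F466510 : act 6 n211157 = n212576 := d21_3 D145583 F457758 (iv5 F460369) (iv1 D212576) (iv6 D147916) F105560 F95991 (iv5 F86522) D118876 F351592
theorem F466511 : act 2 n212576 = n169824 := d0_1 F466509 (iv3 F366807) F342579 F342556 (iv2 F252477)
def n212577 : Q := act 0 n147917
theorem D212577 : act 0 n147917 = n212577 := rfl
theorem F466512 : act 3 n212577 = n194338 := d20_5 (iv4 D33359) (iv1 F51158) D69301 D147917 D212577 (iv4 D194338) (iv1 F372093) F372097 (iv3 D147922) (iv1 F105571)
theorem F466513 : act 1 n154730 = n212577 := d15_0 (iv0 D212577) F231705 D154730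
theorem F466514 : act 2 n154729 = n212577 := d0_5 F466512 F392870 (iv3 F365594) F386920 F392908
theorem F466515 : act 7 n154728 = n212577 := d8_0 F466512 F392871 (iv3 F372083)
def n212578 : Q := act 1 n147917
theorem D212578 : act 1 n147917 = n212578 := rfl
theorem F466516 : act 7 n212578 = n154729 := d15_2 (iv0 D212577) D212578 F466514
theorem F466517 : act 3 n155834 = n212578 := d20_3 (iv4 F392899) (iv1 F440461) F440467 (iv1 D212578) (iv3 D147917) (iv4 D69301) (iv1 D32214) D32215 D69305 (iv1 F359343)
theorem F466518 : act 2 n212578 = n154728 := d0_1 F466517 F372083 (iv2 F372099) F386917 F386921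
theorem F466519 : act 6 n212578 = n208639 := d7_2 F434536 F466517 F450282
theorem F466520 : act 1 n212578 = n154730 := d15_0 F466513 (iv7 F466515) (iv2 F466518)
def n212579 : Q := act 2 n147917
theorem D212579 : act 2 n147917 = n212579 := rfl
theorem F466521 : act 3 n212579 = n154711 := d0_2 D147917 D212579 (iv2 D154711) (iv3 D73370) (iv2 F105564)
theorem F466522 : act 4 n212579 = n197349 := d1_2 F236056 D212579 (iv2 F404012)
theorem F466523 : act 7 n212579 = n154730 := d4_2 (iv7 F231705) D212579 (iv2 D154730)
theorem F466524 : act 1 n212579 = n154728 := d15_0 (iv0 D154728) (iv7 F231705) D212579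
theorem F466525 : act 1 n154729 = n212579 := d15_0 F466524 F466515 (iv2 F466514)
def n212580 : Q := act 5 n147917
theorem D212580 : act 5 n147917 = n212580 := rfl
theorem F466526 : act 3 n212580 = n147918 := d6_1 D212580 (iv5 D147918) D147917
theorem F466527 : act 7 n212580 = n154731 := d13_2 (iv7 F231705) D212580 (iv5 D154731)
def n212581 : Q := act 6 n147917
theorem D212581 : act 6 n147917 = n212581 := rfl
theorem F466528 : act 3 n212581 = n147919 := d7_1 D212581 (iv6 D147919) D147917
theorem F466529 : act 4 n212581 = n212226 := d10_1 D212581 (iv6 F464832) F236056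
theorem F466530 : act 5 n194483 = n212581 := d9_0 F466529 (iv5 F464831) (iv4 D192168) (iv5 D99818) F73633 D48384 D104626 D194830 (iv4 F464826) F464827 (iv4 D192264) (iv5 D99946) (iv4 F75421) D103651 D194483
theorem F466531 : act 7 n169875 = n212581 := d11_0 F466529 F464829 (iv4 F386263)
theorem F466532 : act 2 n194492 = n212581 := d16_9 F466529 (iv5 F464831) (iv4 D192168) (iv5 D99818) F73633 D48384 D104626 D194830 F394646
theorem F466533 : act 0 n175123 = n212581 := d18_0 F466529 (iv1 D212226) (iv4 F464823) F464824 (iv4 D194824) F160645 D194960 F395191 (iv5 F380596)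
theorem F466534 : act 6 n212579 = n194492 := d3_0 F466532 (iv6 D212581) D212579
def n212582 : Q := act 6 n147918
theorem D212582 : act 6 n147918 = n212582 := rfl
theorem F466535 : act 2 n212582 = n154714 := d3_1 D212582 (iv6 D154714) (iv2 F231706)
theorem F466536 : act 4 n212582 = n199625 := d10_1 D212582 (iv6 F412903) F237859
theorem F466537 : act 5 n212582 = n195046 := d12_1 D212582 F395566 F381078 (iv6 D147919) D147918
theorem F466538 : act 0 n198798 = n212582 := d21_4 (iv5 D199429) (iv1 D111319) D111321 (iv6 F409295) (iv6 D212582) (iv5 D147918) F105566 (iv5 F339951) F354406 (iv1 F412158)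
theorem F466539 : act 1 n199760 = n212582 := d15_0 (iv0 F466538) F409296 (iv2 F413374)
theorem F466540 : act 7 n199761 = n212582 := d13_0 F466537 F395567 (iv5 F413376)
def n212583 : Q := act 0 n147924
theorem D212583 : act 0 n147924 = n212583 := rfl
theorem F466541 : act 2 n154752 = n212583 := d15_3 (iv0 D212583) (iv0 F366398) (iv7 F366522)
theorem F466542 : act 1 n154753 = n212583 := d15_0 (iv0 D212583) F231724 D154753
theorem F466543 : act 7 n212583 = n154751 := d15_2 (iv0 F389307) F466542 (iv2 F366523)
theorem F466544 : act 3 n192434 = n212583 := d8_3 F466543 (iv3 F405240) (iv7 F405254)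
def n212584 : Q := act 2 n147924
theorem D212584 : act 2 n147924 = n212584 := rfl
theorem F466545 : act 3 n212584 = n154743 := d0_2 D147924 D212584 (iv2 D154743) (iv3 D73384) F105577
theorem F466546 : act 4 n212584 = n209483 := d1_2 F251033 D212584 F453882
theorem F466547 : act 7 n212584 = n154753 := d4_2 (iv7 F231724) D212584 (iv2 D154753)
theorem F466548 : act 1 n212584 = n154751 := d15_0 (iv0 D154751) (iv7 F231724) D212584
theorem F466549 : act 1 n154752 = n212584 := d15_0 F466548 (iv7 F466543) (iv2 F466541)
def n212585 : Q := act 5 n147924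
theorem D212585 : act 5 n147924 = n212585 := rfl
theorem F466550 : act 3 n212585 = n147925 := d6_1 D212585 (iv5 D147925) D147924
theorem F466551 : act 6 n212585 = n197755 := d12_2 F430502 D212585 F405645 D205222 (iv5 F435497)
theorem F466552 : act 7 n212585 = n154755 := d13_2 (iv7 F231724) D212585 (iv5 D154755)
theorem F466553 : act 4 n212585 = n197756 := d16_4 (iv4 F287455) F358622 F251033 D212585 (iv5 F405648) (iv4 F394232) F394233 (iv7 D185388) (iv2 F285734)
theorem F466554 : act 0 n212585 = n206270 := d21_1 D212585 (iv5 D206270) D206271 (iv1 F440009) F402507 F389378 F386082 (iv5 D108463) D108464 F366398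
theorem F466555 : act 0 n206272 = n212585 := d18_2 F394077 (iv4 F440012) F466553 (iv5 F405648) (iv4 F394232) F394236 F394226 (iv0 F370782) (iv5 F371748)
def n212586 : Q := act 5 n147929
theorem D212586 : act 5 n147929 = n212586 := rfl
theorem F466556 : act 2 n212586 = n147930 := d2_1 D212586 (iv5 D147930) D147929
theorem F466557 : act 6 n212586 = n208239 := d12_2 F405319 D212586 F448530 (iv6 F406459) F406093
theorem F466558 : act 7 n212586 = n154771 := d13_2 (iv7 F231734) D212586 (iv5 D154771)
theorem F466559 : act 0 n212586 = n154773 := d17_2 (iv1 F231735) D212586 (iv5 F439987) F439984 F438349 (iv0 F366455) (iv5 F392905) F392906 (iv4 D154763)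
theorem F466560 : act 1 n212586 = n154772 := d17_6 D150600 F357010 (iv1 F110853) (iv5 F106020) (iv4 F231733) D212586 (iv5 F362386) F357017 F206033
def n212587 : Q := act 4 n147930
theorem D212587 : act 4 n147930 = n212587 := rfl
theorem F466561 : act 7 n212587 = n154774 := d11_2 (iv7 F231739) D212587 (iv4 D154774)
theorem F466562 : act 1 n212587 = n188629 := d18_6 (iv1 D192514) F353038 (iv1 D69676) (iv4 F105578) D147930 D212587 F374245 D188657 F386923
def n212588 : Q := act 7 n147931
theorem D212588 : act 7 n147931 = n212588 := rfl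
theorem F466563 : act 2 n212588 = n197915 := d4_1 D212588 F409181 F409175
theorem F466564 : act 3 n212588 = n208240 := d8_1 D212588 F448535 F412498
theorem F466565 : act 4 n212588 = n198286 := d11_1 D212588 F407478 F241638
theorem F466566 : act 5 n212588 = n205220 := d13_1 D212588 F435486 (iv5 F409174)
theorem F466567 : act 6 n212588 = n154782 := d14_1 D212588 (iv7 D154782) (iv6 D73396) (iv7 F105580) D147931
theorem F466568 : act 1 n197906 = n212588 := d15_1 F409179 (iv7 D212588) (iv2 F409175)
theorem F466569 : act 1 n212588 = n197729 := d15_1 F466568 F405546 (iv2 F406167)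
def n212589 : Q := act 6 n147932
theorem D212589 : act 6 n147932 = n212589 := rfl
theorem F466570 : act 2 n212589 = n203464 := d3_1 D212589 (iv6 D203464) F347723
theorem F466571 : act 3 n212589 = n187439 := d7_1 D212589 F370326 (iv3 F347722)
theorem F466572 : act 4 n212589 = n187069 := d10_1 D212589 F369022 (iv4 F347725)
theorem F466573 : act 7 n212589 = n187434 := d14_2 F347724 D212589 (iv6 D187434) (iv7 F142405) (iv6 F178118)
theorem F466574 : act 0 n212589 = n212273 := d21_4 D146401 D212275 F465092 D212589 F465084 (iv5 D170546) D170543 (iv5 F398321) (iv6 F424855) (iv1 D146400)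
theorem F466575 : act 5 n212589 = n201661 := d21_6 D144940 D212017 F463955 F324896 D147932 D212589 (iv1 D201661) F357312 (iv6 F350248) (iv1 D144938)
theorem F466576 : act 0 n159914 = n212589 := d17_0 F466575 (iv1 D201661) F357312 F309301 (iv5 F153326) (iv0 F291545) D189887 (iv0 F378115) (iv4 F356613)
def n212590 : Q := act 0 n147934
theorem D212590 : act 0 n147934 = n212590 := rfl
theorem F466577 : act 5 n212590 = n201217 := d17_3 F347728 D147934 D212590 F428002 (iv5 D203350) F363658 (iv5 F427809) F427812 F347732
theorem F466578 : act 4 n212590 = n152057 := d18_1 D212590 (iv1 F363658) (iv4 D118761) (iv5 D54675) (iv4 F86484) D118747 (iv4 F347725) (iv0 D147932) D147934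
theorem F466579 : act 3 n212590 = n201221 := d20_5 (iv4 F229790) (iv1 F231746) (iv4 D147936) (iv3 F231740) D212590 F419501 F412669 F375015 (iv3 F161813) F314509
theorem F466580 : act 2 n203466 = n212590 := d15_3 (iv0 D212590) (iv0 F428312) (iv7 F428426)
theorem F466581 : act 1 n159404 = n212590 := d15_0 (iv0 D212590) (iv7 F366613) (iv2 F251010)
theorem F466582 : act 7 n212590 = n152054 := d15_2 F427944 F466581 (iv2 F427942)
theorem F466583 : act 6 n212278 = n212590 := d21_3 (iv5 F427214) F427215 (iv5 F465104) (iv1 F466581) (iv6 D159404) (iv5 D76252) F55088 D54706 D118859 F386989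
def n212591 : Q := act 4 n147934
theorem D212591 : act 4 n147934 = n212591 := rfl
theorem F466584 : act 2 n212591 = n212363 := d1_1 D212591 F465504 F460281
theorem F466585 : act 3 n212591 = n208678 := d5_1 D212591 F450422 F436976 (iv4 D147936) (iv3 F231740)
theorem F466586 : act 7 n212591 = n206253 := d11_2 F366613 D212591 (iv4 D206253)
theorem F466587 : act 5 n212591 = n202902 := d16_1 D212591 (iv4 F426123) (iv5 F421311) D203348 F427990 F314120 (iv5 F251012) (iv7 F460283) F460281
theorem F466588 : act 1 n212591 = n148104 := d18_6 D118702 F427024 (iv1 D203113) F184291 D147934 D212591 (iv4 F427818) (iv0 D203312) (iv5 D118704)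
theorem F466589 : act 6 n212591 = n208676 := d21_5 F320826 F107943 D107935 (iv6 F357325) (iv1 F466588) F450418 F217219 F403430 (iv6 D197181) (iv1 F320824)
def n212592 : Q := act 6 n147934
theorem D212592 : act 6 n147934 = n212592 := rfl
theorem F466590 : act 3 n212592 = n147937 := d7_1 D212592 (iv6 D147937) (iv3 F231740)
theorem F466591 : act 4 n212592 = n208676 := d10_1 D212592 (iv6 F466589) (iv4 D212591)
theorem F466592 : act 7 n212592 = n159397 := d14_2 F366613 D212592 (iv6 D159397) F114274 (iv6 F205913)
theorem F466593 : act 0 n207393 = n212592 := d18_2 (iv1 F450163) F450168 F466591 F450418 F449087 F450127 F450125 F410161 (iv5 F216919)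
def n212593 : Q := act 1 n147937
theorem D212593 : act 1 n147937 = n212593 := rfl
theorem F466594 : act 1 n212593 = n147979 := d15_1 D212593 (iv7 D147979) (iv2 F231747)
theorem F466595 : act 7 n212593 = n147976 := d15_2 (iv0 F465137) D212593 (iv2 F465134)
theorem F466596 : act 2 n147977 = n212593 := d4_3 F466595 (iv2 F465134) (iv7 F465138)
theorem F466597 : act 3 n203582 = n212593 := d8_3 F466595 F365707 F428982
def n212594 : Q := act 6 n147939
theorem D212594 : act 6 n147939 = n212594 := rfl
theorem F466598 : act 2 n212594 = n147989 := d3_1 D212594 (iv6 D147989) (iv2 F231810)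
theorem F466599 : act 3 n212594 = n164342 := d7_1 D212594 F258971 (iv3 F355801)
theorem F466600 : act 4 n212594 = n204656 := d10_1 D212594 F433155 F380353
theorem F466601 : act 7 n212594 = n170543 := d14_2 (iv7 F231811) D212594 (iv6 F392648) F392649 (iv6 D147984)
theorem F466602 : act 5 n212594 = n151322 := d21_6 (iv5 D33017) F27647 D34824 (iv6 F312201) (iv1 F231752) D212594 (iv1 D151322) (iv5 F114717) (iv6 D76527) F55334
theorem F466603 : act 0 n148595 = n212594 := d21_4 (iv5 F229694) F360953 (iv5 D148594) D148595 (iv6 D212594) (iv5 F355799) (iv1 F464922) F464920 F461939 (iv1 D151386)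
theorem F466604 : act 1 n170545 = n212594 := d15_0 (iv0 F466603) F354930 D170545
def n212595 : Q := act 0 n147959
theorem D212595 : act 0 n147959 = n212595 := rfl
theorem F466605 : act 5 n212595 = n151386 := d17_3 F339598 D147959 D212595 (iv4 F396291) (iv5 F396292) (iv0 D146356) (iv5 D68626) F326376 D117905
theorem F466606 : act 1 n188757 = n212595 := d15_0 (iv0 D212595) F465704 F465701
theorem F466607 : act 3 n151406 = n212595 := d19_19 (iv1 F466606) F374746 (iv4 D138698) F100897 (iv1 F49213) (iv5 D30755) F24234 (iv3 F39866) D52055 D112781 D200196 F415483 (iv1 D194849) (iv5 F352036) F177580 (iv3 F86480) F258991 D114929 (iv4 F349043)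
def n212596 : Q := act 4 n147959
theorem D212596 : act 4 n147959 = n212596 := rfl
theorem F466608 : act 5 n212596 = n210397 := d16_1 D212596 (iv4 D210397) (iv5 D138624) F100875 D65122 D138698 (iv5 F374746) (iv7 F427100) F427098
theorem F466609 : act 0 n212596 = n195232 := d18_2 F398342 D212596 (iv4 D195232) (iv5 D105447) D105446 F393526 (iv4 F397513) F397516 D195823
theorem F466610 : act 1 n212596 = n195226 := d18_6 (iv1 F334967) (iv4 D139967) D139965 F359200 D147959 D212596 (iv4 D195226) D195225 (iv5 F396362)
def n212597 : Q := act 5 n147961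
theorem D212597 : act 5 n147961 = n212597 := rfl
theorem F466611 : act 2 n212597 = n201824 := d2_1 D212597 F421927 (iv2 F352150)
theorem F466612 : act 3 n212597 = n203438 := d6_1 D212597 (iv5 D203438) F352146
theorem F466613 : act 6 n212597 = n203445 := d12_2 F352147 D212597 (iv5 D203445) (iv6 F376817) (iv5 F376816)
theorem F466614 : act 7 n212597 = n201271 := d13_2 (iv7 F352148) D212597 F419783
theorem F466615 : act 0 n212597 = n201823 := d17_2 D147961 D212597 (iv5 F421921) F229857 F229412 F228847 (iv5 F228889) (iv0 D145753) (iv4 F105592)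
theorem F466616 : act 1 n212597 = n147969 := d17_6 (iv1 D211508) (iv5 F229440) D212251 F464979 (iv4 F352145) D212597 F231785 D159881 (iv4 F461885)
def n212598 : Q := act 5 n147968
theorem D212598 : act 5 n147968 = n212598 := rfl
theorem F466617 : act 2 n212598 = n212304 := d2_1 D212598 (iv5 D212304) (iv2 F231784)
theorem F466618 : act 3 n212598 = n197498 := d6_1 D212598 F404569 F346147
theorem F466619 : act 6 n212598 = n202952 := d12_2 D147968 D212598 (iv5 D202952) (iv6 D117356) (iv5 F105594)
theorem F466620 : act 1 n212598 = n206288 := d17_6 F427781 F238408 F363820 D135784 (iv4 F363823) D212598 F440085 (iv0 D203304) D203306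
theorem F466621 : act 1 n203928 = n212598 := d15_0 F466620 F440087 (iv2 F430443)
theorem F466622 : act 7 n202877 = n212598 := d14_0 F466619 F426355 (iv6 D144997) (iv7 F183168) D202877
def n212599 : Q := act 7 n147968
theorem D212599 : act 7 n147968 = n212599 := rfl
theorem F466623 : act 2 n212599 = n212305 := d4_1 D212599 (iv7 D212305) (iv2 F231784)
theorem F466624 : act 3 n212599 = n202880 := d8_1 D212599 F426010 F346147
theorem F466625 : act 4 n212599 = n209114 := d11_1 D212599 (iv7 D209114) (iv4 F363823)
theorem F466626 : act 5 n212599 = n202877 := d13_1 D212599 F466622 (iv5 D212598)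
theorem F466627 : act 6 n212599 = n212302 := d14_1 D212599 (iv7 D212302) (iv6 D146544) F105596 D147968
theorem F466628 : act 1 n203303 = n212599 := d15_1 (iv0 F427770) (iv7 D212599) F231784
theorem F466629 : act 1 n212599 = n203301 := d15_1 F466628 F427763 (iv2 F427767)
def n212600 : Q := act 0 n147971
theorem D212600 : act 0 n147971 = n212600 := rfl
theorem F466630 : act 4 n212600 = n150752 := d18_1 D212600 (iv1 F350247) (iv4 F465175) F465176 (iv4 F398877) (iv0 F403390) F403389 D197175 F403401
theorem F466631 : act 5 n212600 = n191706 := d21_2 F403401 D212600 (iv6 D191706) F349283 (iv6 F444749) (iv5 F463931) (iv1 F463932) (iv5 F403360) (iv6 F403361) (iv1 F403397)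
theorem F466632 : act 6 n212600 = n150751 := d21_5 (iv5 D68644) (iv1 F55383) (iv5 F105599) D147971 D212600 (iv5 F349236) (iv1 F349237) F237351 (iv6 F335930) (iv1 F183792)
theorem F466633 : act 2 n212300 = n212600 := d15_3 (iv0 D212600) (iv0 F364332) F465224
theorem F466634 : act 7 n212600 = n212301 := d4_2 F465224 F466633 F465226
theorem F466635 : act 1 n212302 = n212600 := d15_1 F465231 F466634 F465226
def n212601 : Q := act 7 n147971
theorem D212601 : act 7 n147971 = n212601 := rfl
theorem F466636 : act 2 n212601 = n212302 := d4_1 D212601 (iv7 D212302) (iv2 F231790)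
theorem F466637 : act 3 n212601 = n189754 := d8_1 D212601 F387761 F387760
theorem F466638 : act 6 n212601 = n212305 := d14_1 D212601 (iv7 D212305) (iv6 D146554) (iv7 F105598) D147971
theorem F466639 : act 1 n212301 = n212601 := d15_1 D212301 (iv7 D212601) F231790
theorem F466640 : act 1 n212601 = n212300 := d15_1 F466639 (iv7 F465224) (iv2 F465226)
def n212602 : Q := act 6 n147972
theorem D212602 : act 6 n147972 = n212602 := rfl
theorem F466641 : act 2 n212602 = n209084 := d3_1 D212602 F452174 F327878
theorem F466642 : act 4 n212602 = n201437 := d10_1 D212602 (iv6 D201437) F322804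
theorem F466643 : act 5 n212602 = n209082 := d12_1 D212602 (iv6 D209082) (iv5 D135708) (iv6 F327875) (iv5 F231791)
def n212603 : Q := act 0 n147974
theorem D212603 : act 0 n147974 = n212603 := rfl
theorem F466644 : act 5 n212603 = n208988 := d17_3 F465019 F465016 D212603 F451720 (iv5 D137338) (iv0 D64557) (iv5 F100313) (iv0 F401849) (iv4 F395953)
theorem F466645 : act 3 n212603 = n192543 := d20_5 (iv4 D147970) (iv1 D69319) D69320 D147974 D212603 (iv4 F412801) (iv1 D188900) F143275 (iv3 F143270) (iv1 F335956)
theorem F466646 : act 1 n192535 = n212603 := d15_0 (iv0 D212603) (iv7 F427103) (iv2 F427104)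
theorem F466647 : act 2 n208992 = n212603 := d0_5 F466645 F413474 F413467 (iv2 F217981) (iv3 F451738)
theorem F466648 : act 6 n208990 = n212603 := d7_0 F466645 (iv6 F447146) (iv3 F451729)
theorem F466649 : act 7 n211594 = n212603 := d8_0 F466645 (iv7 F413472) (iv3 F462303)
def n212604 : Q := act 1 n147974
theorem D212604 : act 1 n147974 = n212604 := rfl
theorem F466650 : act 7 n212604 = n208992 := d15_2 (iv0 D212603) D212604 F466647
theorem F466651 : act 4 n212604 = n208616 := d17_9 F450177 (iv5 F413443) F413445 D209560 F454135 (iv5 F454797) (iv0 F465020) F465016 D212604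
theorem F466652 : act 5 n212604 = n208993 := d18_9 (iv1 F451745) F391839 F391841 (iv4 F437506) F437507 (iv4 F458489) (iv0 F458490) (iv4 F356692) D212604
theorem F466653 : act 3 n208203 = n212604 := d20_3 F452326 (iv1 D208205) (iv4 F448338) (iv1 D212604) (iv3 D147974) (iv4 D69320) D69318 D147967 F363822 D209115
theorem F466654 : act 2 n212604 = n211594 := d0_1 F466653 F462303 F413471 (iv3 F432780) (iv2 F448337)
theorem F466655 : act 6 n212604 = n208202 := d7_2 D208203 F466653 (iv3 D208202)
theorem F466656 : act 1 n212604 = n192535 := d15_0 F466646 (iv7 F466649) (iv2 F466654)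
def n212605 : Q := act 2 n147974
theorem D212605 : act 2 n147974 = n212605 := rfl
theorem F466657 : act 5 n212605 = n210145 := d2_2 F465016 D212605 (iv2 F465014)
theorem F466658 : act 7 n212605 = n192535 := d4_2 F427103 D212605 F427104
theorem F466659 : act 1 n212605 = n211594 := d15_0 (iv0 F462304) F427103 D212605
theorem F466660 : act 1 n208992 = n212605 := d15_0 F466659 F466649 (iv2 F466647)
def n212606 : Q := act 5 n147976
theorem D212606 : act 5 n147976 = n212606 := rfl
theorem F466661 : act 3 n212606 = n208985 := d6_1 D212606 F451707 (iv3 F365707)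
theorem F466662 : act 6 n212606 = n208977 := d12_2 (iv6 F356767) D212606 F451661 (iv6 F327882) (iv5 F231798)
def n212607 : Q := act 3 n147977
theorem D212607 : act 3 n147977 = n212607 := rfl
theorem F466663 : act 5 n212607 = n188068 := d6_2 (iv5 F448372) D212607 (iv3 F376912)
theorem F466664 : act 0 n212607 = n203445 := d20_4 (iv4 F374311) F465178 F465175 D212607 F428339 F187375 (iv1 F187531) (iv4 F420769) (iv3 F465125) F465129
theorem F466665 : act 0 n159372 = n212607 := d19_0 F466663 (iv4 F376913) F376483 D189372 F376928 (iv4 D187903) (iv3 F371720) F402841 (iv5 F421673) (iv4 F456604) F456603 (iv1 F405381) F336975 F167637 F161940 F211716 (iv5 F333529) F250918 (iv3 F250913)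
def n212608 : Q := act 6 n147977
theorem D212608 : act 6 n147977 = n212608 := rfl
theorem F466666 : act 4 n212608 = n151653 := d10_1 D212608 (iv6 F465177) F465175
theorem F466667 : act 7 n212608 = n212602 := d14_2 (iv7 F465138) D212608 (iv6 D212602) (iv7 F231795) D212284
def n212609 : Q := act 4 n147978
theorem D212609 : act 4 n147978 = n212609 := rfl
theorem F466668 : act 2 n212609 = n197174 := d1_1 D212609 (iv4 F448376) F448375
theorem F466669 : act 6 n212609 = n147992 := d10_2 (iv6 F231802) D212609 (iv4 D147992)
theorem F466670 : act 7 n212609 = n197175 := d11_2 F350241 D212609 (iv4 F403398)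
theorem F466671 : act 5 n212609 = n212601 := d16_7 (iv4 F465126) F465127 F392302 (iv5 F356694) F231801 D147978 D212609 (iv7 D212601) F231790
theorem F466672 : act 1 n212609 = n197167 := d18_6 D155578 (iv4 F465229) (iv1 F465231) F231801 D147978 D212609 F403364 (iv0 D195962) F163733
theorem F466673 : act 0 n212609 = n197177 := d20_1 D212609 F403405 (iv3 F398874) (iv1 D133413) (iv3 F214517) (iv4 F447966) (iv1 F447967) (iv4 F376849) (iv3 F402749) F402751
theorem F466674 : act 3 n208112 = n212609 := d20_5 D207388 F444644 F210042 (iv3 F214477) D208112 (iv4 D212609) (iv1 F448368) (iv4 F448370) F443783 (iv1 F210026)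
def n212610 : Q := act 5 n147986
theorem D212610 : act 5 n147986 = n212610 := rfl
theorem F466675 : act 2 n212610 = n201254 := d2_1 D212610 (iv5 D201254) F355802
theorem F466676 : act 3 n212610 = n147988 := d6_1 D212610 (iv5 D147988) D147986
theorem F466677 : act 6 n212610 = n195021 := d12_2 F347775 D212610 (iv5 F395445) (iv6 F352395) F352378
theorem F466678 : act 7 n212610 = n203434 := d13_2 F347776 D212610 (iv5 D203434)
theorem F466679 : act 0 n212610 = n212015 := d17_2 F347773 D212610 (iv5 D212015) F227874 (iv5 F202633) F202635 (iv5 F232038) F230988 (iv4 F313050)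
theorem F466680 : act 1 n212610 = n212470 := d17_6 D173647 (iv5 F342092) (iv1 D177678) F316337 (iv4 F347774) D212610 (iv5 D212470) F342094 F317561
def n212611 : Q := act 6 n147987
theorem D212611 : act 6 n147987 = n212611 := rfl
theorem F466681 : act 2 n212611 = n204656 := d3_1 D212611 F433155 (iv2 F380355)
theorem F466682 : act 3 n212611 = n157712 := d7_1 D212611 (iv6 D157712) (iv3 F231805)
theorem F466683 : act 4 n212611 = n147989 := d10_1 D212611 (iv6 D147989) D147987
theorem F466684 : act 5 n212611 = n203163 := d12_1 D212611 F427247 F185623 (iv6 F309229) F231806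
theorem F466685 : act 7 n212611 = n202883 := d14_2 F231807 D212611 (iv6 D202883) F183290 (iv6 F182695)
theorem F466686 : act 0 n212611 = n170427 := d21_4 (iv5 F279560) F279561 F231806 D212611 (iv6 D170427) (iv5 F336856) (iv1 F336867) (iv5 F339434) F339798 F339797
theorem F466687 : act 0 n197203 = n212611 := d21_4 (iv5 D139958) (iv1 F180772) F332417 (iv6 F403509) (iv6 D212611) (iv5 F231806) D179631 F348032 (iv6 D177163) (iv1 F359175)
def n212612 : Q := act 6 n147988
theorem D212612 : act 6 n147988 = n212612 := rfl
theorem F466688 : act 3 n212612 = n195021 := d7_1 D212612 (iv6 F466677) F466676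
theorem F466689 : act 4 n212612 = n197036 := d10_1 D212612 F402773 F355691
theorem F466690 : act 5 n212612 = n199315 := d12_1 D212612 F411630 (iv5 F398331) (iv6 D147989) D147988
theorem F466691 : act 7 n212612 = n197034 := d14_2 (iv7 F355693) D212612 (iv6 D197034) F165929 (iv6 F238184)
theorem F466692 : act 0 n212612 = n203929 := d21_4 (iv5 D105870) (iv1 F316571) D147988 D212612 F430447 F367586 F367216 (iv5 F377654) F377655 F349342
theorem F466693 : act 1 n212612 = n203901 := d15_1 (iv0 F466692) F430299 (iv2 F430445)
def n212613 : Q := act 6 n147991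
theorem D212613 : act 6 n147991 = n212613 := rfl
theorem F466694 : act 2 n212613 = n201876 := d3_1 D212613 (iv6 F448390) (iv2 F448392)
theorem F466695 : act 3 n212613 = n189525 := d7_1 D212613 F376802 F359060
theorem F466696 : act 5 n212613 = n194000 := d12_1 D212613 F391715 F317535 D175930 (iv5 F359059)
theorem F466697 : act 7 n212613 = n189520 := d14_2 F448395 D212613 (iv6 D189520) (iv7 F376257) F448398
theorem F466698 : act 0 n212613 = n208975 := d21_10 (iv5 D208975) (iv1 D135517) D135518 (iv6 F451635) (iv1 F451639) (iv6 F464918) F464920 F461941 (iv5 F359059) D212613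
theorem F466699 : act 0 n208973 = n212613 := d17_0 F466696 (iv1 F391717) (iv5 F252363) (iv4 F444744) F444745 F439074 (iv5 F452278) (iv0 D209104) (iv4 F451647)
def n212614 : Q := act 5 n148053
theorem D212614 : act 5 n148053 = n212614 := rfl
theorem F466700 : act 2 n212614 = n189936 := d2_1 D212614 F378306 F278749
theorem F466701 : act 3 n212614 = n199893 := d6_1 D212614 F414018 F347165
theorem F466702 : act 6 n212614 = n189940 := d12_2 (iv6 F347166) D212614 F379125 F379124 (iv5 F361796)
theorem F466703 : act 7 n212614 = n205258 := d13_2 F278748 D212614 F435639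
theorem F466704 : act 0 n212614 = n160846 := d17_2 F411026 D212614 (iv5 F344505) (iv4 F439062) F439063 F348018 (iv5 F408690) (iv0 F408691) (iv4 F411022)
theorem F466705 : act 1 n212614 = n194488 := d17_6 (iv1 F319190) (iv5 F85455) F183454 D69350 D148053 D212614 F393418 (iv0 D142438) F102647
def n212615 : Q := act 1 n148104
theorem D212615 : act 1 n148104 = n212615 := rfl
theorem F466706 : act 7 n212615 = n212363 := d15_2 F466588 D212615 (iv2 F466584)
theorem F466707 : act 5 n212615 = n202903 := d17_7 (iv1 F424853) (iv5 F428429) F428427 (iv5 D127955) F314115 D148104 D212615 F426126 (iv4 F424850)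
theorem F466708 : act 4 n212615 = n159404 := d17_9 (iv1 F427944) F427945 (iv1 D202939) D202940 (iv4 F427955) (iv5 D203341) F314118 D148104 D212615
theorem F466709 : act 2 n206253 = n212615 := d1_3 F466708 F251010 D206253
theorem F466710 : act 6 n159403 = n212615 := d10_0 F466708 (iv6 D159404) D159403
def n212616 : Q := act 5 n148120
theorem D212616 : act 5 n148120 = n212616 := rfl
theorem F466711 : act 2 n212616 = n204351 := d2_1 D212616 (iv5 D204351) F347739
theorem F466712 : act 3 n212616 = n193389 := d6_1 D212616 F389676 (iv3 F347740)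
theorem F466713 : act 4 n212616 = n202553 := d9_1 D212616 F424469 F181200 D142363 (iv4 F355655) D191323 F383045 D203036 (iv4 F458462) F458461 (iv4 F425177) F425178 F377237 (iv5 F259536) (iv4 F347741)
theorem F466714 : act 6 n212616 = n193387 := d12_2 (iv6 F347742) D212616 F389663 (iv6 D122798) (iv5 F177691)
theorem F466715 : act 7 n212616 = n210695 := d13_2 F392420 D212616 F458466
theorem F466716 : act 0 n212616 = n197627 := d17_2 D148120 D212616 F405092 F230328 F343308 (iv0 D113032) F82485 (iv0 F331478) (iv4 F105680)
theorem F466717 : act 1 n212616 = n148131 := d17_6 (iv1 D189626) F291664 (iv1 F355653) (iv5 F259536) (iv4 F347741) D212616 F231944 (iv0 F411603) F411602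
def n212617 : Q := act 3 n148129
theorem D212617 : act 3 n148129 = n212617 := rfl
theorem F466718 : act 4 n212617 = n197682 := d5_2 D148129 D212617 F405335 F167932 F341452
theorem F466719 : act 5 n212617 = n200977 := d6_2 (iv5 F231942) D212617 (iv3 D200977)
theorem F466720 : act 6 n212617 = n197681 := d7_2 F404705 D212617 F405332
theorem F466721 : act 7 n212617 = n212387 := d8_2 (iv7 F231941) D212617 F465624
def n212618 : Q := act 6 n148132
theorem D212618 : act 6 n148132 = n212618 := rfl
theorem F466722 : act 2 n212618 = n212388 := d3_1 D212618 (iv6 D212388) (iv2 F231946)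
theorem F466723 : act 3 n212618 = n192973 := d7_1 D212618 F443108 (iv3 F443106)
theorem F466724 : act 4 n212618 = n148133 := d10_1 D212618 (iv6 D148133) D148132
theorem F466725 : act 0 n212618 = n207898 := d21_10 (iv5 D207898) (iv1 D132554) D132555 F212779 (iv1 F207370) (iv6 F418904) (iv5 D201053) F177077 (iv5 F231947) D212618
theorem F466726 : act 0 n207896 = n212618 := d20_1 F465777 F466724 F372747 (iv1 D188228) F140149 F66891 D91068 (iv4 F367223) D188610 (iv1 F465773)
theorem F466727 : act 7 n192971 = n212618 := d8_0 F466723 (iv7 D192973) D192971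
def n212619 : Q := act 0 n148133
theorem D212619 : act 0 n148133 = n212619 := rfl
theorem F466728 : act 2 n212438 = n212619 := d15_3 (iv0 D212619) (iv0 F428046) F465800
theorem F466729 : act 7 n212439 = n212619 := d15_2 (iv0 D212438) D212439 (iv2 F466728)
theorem F466730 : act 2 n203361 = n212439 := d4_3 F466729 (iv2 F466728) (iv7 F465800)
theorem F466731 : act 1 n197694 = n212619 := d15_1 (iv0 F428047) (iv7 F466729) (iv2 F466730)
def n212620 : Q := act 5 n148133
theorem D212620 : act 5 n148133 = n212620 := rfl
theorem F466732 : act 2 n212620 = n212440 := d2_1 D212620 (iv5 D212440) (iv2 F231949)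
theorem F466733 : act 3 n212620 = n192261 := d6_1 D212620 F386236 (iv3 F372747)
theorem F466734 : act 6 n212620 = n192260 := d12_2 D148133 D212620 F386233 (iv6 D117253) (iv5 F105687)
def n212621 : Q := act 7 n148133
theorem D212621 : act 7 n148133 = n212621 := rfl
theorem F466735 : act 2 n212621 = n197694 := d4_1 D212621 F405394 (iv2 F231949)
theorem F466736 : act 3 n212621 = n191988 := d8_1 D212621 F385106 (iv3 F372747)
theorem F466737 : act 4 n212621 = n192971 := d11_1 D212621 F466727 F466724
theorem F466738 : act 6 n212621 = n197693 := d14_1 D212621 F405389 (iv6 D146936) (iv7 F105686) D148133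
theorem F466739 : act 1 n212439 = n212621 := d15_1 D212439 (iv7 D212621) F231949
theorem F466740 : act 1 n212621 = n212438 := d15_1 F466739 (iv7 F465800) F466730
def n212622 : Q := act 3 n148135
theorem D212622 : act 3 n148135 = n212622 := rfl
theorem F466741 : act 5 n212622 = n148703 := d6_2 (iv5 F231957) D212622 (iv3 D148703)
theorem F466742 : act 7 n212622 = n212392 := d8_2 (iv7 F231956) D212622 F465640
theorem F466743 : act 0 n212622 = n206864 := d19_4 (iv1 F106109) D117245 (iv4 F231958) D212622 (iv5 F465357) (iv4 F465360) F446047 (iv1 F438971) (iv5 D206042) (iv4 D127092) F94041 F47266 F47263 F313730 (iv3 F105616) (iv1 F230119) F320608 (iv4 F363092) F363091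
def n212623 : Q := act 4 n148234
theorem D212623 : act 4 n148234 = n212623 := rfl
theorem F466744 : act 5 n212623 = n204938 := d9_2 D148234 D212623 F434257 (iv5 D140727) F322260 (iv5 D67289) (iv4 F103182) D143665 D211670 F462612 F358530 (iv5 D140725) F101715 F105790 D69491
theorem F466745 : act 6 n212623 = n188475 := d10_2 F370580 D212623 F373612
theorem F466746 : act 7 n212623 = n183090 := d11_2 F425373 D212623 (iv4 F425374)
theorem F466747 : act 0 n212623 = n211362 := d17_0 (iv5 D211362) (iv1 F394221) F394218 (iv4 F460214) (iv5 D211127) F223836 D140782 (iv0 F232065) D212623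
theorem F466748 : act 1 n212623 = n201327 := d18_6 F319131 F316767 F180375 D69491 D148234 D212623 (iv4 D201327) F324162 (iv5 D140803)
def n212624 : Q := act 6 n148243
theorem D212624 : act 6 n148243 = n212624 := rfl
theorem F466749 : act 2 n212624 = n173833 := d3_1 D212624 (iv6 F365998) (iv2 F232086)
theorem F466750 : act 4 n212624 = n148244 := d10_1 D212624 (iv6 D148244) D148243
def n212625 : Q := act 3 n148309
theorem D212625 : act 3 n148309 = n212625 := rfl
theorem F466751 : act 2 n212625 = n203638 := d0_1 D212625 F429185 (iv2 F444885) F444886 (iv2 F370392)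
theorem F466752 : act 4 n212625 = n148312 := d5_2 D148309 D212625 (iv3 D148312) (iv4 D69511) D69510
theorem F466753 : act 5 n212625 = n187505 := d6_2 F364343 D212625 F370620
theorem F466754 : act 6 n212625 = n203635 := d7_2 F364344 D212625 F429165
theorem F466755 : act 7 n212625 = n203802 := d8_2 F370395 D212625 F429882
theorem F466756 : act 0 n212625 = n189283 := d19_4 (iv1 F324852) (iv5 D148310) D148309 D212625 (iv5 D189283) F367432 (iv3 F367431) (iv1 D98380) D98381 (iv4 F384373) F195861 (iv1 F131694) (iv5 D85838) F60568 (iv3 F44996) (iv1 F116807) (iv5 D37256) D37255 D81563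
theorem F466757 : act 0 n189288 = n212625 := d20_4 (iv4 F382230) (iv1 F382232) (iv4 D189290) (iv3 F376336) (iv3 D212625) (iv4 D148309) (iv1 F346199) (iv4 F373873) F373871 F367228
def n212626 : Q := act 5 n148391
theorem D212626 : act 5 n148391 = n212626 := rfl
theorem F466758 : act 2 n212626 = n170646 := d2_1 D212626 (iv5 D170646) (iv2 F320001)
theorem F466759 : act 3 n212626 = n191363 := d6_1 D212626 (iv5 D191363) (iv3 F320002)
theorem F466760 : act 7 n212626 = n204082 := d13_2 (iv7 F320004) D212626 (iv5 D204082)
theorem F466761 : act 0 n212626 = n204087 := d17_2 (iv1 F320000) D212626 F431032 (iv4 F448432) F448428 (iv0 F439640) (iv5 F366435) D191423 (iv4 F383454)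
theorem F466762 : act 1 n212626 = n204086 := d17_6 F131031 F319984 (iv1 D69532) D69535 D148391 D212626 F431030 (iv0 F385411) F187494
def n212627 : Q := act 5 n148451
theorem D212627 : act 5 n148451 = n212627 := rfl
theorem F466763 : act 2 n212627 = n148452 := d2_1 D212627 (iv5 D148452) D148451
theorem F466764 : act 3 n212627 = n188187 := d6_1 D212627 (iv5 F374082) F374081
theorem F466765 : act 4 n212627 = n185764 := d9_1 D212627 F370397 F370396 F307872 F305909 F317819 (iv4 F184844) (iv5 F374226) F374225 (iv5 F370389) F370390 F359297 (iv4 F317809) (iv5 D148493) (iv4 F232199)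
theorem F466766 : act 6 n212627 = n186037 := d12_2 (iv6 F366731) D212627 (iv5 F415763) F415766 (iv5 D159593)
theorem F466767 : act 7 n212627 = n187507 := d13_2 F427223 D212627 (iv5 F427221)
theorem F466768 : act 0 n212627 = n195191 := d17_2 F373875 D212627 (iv5 D195191) F342994 F322655 (iv0 F185137) D190802 F381137 (iv4 F373873)
theorem F466769 : act 1 n212627 = n195819 := d17_6 D73863 (iv5 F343017) (iv1 F317807) (iv5 D148493) (iv4 F232199) D212627 (iv5 D195819) (iv0 D106308) F315372
def n212628 : Q := act 0 n148452
theorem D212628 : act 0 n148452 = n212628 := rfl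
theorem F466770 : act 5 n212628 = n188545 := d17_1 D212628 F373892 F163380 F144545 D93777 (iv0 F335778) F145391 (iv0 F291659) (iv4 F333334)
theorem F466771 : act 4 n212628 = n195191 := d18_1 D212628 F396179 F374225 (iv5 F370389) F370390 (iv0 F359299) (iv4 F366303) (iv0 D148449) D148452
theorem F466772 : act 3 n212628 = n185743 := d20_5 (iv4 F333332) (iv1 F349360) (iv4 D148456) (iv3 F232200) D212628 F288034 F371803 F371800 F157843 (iv1 F291705)
theorem F466773 : act 2 n195191 = n212628 := d15_3 (iv0 D212628) (iv0 F333333) (iv7 F396178)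
theorem F466774 : act 1 n187507 = n212628 := d15_0 (iv0 D212628) (iv7 F374227) F374223
theorem F466775 : act 7 n212628 = n195819 := d15_2 F370626 F466774 F398316
theorem F466776 : act 6 n185741 = n212628 := d14_5 F466775 F398318 F374546 (iv6 D188718) (iv7 F288017)
def n212629 : Q := act 2 n148484
theorem D212629 : act 2 n148484 = n212629 := rfl
theorem F466777 : act 3 n212629 = n149340 := d0_2 D148484 D212629 (iv2 F261562) (iv3 F317792) F317822
theorem F466778 : act 4 n212629 = n203148 := d1_2 (iv4 F233246) D212629 (iv2 F427170)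
theorem F466779 : act 5 n212629 = n206245 := d2_2 (iv5 F366565) D212629 (iv2 F439903)
theorem F466780 : act 6 n212629 = n149156 := d3_2 F429122 D212629 (iv2 F429120)
theorem F466781 : act 7 n212629 = n206187 := d4_2 (iv7 F424267) D212629 F439637
theorem F466782 : act 1 n212629 = n206188 := d15_0 (iv0 F439643) (iv7 F424267) D212629
theorem F466783 : act 1 n206191 = n212629 := d15_0 F466782 F439642 D206191
def n212630 : Q := act 5 n148517
theorem D212630 : act 5 n148517 = n212630 := rfl
theorem F466784 : act 3 n212630 = n148518 := d6_1 D212630 (iv5 D148518) D148517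
theorem F466785 : act 0 n212630 = n159727 := d17_2 F374092 D212630 (iv5 D159727) (iv4 D76414) D76415 D159729 (iv5 F376319) (iv0 D189282) (iv4 F368491)
theorem F466786 : act 1 n212630 = n159738 := d17_6 (iv1 F374117) F374115 (iv1 F372626) (iv5 F374089) F374091 D212630 (iv5 D159738) F251650 (iv4 F355774)
def n212631 : Q := act 0 n148522
theorem D212631 : act 0 n148522 = n212631 := rfl
theorem F466787 : act 4 n212631 = n203915 := d18_3 F419411 F366174 D212631 F430375 F326559 D173680 F347664 F347666 (iv5 F419410)
theorem F466788 : act 1 n204490 = n212631 := d15_0 (iv0 D212631) (iv7 F427050) (iv2 F432693)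
theorem F466789 : act 7 n212631 = n204353 := d15_2 (iv0 F449771) F466788 (iv2 F449768)
theorem F466790 : act 3 n193975 = n212631 := d8_3 F466789 F432176 (iv7 F432173)
def n212632 : Q := act 5 n148526
theorem D212632 : act 5 n148526 = n212632 := rfl
theorem F466791 : act 3 n212632 = n184509 := d6_1 D212632 (iv5 F449240) F449242
theorem F466792 : act 6 n212632 = n184504 := d12_2 (iv6 F356858) D212632 (iv5 D184504) D184505 (iv5 F349292)
theorem F466793 : act 0 n212632 = n155507 := d17_2 (iv1 F427199) D212632 (iv5 D155507) F110737 F317592 F215207 F320085 F184800 (iv4 F427196)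
theorem F466794 : act 1 n212632 = n160096 := d17_6 (iv1 D76662) D76663 F233101 (iv5 F243591) F356854 D212632 (iv5 D160096) (iv0 F319412) F319414
def n212633 : Q := act 6 n148528
theorem D212633 : act 6 n148528 = n212633 := rfl
theorem F466795 : act 3 n212633 = n148533 := d7_1 D212633 (iv6 D148533) (iv3 F233289)
theorem F466796 : act 4 n212633 = n191779 := d10_1 D212633 F424950 F424951
theorem F466797 : act 7 n212633 = n191777 := d14_2 F427203 D212633 (iv6 D191777) (iv7 F372541) F427206
theorem F466798 : act 0 n210704 = n212633 := d21_4 (iv5 F361418) (iv1 D139519) D139520 D210704 (iv6 D212633) (iv5 D148528) (iv1 F366426) D210873 F459098 F361421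
def n212634 : Q := act 0 n148532
theorem D212634 : act 0 n148532 = n212634 := rfl
theorem F466799 : act 5 n212634 = n203637 := d17_1 D212634 (iv1 D203637) F339229 F355586 (iv5 D155454) F331647 D123846 F331650 D148532
theorem F466800 : act 4 n212634 = n203643 := d18_1 D212634 F429212 (iv4 D201697) (iv5 D114997) (iv4 F179066) F335510 (iv4 F309749) F186265 (iv5 F339334)
theorem F466801 : act 1 n201534 = n212634 := d15_0 (iv0 D212634) F339335 (iv2 F420881)
theorem F466802 : act 7 n201497 = n212634 := d11_0 F466800 F429211 (iv4 F420721)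
theorem F466803 : act 3 n201709 = n212634 := d20_5 D201673 F421337 (iv4 D115017) (iv3 F179096) D201709 F466800 F429212 (iv4 D201697) F179071 (iv1 F179025)
def n212635 : Q := act 1 n148532
theorem D212635 : act 1 n148532 = n212635 := rfl
theorem F466804 : act 1 n212635 = n201534 := d15_1 D212635 F420883 (iv2 F339336)
theorem F466805 : act 5 n212635 = n201514 := d17_7 D119850 (iv5 F233305) (iv1 F427191) F427187 F339356 (iv5 F339334) D212635 F420806 (iv4 D119852)
theorem F466806 : act 4 n212635 = n203644 := d17_9 F465441 (iv5 D212352) (iv1 D146791) D146792 F355592 F239298 F186265 (iv5 F339334) D212635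
theorem F466807 : act 3 n157733 = n212635 := d19_19 (iv1 D212635) F339334 (iv4 F339356) (iv3 F425349) (iv1 F425353) (iv5 D119667) (iv4 F106347) (iv3 D69916) (iv1 D32466) D32467 (iv4 F75351) F75350 D47985 D103602 F350559 F78328 (iv1 F104348) D107269 F339970
theorem F466808 : act 6 n157732 = n212635 := d21_3 (iv5 F420473) (iv1 F338611) F325991 (iv1 D212635) (iv6 F339337) (iv5 D133448) D133446 (iv5 F418952) F418953 (iv1 F420471)
theorem F466809 : act 2 n212635 = n201497 := d3_1 F466808 (iv6 D201497) F360660
def n212636 : Q := act 5 n148533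
theorem D212636 : act 5 n148533 = n212636 := rfl
theorem F466810 : act 2 n212636 = n193672 := d2_1 D212636 (iv5 F443973) F443971
theorem F466811 : act 4 n212636 = n193667 := d9_1 D212636 (iv5 D193667) F328967 (iv5 F99121) (iv4 F209222) F218054 (iv4 F451812) (iv5 F451814) (iv4 D136445) (iv5 D64144) F48614 (iv5 F47574) (iv4 F97689) D133448 (iv4 F339350)
theorem F466812 : act 6 n212636 = n148536 := d12_2 D148533 D212636 (iv5 D148536) (iv6 D69609) D69608
theorem F466813 : act 7 n212636 = n209147 := d13_2 F444672 D212636 F452454
theorem F466814 : act 0 n212636 = n209416 := d17_2 F339351 D212636 F453607 (iv4 F447572) (iv5 D208040) (iv0 F214095) D133464 F214630 D135567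
theorem F466815 : act 1 n212636 = n209415 := d17_8 F352702 (iv5 F352700) (iv1 D135576) D135578 D209018 F451866 (iv0 F428384) D212636 F453606
def n212637 : Q := act 6 n148534
theorem D212637 : act 6 n148534 = n212637 := rfl
theorem F466816 : act 2 n212637 = n188576 := d3_1 D212637 F462499 (iv2 F462501)
theorem F466817 : act 3 n212637 = n199291 := d7_1 D212637 F411505 F369018
theorem F466818 : act 4 n212637 = n190575 := d10_1 D212637 (iv6 F431200) F431199
theorem F466819 : act 5 n212637 = n204504 := d21_6 (iv5 F233292) (iv1 D148531) (iv5 D69608) D69609 D148534 D212637 (iv1 F465796) (iv5 D212437) F230295 (iv1 F189202)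
theorem F466820 : act 0 n204329 = n212637 := d21_4 (iv5 F331639) (iv1 F210276) F356861 D204329 (iv6 D212637) (iv5 F426191) (iv1 F426194) F368869 (iv6 F356542) (iv1 F331630)
def n212638 : Q := act 4 n148536
theorem D212638 : act 4 n148536 = n212638 := rfl
theorem F466821 : act 2 n212638 = n185992 := d1_1 D212638 (iv4 F432486) F432489
theorem F466822 : act 5 n212638 = n150138 := d9_2 D148536 D212638 (iv4 D150138) D150139 (iv4 F339709) F184117 (iv4 F250273) (iv5 F368838) (iv4 D187013) (iv5 D89471) F335688 (iv5 F345989) (iv4 D148546) (iv5 D69615) (iv4 F105889)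
theorem F466823 : act 6 n212638 = n193667 := d10_2 F466812 D212638 (iv4 F466811)
theorem F466824 : act 7 n212638 = n186790 := d11_2 F432492 D212638 (iv4 F432496)
theorem F466825 : act 0 n212638 = n187012 := d17_0 (iv5 F368836) (iv1 D91130) D91131 D188271 F372918 F356482 (iv5 F432500) F432502 D212638
theorem F466826 : act 1 n212638 = n187011 := d18_8 (iv1 F372882) F372878 F289909 F289896 (iv5 F362133) (iv4 F432499) F432502 D212638 F368835
theorem F466827 : act 3 n186748 = n212638 := d19_19 F466825 (iv5 F368836) F344228 (iv3 F155768) (iv1 F373441) F373438 (iv4 F383407) (iv3 F383409) (iv1 F240583) (iv5 F348693) F313110 (iv3 F304217) (iv1 D128238) D128240 (iv4 F389887) F389886 (iv1 F385552) F385554 F368816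
def n212639 : Q := act 5 n148538
theorem D212639 : act 5 n148538 = n212639 := rfl
theorem F466828 : act 2 n212639 = n152736 := d2_1 D212639 (iv5 D152736) (iv2 F233296)
theorem F466829 : act 3 n212639 = n211955 := d6_1 D212639 (iv5 D211955) (iv3 F366562)
theorem F466830 : act 4 n212639 = n201514 := d9_1 D212639 (iv5 F466805) F466806 (iv5 D203644) (iv4 D119861) (iv5 F188609) D148539 (iv5 F419678) (iv4 F429178) (iv5 F466799) F466800 (iv5 D203643) (iv4 D119858) (iv5 F188613) D148538
theorem F466831 : act 6 n212639 = n200458 := d12_2 (iv6 F233297) D212639 F416511 F347110 (iv5 D152319)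
theorem F466832 : act 7 n212639 = n173478 := d13_2 F244497 D212639 (iv5 F339364)
theorem F466833 : act 1 n212639 = n173481 := d17_6 (iv1 F130735) D26657 D55162 (iv5 F188613) D148538 D212639 F271940 F310718 F86213
theorem F466834 : act 0 n212639 = n173443 := d21_1 D212639 (iv5 D173443) (iv6 D82992) (iv1 F59059) D47264 D101604 F308158 (iv5 D164556) D164557 (iv1 F259386)
def n212640 : Q := act 3 n148539
theorem D212640 : act 3 n148539 = n212640 := rfl
theorem F466835 : act 4 n212640 = n207998 := d5_2 D148539 D212640 F447353 F439558 (iv3 F231550)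
theorem F466836 : act 5 n212640 = n174313 := d6_2 F419678 D212640 F429179
theorem F466837 : act 6 n212640 = n207997 := d7_2 F461752 D212640 (iv3 F461750)
theorem F466838 : act 7 n212640 = n152731 := d8_2 (iv7 F233298) D212640 F239936
theorem F466839 : act 0 n212640 = n207999 := d20_4 (iv4 D203152) F184786 D148539 D212640 F447359 (iv4 F392799) F392800 (iv4 F392661) F392659 (iv1 F427191)
theorem F466840 : act 0 n167116 = n212640 := d20_4 F123006 (iv1 F125675) (iv4 F123254) (iv3 F263215) (iv3 D212640) (iv4 D148539) (iv1 D69611) D69612 (iv3 F116131) F302391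
def n212641 : Q := act 3 n148544
theorem D212641 : act 3 n148544 = n212641 := rfl
theorem F466841 : act 2 n212641 = n193962 := d0_1 D212641 (iv3 F430576) F430575 (iv3 F426231) F426230
theorem F466842 : act 4 n212641 = n190629 := d5_2 D148544 D212641 F380377 F360232 F230043
theorem F466843 : act 6 n212641 = n190628 := d7_2 (iv6 F349473) D212641 F380371
theorem F466844 : act 7 n212641 = n187090 := d8_2 F426466 D212641 F426474
theorem F466845 : act 0 n212641 = n187070 := d20_4 F250273 (iv1 F130922) D148544 D212641 (iv3 D187070) (iv4 D89518) D89516 D187068 F369018 (iv1 F250276)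
theorem F466846 : act 0 n211610 = n212641 := d20_4 F103153 (iv1 F103103) D143388 D211610 (iv3 D212641) (iv4 D148544) (iv1 D69614) (iv4 F105889) (iv3 F317789) (iv1 F321592)
def n212642 : Q := act 5 n148544
theorem D212642 : act 5 n148544 = n212642 := rfl
theorem F466847 : act 2 n212642 = n186793 := d2_1 D212642 (iv5 F426234) F426230
theorem F466848 : act 4 n212642 = n153539 := d9_1 D212642 (iv5 D153539) F109134 F314946 (iv4 D68756) D68757 D146690 D212326 F465330 F368034 F337239 D89397 (iv4 F337247) (iv5 F183506) D148544
theorem F466849 : act 1 n212642 = n185370 := d17_6 (iv1 F183462) F183458 (iv1 F183504) (iv5 F183506) D148544 D212642 F426208 (iv0 D202923) (iv4 D117263)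
theorem F466850 : act 6 n153546 = n212642 := d10_0 F466848 F241329 D153546
def n212643 : Q := act 0 n148594
theorem D212643 : act 0 n148594 = n212643 := rfl
theorem F466851 : act 5 n212643 = n195595 := d17_3 F237578 D148594 D212643 F397513 F393524 F180766 (iv5 F223188) F341092 (iv4 F184398)
theorem F466852 : act 3 n212643 = n195796 := d20_5 (iv4 F419223) (iv1 F419225) (iv4 D195777) (iv3 F366677) D212643 (iv4 F398220) (iv1 D135850) F99349 (iv3 F99340) D135842
theorem F466853 : act 2 n212272 = n212643 := d15_3 (iv0 D212643) (iv0 F360953) D212272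
theorem F466854 : act 1 n208987 = n212643 := d15_0 (iv0 D212643) (iv7 F427241) (iv2 F451713)
theorem F466855 : act 7 n212643 = n195572 := d15_2 (iv0 F451717) F466854 F397401
theorem F466856 : act 6 n212320 = n212643 := d14_5 F466855 (iv6 D195572) F162403 D146636 D212320
def n212644 : Q := act 4 n148659
theorem D212644 : act 4 n148659 = n212644 := rfl
theorem F466857 : act 3 n212644 = n210463 := d5_1 D212644 F457647 F228723 (iv4 F318625) D148659
theorem F466858 : act 6 n212644 = n203641 := d10_2 (iv6 F366114) D212644 (iv4 D203641)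
def n212645 : Q := act 4 n148665
theorem D212645 : act 4 n148665 = n212645 := rfl
def n212646 : Q := act 5 n148670
theorem D212646 : act 5 n148670 = n212646 := rfl
theorem F466859 : act 2 n212646 = n155856 := d2_1 D212646 (iv5 D155856) (iv2 F353027)
theorem F466860 : act 6 n212646 = n212100 := d12_2 F456394 D212646 (iv5 D212100) (iv6 F456402) F456401
theorem F466861 : act 7 n212646 = n155836 := d13_2 (iv7 F353028) D212646 (iv5 D155836)
def n212647 : Q := act 3 n148698
theorem D212647 : act 3 n148698 = n212647 := rfl
theorem F466862 : act 2 n212647 = n205769 := d0_1 D212647 F437800 F211781 (iv3 F363917) (iv2 F233453)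
theorem F466863 : act 4 n212647 = n148732 := d5_2 D148698 D212647 (iv3 D148732) (iv4 D69705) (iv3 F106040)
theorem F466864 : act 6 n212647 = n148703 := d7_2 (iv6 F233454) D212647 (iv3 D148703)
theorem F466865 : act 0 n212647 = n205608 := d20_4 (iv4 F95783) F355263 D148698 D212647 F437203 D208316 F448891 F442534 (iv3 D206893) (iv1 D129452)
theorem F466866 : act 0 n207915 = n212622 := d21_1 (iv5 F465369) F466741 (iv6 F466864) F466865 F442356 F465459 (iv1 D212356) F335969 D212255 (iv1 F465364)
theorem F466867 : act 1 n212647 = n205606 := d15_1 (iv0 F466865) (iv7 F437542) F437541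
def n212648 : Q := act 0 n148703
theorem D212648 : act 0 n148703 = n212648 := rfl
theorem F466868 : act 4 n212648 = n207837 := d18_1 D212648 F446653 (iv4 F441908) (iv5 F443035) F443034 (iv0 F458483) F458481 (iv0 F466743) F466741
theorem F466869 : act 3 n212648 = n208325 := d20_5 F207374 (iv1 F327582) D69691 D148703 D212648 F448922 F411285 (iv4 F411283) (iv3 D146860) (iv1 F327586)
theorem F466870 : act 1 n212391 = n212648 := d15_0 (iv0 D212648) F233470 D212391
theorem F466871 : act 7 n212389 = n212648 := d8_0 F466869 (iv7 F453007) (iv3 F465628)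
theorem F466872 : act 2 n212390 = n212648 := d1_3 F466868 (iv2 F446655) (iv4 F465631)
def n212649 : Q := act 1 n148703
theorem D212649 : act 1 n148703 = n212649 := rfl
theorem F466873 : act 7 n212649 = n212390 := d15_2 (iv0 D212648) D212649 F466872
theorem F466874 : act 4 n212649 = n206831 := d17_9 F442342 (iv5 F437662) (iv1 F437664) D207697 F465360 F465357 (iv0 F466743) F466741 D212649
theorem F466875 : act 2 n212389 = n212649 := d1_3 F466874 F442981 (iv4 F465629)
theorem F466876 : act 6 n205660 = n212649 := d10_0 F466874 (iv6 D206831) (iv4 F437374)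
theorem F466877 : act 0 n212391 = n212649 := d18_2 (iv1 F437821) (iv4 F465636) F466874 (iv5 F465477) (iv4 D212359) F362733 (iv4 F452449) F465456 F465453
def n212650 : Q := act 2 n148703
theorem D212650 : act 2 n148703 = n212650 := rfl
theorem F466878 : act 3 n212650 = n206850 := d0_2 D148703 D212650 F442403 (iv3 D146875) (iv2 F106055)
theorem F466879 : act 4 n212650 = n148764 := d1_2 (iv4 F233469) D212650 (iv2 D148764)
theorem F466880 : act 6 n212650 = n205769 := d3_2 F466864 D212650 (iv2 F466862)
theorem F466881 : act 7 n212650 = n212391 := d4_2 (iv7 F233470) D212650 (iv2 D212391)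
theorem F466882 : act 1 n212650 = n212389 := d15_0 (iv0 D212389) (iv7 F233470) D212650
theorem F466883 : act 1 n212390 = n212650 := d15_0 F466882 F466871 (iv2 F466872)
def n212651 : Q := act 7 n148720
theorem D212651 : act 7 n148720 = n212651 := rfl
theorem F466884 : act 2 n212651 = n175684 := d4_1 D212651 F275063 (iv2 F326558)
theorem F466885 : act 3 n212651 = n148723 := d8_1 D212651 (iv7 D148723) (iv3 F233488)
theorem F466886 : act 4 n212651 = n173594 := d11_1 D212651 F272044 (iv4 F326559)
theorem F466887 : act 5 n212651 = n201579 := d13_1 D212651 (iv7 F430376) F430375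
theorem F466888 : act 6 n212651 = n173593 := d14_1 D212651 (iv7 D173593) F127943 (iv7 F325729) D148720
theorem F466889 : act 1 n176082 = n212651 := d15_1 D176082 (iv7 D212651) F326558
theorem F466890 : act 1 n212651 = n170522 := d15_1 F466889 (iv7 F421023) F421021
def n212652 : Q := act 6 n148725
theorem D212652 : act 6 n148725 = n212652 := rfl
theorem F466891 : act 2 n212652 = n206718 := d3_1 D212652 (iv6 D206718) F327308
theorem F466892 : act 3 n212652 = n208695 := d7_1 D212652 (iv6 D208695) F362912
theorem F466893 : act 4 n212652 = n148726 := d10_1 D212652 (iv6 D148726) D148725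
theorem F466894 : act 5 n212652 = n199492 := d12_1 D212652 (iv6 F464335) F464337 (iv6 F417401) F399508
def n212653 : Q := act 7 n148729
theorem D212653 : act 7 n148729 = n212653 := rfl
theorem F466895 : act 3 n212653 = n187790 := d8_1 D212653 F371512 F366005
theorem F466896 : act 5 n212653 = n201625 := d13_1 D212653 (iv7 D201625) (iv5 F233502)
theorem F466897 : act 6 n212653 = n201374 := d14_1 D212653 F420234 F237977 F177842 D148729
theorem F466898 : act 1 n187780 = n212653 := d15_1 (iv0 F371469) (iv7 D212653) (iv2 F251500)
def n212654 : Q := act 0 n148736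
theorem D212654 : act 0 n148736 = n212654 := rfl
theorem F466899 : act 5 n212654 = n206041 := d17_1 D212654 F442036 (iv5 F446614) (iv4 F450496) F450497 (iv0 D202389) D202391 F423852 F395934
theorem F466900 : act 4 n212654 = n210219 := d20_2 F395934 D212654 F456629 F365744 (iv3 F329478) (iv4 F329880) F102091 D66292 D141318 F395936
theorem F466901 : act 1 n207828 = n212654 := d15_0 (iv0 D212654) (iv7 F251352) (iv2 F446615)
theorem F466902 : act 6 n210218 = n212654 := d21_3 F450480 D210649 F458332 (iv1 F466901) F446617 F442030 F439283 (iv5 F465604) (iv6 D212382) (iv1 F450482)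
theorem F466903 : act 3 n212654 = n206042 := d7_1 F466902 (iv6 F465579) F465577
theorem F466904 : act 7 n210248 = n212654 := d8_0 F466903 (iv7 F442531) (iv3 F456733)
def n212655 : Q := act 1 n148736
theorem D212655 : act 1 n148736 = n212655 := rfl
theorem F466905 : act 1 n212655 = n207828 := d15_1 D212655 F446618 F442555
theorem F466906 : act 3 n209059 = n212655 := d20_3 F465454 (iv1 F418360) (iv4 F452054) (iv1 D212655) (iv3 D148736) (iv4 D69707) (iv1 F82915) D113733 F335968 D212355
theorem F466907 : act 2 n212655 = n210248 := d0_1 F466906 F456733 F446051 (iv3 F454807) F452432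
theorem F466908 : act 6 n212655 = n209057 := d7_2 D209059 F466906 (iv3 D209057)
theorem F466909 : act 4 n210247 = n212655 := d1_0 F466907 (iv4 D210248) D210247
theorem F466910 : act 1 n200815 = n210247 := d17_8 (iv1 D212655) (iv5 F325510) F347268 D132411 D207829 (iv5 F460460) F460462 (iv5 F418031) F466909
def n212656 : Q := act 6 n148736
theorem D212656 : act 6 n148736 = n212656 := rfl
theorem F466911 : act 3 n212656 = n148737 := d7_1 D212656 (iv6 D148737) D148736
theorem F466912 : act 5 n212656 = n207033 := d12_1 D212656 (iv6 D207033) (iv5 F209664) D132230 F325510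
def n212657 : Q := act 1 n148737
theorem D212657 : act 1 n148737 = n212657 := rfl
theorem F466913 : act 7 n212657 = n201788 := d15_2 (iv0 F453322) D212657 (iv2 F453318)
theorem F466914 : act 4 n159856 = n212657 := d20_0 (iv1 D212657) F233509 (iv3 F161514) F363820 F99300 (iv4 F93600) F168315 F99107 D135561 F328381
theorem F466915 : act 2 n212657 = n200928 := d1_1 F466914 (iv4 D200928) F395853
theorem F466916 : act 5 n212657 = n201789 := d18_4 F445779 (iv4 F217988) F328381 F466914 F421807 F250885 F441852 (iv0 F441854) (iv5 F445777)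
def n212658 : Q := act 5 n148737
theorem D212658 : act 5 n148737 = n212658 := rfl
theorem F466917 : act 3 n212658 = n207033 := d6_1 D212658 (iv5 F466912) F466911
theorem F466918 : act 6 n212658 = n201818 := d12_2 D148737 D212658 F421893 F322891 F106082
theorem F466919 : act 4 n212658 = n201820 := d16_2 (iv4 F233509) D212658 F421906 F466914 F466916 F421807 (iv5 F251346) (iv7 D159580) F114456
theorem F466920 : act 1 n212658 = n201622 := d17_8 D201623 F421173 (iv1 D148739) (iv5 F114209) (iv4 F250880) (iv5 F453321) (iv0 F453322) D212658 F421171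
theorem F466921 : act 0 n212658 = n201635 := d18_0 (iv4 F421550) (iv1 F421552) (iv4 F446973) (iv5 D207913) (iv4 F217988) F328382 (iv4 F453320) (iv0 F453322) D212658
def n212659 : Q := act 7 n148737
theorem D212659 : act 7 n148737 = n212659 := rfl
theorem F466922 : act 4 n212659 = n148740 := d11_1 D212659 (iv7 D148740) (iv4 F233509)
theorem F466923 : act 1 n200928 = n212659 := d15_1 (iv0 F421802) (iv7 D212659) (iv2 F251341)
theorem F466924 : act 1 n212659 = n201788 := d15_1 F466923 (iv7 F466913) F466915
def n212660 : Q := act 4 n148739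
theorem D212660 : act 4 n148739 = n212660 := rfl
theorem F466925 : act 2 n212660 = n207911 := d1_1 D212660 F446962 (iv2 F364723)
theorem F466926 : act 5 n212660 = n209330 := d9_2 F421173 D212660 F453265 F398571 F217988 D207913 F446973 (iv5 F421174) (iv4 F396516) F396517 F179171 (iv5 F114708) (iv4 F252006) (iv5 F442412) F442411
theorem F466927 : act 6 n212660 = n209332 := d10_2 F452019 D212660 F453276
theorem F466928 : act 7 n212660 = n207633 := d11_2 (iv7 F364721) D212660 F445776
theorem F466929 : act 1 n212660 = n207912 := d18_6 (iv1 D201676) (iv4 F421341) F442413 F442411 F421173 D212660 F446968 F252014 F421342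
theorem F466930 : act 0 n212660 = n148772 := d20_1 D212660 F233574 F327998 (iv1 D63544) (iv3 F97185) F97186 D62326 D132801 (iv3 F363186) (iv1 F251349)
theorem F466931 : act 3 n209335 = n212660 := d7_3 F466927 F453273 (iv6 F453291)
def n212661 : Q := act 1 n148742
theorem D212661 : act 1 n148742 = n212661 := rfl
theorem F466932 : act 1 n212661 = n205897 := d15_1 D212661 F442035 F442033
theorem F466933 : act 4 n212661 = n206043 := d17_9 (iv1 F438976) (iv5 D202307) F224449 (iv5 F324737) (iv4 F96845) D132411 (iv0 F362141) F233521 D212661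
theorem F466934 : act 2 n206041 = n212661 := d1_3 F466933 (iv2 D206043) (iv4 F438966)
def n212662 : Q := act 0 n148743
theorem D212662 : act 0 n148743 = n212662 := rfl
theorem F466935 : act 4 n212662 = n159860 := d18_3 (iv1 D148745) (iv4 F233518) D212662 (iv5 F415875) F415874 F392396 (iv4 F396241) (iv0 F396239) F233519
theorem F466936 : act 3 n212662 = n206646 := d20_5 F437859 F359606 (iv4 F437255) (iv3 F437257) D212662 (iv4 D206646) F409955 (iv4 F443173) F443171 F437862
theorem F466937 : act 6 n212662 = n187640 := d21_5 F114445 (iv1 F106076) F106075 D148743 D212662 F442727 (iv1 F442728) F374828 (iv6 D148748) (iv1 F114447)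
theorem F466938 : act 5 n212662 = n207809 := d21_8 F343600 D132390 F212430 D206953 (iv1 F442728) D206973 F442793 D212662 (iv6 D207809) (iv1 F343597)
theorem F466939 : act 2 n200970 = n212662 := d15_3 (iv0 D212662) (iv0 F439332) F439331
theorem F466940 : act 0 n209352 = n206973 := d21_10 F442793 D212662 F466938 (iv6 D207809) (iv1 F343597) (iv6 F398200) F398201 (iv1 F251157) D201727 (iv6 F453365)
theorem F466941 : act 1 n209352 = n207057 := d15_1 (iv0 F466940) (iv7 F453352) F453356
theorem F466942 : act 1 n207872 = n206973 := d15_0 (iv0 F466940) (iv7 D209352) (iv2 F446827)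
theorem F466943 : act 1 n207057 = n207872 := d15_0 F466942 (iv7 F442794) D207057
def n212663 : Q := act 7 n148748
theorem D212663 : act 7 n148748 = n212663 := rfl
theorem F466944 : act 2 n212663 = n185869 := d4_1 D212663 F288325 (iv2 F233523)
theorem F466945 : act 3 n212663 = n205639 := d8_1 D212663 F437302 (iv3 F374825)
theorem F466946 : act 4 n212663 = n148751 := d11_1 D212663 (iv7 D148751) (iv4 F233524)
theorem F466947 : act 5 n212663 = n205638 := d13_1 D212663 F437298 F374828
theorem F466948 : act 6 n212663 = n201034 := d14_1 D212663 (iv7 D201034) F177016 (iv7 F106074) D148748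
theorem F466949 : act 1 n187783 = n212663 := d15_1 D187783 (iv7 D212663) F233523
theorem F466950 : act 1 n212663 = n187782 := d15_1 F466949 (iv7 F371475) F371478
def n212664 : Q := act 4 n148749
theorem D212664 : act 4 n148749 = n212664 := rfl
theorem F466951 : act 2 n212664 = n187648 := d1_1 D212664 F371102 F283562
theorem F466952 : act 7 n212664 = n187649 := d11_2 (iv7 F283561) D212664 F371105
theorem F466953 : act 0 n212664 = n187652 := d18_2 D148749 D212664 F371109 F139172 (iv4 F75444) (iv0 F159057) F159055 F135563 (iv5 F106078)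
theorem F466954 : act 1 n212664 = n148759 := d18_6 F373837 F373833 (iv1 F369695) (iv4 F377336) F377335 D212664 F233554 F204788 F204785
def n212665 : Q := act 4 n148750
theorem D212665 : act 4 n148750 = n212665 := rfl
theorem F466955 : act 2 n212665 = n187649 := d1_1 D212665 F371105 (iv2 F283559)
theorem F466956 : act 7 n212665 = n187648 := d11_2 F283560 D212665 F371102
theorem F466957 : act 0 n212665 = n148759 := d18_2 (iv1 F233525) D212665 F233554 F114428 (iv4 F75441) D103670 (iv4 F159097) (iv0 D88524) D88527
theorem F466958 : act 1 n212665 = n187652 := d18_6 (iv1 D187146) (iv4 F350464) F353183 F149908 F233526 D212665 F371109 F251306 (iv5 F369983)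
def n212666 : Q := act 6 n148750
theorem D212666 : act 6 n148750 = n212666 := rfl
theorem F466959 : act 2 n212666 = n187781 := d3_1 D212666 (iv6 D187781) (iv2 F283559)
theorem F466960 : act 3 n212666 = n201526 := d7_1 D212666 (iv6 F447430) (iv3 F447434)
theorem F466961 : act 5 n212666 = n189291 := d12_1 D212666 (iv6 D189291) (iv5 D93854) D93855 F233526
theorem F466962 : act 0 n212666 = n195222 := d21_10 (iv5 D195222) F340923 D193733 (iv6 F418714) (iv1 F418715) F370735 (iv5 F145468) (iv1 F288031) F233526 D212666
def n212667 : Q := act 5 n148759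
theorem D212667 : act 5 n148759 = n212667 := rfl
theorem F466963 : act 2 n212667 = n187651 := d2_1 D212667 (iv5 D187651) (iv2 F233553)
theorem F466964 : act 3 n212667 = n205668 := d6_1 D212667 F437406 F365667
theorem F466965 : act 7 n212667 = n207661 := d13_2 (iv7 F365668) D212667 (iv5 D207661)
theorem F466966 : act 4 n212667 = n193364 := d16_2 (iv4 F233554) D212667 (iv5 F393465) F393464 F159115 F75444 (iv5 F139172) (iv7 D90425) (iv2 F114426)
theorem F466967 : act 0 n212667 = n205679 := d17_2 F466957 D212667 (iv5 D205679) F363814 (iv5 D185868) F135563 (iv5 F106078) D148750 D212665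
theorem F466968 : act 0 n205779 = n212667 := d18_2 F441333 (iv4 F437842) F466966 (iv5 F393465) F393464 F393410 (iv4 F394532) F394530 (iv5 F441331)
def n212668 : Q := act 2 n148762
theorem D212668 : act 2 n148762 = n212668 := rfl
theorem F466969 : act 7 n148763 = n212668 := d15_2 (iv0 D148762) D148763 (iv2 D212668)
theorem F466970 : act 3 n212668 = n208692 := d8_1 F466969 (iv7 F450472) F448892
theorem F466971 : act 0 n212668 = n148766 := d20_4 F418827 D211571 F462186 (iv3 F466970) F233565 F106095 (iv1 F51388) D52528 D113770 D201035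
theorem F466972 : act 1 n212668 = n148764 := d15_1 (iv0 F466971) F437819 F437817
def n212669 : Q := act 3 n148762
theorem D212669 : act 3 n148762 = n212669 := rfl
theorem F466973 : act 2 n212669 = n195691 := d0_1 D212669 (iv3 F442836) F450471 (iv3 F466970) (iv2 D212668)
theorem F466974 : act 0 n212669 = n208952 := d20_4 (iv4 F207600) D206841 F443069 D212669 F451535 F329380 (iv1 F219059) (iv4 F437599) F437618 (iv1 D205723)
theorem F466975 : act 4 n212669 = n195685 := d20_6 (iv4 D69716) (iv1 D32359) D32360 D69720 D148762 D212669 F397853 (iv4 F251332) F251331 (iv1 F114446)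
theorem F466976 : act 7 n195700 = n212669 := d11_0 F466975 F397852 D195700
def n212670 : Q := act 6 n148762
theorem D212670 : act 6 n148762 = n212670 := rfl
theorem F466977 : act 4 n212670 = n207721 := d10_1 D212670 (iv6 F446155) F443069
theorem F466978 : act 5 n212670 = n205782 := d12_1 D212670 F437854 (iv5 F437481) (iv6 F465455) F465453
def n212671 : Q := act 7 n148762
theorem D212671 : act 7 n148762 = n212671 := rfl
theorem F466979 : act 2 n212671 = n148763 := d4_1 D212671 F466969 (iv2 D212668)
theorem F466980 : act 3 n212671 = n195700 := d8_1 D212671 F466976 (iv3 D212669)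
theorem F466981 : act 4 n212671 = n205715 := d11_1 D212671 (iv7 F443068) F443069
theorem F466982 : act 1 n148764 = n212671 := d15_1 F466972 (iv7 D212671) D212668
theorem F466983 : act 1 n212671 = n148766 := d15_1 F466982 (iv7 D148766) D148764
theorem F466984 : act 6 n205714 = n212671 := d10_0 F466981 (iv6 D205715) D205714
def n212672 : Q := act 0 n148767
theorem D212672 : act 0 n148767 = n212672 := rfl
theorem F466985 : act 5 n212672 = n209331 := d17_3 F443174 F437415 D212672 F453270 (iv5 D206644) F207313 D206655 (iv0 F441762) (iv4 F443173)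
theorem F466986 : act 4 n212672 = n195663 := d20_8 F444024 (iv1 F367647) (iv4 F463899) F463898 (iv1 D146449) (iv3 F114503) (iv4 F233568) D212672 F465600 (iv1 F465597)
theorem F466987 : act 2 n198886 = n212672 := d15_3 (iv0 D212672) (iv0 F399940) (iv7 F409752)
theorem F466988 : act 1 n206676 = n212672 := d15_0 (iv0 D212672) (iv7 F437717) (iv2 F441839)
theorem F466989 : act 7 n212672 = n206747 := d15_2 F441844 F466988 (iv2 D206747)
theorem F466990 : act 3 n206750 = n212672 := d8_3 F466989 F442037 (iv7 F442050)
theorem F466991 : act 6 n195662 = n212672 := d10_0 F466986 (iv6 D195663) D195662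
def n212673 : Q := act 4 n148769
theorem D212673 : act 4 n148769 = n212673 := rfl
theorem F466992 : act 2 n212673 = n206731 := d1_1 D212673 (iv4 F441995) F444288
theorem F466993 : act 1 n212673 = n159571 := d18_6 F449734 (iv4 F417768) F417769 D206651 F441741 D212673 F251334 D196216 (iv5 F449731)
def n212674 : Q := act 4 n148770
theorem D212674 : act 4 n148770 = n212674 := rfl
theorem F466994 : act 3 n212674 = n205462 := d5_1 D212674 F436550 (iv3 D130813) D130814 F365181
theorem F466995 : act 6 n212674 = n206738 := d10_2 F447644 D212674 (iv4 F447643)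
theorem F466996 : act 7 n212674 = n206731 := d11_2 (iv7 F444287) D212674 (iv4 F441995)
theorem F466997 : act 0 n212674 = n159571 := d18_2 (iv1 F251520) D212674 F251334 (iv5 D106766) F78008 D61993 (iv4 F341792) F171501 (iv5 F251518)
def n212675 : Q := act 5 n148772
theorem D212675 : act 5 n148772 = n212675 := rfl
theorem F466998 : act 2 n212675 = n206851 := d2_1 D212675 F442412 F252005
theorem F466999 : act 3 n212675 = n207870 := d6_1 D212675 (iv5 D207870) F347262
theorem F467000 : act 6 n212675 = n201752 := d12_2 D148772 D212675 F421676 F326596 (iv5 F106099)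
theorem F467001 : act 7 n212675 = n207913 := d13_2 (iv7 F347263) D212675 (iv5 D207913)
theorem F467002 : act 4 n212675 = n201718 := d16_2 (iv4 F233574) D212675 F421535 (iv4 F446962) F446961 F421836 (iv5 F252010) (iv7 D159857) F114707
theorem F467003 : act 1 n201675 = n207913 := d15_1 (iv0 F442413) (iv7 F467001) F466998
def n212676 : Q := act 5 n148778
theorem D212676 : act 5 n148778 = n212676 := rfl
theorem F467004 : act 2 n212676 = n207945 := d2_1 D212676 (iv5 D207945) F365590
theorem F467005 : act 3 n212676 = n208402 := d6_1 D212676 (iv5 F449205) F446668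
theorem F467006 : act 6 n212676 = n212667 := d12_2 D148778 D212676 (iv5 D212667) (iv6 D148759) (iv5 F106101)
theorem F467007 : act 1 n212676 = n183411 := d17_6 F418684 F418683 (iv1 D130600) (iv5 F106102) (iv4 F233581) D212676 (iv5 F442401) (iv0 F442402) F414962
theorem F467008 : act 1 n207987 = n212676 := d15_0 F467007 F400088 (iv2 F447292)
def n212677 : Q := act 4 n148780
theorem D212677 : act 4 n148780 = n212677 := rfl
theorem F467009 : act 2 n212677 = n206119 := d1_1 D212677 (iv4 D206119) F331445
theorem F467010 : act 6 n212677 = n207937 := d10_2 F358368 D212677 F447070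
theorem F467011 : act 7 n212677 = n212662 := d11_2 F252030 D212677 F466935
theorem F467012 : act 5 n212677 = n206735 := d16_1 D212677 F442003 F417065 F395232 F160670 F294060 (iv5 F331441) (iv7 F204735) F331445
theorem F467013 : act 0 n212677 = n159582 := d17_0 (iv5 F453357) (iv1 D209350) D209351 F453358 (iv5 D207196) (iv0 D130599) (iv5 F106102) D148780 D212677
theorem F467014 : act 1 n212677 = n206743 := d18_6 (iv1 F448045) F448042 (iv1 F415865) F415862 F233582 D212677 F442019 F251361 (iv5 F376509)
def n212678 : Q := act 5 n148790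
theorem D212678 : act 5 n148790 = n212678 := rfl
theorem F467015 : act 2 n212678 = n183146 := d2_1 D212678 (iv5 F449545) F449540
theorem F467016 : act 3 n212678 = n148791 := d6_1 D212678 (iv5 D148791) D148790
theorem F467017 : act 7 n212678 = n183145 := d13_2 (iv7 F233613) D212678 F359700
theorem F467018 : act 4 n212678 = n195781 := d16_2 (iv4 F233612) D212678 (iv5 D195781) (iv4 F398128) (iv5 F398129) F395720 F350802 F350804 F356781
theorem F467019 : act 0 n212678 = n182037 := d17_2 (iv1 F392169) D212678 (iv5 F359695) (iv4 F232031) (iv5 F349825) F353612 D205506 F436752 (iv4 F392167)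
theorem F467020 : act 1 n212678 = n183148 := d17_6 F311873 (iv5 F231073) (iv1 F202947) (iv5 F204835) (iv4 F233612) D212678 F359699 F316669 (iv4 F206189)
theorem F467021 : act 6 n195782 = n212678 := d10_0 F467018 F398149 D195782
def n212679 : Q := act 6 n148791
theorem D212679 : act 6 n148791 = n212679 := rfl
theorem F467022 : act 2 n212679 = n212345 := d3_1 D212679 (iv6 D212345) (iv2 F233615)
theorem F467023 : act 3 n212679 = n195782 := d7_1 D212679 F467021 F467016
theorem F467024 : act 4 n212679 = n159494 := d10_1 D212679 F465564 F465563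
theorem F467025 : act 7 n195839 = n212679 := d11_0 F467024 (iv7 F251168) (iv4 F398403)
def n212680 : Q := act 5 n148792
theorem D212680 : act 5 n148792 = n212680 := rfl
theorem F467026 : act 2 n212680 = n185441 := d2_1 D212680 (iv5 F365327) (iv2 F233619)
theorem F467027 : act 3 n212680 = n153646 := d6_1 D212680 (iv5 D153646) (iv3 F356778)
theorem F467028 : act 4 n212680 = n182979 := d9_1 D212680 F289853 (iv4 F287566) F337255 (iv4 F418897) F418898 (iv4 F426205) (iv5 F426208) (iv4 D185370) (iv5 D88311) (iv4 F73587) (iv5 F73588) (iv4 F329756) D127432 (iv4 F233620)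
theorem F467029 : act 0 n212680 = n212326 := d17_2 F243338 D212680 (iv5 D212326) (iv4 D146690) (iv5 D68757) (iv0 F180398) (iv5 D54046) D54045 D117268
theorem F467030 : act 0 n212642 = n212680 := d21_1 D212642 (iv5 D212680) (iv6 D148792) (iv1 D69732) (iv6 F54933) D75882 (iv1 F336984) D134359 D208462 F449466
def n212681 : Q := act 7 n148792
theorem D212681 : act 7 n148792 = n212681 := rfl
theorem F467031 : act 2 n212681 = n202923 := d4_1 D212681 F426207 (iv2 F233619)
theorem F467032 : act 3 n212681 = n153388 := d8_1 D212681 F348689 (iv3 F356778)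
theorem F467033 : act 4 n212681 = n204423 := d11_1 D212681 F432478 (iv4 F233620)
theorem F467034 : act 6 n212681 = n212366 := d14_1 D212681 F465519 (iv6 D146896) (iv7 F106113) D148792
theorem F467035 : act 1 n202906 = n212681 := d15_1 (iv0 F426143) (iv7 D212681) F233619
theorem F467036 : act 1 n212681 = n192838 := d15_1 F467035 F387984 (iv2 F426140)
def n212682 : Q := act 5 n148794
theorem D212682 : act 5 n148794 = n212682 := rfl
theorem F467037 : act 2 n212682 = n199525 := d2_1 D212682 F412524 F403169
theorem F467038 : act 4 n212682 = n199522 := d9_1 D212682 (iv5 D199522) F172874 (iv5 F205316) (iv4 F409855) F409856 F403164 (iv5 F412943) (iv4 D199637) F173050 F168861 (iv5 F169904) F354555 D200063 F414861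
theorem F467039 : act 7 n212682 = n212339 := d13_2 (iv7 F403168) D212682 F465389
theorem F467040 : act 0 n212682 = n202897 := d17_2 (iv1 F233626) D212682 (iv5 D202897) F183421 (iv5 F182682) F347961 (iv5 F347909) F233676 F233673
theorem F467041 : act 1 n212682 = n212337 := d17_6 F419644 F382022 F382021 D200063 F414861 D212682 (iv5 D212337) F426088 F426084
def n212683 : Q := act 5 n148795
theorem D212683 : act 5 n148795 = n212683 := rfl
theorem F467042 : act 2 n212683 = n148796 := d2_1 D212683 (iv5 D148796) D148795
theorem F467043 : act 3 n212683 = n208791 := d6_1 D212683 F450893 (iv3 F233622)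
theorem F467044 : act 6 n212683 = n208790 := d12_2 F250299 D212683 (iv5 D208790) (iv6 F354753) (iv5 F354744)
theorem F467045 : act 7 n212683 = n212423 := d13_2 (iv7 F233624) D212683 (iv5 D212423)
theorem F467046 : act 0 n212683 = n212424 := d17_2 (iv1 F233625) D212683 F465749 (iv4 F461703) F461702 (iv0 F427711) F427705 (iv0 F409850) F409849
theorem F467047 : act 1 n212683 = n199563 := d17_6 D145781 F347965 (iv1 F229432) F229430 (iv4 F233623) D212683 (iv5 F426085) (iv0 D202895) F183421
def n212684 : Q := act 6 n148796
theorem D212684 : act 6 n148796 = n212684 := rfl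
theorem F467048 : act 2 n212684 = n208790 := d3_1 D212684 (iv6 F467044) F467042
theorem F467049 : act 3 n212684 = n148797 := d7_1 D212684 (iv6 D148797) (iv3 F233628)
theorem F467050 : act 5 n212684 = n205762 := d12_1 D212684 (iv6 F437751) (iv5 D158966) F113792 D148796
theorem F467051 : act 0 n208617 = n212684 := d17_2 F462202 (iv5 F462200) F467050 (iv4 D205762) F437747 (iv0 F437745) F203654 D134929 (iv4 F440999)
theorem F467052 : act 4 n208708 = n212684 := d18_3 (iv1 D134946) D134947 D208708 F467050 (iv4 D205762) (iv0 D126583) F93713 D63463 (iv5 F389036)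
theorem F467053 : act 3 n199473 = n208708 := d5_5 F467052 F467049 F442289 F442286 (iv4 F433089)
theorem F467054 : act 6 n199471 = n208708 := d10_0 F467052 (iv6 D212684) (iv4 F412317)
def n212685 : Q := act 1 n148797
theorem D212685 : act 1 n148797 = n212685 := rfl
theorem F467055 : act 1 n212685 = n208793 := d15_1 D212685 F450905 (iv2 F233630)
theorem F467056 : act 7 n212685 = n208815 := d15_2 (iv0 F442322) D212685 (iv2 D208815)
theorem F467057 : act 2 n208810 = n212685 := d4_3 F467056 (iv2 D208815) (iv7 F450972)
theorem F467058 : act 5 n206860 = n212685 := d13_3 F467056 F450983 F445963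
theorem F467059 : act 3 n212685 = n208823 := d6_1 F467058 F456384 (iv3 F456382)
def n212686 : Q := act 7 n148797
theorem D212686 : act 7 n148797 = n212686 := rfl
theorem F467060 : act 2 n212686 = n208793 := d4_1 D212686 F450905 (iv2 F233630)
theorem F467061 : act 4 n212686 = n195278 := d11_1 D212686 (iv7 F442288) (iv4 F442289)
theorem F467062 : act 5 n212686 = n208792 := d13_1 D212686 F450901 F363952
theorem F467063 : act 6 n212686 = n212432 := d14_1 D212686 (iv7 D212432) (iv6 D146904) (iv7 F106119) D148797
theorem F467064 : act 1 n208810 = n212686 := d15_1 F450975 (iv7 D212686) F233630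
theorem F467065 : act 1 n212686 = n208815 := d15_1 F467064 (iv7 F467056) (iv2 F467057)
theorem F467066 : act 6 n208792 = n209282 := d21_3 (iv5 F450983) (iv1 F467065) F467062 (iv1 D209282) (iv6 D136217) (iv5 F162008) (iv1 F361810) (iv5 D137815) D137816 (iv1 F445964)
theorem F467067 : act 2 n209282 = n208794 := d3_1 F467066 (iv6 D208794) D208792
def n212687 : Q := act 6 n148815
theorem D212687 : act 6 n148815 = n212687 := rfl
theorem F467068 : act 2 n212687 = n148828 := d3_1 D212687 (iv6 D148828) F233671
theorem F467069 : act 3 n212687 = n212249 := d7_1 D212687 (iv6 D212249) (iv3 F233672)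
theorem F467070 : act 4 n212687 = n188592 := d10_1 D212687 F374133 (iv4 F233673)
theorem F467071 : act 5 n212687 = n179244 := d12_1 D212687 (iv6 D179244) (iv5 F192210) F192211 (iv5 F233674)
theorem F467072 : act 7 n212687 = n204381 := d14_2 (iv7 F233675) D212687 (iv6 F432317) F200962 F113853
theorem F467073 : act 0 n212687 = n204382 := d21_4 F425514 (iv1 F229429) (iv5 F233674) D212687 F432324 (iv5 F350858) (iv1 F371342) (iv5 F425528) (iv6 D202774) D202772
theorem F467074 : act 0 n153800 = n212687 := d21_4 F248322 (iv1 D78045) (iv5 F109242) D153800 (iv6 D212687) F233674 (iv1 F229433) F357688 (iv6 D157572) D157570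
def n212688 : Q := act 1 n148817
theorem D212688 : act 1 n148817 = n212688 := rfl
theorem F467075 : act 1 n212688 = n212251 := d15_1 D212688 (iv7 F465900) F465897
theorem F467076 : act 7 n212688 = n162578 := d15_2 (iv0 F361643) D212688 F355109
theorem F467077 : act 5 n212688 = n167582 := d17_7 (iv1 F252109) F421921 (iv1 D201823) F179199 (iv4 F397721) F397722 D212688 (iv0 D167582) (iv4 F355113)
theorem F467078 : act 4 n212688 = n197216 := d17_9 (iv1 D197216) (iv5 D108019) D108016 (iv5 F231419) F350707 F370570 (iv0 F397723) F397722 D212688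
theorem F467079 : act 3 n212250 = n212688 := d20_3 (iv4 F104909) D146642 (iv4 F464973) (iv1 D212688) (iv3 D148817) D148818 F465355 (iv4 D212330) (iv3 D146753) (iv1 D68804)
theorem F467080 : act 6 n208883 = n212688 := d21_3 F344860 (iv1 F219548) (iv5 F451236) (iv1 D212688) (iv6 F361640) (iv5 F361355) F342645 F272380 F323229 (iv1 F323224)
theorem F467081 : act 2 n212688 = n208884 := d3_1 F467080 (iv6 D208884) D208883
def n212689 : Q := act 3 n148818
theorem D212689 : act 3 n148818 = n212689 := rfl
theorem F467082 : act 2 n212689 = n154377 := d0_1 D212689 F358450 (iv2 F172560) (iv3 F411916) F411915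
theorem F467083 : act 4 n212689 = n176493 := d5_2 D148818 D212689 (iv3 F464874) F464871 (iv3 D148817)
theorem F467084 : act 6 n212689 = n199319 := d7_2 F361641 D212689 F411653
theorem F467085 : act 0 n212689 = n153823 := d19_4 F248415 (iv5 D148819) D148818 D212689 F429627 (iv4 F429626) F417344 (iv1 F231796) F231798 F183733 (iv3 F120099) (iv1 F120101) (iv5 D52502) F40283 F20659 F20621 D26118 (iv4 F84964) D116916
theorem F467086 : act 0 n154379 = n212689 := d20_4 (iv4 F390825) (iv1 F390827) F368725 F368723 (iv3 D212689) (iv4 D148818) D148815 F233673 (iv3 F426144) (iv1 F426150)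
theorem F467087 : act 5 n212689 = n188309 := d17_1 F467086 (iv1 F465161) F465157 (iv4 D147593) (iv5 F231073) (iv0 F202946) F350802 F360210 F361988
theorem F467088 : act 7 n212689 = n154324 := d15_2 (iv0 F432289) (iv0 F467085) (iv2 F432284)
def n212690 : Q := act 5 n148818
theorem D212690 : act 5 n148818 = n212690 := rfl
theorem F467089 : act 3 n212690 = n188309 := d6_1 D212690 (iv5 F467087) (iv3 D212689)
theorem F467090 : act 4 n212690 = n199711 := d16_2 D148818 D212690 (iv5 F460163) F460162 F382072 F316665 (iv5 F347909) F233677 (iv2 D148816)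
theorem F467091 : act 1 n212690 = n200048 := d17_6 (iv1 D145782) (iv5 F182682) F248415 (iv5 D148819) D148818 D212690 (iv5 F414770) (iv0 F426593) F426591
def n212691 : Q := act 7 n148818
theorem D212691 : act 7 n148818 = n212691 := rfl
theorem F467092 : act 2 n212691 = n148823 := d4_1 D212691 F411918 F411915
theorem F467093 : act 3 n212691 = n154324 := d8_1 D212691 (iv7 F467088) (iv3 D212689)
theorem F467094 : act 4 n212691 = n148821 := d11_1 D212691 (iv7 D148821) D148818
theorem F467095 : act 6 n212691 = n154321 := d14_1 D212691 (iv7 F415458) F415457 (iv7 F278428) F361641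
theorem F467096 : act 1 n211296 = n212691 := d15_1 (iv0 F461015) (iv7 D212691) (iv2 F411915)
theorem F467097 : act 1 n212691 = n202681 := d15_1 F467096 F425074 D211296
def n212692 : Q := act 5 n148823
theorem D212692 : act 5 n148823 = n212692 := rfl
theorem F467098 : act 3 n212692 = n203748 := d6_1 D212692 F429671 F233679
theorem F467099 : act 0 n212692 = n200048 := d17_2 F465354 D212692 (iv5 F414770) (iv4 F425195) F425196 (iv0 D198908) D198910 (iv0 F409852) D212330
def n212693 : Q := act 0 n148961
theorem D212693 : act 0 n148961 = n212693 := rfl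
theorem F467100 : act 5 n212693 = n161357 := d17_1 D212693 F350954 F310340 (iv4 F351921) D203725 (iv0 F432975) (iv5 D204596) F385407 F385404
theorem F467101 : act 4 n212693 = n157669 := d18_1 D212693 (iv1 F319953) F319955 (iv5 D79018) D79017 (iv0 F155568) (iv4 F107082) F232735 D148961
theorem F467102 : act 3 n212693 = n162844 := d20_5 F109597 D73084 F311102 (iv3 F234096) D212693 (iv4 F335260) F344902 (iv4 D120225) (iv3 F191417) F307853
theorem F467103 : act 6 n212693 = n208217 := d21_5 (iv5 F439641) (iv1 F466782) F466779 F439902 D212693 (iv5 F458975) (iv1 D210842) D210843 F458983 F448449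
theorem F467104 : act 2 n191510 = n212693 := d15_3 (iv0 D212693) (iv0 F344055) D191510
theorem F467105 : act 1 n191509 = n212693 := d15_0 (iv0 D212693) (iv7 F236166) (iv2 F383616)
theorem F467106 : act 7 n212693 = n191506 := d15_2 D191509 F467105 F383598
def n212694 : Q := act 0 n148962
theorem D212694 : act 0 n148962 = n212694 := rfl
theorem F467107 : act 5 n212694 = n149207 := d17_1 D212694 (iv1 F429116) F429114 F306921 (iv5 F461742) (iv0 D211482) D211483 F461755 F239807
theorem F467108 : act 4 n212694 = n152674 := d18_1 D212694 (iv1 F425345) F425342 F349366 (iv4 F425203) (iv0 F425207) (iv4 F440048) F440051 F234536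
theorem F467109 : act 2 n149209 = n212694 := d15_3 (iv0 D212694) F425347 (iv7 F234591)
theorem F467110 : act 1 n203204 = n212694 := d15_0 (iv0 D212694) (iv7 F237194) (iv2 F427399)
theorem F467111 : act 7 n212694 = n152666 := d15_2 D203204 F467110 F239878
def n212695 : Q := act 6 n148979
theorem D212695 : act 6 n148979 = n212695 := rfl
theorem F467112 : act 2 n212695 = n148985 := d3_1 D212695 (iv6 D148985) F234129
theorem F467113 : act 3 n212695 = n149795 := d7_1 D212695 (iv6 D149795) (iv3 F234127)
theorem F467114 : act 4 n212695 = n164557 := d10_1 D212695 (iv6 D164557) (iv4 F234128)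
theorem F467115 : act 5 n212695 = n195588 := d12_1 D212695 (iv6 F397478) (iv5 D186946) F352633 F352635
theorem F467116 : act 7 n212695 = n212541 := d14_2 (iv7 F234130) D212695 F466340 F238783 (iv6 D148986)
theorem F467117 : act 0 n212695 = n152682 := d21_4 (iv5 F380189) F380190 F352635 D212695 (iv6 D152682) D152681 (iv1 F319699) F319700 (iv6 F305847) (iv1 F348717)
def n212696 : Q := act 5 n148981
theorem D212696 : act 5 n148981 = n212696 := rfl
theorem F467118 : act 2 n212696 = n152681 := d2_1 D212696 (iv5 D152681) (iv2 F234146)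
theorem F467119 : act 3 n212696 = n201490 := d6_1 D212696 (iv5 D201490) F234145
theorem F467120 : act 6 n212696 = n202335 := d12_2 F432615 D212696 (iv5 F432619) (iv6 D204466) D204465
theorem F467121 : act 7 n212696 = n152665 := d13_2 (iv7 F234143) D212696 (iv5 D152665)
theorem F467122 : act 0 n212696 = n202347 := d17_2 (iv1 F234142) D212696 (iv5 F427290) F427289 F347054 F239914 (iv5 D72065) F108518 F123926
theorem F467123 : act 1 n212696 = n167920 := d17_6 (iv1 D124988) D124989 (iv1 F239423) (iv5 D152306) F234144 D212696 F264606 (iv0 F330102) F200760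
theorem F467124 : act 4 n212696 = n202278 := d18_5 (iv1 F52438) (iv4 F52505) (iv1 F108313) F234144 D212696 (iv0 D202278) F179811 F320710 (iv5 F320464)
def n212697 : Q := act 7 n148985
theorem D212697 : act 7 n148985 = n212697 := rfl
theorem F467125 : act 2 n212697 = n212541 := d4_1 D212697 (iv7 F467116) F467112
theorem F467126 : act 3 n212697 = n167915 := d8_1 D212697 F264588 F259390
theorem F467127 : act 4 n212697 = n205950 := d11_1 D212697 F438556 F314763
theorem F467128 : act 5 n212697 = n195581 := d13_1 D212697 F397436 F234156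
theorem F467129 : act 6 n212697 = n168081 := d14_1 D212697 F305406 F238782 F233796 D148985
theorem F467130 : act 0 n152682 = n212697 := d21_4 (iv5 F425319) (iv1 F425321) (iv5 D152681) D152682 F467129 F305405 (iv1 F243944) (iv5 D155118) D155119 F280170
def n212698 : Q := act 6 n148993
theorem D212698 : act 6 n148993 = n212698 := rfl
theorem F467131 : act 2 n212698 = n149003 := d3_1 D212698 (iv6 D149003) (iv2 F234227)
theorem F467132 : act 3 n212698 = n149769 := d7_1 D212698 (iv6 D149769) (iv3 F234176)
theorem F467133 : act 4 n212698 = n203423 := d10_1 D212698 (iv6 F428240) F234175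
theorem F467134 : act 5 n212698 = n206280 := d12_1 D212698 (iv6 F440045) F337673 (iv6 F337671) (iv5 F344900)
theorem F467135 : act 7 n212698 = n210355 := d14_2 F234226 D212698 (iv6 D210355) (iv7 F311108) (iv6 D149001)
theorem F467136 : act 0 n149220 = n212698 := d21_4 (iv5 F319309) (iv1 F317373) F317374 F234610 (iv6 D212698) F344900 (iv1 F257117) F332085 (iv6 F278514) (iv1 F278516)
def n212699 : Q := act 1 n149012
theorem D212699 : act 1 n149012 = n212699 := rfl
theorem F467137 : act 1 n212699 = n149015 := d15_1 D212699 (iv7 F236179) F236178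
theorem F467138 : act 7 n212699 = n193483 := d15_2 F350966 D212699 F390007
theorem F467139 : act 5 n212699 = n193484 := d17_7 (iv1 F381106) F381108 F312347 (iv5 F310272) (iv4 F232732) D149012 D212699 F390019 (iv4 F351782)
theorem F467140 : act 3 n162762 = n212699 := d19_19 (iv1 D212699) (iv5 D149012) F232732 (iv3 F232727) (iv1 F108467) F310267 F116760 (iv3 D35226) (iv1 D17095) D17096 D35232 D77182 D160831 F358415 F358397 (iv3 D162753) (iv1 D78216) D78218 D162762
theorem F467141 : act 2 n212699 = n193486 := d0_1 F467140 F390022 F156794 F388023 (iv2 F388024)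
def n212700 : Q := act 5 n149014
theorem D212700 : act 5 n149014 = n212700 := rfl
theorem F467142 : act 2 n212700 = n210427 := d2_1 D212700 F457480 F388784
theorem F467143 : act 3 n212700 = n149015 := d6_1 D212700 (iv5 D149015) D149014
theorem F467144 : act 7 n212700 = n202685 := d13_2 F236177 D212700 F425093
theorem F467145 : act 4 n212700 = n199997 := d16_6 (iv4 F352808) D209961 F455540 (iv5 D157634) (iv4 F234295) D212700 F414537 F348038 (iv2 F327726)
theorem F467146 : act 1 n212700 = n204337 := d17_6 (iv1 F351778) D204265 F431755 (iv5 D157634) (iv4 F234295) D212700 (iv5 D204337) F384325 F384322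
theorem F467147 : act 0 n212700 = n211663 := d18_0 (iv4 D211663) F226269 F348336 (iv5 D171128) D171127 (iv0 F366229) (iv4 F374816) (iv0 F374818) D212700
theorem F467148 : act 6 n212700 = n203264 := d21_3 (iv5 F444368) (iv1 F444370) D212700 F427563 (iv6 D178966) D178965 (iv1 F360926) (iv5 D138376) (iv6 F327177) (iv1 F362451)
def n212701 : Q := act 6 n149014
theorem D212701 : act 6 n149014 = n212701 := rfl
theorem F467149 : act 3 n212701 = n149016 := d7_1 D212701 (iv6 D149016) D149014
theorem F467150 : act 4 n212701 = n157635 := d10_1 D212701 (iv6 D157635) (iv4 F234295)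
def n212702 : Q := act 6 n149015
theorem D212702 : act 6 n149015 = n212702 := rfl
theorem F467151 : act 3 n212702 = n203264 := d7_1 D212702 (iv6 F467148) F467143
theorem F467152 : act 5 n212702 = n209842 := d12_1 D212702 (iv6 F455115) F234544 (iv6 D149016) D149015
theorem F467153 : act 7 n212702 = n210422 := d14_2 F236179 D212702 F457467 (iv7 F425083) (iv6 F425087)
theorem F467154 : act 0 n189047 = n212702 := d21_4 F357587 (iv1 D93075) D93078 D189047 (iv6 D212702) (iv5 D149015) (iv1 D69885) D69886 (iv6 F153151) (iv1 F357578)
theorem F467155 : act 1 n199301 = n212702 := d15_0 (iv0 F467154) (iv7 F410744) (iv2 F411559)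
def n212703 : Q := act 0 n149016
theorem D212703 : act 0 n149016 = n212703 := rfl
theorem F467156 : act 5 n212703 = n204920 := d17_1 D212703 (iv1 F434176) F388334 (iv4 F199497) (iv5 F434158) F434161 (iv5 F241371) (iv0 F242771) (iv4 F234296)
theorem F467157 : act 4 n212703 = n149025 := d18_3 (iv1 F243631) (iv4 F234296) D212703 F234303 D149063 (iv0 F234424) (iv4 D124709) D124708 (iv5 F199517)
theorem F467158 : act 6 n212703 = n203219 := d21_5 D101815 (iv1 F350965) (iv5 D149015) D149016 D212703 F427456 (iv1 F242745) (iv5 D149083) (iv6 F350961) (iv1 D101814)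
theorem F467159 : act 2 n149216 = n212703 := d15_3 (iv0 D212703) (iv0 F234297) (iv7 F234605)
theorem F467160 : act 7 n212703 = n149225 := d4_2 (iv7 F234605) F467159 F234613
theorem F467161 : act 1 n203209 = n212703 := d15_1 D203209 F467160 F234613
theorem F467162 : act 6 n149170 = n193784 := d21_3 (iv5 F467156) (iv1 F467161) F427416 (iv1 D193784) (iv6 D102325) (iv5 D47485) F290156 D99416 (iv6 F199507) D204920
def n212704 : Q := act 7 n149016
theorem D212704 : act 7 n149016 = n212704 := rfl
theorem F467163 : act 2 n212704 = n203209 := d4_1 D212704 F427413 F236184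
theorem F467164 : act 4 n212704 = n152914 := d11_1 D212704 F240141 (iv4 F234296)
theorem F467165 : act 5 n212704 = n193558 := d13_1 D212704 F390277 F234544
theorem F467166 : act 6 n212704 = n186858 := d14_1 D212704 F368316 (iv6 D150085) F155532 D149016
theorem F467167 : act 1 n149225 = n212704 := d15_1 (iv0 F366717) (iv7 D212704) (iv2 F236184)
theorem F467168 : act 1 n212704 = n149216 := d15_1 F467167 F234605 (iv2 F234613)
def n212705 : Q := act 6 n149017
theorem D212705 : act 6 n149017 = n212705 := rfl
theorem F467169 : act 2 n212705 = n156505 := d3_1 D212705 (iv6 F362446) F241768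
theorem F467170 : act 3 n212705 = n208258 := d7_1 D212705 F448619 F388793
theorem F467171 : act 4 n212705 = n198356 := d10_1 D212705 F460098 F460095
theorem F467172 : act 5 n212705 = n158978 := d12_1 D212705 F250311 F314528 (iv6 F390002) F390000
theorem F467173 : act 7 n212705 = n208328 := d14_2 (iv7 F241767) D212705 (iv6 F448934) (iv7 F452879) F452876
theorem F467174 : act 0 n212705 = n210352 := d21_10 F457155 (iv1 D146656) (iv5 F329017) (iv6 D137214) D137211 (iv6 F390009) (iv5 D193483) D193482 F390000 D212705
theorem F467175 : act 1 n212705 = n210319 := d15_1 (iv0 F467174) (iv7 F463413) F463410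
def n212706 : Q := act 5 n149019
theorem D212706 : act 5 n149019 = n212706 := rfl
theorem F467176 : act 2 n212706 = n210928 := d2_1 D212706 F459329 F331763
theorem F467177 : act 4 n212706 = n178492 := d9_1 D212706 (iv5 D178492) F312051 F96310 (iv4 F107093) (iv5 F236192) (iv4 F402172) (iv5 F402175) F386619 (iv5 D149029) (iv4 D69900) (iv5 D32460) (iv4 F51537) D69886 D149019
theorem F467178 : act 7 n212706 = n207438 := d13_2 F357677 D212706 F444912
theorem F467179 : act 0 n212706 = n200129 := d17_2 F388404 D212706 F415141 F401641 (iv5 D148968) F232804 D101053 D192975 F388403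
def n212707 : Q := act 4 n149022
theorem D212707 : act 4 n149022 = n212707 := rfl
theorem F467180 : act 2 n212707 = n212182 := d1_1 D212707 F464649 F236214
theorem F467181 : act 1 n212707 = n193485 := d18_6 (iv1 F107097) F107093 (iv1 F51864) D69895 D149022 D212707 (iv4 D193485) F350966 (iv5 D149012)
def n212708 : Q := act 5 n149036
theorem D212708 : act 5 n149036 = n212708 := rfl
theorem F467182 : act 2 n212708 = n161401 := d2_1 D212708 F350670 (iv2 F312890)
theorem F467183 : act 3 n212708 = n161909 := d6_1 D212708 F305463 F314260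
theorem F467184 : act 6 n212708 = n203855 := d12_2 D149036 D212708 F430119 (iv6 F409578) (iv5 D149035)
theorem F467185 : act 7 n212708 = n161924 := d13_2 (iv7 F312891) D212708 F302956
theorem F467186 : act 0 n212708 = n161879 := d17_2 F315266 D212708 (iv5 D161879) (iv4 F333729) F333663 (iv0 D118286) F86019 D61749 F317489
theorem F467187 : act 1 n212708 = n161685 := d17_6 (iv1 F309921) D190779 F381022 F231681 (iv4 F234357) D212708 (iv5 D161685) (iv0 F316557) D77747
def n212709 : Q := act 4 n149049
theorem D212709 : act 4 n149049 = n212709 := rfl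
theorem F467188 : act 2 n212709 = n149131 := d1_1 D212709 (iv4 D149131) (iv2 F234382)
theorem F467189 : act 5 n212709 = n192160 := d9_2 D149049 D212709 (iv4 D192160) F353149 (iv4 D154886) (iv5 D73458) F305184 D123385 D204282 F431845 (iv4 D193689) (iv5 F369159) F369158 (iv5 F346245) (iv4 F187880)
theorem F467190 : act 7 n212709 = n149119 := d11_2 (iv7 F234383) D212709 (iv4 D149119)
def n212710 : Q := act 6 n149049
theorem D212710 : act 6 n149049 = n212710 := rfl
theorem F467191 : act 2 n212710 = n149132 := d3_1 D212710 (iv6 D149132) (iv2 F234382)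
theorem F467192 : act 5 n212710 = n209630 := d12_1 D212710 (iv6 D209630) F318995 F280102 D149049
theorem F467193 : act 0 n193638 = n212710 := d21_4 (iv5 D182262) (iv1 F335581) (iv5 F346041) D193638 (iv6 D212710) (iv5 D149049) (iv1 D69908) D69909 (iv6 F134722) (iv1 F343889)
theorem F467194 : act 6 n185250 = n209545 := d21_5 (iv5 D197503) F364031 (iv5 D149143) (iv6 F338050) D185250 (iv5 F460705) (iv1 F460707) (iv5 F467192) (iv6 D212710) (iv1 F404594)
theorem F467195 : act 3 n177980 = n185250 := d7_3 F467194 (iv3 F460726) F460728
def n212711 : Q := act 4 n149051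
theorem D212711 : act 4 n149051 = n212711 := rfl
theorem F467196 : act 2 n212711 = n149137 := d1_1 D212711 (iv4 D149137) (iv2 F234522)
theorem F467197 : act 6 n212711 = n152718 := d10_2 (iv6 F449567) D212711 (iv4 F449566)
theorem F467198 : act 7 n212711 = n149142 := d11_2 (iv7 F234523) D212711 (iv4 D149142)
theorem F467199 : act 5 n212711 = n193889 := d16_1 D212711 F391302 F353162 F241359 (iv5 D153555) F190222 F234387 F234520 (iv2 F234522)
theorem F467200 : act 0 n212711 = n202275 := d17_0 F423442 F415561 (iv5 F467189) (iv4 D212709) (iv5 D149049) F106337 (iv5 F106395) F234391 D212711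
theorem F467201 : act 1 n212711 = n192956 := d18_6 F366717 F236185 F243625 (iv4 F456953) F456954 D212711 (iv4 D192956) D192955 (iv5 F388328)
def n212712 : Q := act 3 n149052
theorem D212712 : act 3 n149052 = n212712 := rfl
theorem F467202 : act 2 n212712 = n154579 := d0_1 D212712 (iv3 D154579) F338025 F338049 (iv2 F234519)
theorem F467203 : act 5 n212712 = n192358 := d6_2 F234387 D212712 F424192
theorem F467204 : act 7 n212712 = n149136 := d8_2 (iv7 F234520) D212712 (iv3 D149136)
theorem F467205 : act 0 n212712 = n186630 := d21_7 (iv5 D40353) (iv1 F34489) (iv5 F62134) D87879 (iv1 F344408) (iv6 F424193) (iv5 F467203) (iv5 D186630) (iv6 D88943) F64072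
def n212713 : Q := act 4 n149052
theorem D212713 : act 4 n149052 = n212713 := rfl
theorem F467206 : act 2 n212713 = n149142 := d1_1 D212713 (iv4 D149142) (iv2 F234519)
theorem F467207 : act 5 n212713 = n192204 := d9_2 F234387 D212713 F385986 (iv5 F353166) (iv4 F158912) D154932 (iv4 F456953) F456954 D212711 F467199 F391302 F353162 F241359 (iv5 D153555) F190222
theorem F467208 : act 7 n212713 = n149137 := d11_2 (iv7 F234520) D212713 (iv4 D149137)
theorem F467209 : act 0 n212713 = n192956 := d17_0 (iv5 F456257) (iv1 F456260) (iv5 F431845) (iv4 D204282) (iv5 D123385) F304446 D69909 D149052 D212713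
theorem F467210 : act 1 n212713 = n202275 := d18_6 (iv1 F467168) F467164 F243627 F190222 F234387 D212713 (iv4 F423443) F365482 F338055
theorem F467211 : act 3 n192205 = n212713 := d8_3 F467208 F353164 (iv7 F385991)
def n212714 : Q := act 0 n149053
theorem D212714 : act 0 n149053 = n212714 := rfl
theorem F467212 : act 4 n212714 = n204920 := d18_3 (iv1 D149052) D149053 D212714 (iv5 F467156) F467157 (iv0 D149025) (iv4 F234300) (iv0 F243629) F234387
theorem F467213 : act 2 n149145 = n212714 := d15_3 (iv0 D212714) (iv0 F390300) F390299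
theorem F467214 : act 1 n149149 = n212714 := d15_0 (iv0 D212714) (iv7 F455159) F455156
theorem F467215 : act 7 n212714 = n149146 := d15_2 (iv0 F390301) F467214 (iv2 F390298)
theorem F467216 : act 6 n152765 = n212714 := d21_3 (iv5 D142325) (iv1 F348373) (iv5 F348366) (iv1 F467214) (iv6 F452817) F452816 (iv1 F452807) (iv5 D209231) (iv6 F452755) (iv1 F452758)
theorem E103985 : n211465 = n209833 := ((c21_5 (iv5 F393215) F428505 F390283 (iv6 F390284) D209833 (iv6 D211465) (iv5 D142325) (iv1 F348373) (iv5 F348366) F467216 (iv1 F467214))).symm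
theorem F467217 : act 3 n209833 = n142329 := (sb E103985 F461659)
theorem F467218 : act 6 n209833 = n142325 := (sb E103985 (iv6 D211465))
theorem F467219 : act 7 n209833 = n142329 := (sb E103985 F461660)
theorem F467220 : act 5 n212714 = n202337 := d12_1 F467216 (iv6 D202337) F179993 D115634 (iv5 F348366)
def n212715 : Q := act 3 n149053
theorem D212715 : act 3 n149053 = n212715 := rfl
theorem F467221 : act 4 n212715 = n203091 := d5_2 D149053 D212715 (iv3 F426929) F391053 F234370
theorem F467222 : act 6 n212715 = n152769 := d7_2 F346026 D212715 F366269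
theorem F467223 : act 7 n212715 = n202324 := d8_2 F455159 D212715 F455162
theorem F467224 : act 0 n212715 = n201928 := d19_4 (iv1 D69908) D69909 D149053 D212715 (iv5 D201928) F350936 (iv3 F336264) (iv1 F203799) D126904 F331896 F207933 F306035 D77690 (iv4 F320248) (iv3 F212310) (iv1 D119624) (iv5 F95895) (iv4 F209451) F307069
theorem F467225 : act 5 n202396 = n212715 := d17_1 F428612 F467224 (iv5 D201928) F350936 (iv5 F428495) (iv0 D203484) (iv5 F188304) (iv0 D119503) D119505
theorem F467226 : act 1 n212715 = n202310 := d15_1 (iv0 F467224) F423580 (iv2 F422402)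
theorem F467227 : act 2 n212715 = n202323 := d2_1 F467225 (iv5 F428897) F428894
def n212716 : Q := act 5 n149053
theorem D212716 : act 5 n149053 = n212716 := rfl
theorem F467228 : act 2 n212716 = n149148 := d2_1 D212716 (iv5 D149148) (iv2 F234388)
theorem F467229 : act 3 n212716 = n202396 := d6_1 D212716 F467225 (iv3 D212715)
theorem F467230 : act 4 n212716 = n149239 := d9_1 D212716 F234625 F106432 F51577 (iv4 F51571) (iv5 F106395) (iv4 F234525) (iv5 F393215) (iv4 D194437) (iv5 D103586) F75351 (iv5 D32467) (iv4 F51544) D69909 D149053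
theorem F467231 : act 6 n212716 = n202363 := d12_2 F346026 D212716 F423760 F226555 (iv5 F179933)
theorem F467232 : act 7 n212716 = n149238 := d13_2 F455159 D212716 (iv5 F455158)
theorem F467233 : act 1 n212716 = n152751 := d17_8 F428506 D207186 F443703 (iv5 F408119) (iv4 F423681) (iv5 F467220) (iv0 D212714) D212716 F428504
theorem E103986 : n209834 = n202282 := ((c21_4 F422409 (iv1 F179529) D115531 D202282 (iv1 D209834) F390284 (iv5 F390283) (iv1 F467233) (iv5 D212716) (iv6 F346026) (iv1 F422411))).symm
theorem F467234 : act 0 n202282 = n137004 := (sb E103986 (iv1 D209834))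
def n212717 : Q := act 4 n149055
theorem D212717 : act 4 n149055 = n212717 := rfl
theorem F467235 : act 2 n212717 = n149171 := d1_1 D212717 (iv4 D149171) (iv2 F234394)
theorem F467236 : act 6 n212717 = n203065 := d10_2 (iv6 F346071) D212717 (iv4 D203065)
theorem F467237 : act 7 n212717 = n149194 := d11_2 (iv7 F234395) D212717 (iv4 D149194)
def n212718 : Q := act 6 n149058
theorem D212718 : act 6 n149058 = n212718 := rfl
theorem F467238 : act 3 n212718 = n149062 := d7_1 D212718 (iv6 D149062) (iv3 F234410)
theorem F467239 : act 4 n212718 = n175092 := d10_1 D212718 F274069 F353141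
theorem F467240 : act 5 n212718 = n170400 := d12_1 D212718 (iv6 F334466) (iv5 D179979) F155293 D149058
theorem F467241 : act 7 n212718 = n202891 := d14_2 (iv7 F234411) D212718 F426068 F344142 F319645
theorem F467242 : act 0 n149242 = n212718 := d21_4 F106449 F105049 (iv5 F106439) D149242 (iv6 D212718) (iv5 D149058) F191369 D86742 F133023 F114722
def n212719 : Q := act 3 n149061
theorem D212719 : act 3 n149061 = n212719 := rfl
theorem F467243 : act 4 n212719 = n175200 := d5_2 D149061 D212719 (iv3 F366749) F353141 F234410
theorem F467244 : act 5 n212719 = n193653 := d6_2 (iv5 F443596) D212719 (iv3 F443594)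
theorem F467245 : act 6 n212719 = n183227 := d7_2 F465978 D212719 (iv3 F465977)
theorem F467246 : act 7 n212719 = n149179 := d8_2 (iv7 F234417) D212719 (iv3 D149179)
theorem F467247 : act 0 n212719 = n186919 := d20_4 (iv4 D166129) F155489 D149061 D212719 (iv3 D186919) F137067 F74780 D88878 (iv3 F353148) F261597
def n212720 : Q := act 6 n149071
theorem D212720 : act 6 n149071 = n212720 := rfl
theorem F467248 : act 2 n212720 = n156359 := d3_1 D212720 (iv6 D156359) (iv2 F312127)
theorem F467249 : act 3 n212720 = n179541 := d7_1 D212720 (iv6 D179541) (iv3 F234446)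
theorem F467250 : act 4 n212720 = n197446 := d10_1 D212720 (iv6 D197446) (iv4 F312128)
theorem F467251 : act 5 n212720 = n211513 := d12_1 D212720 F461916 F236557 (iv6 D149072) D149071
theorem F467252 : act 7 n212720 = n211143 := d14_2 (iv7 F234447) D212720 (iv6 D211143) (iv7 F348048) (iv6 D181746)
theorem F467253 : act 0 n212720 = n206151 := d21_10 (iv5 D206151) (iv1 D127537) (iv5 F319283) F319284 (iv1 D70583) F315164 (iv5 F315163) D69927 D149071 D212720
theorem F467254 : act 1 n212720 = n198645 := d15_1 (iv0 F467253) F408689 (iv2 F439486)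
def n212721 : Q := act 5 n149089
theorem D212721 : act 5 n149089 = n212721 := rfl
theorem F467255 : act 2 n212721 = n186633 := d2_1 D212721 (iv5 D186633) F272716
theorem F467256 : act 3 n212721 = n152045 := d6_1 D212721 F354624 (iv3 F234476)
theorem F467257 : act 4 n212721 = n207070 := d9_1 D212721 (iv5 D207070) (iv4 F213160) D132906 F311197 (iv5 F311198) F323251 D98939 D191800 F384486 F213178 D132984 F315978 (iv5 F342012) F281874
theorem F467258 : act 7 n212721 = n191798 := d13_2 (iv7 F234474) D212721 (iv5 D191798)
theorem F467259 : act 0 n212721 = n179736 := d17_2 (iv1 F234473) D212721 (iv5 F403453) F403452 F214916 F208227 (iv5 F208225) F215084 F304548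
theorem F467260 : act 1 n212721 = n191799 := d17_6 (iv1 F351934) (iv5 F351929) F307937 (iv5 F342012) F281874 D212721 F384481 F384746 F384743
def n212722 : Q := act 6 n149089
theorem D212722 : act 6 n149089 = n212722 := rfl
theorem F467261 : act 2 n212722 = n186634 := d3_1 D212722 (iv6 D186634) F272716
theorem F467262 : act 3 n212722 = n191807 := d7_1 D212722 (iv6 D191807) (iv3 F234476)
theorem F467263 : act 7 n212722 = n157402 := d14_2 (iv7 F234474) D212722 (iv6 D157402) F166670 F354647
theorem F467264 : act 0 n212722 = n179752 := d21_4 (iv5 F384481) (iv1 F467260) (iv5 D212721) D212722 F361462 D211479 F461734 (iv5 D191899) D191900 (iv1 F384746)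
theorem F467265 : act 0 n157673 = n212722 := d21_4 (iv5 F362510) F362508 (iv5 D157672) D157673 (iv6 D212722) D212721 F467259 (iv5 F403453) F403454 (iv1 F312487)
def n212723 : Q := act 1 n149093
theorem D212723 : act 1 n149093 = n212723 := rfl
theorem F467266 : act 1 n212723 = n179730 := d15_1 D212723 (iv7 F284632) F284630
theorem F467267 : act 7 n212723 = n193381 := d15_2 F434342 D212723 (iv2 F434337)
theorem F467268 : act 4 n212723 = n193374 := d17_9 (iv1 D193374) (iv5 D101540) D101539 D193372 (iv4 F434371) (iv5 D204963) (iv0 F404120) F404119 D212723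
theorem F467269 : act 3 n192644 = n212723 := d19_19 (iv1 D212723) (iv5 F404119) (iv4 D197391) F403667 (iv1 F403669) F166975 (iv4 F245558) (iv3 D156243) D156241 (iv5 F332264) (iv4 D175311) (iv3 F338578) (iv1 F271960) (iv5 D83012) D83011 (iv3 F198463) (iv1 F198464) (iv5 F310431) D192644
theorem F467270 : act 2 n212723 = n193383 := d0_1 F467269 (iv3 F389654) (iv2 F312830) (iv3 F434269) F434268
def n212724 : Q := act 3 n149093
theorem D212724 : act 3 n149093 = n212724 := rfl
theorem F467271 : act 2 n212724 = n208635 := d0_1 D212724 F450271 (iv2 F450260) F450261 F284630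
theorem F467272 : act 4 n212724 = n207705 := d5_2 D149093 D212724 (iv3 D207705) (iv4 F355252) F234477
theorem F467273 : act 5 n212724 = n197609 := d6_2 F404119 D212724 F405012
theorem F467274 : act 0 n212724 = n208323 := d20_4 F389660 F305538 D149093 D212724 F448913 (iv4 D136666) (iv1 F343910) (iv4 F404864) F404863 (iv1 F389659)
def n212725 : Q := act 6 n149107
theorem D212725 : act 6 n149107 = n212725 := rfl
theorem F467275 : act 4 n212725 = n202277 := d10_1 D212725 (iv6 D202277) (iv4 F335560)
theorem F467276 : act 7 n212725 = n203093 := d14_2 (iv7 F346032) D212725 (iv6 D203093) F423428 F423426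
theorem F467277 : act 0 n202540 = n212725 := d21_4 F421841 F421842 D211227 F460698 (iv6 D212725) (iv5 F335559) (iv1 F346048) (iv5 D185349) D185350 F346052
def n212726 : Q := act 5 n149111
theorem D212726 : act 5 n149111 = n212726 := rfl
theorem F467278 : act 3 n212726 = n175565 := d6_1 D212726 (iv5 D175565) (iv3 F312627)
theorem F467279 : act 6 n212726 = n209539 := d12_2 (iv6 F312628) D212726 F455119 (iv6 F455117) F383632
theorem F467280 : act 7 n212726 = n186630 := d13_2 (iv7 F312629) D212726 (iv5 D186630)
theorem F467281 : act 0 n212726 = n154579 := d17_2 D149111 D212726 F242643 (iv4 F311564) (iv5 D115809) D115808 F341169 F209459 F305579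
theorem F467282 : act 0 n149136 = n212726 := d19_0 (iv5 D212726) (iv4 F403382) (iv3 F403380) (iv1 D131272) (iv5 F110890) (iv4 F244941) F244940 (iv1 F396655) (iv5 D195306) F161988 F76821 D64775 F179909 F179908 F391298 (iv1 D193888) F353163 (iv4 D149137) D149136
def n212727 : Q := act 1 n149115
theorem D212727 : act 1 n149115 = n212727 := rfl
theorem F467283 : act 1 n212727 = n154557 := d15_1 D212727 (iv7 F434114) F434112
def n212728 : Q := act 4 n149115
theorem D212728 : act 4 n149115 = n212728 := rfl
theorem F467284 : act 0 n212728 = n204604 := d20_7 D84765 (iv1 F306748) F306749 (iv3 F264403) (iv1 D149118) (iv3 F234494) D212728 (iv4 D204604) (iv3 D124044) (iv1 F302313)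
def n212729 : Q := act 4 n149117
theorem D212729 : act 4 n149117 = n212729 := rfl
theorem F467285 : act 0 n212729 = n149194 := d18_2 D149117 D212729 (iv4 D149194) (iv5 D70025) (iv4 D32497) F51551 (iv4 F106340) F106344 D69979
theorem F467286 : act 1 n212729 = n149171 := d18_6 (iv1 D203209) F185755 F155429 (iv4 F234300) (iv5 F234496) D212729 (iv4 D149171) D149170 (iv5 F427416)
def n212730 : Q := act 6 n149117
theorem D212730 : act 6 n149117 = n212730 := rfl
theorem F467287 : act 2 n212730 = n210406 := d3_1 D212730 F457415 (iv2 F431611)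
theorem F467288 : act 5 n212730 = n210405 := d12_1 D212730 F457413 (iv5 D149022) D149023 (iv5 F234496)
def n212731 : Q := act 4 n149118
theorem D212731 : act 4 n149118 = n212731 := rfl
theorem F467289 : act 0 n212731 = n149171 := d18_2 (iv1 F234498) D212731 (iv4 D149171) (iv5 D70006) (iv4 D32492) (iv0 D15381) (iv4 F24955) D32487 D69984
theorem F467290 : act 1 n212731 = n149194 := d18_6 D212703 F467157 (iv1 F234306) D167836 F264401 D212731 (iv4 D149194) F234545 F234544
def n212732 : Q := act 6 n149118
theorem D212732 : act 6 n149118 = n212732 := rfl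
theorem F467291 : act 2 n212732 = n193643 := d3_1 D212732 (iv6 F404592) F404590
theorem F467292 : act 3 n212732 = n177923 := d7_1 D212732 (iv6 D177923) (iv3 F264403)
theorem F467293 : act 0 n212732 = n193637 := d21_4 (iv5 F456954) F456956 F264401 D212732 (iv6 D193637) (iv5 D102068) F289750 D87755 F134722 D149051
theorem F467294 : act 1 n212732 = n193644 := d15_1 (iv0 F467293) (iv7 D193644) (iv2 F390532)
theorem F467295 : act 0 n204619 = n185130 := d20_7 (iv4 F353735) (iv1 D183909) (iv4 F285757) (iv3 F390545) (iv1 F467294) F467292 (iv4 F433038) F287495 F135165 D88240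
def n212733 : Q := act 0 n149119
theorem D212733 : act 0 n149119 = n212733 := rfl
theorem F467296 : act 4 n212733 = n193559 := d18_1 D212733 (iv1 D193559) D193560 (iv5 F390283) F428504 (iv0 F434196) F434197 (iv0 D193691) F346246
theorem F467297 : act 1 n149131 = n212733 := d15_0 (iv0 D212733) (iv7 F467190) F467188
def n212734 : Q := act 3 n149119
theorem D212734 : act 3 n149119 = n212734 := rfl
theorem F467298 : act 5 n212734 = n187105 := d6_2 F346246 D212734 F369104
def n212735 : Q := act 3 n149131
theorem D212735 : act 3 n149131 = n212735 := rfl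
def n212736 : Q := act 6 n149131
theorem D212736 : act 6 n149131 = n212736 := rfl
theorem F467299 : act 4 n212736 = n149132 := d10_1 D212736 (iv6 D149132) D149131
theorem F467300 : act 3 n212736 = n209823 := d20_3 (iv4 F365378) F346052 (iv4 F467299) (iv1 F455070) (iv3 F452780) (iv4 D209224) (iv1 F218770) (iv4 F220143) (iv3 F455098) (iv1 F455101)
theorem F467301 : act 6 n209823 = n212735 := d7_2 D212736 F467300 (iv3 D212735)
def n212737 : Q := act 1 n149136
theorem D212737 : act 1 n149136 = n212737 := rfl
def n212738 : Q := act 2 n149136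
theorem D212738 : act 2 n149136 = n212738 := rfl
theorem F467302 : act 3 n212738 = n153882 := d0_2 D149136 D212738 (iv2 F241814) (iv3 F338053) F234522
theorem F467303 : act 7 n212738 = n154579 := d4_2 F467204 D212738 (iv2 F467202)
theorem F467304 : act 1 n212738 = n186630 := d15_0 (iv0 F467205) F467204 D212738
theorem E103987 : n212737 = n183393 := (c15_1 D212737 (iv0 F366779) (iv7 F467303) (iv2 D212738))
theorem F467305 : act 0 n183393 = n149136 := (sb E103987 (iv1 D212737))
theorem F467306 : act 5 n192357 = n212738 := d17_5 (iv1 F305571) (iv5 F307601) F316060 (iv5 F313918) (iv4 F386554) F467304 (iv5 D186630) (iv0 F348273) F209451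
def n212739 : Q := act 4 n149136
theorem D212739 : act 4 n149136 = n212739 := rfl
theorem F467307 : act 3 n212739 = n193892 := d5_1 D212739 (iv4 D193892) (iv3 F353164) (iv4 D149137) D149136
theorem F467308 : act 0 n212739 = n204594 := d18_2 F467305 D212739 (iv4 D204594) (iv5 D124029) F307071 F209459 F305579 (iv0 F317270) D183393
def n212740 : Q := act 5 n149136
theorem D212740 : act 5 n149136 = n212740 := rfl
theorem F467309 : act 2 n212740 = n192357 := d2_1 D212740 F467306 (iv2 D212738)
theorem F467310 : act 3 n212740 = n149138 := d6_1 D212740 (iv5 D149138) D149136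
theorem F467311 : act 7 n212740 = n192358 := d13_2 F467204 D212740 (iv5 F467203)
theorem F467312 : act 4 n212740 = n203458 := d17_4 (iv1 F310394) D183393 F467305 D212740 F428403 F246203 F313691 (iv0 D74857) (iv4 F307078)
theorem F467313 : act 1 n212740 = n192351 := d17_8 F459007 (iv5 F458989) (iv1 F458991) (iv5 F403379) F403382 D212726 (iv0 F467282) D212740 F459006
theorem F467314 : act 6 n212740 = n192635 := d21_3 D183393 F467305 D212740 (iv1 D192635) (iv6 D100471) D100470 F311794 (iv5 D74855) F308932 (iv1 F310394)
theorem F467315 : act 0 n212740 = n192360 := d21_4 D191547 (iv1 F431854) (iv5 F431855) (iv6 F467314) F386561 (iv5 D191822) F384477 (iv5 D191797) F233026 (iv1 F268294)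
def n212741 : Q := act 6 n149136
theorem D212741 : act 6 n149136 = n212741 := rfl
theorem F467316 : act 3 n212741 = n149139 := d7_1 D212741 (iv6 D149139) D149136
theorem F467317 : act 5 n212741 = n191611 := d12_1 D212741 F456188 (iv5 F431855) (iv6 F467314) (iv5 D212740)
def n212742 : Q := act 0 n149137
theorem D212742 : act 0 n149137 = n212742 := rfl
theorem F467318 : act 5 n212742 = n193691 := d17_1 D212742 (iv1 F456255) (iv5 F456254) (iv4 D149131) (iv5 D69984) F106342 (iv5 F363010) F363008 D149137
theorem F467319 : act 4 n212742 = n192957 := d18_1 D212742 (iv1 F388336) D193566 F423655 F423653 F439042 F439040 (iv0 D193887) F353163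
theorem F467320 : act 6 n212742 = n209222 := d21_5 (iv5 D202732) (iv1 D116639) D116640 F360849 D212742 F452772 (iv1 F459152) F459149 F438162 (iv1 F425324)
theorem F467321 : act 2 n202275 = n212742 := d15_3 (iv0 D212742) (iv0 F434183) F434182
theorem F467322 : act 1 n149142 = n212742 := d15_0 (iv0 D212742) (iv7 F467208) F467206
theorem F467323 : act 7 n212742 = n192956 := d15_2 F434185 F467322 (iv2 F434179)
def n212743 : Q := act 3 n149142
theorem D212743 : act 3 n149142 = n212743 := rfl
theorem F467324 : act 5 n212743 = n202227 := d6_2 F440591 D212743 (iv3 F440589)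
theorem F467325 : act 6 n212743 = n192960 := d7_2 (iv6 F338052) D212743 (iv3 F388348)
theorem F467326 : act 2 n202277 = n212743 := d3_3 F467325 (iv2 F388345) D202277
def n212744 : Q := act 3 n149145
theorem D212744 : act 3 n149145 = n212744 := rfl
theorem F467327 : act 5 n212744 = n202278 := d6_2 (iv5 F366577) D212744 F423453
theorem F467328 : act 6 n212744 = n202345 := d7_2 F366578 D212744 F423699
theorem F467329 : act 7 n212744 = n152765 := d8_2 F390299 D212744 (iv3 F390311)
theorem F467330 : act 0 n212744 = n152327 := d19_4 (iv1 F243628) (iv5 F338055) (iv4 F338054) D212744 (iv5 D152327) (iv4 D71866) (iv3 F86445) (iv1 F342536) F342538 (iv4 F308237) F106921 F199744 F311135 F324265 (iv3 F255173) (iv1 F438113) F438110 (iv4 F430749) F430748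
theorem F467331 : act 0 n152769 = n212744 := d20_4 D115525 F346034 (iv4 F346025) (iv3 F366269) (iv3 D212744) F338054 (iv1 F365482) F423443 (iv3 D202275) (iv1 D115524)
theorem F467332 : act 2 n152766 = n212744 := d15_3 (iv0 F467331) F348349 (iv7 F348364)
def n212745 : Q := act 3 n149146
theorem D212745 : act 3 n149146 = n212745 := rfl
theorem F467333 : act 2 n212745 = n202345 := d0_1 D212745 F423699 F348365 (iv3 F390311) F390298
theorem F467334 : act 5 n202340 = n212745 := d2_0 F467333 (iv5 D202345) (iv2 F423694)
theorem F467335 : act 6 n152766 = n212745 := d3_0 F467333 (iv6 F467328) (iv2 F467332)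
def n212746 : Q := act 5 n149146
theorem D212746 : act 5 n149146 = n212746 := rfl
theorem F467336 : act 2 n212746 = n202331 := d2_1 D212746 (iv5 F423655) F390298
theorem F467337 : act 3 n212746 = n202340 := d6_1 D212746 F467334 (iv3 D212745)
theorem F467338 : act 4 n212746 = n149214 := d9_1 D212746 (iv5 D149214) (iv4 D70035) D70036 D149216 (iv5 F338055) (iv4 F338054) F366577 F366576 (iv5 D149223) (iv4 D70040) D70041 D149225 F388328 (iv4 F388330)
theorem F467339 : act 7 n212746 = n202337 := d13_2 F467215 D212746 (iv5 F467220)
theorem F467340 : act 1 n212746 = n193948 := d17_8 (iv1 F353167) (iv5 D149231) (iv1 F158913) (iv5 F337145) F337146 (iv5 D149148) D149146 D212746 (iv4 D193948)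
theorem F467341 : act 0 n212746 = n193950 := d18_0 (iv4 D193950) (iv1 D102494) (iv4 F157406) F353163 (iv4 D149137) (iv0 D69986) D69988 D149146 D212746
theorem F467342 : act 6 n212746 = n202305 := d21_9 (iv5 F404236) (iv1 F404241) (iv5 F422648) F422649 F392446 (iv6 F234623) (iv5 F455158) (iv1 F455161) D212746 (iv1 F423565)
def n212747 : Q := act 6 n149146
theorem D212747 : act 6 n149146 = n212747 := rfl
theorem F467343 : act 3 n212747 = n152766 := d7_1 D212747 F467335 (iv3 D212745)
theorem F467344 : act 7 n212747 = n202345 := d14_2 F467215 D212747 (iv6 F467328) F467329 F467216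
theorem F467345 : act 5 n202346 = n212747 := d13_3 F467344 (iv5 D202345) D202346
def n212748 : Q := act 0 n149147
theorem D212748 : act 0 n149147 = n212748 := rfl
theorem F467346 : act 5 n212748 = n201942 := d21_8 (iv5 D115302) D115299 (iv5 F416779) (iv6 F433650) F433651 D204810 F433675 D212748 (iv6 D201942) (iv1 F364942)
theorem F467347 : act 6 n201943 = n212748 := d12_0 F467346 (iv6 D201942) (iv5 D115275) D115276 D201943
def n212749 : Q := act 1 n149147
theorem D212749 : act 1 n149147 = n212749 := rfl
def n212750 : Q := act 2 n149147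
theorem D212750 : act 2 n149147 = n212750 := rfl
theorem F467348 : act 3 n212750 = n202323 := d0_2 D149147 D212750 (iv2 F467227) (iv3 D212715) F234388
theorem F467349 : act 4 n212750 = n177991 := d1_2 (iv4 F234524) D212750 (iv2 D177991)
theorem F467350 : act 6 n212750 = n192280 := d3_2 (iv6 F433576) D212750 (iv2 F433571)
def n212751 : Q := act 7 n149147
theorem D212751 : act 7 n149147 = n212751 := rfl
theorem F467351 : act 3 n212751 = n149149 := d8_1 D212751 (iv7 D149149) D149147
theorem F467352 : act 4 n212751 = n177993 := d11_1 D212751 (iv7 D177993) (iv4 F234524)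
def n212752 : Q := act 0 n149148
theorem D212752 : act 0 n149148 = n212752 := rfl
theorem F467353 : act 5 n212752 = n149171 := d17_3 (iv1 D149146) D149148 D212752 (iv4 D149171) (iv5 D70006) F190376 D101020 D192955 (iv4 F388330)
theorem F467354 : act 4 n212752 = n149199 := d18_1 D212752 F415563 F415557 (iv5 F423442) (iv4 F423443) F365482 (iv4 F338054) (iv0 D149145) D149148
theorem F467355 : act 6 n212752 = n178657 := d21_5 (iv5 F422911) (iv1 F422915) D204808 F433663 D212752 (iv5 F355512) (iv1 D115709) D115710 F180044 D115717
theorem F467356 : act 1 n149238 = n212752 := d15_0 (iv0 D212752) (iv7 F393214) F393212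
theorem F467357 : act 3 n152325 = n212752 := d19_19 (iv1 F467356) (iv5 F455158) F455157 (iv3 F428222) (iv1 F428225) F338080 F332475 (iv3 D62566) (iv1 F47475) (iv5 F49871) F311588 (iv3 F252508) (iv1 D76662) D76663 F312456 D149918 (iv1 F280171) (iv5 F457170) F457169
theorem F467358 : act 7 n212752 = n152751 := d8_2 (iv7 F239961) F467357 (iv3 D152751)
def n212753 : Q := act 1 n149148
theorem D212753 : act 1 n149148 = n212753 := rfl
theorem F467359 : act 1 n212753 = n149238 := d15_1 D212753 (iv7 F467232) F467228
theorem F467360 : act 5 n212753 = n149194 := d17_7 (iv1 F234497) (iv5 D69984) (iv1 D32487) D32488 D69988 D149148 D212753 (iv0 F467285) (iv4 D212729)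
theorem F467361 : act 4 n212753 = n149180 := d17_9 (iv1 F443694) (iv5 F443696) (iv1 F234595) D149223 (iv4 F366576) (iv5 F366577) (iv0 D149145) D149148 D212753
theorem F467362 : act 2 n152751 = n212753 := d1_3 F467361 (iv2 F428501) (iv4 F428504)
def n212754 : Q := act 3 n149169
theorem D212754 : act 3 n149169 = n212754 := rfl
theorem F467363 : act 5 n212754 = n212701 := d6_2 (iv5 F234544) D212754 F467149
def n212755 : Q := act 4 n149169
theorem D212755 : act 4 n149169 = n212755 := rfl
theorem F467364 : act 2 n212755 = n212733 := d1_1 D212755 F467296 (iv2 F390276)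
theorem F467365 : act 7 n212755 = n202273 := d11_2 F390277 D212755 (iv4 F423440)
theorem F467366 : act 5 n212755 = n193888 := d16_1 D212755 (iv4 F391299) F353147 (iv4 F346254) (iv5 F428071) F428072 F427416 F390278 (iv2 F390276)
theorem F467367 : act 0 n212755 = n212709 := d17_0 F467189 (iv1 F456259) F456257 (iv4 D192956) (iv5 D101020) (iv0 F190377) D70025 F234545 D212755
theorem F467368 : act 1 n212755 = n204282 := d18_6 F364031 (iv4 F234518) (iv1 F243631) (iv4 F234296) (iv5 F234544) D212755 (iv4 D204282) (iv0 F404595) (iv5 D197503)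
theorem F467369 : act 3 n212755 = n156065 := d20_9 F357613 (iv1 F157011) (iv4 F329586) (iv3 F225255) F455003 F455000 (iv4 D149171) D149169 D212755 (iv1 F245212)
theorem E103988 : n212754 = n194116 := (c20_4 D204282 (iv1 F467368) (iv4 D212755) D212754 (iv1 D194116) F348228 F348235 D194121 (iv4 F403506) (iv3 F404591) F404595)
theorem F467370 : act 3 n194116 = n149169 := (sb E103988 (iv3 D212754))
theorem F467371 : act 5 n194116 = n212701 := (sb E103988 F467363)
def n212756 : Q := act 4 n149170
theorem D212756 : act 4 n149170 = n212756 := rfl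
theorem F467372 : act 2 n212756 = n202273 := d1_1 D212756 (iv4 F423440) F390279
theorem F467373 : act 5 n212756 = n193887 := d9_2 F427416 D212756 (iv4 F439040) F439043 F242059 F242058 (iv4 F234296) (iv5 F234544) D212755 F467366 (iv4 F391299) F353147 (iv4 F346254) (iv5 F428071) F428072
theorem F467374 : act 7 n212756 = n212733 := d11_2 (iv7 F390278) D212756 F467296
theorem F467375 : act 0 n212756 = n204282 := d17_0 F431845 F415562 (iv5 F423442) (iv4 F423443) F365483 (iv0 D70003) D70006 D149170 D212756
theorem F467376 : act 1 n212756 = n212709 := d18_6 (iv1 F236220) (iv4 F241370) (iv1 F428069) F428072 F427416 D212756 (iv4 D212709) F431612 F431608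
def n212757 : Q := act 6 n149171
theorem D212757 : act 6 n149171 = n212757 := rfl
theorem F467377 : act 2 n212757 = n203065 := d3_1 D212757 (iv6 F467236) F467235
theorem F467378 : act 4 n212757 = n149172 := d10_1 D212757 (iv6 D149172) D149171
theorem F467379 : act 5 n212757 = n202409 := d12_1 D212757 (iv6 D202409) F355512 (iv6 F467355) F467353
theorem F467380 : act 7 n212757 = n203067 := d14_2 F390282 D212757 F455100 (iv7 D209837) F390284
def n212758 : Q := act 3 n149177
theorem D212758 : act 3 n149177 = n212758 := rfl
theorem F467381 : act 2 n212758 = n210093 := d0_1 D212758 F456122 F220703 (iv3 F439049) F439048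
theorem F467382 : act 5 n212758 = n206391 := d6_2 F439043 D212758 (iv3 F440566)
theorem F467383 : act 7 n212758 = n189829 := d8_2 F462104 D212758 (iv3 F462099)
theorem F467384 : act 0 n212758 = n206178 := d20_4 (iv4 D154886) (iv1 F242060) (iv4 F242059) D212758 (iv3 D206178) (iv4 D127685) (iv1 D59945) (iv4 F94414) (iv3 F162368) (iv1 F353140)
theorem F467385 : act 6 n206174 = n212758 := d14_5 F467383 (iv6 D189829) (iv7 F377881) F377880 (iv7 F439577)
def n212759 : Q := act 6 n149177
theorem D212759 : act 6 n149177 = n212759 := rfl
theorem F467386 : act 2 n212759 = n164380 := d3_1 D212759 F439055 F439048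
theorem F467387 : act 3 n212759 = n206174 := d7_1 D212759 F467385 (iv3 D212758)
theorem F467388 : act 4 n212759 = n207413 := d10_1 D212759 F444776 (iv4 F242059)
theorem F467389 : act 7 n212759 = n206186 := d14_2 F462104 D212759 (iv6 D206186) (iv7 F225887) D211553
theorem F467390 : act 0 n212759 = n149181 := d21_4 (iv5 F408119) (iv1 F439041) F439043 D212759 (iv6 D149181) D149180 (iv1 F443694) (iv5 F443696) (iv6 F443702) F443703
theorem F467391 : act 1 n212759 = n206189 := d15_1 (iv0 F467390) F439645 (iv2 F366433)
def n212760 : Q := act 5 n149181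
theorem D212760 : act 5 n149181 = n212760 := rfl
theorem F467392 : act 2 n212760 = n206194 := d2_1 D212760 (iv5 D206194) (iv2 F366433)
theorem F467393 : act 3 n212760 = n198721 := d6_1 D212760 (iv5 D198721) (iv3 F358573)
theorem F467394 : act 7 n212760 = n206190 := d13_2 F366434 D212760 (iv5 D206190)
theorem F467395 : act 4 n212760 = n206993 := d16_2 (iv4 F234550) D212760 (iv5 D206993) F207876 (iv5 F319575) (iv4 F309311) (iv5 F333726) F363633 (iv2 F320013)
def n212761 : Q := act 0 n149187
theorem D212761 : act 0 n149187 = n212761 := rfl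
theorem F467396 : act 4 n212761 = n159123 := d18_3 F425395 F425394 D212761 (iv5 F350997) (iv4 F411759) (iv0 D199337) (iv4 F402903) (iv0 F465536) (iv5 D212369)
theorem F467397 : act 3 n212761 = n149467 := d20_5 (iv4 F380240) F380241 F234567 (iv3 F234559) D212761 (iv4 F328076) F315852 F356808 (iv3 F378347) (iv1 F378351)
theorem F467398 : act 5 n212761 = n195578 := d21_0 (iv1 F397424) D199380 (iv6 F411913) (iv1 F429116) F429112 F206163 (iv1 F188401) D70022 D149187 D212761
theorem F467399 : act 1 n204327 = n212761 := d15_0 (iv0 D212761) (iv7 F465859) F465856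
theorem F467400 : act 7 n212761 = n149241 := d15_2 (iv0 F432063) F467399 (iv2 F253027)
def n212762 : Q := act 5 n149187
theorem D212762 : act 5 n149187 = n212762 := rfl
theorem F467401 : act 2 n212762 = n204328 := d2_1 D212762 (iv5 F440055) F440052
theorem F467402 : act 3 n212762 = n149202 := d6_1 D212762 (iv5 D149202) (iv3 F234559)
theorem F467403 : act 6 n212762 = n149190 := d12_2 D149187 D212762 (iv5 D149190) (iv6 D70023) D70022
theorem F467404 : act 7 n212762 = n201469 := d13_2 F465859 D212762 (iv5 F465857)
theorem F467405 : act 0 n212762 = n204326 := d17_2 F253031 D212762 F432061 (iv4 F360155) F350975 (iv0 D85531) (iv5 F113958) (iv0 F315585) (iv4 F253029)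
theorem F467406 : act 4 n212762 = n204319 := d17_4 (iv1 F364977) (iv5 F253030) F253031 D212762 F432022 F221489 F356561 F331636 D111256
theorem F467407 : act 1 n212762 = n204325 := d17_8 F369471 (iv5 F403706) (iv1 F465840) (iv5 D212450) (iv4 F397422) (iv5 F467398) (iv0 D212761) D212762 F432053
def n212763 : Q := act 3 n149194
theorem D212763 : act 3 n149194 = n212763 := rfl
def n212764 : Q := act 5 n149195
theorem D212764 : act 5 n149195 = n212764 := rfl
theorem F467408 : act 2 n212764 = n201564 := d2_1 D212764 F422883 F390285
theorem F467409 : act 6 n212764 = n149197 := d12_2 D149195 D212764 (iv5 D149197) (iv6 D70026) D70025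
theorem F467410 : act 7 n212764 = n201565 := d13_2 F391006 D212764 F458930
theorem F467411 : act 1 n212764 = n201566 := d17_8 (iv1 F419303) (iv5 F465654) F465656 F440492 F421641 D209486 (iv0 F453898) D212764 F420948
theorem F467412 : act 1 n201085 = n212764 := d15_0 F467411 (iv7 F458926) F458923
theorem F467413 : act 4 n212764 = n209360 := d18_7 (iv1 F442597) D207900 F446930 F250834 (iv5 F177500) (iv4 F419035) F467412 (iv0 F453392) F445856
def n212765 : Q := act 0 n149215
theorem D212765 : act 0 n149215 = n212765 := rfl
theorem F467414 : act 5 n212765 = n208126 := d17_1 D212765 F447998 F429320 (iv4 D202892) F333593 (iv0 F261876) (iv5 F333601) F321728 (iv4 F234604)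
theorem F467415 : act 4 n212765 = n170573 := d18_3 (iv1 F320023) (iv4 F234604) D212765 (iv5 F382266) F382265 F259009 F334456 (iv0 F313223) F320020
theorem F467416 : act 3 n212765 = n190823 := d20_5 (iv4 F403120) F403121 (iv4 F408317) F408316 D212765 F381252 F416171 F416172 F408243 (iv1 F392700)
theorem F467417 : act 2 n211557 = n212765 := d15_3 (iv0 D212765) (iv0 F464724) F464723
theorem F467418 : act 1 n199852 = n212765 := d15_0 (iv0 D212765) (iv7 F397338) (iv2 F413825)
theorem F467419 : act 7 n212765 = n211556 := d15_2 (iv0 F464725) F467418 (iv2 F464721)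
theorem F467420 : act 6 n149265 = n212765 := d14_5 F467419 (iv6 D211556) (iv7 F413775) (iv6 F413779) F362069
theorem F467421 : act 0 n200291 = n208126 := d21_1 (iv5 F415849) (iv5 F467414) (iv6 F467420) (iv1 D149265) (iv6 D70063) (iv5 F70961) (iv1 F71418) (iv5 F147999) D190590 F380241
def n212766 : Q := act 6 n149230
theorem D212766 : act 6 n149230 = n212766 := rfl
theorem F467422 : act 2 n212766 = n186981 := d3_1 D212766 (iv6 D186981) (iv2 F353226)
theorem F467423 : act 3 n212766 = n149232 := d7_1 D212766 (iv6 D149232) D149230
theorem F467424 : act 4 n212766 = n199342 := d10_1 D212766 F411783 (iv4 F391566)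
theorem F467425 : act 5 n212766 = n211830 := d12_1 D212766 (iv6 D211830) F385934 F345462 F353238
theorem F467426 : act 0 n176927 = n212766 := d21_4 (iv5 D111909) F325197 D102818 (iv6 F276278) (iv6 D212766) (iv5 F353238) (iv1 F385929) F385931 (iv6 F382036) F382035
def n212767 : Q := act 6 n149236
theorem D212767 : act 6 n149236 = n212767 := rfl
theorem F467427 : act 2 n212767 = n192161 := d3_1 D212767 (iv6 D192161) F337139
theorem F467428 : act 3 n212767 = n193701 := d7_1 D212767 (iv6 D193701) (iv3 F337140)
theorem F467429 : act 7 n212767 = n211836 := d14_2 (iv7 F337141) D212767 F463241 F443510 (iv6 D193690)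
theorem F467430 : act 4 n212767 = n211761 := d20_6 F47523 D29599 D62600 D133384 (iv1 F390736) (iv3 F467428) (iv1 D211761) F226791 F103401 F95002
theorem F467431 : act 6 n211761 = n210121 := d10_2 D212767 F467430 F456252
theorem F467432 : act 0 n206279 = n212767 := d20_10 F467430 (iv1 D211761) F226791 F103401 F95002 (iv3 F97610) (iv4 F354114) (iv1 D128066) D128067 D206279
def n212768 : Q := act 6 n149239
theorem D212768 : act 6 n149239 = n212768 := rfl
theorem F467433 : act 2 n212768 = n193527 := d3_1 D212768 F422927 (iv2 F337143)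
theorem F467434 : act 3 n212768 = n194246 := d7_1 D212768 (iv6 D194246) (iv3 F234624)
theorem F467435 : act 4 n212768 = n202363 := d10_1 D212768 (iv6 F467231) F467230
theorem F467436 : act 5 n212768 = n193527 := d12_1 D212768 F422927 F337145 F158909 (iv5 F234625)
theorem F467437 : act 7 n212768 = n193526 := d14_2 D149239 D212768 F422925 (iv7 D103031) (iv6 F106430)
theorem F467438 : act 0 n212768 = n193528 := d21_10 F423922 (iv1 D202417) D202419 (iv6 F423934) F401745 (iv6 D192208) (iv5 F353166) (iv1 F158910) (iv5 F234625) D212768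
theorem F467439 : act 0 n192129 = n212768 := d21_4 F458648 (iv1 D198520) F349841 (iv6 F385678) (iv6 D212768) F234625 (iv1 F158902) (iv5 F353162) D193952 (iv1 F458651)
def n212769 : Q := act 5 n149264
theorem D212769 : act 5 n149264 = n212769 := rfl
theorem F467440 : act 0 n212769 = n206190 := d17_2 D149264 D212769 (iv5 D206190) (iv4 D127720) D127721 (iv0 F333618) F210841 (iv0 D70064) (iv4 F106462)
theorem F467441 : act 1 n212769 = n206194 := d17_6 (iv1 F346232) F346234 (iv1 F300254) F334996 (iv4 F362060) D212769 (iv5 D206194) (iv0 F346184) (iv4 F346186)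
def n212770 : Q := act 5 n149265
theorem D212770 : act 5 n149265 = n212770 := rfl
theorem F467442 : act 3 n212770 = n190822 := d6_1 D212770 (iv5 D190822) (iv3 F362068)
theorem F467443 : act 0 n212770 = n206194 := d17_2 (iv1 F444800) D212770 (iv5 D206194) (iv4 D127725) (iv5 F320015) (iv0 F210844) F210746 F210610 (iv4 F444798)
theorem F467444 : act 1 n212770 = n206190 := d17_6 F427108 F346218 F303001 D81761 (iv4 F344114) D212770 (iv5 D206190) F439636 F439634
def n212771 : Q := act 0 n149266
theorem D212771 : act 0 n149266 = n212771 := rfl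
theorem F467445 : act 5 n212771 = n212759 := d17_3 (iv1 D149265) D149266 D212771 F467388 (iv5 D207413) (iv0 D131367) (iv5 F114989) F313098 (iv4 F344114)
theorem F467446 : act 4 n208009 = n212771 := d16_2 (iv4 F213941) D208009 F467445 F467388 (iv5 D207413) (iv4 F344119) (iv5 F344118) F350876 F337574
def n212772 : Q := act 1 n149266
theorem D212772 : act 1 n149266 = n212772 := rfl
theorem F467447 : act 5 n212772 = n201234 := d17_7 F317383 D127716 F318798 F96213 (iv4 F106462) D149266 D212772 (iv0 F419570) F234550
theorem F467448 : act 3 n190282 = n212772 := d19_19 (iv1 D212772) (iv5 D149266) F106462 (iv3 F106456) (iv1 F362054) (iv5 F383448) F383446 F387134 (iv1 D192575) D192576 F387141 F383529 (iv1 F390695) F390693 F286255 (iv3 F160407) (iv1 F160413) (iv5 F251859) (iv4 F379265)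
def n212773 : Q := act 4 n149266
theorem D212773 : act 4 n149266 = n212773 := rfl
theorem F467449 : act 5 n212773 = n206806 := d16_3 (iv4 F106462) D149266 D212773 F442255 (iv5 F350903) F210598 (iv5 F210607) (iv7 D131397) F96250
def n212774 : Q := act 7 n149266
theorem D212774 : act 7 n149266 = n212774 := rfl
theorem F467450 : act 5 n212774 = n149267 := d13_1 D212774 (iv7 D149267) D149266
def n212775 : Q := act 5 n149274
theorem D212775 : act 5 n149274 = n212775 := rfl
theorem F467451 : act 3 n212775 = n149277 := d6_1 D212775 (iv5 D149277) (iv3 F234655)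
theorem F467452 : act 6 n212775 = n190738 := d12_2 D149274 D212775 (iv5 D190738) (iv6 D96524) (iv5 F106463)
theorem F467453 : act 1 n212775 = n166683 := d17_6 D89532 D187086 F386447 (iv5 F386445) F386444 D212775 F368534 (iv0 F368535) F137245
def n212776 : Q := act 7 n149274
theorem D212776 : act 7 n149274 = n212776 := rfl
theorem F467454 : act 3 n212776 = n149278 := d8_1 D212776 (iv7 D149278) (iv3 F234655)
theorem F467455 : act 1 n190976 = n212776 := d15_1 (iv0 F381788) (iv7 D212776) (iv2 F367870)
theorem F467456 : act 1 n212776 = n164443 := d15_1 F467455 (iv7 F419590) F419588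
def n212777 : Q := act 4 n149277
theorem D212777 : act 4 n149277 = n212777 := rfl
theorem F467457 : act 6 n212777 = n190740 := d10_2 (iv6 F234656) D212777 (iv4 D190740)
def n212778 : Q := act 4 n149279
theorem D212778 : act 4 n149279 = n212778 := rfl
theorem F467458 : act 0 n212778 = n205982 := d18_2 D149279 D212778 (iv4 D205982) F333397 F190719 F109307 F109304 F190739 D70084
theorem F467459 : act 1 n212778 = n194696 := d18_6 D133864 F313047 (iv1 F313932) F313935 F264129 D212778 F394134 (iv0 D126892) F329083
def n212779 : Q := act 6 n149279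
theorem D212779 : act 6 n149279 = n212779 := rfl
theorem F467460 : act 2 n212779 = n189179 := d3_1 D212779 F375971 (iv2 F264133)
theorem F467461 : act 3 n212779 = n203653 := d7_1 D212779 (iv6 F438111) F438109
theorem F467462 : act 7 n212779 = n189180 := d14_2 F264134 D212779 F438065 F438063 F359168
theorem F467463 : act 0 n212779 = n174455 := d21_4 (iv5 F206312) D167766 F264129 D212779 (iv6 D174455) D174454 F273326 (iv5 F343427) (iv6 F343426) (iv1 F241922)
theorem F467464 : act 0 n189170 = n212779 := d21_4 (iv5 F293994) (iv1 F158296) (iv5 F293998) D189170 (iv6 D212779) (iv5 F264129) (iv1 F440099) F440095 (iv6 F343443) F294650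
theorem F467465 : act 4 n212779 = n194700 := d20_0 (iv1 F394154) (iv4 F348158) F280899 F321560 (iv3 F204417) (iv4 F221095) F419887 F419885 (iv3 F375934) F467464
theorem F467466 : act 6 n194700 = n212778 := d10_2 D212779 F467465 (iv4 D212778)
def n212780 : Q := act 3 n149287
theorem D212780 : act 3 n149287 = n212780 := rfl
theorem F467467 : act 2 n212780 = n188890 := d0_1 D212780 (iv3 F420993) (iv2 F462631) (iv3 D211673) F315723
theorem F467468 : act 4 n212780 = n212514 := d5_2 D149287 D212780 F466188 F334090 F278140
theorem F467469 : act 5 n212780 = n201616 := d6_2 F375797 D212780 (iv3 F421164)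
theorem F467470 : act 6 n212780 = n170522 := d7_2 (iv6 F316531) D212780 (iv3 D170522)
theorem F467471 : act 7 n212780 = n188891 := d8_2 F333390 D212780 (iv3 F375136)
theorem F467472 : act 0 n212780 = n164203 := d19_4 D80542 F201146 D149287 D212780 F258808 (iv4 F375133) (iv3 F410700) F410702 (iv5 D196544) F165026 F100157 (iv1 D25282) (iv5 D12003) (iv4 F19842) (iv3 F324443) (iv1 F21583) (iv5 F13153) (iv4 F28774) (iv3 F57623)
theorem F467473 : act 0 n178364 = n212780 := d21_4 (iv5 D41308) D41306 (iv5 F133593) (iv6 F336014) F467470 F267965 F364024 F144692 F83717 (iv1 F69403)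
def n212781 : Q := act 4 n149294
theorem D212781 : act 4 n149294 = n212781 := rfl
theorem F467474 : act 5 n212781 = n212555 := d9_2 D149294 D212781 F466402 F353855 F190728 D79843 D166272 (iv5 F398377) (iv4 F398380) F383135 (iv4 D149281) (iv5 D70084) (iv4 D32521) D32522 D70088
theorem F467475 : act 6 n212781 = n185157 := d10_2 (iv6 F374222) D212781 (iv4 F374221)
theorem F467476 : act 7 n212781 = n184729 := d11_2 F261821 D212781 F362978
def n212782 : Q := act 5 n149320
theorem D212782 : act 5 n149320 = n212782 := rfl
theorem F467477 : act 2 n212782 = n191738 := d2_1 D212782 F384300 F261535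
theorem F467478 : act 3 n212782 = n153651 := d6_1 D212782 F241526 F234745
theorem F467479 : act 6 n212782 = n185412 := d12_2 (iv6 F356478) D212782 F287635 F136686 D89563
theorem F467480 : act 7 n212782 = n153631 := d13_2 (iv7 F234744) D212782 (iv5 D153631)
theorem F467481 : act 0 n212782 = n211611 := d17_2 F356471 D212782 (iv5 D211611) (iv4 D143388) F308020 F187875 F187873 F187911 (iv4 F337210)
theorem F467482 : act 1 n212782 = n211609 := d17_6 (iv1 F122443) (iv5 D79760) (iv1 F57046) D70111 D149320 D212782 (iv5 D211609) F346251 (iv4 D149336)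
def n212783 : Q := act 3 n149331
theorem D212783 : act 3 n149331 = n212783 := rfl
theorem F467483 : act 2 n212783 = n193191 := d0_1 D212783 F389131 F385555 (iv3 F448415) F448411
theorem F467484 : act 4 n212783 = n203941 := d5_2 D149331 D212783 (iv3 D203941) (iv4 D121687) (iv3 F106497)
theorem F467485 : act 5 n212783 = n182168 := d6_2 F462489 D212783 (iv3 F462488)
theorem F467486 : act 6 n212783 = n159410 := d7_2 (iv6 F309992) D212783 (iv3 D159410)
theorem F467487 : act 7 n212783 = n193190 := d8_2 F261471 D212783 (iv3 F389126)
theorem F467488 : act 0 n212783 = n193138 := d19_4 (iv1 D70117) D70118 D149331 D212783 F388882 (iv4 F449128) F449125 (iv1 F448660) F448662 F217091 F206953 (iv1 F96643) F166336 F314551 F189634 (iv1 F207456) F314139 F303987 (iv3 F303960)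
theorem F467489 : act 1 n212783 = n193193 := d15_1 (iv0 F467488) (iv7 D193193) (iv2 F388880)
def n212784 : Q := act 3 n149336
theorem D212784 : act 3 n149336 = n212784 := rfl
theorem F467490 : act 4 n212784 = n187458 := d5_2 D149336 D212784 F422252 F422248 F318765
theorem F467491 : act 6 n212784 = n201275 := d7_2 (iv6 F366294) D212784 (iv3 F419804)
theorem F467492 : act 7 n212784 = n187455 := d8_2 F314566 D212784 F370409
theorem F467493 : act 0 n191453 = n212784 := d20_4 F462472 F363931 (iv4 F429295) F429294 (iv3 D212784) (iv4 D149336) (iv1 F122443) F318078 D143491 D211636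
theorem F467494 : act 5 n212784 = n192891 := d17_1 F467493 F388117 (iv5 F397809) (iv4 D195674) F374607 F374605 F371363 F374054 (iv4 F383508)
theorem F467495 : act 2 n201292 = n212784 := d15_3 (iv0 F467493) F383509 (iv7 F419889)
def n212785 : Q := act 5 n149336
theorem D212785 : act 5 n149336 = n212785 := rfl
theorem F467496 : act 2 n212785 = n211612 := d2_1 D212785 (iv5 D211612) F321932
theorem F467497 : act 3 n212785 = n192891 := d6_1 D212785 (iv5 F467494) (iv3 D212784)
theorem F467498 : act 7 n212785 = n211652 := d13_2 F314566 D212785 (iv5 D211652)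
theorem F467499 : act 0 n212785 = n204132 := d17_2 F346249 D212785 (iv5 D204132) F356491 (iv5 F315962) (iv0 D139182) F101046 D67155 D143388
theorem F467500 : act 1 n212785 = n209697 := d17_6 F190056 (iv5 F107563) F234767 (iv5 D149337) D149336 D212785 F454665 (iv0 D153629) F109179
def n212786 : Q := act 3 n149339
theorem D212786 : act 3 n149339 = n212786 := rfl
theorem F467501 : act 4 n212786 = n211671 := d5_2 D149339 D212786 (iv3 D211671) (iv4 F362048) (iv3 F234537)
theorem F467502 : act 6 n212786 = n187196 := d7_2 (iv6 F457369) D212786 (iv3 F457370)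
theorem F467503 : act 7 n212786 = n203030 := d8_2 F321934 D212786 F426699
theorem F467504 : act 0 n212786 = n174315 := d20_4 (iv4 F318078) (iv1 F122442) D149339 D212786 F352602 (iv4 D117675) (iv1 D54206) (iv4 F85520) F85519 D67210
def n212787 : Q := act 5 n149339
theorem D212787 : act 5 n149339 = n212787 := rfl
theorem F467505 : act 2 n212787 = n211652 := d2_1 D212787 (iv5 D211652) F314564
theorem F467506 : act 7 n212787 = n211612 := d13_2 F321934 D212787 (iv5 D211612)
theorem F467507 : act 0 n212787 = n209697 := d17_2 (iv1 F346252) D212787 F454665 F261541 (iv5 F313498) F222358 F101051 F103105 D143384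
theorem F467508 : act 1 n212787 = n204132 := d17_6 F189470 F107556 F215741 (iv5 F191343) D149339 D212787 (iv5 D204132) F356490 (iv4 D166111)
theorem F467509 : act 6 n212787 = n204117 := d21_3 (iv5 D211609) (iv1 F346252) D212787 (iv1 F431104) F421395 (iv5 D192309) F307488 D153628 (iv6 F397579) (iv1 F462366)
def n212788 : Q := act 0 n149367
theorem D212788 : act 0 n149367 = n212788 := rfl
theorem F467510 : act 5 n212788 = n166278 := d17_3 (iv1 F191131) D149367 D212788 (iv4 F346253) (iv5 F353869) F353868 F313929 (iv0 D72841) (iv4 F77598)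
theorem F467511 : act 4 n212788 = n183131 := d18_1 D212788 (iv1 D183131) (iv4 F284742) (iv5 F358474) F206219 F199577 (iv4 F234843) (iv0 D149365) D149367
theorem F467512 : act 2 n189112 = n212788 := d15_3 (iv0 D212788) (iv0 F421331) F421329
theorem F467513 : act 1 n183173 = n212788 := d15_0 (iv0 D212788) F356653 F295354
theorem F467514 : act 7 n212788 = n189111 := d15_2 (iv0 F421333) F467513 (iv2 F421326)
theorem F467515 : act 3 n201329 = n212788 := d20_9 F284771 D183174 (iv4 F460220) F460219 F420464 F420518 (iv4 F459350) F459353 (iv4 F420037) (iv1 F467513)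
theorem F467516 : act 6 n208824 = n212788 := d21_3 F398390 F399605 (iv5 F451009) (iv1 F467513) (iv6 D183173) F295292 (iv1 F295288) D87428 D183163 F398392
def n212789 : Q := act 6 n149378
theorem D212789 : act 6 n149378 = n212789 := rfl
theorem F467517 : act 2 n212789 = n211648 := d3_1 D212789 (iv6 D211648) (iv2 F349352)
theorem F467518 : act 3 n212789 = n202917 := d7_1 D212789 F426187 F366452
theorem F467519 : act 5 n212789 = n193000 := d12_1 D212789 F388486 (iv5 D116322) (iv6 F319684) D149378
theorem F467520 : act 0 n192573 = n212789 := d17_2 (iv1 D192571) D192573 F467519 (iv4 D193000) (iv5 D101084) (iv0 F177370) D188768 F387113 (iv4 F387120)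
theorem F467521 : act 0 n212789 = n192630 := d21_7 F424486 (iv1 F424936) (iv5 D202649) F424652 F424650 (iv6 F388486) (iv5 F467519) F387276 F365353 (iv1 F424482)
def n212790 : Q := act 0 n149575
theorem D212790 : act 0 n149575 = n212790 := rfl
theorem F467522 : act 5 n212790 = n203153 := d17_3 (iv1 D149574) D149575 D212790 F427192 (iv5 F356516) (iv0 F233138) (iv5 F114932) (iv0 F314027) F314030
theorem F467523 : act 4 n212790 = n211297 := d18_1 D212790 (iv1 F462298) F462295 F387227 F252625 F314016 (iv4 F222942) F314019 D149575
theorem F467524 : act 7 n210873 = n212790 := d11_0 F467523 (iv7 D211297) (iv4 F459099)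
theorem F467525 : act 3 n192966 = n212790 := d20_5 F401762 F401761 (iv4 F387718) D194691 F394106 F467523 (iv1 F462298) F462295 F387229 (iv1 F385001)
theorem F467526 : act 2 n212790 = n212632 := d0_1 F467525 F466791 (iv2 F388515) F388516 (iv2 F388367)
theorem F467527 : act 6 n212790 = n192033 := d7_2 D192966 F467525 F385292
def n212791 : Q := act 1 n149575
theorem D212791 : act 1 n149575 = n212791 := rfl
theorem F467528 : act 7 n212791 = n212632 := d15_2 (iv0 D212790) D212791 (iv2 F467526)
theorem F467529 : act 5 n212791 = n202591 := d17_7 (iv1 F317919) F317920 (iv1 D62780) (iv5 F51656) (iv4 F106697) D149575 D212791 (iv0 F424656) F366557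
theorem F467530 : act 4 n212791 = n211283 := d18_7 (iv1 D143250) F103072 D67117 (iv4 F348335) (iv5 F384387) F384386 D212791 (iv0 F462297) (iv5 D211592)
theorem F467531 : act 6 n202649 = n212791 := d21_3 F458496 F223209 D202649 (iv1 D212791) F384384 F384382 F363203 (iv5 F459114) (iv6 D210877) (iv1 F458495)
theorem F467532 : act 2 n212791 = n210873 := d3_1 F467531 F459098 (iv2 F424933)
def n212792 : Q := act 5 n149657
theorem D212792 : act 5 n149657 = n212792 := rfl
theorem F467533 : act 2 n212792 = n187504 := d2_1 D212792 (iv5 D187504) (iv2 F235262)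
theorem F467534 : act 3 n212792 = n193009 := d6_1 D212792 (iv5 D193009) F235261
theorem F467535 : act 6 n212792 = n152234 := d12_2 F344233 D212792 (iv5 F339229) D203638 F429188
theorem F467536 : act 7 n212792 = n193117 := d13_2 (iv7 F235259) D212792 (iv5 D193117)
theorem F467537 : act 0 n212792 = n187911 := d17_2 (iv1 F235258) D212792 F387028 (iv4 D192547) F362390 F372275 (iv5 D188082) F139730 D100139
theorem F467538 : act 1 n212792 = n212262 := d17_6 (iv1 D189050) F294633 F375949 (iv5 D189173) F235260 D212792 F465023 (iv0 F377353) F376137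
def n212793 : Q := act 5 n149662
theorem D212793 : act 5 n149662 = n212793 := rfl
theorem F467539 : act 2 n212793 = n203923 := d2_1 D212793 (iv5 D203923) F355721
theorem F467540 : act 3 n212793 = n188786 := d6_1 D212793 (iv5 F396372) F396371
theorem F467541 : act 7 n212793 = n203922 := d13_2 F355724 D212793 (iv5 D203922)
theorem F467542 : act 0 n212793 = n212666 := d21_1 D212793 F466961 (iv6 D189291) F371807 (iv6 F420218) (iv5 D201370) (iv1 F205660) F390814 (iv6 D193734) F311506
theorem F467543 : act 6 n212793 = n159657 := d21_3 (iv5 D193733) F311506 D212793 (iv1 F251523) (iv6 D148735) F106070 (iv1 F55213) D76378 D159644 (iv1 F390809)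
def n212794 : Q := act 6 n149662
theorem D212794 : act 6 n149662 = n212794 := rfl
theorem F467544 : act 2 n212794 = n203924 := d3_1 D212794 (iv6 D203924) F355721
theorem F467545 : act 3 n212794 = n189625 := d7_1 D212794 (iv6 F396373) F396371
theorem F467546 : act 7 n212794 = n194142 := d14_2 F355724 D212794 (iv6 F416094) F416093 (iv6 F214546)
theorem F467547 : act 0 n195950 = n212794 := d21_4 (iv5 D187907) F369339 F369338 (iv6 F398833) (iv6 D212794) D212793 F467542 F466961 (iv6 D189291) F371807
theorem F467548 : act 1 n195948 = n212794 := d15_0 (iv0 F467547) (iv7 F399495) F399493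
def n212795 : Q := act 4 n149726
theorem D212795 : act 4 n149726 = n212795 := rfl
theorem F467549 : act 2 n212795 = n212623 := d1_1 D212795 (iv4 D212623) (iv2 F366343)
theorem F467550 : act 3 n212795 = n210823 := d5_1 D212795 (iv4 D210823) (iv3 F406667) F406668 (iv3 F235473)
theorem F467551 : act 5 n212795 = n211047 := d9_2 D149726 D212795 F459889 (iv5 D202486) F180217 F180189 D116678 D202742 F425374 F366835 (iv4 F407620) F407618 F322668 (iv5 D70331) (iv4 F106793)
theorem F467552 : act 6 n212795 = n195814 := d10_2 (iv6 F235474) D212795 (iv4 D195814)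
theorem F467553 : act 7 n212795 = n211670 := d11_2 F366344 D212795 (iv4 D211670)
theorem F467554 : act 0 n212795 = n206211 := d18_2 F349004 D212795 (iv4 D206211) F325370 (iv4 F180967) (iv0 F181990) (iv4 F225105) F225103 D142091
theorem F467555 : act 1 n212795 = n211036 := d18_6 D66082 F319138 (iv1 D70330) (iv4 F106793) D149726 D212795 F459830 (iv0 D140847) (iv5 D66084)
def n212796 : Q := act 5 n149998
theorem D212796 : act 5 n149998 = n212796 := rfl
theorem F467556 : act 2 n212796 = n188877 := d2_1 D212796 F375115 (iv2 F283546)
theorem F467557 : act 3 n212796 = n201481 := d6_1 D212796 (iv5 D201481) F347803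
theorem F467558 : act 4 n212796 = n212396 := d9_1 D212796 (iv5 D212396) F230267 F204748 (iv4 F244966) (iv5 F379361) (iv4 F379362) D203344 F427972 (iv5 D200789) (iv4 D113459) (iv5 D52374) D52373 D113455 (iv4 F347795)
theorem F467559 : act 6 n212796 = n188630 := d12_2 (iv6 F251976) D212796 F374248 (iv6 D159843) D159842
theorem F467560 : act 7 n212796 = n201793 := d13_2 F283547 D212796 F421811
theorem F467561 : act 1 n212796 = n201159 := d17_6 (iv1 F417882) (iv5 D200778) (iv1 D113454) D113455 (iv4 F347795) D212796 F421066 F430407 F430404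
def n212797 : Q := act 5 n150009
theorem D212797 : act 5 n150009 = n212797 := rfl
theorem F467562 : act 7 n212797 = n200252 := d13_2 F336924 D212797 (iv5 F415713)
theorem F467563 : act 1 n212797 = n207181 := d17_6 F418786 F342954 (iv1 F342953) F161577 D150009 D212797 F443680 F439467 F439464
theorem F467564 : act 0 n212797 = n209926 := d18_0 F455384 F463336 F463335 F463327 (iv4 F332627) (iv0 D114179) (iv4 F148004) F336925 D212797
theorem F467565 : act 1 n200377 = n209926 := d15_0 (iv0 F467564) F467562 (iv2 F416196)
def n212798 : Q := act 0 n150024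
theorem D212798 : act 0 n150024 = n212798 := rfl
theorem F467566 : act 4 n212798 = n203490 := d20_2 F385701 D212798 (iv3 F428532) F443707 F443704 F209159 (iv1 F168076) D127340 (iv3 F366678) F385704
theorem F467567 : act 3 n212798 = n210879 := d20_5 (iv4 F385347) (iv1 F385348) F346610 (iv3 F236014) D212798 F459125 (iv1 F429027) F429023 (iv3 F427847) F427851
theorem F467568 : act 6 n212798 = n206151 := d21_5 (iv5 D32743) D32742 D70581 D150024 D212798 (iv5 D206151) (iv1 D127537) (iv5 F319283) F319284 (iv1 D70583)
theorem F467569 : act 2 n155898 = n212798 := d15_3 (iv0 D212798) F428536 F427550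
def n212799 : Q := act 2 n150034
theorem D212799 : act 2 n150034 = n212799 := rfl
theorem F467570 : act 3 n212799 = n192425 := d0_2 D150034 D212799 (iv2 F386708) (iv3 D145112) (iv2 F107056)
theorem F467571 : act 4 n212799 = n203383 := d1_2 (iv4 F236050) D212799 (iv2 D203383)
theorem F467572 : act 6 n212799 = n197396 := d3_2 F366664 D212799 (iv2 D197396)
theorem F467573 : act 7 n212799 = n212049 := d4_2 (iv7 F236051) D212799 (iv2 D212049)
theorem F467574 : act 1 n212799 = n199935 := d15_0 (iv0 F414226) (iv7 F236051) D212799
theorem F467575 : act 1 n212048 = n212799 := d15_0 F467574 (iv7 F454067) (iv2 F464129)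
def n212800 : Q := act 5 n150034
theorem D212800 : act 5 n150034 = n212800 := rfl
theorem F467576 : act 3 n212800 = n150035 := d6_1 D212800 (iv5 D150035) D150034
theorem F467577 : act 7 n212800 = n203252 := d13_2 (iv7 F236051) D212800 F427536
def n212801 : Q := act 6 n150035
theorem D212801 : act 6 n150035 = n212801 := rfl
theorem F467578 : act 2 n212801 = n203251 := d3_1 D212801 (iv6 D203251) (iv2 F236052)
theorem F467579 : act 5 n212801 = n197398 := d12_1 D212801 (iv6 D197398) (iv5 D108137) (iv6 F315169) D150035
theorem F467580 : act 0 n212801 = n211988 := d21_4 (iv5 D128495) (iv1 F107059) D150035 D212801 (iv6 D211988) (iv5 D144709) (iv1 F162080) D195371 (iv6 F396842) (iv1 F206654)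
def n212802 : Q := act 5 n150036
theorem D212802 : act 5 n150036 = n212802 := rfl
theorem F467581 : act 3 n212802 = n150037 := d6_1 D212802 (iv5 D150037) D150036
theorem F467582 : act 0 n212802 = n211986 := d21_1 D212802 (iv5 D211986) (iv6 F396911) F403873 (iv6 D197294) F167382 (iv1 F167381) F167193 D197348 F405242
def n212803 : Q := act 6 n150037
theorem D212803 : act 6 n150037 = n212803 := rfl
theorem F467583 : act 5 n212803 = n194369 := d12_1 D212803 F392960 F390574 (iv6 D150038) D150037
def n212804 : Q := act 0 n150039
theorem D212804 : act 0 n150039 = n212804 := rfl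
theorem F467584 : act 3 n212804 = n155784 := d20_5 (iv4 F104149) (iv1 F107739) (iv4 F107740) D150039 D212804 (iv4 D155784) (iv1 D74108) D74110 (iv3 F110884) F110886
def n212805 : Q := act 1 n150039
theorem D212805 : act 1 n150039 = n212805 := rfl
def n212806 : Q := act 2 n150039
theorem D212806 : act 2 n150039 = n212806 := rfl
theorem F467585 : act 4 n212806 = n196446 := d1_2 F237856 D212806 (iv2 F400712)
def n212807 : Q := act 5 n150039
theorem D212807 : act 5 n150039 = n212807 := rfl
theorem F467586 : act 3 n212807 = n150040 := d6_1 D212807 (iv5 D150040) D150039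
def n212808 : Q := act 6 n150040
theorem D212808 : act 6 n150040 = n212808 := rfl
theorem F467587 : act 5 n212808 = n192413 := d12_1 D212808 (iv6 F396773) F396774 F340742 D150040
def n212809 : Q := act 5 n150042
theorem D212809 : act 5 n150042 = n212809 := rfl
theorem F467588 : act 1 n212809 = n203242 := d17_6 (iv1 F382406) (iv5 D191145) (iv1 F369963) D190235 (iv4 F383081) D212809 (iv5 D203242) (iv0 F392816) (iv4 D194319)
def n212810 : Q := act 5 n150044
theorem D212810 : act 5 n150044 = n212810 := rfl
theorem F467589 : act 2 n212810 = n150045 := d2_1 D212810 (iv5 D150045) D150044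
theorem F467590 : act 3 n212810 = n205924 := d6_1 D212810 F438442 (iv3 F366546)
theorem F467591 : act 6 n212810 = n205921 := d12_2 F366547 D212810 (iv5 D205921) F203998 (iv5 F176183)
theorem F467592 : act 1 n212810 = n212057 := d17_6 F365408 (iv5 D87859) D87857 D184199 (iv4 F358512) D212810 (iv5 F464161) F392551 (iv4 F187731)
def n212811 : Q := act 0 n150045
theorem D212811 : act 0 n150045 = n212811 := rfl
theorem F467593 : act 5 n212811 = n212045 := d17_3 F360495 D150045 D212811 F464111 F382440 F154114 D103207 F360497 F202139
theorem F467594 : act 4 n203244 = n212811 := d9_15 F467593 F464111 F382440 (iv4 F157781) (iv5 F349987) (iv4 F386766) F386768 (iv4 F463352) (iv5 D211875) (iv4 D144243) F296080 (iv4 F153283) F365340 F365343 D203244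
theorem F467595 : act 7 n212057 = n212811 := d13_0 F467593 F464115 F464161
theorem F467596 : act 6 n212811 = n212056 := d14_1 F467595 (iv7 D212056) (iv6 D145124) D145125 D212057
def n212812 : Q := act 4 n150045
theorem D212812 : act 4 n150045 = n212812 := rfl
theorem F467597 : act 5 n212812 = n192863 := d16_3 F358507 D150045 D212812 (iv4 D192863) (iv5 D100862) D100861 F358515 F358513 (iv2 F358505)
theorem F467598 : act 3 n212809 = n212812 := d20_5 (iv4 F228108) (iv1 F228110) F185815 (iv3 F427516) (iv1 F467588) (iv4 D212812) D212811 (iv4 F467594) F427519 (iv1 F206654)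
def n212813 : Q := act 6 n150045
theorem D212813 : act 6 n150045 = n212813 := rfl
theorem F467599 : act 2 n212813 = n205921 := d3_1 D212813 (iv6 F467591) F467589
theorem F467600 : act 3 n212813 = n150048 := d7_1 D212813 (iv6 D150048) (iv3 F236063)
theorem F467601 : act 5 n212813 = n205920 := d12_1 D212813 F438426 F204010 F315166 D150045
def n212814 : Q := act 3 n150047
theorem D212814 : act 3 n150047 = n212814 := rfl
theorem F467602 : act 4 n212814 = n212809 := d5_2 D150047 D212814 F467598 (iv4 D212812) F236063
theorem F467603 : act 5 n212814 = n192424 := d6_2 (iv5 F236067) D212814 (iv3 F386704)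
theorem F467604 : act 7 n212814 = n203250 := d8_2 (iv7 F236066) D212814 (iv3 D203250)
def n212815 : Q := act 6 n150047
theorem D212815 : act 6 n150047 = n212815 := rfl
theorem F467605 : act 2 n212815 = n203253 := d3_1 D212815 (iv6 D203253) (iv2 F236065)
theorem F467606 : act 4 n212815 = n150048 := d10_1 D212815 (iv6 D150048) D150047
def n212816 : Q := act 1 n150048
theorem D212816 : act 1 n150048 = n212816 := rfl
def n212817 : Q := act 7 n150048
theorem D212817 : act 7 n150048 = n212817 := rfl
def n212818 : Q := act 4 n150086
theorem D212818 : act 4 n150086 = n212818 := rfl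
theorem F467607 : act 2 n212818 = n211100 := d1_1 D212818 F460093 (iv2 F236182)
theorem F467608 : act 5 n212818 = n210945 := d9_2 D150086 D212818 F459407 F444904 (iv4 F309800) (iv5 D149007) F232758 D150084 (iv4 F460336) F460337 F228632 (iv5 F325025) D77726 (iv5 F311954) F232763
theorem F467609 : act 7 n212818 = n210992 := d11_2 (iv7 F236183) D212818 F459660
theorem F467610 : act 0 n212818 = n174501 := d18_2 F390010 D212818 F364902 (iv5 D154110) (iv4 F190975) F381117 (iv4 F390001) (iv0 D193482) D193483
def n212819 : Q := act 6 n150086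
theorem D212819 : act 6 n150086 = n212819 := rfl
theorem F467611 : act 2 n212819 = n212702 := d3_1 D212819 (iv6 D212702) (iv2 F236182)
theorem F467612 : act 3 n212819 = n199353 := d7_1 D212819 (iv6 F430745) F430742
theorem F467613 : act 0 n212819 = n199116 := d21_4 F234298 (iv1 F107087) D150086 D212819 (iv6 D199116) (iv5 F368626) (iv1 F368628) (iv5 F362455) (iv6 F362446) (iv1 F236193)
def n212820 : Q := act 4 n150089
theorem D212820 : act 4 n150089 = n212820 := rfl
theorem F467614 : act 2 n212820 = n211102 := d1_1 D212820 F460102 F241765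
theorem F467615 : act 3 n212820 = n202158 := d5_1 D212820 (iv4 D202158) D202157 F430758 (iv3 F430761)
theorem F467616 : act 6 n212820 = n210286 := d10_2 F452876 D212820 F456854
theorem F467617 : act 7 n212820 = n211101 := d11_2 F241767 D212820 F460095
theorem F467618 : act 0 n212820 = n192976 := d17_0 (iv5 F388409) F405308 (iv5 F460337) F460336 (iv5 D150084) (iv0 D70619) D70621 D150089 D212820
theorem F467619 : act 1 n212820 = n210946 := d18_6 D122993 (iv4 F381112) (iv1 D190798) (iv4 F350959) F350960 D212820 F459414 (iv0 F364470) F328876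
def n212821 : Q := act 4 n150093
theorem D212821 : act 4 n150093 = n212821 := rfl
theorem F467620 : act 2 n212821 = n196737 := d1_1 D212821 F401641 (iv2 F236199)
theorem F467621 : act 6 n212821 = n196734 := d10_2 F391805 D212821 (iv4 F401633)
theorem F467622 : act 7 n212821 = n212707 := d11_2 (iv7 F236200) D212821 (iv4 D212707)
theorem F467623 : act 0 n212821 = n199257 := d18_2 F431203 D212821 F411346 (iv5 D193483) F321067 (iv0 F185569) (iv4 F397611) (iv0 F397614) D204149
def n212822 : Q := act 6 n150103
theorem D212822 : act 6 n150103 = n212822 := rfl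
theorem F467624 : act 2 n212822 = n204861 := d3_1 D212822 F433891 (iv2 F236230)
theorem F467625 : act 3 n212822 = n190329 := d7_1 D212822 (iv6 D190329) F337010
theorem F467626 : act 4 n212822 = n208462 := d10_1 D212822 (iv6 D208462) (iv4 F337006)
theorem F467627 : act 7 n212822 = n195590 := d14_2 F439888 D212822 (iv6 D195590) (iv7 F397436) (iv6 F439891)
theorem F467628 : act 0 n212822 = n206132 := d21_4 F104601 D70635 D150103 D212822 F439388 D212036 F464063 (iv5 F464898) (iv6 D212237) (iv1 D145913)
theorem F467629 : act 0 n206131 = n212822 := d21_4 (iv5 F341983) F343386 D177028 (iv6 F439381) (iv6 D212822) (iv5 D150103) (iv1 F205691) (iv5 F439896) F439897 F432588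
def n212823 : Q := act 5 n150112
theorem D212823 : act 5 n150112 = n212823 := rfl
theorem F467630 : act 3 n212823 = n150113 := d6_1 D212823 (iv5 D150113) D150112
theorem F467631 : act 6 n212823 = n195285 := d12_2 (iv6 F366228) D212823 F396574 D202128 (iv5 F422992)
theorem F467632 : act 7 n212823 = n192985 := d13_2 (iv7 F236259) D212823 (iv5 D192985)
theorem F467633 : act 1 n212823 = n207329 := d17_6 (iv1 F92428) D125111 (iv1 F201005) (iv5 F307381) (iv4 F236258) D212823 F444374 (iv0 F354634) (iv4 D98891)
theorem F467634 : act 0 n212823 = n209579 := d18_0 F454214 (iv1 D177827) D177828 (iv5 F338877) D192563 F387087 F252709 F338836 D212823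
def n212824 : Q := act 4 n150115
theorem D212824 : act 4 n150115 = n212824 := rfl
theorem F467635 : act 2 n212824 = n192992 := d1_1 D212824 (iv4 D192992) (iv2 F280316)
theorem F467636 : act 3 n212824 = n209327 := d5_1 D212824 F453246 F431416 (iv4 D204189) (iv3 F357856)
theorem F467637 : act 5 n212824 = n206935 := d9_2 F357835 D212824 F442648 F355405 (iv4 F229128) F199606 F199605 (iv5 F236267) (iv4 F446417) (iv5 D207781) (iv4 F214644) F335159 (iv4 F233065) (iv5 F357838) (iv4 F243515)
theorem F467638 : act 7 n212824 = n192994 := d11_2 F280317 D212824 (iv4 D192994)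
theorem F467639 : act 0 n212824 = n205801 := d17_0 (iv5 D205801) (iv1 D126613) (iv5 F161949) (iv4 F347615) (iv5 D150113) F107112 (iv5 F155752) F236272 D212824
theorem F467640 : act 1 n212824 = n201815 := d18_6 D85902 F311082 F357839 (iv4 F243515) F357835 D212824 F421883 (iv0 F233144) (iv5 D85905)
def n212825 : Q := act 6 n150115
theorem D212825 : act 6 n150115 = n212825 := rfl
theorem F467641 : act 2 n212825 = n192993 := d3_1 D212825 (iv6 D192993) (iv2 F280316)
theorem F467642 : act 3 n212825 = n204190 := d7_1 D212825 (iv6 D204190) (iv3 F357856)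
theorem F467643 : act 7 n212825 = n209453 := d14_2 F280317 D212825 (iv6 D209453) F388468 (iv6 D192995)
def n212826 : Q := act 3 n150117
theorem D212826 : act 3 n150117 = n212826 := rfl
theorem F467644 : act 2 n212826 = n197679 := d0_1 D212826 (iv3 D197679) F388471 (iv3 D192996) (iv2 F236268)
theorem F467645 : act 4 n212826 = n197693 := d5_2 D150117 D212826 F405387 F404962 F236247
theorem F467646 : act 5 n212826 = n201835 := d6_2 (iv5 F355366) D212826 (iv3 D201835)
theorem F467647 : act 6 n212826 = n192971 := d7_2 (iv6 F236269) D212826 (iv3 D192971)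
theorem F467648 : act 7 n212826 = n212383 := d8_2 F443005 D212826 F465608
theorem F467649 : act 0 n212826 = n207906 := d20_10 (iv4 F450973) (iv1 F450975) F396564 F396562 F384488 (iv3 F446415) F446417 (iv1 D150116) D150117 D212826
def n212827 : Q := act 3 n150130
theorem D212827 : act 3 n150130 = n212827 := rfl
theorem F467650 : act 4 n212827 = n184060 := d5_2 D150130 D212827 (iv3 D184060) (iv4 D87796) (iv3 F107126)
theorem F467651 : act 5 n212827 = n201859 := d6_2 F338629 D212827 (iv3 D201859)
theorem F467652 : act 6 n212827 = n183999 := d7_2 (iv6 F236298) D212827 (iv3 D183999)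
def n212828 : Q := act 0 n150245
theorem D212828 : act 0 n150245 = n212828 := rfl
theorem F467653 : act 5 n212828 = n176476 := d17_1 D212828 F436765 (iv5 D205508) (iv4 D126196) D126197 F359804 (iv5 D113305) F161108 F353643
theorem F467654 : act 4 n212828 = n206069 := d18_1 D212828 (iv1 F439102) F261915 F318601 D147595 F316671 (iv4 F350717) (iv0 D150243) D150245
theorem F467655 : act 3 n212828 = n198924 := d20_5 F320724 (iv1 F353646) F353648 (iv3 F236445) D212828 F409917 (iv1 F174072) F169338 (iv3 F175126) (iv1 F175130)
theorem F467656 : act 6 n212828 = n176479 := d21_5 (iv5 D150251) (iv1 D70727) D70728 (iv6 F236446) D212828 (iv5 D176479) D176477 F346961 (iv6 F431574) F431576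
theorem F467657 : act 2 n176495 = n212828 := d15_3 (iv0 D212828) (iv0 F414880) F414879
theorem F467658 : act 1 n195040 = n212828 := d15_0 (iv0 D212828) (iv7 F353641) (iv2 F395533)
theorem F467659 : act 7 n212828 = n200624 := d15_2 F414881 F467658 (iv2 F417263)
def n212829 : Q := act 6 n150250
theorem D212829 : act 6 n150250 = n212829 := rfl
theorem F467660 : act 2 n212829 = n208924 := d3_1 D212829 F451430 F416685
theorem F467661 : act 3 n212829 = n150252 := d7_1 D212829 (iv6 D150252) D150250
theorem F467662 : act 5 n212829 = n193340 := d12_1 D212829 F415392 F415389 F381048 F345740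
theorem F467663 : act 7 n212829 = n208921 := d14_2 F248371 D212829 (iv6 D208921) (iv7 F239238) F338862
theorem F467664 : act 0 n212829 = n208923 := d21_10 (iv5 F451426) F392789 (iv5 F343420) (iv6 D162731) (iv1 D78199) D78201 F304295 (iv1 F334387) F345740 D212829
theorem F467665 : act 1 n212829 = n208922 := d15_1 (iv0 F467664) (iv7 F451421) (iv2 F451427)
def n212830 : Q := act 6 n150254
theorem D212830 : act 6 n150254 = n212830 := rfl
theorem F467666 : act 2 n212830 = n204838 := d3_1 D212830 F433776 (iv2 F236451)
theorem F467667 : act 3 n212830 = n167779 := d7_1 D212830 (iv6 F389860) F389859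
theorem F467668 : act 4 n212830 = n203829 := d10_1 D212830 (iv6 F430002) F381127
theorem F467669 : act 5 n212830 = n154541 := d12_1 D212830 (iv6 D154541) (iv5 D73242) D73243 F236450
theorem F467670 : act 7 n212830 = n206636 := d14_2 F363255 D212830 (iv6 D206636) (iv7 F440951) F440950
theorem F467671 : act 0 n212830 = n194390 := d21_10 (iv5 D194390) F355479 (iv5 D180627) (iv6 D86282) (iv1 F254423) D163755 F344882 F304755 F236450 D212830
def n212831 : Q := act 4 n150407
theorem D212831 : act 4 n150407 = n212831 := rfl
theorem F467672 : act 2 n212831 = n190330 := d1_1 D212831 (iv4 D190330) F306302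
theorem F467673 : act 3 n212831 = n207344 := d5_1 D212831 F444438 (iv3 F437865) (iv4 F439887) F439886
theorem F467674 : act 5 n212831 = n210337 := d9_2 D150407 D212831 F457086 (iv5 D138661) (iv4 D65111) (iv5 F212037) (iv4 F312572) D150406 (iv4 F334931) (iv5 D142627) (iv4 F330627) (iv5 D138653) (iv4 D65106) (iv5 F211926) (iv4 F313038)
theorem F467675 : act 6 n212831 = n195582 := d10_2 (iv6 F236766) D212831 (iv4 D195582)
theorem F467676 : act 7 n212831 = n190328 := d11_2 F337013 D212831 (iv4 D190328)
theorem F467677 : act 0 n212831 = n154821 := d17_0 F334937 F329256 F106752 F323407 F323413 (iv0 D118679) (iv5 F301287) F307000 D212831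
theorem F467678 : act 1 n212831 = n154931 := d18_6 (iv1 F55442) F309947 D65003 (iv4 F313038) D150407 D212831 (iv4 D154931) (iv0 F114825) (iv5 D76571)
def n212832 : Q := act 0 n150576
theorem D212832 : act 0 n150576 = n212832 := rfl
theorem F467679 : act 4 n212832 = n193130 := d18_3 F362171 (iv4 F237091) D212832 F388845 F376056 (iv0 F373454) F205289 D127767 (iv5 F362174)
theorem F467680 : act 3 n212832 = n192023 := d20_5 (iv4 D76253) F77019 D70976 D150576 D212832 (iv4 D192023) F349203 F252616 (iv3 D118884) (iv1 F114287)
theorem F467681 : act 2 n203410 = n212832 := d15_3 (iv0 D212832) F394252 (iv7 F428178)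
theorem F467682 : act 1 n203411 = n212832 := d15_0 (iv0 D212832) F237092 D203411
theorem F467683 : act 7 n212832 = n203409 := d15_2 F428187 F467682 (iv2 F428177)
def n212833 : Q := act 5 n150576
theorem D212833 : act 5 n150576 = n212833 := rfl
theorem F467684 : act 3 n212833 = n150577 := d6_1 D212833 (iv5 D150577) D150576
theorem F467685 : act 7 n212833 = n203412 := d13_2 (iv7 F237092) D212833 (iv5 D203412)
theorem F467686 : act 0 n212833 = n193072 := d17_2 (iv1 F394252) D212833 (iv5 F440483) F440482 F375928 F375907 F365294 (iv0 F273428) (iv4 F394250)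
theorem F467687 : act 4 n212833 = n192737 := d18_5 D64366 D136935 F362171 (iv4 F237091) D212833 F454953 (iv4 D209788) (iv0 D136943) (iv5 D64368)
def n212834 : Q := act 4 n150577
theorem D212834 : act 4 n150577 = n212834 := rfl
theorem F467688 : act 2 n212834 = n203362 := d1_1 D212834 F428048 (iv2 F237093)
theorem F467689 : act 5 n212834 = n159754 := d9_2 D150577 D212834 (iv4 D159754) (iv5 D76425) F55284 D70188 (iv4 F186770) D203325 F427886 (iv5 F370995) F374804 F186711 (iv4 F94176) (iv5 F52040) D70976
theorem F467690 : act 7 n212834 = n191277 := d11_2 (iv7 F237094) D212834 (iv4 F382858)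
theorem F467691 : act 0 n212834 = n193791 := d17_0 F391012 (iv1 F386978) D203354 F428014 F186949 F114267 D127347 (iv0 F237095) D212834
def n212835 : Q := act 4 n150600
theorem D212835 : act 4 n150600 = n212835 := rfl
theorem F467692 : act 2 n212835 = n188659 := d1_1 D212835 (iv4 F374328) (iv2 F357009)
theorem F467693 : act 3 n212835 = n188952 := d5_1 D212835 (iv4 F375246) F428182 F428179 (iv3 F362970)
theorem F467694 : act 6 n212835 = n198870 := d10_2 (iv6 F357011) D212835 (iv4 D198870)
theorem F467695 : act 7 n212835 = n189057 := d11_2 (iv7 F357012) D212835 F375616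
theorem F467696 : act 0 n212835 = n189056 := d18_2 D150600 D212835 (iv4 F375615) F364581 (iv4 F438135) (iv0 F438138) F423859 F357005 F189405
theorem F467697 : act 1 n212835 = n189055 := d18_6 (iv1 F415359) F415363 (iv1 F359961) F347895 (iv5 F357010) D212835 F438363 F438362 (iv5 F409544)
theorem F467698 : act 5 n188658 = n212835 := d12_5 F467694 F466489 (iv6 D212572) (iv5 F241642) (iv6 F374326)
def n212836 : Q := act 4 n150607
theorem D212836 : act 4 n150607 = n212836 := rfl
theorem F467699 : act 2 n212836 = n150608 := d1_1 D212836 (iv4 D150608) D150607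
theorem F467700 : act 3 n212836 = n152813 := d5_1 D212836 (iv4 F386748) (iv3 F424012) F424013 (iv3 F237143)
theorem F467701 : act 6 n212836 = n205884 := d10_2 F442661 D212836 (iv4 F442659)
theorem F467702 : act 7 n212836 = n152794 := d11_2 F360757 D212836 (iv4 F360754)
theorem F467703 : act 0 n212836 = n152793 := d17_0 F429100 (iv1 D203616) (iv5 D119637) F87041 (iv5 F51354) D69676 (iv5 F353039) F357008 D212836
theorem F467704 : act 1 n212836 = n152792 := d18_6 F388869 F219977 F424014 F424013 (iv5 F237144) D212836 F366267 F364583 D193135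
def n212837 : Q := act 1 n150608
theorem D212837 : act 1 n150608 = n212837 := rfl
theorem F467705 : act 1 n212837 = n152794 := d15_1 D212837 (iv7 F467702) F467699
theorem F467706 : act 7 n212837 = n152793 := d15_2 (iv0 F422818) D212837 (iv2 F438331)
theorem F467707 : act 4 n212837 = n205896 := d18_7 (iv1 F438361) (iv4 F424158) F424161 F354207 (iv5 F107547) D150608 D212837 F438332 (iv5 F438359)
theorem F467708 : act 3 n209785 = n212837 := d20_3 (iv4 F455011) (iv1 D209784) D209785 (iv1 D212837) F237145 (iv4 D71870) (iv1 D33213) D33214 D71874 D152344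
theorem F467709 : act 2 n212837 = n152792 := d0_1 F467708 (iv3 F422797) F438322 D202063 (iv2 F454943)
theorem F467710 : act 6 n212837 = n198879 := d7_2 (iv6 F454944) F467708 (iv3 F409713)
def n212838 : Q := act 5 n150608
theorem D212838 : act 5 n150608 = n212838 := rfl
theorem F467711 : act 3 n212838 = n152334 := d6_1 D212838 (iv5 D152334) (iv3 F237145)
theorem F467712 : act 7 n212838 = n152795 := d13_2 (iv7 F237146) D212838 (iv5 D152795)
theorem F467713 : act 0 n212838 = n203613 := d17_2 (iv1 D212837) D212838 (iv5 D203613) (iv4 F409543) F409544 (iv0 F365114) F364581 D205896 (iv4 F467707)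
theorem F467714 : act 1 n212838 = n202027 := d17_6 (iv1 F110851) D120075 F354179 (iv5 F107547) D150608 D212838 (iv5 D202027) F346466 (iv4 D155864)
def n212839 : Q := act 5 n150624
theorem D212839 : act 5 n150624 = n212839 := rfl
theorem F467715 : act 2 n212839 = n210360 := d2_1 D212839 (iv5 D210360) F315880
theorem F467716 : act 3 n212839 = n209463 := d6_1 D212839 F453787 F360990
theorem F467717 : act 6 n212839 = n209460 := d12_2 (iv6 F360989) D212839 (iv5 D209460) D209461 (iv5 F453785)
theorem F467718 : act 7 n212839 = n210357 := d13_2 F315870 D212839 (iv5 D210357)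
theorem F467719 : act 4 n212839 = n211655 := d16_2 D150624 D212839 (iv5 D211655) F226223 (iv5 F314153) F77262 D48974 F315865 (iv2 F315873)
theorem F467720 : act 0 n212839 = n211593 := d17_2 (iv1 F397546) D212839 F462301 F226073 F320544 D118826 (iv5 F427801) F427804 (iv4 F397545)
theorem F467721 : act 1 n212839 = n211584 := d17_6 (iv1 D53615) (iv5 F317422) D32881 D70996 D150624 D212839 (iv5 D211584) F348332 (iv4 D116335)
def n212840 : Q := act 3 n150668
theorem D212840 : act 3 n150668 = n212840 := rfl
theorem F467722 : act 2 n212840 = n208911 := d0_1 D212840 F451371 (iv2 F339509) F348589 (iv2 F264120)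
theorem F467723 : act 4 n212840 = n198035 := d5_2 F364236 D212840 (iv3 F459636) (iv4 F459634) (iv3 F393441)
theorem F467724 : act 5 n212840 = n203835 := d6_2 F237210 D212840 F430031
theorem F467725 : act 6 n212840 = n165937 := d7_2 F430610 D212840 (iv3 F430614)
theorem F467726 : act 7 n212840 = n212463 := d8_2 F344686 D212840 F465909
theorem F467727 : act 0 n212840 = n165656 := d20_10 (iv4 F386925) F386926 F304199 (iv3 D58653) F56361 (iv3 F119466) F302658 D174678 F364236 D212840
def n212841 : Q := act 5 n150685
theorem D212841 : act 5 n150685 = n212841 := rfl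
theorem F467728 : act 2 n212841 = n150690 := d2_1 D212841 (iv5 D150690) (iv2 F237228)
theorem F467729 : act 3 n212841 = n191829 := d6_1 D212841 F384855 (iv3 F384858)
theorem F467730 : act 4 n212841 = n192568 := d9_1 D212841 (iv5 F391993) F391992 F315614 (iv4 F309479) F313398 (iv4 F100767) D138316 (iv4 F387235) (iv5 F424637) F424635 F317920 (iv4 F314126) F194689 D150685
theorem F467731 : act 7 n212841 = n210335 := d13_2 F312927 D212841 (iv5 D210335)
theorem F467732 : act 0 n212841 = n202651 := d17_2 (iv1 F237229) D212841 (iv5 D202651) F348316 F348314 D133738 (iv5 F342592) (iv0 D120000) (iv4 F189444)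
theorem F467733 : act 1 n212841 = n191764 := d17_6 D53614 (iv5 F319693) (iv1 F194691) F194689 D150685 D212841 F384387 (iv0 D116258) F84543
theorem F467734 : act 6 n212841 = n192567 := d21_3 F372544 (iv1 F237229) D212841 (iv1 F450832) (iv6 D208780) F405054 (iv1 D197621) (iv5 F216923) (iv6 F365569) F372545
def n212842 : Q := act 3 n150688
theorem D212842 : act 3 n150688 = n212842 := rfl
theorem F467735 : act 2 n212842 = n184343 := d0_1 D212842 F286279 (iv2 F159652) (iv3 F362975) (iv2 F237237)
theorem F467736 : act 4 n212842 = n190121 := d5_2 F237236 D212842 F378926 (iv4 D119158) (iv3 F186691)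
theorem F467737 : act 5 n212842 = n191766 := d6_2 (iv5 F365644) D212842 F384394
theorem F467738 : act 6 n212842 = n150897 := d7_2 (iv6 F237238) D212842 (iv3 D150897)
theorem F467739 : act 7 n212842 = n193702 := d8_2 F366638 D212842 F427805
theorem F467740 : act 0 n212842 = n193700 := d20_10 (iv4 D193700) (iv1 F368774) (iv4 F388098) (iv3 F457145) (iv1 F457148) (iv3 F364011) F278923 F232639 F237236 D212842
theorem F467741 : act 1 n212842 = n192156 := d15_1 (iv0 F467740) F385800 (iv2 F390722)
def n212843 : Q := act 0 n150690
theorem D212843 : act 0 n150690 = n212843 := rfl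
theorem F467742 : act 5 n212843 = n167923 := d17_1 D212843 (iv1 F319296) D202648 F424930 (iv5 F337090) (iv0 F337086) (iv5 F387227) (iv0 D192607) (iv4 F360919)
theorem F467743 : act 4 n212843 = n155507 := d18_1 D212843 (iv1 F459101) F459099 F364012 F278923 F232647 (iv4 F237234) (iv0 D150687) D150690
theorem F467744 : act 1 n210335 = n212843 := d15_0 (iv0 D212843) (iv7 F366564) (iv2 F457076)
theorem F467745 : act 7 n191764 = n212843 := d11_0 F467743 (iv7 F366587) (iv4 F384386)
theorem F467746 : act 2 n212843 = n202651 := d15_3 (iv0 F467732) F467733 F467745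
def n212844 : Q := act 1 n150690
theorem D212844 : act 1 n150690 = n212844 := rfl
theorem F467747 : act 1 n212844 = n210335 := d15_1 D212844 (iv7 F467731) F467728
theorem F467748 : act 7 n212844 = n202651 := d15_2 (iv0 D212843) D212844 (iv2 F467746)
theorem F467749 : act 5 n212844 = n167924 := d17_7 (iv1 F319293) F191355 (iv1 F191306) F89222 D71051 D150690 D212844 (iv0 F319295) F181211
theorem F467750 : act 4 n212844 = n160096 := d17_9 (iv1 F466794) (iv5 D212632) (iv1 D148526) D148528 (iv4 F424951) F424946 (iv0 D150687) D150690 D212844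
theorem F467751 : act 2 n191764 = n212844 := d1_3 F467750 F252672 (iv4 F384386)
theorem F467752 : act 6 n177827 = n212844 := d10_0 F467750 (iv6 F454216) F454214
def n212845 : Q := act 6 n150710
theorem D212845 : act 6 n150710 = n212845 := rfl
theorem F467753 : act 3 n212845 = n156332 := d7_1 D212845 F245670 (iv3 F315252)
theorem F467754 : act 5 n212845 = n156325 := d12_1 D212845 (iv6 D156325) (iv5 D74355) (iv6 F312833) D150710
def n212846 : Q := act 3 n150751
theorem D212846 : act 3 n150751 = n212846 := rfl
theorem F467755 : act 2 n212846 = n201355 := d0_1 D212846 (iv3 F420122) (iv2 F375292) (iv3 F374500) (iv2 F374499)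
theorem F467756 : act 4 n212846 = n187514 := d5_2 D150751 D212846 (iv3 F370639) (iv4 D159396) F114273
theorem F467757 : act 5 n212846 = n189221 := d6_2 F349236 D212846 F376141
theorem F467758 : act 7 n212846 = n201354 := d8_2 F250943 D212846 F420115
theorem F467759 : act 0 n212846 = n159844 := d19_4 F52108 D71078 D150751 D212846 (iv5 D159844) (iv4 F142863) F142862 (iv1 F205450) D43492 D92965 F339940 (iv1 F350047) F350050 F186217 F185672 (iv1 D118164) (iv5 D54436) (iv4 F42409) F42408
theorem F467760 : act 0 n188466 = n212846 := d20_4 F345193 F201842 F345199 (iv3 F373577) (iv3 D212846) (iv4 D150751) (iv1 F114976) (iv4 F329721) F139312 (iv1 F345198)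
def n212847 : Q := act 0 n150755
theorem D212847 : act 0 n150755 = n212847 := rfl
theorem F467761 : act 5 n212847 = n204259 := d17_1 D212847 (iv1 F431714) (iv5 F361591) F246534 (iv5 F321748) (iv0 F302644) F363159 F320334 (iv4 F237315)
theorem F467762 : act 4 n212847 = n151370 := d18_3 F318147 (iv4 F237315) D212847 (iv5 F312015) F162845 F305004 F323439 (iv0 F341095) F318156
theorem F467763 : act 6 n212847 = n210244 := d21_5 D71355 (iv1 F237314) (iv5 D150754) D150755 D212847 (iv5 D210244) (iv1 F233633) F350019 F320807 F107623
theorem F467764 : act 1 n209979 = n212847 := d15_0 (iv0 D212847) (iv7 F360987) D209979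
theorem F467765 : act 3 n210245 = n212847 := d20_9 F455605 (iv1 F318148) F318149 F366417 (iv1 F222535) (iv3 F455049) F455050 F365830 (iv4 F456725) (iv1 F467764)
theorem F467766 : act 7 n212847 = n155613 := d8_2 (iv7 F456729) F467765 (iv3 F408897)
theorem F467767 : act 2 n212847 = n155609 := d15_3 (iv0 F359181) F366164 (iv7 F467766)
def n212848 : Q := act 1 n150755
theorem D212848 : act 1 n150755 = n212848 := rfl
theorem F467768 : act 1 n212848 = n209979 := d15_1 D212848 F455607 F366163
theorem F467769 : act 7 n212848 = n155609 := d15_2 (iv0 D212847) D212848 (iv2 F467767)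
theorem F467770 : act 5 n212848 = n192021 := d17_7 (iv1 F424509) F366685 F316006 D171052 F360985 F360983 D212848 F385236 (iv4 F424505)
theorem F467771 : act 4 n212848 = n151371 := d17_9 (iv1 D151371) (iv5 F114910) (iv1 F339072) (iv5 D143568) D143567 (iv5 F456211) (iv0 D210111) F360983 D212848
theorem F467772 : act 2 n155613 = n212848 := d1_3 F467771 F247792 D155613
theorem F467773 : act 6 n195221 = n212848 := d10_0 F467771 F333264 D195221
theorem F467774 : act 3 n212848 = n210717 := d19_3 (iv1 F307952) F312013 (iv4 F467771) (iv1 D210717) F389824 (iv4 F456472) (iv3 F460882) (iv1 F460880) F423888 F404107 F315120 (iv1 F316232) (iv5 F318505) (iv4 F307211) F301898 (iv1 D36829) (iv5 F300286) (iv4 F53223) D73718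
def n212849 : Q := act 6 n150764
theorem D212849 : act 6 n150764 = n212849 := rfl
theorem F467775 : act 3 n212849 = n183111 := d7_1 D212849 (iv6 F374206) F374204
theorem F467776 : act 4 n212849 = n151347 := d10_1 D212849 (iv6 D151347) (iv4 F237329)
def n212850 : Q := act 6 n150772
theorem D212850 : act 6 n150772 = n212850 := rfl
theorem F467777 : act 2 n212850 = n191967 := d3_1 D212850 (iv6 D191967) F364321
theorem F467778 : act 3 n212850 = n150774 := d7_1 D212850 (iv6 D150774) D150772
theorem F467779 : act 4 n212850 = n174583 := d10_1 D212850 (iv6 F427609) F427599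
theorem F467780 : act 7 n212850 = n191441 := d14_2 F364322 D212850 (iv6 F452869) F452870 (iv6 F350288)
theorem F467781 : act 0 n192521 = n212850 := d21_4 (iv5 F390000) (iv1 F390006) (iv5 F390023) (iv6 F390026) (iv6 D212850) F364320 (iv1 D99423) D99424 F153151 D149017
theorem F467782 : act 5 n191442 = n212850 := d13_3 F467780 (iv5 D191441) D191442
def n212851 : Q := act 6 n150773
theorem D212851 : act 6 n150773 = n212851 := rfl
theorem F467783 : act 2 n212851 = n193120 := d3_1 D212851 (iv6 D193120) (iv2 F335921)
theorem F467784 : act 3 n212851 = n188256 := d7_1 D212851 (iv6 F372866) F335922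
theorem F467785 : act 4 n212851 = n188188 := d10_1 D212851 (iv6 F372628) F335923
theorem F467786 : act 7 n212851 = n188269 := d14_2 (iv7 F335914) D212851 F372909 (iv7 F372813) F372812
theorem F467787 : act 0 n212851 = n159730 := d21_4 (iv5 D71355) F107622 D150773 D212851 F366974 D187608 (iv1 F384214) (iv5 D191704) (iv6 F349205) F162681
theorem F467788 : act 0 n159740 = n212851 := d18_2 (iv1 F151790) D159740 F467785 (iv5 F374089) F374091 (iv0 F374092) F368491 F283584 F251566
def n212852 : Q := act 5 n150774
theorem D212852 : act 5 n150774 = n212852 := rfl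
theorem F467789 : act 3 n212852 = n191442 := d6_1 D212852 F467782 F467778
theorem F467790 : act 4 n212852 = n191463 := d9_1 D212852 F383519 F374696 (iv5 D175477) (iv4 F129402) (iv5 F342384) (iv4 F224585) D211301 F461031 F448728 F448724 F385395 F332411 (iv5 F313276) (iv4 F237338)
theorem F467791 : act 7 n212852 = n191440 := d13_2 F460959 D212852 F460960
def n212853 : Q := act 3 n150849
theorem D212853 : act 3 n150849 = n212853 := rfl
theorem F467792 : act 6 n212853 = n212174 := d7_2 F459947 D212853 (iv3 F464619)
theorem F467793 : act 7 n212853 = n212567 := d8_2 F237580 D212853 (iv3 D212567)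
theorem F467794 : act 5 n191393 = n212853 := d12_5 F467792 (iv5 F464620) (iv6 D199251) D199250 F411325
def n212854 : Q := act 5 n150849
theorem D212854 : act 5 n150849 = n212854 := rfl
theorem F467795 : act 2 n212854 = n212565 := d2_1 D212854 (iv5 D212565) F237579
theorem F467796 : act 3 n212854 = n191393 := d6_1 D212854 F467794 (iv3 D212853)
theorem F467797 : act 7 n212854 = n199749 := d13_2 F237580 D212854 F439982
theorem F467798 : act 4 n212854 = n172536 := d16_2 (iv4 F237581) D212854 (iv5 F355918) (iv4 D166490) D166491 F346916 F308699 (iv7 F230732) (iv2 F230733)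
theorem F467799 : act 1 n212854 = n199814 := d17_6 (iv1 F360890) F360892 F425160 F425157 (iv4 F237581) D212854 F413612 F359815 F359816
def n212855 : Q := act 5 n150853
theorem D212855 : act 5 n150853 = n212855 := rfl
theorem F467800 : act 2 n212855 = n202970 := d2_1 D212855 (iv5 F427492) (iv2 F427495)
theorem F467801 : act 3 n212855 = n150855 := d6_1 D212855 (iv5 D150855) D150853
theorem F467802 : act 4 n212855 = n182962 := d9_1 D212855 F284556 (iv4 F146977) (iv5 F147378) D190192 (iv5 F379052) D210450 F457589 F393509 F347307 (iv4 F380416) (iv5 F381440) (iv4 F457597) (iv5 D210452) F366535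
theorem F467803 : act 6 n212855 = n202968 := d12_2 F460345 D212855 (iv5 F426429) F422808 D211151
theorem F467804 : act 7 n212855 = n190703 := d13_2 F366593 D212855 F380680
theorem F467805 : act 0 n212855 = n201511 := d17_2 (iv1 F433935) D212855 (iv5 F425941) (iv4 F425939) D211967 F463772 (iv5 F379157) (iv0 F429219) F429217
def n212856 : Q := act 3 n150906
theorem D212856 : act 3 n150906 = n212856 := rfl
theorem F467806 : act 2 n212856 = n184295 := d0_1 D212856 (iv3 D184295) (iv2 F306643) (iv3 F327049) F320759
theorem F467807 : act 4 n212856 = n162751 := d5_2 F352798 D212856 (iv3 F348126) (iv4 D117073) D117072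
theorem F467808 : act 5 n212856 = n162730 := d6_2 F334423 D212856 (iv3 F334412)
theorem F467809 : act 7 n212856 = n202560 := d8_2 F320765 D212856 (iv3 D202560)
theorem F467810 : act 0 n212856 = n204912 := d19_4 (iv1 F425947) (iv5 D202867) F352798 D212856 F434133 (iv4 D157994) (iv3 F248865) F427696 F427695 F389004 F367477 (iv1 F366234) (iv5 F351865) (iv4 F397230) (iv3 D195529) F168376 D197317 (iv4 F457757) F457756
theorem F467811 : act 0 n204256 = n212856 := d20_4 F366826 (iv1 F431705) (iv4 D204257) D204256 (iv3 D212856) (iv4 F352798) F352795 (iv4 F244608) (iv3 F382824) F382827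
def n212857 : Q := act 5 n150913
theorem D212857 : act 5 n150913 = n212857 := rfl
theorem F467812 : act 2 n212857 = n211151 := d2_1 D212857 (iv5 D211151) F348825
theorem F467813 : act 3 n212857 = n150915 := d6_1 D212857 (iv5 D150915) D150913
theorem F467814 : act 4 n212857 = n199913 := d9_1 D212857 F414117 (iv4 F397833) F397834 (iv4 F171691) D115417 F351414 F351418 (iv4 F346906) (iv5 D155954) F110928 (iv5 F85071) F85073 D115420 F351431
theorem F467815 : act 6 n212857 = n203233 := d12_2 F426435 D212857 F427492 (iv6 D202970) D202969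
theorem F467816 : act 7 n212857 = n202598 := d13_2 (iv7 F351436) D212857 (iv5 D202598)
theorem F467817 : act 0 n212857 = n199979 := d17_2 (iv1 F351434) D212857 (iv5 F458637) (iv4 D210734) (iv5 D139632) (iv0 F101267) D66158 D141071 F339861
theorem F467818 : act 1 n212857 = n198443 := d17_6 (iv1 F422299) F422297 (iv1 F179464) D115420 F351431 D212857 (iv5 F460312) (iv0 D211144) F359947
def n212858 : Q := act 1 n150957
theorem D212858 : act 1 n150957 = n212858 := rfl
theorem F467819 : act 1 n212858 = n204404 := d15_1 D212858 F432409 F375361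
theorem F467820 : act 7 n212858 = n204578 := d15_2 (iv0 F402502) D212858 F432932
theorem F467821 : act 5 n212858 = n153938 := d17_7 (iv1 D57687) (iv5 D27552) D27550 D57679 (iv4 F331047) F331048 D212858 F241955 (iv4 D123766)
theorem F467822 : act 4 n212858 = n156579 := d17_9 (iv1 F246245) F245792 (iv1 D74353) D74355 D156324 F350384 (iv0 F331046) F331048 D212858
theorem F467823 : act 2 n156581 = n212858 := d1_3 F467822 F246242 D156581
theorem F467824 : act 3 n204221 = n212858 := d5_5 F467822 (iv3 F404782) F404783 F377000 (iv4 F431542)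
theorem F467825 : act 6 n212858 = n199746 := d21_3 (iv5 F375242) (iv1 F241955) (iv5 F467821) (iv1 D199746) (iv6 D111658) (iv5 D51492) D51488 D111642 (iv6 F363305) F375243
def n212859 : Q := act 6 n151155
theorem D212859 : act 6 n151155 = n212859 := rfl
theorem F467826 : act 2 n212859 = n153789 := d3_1 D212859 (iv6 D153789) (iv2 F237828)
theorem F467827 : act 3 n212859 = n187849 := d7_1 D212859 (iv6 D187849) (iv3 F237829)
theorem F467828 : act 4 n212859 = n153627 := d10_1 D212859 (iv6 D153627) (iv4 F237830)
theorem F467829 : act 7 n212859 = n187987 := d14_2 (iv7 F237831) D212859 (iv6 D187987) (iv7 D90714) (iv6 F109101)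
theorem F467830 : act 0 n212859 = n198260 := d21_10 F407371 F412701 F412698 (iv6 D156582) (iv1 F312820) F345113 (iv5 D72739) (iv1 F107721) D151155 D212859
theorem F467831 : act 5 n198247 = n212859 := d17_1 (iv1 F407340) F467830 F407371 F280772 F382705 (iv0 D185727) (iv5 F326384) F262134 (iv4 F346875)
theorem F467832 : act 1 n212859 = n198259 := d15_0 (iv0 D198259) (iv7 F365128) (iv2 F467826)
def n212860 : Q := act 5 n151156
theorem D212860 : act 5 n151156 = n212860 := rfl
theorem F467833 : act 2 n212860 = n153792 := d2_1 D212860 (iv5 D153792) (iv2 F237834)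
theorem F467834 : act 3 n212860 = n198210 := d6_1 D212860 (iv5 F455676) (iv3 F455672)
theorem F467835 : act 4 n212860 = n177007 := d9_1 D212860 (iv5 D177007) (iv4 D84365) (iv5 F59942) F296399 (iv5 F306671) (iv4 F241577) F331135 F168577 F331139 (iv4 D84363) (iv5 F296395) F310136 (iv5 F107724) (iv4 F237835)
theorem F467836 : act 6 n212860 = n198247 := d12_2 D151156 D212860 F467831 (iv6 D212859) (iv5 D151155)
theorem F467837 : act 7 n212860 = n177281 := d13_2 (iv7 F312887) D212860 (iv5 D177281)
theorem F467838 : act 0 n212860 = n197772 := d17_2 (iv1 F312886) D212860 F405714 F322341 F299112 F123674 (iv5 F123695) F297849 D84354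
theorem F467839 : act 1 n212860 = n197771 := d17_6 (iv1 F320483) (iv5 F318313) (iv1 F308113) (iv5 F107724) (iv4 F237835) D212860 F405712 (iv0 D142747) F102878
def n212861 : Q := act 0 n151162
theorem D212861 : act 0 n151162 = n212861 := rfl
theorem F467840 : act 5 n212861 = n159371 := d17_1 D212861 F250911 (iv5 F241278) (iv4 F241515) F241516 (iv0 D114288) D114290 (iv0 F178148) (iv4 F237849)
theorem F467841 : act 4 n212861 = n188824 := d18_1 D212861 F405169 F405165 (iv5 F400396) F400395 F250902 D195868 F398538 (iv5 F241266)
theorem F467842 : act 3 n212861 = n189046 := d20_5 (iv4 D32974) D32972 D71240 D151162 D212861 (iv4 D189046) F357589 F363682 (iv3 D128377) F94879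
theorem F467843 : act 2 n187847 = n212861 := d15_3 (iv0 D212861) (iv0 F365231) (iv7 F371688)
theorem F467844 : act 1 n194629 = n212861 := d15_0 (iv0 D212861) F237850 F401828
theorem F467845 : act 7 n212861 = n187845 := d15_2 D194629 F467844 F371680
def n212862 : Q := act 2 n151162
theorem D212862 : act 2 n151162 = n212862 := rfl
theorem F467846 : act 3 n212862 = n206362 := d0_2 D151162 D212862 (iv2 D206362) (iv3 D128383) (iv2 F107730)
theorem F467847 : act 4 n212862 = n154711 := d1_2 (iv4 F237849) D212862 (iv2 D154711)
theorem F467848 : act 5 n212862 = n201409 := d2_2 (iv5 F241266) D212862 F420389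
theorem F467849 : act 7 n212862 = n194629 := d4_2 (iv7 F237850) D212862 (iv2 F401828)
theorem F467850 : act 1 n212862 = n187845 := d15_0 (iv0 F371683) (iv7 F237850) D212862
theorem F467851 : act 1 n187847 = n212862 := d15_0 F467850 (iv7 F467845) (iv2 F467843)
def n212863 : Q := act 6 n151162
theorem D212863 : act 6 n151162 = n212863 := rfl
theorem F467852 : act 3 n212863 = n151164 := d7_1 D212863 (iv6 D151164) D151162
theorem F467853 : act 4 n212863 = n154713 := d10_1 D212863 (iv6 D154713) (iv4 F237849)
def n212864 : Q := act 6 n151163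
theorem D212864 : act 6 n151163 = n212864 := rfl
theorem F467854 : act 2 n212864 = n206364 := d3_1 D212864 (iv6 D206364) (iv2 F237851)
theorem F467855 : act 3 n212864 = n201420 := d7_1 D212864 (iv6 D201420) F241265
theorem F467856 : act 4 n212864 = n212575 := d10_1 D212864 (iv6 D212575) (iv4 F237853)
theorem F467857 : act 0 n209734 = n212864 := d21_4 (iv5 D124018) D124015 D204573 (iv6 F454789) (iv6 D212864) (iv5 D151163) F107732 (iv5 F109232) D153784 F432943
def n212865 : Q := act 3 n151179
theorem D212865 : act 3 n151179 = n212865 := rfl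
theorem F467858 : act 4 n212865 = n205129 := d5_2 (iv4 F237876) D212865 F435077 (iv4 D127419) (iv3 F114269)
theorem F467859 : act 6 n212865 = n193908 := d7_2 (iv6 F359428) D212865 F391362
theorem F467860 : act 7 n212865 = n159393 := d8_2 (iv7 F237879) D212865 (iv3 D159393)
theorem F467861 : act 0 n212865 = n209536 := d20_4 (iv4 D76255) (iv1 F114272) (iv4 F237876) D212865 (iv3 D209536) D209537 F454076 F236050 (iv3 D118862) (iv1 F114292)
def n212866 : Q := act 4 n151181
theorem D212866 : act 4 n151181 = n212866 := rfl
theorem F467862 : act 2 n212866 = n206063 := d1_1 D212866 F439072 F428104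
theorem F467863 : act 7 n212866 = n206066 := d11_2 (iv7 F237882) D212866 (iv4 D206066)
theorem F467864 : act 5 n212866 = n159332 := d16_1 D212866 (iv4 D159332) (iv5 F114182) F94170 D59815 (iv4 F114302) D159422 (iv7 F428105) F428104
theorem F467865 : act 0 n212866 = n203365 := d17_0 (iv5 D203365) (iv1 D118771) D118773 (iv4 F427915) F427916 F186778 D118891 (iv0 F237883) D212866
theorem F467866 : act 1 n212866 = n203363 := d18_6 (iv1 D139160) F101040 (iv1 F312295) D71250 D151181 D212866 F428052 F428138 F428136
def n212867 : Q := act 6 n151181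
theorem D212867 : act 6 n151181 = n212867 := rfl
theorem F467867 : act 3 n212867 = n185357 := d7_1 D212867 (iv6 F365613) F366459
def n212868 : Q := act 3 n151223
theorem D212868 : act 3 n151223 = n212868 := rfl
theorem F467868 : act 2 n212868 = n192763 := d0_1 D212868 (iv3 D192763) F370850 F370847 (iv2 F239592)
theorem F467869 : act 5 n212868 = n189664 := d6_2 F379627 D212868 (iv3 F379626)
theorem F467870 : act 7 n212868 = n192999 := d8_2 (iv7 F239589) D212868 (iv3 F388480)
theorem F467871 : act 0 n212868 = n192033 := d19_4 F176772 F176771 D151223 D212868 (iv5 D192033) F177409 (iv3 F154347) (iv1 D92679) D92680 F329254 (iv3 D52860) (iv1 D25655) (iv5 D12191) F8900 F7687 D5773 F20026 D25463 D52467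
theorem F467872 : act 1 n212868 = n192032 := d15_1 (iv0 F467871) F385289 (iv2 F385291)
def n212869 : Q := act 0 n151225
theorem D212869 : act 0 n151225 = n212869 := rfl
theorem F467873 : act 4 n212869 = n207435 := d18_1 D212869 (iv1 F444896) (iv4 F451200) F451201 (iv4 F416452) (iv0 F425218) F425217 F420325 (iv5 F237955)
theorem F467874 : act 6 n212869 = n201476 := d21_5 (iv5 F87982) F104139 (iv5 F107769) D151225 D212869 (iv5 D201476) (iv1 F356878) (iv5 F420206) (iv6 D201367) F178386
theorem F467875 : act 1 n209011 = n212869 := d15_0 (iv0 D212869) (iv7 F451223) (iv2 F451832)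
theorem F467876 : act 2 n209520 = n212869 := d3_3 F467874 (iv2 F428336) (iv6 F454007)
theorem F467877 : act 3 n151238 = n212869 := d7_3 F467874 F420650 F420340
theorem F467878 : act 7 n212869 = n209514 := d8_2 (iv7 F399556) F467877 F453984
theorem F467879 : act 1 n201368 = n209514 := d15_1 (iv0 F454010) (iv7 F467878) (iv2 F467876)
theorem F467880 : act 1 n209514 = n208880 := d15_1 F467879 F451223 (iv2 F420208)
def n212870 : Q := act 1 n151225
theorem D212870 : act 1 n151225 = n212870 := rfl
theorem F467881 : act 1 n212870 = n209011 := d15_1 D212870 F451834 F420208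
theorem F467882 : act 7 n212870 = n209520 := d15_2 (iv0 D212869) D212870 F467876
theorem F467883 : act 4 n212870 = n209159 := d17_9 F452515 F218646 D197249 (iv5 F414638) D209525 F454029 F420325 (iv5 F237955) D212870
theorem F467884 : act 2 n209514 = n212870 := d1_3 F467883 F452513 D209514
def n212871 : Q := act 3 n151231
theorem D212871 : act 3 n151231 = n212871 := rfl
theorem F467885 : act 2 n212871 = n183144 := d0_1 D212871 (iv3 F416554) F218239 (iv3 F420746) F420747
theorem F467886 : act 5 n212871 = n209023 := d6_2 (iv5 F420748) D212871 (iv3 D209023)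
theorem F467887 : act 4 n182037 = n212871 := d19_2 F223260 F359695 (iv3 D212871) (iv1 F420750) F420740 (iv4 F452064) F452063 F229767 F114705 (iv4 D52511) (iv3 F82900) F326695 F325872 F50618 (iv3 F85120) (iv1 F85125) D67926 (iv4 F183418) (iv3 F183420)
theorem F467888 : act 6 n212871 = n182036 := d10_2 D182037 F467887 (iv4 D182036)
def n212872 : Q := act 4 n151231
theorem D212872 : act 4 n151231 = n212872 := rfl
theorem F467889 : act 3 n212872 = n210700 := d5_1 D212872 F458485 (iv3 F359693) F467887 (iv3 D212871)
theorem F467890 : act 7 n212872 = n208254 := d11_2 (iv7 F420749) D212872 F448600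
theorem F467891 : act 5 n212872 = n210699 := d16_1 D212872 F458481 (iv5 F465357) (iv4 F465360) (iv5 D207697) F211850 F338618 (iv7 F420744) F420747
theorem F467892 : act 0 n212872 = n212444 := d17_0 (iv5 D212444) D212443 F465814 (iv4 F452326) F452325 (iv0 F419026) (iv5 F420740) F420750 D212872
theorem F467893 : act 1 n212872 = n203469 := d18_6 (iv1 D135558) F99100 D132668 F347277 (iv5 F420748) D212872 F428442 D203471 (iv5 F428443)
theorem F467894 : act 6 n212872 = n207333 := d21_5 (iv5 F335350) F372422 F372423 D203469 (iv1 F467893) F450340 F450339 (iv5 F428449) (iv6 D203473) F187586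
def n212873 : Q := act 6 n151231
theorem D212873 : act 6 n151231 = n212873 := rfl
theorem F467895 : act 3 n212873 = n182036 := d7_1 D212873 (iv6 F467888) (iv3 D212871)
theorem F467896 : act 4 n212873 = n207333 := d10_1 D212873 (iv6 F467894) (iv4 D212872)
theorem F467897 : act 5 n212873 = n190515 := d12_1 D212873 (iv6 F452036) (iv5 F452034) (iv6 D209024) (iv5 F420748)
theorem F467898 : act 7 n212873 = n183149 := d14_2 (iv7 F420749) D212873 F420470 (iv7 F448596) F448599
def n212874 : Q := act 6 n151234
theorem D212874 : act 6 n151234 = n212874 := rfl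
theorem F467899 : act 2 n212874 = n187818 := d3_1 D212874 (iv6 D187818) (iv2 F237964)
theorem F467900 : act 4 n212874 = n151235 := d10_1 D212874 (iv6 D151235) D151234
theorem F467901 : act 5 n212874 = n192375 := d12_1 D212874 (iv6 D192375) (iv5 F366172) (iv6 F401149) F401146
def n212875 : Q := act 7 n151235
theorem D212875 : act 7 n151235 = n212875 := rfl
theorem F467902 : act 2 n212875 = n187822 := d4_1 D212875 (iv7 D187822) (iv2 F237967)
theorem F467903 : act 3 n212875 = n151240 := d8_1 D212875 (iv7 D151240) (iv3 F237968)
theorem F467904 : act 5 n212875 = n189650 := d13_1 D212875 (iv7 D189650) (iv5 F237969)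
theorem F467905 : act 6 n212875 = n187830 := d14_1 D212875 (iv7 D187830) (iv6 D90597) (iv7 F107772) D151235
theorem F467906 : act 1 n187820 = n212875 := d15_1 D187820 (iv7 D212875) F237967
theorem F467907 : act 1 n212875 = n187819 := d15_1 F467906 (iv7 F377317) F377314
def n212876 : Q := act 1 n151237
theorem D212876 : act 1 n151237 = n212876 := rfl
theorem F467908 : act 5 n212876 = n199473 := d17_7 F433087 (iv5 D136337) (iv1 D64097) D64099 D136342 F366020 D212876 F412319 (iv4 F433085)
theorem F467909 : act 4 n212876 = n196149 := d17_9 (iv1 D196149) (iv5 D106704) D106702 D196146 (iv4 F451013) (iv5 F453369) (iv0 D209355) F366020 D212876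
theorem F467910 : act 6 n211389 = n212876 := d21_3 (iv5 D196406) F337385 F461374 (iv1 D212876) (iv6 D151237) (iv5 F163745) F163747 F94498 D114526 F400607
theorem F467911 : act 2 n208806 = n212876 := d1_3 F467909 F399624 (iv4 F450959)
def n212877 : Q := act 7 n151237
theorem D212877 : act 7 n151237 = n212877 := rfl
theorem F467912 : act 3 n212877 = n199801 := d8_1 D212877 F413564 (iv3 F360003)
theorem F467913 : act 4 n212877 = n151240 := d11_1 D212877 (iv7 D151240) (iv4 F237970)
theorem F467914 : act 5 n212877 = n207710 := d13_1 D212877 F446110 F366020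
theorem F467915 : act 6 n212877 = n211323 := d14_1 D212877 F461115 (iv6 F362685) F163117 D151237
theorem F467916 : act 1 n208806 = n212877 := d15_1 (iv0 F450961) (iv7 D212877) (iv2 F398955)
def n212878 : Q := act 4 n151238
theorem D212878 : act 4 n151238 = n212878 := rfl
theorem F467917 : act 3 n212878 = n193664 := d5_1 D212878 (iv4 F390616) (iv3 F444893) (iv4 F467873) (iv3 F467877)
theorem F467918 : act 6 n212878 = n200248 := d10_2 F420340 D212878 (iv4 F420338)
theorem F467919 : act 5 n212878 = n209344 := d16_1 D212878 (iv4 D209344) (iv5 D136332) D136331 D209343 F453327 F398902 (iv7 F399557) (iv2 F399558)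
theorem F467920 : act 0 n212878 = n204371 := d18_2 D151238 D212878 F432260 F399629 (iv4 F399223) F399227 F398938 (iv0 D106692) (iv5 F107776)
theorem F467921 : act 0 n151242 = n212878 := d21_4 (iv5 F83390) (iv1 F164451) F164448 D151242 F467918 (iv5 D200248) (iv1 F405181) (iv5 F405180) (iv6 D114369) (iv1 F83373)
def n212879 : Q := act 5 n151238
theorem D212879 : act 5 n151238 = n212879 := rfl
theorem F467922 : act 6 n212879 = n198973 := d12_2 F420340 D212879 (iv5 F420343) (iv6 D201399) D201398
theorem F467923 : act 7 n212879 = n196133 := d13_2 (iv7 F399556) D212879 F399553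
theorem F467924 : act 4 n212879 = n209347 := d16_4 D209344 (iv5 F467919) (iv4 D212878) D212879 (iv5 D209347) (iv4 D136336) D136337 F442505 (iv2 F442504)
theorem F467925 : act 0 n212879 = n151682 := d17_2 D151238 D212879 (iv5 F371934) F371933 (iv5 F366892) F412326 (iv5 F450290) (iv0 F450291) F237970
theorem F467926 : act 1 n212879 = n198978 := d17_8 (iv1 F370130) (iv5 D106841) (iv1 D49365) D49367 F325498 (iv5 F398960) F398964 D212879 F410142
def n212880 : Q := act 4 n151239
theorem D212880 : act 4 n151239 = n212880 := rfl
theorem F467927 : act 5 n212880 = n209349 := d9_2 F398902 D212880 (iv4 D209349) (iv5 D136337) D136336 D209347 (iv4 F467924) (iv5 D212879) D212878 F467919 (iv4 D209344) (iv5 D136332) D136331 D209343 F453327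
theorem F467928 : act 0 n212880 = n151242 := d18_2 (iv1 F398963) D212880 F237972 (iv5 D106513) (iv4 F96520) D131957 (iv4 F341616) F164406 (iv5 F398960)
theorem F467929 : act 1 n212880 = n204371 := d18_6 F447301 (iv4 F399906) (iv1 F453328) F453327 F398902 D212880 F432260 F399632 (iv5 F447300)
theorem F467930 : act 3 n212880 = n187889 := d19_3 F398903 F398902 D212880 (iv1 D187889) D187890 (iv4 F375386) F444689 F444687 F389702 F238197 F166717 F144709 (iv5 D93873) (iv4 D43884) F65518 (iv1 F52226) D33071 D71481 D151682
def n212881 : Q := act 6 n151239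
theorem D212881 : act 6 n151239 = n212881 := rfl
theorem F467931 : act 0 n212881 = n201725 := d21_4 F371934 F398903 F398902 D212881 F421573 (iv5 D115027) (iv1 F178563) (iv5 D114505) D114506 F371935
theorem F467932 : act 0 n151255 = n212881 := d21_4 F405872 F405875 (iv5 D151254) D151255 (iv6 D212881) (iv5 F398902) F410145 F410143 F371948 D197814
def n212882 : Q := act 2 n151241
theorem D212882 : act 2 n151241 = n212882 := rfl
theorem F467933 : act 3 n212882 = n204421 := d0_2 D151241 D212882 F432463 (iv3 D196152) F164447
theorem F467934 : act 5 n212882 = n204421 := d2_2 F399633 D212882 F432463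
theorem F467935 : act 4 n212882 = n204584 := d16_0 (iv5 F432947) F375247 D193332 (iv4 F391171) (iv5 F391161) (iv4 F391164) (iv5 F395876) F395877 D212882
theorem F467936 : act 6 n204415 = n212882 := d10_0 F467935 (iv6 D204584) (iv4 F432442)
def n212883 : Q := act 4 n151241
theorem D212883 : act 4 n151241 = n212883 := rfl
theorem F467937 : act 2 n212883 = n204584 := d1_1 D212883 (iv4 F467935) (iv2 D212882)
theorem F467938 : act 3 n212883 = n196000 := d5_1 D212883 (iv4 D196000) F163773 (iv4 F107778) D151241
theorem F467939 : act 0 n212883 = n194430 := d17_0 F393176 (iv1 F386857) (iv5 D188947) F365818 D201361 (iv0 F420178) F405648 (iv0 F405649) D212883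
theorem F467940 : act 6 n204571 = n212883 := d3_0 F467937 (iv6 D204584) F432904
def n212884 : Q := act 6 n151241
theorem D212884 : act 6 n151241 = n212884 := rfl
theorem F467941 : act 2 n212884 = n204415 := d3_1 D212884 F467936 (iv2 D212882)
theorem F467942 : act 3 n212884 = n151242 := d7_1 D212884 (iv6 D151242) D151241
theorem F467943 : act 4 n212884 = n204571 := d10_1 D212884 F467940 (iv4 D212883)
theorem F467944 : act 5 n212884 = n204967 := d12_1 D212884 (iv6 D204967) (iv5 F432269) F432270 F399633
theorem F467945 : act 0 n212884 = n204931 := d21_4 D201360 (iv1 F420170) F399633 D212884 (iv6 D204931) (iv5 D124760) F312321 D156615 F420135 (iv1 F420133)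
theorem F467946 : act 1 n212884 = n204970 := d15_1 (iv0 F467945) (iv7 D204970) (iv2 F434226)
theorem E103989 : n204970 = n204411 := (c15_1 F467946 (iv0 D204411) D204415 (iv2 F467941))
theorem F467947 : act 0 n204411 = n212884 := (sb E103989 (iv1 F467946))
theorem F467948 : act 5 n204411 = n154782 := (sb E103989 F434387)
theorem F467949 : act 7 n204411 = n124883 := (sb E103989 (iv7 D204970))
theorem F467950 : act 7 n212884 = n204413 := d16_8 F198250 D124018 D204582 F432938 F243428 (iv5 F200562) (iv4 F434386) (iv5 F467944) (iv2 D204413)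
theorem E103990 : n204931 = n204412 := ((c15_1 D204412 (iv0 F467945) F467950 (iv2 D204413))).symm
theorem F467951 : act 1 n204412 = n212884 := (sb E103990 (iv0 F467945))
theorem F467952 : act 2 n204412 = n124883 := (sb E103990 F434226)
theorem F467953 : act 5 n204412 = n153179 := (sb E103990 F434227)
theorem F467954 : act 6 n204412 = n124760 := (sb E103990 (iv6 D204931))
def n212885 : Q := act 5 n151242
theorem D212885 : act 5 n151242 = n212885 := rfl
theorem F467955 : act 2 n212885 = n204966 := d2_1 D212885 F434385 F399626
theorem F467956 : act 3 n212885 = n204967 := d6_1 D212885 (iv5 F467944) F467942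
theorem F467957 : act 6 n212885 = n204966 := d12_2 D151242 D212885 F434385 F399627 F164448
theorem F467958 : act 0 n212885 = n209353 := d17_2 F467928 D212885 F453367 F411067 F398944 (iv0 D106692) (iv5 F107776) D151239 D212880
theorem F467959 : act 1 n212885 = n209354 := d17_8 (iv1 D136341) (iv5 D64099) D64096 D136332 D209344 (iv5 F467919) (iv0 F467921) D212885 (iv4 D209354)
def n212886 : Q := act 7 n151242
theorem D212886 : act 7 n151242 = n212886 := rfl
theorem F467960 : act 2 n212886 = n204371 := d4_1 D212886 (iv7 F432262) F399626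
theorem F467961 : act 3 n212886 = n204413 := d8_1 D212886 (iv7 F467950) F467942
theorem F467962 : act 4 n212886 = n196005 := d11_1 D212886 (iv7 D196005) (iv4 F237972)
def n212887 : Q := act 6 n151247
theorem D212887 : act 6 n151247 = n212887 := rfl
theorem F467963 : act 3 n212887 = n199558 := d7_1 D212887 (iv6 F412665) (iv3 F409122)
theorem F467964 : act 4 n212887 = n206229 := d10_1 D212887 (iv6 D206229) (iv4 F400769)
theorem F467965 : act 7 n212887 = n211122 := d14_2 F420075 D212887 (iv6 D211122) (iv7 F424217) F424221
def n212888 : Q := act 6 n151252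
theorem D212888 : act 6 n151252 = n212888 := rfl
theorem F467966 : act 3 n212888 = n151255 := d7_1 D212888 (iv6 D151255) D151252
theorem F467967 : act 4 n212888 = n186622 := d10_1 D212888 (iv6 F458234) F458235
theorem F467968 : act 0 n188317 = n212888 := d18_2 D91215 D188317 F467967 F367471 (iv4 F370497) F370495 (iv4 D187468) (iv0 D90187) (iv5 F66919)
theorem F467969 : act 1 n188320 = n212888 := d18_6 F152591 F136493 (iv1 F294597) (iv4 D92664) (iv5 F294992) D188320 F467967 (iv0 F384666) (iv5 D191886)
def n212889 : Q := act 4 n151254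
theorem D212889 : act 4 n151254 = n212889 := rfl
theorem F467970 : act 3 n212889 = n208341 := d5_1 D212889 (iv4 D208341) F330973 D209741 F454815
theorem F467971 : act 7 n212889 = n212652 := d11_2 (iv7 F237981) D212889 F466893
theorem F467972 : act 5 n212889 = n199719 := d16_1 D212889 (iv4 D199719) F173197 F172590 (iv5 F169064) F363672 D151259 (iv7 F420234) F420232
def n212890 : Q := act 6 n151254
theorem D212890 : act 6 n151254 = n212890 := rfl
theorem F467973 : act 2 n212890 = n212653 := d3_1 D212890 F466897 F420232
theorem F467974 : act 5 n212890 = n201720 := d12_1 D212890 F421551 F421200 (iv6 D151255) D151254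
theorem F467975 : act 7 n212890 = n159647 := d14_2 (iv7 F237981) D212890 (iv6 D159647) (iv7 F177839) D148726
theorem F467976 : act 0 n212890 = n201795 := d21_4 F104748 D71284 D151254 D212890 F421815 (iv5 F377335) (iv1 F377341) F145468 (iv6 F370735) (iv1 D146181)
theorem F467977 : act 1 n212890 = n201792 := d15_1 (iv0 F467976) F421809 (iv2 F421813)
def n212891 : Q := act 1 n151255
theorem D212891 : act 1 n151255 = n212891 := rfl
theorem F467978 : act 1 n212891 = n201725 := d15_1 D212891 F421574 F420236
theorem F467979 : act 6 n208121 = n212891 := d21_3 (iv5 F97668) D133412 D208121 (iv1 D212891) (iv6 D151255) D151254 (iv1 F426300) F426297 (iv6 F419088) (iv1 D114537)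
theorem F467980 : act 5 n201782 = n212891 := d21_6 (iv5 F421174) (iv1 F251350) F251346 (iv6 F250873) (iv1 F250875) D201782 (iv1 D212891) (iv5 F421200) (iv6 F421551) (iv1 F421552)
theorem F467981 : act 0 n201448 = n201782 := d21_1 D201448 F467980 (iv6 F467979) (iv1 F457508) F457504 (iv5 D149659) F157723 D90651 (iv6 F248617) (iv1 F248619)
def n212892 : Q := act 5 n151267
theorem D212892 : act 5 n151267 = n212892 := rfl
theorem F467982 : act 2 n212892 = n190994 := d2_1 D212892 (iv5 F427592) F427590
theorem F467983 : act 3 n212892 = n191037 := d6_1 D212892 (iv5 F392881) F392879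
theorem F467984 : act 6 n212892 = n190968 := d12_2 D151267 D212892 (iv5 D190968) (iv6 F365308) F324608
theorem F467985 : act 7 n212892 = n211505 := d13_2 F344498 D212892 (iv5 D211505)
theorem F467986 : act 0 n212892 = n157235 := d17_2 F429224 D212892 (iv5 D157235) F112209 D74785 (iv0 F311237) F87497 D120017 D203647
theorem F467987 : act 1 n212892 = n211856 := d17_6 (iv1 F457315) (iv5 F340798) F276453 (iv5 F276465) F344481 D212892 (iv5 D211856) F340805 (iv4 F457311)
def n212893 : Q := act 5 n151303
theorem D212893 : act 5 n151303 = n212893 := rfl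
theorem F467988 : act 3 n212893 = n156132 := d6_1 D212893 (iv5 D156132) (iv3 F320478)
theorem F467989 : act 7 n212893 = n185485 := d13_2 (iv7 F320479) D212893 F363546
theorem F467990 : act 0 n212893 = n210746 := d17_2 (iv1 F429038) D212893 (iv5 D210746) F426967 F424569 F393551 (iv5 F393552) F393563 (iv4 F429035)
theorem F467991 : act 1 n212893 = n210748 := d17_6 F341172 D139699 F349381 F320612 D151303 D212893 (iv5 D210748) (iv0 F426965) (iv4 D203100)
theorem F467992 : act 4 n183895 = n212893 := d11_3 F467989 F287751 (iv7 F329947)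
theorem F467993 : act 6 n212893 = n156132 := d10_2 D183895 F467992 F340574
def n212894 : Q := act 6 n151303
theorem D212894 : act 6 n151303 = n212894 := rfl
theorem F467994 : act 2 n212894 = n202868 := d3_1 D212894 (iv6 F426972) F426971
theorem F467995 : act 3 n212894 = n156133 := d7_1 D212894 (iv6 D156133) (iv3 F320478)
theorem F467996 : act 4 n212894 = n151305 := d10_1 D212894 (iv6 D151305) D151303
theorem F467997 : act 5 n212894 = n156133 := d12_1 D212894 (iv6 D156133) D156132 (iv6 F467993) (iv5 D212893)
theorem F467998 : act 7 n212894 = n202280 := d14_2 (iv7 F320479) D212894 (iv6 D202280) F179812 (iv6 F221881)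
theorem F467999 : act 0 n212894 = n202181 := d21_10 (iv5 D202181) (iv1 F179718) D115430 (iv6 F339858) (iv1 F444567) (iv6 F444572) D210748 (iv1 F467991) (iv5 D212893) D212894
theorem F468000 : act 0 n197977 = n212894 := d21_4 (iv5 F409513) (iv1 D115686) (iv5 F359985) (iv6 F406359) (iv6 D212894) D212893 F467990 (iv5 D210746) F429019 (iv1 D203589)
def n212895 : Q := act 6 n151316
theorem D212895 : act 6 n151316 = n212895 := rfl
theorem F468001 : act 2 n212895 = n202877 := d3_1 D212895 (iv6 D202877) F353555
theorem F468002 : act 3 n212895 = n188120 := d7_1 D212895 (iv6 F372374) F355820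
theorem F468003 : act 4 n212895 = n151607 := d10_1 D212895 (iv6 D151607) (iv4 F353554)
theorem F468004 : act 5 n212895 = n212305 := d12_1 D212895 (iv6 F466638) (iv5 F466671) F466669 (iv5 F353535)
theorem F468005 : act 7 n212895 = n212304 := d14_2 (iv7 F353547) D212895 F465239 (iv7 F464016) (iv6 D212027)
theorem F468006 : act 0 n212895 = n206288 := d21_4 (iv5 F464017) (iv1 F464021) (iv5 F353535) D212895 F440086 F371141 F372615 F372613 (iv6 D145940) D145936
theorem F468007 : act 0 n203928 = n212895 := d21_4 F448771 F430300 F430298 D203928 (iv6 D212895) F353535 F379929 F379928 D212239 F464914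
def n212896 : Q := act 5 n151319
theorem D212896 : act 5 n151319 = n212896 := rfl
theorem F468008 : act 2 n212896 = n197037 := d2_1 D212896 (iv5 D197037) (iv2 F238037)
theorem F468009 : act 3 n212896 = n201714 := d6_1 D212896 F421514 F341584
theorem F468010 : act 4 n212896 = n151958 := d9_1 D212896 F238958 F108151 F78839 (iv4 F52348) D71637 D151940 (iv5 F427997) F427995 F238964 F108157 F78833 (iv4 F54287) D71316 D151319
theorem F468011 : act 6 n212896 = n201712 := d12_2 (iv6 F341577) D212896 F421505 (iv6 D148010) D148009
theorem F468012 : act 7 n212896 = n197038 := d13_2 (iv7 F238038) D212896 (iv5 D197038)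
theorem F468013 : act 0 n212896 = n204631 := d17_2 (iv1 F238040) D212896 F433073 (iv4 D133772) (iv5 D62818) (iv0 F47784) D33033 (iv0 F78505) D107548
theorem F468014 : act 1 n212896 = n187546 := d17_6 F78796 (iv5 D33132) (iv1 F54286) D71316 D151319 D212896 F370761 F360281 (iv4 D107897)
def n212897 : Q := act 5 n151320
theorem D212897 : act 5 n151320 = n212897 := rfl
theorem F468015 : act 2 n212897 = n204244 := d2_1 D212897 F431644 F238383
theorem F468016 : act 3 n212897 = n204313 := d6_1 D212897 (iv5 D204313) (iv3 F238041)
theorem F468017 : act 6 n212897 = n175482 := d12_2 D151320 D212897 (iv5 D175482) (iv6 F348221) (iv5 F107809)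
theorem F468018 : act 4 n212897 = n154836 := d16_2 (iv4 F238042) D212897 (iv5 D154836) F110140 (iv5 F306174) (iv4 F189374) (iv5 F398336) (iv7 D195822) F163388
theorem F468019 : act 1 n212897 = n154508 := d17_8 (iv1 F338139) (iv5 D154241) (iv1 F310347) (iv5 F274748) (iv4 F430361) (iv5 D203912) (iv0 F355078) D212897 (iv4 D154508)
def n212898 : Q := act 5 n151328
theorem D212898 : act 5 n151328 = n212898 := rfl
theorem F468020 : act 2 n212898 = n203203 := d2_1 D212898 F427392 (iv2 F238046)
theorem F468021 : act 3 n212898 = n151331 := d6_1 D212898 (iv5 D151331) (iv3 F238047)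
theorem F468022 : act 6 n212898 = n203177 := d12_2 D151328 D212898 F427321 F305042 (iv5 F107821)
theorem F468023 : act 0 n208466 = n212898 := d21_7 F107827 (iv1 D27492) D27494 D57481 (iv1 F328722) D134364 D208466 (iv5 D212898) (iv6 D151328) (iv1 F107824)
def n212899 : Q := act 3 n151329
theorem D212899 : act 3 n151329 = n212899 := rfl
theorem F468024 : act 2 n212899 = n200193 := d0_1 D212899 F415476 F398436 (iv3 F179094) F357120
theorem F468025 : act 4 n212899 = n175315 := d5_2 (iv4 F348665) D212899 F274365 (iv4 F335494) (iv3 F335496)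
theorem F468026 : act 7 n212899 = n200065 := d8_2 (iv7 F357119) D212899 F414872
theorem F468027 : act 6 n175314 = n212899 := d14_5 F468026 F414873 F403168 D212422 (iv7 F465742)
theorem F468028 : act 5 n197340 = n212899 := d16_7 (iv4 D198913) (iv5 D110602) F80450 F38826 (iv4 F78973) D108099 D197340 F468026 F414871
def n212900 : Q := act 5 n151329
theorem D212900 : act 5 n151329 = n212900 := rfl
theorem F468029 : act 2 n212900 = n201707 := d2_1 D212900 (iv5 D201707) F357120
theorem F468030 : act 3 n212900 = n197340 := d6_1 D212900 F468028 (iv3 D212899)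
theorem F468031 : act 7 n212900 = n204100 := d13_2 (iv7 F357119) D212900 (iv5 D204100)
theorem F468032 : act 0 n212900 = n208434 := d17_2 D151329 D212900 (iv5 F449348) (iv4 F468003) F468004 F465243 (iv5 D151336) (iv0 D71323) (iv4 F107830)
theorem F468033 : act 4 n208433 = n211646 := d18_3 F468032 (iv4 D208434) D208433 F462503 (iv4 D151340) F186659 (iv4 F196543) F238053 D212900
def n212901 : Q := act 6 n151329
theorem D212901 : act 6 n151329 = n212901 := rfl
theorem F468034 : act 2 n212901 = n201708 := d3_1 D212901 (iv6 D201708) F357120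
theorem F468035 : act 3 n212901 = n175314 := d7_1 D212901 F468027 (iv3 D212899)
theorem F468036 : act 4 n212901 = n151524 := d10_1 D212901 (iv6 D151524) (iv4 F348665)
theorem F468037 : act 7 n212901 = n210329 := d14_2 (iv7 F357119) D212901 (iv6 F465735) F465732 (iv6 D204101)
theorem F468038 : act 5 n212901 = n156459 := d21_6 D33062 F52284 F52183 D71322 D151329 D212901 (iv1 D156459) (iv5 F329209) (iv6 D57362) F46134
theorem F468039 : act 0 n202973 = n212901 := d21_4 D71461 (iv1 F355816) (iv5 F329161) D202973 (iv6 D212901) D212900 F468032 (iv5 F449348) (iv6 D151607) (iv1 D71460)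
theorem F468040 : act 1 n156484 = n212901 := d17_6 (iv1 F445880) (iv5 F450825) F450826 F219507 (iv4 F111871) (iv5 F246017) F468038 F245978 (iv4 F445872)
def n212902 : Q := act 0 n151331
theorem D212902 : act 0 n151331 = n212902 := rfl
theorem F468041 : act 2 n204102 = n212902 := d15_3 (iv0 D212902) (iv0 F429298) F431175
theorem F468042 : act 7 n212902 = n204103 := d4_2 F431175 F468041 F456756
theorem F468043 : act 1 n204105 = n212902 := d15_1 F431092 F468042 F456756
def n212903 : Q := act 4 n151331
theorem D212903 : act 4 n151331 = n212903 := rfl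
theorem F468044 : act 2 n212903 = n204104 := d1_1 D212903 (iv4 D204104) (iv2 F238049)
theorem F468045 : act 6 n212903 = n204099 := d10_2 (iv6 F238050) D212903 (iv4 D204099)
theorem F468046 : act 5 n212903 = n187771 := d16_1 D212903 (iv4 F448192) F421348 (iv4 F427786) F427787 (iv4 F196543) (iv5 F431090) (iv7 D204105) (iv2 F238049)
def n212904 : Q := act 7 n151331
theorem D212904 : act 7 n151331 = n212904 := rfl
theorem F468047 : act 2 n212904 = n204105 := d4_1 D212904 (iv7 D204105) (iv2 F238049)
theorem F468048 : act 5 n212904 = n151332 := d13_1 D212904 (iv7 D151332) D151331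
theorem F468049 : act 1 n204103 = n212904 := d15_1 D204103 (iv7 D212904) F238049
theorem F468050 : act 1 n212904 = n204102 := d15_1 F468049 (iv7 F431175) (iv2 F456756)
def n212905 : Q := act 5 n151335
theorem D212905 : act 5 n151335 = n212905 := rfl
theorem F468051 : act 3 n212905 = n187028 := d6_1 D212905 F368869 F340887
theorem F468052 : act 4 n212905 = n187030 := d19_2 F353310 D212905 (iv3 D187030) F137143 F365792 (iv4 D92738) (iv3 F142977) F145634 (iv5 D94450) (iv4 F72976) F72975 (iv1 F63997) D88884 F136345 D99806 F365460 (iv5 F357189) (iv4 F289454) F357188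
def n212906 : Q := act 4 n151336
theorem D212906 : act 4 n151336 = n212906 := rfl
theorem F468053 : act 1 n212906 = n212602 := d18_6 (iv1 F343522) (iv4 F186799) F353310 (iv4 D151335) D151336 D212906 F466642 (iv0 F421180) (iv5 D201626)
theorem F468054 : act 6 n212906 = n203301 := d21_5 F183800 (iv1 F183737) (iv5 F231791) D212602 (iv1 F468053) (iv5 D203301) (iv1 F186658) (iv5 F238059) (iv6 F426244) F426246
def n212907 : Q := act 6 n151336
theorem D212907 : act 6 n151336 = n212907 := rfl
theorem F468055 : act 2 n212907 = n212906 := d3_1 D212907 F468054 F427762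
theorem F468056 : act 3 n212907 = n208997 := d7_1 D212907 (iv6 F465111) F465109
theorem F468057 : act 4 n212907 = n203301 := d10_1 D212907 (iv6 F468054) (iv4 D212906)
theorem F468058 : act 0 n209084 = n212907 := d21_4 (iv5 D68665) F327872 D135715 (iv6 F452174) (iv6 D212907) (iv5 D151336) (iv1 F186660) (iv5 F427787) F427788 F229680
theorem F468059 : act 1 n212608 = n212907 := d18_6 F465240 (iv4 F462347) F462350 F238510 D151653 (iv4 F466666) F468057 (iv0 F427764) D212304
def n212908 : Q := act 4 n151341
theorem D212908 : act 4 n151341 = n212908 := rfl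
theorem F468060 : act 3 n212908 = n187753 := d5_1 D212908 F371407 F284762 (iv4 F284771) F356760
theorem F468061 : act 7 n212908 = n212907 := d11_2 F427763 D212908 F468057
theorem F468062 : act 5 n212908 = n187752 := d16_1 D212908 F371404 (iv5 F368871) (iv4 F468052) (iv5 D212905) (iv4 D151335) D151336 (iv7 F427769) F427767
theorem F468063 : act 0 n212908 = n212602 := d18_2 (iv1 F465242) D212908 F466642 F420510 (iv4 F462472) (iv0 D211636) (iv4 F440084) (iv0 F468006) F468004
def n212909 : Q := act 5 n151343
theorem D212909 : act 5 n151343 = n212909 := rfl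
theorem F468064 : act 2 n212909 = n206288 := d2_1 D212909 F440085 (iv2 F427772)
theorem F468065 : act 3 n212909 = n203157 := d6_1 D212909 F427214 F386987
theorem F468066 : act 6 n212909 = n188584 := d12_2 (iv6 F335931) D212909 F374089 (iv6 F372628) F335926
theorem F468067 : act 7 n212909 = n203928 := d13_2 F427776 D212909 F430444
theorem F468068 : act 0 n212909 = n212304 := d17_2 D151343 D212909 (iv5 D212304) F419078 (iv5 D201096) F342164 F251541 (iv0 F369157) (iv4 D151345)
theorem F468069 : act 4 n212909 = n211637 := d18_5 (iv1 D150770) (iv4 F237334) F360982 F335932 D212909 F462476 F238510 (iv0 F465185) F238437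
theorem F468070 : act 0 n202877 = n212909 := d21_10 (iv5 D212909) (iv1 F427790) F427787 F186657 (iv1 F339714) (iv6 F350248) (iv5 F420304) (iv1 F425992) (iv5 D202876) D202877
def n212910 : Q := act 6 n151344
theorem D212910 : act 6 n151344 = n212910 := rfl
theorem F468071 : act 3 n212910 = n191343 := d7_1 D212910 (iv6 F398381) (iv3 F398379)
theorem F468072 : act 7 n212910 = n212849 := d14_2 (iv7 F427774) D212910 (iv6 D212849) (iv7 F238414) (iv6 F427771)
theorem F468073 : act 0 n212910 = n212310 := d21_10 F465253 (iv1 F448380) F448377 (iv6 D147937) (iv1 F105597) D146554 D212304 F465240 F252359 D212910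
theorem F468074 : act 0 n188060 = n212910 := d20_4 (iv4 F370685) (iv1 F387430) (iv4 D188061) D188060 F468071 (iv4 D191343) (iv1 D98099) D98100 (iv3 F376936) (iv1 D187528)
def n212911 : Q := act 0 n151347
theorem D212911 : act 0 n151347 = n212911 := rfl
theorem F468075 : act 4 n212911 = n188840 := d18_1 D212911 (iv1 F421216) (iv4 F421747) (iv5 F443784) F448370 F448368 D212609 F466672 F403365
theorem F468076 : act 6 n212911 = n188060 := d21_5 F114925 (iv1 F115158) F115156 D151347 D212911 (iv5 F444701) (iv1 D207400) (iv5 F350242) (iv6 F350244) (iv1 F162655)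
theorem F468077 : act 5 n212911 = n186435 := d21_0 F447995 (iv5 F466631) F466632 (iv1 F328910) (iv6 D152557) F114925 (iv1 F115158) F115156 D151347 D212911
theorem F468078 : act 3 n186437 = n212911 := d6_3 F468077 (iv3 D186435) D186437
theorem F468079 : act 6 n186435 = n208215 := d21_3 F403365 D212911 F468077 (iv1 D208215) (iv6 D133719) D133718 F313460 (iv5 F335870) D208208 F448366
theorem F468080 : act 3 n208215 = n186438 := d7_1 F468079 (iv6 D186438) D186435
def n212912 : Q := act 1 n151347
theorem D212912 : act 1 n151347 = n212912 := rfl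
theorem F468081 : act 4 n188841 = n212912 := d20_0 (iv1 D212912) (iv4 F467776) F467775 F356683 (iv3 F379598) (iv4 F446090) F446093 F421220 (iv3 F421213) (iv1 F421215)
theorem F468082 : act 6 n212277 = n212912 := d21_9 (iv5 F403365) (iv1 F466672) F466671 F466638 (iv1 F465242) F356761 (iv5 F295290) D188296 (iv5 F465102) (iv1 D212912)
theorem F468083 : act 2 n212912 = n212313 := d3_1 F468082 (iv6 D212313) F465103
theorem F468084 : act 3 n212912 = n204196 := d19_3 D195962 F398873 F468081 (iv1 F431439) (iv5 D157397) (iv4 F364636) F239635 F177915 (iv5 D114166) (iv4 F161702) (iv3 F396182) (iv1 F396185) (iv5 F335879) F229795 F176590 D113399 F341619 F96580 (iv3 F163732)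
theorem E103991 : n204222 = n188057 := ((c20_1 (iv4 F376996) (iv1 D204222) (iv4 F431441) (iv3 D204197) D204196 (iv3 F468084) (iv4 F468081) (iv1 D188841) F365303 F238404 D188813)).symm
theorem F468085 : act 0 n188057 = n123156 := (sb E103991 (iv1 D204222))
theorem F468086 : act 3 n189748 = n212313 := d0_4 F468084 (iv2 F447937) F447938 (iv2 F377611) (iv2 F468083)
theorem F468087 : act 5 n212313 = n189746 := d6_2 D189748 F468086 (iv3 D189746)
theorem F468088 : act 6 n212311 = n189748 := d7_0 F468086 (iv6 D212313) D212311
theorem F468089 : act 7 n212313 = n212911 := d8_2 F377613 F468086 (iv3 F468078)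
def n212913 : Q := act 7 n151347
theorem D212913 : act 7 n151347 = n212913 := rfl
theorem F468090 : act 3 n212913 = n151696 := d8_1 D212913 F428086 F428083
theorem F468091 : act 4 n212913 = n212910 := d11_1 D212913 F468072 F467776
theorem F468092 : act 5 n212913 = n151695 := d13_1 D212913 (iv7 F403366) F403365
theorem F468093 : act 6 n212913 = n212306 := d14_1 D212913 F465246 (iv6 D203308) F186662 D151347
def n212914 : Q := act 7 n151348
theorem D212914 : act 7 n151348 = n212914 := rfl
theorem F468094 : act 2 n212914 = n212306 := d4_1 D212914 F465246 F427793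
theorem F468095 : act 4 n212914 = n203305 := d11_1 D212914 F427776 (iv4 F335932)
theorem F468096 : act 5 n212914 = n208431 := d13_1 D212914 F449335 F398030
theorem F468097 : act 1 n151531 = n212914 := d15_1 (iv0 F427797) (iv7 D212914) (iv2 F427793)
theorem F468098 : act 1 n212914 = n202953 := d15_1 F468097 F426360 (iv2 F238396)
def n212915 : Q := act 0 n151366
theorem D212915 : act 0 n151366 = n212915 := rfl
theorem F468099 : act 5 n212915 = n194186 := d17_1 D212915 (iv1 F429305) F429302 (iv4 F421747) (iv5 F443784) F443787 (iv5 F465176) (iv0 F465178) F374311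
theorem F468100 : act 4 n212915 = n212601 := d18_1 D212915 (iv1 F466639) F465228 (iv5 F448377) F448376 (iv0 D197174) (iv4 F403389) (iv0 F403391) (iv5 F238076)
theorem F468101 : act 2 n155578 = n212915 := d15_3 (iv0 D212915) (iv0 F465129) F465128
theorem F468102 : act 1 n155580 = n212915 := d15_0 (iv0 D212915) (iv7 F465029) F465027
theorem F468103 : act 7 n212915 = n155579 := d15_2 (iv0 F465130) F468102 (iv2 F465124)
theorem F468104 : act 3 n157745 = n212915 := d19_19 (iv1 F468102) (iv5 F398878) F398877 (iv3 F342971) (iv1 F164411) (iv5 F237971) (iv4 F467913) F467912 (iv1 F413560) (iv5 D111755) D111754 D199806 F413587 (iv5 D193276) D193275 (iv3 F402553) (iv1 F402556) (iv5 F420184) F420185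
def n212916 : Q := act 6 n151373
theorem D212916 : act 6 n151373 = n212916 := rfl
theorem F468105 : act 2 n212916 = n184322 := d3_1 D212916 (iv6 D184322) (iv2 F354448)
theorem F468106 : act 3 n212916 = n151374 := d7_1 D212916 (iv6 D151374) D151373
theorem F468107 : act 7 n212916 = n211211 := d14_2 (iv7 F238090) D212916 (iv6 D211211) (iv7 F460523) F460522
def n212917 : Q := act 5 n151374
theorem D212917 : act 5 n151374 = n212917 := rfl
theorem F468108 : act 2 n212917 = n155683 := d2_1 D212917 (iv5 D155683) (iv2 F238091)
theorem F468109 : act 7 n212917 = n211212 := d13_2 F348145 D212917 (iv5 D211212)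
theorem F468110 : act 0 n212917 = n156483 := d17_2 (iv1 F386725) D212917 (iv5 D156483) F111682 (iv5 F311028) (iv0 F308876) D107924 F366298 (iv4 F386722)
theorem F468111 : act 1 n212917 = n210689 := d17_6 F389547 (iv5 D193352) (iv1 F307797) F210113 (iv4 F238092) D212917 (iv5 D210689) F341121 (iv4 F341133)
def n212918 : Q := act 4 n151379
theorem D212918 : act 4 n151379 = n212918 := rfl
theorem F468112 : act 2 n212918 = n197358 := d1_1 D212918 F404038 (iv2 F349219)
theorem F468113 : act 3 n212918 = n194324 := d5_1 D212918 (iv4 D194324) (iv3 F387964) (iv4 D192833) (iv3 F349220)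
theorem F468114 : act 6 n212918 = n195290 := d10_2 F448575 D212918 (iv4 F448574)
theorem F468115 : act 7 n212918 = n192863 := d11_2 (iv7 F349221) D212918 (iv4 D192863)
theorem F468116 : act 0 n212918 = n192422 := d18_2 (iv1 F465055) D212918 (iv4 D192422) F367461 F367458 F381203 F381201 (iv0 F382430) F465056
theorem F468117 : act 1 n212918 = n192420 := d18_6 F65947 (iv4 F62126) D87857 (iv4 F157793) F349218 D212918 (iv4 D192420) (iv0 D100172) (iv5 D46752)
def n212919 : Q := act 6 n151400
theorem D212919 : act 6 n151400 = n212919 := rfl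
theorem F468118 : act 2 n212919 = n158950 := d3_1 D212919 F347292 (iv2 F356341)
theorem F468119 : act 3 n212919 = n154954 := d7_1 D212919 (iv6 D154954) (iv3 F356342)
theorem F468120 : act 4 n212919 = n151402 := d10_1 D212919 (iv6 D151402) D151400
theorem F468121 : act 5 n212919 = n191682 := d12_1 D212919 (iv6 D191682) (iv5 F294402) F294403 (iv5 F356343)
theorem F468122 : act 7 n212919 = n211551 := d14_2 (iv7 F356344) D212919 F462089 F341550 (iv6 D186510)
theorem F468123 : act 0 n212919 = n186972 := d21_4 F289355 (iv1 F157455) (iv5 F356343) D212919 F368718 F354925 (iv1 F364035) (iv5 F289359) (iv6 D186491) D186489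
theorem F468124 : act 0 n208311 = n212919 := d21_4 D148104 (iv1 F466588) F466587 F448868 (iv6 D212919) F356343 (iv1 D102521) D102523 (iv6 F361656) F361653
def n212920 : Q := act 6 n151423
theorem D212920 : act 6 n151423 = n212920 := rfl
theorem F468125 : act 2 n212920 = n188891 := d3_1 D212920 F375138 F347781
theorem F468126 : act 4 n212920 = n212485 := d10_1 D212920 (iv6 D212485) (iv4 F343316)
theorem F468127 : act 5 n212920 = n188932 := d12_1 D212920 (iv6 D188932) D188931 (iv6 F421436) F421435
theorem F468128 : act 7 n212920 = n188890 := d14_2 F347788 D212920 F420992 F420988 (iv6 F376351)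
theorem F468129 : act 0 n212920 = n178364 := d21_4 D114992 D201692 F421435 D212920 F336014 F133593 (iv1 F63626) (iv5 F68970) D93849 F353834
theorem F468130 : act 1 n212920 = n164203 := d15_1 (iv0 F468129) F258807 (iv2 F336012)
def n212921 : Q := act 3 n151426
theorem D212921 : act 3 n151426 = n212921 := rfl
theorem F468131 : act 4 n212921 = n151452 := d5_2 D151426 D212921 (iv3 D151452) (iv4 D71395) (iv3 F107878)
theorem F468132 : act 7 n212921 = n189305 := d8_2 (iv7 F238156) D212921 (iv3 D189305)
theorem F468133 : act 0 n189322 = n212921 := d18_2 F376562 (iv4 F376401) F468131 (iv5 F376861) F413488 (iv0 D188924) F143282 D92913 D188936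
def n212922 : Q := act 5 n151426
theorem D212922 : act 5 n151426 = n212922 := rfl
theorem F468134 : act 2 n212922 = n189312 := d2_1 D212922 (iv5 D189312) (iv2 F238155)
theorem F468135 : act 4 n212922 = n189659 := d9_1 D212922 F377285 F176085 F82487 (iv4 F47671) (iv5 F97664) D133410 D208119 F447962 F377288 (iv4 D113021) (iv5 D52167) (iv4 F52212) D71387 D151426
theorem F468136 : act 7 n212922 = n189306 := d13_2 (iv7 F238156) D212922 (iv5 D189306)
theorem F468137 : act 6 n209916 = n212922 := d10_0 F468135 (iv6 F390719) (iv4 F455347)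
def n212923 : Q := act 6 n151427
theorem D212923 : act 6 n151427 = n212923 := rfl
theorem F468138 : act 2 n212923 = n173418 := d3_1 D212923 (iv6 D173418) F238161
theorem F468139 : act 3 n212923 = n158935 := d7_1 D212923 F250268 F305369
theorem F468140 : act 4 n212923 = n158983 := d10_1 D212923 (iv6 F306221) (iv4 F238159)
theorem F468141 : act 7 n212923 = n175392 := d14_2 F238162 D212923 (iv6 D175392) (iv7 F342220) F335202
theorem F468142 : act 0 n208288 = n212923 := d18_0 F468140 F415468 F415465 F360775 (iv4 F396477) F396479 F352311 (iv0 F373075) D208288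
def n212924 : Q := act 0 n151443
theorem D212924 : act 0 n151443 = n212924 := rfl
theorem F468143 : act 5 n212924 = n151530 := d17_3 D201709 F421497 D212924 (iv4 F360960) (iv5 F251541) (iv0 F342163) (iv5 F452322) (iv0 F452324) (iv4 D201710)
theorem F468144 : act 3 n212924 = n178364 := d20_5 F346135 F419679 (iv4 F429178) F429182 D212924 (iv4 D178364) (iv1 F334703) (iv4 F375452) F375453 F346134
theorem F468145 : act 6 n212924 = n182279 := d21_5 D195247 F396460 (iv5 D151442) D151443 D212924 F283734 (iv1 F288149) (iv5 D159697) (iv6 F238518) (iv1 F354841)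
theorem F468146 : act 2 n151651 = n212924 := d15_3 (iv0 D212924) F363932 F238514
theorem F468147 : act 1 n151654 = n212924 := d15_0 (iv0 D212924) (iv7 F465182) F465179
theorem F468148 : act 7 n212924 = n151565 := d15_2 (iv0 F363931) F468147 (iv2 F238457)
def n212925 : Q := act 0 n151446
theorem D212925 : act 0 n151446 = n212925 := rfl
theorem F468149 : act 5 n212925 = n202699 := d17_1 D212925 F425169 (iv5 F349341) F355694 (iv5 F355730) (iv0 F462207) F462209 (iv0 D151444) D151446
theorem F468150 : act 4 n212925 = n200367 := d18_1 D212925 (iv1 F420243) (iv4 D201377) (iv5 D114394) F316817 F105585 (iv4 F105601) (iv0 F231750) (iv5 F355797)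
theorem F468151 : act 6 n212925 = n190018 := d21_5 (iv5 F387000) (iv1 F387003) (iv5 D151453) (iv6 F238184) D212925 F378574 D208214 F448400 (iv6 D197026) (iv1 F238343)
theorem F468152 : act 2 n151665 = n212925 := d15_3 (iv0 D212925) (iv0 F464921) F464919
theorem F468153 : act 1 n151669 = n212925 := d15_0 (iv0 D212925) (iv7 F355693) F355692
theorem F468154 : act 7 n212925 = n151666 := d15_2 F464922 F468153 (iv2 F464916)
theorem F468155 : act 3 n190019 = n212925 := d20_3 (iv4 F379647) (iv1 D190021) (iv4 F378578) (iv1 F468153) F355224 (iv4 D142473) F181699 D67548 (iv3 F225678) (iv1 F379644)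
def n212926 : Q := act 0 n151452
theorem D212926 : act 0 n151452 = n212926 := rfl
theorem F468156 : act 5 n212926 = n204197 := d19_1 D212926 F431441 (iv3 D123156) F304309 (iv5 F405143) F405144 (iv3 F366660) (iv1 F238943) (iv5 D151948) (iv4 D71640) F52358 F42821 (iv5 D26399) D26398 (iv3 F52220) (iv1 D33032) D33033 D71395 D151452
theorem F468157 : act 3 n212926 = n204198 := d20_5 (iv4 D107548) F78505 D71395 D151452 D212926 F431445 (iv1 F448359) F448355 (iv3 F444595) F238926
theorem F468158 : act 6 n212926 = n194006 := d21_5 (iv5 F409874) F409875 D203434 F428284 D212926 (iv5 D194006) F324730 D132870 (iv6 F376821) (iv1 F399817)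
theorem F468159 : act 2 n195999 = n212926 := d15_3 (iv0 D212926) (iv0 F341617) D195999
theorem F468160 : act 1 n195997 = n212926 := d15_0 (iv0 D212926) (iv7 F402759) (iv2 F411626)
theorem F468161 : act 7 n212926 = n195994 := d15_2 D195997 F468160 F398998
def n212927 : Q := act 2 n151452
theorem D212927 : act 2 n151452 = n212927 := rfl
theorem F468162 : act 3 n212927 = n151703 := d0_2 D151452 D212927 (iv2 D151703) (iv3 D71488) (iv2 F107895)
theorem F468163 : act 6 n212927 = n211489 := d3_2 F428284 D212927 F461788
theorem F468164 : act 7 n212927 = n195997 := d4_2 F402759 D212927 F411626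
theorem F468165 : act 1 n212927 = n195994 := d15_0 (iv0 F402760) F402759 D212927
theorem F468166 : act 1 n195999 = n212927 := d15_0 F468165 (iv7 F468161) (iv2 F468159)
def n212928 : Q := act 0 n151453
theorem D212928 : act 0 n151453 = n212928 := rfl
theorem F468167 : act 5 n212928 = n151492 := d17_1 D212928 F238331 D197025 F402731 (iv5 F313755) (iv0 D124087) D124089 F314628 (iv4 F238207)
theorem F468168 : act 4 n212928 = n151499 := d18_1 D212928 F238350 (iv4 F402782) (iv5 D197038) (iv4 F210502) F210501 (iv4 F238197) (iv0 D151450) D151453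
theorem F468169 : act 2 n151705 = n212928 := d15_3 (iv0 D212928) F387003 (iv7 F387001)
theorem F468170 : act 1 n151510 = n212928 := d15_0 (iv0 D212928) F238206 (iv2 F238377)
theorem F468171 : act 7 n212928 = n151706 := d15_2 (iv0 F387002) F468170 (iv2 F386998)
theorem F468172 : act 6 n212605 = n212928 := d21_3 (iv5 F397396) (iv1 F456345) (iv5 F466657) (iv1 F468170) (iv6 F427943) F427945 (iv1 D202939) D202940 (iv6 F426363) (iv1 F426365)
def n212929 : Q := act 5 n151495
theorem D212929 : act 5 n151495 = n212929 := rfl
theorem F468173 : act 2 n212929 = n151963 := d2_1 D212929 (iv5 D151963) (iv2 F238338)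
theorem F468174 : act 3 n212929 = n152896 := d6_1 D212929 F308283 (iv3 F361485)
theorem F468175 : act 7 n212929 = n204403 := d13_2 F361483 D212929 (iv5 D204403)
theorem F468176 : act 0 n212929 = n185284 := d17_2 F361919 D212929 (iv5 F346093) (iv4 F340978) F340979 (iv0 F336875) (iv5 F313750) F313748 F361920
theorem F468177 : act 1 n212929 = n192886 := d17_6 F337181 F332483 (iv1 D76667) (iv5 F107929) (iv4 F238339) D212929 (iv5 D192886) (iv0 D100893) (iv4 F155038)
def n212930 : Q := act 3 n151496
theorem D212930 : act 3 n151496 = n212930 := rfl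
theorem F468178 : act 2 n212930 = n191706 := d0_1 D212930 F384217 (iv2 F379849) (iv3 D151976) (iv2 F238340)
theorem F468179 : act 4 n212930 = n207419 := d5_2 D151496 D212930 (iv3 D207419) (iv4 D131398) (iv3 F107931)
theorem F468180 : act 5 n212930 = n212300 := d6_2 F387000 D212930 (iv3 F465223)
theorem F468181 : act 6 n212930 = n186140 := d7_2 (iv6 F376703) D212930 (iv3 F376699)
theorem F468182 : act 7 n212930 = n151942 := d8_2 (iv7 F238341) D212930 (iv3 D151942)
theorem F468183 : act 0 n212930 = n189746 := d20_4 F238537 F164460 D151496 D212930 (iv3 D189746) F377606 F369401 (iv4 F293806) F360279 D151675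
theorem F468184 : act 0 n212313 = n197176 := d21_1 (iv5 F468087) (iv5 D197176) (iv6 D107916) F78823 D71639 F108129 F293116 (iv5 F367099) (iv6 F468181) F468183
theorem F468185 : act 1 n212313 = n212913 := d15_1 (iv0 F468184) (iv7 D212913) (iv2 F403402)
def n212931 : Q := act 0 n151497
theorem D212931 : act 0 n151497 = n212931 := rfl
theorem F468186 : act 4 n212931 = n187168 := d18_3 (iv1 F377659) F376702 D212931 (iv5 D187168) (iv4 F293633) (iv0 F372814) F372811 F360978 (iv5 F377654)
theorem F468187 : act 2 n151978 = n212931 := d15_3 (iv0 D212931) (iv0 F364664) (iv7 F376264)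
theorem F468188 : act 1 n151980 = n212931 := d15_0 (iv0 D212931) (iv7 F451980) F451976
theorem F468189 : act 7 n212931 = n151979 := d15_2 F364665 F468188 F375298
theorem F468190 : act 3 n190523 = n212931 := d20_3 (iv4 F210445) D207408 F444748 (iv1 F468188) (iv3 F292425) (iv4 F249013) F377163 (iv4 D188520) (iv3 F377164) (iv1 D131308)
def n212932 : Q := act 6 n151499
theorem D212932 : act 6 n151499 = n212932 := rfl
theorem F468191 : act 2 n212932 = n151985 := d3_1 D212932 (iv6 D151985) (iv2 F238348)
theorem F468192 : act 3 n212932 = n186785 := d7_1 D212932 (iv6 D186785) (iv3 F366586)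
theorem F468193 : act 4 n212932 = n212605 := d10_1 D212932 F468172 F468168
theorem F468194 : act 5 n212932 = n193059 := d12_1 D212932 (iv6 D193059) F357802 (iv6 D151500) D151499
def n212933 : Q := act 6 n151505
theorem D212933 : act 6 n151505 = n212933 := rfl
theorem F468195 : act 2 n212933 = n203789 := d3_1 D212933 (iv6 D203789) F361345
theorem F468196 : act 3 n212933 = n192579 := d7_1 D212933 (iv6 D192579) F342636
theorem F468197 : act 7 n212933 = n212557 := d14_2 (iv7 F361339) D212933 F466411 F310302 (iv6 F361338)
theorem F468198 : act 5 n212933 = n193775 := d21_6 D33599 F76714 (iv5 F90057) (iv6 F309266) D151505 D212933 (iv1 F390976) F291517 (iv6 D72858) (iv1 D33597)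
theorem F468199 : act 0 n212556 = n212933 := d17_0 F468198 (iv1 F390976) F291517 F323003 D173356 F353791 F353795 F447413 (iv4 F466407)
theorem F468200 : act 1 n191382 = n212933 := d18_8 (iv1 F390976) F157919 D102674 F388034 (iv5 D192856) (iv4 F353802) (iv0 F353794) (iv4 F383278) F468198
def n212934 : Q := act 5 n151506
theorem D212934 : act 5 n151506 = n212934 := rfl
theorem F468201 : act 2 n212934 = n209577 := d2_1 D212934 F454208 F361341
theorem F468202 : act 3 n212934 = n182031 := d6_1 D212934 (iv5 F283426) F344786
theorem F468203 : act 7 n212934 = n183104 := d13_2 F361346 D212934 (iv5 F366768)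
theorem F468204 : act 0 n212934 = n174746 := d17_2 (iv1 F238371) D212934 (iv5 D174746) F128594 D83494 F321888 (iv5 F316724) F344796 (iv4 F217614)
theorem F468205 : act 1 n212934 = n175734 := d17_6 F384350 (iv5 F342647) (iv1 D167565) (iv5 F361352) F361351 D212934 (iv5 D175734) (iv0 F281956) D191750
theorem F468206 : act 4 n209576 = n212934 := d16_0 (iv5 D212934) (iv4 F361351) F361352 (iv4 F132306) (iv5 F300824) (iv4 F275400) (iv5 F454160) F454161 D209576
def n212935 : Q := act 5 n151515
theorem D212935 : act 5 n151515 = n212935 := rfl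
theorem F468207 : act 2 n212935 = n192771 := d2_1 D212935 F387708 (iv2 F238385)
theorem F468208 : act 3 n212935 = n203636 := d6_1 D212935 (iv5 D203636) F355740
theorem F468209 : act 6 n212935 = n154245 := d12_2 D151515 D212935 (iv5 D154245) (iv6 D73080) (iv5 F107960)
theorem F468210 : act 7 n212935 = n192770 := d13_2 (iv7 F355760) D212935 (iv5 F426121)
theorem F468211 : act 4 n209569 = n212935 := d11_3 F468210 (iv4 F460660) F460659
theorem F468212 : act 0 n212935 = n188398 := d21_4 F385190 F342020 D154245 (iv6 F468209) (iv6 D188398) (iv5 D91350) F177417 D46538 (iv6 F153300) (iv1 F385194)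
theorem F468213 : act 1 n212935 = n192772 := d15_1 (iv0 F468212) (iv7 D192772) (iv2 F373293)
def n212936 : Q := act 5 n151516
theorem D212936 : act 5 n151516 = n212936 := rfl
theorem F468214 : act 2 n212936 = n212905 := d2_1 D212936 (iv5 D212905) (iv2 F357218)
theorem F468215 : act 3 n212936 = n211607 := d6_1 D212936 F462356 F357217
theorem F468216 : act 7 n212936 = n211646 := d13_2 (iv7 F357216) D212936 F462503
def n212937 : Q := act 6 n151516
theorem D212937 : act 6 n151516 = n212937 := rfl
theorem F468217 : act 2 n212937 = n208489 := d3_1 D212937 F449593 (iv2 F357218)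
theorem F468218 : act 3 n212937 = n179013 := d7_1 D212937 (iv6 F349349) F357217
theorem F468219 : act 4 n212937 = n203302 := d10_1 D212937 (iv6 D203302) (iv4 F357219)
theorem F468220 : act 7 n212937 = n211282 := d14_2 (iv7 F357216) D212937 (iv6 D211282) (iv7 F425052) F425051
theorem F468221 : act 5 n212937 = n179012 := d21_6 F301845 (iv1 F301840) F87732 D71431 D151516 D212937 F385072 (iv5 D151578) (iv6 D71453) (iv1 F107986)
theorem F468222 : act 0 n201855 = n212937 := d17_0 F468221 F385072 (iv5 D151578) F107996 (iv5 F103982) (iv0 F329171) F329172 (iv0 F335488) D201855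
theorem F468223 : act 1 n159739 = n212937 := d15_0 (iv0 F468222) (iv7 F422183) F422180
def n212938 : Q := act 5 n151517
theorem D212938 : act 5 n151517 = n212938 := rfl
theorem F468224 : act 2 n212938 = n211646 := d2_1 D212938 F462503 (iv2 F348650)
theorem F468225 : act 3 n212938 = n188271 := d6_1 D212938 F372918 (iv3 F348651)
theorem F468226 : act 7 n212938 = n212905 := d13_2 (iv7 F348653) D212938 (iv5 D212905)
theorem F468227 : act 4 n212938 = n188280 := d19_2 (iv1 F357209) D212938 (iv3 D188280) (iv1 F367453) F367451 (iv4 D90440) (iv3 F139194) F159976 F157531 F143482 (iv3 D89541) (iv1 F64469) D41840 F64501 D47458 (iv1 F357220) F156826 (iv4 F136280) (iv3 F289402)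
def n212939 : Q := act 1 n151518
theorem D212939 : act 1 n151518 = n212939 := rfl
theorem F468228 : act 3 n187013 = n212939 := d19_19 (iv1 D212939) (iv5 D151518) F107964 (iv3 F52417) D71808 D152227 (iv4 F339221) (iv3 F466784) F466785 (iv5 D159727) (iv4 D76414) D76413 D159718 F342999 (iv4 D182143) (iv3 F337238) F337236 D89471 D187013
theorem F468229 : act 4 n212939 = n187015 := d5_2 D187013 F468228 (iv3 D187015) (iv4 D89473) (iv3 F137140)
def n212940 : Q := act 4 n151518
theorem D212940 : act 4 n151518 = n212940 := rfl
def n212941 : Q := act 7 n151518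
theorem D212941 : act 7 n151518 = n212941 := rfl
theorem F468230 : act 3 n212941 = n154328 := d8_1 D212941 (iv7 D154328) (iv3 F238387)
theorem F468231 : act 5 n212941 = n151519 := d13_1 D212941 (iv7 D151519) D151518
theorem F468232 : act 6 n212941 = n181951 := d14_1 D212941 (iv7 D181951) (iv6 F283234) (iv7 F429599) F429598
def n212942 : Q := act 5 n151531
theorem D212942 : act 5 n151531 = n212942 := rfl
theorem F468233 : act 2 n212942 = n187675 := d2_1 D212942 F371166 (iv2 F238396)
theorem F468234 : act 3 n212942 = n187721 := d6_1 D212942 (iv5 F375395) F375394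
theorem F468235 : act 6 n212942 = n187673 := d12_2 (iv6 F238397) D212942 (iv5 F377680) F377681 F329546
theorem F468236 : act 7 n212942 = n212307 := d13_2 (iv7 F335935) D212942 (iv5 D212307)
def n212943 : Q := act 0 n151533
theorem D212943 : act 0 n151533 = n212943 := rfl
theorem F468237 : act 4 n212943 = n188060 := d18_1 D212943 F468074 (iv4 F468091) F468092 (iv4 F428331) (iv0 F428335) F398877 (iv0 F238511) (iv5 F238405)
theorem F468238 : act 6 n212943 = n188840 := d21_5 (iv5 F114555) F114554 (iv5 F107967) D151533 D212943 F398875 (iv1 D195963) F163733 (iv6 D74017) D74015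
theorem F468239 : act 3 n195982 = n212943 := d7_3 F468238 (iv3 F447975) F447978
theorem F468240 : act 0 n212943 = n201770 := d21_4 F465028 (iv1 F444721) (iv5 F398875) (iv6 F468238) F421748 (iv5 F421209) (iv1 F395946) (iv5 F452322) (iv6 F452323) F465031
theorem F468241 : act 2 n212943 = n201768 := d0_1 F468239 F454011 F467876 (iv3 F467877) F399558
theorem F468242 : act 7 n212943 = n201769 := d8_2 (iv7 F399557) F468239 (iv3 F421745)
def n212944 : Q := act 1 n151533
theorem D212944 : act 1 n151533 = n212944 := rfl
theorem F468243 : act 1 n212944 = n201770 := d15_1 D212944 (iv7 D201770) (iv2 F238403)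
theorem F468244 : act 7 n212944 = n201768 := d15_2 (iv0 D212943) D212944 (iv2 F468241)
theorem F468245 : act 4 n212310 = n212944 := d20_0 (iv1 D212944) (iv4 F365303) F143209 D92858 (iv3 F376992) F287204 (iv1 F151237) D191343 (iv3 F468071) F468073
theorem F468246 : act 6 n212944 = n212309 := d10_2 D212310 F468245 (iv4 D212309)
theorem F468247 : act 3 n212944 = n212870 := d19_3 F443777 (iv5 F465253) F468245 (iv1 D212870) F237955 (iv4 F361788) F361787 D190348 F379494 (iv4 D179277) (iv3 D85547) (iv1 D39489) D39491 D85556 (iv3 F347834) D190149 (iv5 F380301) F380302 (iv3 F210414)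
theorem F468248 : act 2 n201769 = n212944 := d0_5 F468247 (iv2 F467884) F453984 F399554 F421745
def n212945 : Q := act 7 n151533
theorem D212945 : act 7 n151533 = n212945 := rfl
theorem F468249 : act 2 n212945 = n201770 := d4_1 D212945 (iv7 D201770) (iv2 F238403)
theorem F468250 : act 3 n212945 = n188816 := d8_1 D212945 (iv7 D188816) (iv3 F238404)
theorem F468251 : act 4 n212945 = n188842 := d11_1 D212945 (iv7 D188842) F365303
theorem F468252 : act 5 n212945 = n197032 := d13_1 D212945 (iv7 D197032) (iv5 F238405)
theorem F468253 : act 6 n212945 = n209112 := d14_1 D212945 F452312 (iv6 D150763) F107971 D151533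
theorem F468254 : act 1 n201769 = n212945 := d15_1 D201769 (iv7 D212945) F238403
theorem F468255 : act 1 n212945 = n201768 := d15_1 F468254 (iv7 F468244) (iv2 F468248)
def n212946 : Q := act 6 n151535
theorem D212946 : act 6 n151535 = n212946 := rfl
theorem F468256 : act 2 n212946 = n212849 := d3_1 D212946 (iv6 D212849) F238411
theorem F468257 : act 4 n212946 = n197176 := d10_1 D212946 F403403 (iv4 F238409)
theorem F468258 : act 0 n212946 = n188060 := d21_4 F239746 (iv1 F142819) (iv5 F335916) D212946 (iv6 F468076) F468077 F447995 (iv5 F466631) F466632 (iv1 F328910)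
theorem F468259 : act 0 n212310 = n212946 := d21_4 (iv5 D187620) D187618 F371023 D212310 (iv6 D212946) F335916 (iv1 D90733) D90735 D188019 F372142
def n212947 : Q := act 6 n151562
theorem D212947 : act 6 n151562 = n212947 := rfl
theorem F468260 : act 2 n212947 = n164203 := d3_1 D212947 (iv6 D164203) (iv2 F238453)
theorem F468261 : act 3 n212947 = n151565 := d7_1 D212947 (iv6 D151565) D151562
theorem F468262 : act 4 n212947 = n175991 := d10_1 D212947 (iv6 D175991) (iv4 F350990)
theorem F468263 : act 5 n212947 = n188643 := d12_1 D212947 F374294 (iv5 F367190) (iv6 F352918) F238452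
theorem F468264 : act 7 n212947 = n178364 := d14_2 F238448 D212947 F336014 (iv7 F133613) (iv6 F145477)
theorem F468265 : act 0 n212947 = n188891 := d21_4 (iv5 D194195) (iv1 F367148) F238452 D212947 F375138 D195203 (iv1 F421452) F421449 (iv6 F396407) (iv1 F396408)
theorem F468266 : act 0 n188890 = n212947 := d21_4 D52987 (iv1 F352420) D201576 (iv6 F420992) (iv6 D212947) (iv5 F238452) F367182 (iv5 F367181) (iv6 D114834) (iv1 D52986)
def n212948 : Q := act 3 n151563
theorem D212948 : act 3 n151563 = n212948 := rfl
theorem F468267 : act 4 n212948 = n175372 := d5_2 D151563 D212948 F365407 (iv4 F350990) (iv3 D151562)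
theorem F468268 : act 5 n212948 = n208281 := d6_2 F355340 D212948 (iv3 D208281)
theorem F468269 : act 7 n212948 = n208288 := d8_2 F355346 D212948 F448757
theorem F468270 : act 0 n212948 = n175392 := d20_4 F107992 D71448 D151563 D212948 F363163 (iv4 D179663) F131599 D158914 (iv3 F347360) (iv1 D151558)
theorem F468271 : act 0 n173418 = n212948 := d17_0 F468268 (iv1 F448722) (iv5 D205012) (iv4 D125097) (iv5 D58477) D58475 D125090 F434560 (iv4 F434562)
theorem F468272 : act 6 n212948 = n203960 := d21_3 F354744 F448721 (iv5 F468268) (iv1 D203960) (iv6 F281114) F391510 (iv1 F391509) D210202 F456545 (iv1 F434593)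
def n212949 : Q := act 6 n151563
theorem D212949 : act 6 n151563 = n212949 := rfl
theorem F468273 : act 2 n212949 = n203662 := d3_1 D212949 (iv6 D203662) F238456
theorem F468274 : act 3 n212949 = n203960 := d7_1 D212949 (iv6 F468272) (iv3 D212948)
theorem F468275 : act 4 n212949 = n151565 := d10_1 D212949 (iv6 D151565) D151563
theorem F468276 : act 5 n212949 = n204103 := d12_1 D212949 (iv6 F456755) F448728 (iv6 D208282) F355340
theorem F468277 : act 0 n212949 = n151607 := d21_4 (iv5 D134066) (iv1 F355339) F355340 D212949 (iv6 D151607) (iv5 F353556) F341540 D137878 F411661 (iv1 F411660)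
def n212950 : Q := act 1 n151564
theorem D212950 : act 1 n151564 = n212950 := rfl
theorem F468278 : act 1 n212950 = n151569 := d15_1 D212950 (iv7 F238447) (iv2 F238450)
theorem F468279 : act 7 n212950 = n189689 := d15_2 F420251 D212950 (iv2 F420246)
theorem F468280 : act 5 n212950 = n201653 := d17_7 (iv1 F411660) (iv5 D134066) (iv1 F355339) F355340 (iv4 D151563) D151564 D212950 F421240 (iv4 F411659)
theorem F468281 : act 4 n151941 = n212950 := d20_0 (iv1 D212950) (iv4 F392241) F420656 (iv1 D201477) (iv3 D114599) (iv4 D52897) D52896 D114596 D201474 F448215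
theorem F468282 : act 6 n151940 = n212950 := d21_9 (iv5 D151564) (iv1 F114540) (iv5 F251573) (iv6 F415753) (iv1 F415754) F377147 (iv5 F433073) F433075 F427997 (iv1 D212950)
theorem F468283 : act 2 n212950 = n189688 := d3_1 F468282 F398889 (iv2 F238924)
def n212951 : Q := act 6 n151568
theorem D212951 : act 6 n151568 = n212951 := rfl
theorem F468284 : act 2 n212951 = n208290 := d3_1 D212951 (iv6 D208290) F355344
theorem F468285 : act 4 n212951 = n151570 := d10_1 D212951 (iv6 D151570) D151568
theorem F468286 : act 5 n212951 = n210264 := d12_1 D212951 (iv6 D210264) (iv5 D138041) (iv6 F355791) F355341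
theorem F468287 : act 0 n188585 = n212951 := d21_7 F456770 F456524 F454187 F460653 (iv1 D211217) (iv6 F449431) (iv5 F419901) F468286 (iv6 D210264) (iv1 F456769)
def n212952 : Q := act 4 n151571
theorem D212952 : act 4 n151571 = n212952 := rfl
theorem F468288 : act 2 n212952 = n198971 := d1_1 D212952 (iv4 D198971) F259160
theorem F468289 : act 5 n212952 = n208620 := d16_7 (iv4 F456604) (iv5 D210213) F221173 (iv5 F411685) (iv4 F421245) F421246 D212952 F450193 (iv2 F428068)
theorem F468290 : act 0 n212952 = n187869 := d17_0 (iv5 D187869) D187867 F371719 (iv4 F363066) (iv5 D151569) F114539 (iv5 F251573) F251576 D212952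
theorem F468291 : act 1 n212952 = n203931 := d18_6 F426055 F426053 (iv1 F411703) (iv4 F421245) F421246 D212952 (iv4 D203931) (iv0 F399768) F399766
theorem F468292 : act 6 n212952 = n197027 := d21_5 F78515 D69802 (iv5 F340687) (iv6 F430459) (iv1 F468291) F402739 F447652 F447648 (iv6 D197043) (iv1 D107559)
def n212953 : Q := act 6 n151571
theorem D212953 : act 6 n151571 = n212953 := rfl
theorem F468293 : act 2 n212953 = n198972 := d3_1 D212953 (iv6 D198972) F259160
theorem F468294 : act 3 n212953 = n189484 := d7_1 D212953 (iv6 F402826) F402823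
theorem F468295 : act 4 n212953 = n197027 := d10_1 D212953 (iv6 F468292) (iv4 D212952)
theorem F468296 : act 5 n212953 = n151686 := d12_1 D212953 (iv6 F456616) (iv5 D210215) (iv6 F421247) F421246
theorem F468297 : act 0 n189686 = n212953 := d21_4 D107555 D197039 F402785 F403346 (iv6 D212953) (iv5 F421246) (iv1 F421248) (iv5 F420252) F398889 (iv1 D107553)
def n212954 : Q := act 0 n151573
theorem D212954 : act 0 n151573 = n212954 := rfl
theorem F468298 : act 4 n212954 = n159988 := d18_3 F259151 D151573 D212954 (iv5 F464912) F464911 F462091 (iv4 F377404) (iv0 D114940) (iv5 F165961)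
theorem F468299 : act 6 n212954 = n190456 := d21_5 F334828 (iv1 F312073) F215483 (iv6 F238465) D212954 F462310 (iv1 F462309) F367657 (iv6 D131306) D131302
theorem F468300 : act 2 n201471 = n212954 := d15_3 (iv0 D212954) F448242 F448241
theorem F468301 : act 3 n212954 = n186056 := d0_2 D201471 F468300 F353352 (iv3 F352834) (iv2 F178678)
theorem F468302 : act 7 n212954 = n186253 := d4_2 F448241 F468300 (iv2 F448238)
def n212955 : Q := act 3 n151573
theorem D212955 : act 3 n151573 = n212955 := rfl
theorem F468303 : act 6 n212955 = n203901 := d7_2 (iv6 F238465) D212955 (iv3 D203901)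
def n212956 : Q := act 5 n151573
theorem D212956 : act 5 n151573 = n212956 := rfl
theorem F468304 : act 4 n212956 = n208672 := d16_2 D151573 D212956 (iv5 D208672) (iv4 F448849) F448850 F251554 (iv5 F251573) (iv7 D159687) F114533
theorem F468305 : act 0 n208168 = n212956 := d19_0 (iv5 D212956) (iv4 D151573) (iv3 F192332) D203803 F429886 F426026 F226294 (iv1 F314983) (iv5 D121461) (iv4 F306869) F307063 (iv1 D40145) D40146 D86599 (iv3 F309081) (iv1 D62692) D62693 D133588 D208168
theorem F468306 : act 1 n208612 = n212956 := d15_0 (iv0 F468305) F448212 (iv2 F450154)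
def n212957 : Q := act 7 n151578
theorem D212957 : act 7 n151578 = n212957 := rfl
theorem F468307 : act 3 n212957 = n192903 := d8_1 D212957 (iv7 D192903) (iv3 F366824)
theorem F468308 : act 4 n212957 = n211614 := d11_1 D212957 F462384 F451069
theorem F468309 : act 5 n212957 = n151579 := d13_1 D212957 (iv7 D151579) D151578
theorem F468310 : act 6 n212957 = n210209 := d14_1 D212957 (iv7 F456684) (iv6 F456688) F385075 F366828
theorem F468311 : act 1 n208723 = n212957 := d15_1 (iv0 F450579) (iv7 D212957) (iv2 F242369)
theorem F468312 : act 1 n212957 = n204974 := d15_1 F468311 F434403 (iv2 F450577)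
def n212958 : Q := act 1 n151602
theorem D212958 : act 1 n151602 = n212958 := rfl
theorem F468313 : act 1 n212958 = n210398 := d15_1 D212958 F457400 F456606
theorem F468314 : act 7 n212958 = n193811 := d15_2 (iv0 F431675) D212958 (iv2 F431671)
theorem F468315 : act 5 n212958 = n191300 := d17_7 D177733 F403503 (iv1 D197200) D197201 F403506 (iv5 F403507) D212958 F382943 (iv4 D177735)
theorem F468316 : act 4 n212958 = n151637 := d17_9 (iv1 D151637) F161829 (iv1 D105431) (iv5 F88582) (iv4 F193436) D203903 F430315 (iv5 F403507) D212958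
theorem F468317 : act 3 n187111 = n212958 := d19_19 (iv1 D212958) F403507 (iv4 F403506) (iv3 F404591) F404595 (iv5 D123385) (iv4 F305184) (iv3 D33779) (iv1 F53008) F312310 D143317 F363837 F363839 (iv5 D101383) (iv4 F142981) F142980 F290577 D89550 D187111
theorem F468318 : act 6 n186487 = n212958 := d21_3 F302945 (iv1 F335615) D186487 (iv1 D212958) (iv6 D151602) F353546 (iv1 F324684) (iv5 F221180) F353553 (iv1 D151395)
def n212959 : Q := act 0 n151607
theorem D212959 : act 0 n151607 = n212959 := rfl
theorem F468319 : act 5 n212959 = n204102 := d17_1 D212959 (iv1 F468050) F468048 F238052 (iv5 F238059) (iv0 F427773) (iv5 F440085) (iv0 F468006) F468003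
theorem F468320 : act 4 n212959 = n151651 := d18_3 F468007 F468003 D212959 F238512 F360959 (iv0 F427781) (iv4 D203306) D203305 (iv5 F430444)
theorem F468321 : act 7 n203662 = n212959 := d11_0 F468320 (iv7 F238514) (iv4 F429295)
def n212960 : Q := act 7 n151607
theorem D212960 : act 7 n151607 = n212960 := rfl
theorem F468322 : act 3 n212960 = n207521 := d8_1 D212960 F445274 (iv3 F363030)
theorem F468323 : act 4 n212960 = n212304 := d11_1 D212960 (iv7 F468005) F468003
theorem F468324 : act 6 n212960 = n210398 := d14_1 D212960 F457400 (iv6 D210214) F347769 D151607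
theorem F468325 : act 1 n203662 = n212960 := d15_1 (iv0 F429297) (iv7 D212960) (iv2 F426634)
def n212961 : Q := act 6 n151631
theorem D212961 : act 6 n151631 = n212961 := rfl
theorem F468326 : act 2 n212961 = n212004 := d3_1 D212961 F463885 F396457
theorem F468327 : act 4 n212961 = n212613 := d10_1 D212961 (iv6 D212613) (iv4 F353558)
theorem F468328 : act 5 n212961 = n202943 := d12_1 D212961 F426301 (iv5 D151553) D151554 (iv5 F238501)
theorem F468329 : act 7 n212961 = n212283 := d14_2 F456613 D212961 F465133 F376787 (iv6 F456616)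
theorem F468330 : act 0 n209046 = n212961 := d17_0 F468328 (iv1 F426306) F349258 F247679 (iv5 F161551) D195168 (iv5 F420306) (iv0 F420309) (iv4 F452006)
def n212962 : Q := act 1 n151644
theorem D212962 : act 1 n151644 = n212962 := rfl
theorem F468331 : act 1 n212962 = n203918 := d15_1 D212962 F430395 F399577
theorem F468332 : act 5 n212962 = n203924 := d17_7 F364559 F110943 F169470 (iv5 F347764) F347763 D151644 D212962 (iv0 F430423) F376343
theorem F468333 : act 4 n212962 = n206652 := d17_9 F441747 F445684 (iv1 D207615) (iv5 D132139) F96582 (iv5 F120346) F338508 D151644 D212962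
theorem F468334 : act 3 n151662 = n212962 := d19_19 (iv1 D212962) (iv5 D151644) (iv4 F347763) F387925 (iv1 D192828) F321616 (iv4 D50562) F323106 (iv1 D27913) (iv5 F22125) (iv4 F45087) (iv3 F92789) D125404 F353633 D175936 F353844 (iv1 F354838) (iv5 D151663) D151662
theorem F468335 : act 6 n206651 = n212962 := d21_3 (iv5 F106098) D148769 (iv5 F441741) (iv1 D212962) F342970 D195979 (iv1 F398942) (iv5 F410143) (iv6 D198978) (iv1 D110786)
def n212963 : Q := act 4 n151644
theorem D212963 : act 4 n151644 = n212963 := rfl
theorem F468336 : act 2 n212963 = n207549 := d1_1 D212963 F445405 F399577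
theorem F468337 : act 3 n212963 = n196104 := d5_1 D212963 F399423 F339790 (iv4 D151649) (iv3 F238508)
theorem F468338 : act 6 n212963 = n195978 := d10_2 (iv6 F342970) D212963 (iv4 D195978)
theorem F468339 : act 7 n212963 = n196100 := d11_2 F421062 D212963 F421063
def n212964 : Q := act 5 n151648
theorem D212964 : act 5 n151648 = n212964 := rfl
theorem F468340 : act 3 n212964 = n193686 := d6_1 D212964 F390690 F390510
theorem F468341 : act 6 n212964 = n193684 := d12_2 D151648 D212964 F390682 (iv6 D143115) (iv5 F334856)
theorem F468342 : act 4 n212964 = n211645 := d16_2 (iv4 F238510) D212964 F462502 F452171 D209084 F452175 D212293 F465182 F335453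
theorem F468343 : act 0 n212964 = n212938 := d17_2 F462350 D212964 (iv5 D212938) (iv4 F348656) D203303 F466628 F466626 (iv0 F425995) (iv4 F462347)
theorem F468344 : act 1 n212964 = n212936 := d17_6 D71432 D151523 F238515 (iv5 D151653) (iv4 F238510) D212964 (iv5 D212936) (iv0 D151516) F107964
def n212965 : Q := act 1 n151659
theorem D212965 : act 1 n151659 = n212965 := rfl
theorem F468345 : act 1 n212965 = n186687 := d15_1 D212965 (iv7 F419134) F419132
theorem F468346 : act 4 n212965 = n190522 := d18_7 D190446 F379787 (iv1 D186664) D186665 F367591 F355829 D212965 (iv0 D190522) F147765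
theorem F468347 : act 6 n194183 = n212965 := d21_3 F108015 D131307 F392294 (iv1 D212965) (iv6 D151659) D151658 (iv1 F354840) D210215 F456616 (iv1 D151686)
theorem F468348 : act 3 n212965 = n201393 := d7_1 F468347 (iv6 F448023) F448021
def n212966 : Q := act 7 n151659
theorem D212966 : act 7 n151659 = n212966 := rfl
theorem F468349 : act 2 n212966 = n186687 := d4_1 D212966 (iv7 F419134) F419132
theorem F468350 : act 3 n212966 = n201856 := d8_1 D212966 (iv7 D201856) (iv3 F363062)
theorem F468351 : act 4 n212966 = n207402 := d11_1 D212966 (iv7 F444709) F355829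
theorem F468352 : act 5 n212966 = n186675 := d13_1 D212966 F367632 F335487
theorem F468353 : act 6 n212966 = n188774 := d14_1 D212966 F374838 F349247 F251617 D151659
def n212967 : Q := act 6 n151662
theorem D212967 : act 6 n151662 = n212967 := rfl
theorem F468354 : act 2 n212967 = n189347 := d3_1 D212967 (iv6 F396390) F396388
theorem F468355 : act 3 n212967 = n206651 := d7_1 D212967 F468335 (iv3 F468334)
theorem F468356 : act 4 n212967 = n151664 := d10_1 D212967 (iv6 D151664) D151662
theorem F468357 : act 5 n212967 = n200141 := d12_1 D212967 F415214 (iv5 D195216) (iv6 F361628) F361626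
theorem F468358 : act 7 n212967 = n189345 := d14_2 F462251 D212967 F392296 (iv7 F444712) (iv6 F462250)
theorem F468359 : act 0 n212967 = n209039 := d21_4 (iv5 D159768) (iv1 F361627) F361626 D212967 F451970 F444802 F465031 F465028 F444720 F383038
theorem F468360 : act 1 n212967 = n209035 := d15_1 (iv0 F468359) (iv7 F451947) (iv2 F451966)
def n212968 : Q := act 6 n151665
theorem D212968 : act 6 n151665 = n212968 := rfl
theorem F468361 : act 2 n212968 = n190018 := d3_1 D212968 (iv6 F468151) (iv2 F468152)
theorem F468362 : act 3 n212968 = n151979 := d7_1 D212968 (iv6 F462226) F462224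
theorem F468363 : act 4 n212968 = n212018 := d10_1 D212968 (iv6 D212018) F355206
theorem F468364 : act 5 n212968 = n189622 := d12_1 D212968 F377151 F215190 (iv6 F226046) (iv5 F355205)
theorem F468365 : act 0 n212968 = n151972 := d21_4 F448387 F422172 (iv5 F355205) D212968 (iv6 D151972) (iv5 D71650) (iv1 F54258) D62762 D133703 D208212
theorem F468366 : act 0 n190522 = n212968 := d21_4 F375296 F295034 D186360 (iv6 F379989) (iv6 D212968) F355205 F373942 (iv5 F448396) (iv6 F448398) (iv1 F376260)
theorem F468367 : act 7 n212968 = n190523 := d15_2 (iv0 F375299) (iv0 F468365) (iv2 D190523)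
def n212969 : Q := act 6 n151669
theorem D212969 : act 6 n151669 = n212969 := rfl
theorem F468368 : act 2 n212969 = n212612 := d3_1 D212969 (iv6 D212612) F355692
theorem F468369 : act 3 n212969 = n202889 := d7_1 D212969 F426057 (iv3 F355224)
theorem F468370 : act 4 n212969 = n151670 := d10_1 D212969 (iv6 D151670) (iv4 F238521)
theorem F468371 : act 5 n212969 = n202888 := d12_1 D212969 F426054 (iv5 F466602) (iv6 D212594) (iv5 F355799)
theorem F468372 : act 7 n212969 = n151708 := d14_2 D151669 D212969 (iv6 D151708) (iv7 D71490) (iv6 F108002)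
theorem F468373 : act 0 n212969 = n159986 := d21_4 F314514 (iv1 F231752) (iv5 F355799) D212969 F376713 F376710 F372608 (iv5 F376256) F448398 (iv1 D208213)
theorem F468374 : act 1 n212969 = n159981 := d15_1 (iv0 F468373) (iv7 F430448) F430445
def n212970 : Q := act 6 n151671
theorem D212970 : act 6 n151671 = n212970 := rfl
theorem F468375 : act 2 n212970 = n194166 := d3_1 D212970 F392235 (iv2 F238524)
theorem F468376 : act 3 n212970 = n158127 := d7_1 D212970 (iv6 F276151) (iv3 F360274)
theorem F468377 : act 4 n212970 = n151672 := d10_1 D212970 (iv6 D151672) D151671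
theorem F468378 : act 7 n212970 = n158120 := d14_2 F360273 D212970 (iv6 D158120) (iv7 F327200) (iv6 F173703)
theorem F468379 : act 0 n186053 = n212970 := d18_2 F340448 D186053 F468377 F238529 F144664 (iv0 F157224) F63030 D44139 D94442
theorem F468380 : act 1 n194163 = n212970 := d18_6 F374161 (iv4 D188599) (iv1 F142558) F138766 D102862 D194163 F468377 F377128 F377126
def n212971 : Q := act 7 n151672
theorem D212971 : act 7 n151672 = n212971 := rfl
theorem F468381 : act 2 n212971 = n191847 := d4_1 D212971 F384584 (iv2 F238527)
theorem F468382 : act 3 n212971 = n151681 := d8_1 D212971 (iv7 D151681) (iv3 F238528)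
theorem F468383 : act 4 n212971 = n158120 := d11_1 D212971 (iv7 F468378) F468377
theorem F468384 : act 5 n212971 = n186279 := d13_1 D212971 F367045 (iv5 F238529)
theorem F468385 : act 6 n212971 = n158119 := d14_1 D212971 (iv7 F327741) F333570 (iv7 F108007) D151672
theorem F468386 : act 1 n203283 = n212971 := d15_1 D203283 (iv7 D212971) F238527
theorem F468387 : act 1 n212971 = n189230 := d15_1 F468386 (iv7 F377127) (iv2 F427658)
theorem E103992 : n194165 = n158120 := (c18_3 (iv1 F294490) D102866 D194165 (iv4 F468383) F468384 (iv4 D186279) (iv0 D88735) F63875 D41447 D88781)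
theorem F468388 : act 1 n158120 = n102866 := (sb E103992 (iv0 D194165))
def n212972 : Q := act 1 n151674
theorem D212972 : act 1 n151674 = n212972 := rfl
theorem F468389 : act 1 n212972 = n197028 := d15_1 D212972 (iv7 D197028) (iv2 F238534)
theorem F468390 : act 7 n212972 = n197027 := d15_2 F391868 D212972 (iv2 F402740)
theorem F468391 : act 5 n212972 = n205602 := d17_7 (iv1 F456173) F452253 (iv1 F372815) (iv5 F395950) F395949 (iv5 F238536) D212972 (iv0 F437180) (iv4 F456170)
theorem F468392 : act 6 n209046 = n212972 := d21_3 D207237 F443923 D209046 (iv1 D212972) (iv6 D151674) F108009 (iv1 F78501) (iv5 F78518) D107561 F372535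
theorem F468393 : act 3 n212972 = n201073 := d7_1 F468392 (iv6 F418988) (iv3 F452005)
theorem F468394 : act 2 n195976 = n212972 := d0_5 F468393 F418989 F399114 (iv2 F332843) D195976
def n212973 : Q := act 7 n151674
theorem D212973 : act 7 n151674 = n212973 := rfl
theorem F468395 : act 2 n212973 = n197028 := d4_1 D212973 (iv7 D197028) (iv2 F238534)
theorem F468396 : act 3 n212973 = n185906 := d8_1 D212973 F288404 (iv3 F238535)
theorem F468397 : act 5 n212973 = n185904 := d13_1 D212973 F288403 (iv5 F238536)
theorem F468398 : act 6 n212973 = n197032 := d14_1 D212973 (iv7 D197032) (iv6 D107547) (iv7 F108012) D151674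
theorem F468399 : act 1 n195976 = n212973 := d15_1 (iv0 F398933) (iv7 D212973) F238534
theorem F468400 : act 1 n212973 = n197027 := d15_1 F468399 (iv7 F468390) (iv2 F468394)
def n212974 : Q := act 6 n151675
theorem D212974 : act 6 n151675 = n212974 := rfl
theorem F468401 : act 2 n212974 = n189686 := d3_1 D212974 (iv6 F403346) F238539
theorem F468402 : act 4 n212974 = n196154 := d10_1 D212974 (iv6 D196154) (iv4 F238537)
theorem F468403 : act 5 n212974 = n189683 := d12_1 D212974 F377387 (iv5 F371719) (iv6 F421763) (iv5 F421767)
theorem F468404 : act 0 n212974 = n198972 := d21_4 (iv5 F371588) (iv1 F421769) (iv5 F421767) D212974 (iv6 D198972) (iv5 F179022) (iv1 F421240) (iv5 F468280) (iv6 F468282) F238926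
def n212975 : Q := act 4 n151680
theorem D212975 : act 4 n151680 = n212975 := rfl
theorem F468405 : act 2 n212975 = n187872 := d1_1 D212975 (iv4 D187872) (iv2 F238550)
theorem F468406 : act 3 n212975 = n189766 := d5_1 D212975 F377673 (iv3 F150100) (iv4 F331363) (iv3 F238551)
theorem F468407 : act 7 n212975 = n157349 := d11_2 (iv7 F238548) D212975 (iv4 F349251)
theorem F468408 : act 0 n212975 = n151943 := d17_0 (iv5 F451621) F451626 (iv5 D189350) (iv4 D93905) (iv5 D43896) F157249 (iv5 F108014) D151680 D212975
theorem F468409 : act 1 n212975 = n188162 := d18_6 (iv1 D91046) F66477 D42650 (iv4 F292351) F238549 D212975 (iv4 D188162) F292420 (iv5 F349276)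
theorem F468410 : act 6 n212975 = n203932 := d21_5 (iv5 D93997) D93994 D189493 (iv6 F376693) (iv1 F468409) F430463 (iv1 F193590) D159986 F376713 (iv1 D189496)
def n212976 : Q := act 6 n151680
theorem D212976 : act 6 n151680 = n212976 := rfl
theorem F468411 : act 2 n212976 = n187869 := d3_1 D212976 F371721 (iv2 F238550)
theorem F468412 : act 3 n212976 = n189424 := d7_1 D212976 (iv6 D189424) (iv3 F238551)
theorem F468413 : act 4 n212976 = n203932 := d10_1 D212976 (iv6 F468410) (iv4 D212975)
theorem F468414 : act 5 n212976 = n187854 := d12_1 D212976 (iv6 D187854) (iv5 D90616) D90617 F238549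
theorem F468415 : act 7 n212976 = n203931 := d14_2 (iv7 F238548) D212976 F430459 (iv7 F247645) F349249
theorem F468416 : act 0 n198971 = n212976 := d17_2 (iv1 F450174) (iv5 F428065) F468414 F371700 (iv5 D134874) D134872 (iv5 F450159) (iv0 D208613) D208615
def n212977 : Q := act 7 n151689
theorem D212977 : act 7 n151689 = n212977 := rfl
theorem F468417 : act 2 n212977 = n190409 := d4_1 D212977 (iv7 F379700) (iv2 F238567)
theorem F468418 : act 3 n212977 = n151694 := d8_1 D212977 (iv7 D151694) (iv3 F238568)
theorem F468419 : act 4 n212977 = n191217 := d11_1 D212977 F382619 (iv4 F363169)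
theorem F468420 : act 5 n212977 = n206121 := d13_1 D212977 (iv7 D206121) (iv5 F238569)
theorem F468421 : act 6 n212977 = n198957 := d14_1 D212977 (iv7 D198957) (iv6 D110755) (iv7 F108018) D151689
theorem F468422 : act 1 n190003 = n212977 := d15_1 (iv0 F378528) (iv7 D212977) F238567
theorem F468423 : act 1 n212977 = n190407 := d15_1 F468422 (iv7 F452029) F452027
def n212978 : Q := act 6 n151693
theorem D212978 : act 6 n151693 = n212978 := rfl
theorem F468424 : act 2 n212978 = n189354 := d3_1 D212978 F402810 (iv2 F402808)
theorem F468425 : act 3 n212978 = n200268 := d7_1 D212978 (iv6 D200268) F238575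
theorem F468426 : act 4 n212978 = n212606 := d10_1 D212978 F466662 F451660
theorem F468427 : act 7 n212978 = n189344 := d14_2 (iv7 F238574) D212978 (iv6 D189344) (iv7 F372531) (iv6 F372534)
theorem F468428 : act 1 n189353 = n212978 := d15_1 D189353 F468427 F376444
theorem F468429 : act 1 n212978 = n189352 := d15_0 (iv0 D189352) D189354 (iv2 F468424)
def n212979 : Q := act 6 n151709
theorem D212979 : act 6 n151709 = n212979 := rfl
theorem F468430 : act 2 n212979 = n189352 := d3_1 D212979 (iv6 F421743) (iv2 F398886)
theorem F468431 : act 4 n212979 = n194188 := d10_1 D212979 F392305 (iv4 F392241)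
theorem F468432 : act 5 n212979 = n212944 := d12_1 D212979 F468246 F465251 F448743 (iv5 F371723)
theorem F468433 : act 7 n212979 = n189353 := d14_2 F392242 D212979 F392301 (iv7 F367209) D189687
theorem F468434 : act 0 n212979 = n189354 := d21_10 F465171 (iv1 D212291) (iv5 F398868) (iv6 D195961) (iv1 F193594) (iv6 F430459) (iv5 F450860) F450862 (iv5 F371723) D212979
theorem F468435 : act 0 n189344 = n212979 := d21_4 (iv5 D94221) (iv1 F157265) D93900 D189344 (iv6 D212979) F371723 (iv1 D187868) D187869 F371721 F177434
def n212980 : Q := act 0 n151941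
theorem D212980 : act 0 n151941 = n212980 := rfl
theorem F468436 : act 5 n212980 = n208612 := d17_3 F448336 F250991 D212980 (iv4 D208612) (iv5 D134797) F216905 D208602 F450101 (iv4 F448333)
theorem F468437 : act 4 n212980 = n159981 := d18_1 D212980 (iv1 F468374) F468370 (iv5 F351264) (iv4 D134804) D134803 D208618 F450183 F250991
theorem F468438 : act 3 n212980 = n189749 := d20_5 (iv4 F403405) (iv1 F448367) F448363 (iv3 F238928) D212980 (iv4 F377602) F329291 (iv4 F377231) (iv3 F444718) (iv1 F444721)
theorem F468439 : act 6 n212980 = n189746 := d21_5 (iv5 D33123) D33121 D71637 D151941 D212980 (iv5 F468087) F468184 (iv5 D197176) (iv6 D107916) F78823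
theorem F468440 : act 2 n203806 = n212980 := d15_3 (iv0 D212980) (iv0 F448215) (iv7 F429899)
def n212981 : Q := act 7 n151941
theorem D212981 : act 7 n151941 = n212981 := rfl
theorem F468441 : act 3 n212981 = n208210 := d8_1 D212981 (iv7 D208210) (iv3 F238928)
theorem F468442 : act 4 n212981 = n189689 := d11_1 D212981 (iv7 F468279) (iv4 F468281)
theorem F468443 : act 5 n212981 = n212592 := d13_1 D212981 F466592 F250991
theorem F468444 : act 6 n212981 = n212017 := d14_1 D212981 F463960 F252154 F162589 D151941
theorem F468445 : act 0 n203806 = n212981 := d19_0 F468443 F466591 (iv3 D208676) (iv1 D134909) (iv5 D63399) (iv4 F77880) (iv3 D49281) (iv1 F46453) D60729 F95330 (iv3 F340329) F340326 F164477 (iv4 F95767) (iv3 D61286) (iv1 F46653) D55615 D120663 D203806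
def n212982 : Q := act 1 n151942
theorem D212982 : act 1 n151942 = n212982 := rfl
theorem F468446 : act 4 n212955 = n212982 := d20_6 (iv4 D131113) (iv1 F97853) D133639 D208175 (iv1 F448242) D212955 (iv1 D212982) (iv4 F392302) (iv3 F392299) (iv1 F209998)
theorem F468447 : act 5 n212912 = n212982 := d21_6 F231791 (iv1 D117335) D117337 (iv6 F356644) (iv1 F465100) F468082 (iv1 D212982) (iv5 F356694) (iv6 D147975) D147972
theorem F468448 : act 2 n212982 = n189746 := d2_1 F468447 (iv5 F468087) (iv2 F468083)
theorem F468449 : act 3 n212982 = n203805 := d6_1 F468447 (iv5 F431440) (iv3 F468084)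
theorem F468450 : act 6 n212982 = n203806 := d12_2 F468082 F468447 (iv5 F444382) F444386 (iv5 F465102)
theorem F468451 : act 1 n212982 = n191706 := d17_6 (iv1 D155579) (iv5 F163733) D195962 F398873 F468081 F468447 (iv5 F466631) (iv0 D212600) (iv4 F421588)
def n212983 : Q := act 2 n151942
theorem D212983 : act 2 n151942 = n212983 := rfl
theorem F468452 : act 3 n212983 = n190471 := d0_2 D151942 D212983 F379854 (iv3 F379853) F238328
theorem F468453 : act 5 n212983 = n212301 := d2_2 F356694 D212983 F465226
theorem F468454 : act 7 n212983 = n191706 := d4_2 F468182 D212983 (iv2 F468178)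
theorem F468455 : act 1 n212983 = n189746 := d15_0 (iv0 F468183) F468182 D212983
def n212984 : Q := act 7 n151943
theorem D212984 : act 7 n151943 = n212984 := rfl
theorem F468456 : act 2 n212984 = n188162 := d4_1 D212984 F372510 (iv2 F238929)
theorem F468457 : act 3 n212984 = n191709 := d8_1 D212984 (iv7 F452263) F452261
theorem F468458 : act 4 n212984 = n151946 := d11_1 D212984 (iv7 D151946) (iv4 F238930)
theorem F468459 : act 5 n212984 = n191795 := d13_1 D212984 F451625 F451621
theorem F468460 : act 6 n212984 = n186661 := d14_1 D212984 (iv7 F376700) (iv6 F376703) F238341 D151943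
theorem F468461 : act 1 n187872 = n212984 := d15_1 (iv0 F371736) (iv7 D212984) F238929
theorem F468462 : act 1 n212984 = n157349 := d15_1 F468461 (iv7 F468407) F468405
def n212985 : Q := act 6 n151945
theorem D212985 : act 6 n151945 = n212985 := rfl
theorem F468463 : act 2 n212985 = n191711 := d3_1 D212985 (iv6 D191711) (iv2 F355752)
theorem F468464 : act 4 n212985 = n159687 := d10_1 D212985 (iv6 F415753) F415751
theorem F468465 : act 5 n212985 = n192531 := d12_1 D212985 (iv6 D192531) (iv5 D100352) (iv6 F355743) F355742
theorem F468466 : act 7 n212985 = n159686 := d14_2 F355755 D212985 F251570 (iv7 F175833) F355756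
theorem F468467 : act 0 n212985 = n208175 := d21_4 F136169 D91045 F355742 D212985 F452285 F452284 (iv1 F391685) F391682 (iv6 D191709) F367102
theorem F468468 : act 1 n212985 = n212954 := d15_1 (iv0 F468467) F468302 (iv2 F448238)
def n212986 : Q := act 6 n151958
theorem D212986 : act 6 n151958 = n212986 := rfl
theorem F468469 : act 2 n212986 = n189123 := d3_1 D212986 (iv6 F375826) F238960
theorem F468470 : act 4 n212986 = n201712 := d10_1 D212986 (iv6 F468011) F468010
theorem F468471 : act 5 n212986 = n192070 := d12_1 D212986 (iv6 D192070) F348216 (iv6 D151994) (iv5 F238958)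
theorem F468472 : act 7 n212986 = n189122 := d14_2 F238961 D212986 F427031 F427029 F357325
theorem F468473 : act 0 n212986 = n189121 := d21_4 (iv5 D71666) D71663 (iv5 F238958) D212986 (iv6 D189121) F295022 F294792 (iv5 F294992) F294818 F311991
theorem F468474 : act 1 n212986 = n189124 := d15_1 (iv0 F468473) (iv7 D189124) (iv2 F375820)
def n212987 : Q := act 5 n151960
theorem D212987 : act 5 n151960 = n212987 := rfl
theorem F468475 : act 3 n212987 = n193394 := d6_1 D212987 (iv5 D193394) (iv3 F366585)
theorem F468476 : act 6 n212987 = n151963 := d12_2 D151960 D212987 (iv5 D151963) (iv6 D71644) D71643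
def n212988 : Q := act 3 n151962
theorem D212988 : act 3 n151962 = n212988 := rfl
theorem F468477 : act 2 n212988 = n207395 := d0_1 D212988 (iv3 D207395) (iv2 F385413) F385408 F361922
theorem F468478 : act 6 n212988 = n154064 := d7_2 F361934 D212988 F384318
theorem F468479 : act 0 n212988 = n208913 := d20_4 F197407 (iv1 F332435) F332436 D212988 F451385 F217608 F330178 D125360 F361497 F361499
theorem F468480 : act 0 n191756 = n212988 := d20_4 F306504 (iv1 F242148) (iv4 F280230) (iv3 F384357) (iv3 D212988) (iv4 F332436) (iv1 D133777) (iv4 F215399) F313759 (iv1 F306502)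
def n212989 : Q := act 0 n151963
theorem D212989 : act 0 n151963 = n212989 := rfl
theorem F468481 : act 5 n212989 = n170027 := d17_3 (iv1 D151962) D151963 D212989 (iv4 D170027) F332430 (iv0 F333348) (iv5 F98044) D133777 F332436
theorem F468482 : act 3 n212989 = n204083 := d20_5 D191445 (iv1 F389699) (iv4 D193395) (iv3 F366583) D212989 (iv4 F449762) (iv1 F449764) D209760 F454854 (iv1 D191444)
theorem F468483 : act 7 n192886 = n212989 := d8_0 F468482 F449760 (iv3 F449759)
theorem F468484 : act 2 n212989 = n185284 := d15_3 (iv0 F468176) F468177 F468483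
theorem F468485 : act 4 n185281 = n212989 := d1_0 F468484 (iv4 D185284) (iv2 F287556)
theorem F468486 : act 1 n204403 = n212989 := d17_6 (iv1 F337189) F332481 F337190 (iv5 F316799) F361486 D204403 F468481 F337197 (iv4 F337188)
def n212990 : Q := act 1 n151963
theorem D212990 : act 1 n151963 = n212990 := rfl
theorem F468487 : act 1 n212990 = n204403 := d15_1 D212990 (iv7 F468175) F468173
theorem F468488 : act 7 n212990 = n185284 := d15_2 (iv0 D212989) D212990 (iv2 F468484)
theorem F468489 : act 5 n212990 = n170022 := d17_7 F237160 F317910 F337192 (iv5 D71647) (iv4 F108134) D151963 D212990 F340973 (iv4 F304003)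
theorem F468490 : act 3 n181950 = n212990 := d20_3 F430819 (iv1 D181949) D181950 (iv1 D212990) F366583 D193395 F389698 (iv4 D191447) F366798 (iv1 F430818)
theorem F468491 : act 2 n212990 = n192886 := d0_1 F468490 F449759 F449755 F431021 F288513
theorem F468492 : act 4 n212990 = n181971 := d5_2 D181950 F468490 (iv3 D181971) (iv4 D86910) (iv3 F133330)
def n212991 : Q := act 4 n151963
theorem D212991 : act 4 n151963 = n212991 := rfl
theorem F468493 : act 0 n212991 = n204107 := d18_2 (iv1 D212990) D212991 (iv4 D204107) (iv5 D122681) D122680 F337189 F337188 (iv0 F340972) (iv5 F468489)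
theorem F468494 : act 1 n212991 = n204110 := d18_6 (iv1 D203144) (iv4 D117816) (iv1 F316795) (iv4 F108134) D151963 D212991 (iv4 D204110) F431094 F431093
def n212992 : Q := act 7 n151963
theorem D212992 : act 7 n151963 = n212992 := rfl
theorem F468495 : act 2 n212992 = n204403 := d4_1 D212992 (iv7 F468175) F468173
theorem F468496 : act 3 n212992 = n192104 := d8_1 D212992 F385564 (iv3 F366583)
theorem F468497 : act 5 n212992 = n151964 := d13_1 D212992 (iv7 D151964) D151963
theorem F468498 : act 1 n192886 = n212992 := d15_1 F468177 (iv7 D212992) (iv2 F468173)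
theorem F468499 : act 1 n212992 = n185284 := d15_1 F468498 (iv7 F468488) F468491
def n212993 : Q := act 5 n151969
theorem D212993 : act 5 n151969 = n212993 := rfl
theorem F468500 : act 2 n212993 = n160088 := d2_1 D212993 (iv5 D160088) (iv2 F238972)
theorem F468501 : act 3 n212993 = n175573 := d6_1 D212993 (iv5 F386445) F386443
theorem F468502 : act 6 n212993 = n154082 := d12_2 (iv6 F238973) D212993 (iv5 D154082) (iv6 D72958) (iv5 F108138)
theorem F468503 : act 0 n212993 = n190570 := d17_2 (iv1 F391090) D212993 F380154 F370403 F261564 (iv0 D133776) F98044 D118002 (iv4 F391088)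
def n212994 : Q := act 5 n151974
theorem D212994 : act 5 n151974 = n212994 := rfl
theorem F468504 : act 2 n212994 = n200354 := d2_1 D212994 (iv5 D200354) (iv2 F238986)
theorem F468505 : act 7 n212994 = n191716 := d13_2 (iv7 F238987) D212994 (iv5 D191716)
theorem F468506 : act 1 n212994 = n196130 := d17_6 (iv1 F176060) F82487 F52367 D71653 D151974 D212994 (iv5 D196130) D196129 F399535
def n212995 : Q := act 6 n151974
theorem D212995 : act 6 n151974 = n212995 := rfl
theorem F468507 : act 2 n212995 = n200355 := d3_1 D212995 (iv6 D200355) (iv2 F238986)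
theorem F468508 : act 3 n212995 = n191318 := d7_1 D212995 (iv6 F383029) (iv3 F379899)
theorem F468509 : act 4 n212995 = n151975 := d10_1 D212995 (iv6 D151975) D151974
theorem F468510 : act 7 n212995 = n158067 := d14_2 (iv7 F238987) D212995 (iv6 D158067) F292424 (iv6 F152168)
theorem F468511 : act 5 n212995 = n163291 := d21_6 F372711 (iv1 D93209) D93210 F360835 (iv1 F238988) D212995 (iv1 F381565) F381563 (iv6 D190521) (iv1 F372709)
def n212996 : Q := act 1 n151985
theorem D212996 : act 1 n151985 = n212996 := rfl
theorem F468512 : act 4 n212996 = n187934 := d18_7 F288340 (iv4 F395992) F395993 (iv4 F465015) F465016 F356692 D212996 (iv0 D187934) (iv5 F288339)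
theorem F468513 : act 5 n211175 = n212996 := d9_0 F468512 F452072 (iv4 D194041) (iv5 D102604) (iv4 F333125) D141163 D211172 F460448 F458489 (iv5 F437507) F437506 (iv5 D136150) F101819 D141166 D211175
def n212997 : Q := act 5 n151985
theorem D212997 : act 5 n151985 = n212997 := rfl
theorem F468514 : act 2 n212997 = n193059 := d2_1 D212997 (iv5 F468194) F468191
theorem F468515 : act 3 n212997 = n192223 := d6_1 D212997 F386076 (iv3 F356691)
theorem F468516 : act 6 n212997 = n151987 := d12_2 D151985 D212997 (iv5 D151987) (iv6 D71658) D71657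
theorem F468517 : act 1 n212997 = n199791 := d17_8 (iv1 D111740) F81284 D66215 D141163 D211172 F460448 (iv0 F458490) D212997 (iv4 D199791)
theorem F468518 : act 0 n212997 = n199788 := d21_7 F421134 F385423 (iv5 F468471) (iv6 D212986) (iv1 F238959) D151985 D212997 (iv5 F459026) F459030 F457638
theorem F468519 : act 7 n210478 = n212997 := d8_0 F468515 F386079 F457704
def n212998 : Q := act 7 n151985
theorem D212998 : act 7 n151985 = n212998 := rfl
theorem F468520 : act 3 n212998 = n202498 := d8_1 D212998 F424271 (iv3 F356691)
theorem F468521 : act 4 n212998 = n203135 := d11_1 D212998 F427103 F356692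
theorem F468522 : act 5 n212998 = n210478 := d13_1 D212998 F468519 (iv5 D212997)
def n212999 : Q := act 6 n151991
theorem D212999 : act 6 n151991 = n212999 := rfl
theorem F468523 : act 2 n212999 = n208057 := d3_1 D212999 (iv6 D208057) (iv2 F248112)
theorem F468524 : act 3 n212999 = n157468 := d7_1 D212999 (iv6 F248114) (iv3 F248113)
theorem F468525 : act 4 n212999 = n207432 := d10_1 D212999 F444882 (iv4 F337040)
theorem F468526 : act 5 n212999 = n202763 := d12_1 D212999 F425467 (iv5 F334974) (iv6 F420818) F420814
theorem F468527 : act 7 n212999 = n202762 := d14_2 F355320 D212999 F425462 F300257 D170569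
theorem F468528 : act 0 n210788 = n212999 := d21_4 (iv5 F321155) (iv1 F361581) (iv5 F361580) (iv6 F458790) (iv6 D212999) (iv5 F420814) (iv1 F420820) F274259 (iv6 F188277) F314160
def n213000 : Q := act 6 n152001
theorem D213000 : act 6 n152001 = n213000 := rfl
theorem F468529 : act 2 n213000 = n197181 := d3_1 D213000 (iv6 D197181) F239021
theorem F468530 : act 3 n213000 = n197522 := d7_1 D213000 F429702 F429700
theorem F468531 : act 4 n213000 = n187867 := d10_1 D213000 (iv6 F421763) (iv4 F421766)
theorem F468532 : act 5 n213000 = n197520 := d12_1 D213000 F404684 F385395 (iv6 F309782) (iv5 F239019)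
theorem F468533 : act 7 n213000 = n188318 := d14_2 F239022 D213000 (iv6 D188318) F294807 (iv6 F309781)
theorem F468534 : act 0 n213000 = n208672 := d21_4 (iv5 D151499) (iv1 F166745) (iv5 F239019) D213000 F457714 F457711 D211130 F460232 (iv6 F375826) (iv1 F238351)
theorem F468535 : act 1 n213000 = n189096 := d15_1 (iv0 F468534) F375735 (iv2 F450407)
def n213001 : Q := act 3 n152005
theorem D213001 : act 3 n152005 = n213001 := rfl
theorem F468536 : act 5 n213001 = n192253 := d6_2 F364030 D213001 F386213
theorem F468537 : act 0 n213001 = n192583 := d19_4 (iv1 F403510) (iv5 D197203) F337888 D213001 (iv5 F392100) F392101 (iv3 D185032) (iv1 D88200) (iv5 D41163) D41162 F62357 (iv1 F35598) D41295 D88467 D185744 (iv1 F433873) (iv5 D204856) (iv4 D124511) (iv3 F199147)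
theorem F468538 : act 0 n212701 = n213001 := d20_4 (iv4 F234518) (iv1 F243631) (iv4 F234296) (iv3 F467149) (iv3 D213001) (iv4 F337888) (iv1 D107974) (iv4 F166833) (iv3 F167421) F364031
def n213002 : Q := act 3 n152010
theorem D213002 : act 3 n152010 = n213002 := rfl
theorem F468539 : act 4 n213002 = n191380 := d5_2 D152010 D213002 (iv3 F409603) F409607 F247749
theorem F468540 : act 5 n213002 = n154571 := d6_2 F433165 D213002 (iv3 F433179)
theorem F468541 : act 6 n213002 = n182918 := d7_2 F332487 D213002 F354028
theorem F468542 : act 7 n213002 = n212556 := d8_2 F403500 D213002 F466408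
theorem F468543 : act 0 n203789 = n213002 := d20_4 F242492 (iv1 F109736) (iv4 F192134) (iv3 F429823) (iv3 D213002) (iv4 D152010) F247746 (iv4 F348246) F286663 (iv1 F306445)
theorem F468544 : act 1 n212557 = n213002 := d15_0 (iv0 F468543) F429824 D212557
theorem F468545 : act 2 n213002 = n191382 := d15_3 F468200 (iv0 F468199) (iv7 F468542)
def n213003 : Q := act 0 n152023
theorem D213003 : act 0 n152023 = n213003 := rfl
theorem F468546 : act 5 n213003 = n192088 := d17_3 (iv1 D194016) F365560 D213003 (iv4 D192088) (iv5 F384677) (iv0 F384681) (iv5 D137593) (iv0 F365513) F391783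
theorem F468547 : act 4 n213003 = n187861 := d18_1 D213003 F371853 (iv4 F403476) F403477 (iv4 F452976) F452978 (iv4 F391776) (iv0 D194015) F365560
theorem F468548 : act 6 n187860 = n213003 := d10_0 F468547 (iv6 D187861) D187860
theorem F468549 : act 1 n194020 = n213003 := d18_6 (iv1 F419053) (iv4 F419055) (iv1 F394460) F394456 (iv5 F428088) F428087 F468547 F419073 F419070
def n213004 : Q := act 7 n152023
theorem D213004 : act 7 n152023 = n213004 := rfl
theorem F468550 : act 2 n213004 = n194020 := d4_1 D213004 F391799 F389703
theorem F468551 : act 5 n213004 = n192173 := d13_1 D213004 F385863 F365560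
theorem F468552 : act 6 n213004 = n203351 := d14_1 D213004 F428005 F362840 F238357 D152023
def n213005 : Q := act 5 n152034
theorem D213005 : act 5 n152034 = n213005 := rfl
theorem F468553 : act 2 n213005 = n206066 := d2_1 D213005 F439083 F371580
theorem F468554 : act 3 n213005 = n203779 := d6_1 D213005 (iv5 D203779) (iv3 F366659)
theorem F468555 : act 4 n213005 = n159422 := d9_1 D213005 (iv5 D159422) F114302 (iv5 D59815) (iv4 F94170) F114182 D159332 (iv5 F467864) (iv4 D212866) (iv5 D151181) (iv4 D71250) F52148 (iv4 F77709) (iv5 F114177) (iv4 F366223)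
theorem F468556 : act 6 n213005 = n152036 := d12_2 D152034 D213005 (iv5 D152036) (iv6 D71679) D71678
theorem F468557 : act 7 n213005 = n206063 := d13_2 (iv7 F366224) D213005 (iv5 D206063)
theorem F468558 : act 0 n213005 = n203363 := d17_2 F397509 D213005 (iv5 D203363) F250988 F250985 F154333 D192529 F386970 D195594
theorem F468559 : act 1 n213005 = n203365 := d17_6 (iv1 F186720) (iv5 F86493) F77711 (iv5 F114177) (iv4 F366223) D213005 (iv5 D203365) F427844 F427842
def n213006 : Q := act 6 n152038
theorem D213006 : act 6 n152038 = n213006 := rfl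
theorem F468560 : act 2 n213006 = n192360 := d3_1 D213006 F386561 F384544
theorem F468561 : act 3 n213006 = n152040 := d7_1 D213006 (iv6 D152040) D152038
theorem F468562 : act 7 n213006 = n192351 := d14_2 (iv7 F239050) D213006 (iv6 D192351) (iv7 F232752) (iv6 F359868)
theorem F468563 : act 5 n213006 = n212727 := d21_6 F309425 (iv1 F309421) F109359 D149793 F359905 D213006 (iv1 D212727) (iv5 D149115) (iv6 F305122) (iv1 F197040)
theorem F468564 : act 0 n213006 = n192358 := d21_10 (iv5 F467203) F467205 (iv5 D186630) (iv6 D88943) F64072 D86936 D182024 (iv1 F384538) (iv5 F384539) D213006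
theorem F468565 : act 0 n192357 = n213006 := d21_4 D98538 F358465 F358464 (iv6 F386555) (iv6 D213006) F384539 (iv1 F434616) (iv5 D205015) F210915 (iv1 D98535)
def n213007 : Q := act 4 n152039
theorem D213007 : act 4 n152039 = n213007 := rfl
theorem F468566 : act 2 n213007 = n208821 := d1_1 D213007 F451002 (iv2 F239051)
theorem F468567 : act 5 n213007 = n208809 := d9_2 D152039 D213007 (iv4 D208809) F217346 (iv4 F212107) F212106 F108162 (iv5 F321745) D191827 (iv5 F450978) (iv4 D208811) F217349 (iv4 F214728) F319891 (iv4 F319890)
theorem F468568 : act 7 n213007 = n208826 := d11_2 (iv7 F239052) D213007 F451020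
theorem F468569 : act 1 n213007 = n203983 := d18_6 F319895 F87626 D75324 (iv4 F319890) D152039 D213007 (iv4 D203983) F357828 (iv5 D135394)
theorem F468570 : act 3 n213007 = n204570 := d19_3 D71680 D152039 D213007 (iv1 D204570) (iv5 F398958) (iv4 D195984) (iv3 F322882) D197039 F402785 (iv4 D107897) (iv3 F166724) F166726 (iv5 D71650) (iv4 D33129) (iv3 D15975) (iv1 D7477) D7478 D15981 D33141
def n213008 : Q := act 6 n152039
theorem D213008 : act 6 n152039 = n213008 := rfl
theorem F468571 : act 2 n213008 = n208934 := d3_1 D213008 (iv6 D208934) (iv2 F239051)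
def n213009 : Q := act 0 n152040
theorem D213009 : act 0 n152040 = n213009 := rfl
theorem F468572 : act 5 n213009 = n191500 := d17_1 D213009 (iv1 D191500) (iv5 D98465) F315046 D172026 (iv0 F428843) F428841 (iv0 F428489) F366445
theorem F468573 : act 4 n213009 = n152160 := d20_2 F366445 D213009 F353874 (iv1 F331734) F327820 F113583 (iv1 F113071) (iv4 F316627) D208006 (iv1 F447407)
theorem F468574 : act 2 n192302 = n213009 := d15_3 (iv0 D213009) (iv0 F444456) F444455
theorem F468575 : act 3 n213009 = n191382 := d0_2 (iv3 F386367) F468574 (iv2 F468545) (iv3 D213002) (iv2 F332474)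
theorem F468576 : act 6 n213009 = n172368 := d3_2 D192302 F468574 (iv2 F344417)
theorem F468577 : act 7 n213009 = n208927 := d4_2 F444455 F468574 F451440
theorem F468578 : act 1 n191908 = n213009 := d15_1 (iv0 F444457) F468577 F451440
def n213010 : Q := act 5 n152040
theorem D213010 : act 5 n152040 = n213010 := rfl
theorem F468579 : act 2 n213010 = n208935 := d2_1 D213010 (iv5 D208935) (iv2 F239053)
theorem F468580 : act 3 n213010 = n212727 := d6_1 D213010 (iv5 F468563) F468561
theorem F468581 : act 0 n213010 = n194100 := d17_2 F444456 D213010 F392055 F321380 (iv5 F438035) (iv0 F438039) F359093 (iv0 F353871) (iv4 F444453)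
def n213011 : Q := act 7 n152040
theorem D213011 : act 7 n152040 = n213011 := rfl
theorem F468582 : act 2 n213011 = n191908 := d4_1 D213011 F384791 (iv2 F239053)
theorem F468583 : act 3 n213011 = n192351 := d8_1 D213011 (iv7 F468562) F468561
theorem F468584 : act 6 n213011 = n191905 := d14_1 D213011 F384781 F323428 F217684 D152040
theorem F468585 : act 1 n208927 = n213011 := d15_1 (iv0 F451441) (iv7 D213011) F239053
theorem F468586 : act 1 n213011 = n192302 := d15_1 F468585 (iv7 F444455) (iv2 F451440)
def n213012 : Q := act 4 n152045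
theorem D213012 : act 4 n152045 = n213012 := rfl
theorem F468587 : act 2 n213012 = n191808 := d1_1 D213012 (iv4 D191808) F354657
theorem F468588 : act 3 n213012 = n199480 := d5_1 D213012 F412320 (iv3 F443192) (iv4 F467257) F467256
theorem F468589 : act 7 n213012 = n208807 := d11_2 F354652 D213012 F450962
theorem F468590 : act 5 n213012 = n207978 := d16_1 D213012 (iv4 D207978) (iv5 D132921) (iv4 D62378) D62379 (iv4 F317516) F317517 (iv7 F354658) F354657
theorem F468591 : act 1 n213012 = n203704 := d18_6 F317528 F301583 (iv1 F354618) F354621 (iv5 F354624) D213012 (iv4 D203704) (iv0 F319772) (iv5 D135315)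
def n213013 : Q := act 6 n152045
theorem D213013 : act 6 n152045 = n213013 := rfl
theorem F468592 : act 2 n213013 = n189210 := d3_1 D213013 F376105 F354657
theorem F468593 : act 0 n191853 = n213013 := d21_4 F291613 D90201 (iv5 F367127) D191853 (iv6 D213013) F354624 (iv1 F367422) (iv5 F451465) (iv6 F451469) F367083
def n213014 : Q := act 4 n152046
theorem D213014 : act 4 n152046 = n213014 := rfl
theorem F468594 : act 2 n213014 = n208807 := d1_1 D213014 F450962 F354651
theorem F468595 : act 5 n213014 = n208805 := d9_2 F317517 D213014 F450958 F217339 (iv4 F213370) F354623 F354621 (iv5 F354624) D213012 F468590 (iv4 D207978) (iv5 D132921) (iv4 D62378) D62379 (iv4 F317516)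
theorem F468596 : act 7 n213014 = n191808 := d11_2 F354658 D213014 (iv4 D191808)
theorem F468597 : act 0 n213014 = n203704 := d17_0 (iv5 F451307) F451308 (iv5 F468567) (iv4 D213007) (iv5 D152039) (iv0 D71680) D71683 D152046 D213014
def n213015 : Q := act 6 n152046
theorem D213015 : act 6 n152046 = n213015 := rfl
theorem F468598 : act 2 n213015 = n208936 := d3_1 D213015 (iv6 D208936) F354651
theorem F468599 : act 3 n213015 = n186632 := d7_1 D213015 (iv6 D186632) (iv3 F354659)
theorem F468600 : act 5 n213015 = n152516 := d12_1 D213015 F387471 (iv5 F366728) (iv6 F357793) F317517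
def n213016 : Q := act 0 n152047
theorem D213016 : act 0 n152047 = n213016 := rfl
theorem F468601 : act 5 n213016 = n208894 := d17_3 F434644 (iv5 F239070) D213016 (iv4 D208894) (iv5 D135275) (iv0 F208413) D207078 F443219 (iv4 F434641)
theorem F468602 : act 4 n213016 = n193378 := d18_3 (iv1 D152046) D152047 D213016 (iv5 D193378) F319765 F208795 D129291 (iv0 F317515) F317517
theorem F468603 : act 2 n204000 = n213016 := d15_3 (iv0 D213016) (iv0 F412680) (iv7 F430785)
theorem F468604 : act 1 n208832 = n213016 := d15_0 (iv0 D213016) F239069 (iv2 F451044)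
theorem F468605 : act 7 n213016 = n208831 := d15_2 F451048 F468604 F451043
theorem F468606 : act 3 n210375 = n213016 := d19_19 (iv1 F468604) F451047 F217357 F98829 (iv1 F98624) F98626 (iv4 D50104) (iv3 F45555) F47116 (iv5 F49160) (iv4 D30713) (iv3 D14555) (iv1 D6955) (iv5 F11203) D14509 D30590 D65152 (iv5 F245657) D210375
def n213017 : Q := act 3 n152047
theorem D213017 : act 3 n152047 = n213017 := rfl
theorem F468607 : act 2 n213017 = n188925 := d0_1 D213017 (iv3 F394206) F215901 F356115 (iv2 F239068)
theorem F468608 : act 4 n213017 = n152053 := d5_2 D152047 D213017 (iv3 D152053) (iv4 D71686) (iv3 F108168)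
theorem F468609 : act 5 n213017 = n208813 := d6_2 (iv5 F239070) D213017 (iv3 D208813)
theorem F468610 : act 6 n213017 = n201298 := d7_2 F412678 D213017 F419910
theorem F468611 : act 7 n213017 = n188924 := d8_2 (iv7 F239069) D213017 F413489
theorem F468612 : act 0 n188927 = n213017 := d20_4 (iv4 F433085) F433087 D209349 F453349 (iv3 D213017) (iv4 D152047) D152045 D213012 F468588 (iv1 F412326)
theorem F468613 : act 1 n188651 = n213017 := d15_0 (iv0 F468612) (iv7 D188927) (iv2 F374313)
def n213018 : Q := act 5 n152050
theorem D213018 : act 5 n152050 = n213018 := rfl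
theorem F468614 : act 3 n213018 = n179716 := d6_1 D213018 (iv5 D179716) (iv3 F318520)
theorem F468615 : act 6 n213018 = n179710 := d12_2 D152050 D213018 (iv5 D179710) (iv6 D85835) (iv5 F316247)
def n213019 : Q := act 0 n152052
theorem D213019 : act 0 n152052 = n213019 := rfl
theorem F468616 : act 5 n213019 = n210618 := d19_1 D213019 F458231 F455879 (iv1 F406679) (iv5 D198074) (iv4 F396779) F396778 (iv1 F396803) (iv5 F423251) (iv4 D202208) F423187 (iv1 F391317) (iv5 F401321) (iv4 F401318) (iv3 D134733) (iv1 F101518) (iv5 F169166) (iv4 F407563) F407562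
theorem F468617 : act 4 n213019 = n212603 := d20_8 F354415 F412182 (iv4 F412183) (iv3 F412185) (iv1 F370743) (iv3 F371876) F371877 D213019 F466645 (iv1 D192543)
theorem F468618 : act 6 n213019 = n194011 := d21_5 (iv5 D151948) F108131 (iv5 F108170) D152052 D213019 (iv5 D194011) F331223 (iv5 F403440) (iv6 D197184) (iv1 F238943)
theorem F468619 : act 2 n194033 = n213019 := d15_3 (iv0 D213019) (iv0 F450177) F450176
def n213020 : Q := act 6 n152057
theorem D213020 : act 6 n152057 = n213020 := rfl
theorem F468620 : act 2 n213020 = n212315 := d3_1 D213020 F465265 F427946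
theorem F468621 : act 3 n213020 = n191859 := d7_1 D213020 F465753 F465752
theorem F468622 : act 4 n213020 = n212278 := d10_1 D213020 F466583 F466578
theorem F468623 : act 7 n213020 = n152058 := d14_2 D152057 D213020 (iv6 D152058) (iv7 D71688) D71687
theorem F468624 : act 0 n201605 = n213020 := d21_4 (iv5 D188688) F294801 D183025 (iv6 F421114) (iv6 D213020) (iv5 F427809) (iv1 F427811) D203336 F427934 F375639
theorem F468625 : act 1 n201602 = n213020 := d15_0 (iv0 F468624) (iv7 F453833) F453831
def n213021 : Q := act 6 n152063
theorem D213021 : act 6 n152063 = n213021 := rfl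
theorem F468626 : act 2 n213021 = n210788 := d3_1 D213021 F458790 (iv2 F338999)
theorem F468627 : act 3 n213021 = n152066 := d7_1 D213021 (iv6 D152066) D152063
theorem F468628 : act 4 n213021 = n211954 := d10_1 D213021 F463726 F404626
theorem F468629 : act 5 n213021 = n212576 := d12_1 D213021 (iv6 F466510) F460369 (iv6 D210489) F333276
theorem F468630 : act 0 n213021 = n208057 := d21_4 F347177 F339002 F333276 D213021 (iv6 D208057) (iv5 F355318) (iv1 F420827) F420824 F360996 (iv1 F316598)
theorem F468631 : act 0 n202762 = n213021 := d21_4 (iv5 F114989) (iv1 F334999) (iv5 F334996) (iv6 F425462) (iv6 D213021) (iv5 F333276) F339009 (iv5 F322337) D84473 (iv1 F316655)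
def n213022 : Q := act 4 n152158
theorem D213022 : act 4 n152158 = n213022 := rfl
theorem F468632 : act 2 n213022 = n204551 := d1_1 D213022 F432840 (iv2 F239220)
theorem F468633 : act 3 n213022 = n204416 := d5_1 D213022 (iv4 F432445) (iv3 F434338) F434340 (iv3 F389624)
theorem F468634 : act 5 n213022 = n198328 := d9_2 D152158 D213022 (iv4 F444221) (iv5 D207300) (iv4 D130737) F211940 D71762 D152169 (iv4 F431635) (iv5 F434642) F434641 F375875 (iv4 D130732) F211937 D71757
theorem F468635 : act 7 n213022 = n208829 := d11_2 (iv7 F239221) D213022 F451032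
theorem F468636 : act 0 n213022 = n204560 := d17_0 (iv5 F444166) F444167 (iv5 F430783) F430782 (iv5 D135364) F317527 D85828 (iv0 F366450) D213022
theorem F468637 : act 6 n210993 = n213022 := d21_9 (iv5 F444166) F444167 (iv5 F430783) F430784 (iv1 D192545) (iv6 F387008) (iv5 F424159) F424161 D210993 F468636
def n213023 : Q := act 6 n152158
theorem D213023 : act 6 n152158 = n213023 := rfl
theorem F468638 : act 2 n213023 = n208925 := d3_1 D213023 (iv6 D208925) (iv2 F239220)
theorem F468639 : act 4 n213023 = n210993 := d10_1 D213023 F468637 (iv4 D213022)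
def n213024 : Q := act 5 n152166
theorem D213024 : act 5 n152166 = n213024 := rfl
theorem F468640 : act 2 n213024 = n194711 := d2_1 D213024 (iv5 D194711) (iv2 F338856)
theorem F468641 : act 3 n213024 = n191765 := d6_1 D213024 F384390 F338849
theorem F468642 : act 4 n213024 = n189091 := d9_1 D213024 F375715 (iv4 D135813) F212512 (iv4 F212510) (iv5 F217636) F311279 D184035 (iv4 F338858) (iv5 D135355) (iv4 F217582) (iv5 F217584) F209679 (iv5 F211941) D152166
theorem F468643 : act 7 n213024 = n189089 := d13_2 F338855 D213024 (iv5 F375708)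
theorem F468644 : act 0 n213024 = n204910 := d17_2 (iv1 F239243) D213024 (iv5 D204910) F312101 (iv5 D61454) F47420 (iv5 F97323) (iv0 F208572) D130104
theorem F468645 : act 1 n213024 = n204626 := d17_6 F357872 F207896 (iv1 F214127) (iv5 F211941) D152166 D213024 (iv5 D204626) (iv0 F198476) (iv4 F200428)
def n213025 : Q := act 6 n152169
theorem D213025 : act 6 n152169 = n213025 := rfl
theorem F468646 : act 2 n213025 = n208920 := d3_1 D213025 (iv6 D208920) (iv2 F239247)
theorem F468647 : act 3 n213025 = n211590 := d7_1 D213025 F462287 F431634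
theorem F468648 : act 5 n213025 = n199027 := d12_1 D213025 F430740 (iv5 D203992) F318366 D152169
def n213026 : Q := act 0 n152187
theorem D213026 : act 0 n152187 = n213026 := rfl
theorem F468649 : act 5 n213026 = n165662 := d17_1 D213026 F360228 (iv5 F360224) (iv4 F220436) (iv5 F356234) (iv0 D116494) (iv5 F346742) F342453 F312635
theorem F468650 : act 4 n213026 = n199851 := d18_1 D213026 (iv1 F413824) F378650 F318783 F304736 (iv0 F330727) (iv4 F193295) D203885 F430236
theorem F468651 : act 3 n213026 = n166843 := d20_5 (iv4 F323418) (iv1 F259172) (iv4 F108250) (iv3 F239270) D213026 F298402 (iv1 F249564) F298187 (iv3 F348635) (iv1 D146147)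
theorem F468652 : act 6 n213026 = n175782 := d21_5 F323304 (iv1 F298154) F108243 D152187 D213026 (iv5 F344949) (iv1 F186381) D118561 F336408 (iv1 F323301)
theorem F468653 : act 2 n186848 = n213026 := d15_3 (iv0 D213026) (iv0 F278239) (iv7 F368255)
theorem F468654 : act 1 n186851 = n213026 := d15_0 (iv0 D213026) (iv7 F393603) F393599
theorem F468655 : act 7 n213026 = n186849 := d15_2 F368268 F468654 F368258
def n213027 : Q := act 6 n152189
theorem D213027 : act 6 n152189 = n213027 := rfl
theorem F468656 : act 2 n213027 = n173499 := d3_1 D213027 F340658 (iv2 F340919)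
theorem F468657 : act 3 n213027 = n175146 := d7_1 D213027 F353496 (iv3 F353491)
theorem F468658 : act 4 n213027 = n152366 := d10_1 D213027 (iv6 D152366) (iv4 F340920)
theorem F468659 : act 5 n213027 = n184483 := d12_1 D213027 (iv6 F388780) F388779 F358672 F353489
theorem F468660 : act 7 n213027 = n173498 := d14_2 F398493 D213027 (iv6 F403160) (iv7 F425381) F425380
theorem F468661 : act 0 n173453 = n213027 := d21_4 D71923 F347817 D111443 (iv6 F354606) (iv6 D213027) (iv5 F353489) F340636 F353493 (iv6 D152481) (iv1 D71922)
theorem F468662 : act 1 n164288 = n213027 := d15_0 (iv0 F468661) F279313 (iv2 F338570)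
def n213028 : Q := act 4 n152196
theorem D213028 : act 4 n152196 = n213028 := rfl
theorem F468663 : act 2 n213028 = n206740 := d1_1 D213028 F442014 F420778
theorem F468664 : act 6 n213028 = n205634 := d10_2 (iv6 F363794) D213028 (iv4 F437284)
theorem F468665 : act 1 n213028 = n212417 := d18_6 F359178 (iv4 F177570) F340168 (iv4 D152195) D152196 D213028 F465710 (iv0 F398501) (iv5 D195860)
def n213029 : Q := act 1 n152197
theorem D213029 : act 1 n152197 = n213029 := rfl
theorem F468666 : act 1 n213029 = n202884 := d15_1 D213029 F426027 F420782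
theorem F468667 : act 7 n213029 = n173500 := d15_2 (iv0 F420800) D213029 (iv2 F420794)
theorem F468668 : act 4 n213029 = n173453 := d17_9 F468661 F468659 (iv1 F286415) F332301 F108422 D120661 D203804 (iv5 F429893) D213029
theorem F468669 : act 5 n213029 = n212033 := d18_9 (iv1 F464045) F379491 F420284 (iv4 F425978) F425979 (iv4 F431397) F431398 (iv4 F337701) D213029
theorem F468670 : act 3 n203921 = n213029 := d20_3 F416172 F455811 F455807 (iv1 D213029) F259178 (iv4 D147295) F313101 (iv4 F268014) F364500 F416171
theorem F468671 : act 6 n199576 = n213029 := d21_3 D114608 D201484 F420677 (iv1 D213029) (iv6 D152197) D152196 (iv1 F420865) F420866 (iv6 F356622) (iv1 D114607)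
theorem F468672 : act 2 n213029 = n173516 := d3_1 F468671 (iv6 F448058) F448057
def n213030 : Q := act 0 n152227
theorem D213030 : act 0 n152227 = n213030 := rfl
theorem F468673 : act 5 n213030 = n155472 := d17_1 D213030 (iv1 F429169) F429167 (iv4 D155509) (iv5 D73963) D73961 D155502 F244523 F339221
theorem F468674 : act 4 n213030 = n155494 := d18_3 F331641 F339221 D213030 (iv5 D155494) (iv4 D73957) F87250 D119843 F189152 (iv5 F331644)
theorem F468675 : act 6 n213030 = n209525 := d21_5 (iv5 D207250) (iv1 D130647) D130648 (iv6 F339349) D213030 F454029 F420324 (iv5 F451833) (iv6 D209011) (iv1 F443969)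
theorem F468676 : act 2 n212634 = n213030 := d15_3 (iv0 D213030) F420724 F466802
theorem F468677 : act 1 n152232 = n213030 := d15_0 (iv0 D213030) (iv7 F420883) F420881
theorem F468678 : act 7 n213030 = n212635 := d15_2 (iv0 F420723) F468677 F466809
theorem F468679 : act 3 n199183 = n213030 := d19_19 (iv1 F468677) (iv5 D152232) D152231 (iv3 F339230) F353462 (iv5 D149155) (iv4 D69999) (iv3 D32491) (iv1 F51552) (iv5 F106352) (iv4 F158908) F158907 (iv1 F75370) D48040 D103749 F356932 (iv1 F80803) D111047 D199183
def n213031 : Q := act 5 n152230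
theorem D213031 : act 5 n152230 = n213031 := rfl
theorem F468680 : act 2 n213031 = n183129 := d2_1 D213031 (iv5 F358474) F339352
theorem F468681 : act 3 n213031 = n152232 := d6_1 D213031 (iv5 D152232) D152230
theorem F468682 : act 4 n213031 = n182035 := d9_1 D213031 F283439 (iv4 F329044) F339295 F237552 (iv5 F313291) (iv4 F192426) D201530 F420875 (iv5 F286283) (iv4 F440025) F440021 F313047 (iv5 F322159) (iv4 F339234)
theorem F468683 : act 6 n213031 = n182034 := d12_2 F349003 D213031 (iv5 F283449) F425315 (iv5 D202729)
theorem F468684 : act 7 n213031 = n206291 := d13_2 (iv7 F339332) D213031 (iv5 D206291)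
theorem F468685 : act 0 n213031 = n211128 := d17_2 (iv1 F339354) D213031 F460221 F315724 F188473 (iv0 F205848) F319317 (iv0 F319833) (iv4 F206228)
theorem F468686 : act 1 n213031 = n211668 := d17_6 F320143 (iv5 F320145) F309115 (iv5 F322159) (iv4 F339234) D213031 (iv5 D211668) F333387 (iv4 D67337)
def n213032 : Q := act 5 n152233
theorem D213032 : act 5 n152233 = n213032 := rfl
theorem F468687 : act 3 n213032 = n202729 := d6_1 D213032 (iv5 D202729) (iv3 F349007)
theorem F468688 : act 7 n213032 = n207256 := d13_2 (iv7 F339333) D213032 (iv5 D207256)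
theorem F468689 : act 0 n213032 = n201483 := d17_2 F420791 D213032 (iv5 D201483) F347808 (iv5 F347812) F403518 (iv5 F465199) (iv0 F465201) (iv4 F420790)
theorem F468690 : act 1 n213032 = n201481 := d17_6 F334756 (iv5 F230756) (iv1 F339251) F339254 F339236 D213032 (iv5 D201481) (iv0 D114606) (iv4 F178695)
def n213033 : Q := act 0 n152236
theorem D213033 : act 0 n152236 = n213033 := rfl
theorem F468691 : act 5 n213033 = n195611 := d17_1 D213033 F397604 D203644 (iv4 F466806) F466805 F420806 F339229 (iv0 D152234) D152236
theorem F468692 : act 4 n213033 = n152393 := d18_1 D213033 (iv1 F375422) (iv4 F375419) (iv5 D148119) (iv4 F230220) (iv0 F234157) D195589 F397482 F355595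
theorem F468693 : act 2 n188107 = n213033 := d15_3 (iv0 D213033) (iv0 F403337) F403336
theorem F468694 : act 1 n202901 = n213033 := d15_0 (iv0 D213033) F355594 (iv2 F426114)
theorem F468695 : act 7 n213033 = n207392 := d15_2 (iv0 F426119) F468694 F444664
theorem F468696 : act 3 n212012 = n213033 := d19_19 (iv1 F468694) (iv5 D202901) F183441 (iv3 F105174) F192078 D147798 F231538 (iv3 F332330) (iv1 F451447) F451444 F429235 F207616 F203986 (iv5 D62200) D62199 D132573 F421597 F421591 (iv4 F463927)
theorem F468697 : act 6 n213033 = n188098 := d7_2 F463928 F468696 (iv3 F421845)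
def n213034 : Q := act 4 n152247
theorem D213034 : act 4 n152247 = n213034 := rfl
theorem F468698 : act 2 n213034 = n199859 := d1_1 D213034 (iv4 F427631) F427625
theorem F468699 : act 5 n213034 = n210446 := d9_2 D152247 D213034 (iv4 D210446) F245801 (iv4 F314453) (iv5 D86792) (iv4 F199893) D152250 (iv4 F408150) (iv5 F457580) (iv4 D210448) (iv5 F246567) (iv4 F112205) (iv5 F314589) (iv4 F199896)
theorem F468700 : act 6 n213034 = n180446 := d10_2 (iv6 F330880) D213034 (iv4 D180446)
theorem F468701 : act 0 n213034 = n204984 := d18_2 F438945 D213034 (iv4 D204984) F200758 (iv4 F310488) F362438 F245839 F213673 (iv5 F438944)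
theorem F468702 : act 1 n213034 = n204983 := d18_6 (iv1 F155139) (iv4 F106365) F198222 (iv4 F199896) D152247 D213034 (iv4 D204983) (iv0 D124983) (iv5 D58433)
def n213035 : Q := act 4 n152258
theorem D213035 : act 4 n152258 = n213035 := rfl
theorem F468703 : act 2 n213035 = n156877 := d1_1 D213035 (iv4 D156877) (iv2 F319045)
theorem F468704 : act 3 n213035 = n187391 := d5_1 D213035 F370136 (iv3 F348725) F257695 (iv3 F348760)
theorem F468705 : act 5 n213035 = n178818 := d9_2 D152258 D213035 (iv4 D178818) (iv5 D85217) (iv4 D39390) F313136 D30616 D65227 D138939 (iv5 F348069) F340346 (iv5 D71819) F52419 D33198 D71833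
theorem F468706 : act 6 n213035 = n185638 := d10_2 (iv6 F348761) D213035 (iv4 D185638)
theorem F468707 : act 7 n213035 = n187388 := d11_2 (iv7 F319046) D213035 F370122
theorem F468708 : act 0 n213035 = n178878 := d17_0 (iv5 F434436) (iv1 F434440) (iv5 F356892) (iv4 D157231) (iv5 D74766) D74764 F246567 (iv0 F319043) D213035
theorem F468709 : act 1 n213035 = n164100 := d18_6 F316686 (iv4 D65214) (iv1 F314304) D71833 D152258 D213035 (iv4 F348067) (iv0 F348064) F278745
def n213036 : Q := act 4 n152268
theorem D213036 : act 4 n152268 = n213036 := rfl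
theorem F468710 : act 2 n213036 = n152484 := d1_1 D213036 (iv4 D152484) (iv2 F239324)
theorem F468711 : act 3 n213036 = n211117 := d5_1 D213036 (iv4 F460171) (iv3 D163841) D163842 F354825
theorem F468712 : act 7 n213036 = n199575 := d11_2 (iv7 F351728) D213036 (iv4 D199575)
theorem F468713 : act 0 n213036 = n212508 := d18_2 F354828 D213036 (iv4 D212508) F231242 (iv4 D146541) D146539 D212296 (iv0 F465201) (iv5 F354604)
theorem F468714 : act 1 n213036 = n199489 := d18_6 F336517 F336474 (iv1 D71840) (iv4 F108280) D152268 D213036 F412362 F348614 (iv5 F182069)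
def n213037 : Q := act 4 n152273
theorem D213037 : act 4 n152273 = n213037 := rfl
theorem F468715 : act 2 n213037 = n152496 := d1_1 D213037 (iv4 D152496) F239344
theorem F468716 : act 3 n213037 = n192692 := d5_1 D213037 F387507 (iv3 F229760) F335934 F366501
theorem F468717 : act 6 n213037 = n191954 := d10_2 (iv6 F374355) D213037 F384981
theorem F468718 : act 7 n213037 = n152508 := d11_2 F239342 D213037 (iv4 D152508)
theorem F468719 : act 5 n213037 = n191871 := d16_1 D213037 F412308 (iv5 D199465) F349854 D125457 F336474 D152277 F239351 F239344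
def n213038 : Q := act 4 n152277
theorem D213038 : act 4 n152277 = n213038 := rfl
theorem F468720 : act 2 n213038 = n152508 := d1_1 D213038 (iv4 D152508) (iv2 F239350)
theorem F468721 : act 6 n213038 = n192716 := d10_2 F418391 D213038 (iv4 F418390)
theorem F468722 : act 7 n213038 = n152496 := d11_2 (iv7 F239351) D213038 (iv4 D152496)
theorem F468723 : act 5 n213038 = n191877 := d16_7 F412308 (iv5 D199465) F349854 D125457 F336474 D152277 D213038 (iv7 D191877) (iv2 F384626)
theorem F468724 : act 3 n213038 = n191885 := d19_3 (iv1 F108281) D152277 D213038 (iv1 F384661) D192706 F387561 (iv3 F458465) F458467 F429682 F370342 F322605 (iv1 F229169) (iv5 F420304) (iv4 D201391) (iv3 D114413) (iv1 F161797) F161754 F76741 (iv3 F52469)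
def n213039 : Q := act 4 n152280
theorem D213039 : act 4 n152280 = n213039 := rfl
theorem F468725 : act 2 n213039 = n152521 := d1_1 D213039 (iv4 D152521) (iv2 F346148)
theorem F468726 : act 7 n213039 = n152516 := d11_2 (iv7 F346149) D213039 (iv4 D152516)
theorem F468727 : act 0 n213039 = n201486 := d17_0 F420682 F412772 (iv5 F468719) (iv4 D213037) (iv5 D152273) (iv0 D71839) D71841 D152280 D213039
theorem F468728 : act 3 n192680 = n213039 := d20_5 (iv4 F360051) (iv1 F409199) F409196 D199771 F413427 (iv4 D213039) (iv1 D152280) D152281 (iv3 F407503) F407506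
def n213040 : Q := act 6 n152283
theorem D213040 : act 6 n152283 = n213040 := rfl
theorem F468729 : act 2 n213040 = n152539 := d3_1 D213040 (iv6 D152539) (iv2 F239362)
theorem F468730 : act 3 n213040 = n201492 := d7_1 D213040 (iv6 D201492) (iv3 F239363)
theorem F468731 : act 4 n213040 = n156226 := d10_1 D213040 F366634 F247908
theorem F468732 : act 5 n213040 = n201050 := d12_1 D213040 (iv6 D201050) (iv5 D113794) (iv6 F108290) D152283
theorem F468733 : act 7 n213040 = n156220 := d14_2 (iv7 F239364) D213040 (iv6 D156220) (iv7 F315456) (iv6 D152530)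
theorem F468734 : act 0 n213040 = n194521 := d21_4 (iv5 F323757) F108293 D152283 D213040 (iv6 F393562) (iv5 D140879) D140875 F348059 (iv6 D118258) F323754
theorem F468735 : act 0 n197490 = n213040 := d21_4 F185771 (iv1 F280172) (iv5 F319700) F404540 (iv6 D213040) (iv5 D152283) F108292 D105898 (iv6 F234149) F239484
def n213041 : Q := act 5 n152284
theorem D213041 : act 5 n152284 = n213041 := rfl
theorem F468736 : act 2 n213041 = n152541 := d2_1 D213041 (iv5 D152541) (iv2 F239367)
theorem F468737 : act 3 n213041 = n209783 := d6_1 D213041 (iv5 F457864) F457863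
theorem F468738 : act 4 n213041 = n152348 := d9_1 D213041 F320455 F318298 (iv5 D54436) (iv4 F42409) D54784 D119050 D203433 F428280 (iv5 F247907) F247908 (iv5 D152283) (iv4 D71843) D71844 D152284
theorem F468739 : act 7 n213041 = n152535 := d13_2 (iv7 F239368) D213041 (iv5 D152535)
theorem F468740 : act 0 n213041 = n201489 := d17_2 (iv1 F239370) D213041 (iv5 D201489) (iv4 D114612) (iv5 D52902) F50919 D33285 F83701 D114806
theorem F468741 : act 1 n213041 = n201547 := d17_6 (iv1 F108296) F52481 (iv1 F52423) D71844 D152284 D213041 (iv5 D201547) (iv0 F239374) (iv4 D152286)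
def n213042 : Q := act 5 n152286
theorem D213042 : act 5 n152286 = n213042 := rfl
theorem F468742 : act 2 n213042 = n152551 := d2_1 D213042 (iv5 D152551) (iv2 F239372)
theorem F468743 : act 7 n213042 = n152559 := d13_2 (iv7 F239373) D213042 (iv5 D152559)
theorem F468744 : act 4 n213042 = n152342 := d16_2 D152286 D213042 (iv5 D152342) (iv4 F323309) F323310 (iv4 F104111) (iv5 F108302) F108301 (iv2 F108299)
def n213043 : Q := act 6 n152286
theorem D213043 : act 6 n152286 = n213043 := rfl
theorem F468745 : act 2 n213043 = n152552 := d3_1 D213043 (iv6 D152552) (iv2 F239372)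
theorem F468746 : act 4 n213043 = n152287 := d10_1 D213043 (iv6 D152287) D152286
theorem F468747 : act 7 n213043 = n192739 := d14_2 (iv7 F239373) D213043 (iv6 D192739) F349164 (iv6 D152560)
theorem F468748 : act 1 n192741 = n213043 := d15_1 D192741 F468747 F387621
theorem F468749 : act 1 n213043 = n192740 := d15_1 F468748 (iv7 F456764) F456762
def n213044 : Q := act 7 n152287
theorem D213044 : act 7 n152287 = n213044 := rfl
theorem F468750 : act 2 n213044 = n152555 := d4_1 D213044 (iv7 D152555) (iv2 F239376)
theorem F468751 : act 4 n213044 = n192739 := d11_1 D213044 (iv7 F468747) F468746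
theorem F468752 : act 6 n213044 = n152563 := d14_1 D213044 (iv7 D152563) (iv6 D71952) F108298 D152287
theorem F468753 : act 1 n152554 = n213044 := d15_1 D152554 (iv7 D213044) F239376
theorem F468754 : act 1 n213044 = n152553 := d15_1 F468753 F449282 F449280
def n213045 : Q := act 5 n152288
theorem D213045 : act 5 n152288 = n213045 := rfl
theorem F468755 : act 2 n213045 = n152559 := d2_1 D213045 (iv5 D152559) (iv2 F239377)
theorem F468756 : act 3 n213045 = n187462 := d6_1 D213045 F370440 F361015
theorem F468757 : act 4 n213045 = n152339 := d9_1 D213045 (iv5 D152339) F108346 (iv5 F104067) F104070 (iv5 F108297) D152286 D213042 F468744 (iv5 D152342) (iv4 F323309) F323310 (iv4 F104111) (iv5 F108302) D152288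
theorem F468758 : act 6 n213045 = n187461 := d12_2 F345131 D213045 F370436 F367357 F291847
theorem F468759 : act 7 n213045 = n152551 := d13_2 (iv7 F239378) D213045 (iv5 D152551)
def n213046 : Q := act 3 n152289
theorem D213046 : act 3 n152289 = n213046 := rfl
theorem F468760 : act 4 n213046 = n203358 := d5_2 (iv4 F239381) D213046 (iv3 D203358) (iv4 D118767) D118766
theorem F468761 : act 6 n213046 = n191768 := d7_2 F449276 D213046 F449279
theorem F468762 : act 7 n213046 = n152567 := d8_2 F239384 D213046 (iv3 D152567)
def n213047 : Q := act 5 n152289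
theorem D213047 : act 5 n152289 = n213047 := rfl
theorem F468763 : act 2 n213047 = n152565 := d2_1 D213047 (iv5 D152565) F239383
theorem F468764 : act 7 n213047 = n152568 := d13_2 F239384 D213047 (iv5 D152568)
theorem F468765 : act 4 n213047 = n152334 := d16_2 (iv4 F239381) D213047 (iv5 D152334) (iv4 D71870) (iv5 F52443) (iv4 F55305) D76490 F178702 (iv2 F186817)
theorem F468766 : act 0 n213047 = n200920 := d17_2 D152289 D213047 (iv5 D200920) (iv4 D113626) (iv5 D52459) D52458 (iv5 F108297) (iv0 D71845) D71847
theorem F468767 : act 1 n213047 = n178074 := d17_6 D52976 (iv5 F95773) F162382 (iv5 F186818) (iv4 F239381) D213047 F364655 (iv0 D114810) (iv4 D52978)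
def n213048 : Q := act 5 n152290
theorem D213048 : act 5 n152290 = n213048 := rfl
theorem F468768 : act 2 n213048 = n152568 := d2_1 D213048 (iv5 D152568) F239388
theorem F468769 : act 4 n213048 = n152330 := d9_1 D213048 (iv5 D152330) (iv4 D71868) F77005 D105744 (iv5 F186818) (iv4 F239381) D213047 F468765 (iv5 D152334) (iv4 D71870) (iv5 F52443) (iv4 F55305) D76490 (iv4 F239387)
theorem F468770 : act 6 n213048 = n183852 := d12_2 (iv6 F361037) D213048 (iv5 F344330) F361025 F349152
theorem F468771 : act 7 n213048 = n152565 := d13_2 (iv7 F239386) D213048 (iv5 D152565)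
theorem F468772 : act 0 n213048 = n178074 := d17_2 (iv1 F239385) D213048 F364655 F178880 F108445 (iv0 F95891) (iv5 F108302) F108300 (iv4 F108455)
theorem F468773 : act 1 n213048 = n200920 := d17_6 (iv1 F83702) F114656 (iv1 D76489) D76490 (iv4 F239387) D213048 (iv5 D200920) F176811 (iv4 D72090)
def n213049 : Q := act 5 n152291
theorem D213049 : act 5 n152291 = n213049 := rfl
theorem F468774 : act 2 n213049 = n210542 := d2_1 D213049 F457982 F413407
theorem F468775 : act 3 n213049 = n152292 := d6_1 D213049 (iv5 D152292) D152291
theorem F468776 : act 7 n213049 = n152871 := d13_2 F413556 D213049 F413557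
theorem F468777 : act 1 n213049 = n198069 := d17_6 F364126 (iv5 F345428) F409308 (iv5 F409306) F409305 D213049 F406647 F364223 (iv4 F198412)
theorem F468778 : act 0 n213049 = n204588 := d21_1 D213049 (iv5 D204588) (iv6 F424360) (iv1 F424362) (iv6 F364132) F140494 (iv1 F356417) (iv5 F345055) D192219 F409311
def n213050 : Q := act 6 n152292
theorem D213050 : act 6 n152292 = n213050 := rfl
theorem F468779 : act 2 n213050 = n152575 := d3_1 D213050 (iv6 D152575) (iv2 F239389)
theorem F468780 : act 4 n213050 = n152876 := d10_1 D213050 (iv6 D152876) (iv4 F239391)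
def n213051 : Q := act 5 n152305
theorem D213051 : act 5 n152305 = n213051 := rfl
theorem F468781 : act 2 n213051 = n204875 := d2_1 D213051 F433973 (iv2 F344390)
theorem F468782 : act 3 n213051 = n152306 := d6_1 D213051 (iv5 D152306) D152305
theorem F468783 : act 6 n213051 = n204856 := d12_2 F392664 D213051 (iv5 D204856) F199161 D194286
theorem F468784 : act 7 n213051 = n152663 := d13_2 (iv7 F239420) D213051 (iv5 D152663)
theorem F468785 : act 4 n213051 = n204888 := d16_2 (iv4 F239419) D213051 (iv5 F445352) F445351 F436969 F416824 (iv5 D158323) (iv7 F249435) (iv2 F249436)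
theorem F468786 : act 0 n213051 = n206803 := d17_2 (iv1 F344413) D213051 F442252 F213661 D133008 (iv0 F341880) F354002 F354004 F270505
def n213052 : Q := act 5 n152320
theorem D213052 : act 5 n152320 = n213052 := rfl
theorem F468787 : act 2 n213052 = n152738 := d2_1 D213052 (iv5 D152738) (iv2 F239471)
theorem F468788 : act 3 n213052 = n201910 := d6_1 D213052 (iv5 D201910) (iv3 F336255)
theorem F468789 : act 4 n213052 = n208838 := d9_1 D213052 (iv5 F456425) F456423 (iv5 D152313) (iv4 D71857) F320464 (iv4 F84768) D116640 (iv4 F360850) (iv5 F431865) F431864 (iv5 D152319) (iv4 D71861) D71862 D152320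
theorem F468790 : act 6 n213052 = n201907 := d12_2 F336257 D213052 (iv5 D201907) (iv6 D115243) D115242
theorem F468791 : act 7 n213052 = n152718 := d13_2 (iv7 F239472) D213052 (iv5 D152718)
theorem F468792 : act 0 n213052 = n202734 := d17_2 (iv1 F366203) D213052 F425325 (iv4 D195597) (iv5 D105903) (iv0 F191320) D152681 F425321 (iv4 D202730)
theorem F468793 : act 1 n213052 = n202733 := d17_6 (iv1 F108334) F52510 (iv1 F52434) D71862 D152320 D213052 F456290 F456291 (iv4 D152321)
def n213053 : Q := act 5 n152326
theorem D213053 : act 5 n152326 = n213053 := rfl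
theorem F468794 : act 2 n213053 = n193867 := d2_1 D213053 (iv5 D193867) (iv2 F357234)
theorem F468795 : act 3 n213053 = n152327 := d6_1 D213053 (iv5 D152327) D152326
theorem F468796 : act 4 n213053 = n208862 := d9_1 D213053 F451148 (iv4 D177748) (iv5 D84634) F60091 D57975 D124357 D204784 F433574 F391147 F277468 F129921 (iv4 F289773) D99843 F357231
theorem F468797 : act 7 n213053 = n192280 := d13_2 (iv7 F357235) D213053 (iv5 D192280)
theorem F468798 : act 0 n213053 = n201943 := d17_2 F388946 D213053 (iv5 D201943) (iv4 F362202) (iv5 D101404) (iv0 F289609) (iv5 F386041) F386043 D193150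
def n213054 : Q := act 6 n152327
theorem D213054 : act 6 n152327 = n213054 := rfl
theorem F468799 : act 2 n213054 = n152768 := d3_1 D213054 (iv6 D152768) (iv2 F239487)
theorem F468800 : act 4 n213054 = n208837 := d10_1 D213054 F451061 F347119
theorem F468801 : act 5 n213054 = n152351 := d12_1 D213054 (iv6 D152351) (iv5 D71875) (iv6 F108331) D152327
theorem F468802 : act 0 n209493 = n213054 := d19_0 F468801 (iv4 F351169) (iv3 D185294) (iv1 F310372) (iv5 F248364) F346615 F206039 (iv1 F106809) D149735 F235496 (iv3 F241608) F436719 F436717 F227007 (iv3 D136534) (iv1 D64183) D64184 D136535 D209493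
def n213055 : Q := act 5 n152329
theorem D213055 : act 5 n152329 = n213055 := rfl
theorem F468803 : act 3 n213055 = n152330 := d6_1 D213055 (iv5 D152330) D152329
theorem F468804 : act 7 n213055 = n152814 := d13_2 (iv7 F239492) D213055 (iv5 D152814)
def n213056 : Q := act 6 n152334
theorem D213056 : act 6 n152334 = n213056 := rfl
theorem F468805 : act 2 n213056 = n152816 := d3_1 D213056 (iv6 D152816) (iv2 F239508)
theorem F468806 : act 5 n213056 = n202012 := d12_1 D213056 (iv6 F423779) F423776 F318386 D152334
def n213057 : Q := act 0 n152338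
theorem D213057 : act 0 n152338 = n213057 := rfl
theorem F468807 : act 5 n213057 = n209541 := d19_1 D213057 (iv4 D209541) F219668 F111277 (iv5 D64409) (iv4 D30328) (iv3 F111202) (iv1 D6969) (iv5 F11205) F313685 (iv3 F42036) D54489 F86055 F55767 D76787 F115248 F104067 (iv4 F108346) D152338
theorem F468808 : act 4 n213057 = n211990 := d20_0 (iv1 F463839) F422560 (iv3 F400939) F402306 (iv3 D152791) (iv4 F162621) F162620 (iv4 F108346) D152338 D213057
theorem F468809 : act 1 n152841 = n213057 := d15_0 (iv0 D213057) F239525 D152841
theorem F468810 : act 2 n152840 = n213057 := d1_3 F468808 (iv2 F463843) F422562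
theorem F468811 : act 7 n152839 = n213057 := d11_0 F468808 (iv7 F463845) F464122
def n213058 : Q := act 1 n152338
theorem D213058 : act 1 n152338 = n213058 := rfl
theorem F468812 : act 1 n213058 = n152841 := d15_1 D213058 F404296 F404294
theorem F468813 : act 7 n213058 = n152840 := d15_2 (iv0 D213057) D213058 F468810
theorem F468814 : act 4 n211991 = n213058 := d20_0 (iv1 D213058) F239524 (iv3 D118259) (iv1 F109146) (iv3 F241392) F241393 (iv1 F331118) (iv4 F407863) (iv3 F422559) F463842
theorem F468815 : act 3 n193126 = n213058 := d20_3 (iv4 D192391) (iv1 F384842) (iv4 F388829) (iv1 D213058) (iv3 D152338) F108346 F323754 (iv4 F323756) D152789 (iv1 F386627)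
theorem F468816 : act 2 n213058 = n152839 := d1_1 F468814 (iv4 F464122) (iv2 F463844)
def n213059 : Q := act 5 n152338
theorem D213059 : act 5 n152338 = n213059 := rfl
theorem F468817 : act 3 n213059 = n152339 := d6_1 D213059 (iv5 D152339) D152338
theorem F468818 : act 6 n213059 = n210752 := d12_2 F351787 D213059 (iv5 D210752) (iv6 F428813) F428815
theorem F468819 : act 7 n213059 = n152842 := d13_2 (iv7 F239525) D213059 (iv5 D152842)
def n213060 : Q := act 6 n152339
theorem D213060 : act 6 n152339 = n213060 := rfl
theorem F468820 : act 2 n213060 = n152834 := d3_1 D213060 (iv6 D152834) (iv2 F239526)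
theorem F468821 : act 3 n213060 = n210752 := d7_1 D213060 (iv6 F468818) F468817
theorem F468822 : act 4 n213060 = n187461 := d10_1 D213060 (iv6 F468758) F468757
theorem F468823 : act 5 n213060 = n206979 := d12_1 D213060 F442823 F423471 F318318 D152339
theorem F468824 : act 0 n156105 = n213060 := d21_4 F459146 (iv1 F359961) D202302 F423553 (iv6 D213060) (iv5 D152339) (iv1 F108347) (iv5 F108579) D152876 F459148
theorem F468825 : act 1 n156103 = n213060 := d15_0 (iv0 F468824) F359534 (iv2 F359531)
theorem F468826 : act 7 n213060 = n185036 := d15_2 F423913 F468825 (iv2 F423909)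
def n213061 : Q := act 5 n152341
theorem D213061 : act 5 n152341 = n213061 := rfl
theorem F468827 : act 3 n213061 = n152342 := d6_1 D213061 (iv5 D152342) D152341
theorem F468828 : act 7 n213061 = n152829 := d13_2 (iv7 F239533) D213061 (iv5 D152829)
def n213062 : Q := act 3 n152344
theorem D213062 : act 3 n152344 = n213062 := rfl
theorem F468829 : act 4 n213062 = n206343 := d5_2 F455011 D213062 (iv3 F455008) (iv4 D209804) (iv3 F455010)
theorem F468830 : act 6 n213062 = n201948 := d7_2 (iv6 F455007) D213062 F425957
def n213063 : Q := act 5 n152344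
theorem D213063 : act 5 n152344 = n213063 := rfl
theorem F468831 : act 0 n203595 = n213063 := d21_1 D203595 (iv5 D213063) F455007 (iv1 D202182) F218268 (iv5 F245443) F246212 (iv5 F349760) F429042 (iv1 D203594)
def n213064 : Q := act 3 n152345
theorem D213064 : act 3 n152345 = n213064 := rfl
theorem F468832 : act 4 n213064 = n202451 := d5_2 F389481 D213064 F424060 F375247 D193331
theorem F468833 : act 6 n213064 = n202450 := d7_2 F400890 D213064 F424056
theorem F468834 : act 0 n213064 = n192940 := d20_10 (iv4 D192940) D192938 F422860 (iv3 F422861) (iv1 F467705) (iv3 F467708) (iv4 D209785) F389482 F389481 D213064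
theorem F468835 : act 2 n211006 = n213064 := d3_3 F468833 F424055 D211006
def n213065 : Q := act 5 n152345
theorem D213065 : act 5 n152345 = n213065 := rfl
theorem F468836 : act 4 n213065 = n209496 := d16_6 F428102 D203595 (iv4 F451163) F451161 F389481 D213065 (iv5 D209496) (iv7 F422930) (iv2 F428101)
theorem F468837 : act 6 n213065 = n204509 := d21_3 (iv5 D209855) (iv1 F366080) D213065 (iv1 D204509) F198340 D124053 F306750 (iv5 F305173) D204662 (iv1 F455147)
theorem F468838 : act 5 n201945 = n204509 := d12_5 (iv6 F468837) (iv5 D213065) (iv6 F400890) (iv5 F400891) D201945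
theorem F468839 : act 1 n203595 = n213065 := d18_6 F427892 F357241 (iv1 F366080) (iv4 F389481) (iv5 F451161) F451163 F468836 (iv0 F458011) F458009
def n213066 : Q := act 6 n152347
theorem D213066 : act 6 n152347 = n213066 := rfl
theorem F468840 : act 2 n213066 = n210888 := d3_1 D213066 F459155 F422896
theorem F468841 : act 3 n213066 = n152351 := d7_1 D213066 (iv6 D152351) (iv3 F239540)
def n213067 : Q := act 3 n152349
theorem D213067 : act 3 n152349 = n213067 := rfl
theorem F468842 : act 7 n213067 = n152867 := d8_2 (iv7 F239546) D213067 (iv3 D152867)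
theorem F468843 : act 0 n213067 = n194242 := d19_4 (iv1 F187309) D203433 F428280 D213067 (iv5 D194242) (iv4 D103030) F75024 D47774 F293010 (iv4 F293143) F66372 F292048 (iv5 F17237) (iv4 F34517) (iv3 F72694) D98650 (iv5 F370848) (iv4 F420940) (iv3 D201559)
theorem F468844 : act 1 n213067 = n209856 := d15_1 (iv0 F468843) F455152 F393258
def n213068 : Q := act 6 n152349
theorem D213068 : act 6 n152349 = n213068 := rfl
theorem F468845 : act 2 n213068 = n152870 := d3_1 D213068 (iv6 D152870) F239547
def n213069 : Q := act 0 n152351
theorem D213069 : act 0 n152351 = n213069 := rfl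
def n213070 : Q := act 7 n152351
theorem D213070 : act 7 n152351 = n213070 := rfl
theorem F468846 : act 2 n213070 = n152875 := d4_1 D213070 (iv7 D152875) (iv2 F239551)
theorem F468847 : act 4 n213070 = n209807 := d11_1 D213070 F455019 F351169
theorem F468848 : act 1 n152875 = n213069 := d15_0 (iv0 D213069) D213070 F468846
theorem F468849 : act 1 n152874 = n213070 := d15_1 D152874 (iv7 D213070) F239551
theorem F468850 : act 1 n213070 = n152873 := d15_0 (iv0 D152873) D152875 (iv2 F468846)
def n213071 : Q := act 6 n152353
theorem D213071 : act 6 n152353 = n213071 := rfl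
theorem F468851 : act 2 n213071 = n212474 := d3_1 D213071 F465973 (iv2 F419537)
theorem F468852 : act 3 n213071 = n164409 := d7_1 D213071 F398532 (iv3 F336467)
theorem F468853 : act 4 n213071 = n203796 := d10_1 D213071 F429856 F386580
theorem F468854 : act 5 n213071 = n196009 := d12_1 D213071 (iv6 F399050) (iv5 F451691) F451692 (iv5 F374762)
theorem F468855 : act 7 n213071 = n212471 := d14_2 F364250 D213071 (iv6 D212471) (iv7 F342079) F364252
theorem F468856 : act 0 n213071 = n194175 := d21_4 (iv5 F139211) D187684 (iv5 F374762) D213071 F392258 (iv5 F396211) F419412 F419410 (iv6 F370554) (iv1 D187490)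
theorem F468857 : act 0 n194173 = n213071 := d21_4 (iv5 F419783) F419784 F346146 (iv6 F392250) (iv6 D213071) F374762 (iv1 F374763) F374754 (iv6 F352157) F349960
def n213072 : Q := act 5 n152356
theorem D213072 : act 5 n152356 = n213072 := rfl
theorem F468858 : act 2 n213072 = n205867 := d2_1 D213072 F438193 (iv2 F239556)
theorem F468859 : act 3 n213072 = n163230 := d6_1 D213072 F313790 (iv3 F366769)
theorem F468860 : act 6 n213072 = n173280 := d12_2 D152356 D213072 (iv5 D173280) F312382 F108368
theorem F468861 : act 7 n213072 = n205862 := d13_2 F419371 D213072 F438175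
theorem F468862 : act 0 n213072 = n205866 := d17_2 F364168 D213072 F438191 (iv4 D188566) (iv5 D92489) (iv0 D43273) D43274 F321882 (iv4 F166356)
theorem F468863 : act 1 n213072 = n205865 := d17_6 F466756 (iv5 D189283) (iv1 F364170) F251901 (iv4 F239557) D213072 F438189 (iv0 F363832) (iv4 F466752)
def n213073 : Q := act 4 n152365
theorem D213073 : act 4 n152365 = n213073 := rfl
theorem F468864 : act 2 n213073 = n195668 := d1_1 D213073 (iv4 D195668) (iv2 F334818)
theorem F468865 : act 6 n213073 = n205758 := d10_2 (iv6 F364865) D213073 F437732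
def n213074 : Q := act 4 n152386
theorem D213074 : act 4 n152386 = n213074 := rfl
theorem F468866 : act 2 n213074 = n212352 := d1_1 D213074 F465439 F419346
theorem F468867 : act 3 n213074 = n199070 := d5_1 D213074 (iv4 F442417) (iv3 F442418) (iv4 D159466) (iv3 F333223)
theorem F468868 : act 6 n213074 = n208153 := d10_2 (iv6 F352121) D213074 (iv4 D208153)
theorem F468869 : act 7 n213074 = n201697 := d11_2 (iv7 F333224) D213074 (iv4 D201697)
theorem F468870 : act 5 n213074 = n195589 := d16_1 D213074 (iv4 D195589) F234156 (iv4 F314763) F339754 F335516 D152391 (iv7 F419348) F419346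
theorem F468871 : act 0 n213074 = n155494 := d17_0 (iv5 D155494) (iv1 F244494) F372337 F372336 D188109 (iv0 F419673) (iv5 F432624) F432626 D213074
theorem F468872 : act 1 n213074 = n155491 := d18_6 (iv1 D71809) (iv4 F108262) D152220 F335506 D152386 D213074 (iv4 F420721) (iv0 F420723) (iv5 D152232)
def n213075 : Q := act 4 n152391
theorem D213075 : act 4 n152391 = n213075 := rfl
theorem F468873 : act 2 n213075 = n201697 := d1_1 D213075 (iv4 D201697) F364733
theorem F468874 : act 5 n213075 = n202900 := d9_2 D152391 D213075 F426108 D212541 F466342 (iv5 F335507) F335506 D152386 D213074 F468870 (iv4 D195589) F234156 (iv4 F314763) F339754 F335516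
theorem F468875 : act 6 n213075 = n210304 := d10_2 F428451 D213075 F456926
theorem F468876 : act 7 n213075 = n212352 := d11_2 F419348 D213075 F465439
theorem F468877 : act 0 n213075 = n155491 := d17_0 (iv5 D155491) D155488 (iv5 F444667) F444666 F398405 F419723 (iv5 F428438) (iv0 F428440) D213075
theorem F468878 : act 1 n213075 = n155494 := d18_6 (iv1 F186267) F335528 F335517 F335516 D152391 D213075 (iv4 F468674) (iv0 D213030) (iv5 D152227)
theorem F468879 : act 3 n212540 = n213075 := d7_3 F468875 F456925 (iv6 F466338)
def n213076 : Q := act 1 n152397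
theorem D213076 : act 1 n152397 = n213076 := rfl
theorem F468880 : act 1 n213076 = n208874 := d15_1 D213076 F451202 F419636
theorem F468881 : act 7 n213076 = n208169 := d15_2 (iv0 F443874) D213076 F448216
theorem F468882 : act 5 n213076 = n186401 := d17_7 F452512 F414665 (iv1 F397096) (iv5 F429344) F429342 (iv5 F239586) D213076 (iv0 D186401) (iv4 F289176)
theorem F468883 : act 3 n207200 = n213076 := d19_19 (iv1 D213076) F239586 (iv4 F429342) F429341 F278740 (iv5 D125045) (iv4 D58463) (iv3 D27818) (iv1 D13274) (iv5 D6298) F4236 (iv3 F4222) D6269 (iv5 F297060) D18784 D39693 F313744 D151948 (iv4 F443771)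
theorem F468884 : act 4 n208172 = n213076 := d20_6 (iv4 F83831) F83832 D62041 D132243 (iv1 F390559) (iv3 F448226) (iv1 D213076) (iv4 F343926) (iv3 D135929) (iv1 F99408)
theorem F468885 : act 2 n213076 = n209593 := d1_1 F468884 (iv4 F457663) F457658
def n213077 : Q := act 6 n152399
theorem D213077 : act 6 n152399 = n213077 := rfl
theorem F468886 : act 2 n213077 = n208171 := d3_1 D213077 (iv6 F448225) F239588
theorem F468887 : act 4 n213077 = n201368 := d10_1 D213077 (iv6 D201368) (iv4 F239587)
theorem F468888 : act 7 n213077 = n208170 := d14_2 F239589 D213077 (iv6 F451836) F451831 F418959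
theorem F468889 : act 0 n213077 = n203807 := d21_4 D203476 (iv1 F463314) F463311 D213077 (iv6 D203807) (iv5 D120665) (iv1 F94578) (iv5 F314900) F356969 (iv1 F187592)
theorem F468890 : act 1 n213077 = n208172 := d15_1 (iv0 F468889) (iv7 D208172) (iv2 F429901)
def n213078 : Q := act 4 n152466
theorem D213078 : act 4 n152466 = n213078 := rfl
theorem F468891 : act 2 n213078 = n200518 := d1_1 D213078 F416830 F343341
theorem F468892 : act 3 n213078 = n177465 := d5_1 D213078 (iv4 F361647) F361644 (iv4 D152484) (iv3 F239654)
theorem F468893 : act 6 n213078 = n177454 := d10_2 (iv6 F347780) D213078 (iv4 F342117)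
theorem F468894 : act 5 n213078 = n200541 := d17_5 (iv1 F319464) (iv5 F353623) (iv1 D152465) D152466 D213078 (iv0 F436115) F435870 F416894 F416891
theorem F468895 : act 0 n213078 = n176525 := d17_0 (iv5 F436259) F436269 (iv5 D205329) F353848 F353633 (iv0 D83957) D83959 (iv0 F347779) D213078
theorem F468896 : act 1 n213078 = n198916 := d18_6 (iv1 F171214) (iv4 F347783) (iv1 D105399) (iv4 F108432) D152466 D213078 (iv4 D198916) (iv0 D110618) D110621
def n213079 : Q := act 1 n152476
theorem D213079 : act 1 n152476 = n213079 := rfl
theorem F468897 : act 7 n213079 = n173537 := d15_2 (iv0 F466069) D213079 (iv2 F466065)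
theorem F468898 : act 4 n213079 = n152498 := d18_7 (iv1 F142252) (iv4 F367438) (iv1 F367440) (iv4 F251975) (iv5 F420676) F420674 D213079 F239679 (iv5 D92489)
theorem F468899 : act 3 n173594 = n213079 := d20_3 F332127 (iv1 F466890) F466886 (iv1 D213079) (iv3 F403547) F403548 F436409 (iv4 D205435) F342264 F347647
theorem F468900 : act 6 n173481 = n213079 := d21_3 F305733 (iv1 F310718) (iv5 F271940) (iv1 D213079) (iv6 D152476) (iv5 F347796) D197205 (iv5 F465199) F465197 (iv1 D152221)
theorem F468901 : act 2 n213079 = n188110 := d3_1 F468900 F372346 (iv2 F339361)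
theorem F468902 : act 5 n213079 = n193421 := d12_1 F468900 (iv6 D193421) F156541 (iv6 F127933) (iv5 F271940)
def n213080 : Q := act 5 n152476
theorem D213080 : act 5 n152476 = n213080 := rfl
theorem F468903 : act 2 n213080 = n201185 := d2_1 D213080 (iv5 F466224) F466220
theorem F468904 : act 3 n213080 = n205876 := d6_1 D213080 F438224 F403547
theorem F468905 : act 7 n213080 = n201184 := d16_8 F458853 D210804 F458862 (iv5 D186610) (iv4 F251975) (iv5 F420676) F420674 D213080 (iv2 F458852)
theorem F468906 : act 0 n213080 = n188571 := d17_2 (iv1 D213079) D213080 (iv5 D188571) (iv4 D92492) (iv5 D43274) (iv0 F67766) (iv5 F108436) D152498 (iv4 F468898)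
theorem F468907 : act 1 n213080 = n201187 := d17_6 D159718 F342999 F283527 (iv5 F420676) F420674 D213080 F419365 (iv0 F251640) (iv4 D159721)
theorem F468908 : act 1 n201187 = n210802 := d15_1 F468907 (iv7 F458855) (iv2 F468903)
def n213081 : Q := act 7 n152476
theorem D213081 : act 7 n152476 = n213081 := rfl
theorem F468909 : act 4 n213081 = n189288 := d11_1 D213081 (iv7 F420675) F420674
theorem F468910 : act 5 n213081 = n201184 := d13_1 D213081 (iv7 F468905) (iv5 D213080)
theorem F468911 : act 6 n213081 = n201893 := d14_1 D213081 F422261 (iv6 D199651) F347801 D152476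
theorem F468912 : act 1 n188110 = n213081 := d15_1 (iv0 F466225) (iv7 D213081) (iv2 F466220)
theorem F468913 : act 1 n213081 = n173537 := d15_1 F468912 (iv7 F468897) F468901
def n213082 : Q := act 0 n152481
theorem D213082 : act 0 n152481 = n213082 := rfl
theorem F468914 : act 5 n213082 = n194848 := d17_1 D213082 (iv1 F394746) F352041 F239275 F336464 F99350 (iv5 F179303) F179442 F356621
theorem F468915 : act 4 n213082 = n152510 := d18_1 D213082 (iv1 F370541) (iv4 F403242) F403241 (iv4 F413782) (iv0 F413784) F408063 F340641 F353493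
theorem F468916 : act 6 n213082 = n188892 := d21_5 F465199 (iv1 F403518) F347812 D152481 D213082 F375143 (iv1 F342190) F338552 D164283 F465201
theorem F468917 : act 1 n201893 = n213082 := d15_0 (iv0 D213082) (iv7 F422150) (iv2 F422260)
theorem F468918 : act 7 n213082 = n178368 := d15_2 (iv0 F422263) F468917 (iv2 F403030)
theorem F468919 : act 3 n178358 = n213082 := d20_3 (iv4 F375137) (iv1 D188891) (iv4 F353308) (iv1 F468917) F422264 (iv4 F425248) F425246 F346938 F466185 (iv1 D212513)
def n213083 : Q := act 5 n152483
theorem D213083 : act 5 n152483 = n213083 := rfl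
theorem F468920 : act 2 n213083 = n164283 := d2_1 D213083 (iv5 F354604) F351730
theorem F468921 : act 3 n213083 = n206133 := d6_1 D213083 (iv5 F439392) (iv3 F351732)
theorem F468922 : act 4 n213083 = n203910 := d9_1 D213083 F430352 F420680 F413402 (iv4 D111468) (iv5 D51414) (iv4 F81148) D111443 D199576 (iv5 F420677) F420678 (iv5 F451342) F451341 (iv5 D199393) F351731
theorem F468923 : act 6 n213083 = n164262 := d12_2 F351733 D213083 (iv5 F338589) F338591 F295103
theorem F468924 : act 7 n213083 = n173517 := d13_2 F351734 D213083 (iv5 F354831)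
theorem F468925 : act 1 n213083 = n197091 := d17_6 D51455 (iv5 F365188) F411961 (iv5 D199393) F351731 D213083 F403010 (iv0 D111547) F81229
theorem F468926 : act 0 n213083 = n175939 := d21_1 D213083 F342074 (iv6 F342072) (iv1 F278759) F428705 F428702 (iv1 F188019) D178538 (iv6 F351724) (iv1 F351729)
def n213084 : Q := act 0 n152484
theorem D213084 : act 0 n152484 = n213084 := rfl
theorem F468927 : act 4 n213084 = n198923 := d18_3 (iv1 D152483) D152484 D213084 (iv5 F425329) F425327 F353832 (iv4 F342076) (iv0 F468926) (iv5 D213083)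
theorem F468928 : act 3 n213084 = n199391 := d20_5 F409183 F382449 (iv4 F361647) F361644 D213084 (iv4 F411951) F412293 D197897 (iv3 F435156) F435158
theorem F468929 : act 2 n212508 = n213084 := d15_3 (iv0 D213084) (iv0 F465930) (iv7 F466164)
theorem F468930 : act 7 n213084 = n199489 := d4_2 (iv7 F466164) F468929 (iv2 F465928)
theorem F468931 : act 1 n199575 = n213084 := d15_1 F465931 F468930 (iv2 F465928)
theorem F468932 : act 5 n199474 = n213084 := d6_0 F468928 (iv5 F411953) D199474
def n213085 : Q := act 7 n152484
theorem D213085 : act 7 n152484 = n213085 := rfl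
theorem F468933 : act 2 n213085 = n199575 := d4_1 D213085 (iv7 F468712) F468710
theorem F468934 : act 3 n213085 = n199012 := d8_1 D213085 F410321 F361644
theorem F468935 : act 4 n213085 = n152485 := d11_1 D213085 (iv7 D152485) D152484
theorem F468936 : act 1 n199489 = n213085 := d15_1 F468714 (iv7 D213085) (iv2 F468710)
theorem F468937 : act 1 n213085 = n212508 := d15_1 F468936 F466164 F465928
def n213086 : Q := act 6 n152491
theorem D213086 : act 6 n152491 = n213086 := rfl
theorem F468938 : act 2 n213086 = n160738 := d3_1 D213086 (iv6 D160738) (iv2 F347989)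
theorem F468939 : act 3 n213086 = n152493 := d7_1 D213086 (iv6 D152493) D152491
theorem F468940 : act 4 n213086 = n188555 := d10_1 D213086 (iv6 F425509) F425504
theorem F468941 : act 0 n213086 = n212552 := d21_4 F413367 (iv1 F434895) F434892 D213086 (iv6 F466390) F342647 F383204 F383201 (iv6 D147155) D147151
theorem F468942 : act 5 n213086 = n162585 := d21_6 (iv5 D18208) (iv1 F296008) D35190 D77049 (iv1 F353592) D213086 (iv1 D162585) (iv5 D78073) (iv6 D35609) F296230
theorem F468943 : act 0 n172847 = n213086 := d21_4 (iv5 D38035) D38033 D82752 D172847 (iv6 D213086) (iv5 F434892) (iv1 F434894) (iv5 F353662) F353663 (iv1 D82760)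
theorem F468944 : act 7 n212553 = n213086 := d13_0 F468942 F409644 (iv5 F466394)
def n213087 : Q := act 4 n152494
theorem D213087 : act 4 n152494 = n213087 := rfl
theorem F468945 : act 2 n213087 = n188381 := d1_1 D213087 (iv4 F419988) F419993
theorem F468946 : act 3 n213087 = n198306 := d5_1 D213087 F407549 (iv3 F409279) F409281 F419457
theorem F468947 : act 7 n213087 = n199026 := d11_2 F448125 D213087 (iv4 F448128)
theorem F468948 : act 5 n213087 = n198305 := d16_1 D213087 F413262 (iv5 D199724) F403523 F403527 F403154 (iv5 F354424) (iv7 F419990) F419993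
theorem F468949 : act 1 n213087 = n184499 := d18_6 F420792 F420790 F465201 (iv4 D212296) F353821 D213087 (iv4 F420670) (iv0 F423369) F423367
theorem F468950 : act 6 n213087 = n199689 := d21_5 (iv5 D41079) D41077 D87986 D184499 (iv1 F468949) (iv5 D199689) D199686 F449272 (iv6 D184523) (iv1 D87994)
def n213088 : Q := act 6 n152494
theorem D213088 : act 6 n152494 = n213088 := rfl
theorem F468951 : act 4 n213088 = n199689 := d10_1 D213088 (iv6 F468950) (iv4 D213087)
theorem F468952 : act 5 n213088 = n203474 := d12_1 D213088 F428451 (iv5 D152391) (iv6 F353822) F353821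
theorem F468953 : act 7 n213088 = n207366 := d14_2 F448125 D213088 (iv6 D207366) (iv7 F214616) (iv6 F448124)
def n213089 : Q := act 0 n152496
theorem D213089 : act 0 n152496 = n213089 := rfl
theorem F468954 : act 5 n213089 = n199595 := d17_3 (iv1 D191876) (iv5 F363655) D213089 (iv4 D199595) F365188 (iv0 D51455) D51458 D111571 F412042
theorem F468955 : act 0 n199595 = n208936 := d21_1 F468954 (iv5 F465213) (iv6 F465212) F383370 F383368 (iv5 D187709) F177353 D99376 F363653 D213089
theorem F468956 : act 1 n152508 = n213089 := d15_0 (iv0 D213089) (iv7 F468722) F468720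
theorem F468957 : act 3 n211217 = n213089 := d20_3 (iv4 F462266) (iv1 F462268) F460651 (iv1 F468956) (iv3 F465424) F465425 (iv1 F420743) (iv4 F458110) (iv3 F458228) F458230
def n213090 : Q := act 1 n152496
theorem D213090 : act 1 n152496 = n213090 := rfl
theorem F468958 : act 1 n213090 = n152508 := d15_1 D213090 (iv7 F468718) F468715
theorem F468959 : act 4 n213090 = n207256 := d17_9 F444006 (iv5 D203340) F290483 (iv5 F420685) (iv4 F454119) (iv5 F454121) (iv0 D191875) (iv5 F363655) D213090
theorem F468960 : act 6 n207258 = n213090 := d21_3 (iv5 D202286) (iv1 F423316) (iv5 F444016) (iv1 D213090) (iv6 F363653) (iv5 D99376) D99373 D191953 (iv6 F413516) (iv1 F423494)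
theorem F468961 : act 5 n199597 = n213090 := d16_1 D199597 F468959 (iv5 D207256) (iv4 F402972) F402973 (iv4 D111560) (iv5 F365188) F411965 (iv2 F411964)
theorem F468962 : act 0 n208936 = n199597 := d17_2 (iv1 F465211) F465213 F468961 F468959 (iv5 D207256) (iv0 F412736) (iv5 F420677) (iv0 D201484) D201486
def n213091 : Q := act 5 n152509
theorem D213091 : act 5 n152509 = n213091 := rfl
theorem F468963 : act 2 n213091 = n212413 := d2_1 D213091 F465698 (iv2 F418392)
theorem F468964 : act 3 n213091 = n212307 := d6_1 D213091 (iv5 D212307) F366500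
theorem F468965 : act 4 n213091 = n206896 := d9_1 D213091 F446073 F446069 D207786 F446438 F369039 (iv4 F372221) F372222 F442543 F444243 (iv4 D207303) (iv5 F425528) F425527 D212343 (iv4 F465409)
theorem F468966 : act 6 n213091 = n152512 := d12_2 D152509 D213091 (iv5 D152512) (iv6 D71934) D71933
theorem F468967 : act 7 n213091 = n187721 := d13_2 F375396 D213091 (iv5 F375395)
theorem F468968 : act 0 n213091 = n208999 := d21_1 D213091 F451775 (iv6 F451777) (iv1 D152554) (iv6 D71949) D71948 (iv1 F108452) D113613 (iv6 F418330) F418332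
theorem F468969 : act 0 n208155 = n213091 := d19_0 (iv5 D213091) F465409 F465405 (iv1 F444669) F444667 (iv4 F393503) F393502 F321842 F94898 F309513 (iv3 F309507) F299199 (iv5 F299085) D181589 (iv3 F342201) (iv1 D162571) (iv5 F315273) (iv4 F214647) (iv3 F448143)
theorem F468970 : act 4 n212307 = n209747 := d20_6 (iv4 F374616) F374619 (iv4 F214647) (iv3 F448143) F468969 F468964 (iv1 D209747) (iv4 F454824) F454823 (iv1 D188783)
theorem F468971 : act 6 n209747 = n212596 := d10_2 (iv6 F465249) F468970 (iv4 D212596)
def n213092 : Q := act 4 n152512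
theorem D213092 : act 4 n152512 = n213092 := rfl
theorem F468972 : act 6 n213092 = n206896 := d10_2 F468966 D213092 (iv4 F468965)
theorem F468973 : act 7 n213092 = n212417 := d11_2 (iv7 F239692) D213092 F465710
theorem F468974 : act 5 n213092 = n209060 := d17_5 (iv1 F359186) (iv5 F214663) F354426 D152512 D213092 (iv0 D209060) (iv5 D135654) D135653 (iv4 F359189)
theorem F468975 : act 1 n213092 = n206740 := d18_6 (iv1 D115159) (iv4 F166379) F336476 F239688 D152512 D213092 F442014 (iv0 F422156) (iv5 D201872)
theorem F468976 : act 7 n209060 = n209141 := d13_2 (iv7 F468973) F468974 (iv5 F465711)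
theorem F468977 : act 2 n209141 = n209061 := d15_3 F452441 F452442 F468976
theorem F468978 : act 2 n209060 = n209140 := d15_3 (iv0 D209140) D209141 (iv7 F468976)
theorem F468979 : act 7 n209140 = n209061 := d4_2 (iv7 F468976) F468978 (iv2 F468977)
def n213093 : Q := act 1 n152516
theorem D213093 : act 1 n152516 = n213093 := rfl
theorem F468980 : act 1 n213093 = n152521 := d15_1 D213093 (iv7 F465210) F465208
theorem F468981 : act 4 n164500 = n213093 := d20_6 F421926 F407428 F361664 F352412 (iv1 F232066) F366342 (iv1 D213093) (iv4 D152516) D152515 (iv1 F421929)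
theorem F468982 : act 5 n191876 = n213093 := d21_0 (iv1 D213093) (iv5 F468600) (iv6 D213015) (iv1 D152046) D152048 F391589 (iv1 D146782) D146784 D212340 (iv1 F465395)
theorem F468983 : act 2 n213093 = n201486 := d2_1 F468982 F420682 F412771
theorem F468984 : act 6 n213093 = n152549 := d21_9 D152551 (iv1 F420945) (iv5 D201560) (iv6 F418400) (iv1 F465410) F465406 F465396 (iv1 F465395) F468982 (iv1 D152549)
def n213094 : Q := act 5 n152521
theorem D213094 : act 5 n152521 = n213094 := rfl
theorem F468985 : act 7 n213094 = n208936 := d13_2 F465210 D213094 (iv5 F465213)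
theorem F468986 : act 4 n213094 = n199474 := d16_2 D152521 D213094 F468932 F468927 (iv5 F425329) F425327 F346145 (iv7 F346149) F346148
def n213095 : Q := act 6 n152525
theorem D213095 : act 6 n152525 = n213095 := rfl
theorem F468987 : act 3 n213095 = n210704 := d7_1 D213095 (iv6 D210704) (iv3 F413401)
theorem F468988 : act 4 n213095 = n212032 := d10_1 D213095 F464039 F420680
theorem F468989 : act 7 n213095 = n212031 := d14_2 (iv7 F431408) D213095 F464036 (iv7 F357860) D204187
def n213096 : Q := act 4 n152527
theorem D213096 : act 4 n152527 = n213096 := rfl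
theorem F468990 : act 3 n213096 = n188845 := d5_1 D213096 F375050 (iv3 F364374) (iv4 F372984) (iv3 F372995)
theorem F468991 : act 5 n213096 = n199575 := d16_3 D71937 D152527 D213096 (iv4 D199575) F351725 F321008 (iv5 F239358) (iv7 D152282) F108282
theorem F468992 : act 0 n213096 = n191874 := d17_0 (iv5 F384630) F403529 D199724 (iv4 F413262) (iv5 F468948) F468949 F413031 (iv0 F413033) D213096
theorem F468993 : act 6 n188844 = n213096 := d7_0 F468990 (iv6 D188845) D188844
def n213097 : Q := act 6 n152527
theorem D213097 : act 6 n152527 = n213097 := rfl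
theorem F468994 : act 3 n213097 = n188843 := d7_1 D213097 F375046 (iv3 F372995)
theorem F468995 : act 4 n213097 = n188844 := d10_1 D213097 F468993 (iv4 D213096)
theorem F468996 : act 5 n213097 = n152575 := d12_1 D213097 (iv6 D152575) (iv5 D71956) (iv6 F108440) D152527
theorem F468997 : act 0 n208925 = n213097 := d21_4 (iv5 D120304) (iv1 F319894) D135404 D208925 (iv6 D213097) (iv5 D152527) D152524 (iv5 F451342) (iv6 D208905) F319772
def n213098 : Q := act 0 n152531
theorem D213098 : act 0 n152531 = n213098 := rfl
theorem F468998 : act 4 n213098 = n192651 := d18_3 (iv1 F304630) F364651 D213098 (iv5 D192651) (iv4 F332305) F332303 F249851 F134992 D184484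
theorem F468999 : act 2 n192657 = n213098 := d15_3 (iv0 D213098) (iv0 F447941) F447939
theorem F469000 : act 1 n204174 = n213098 := d15_0 (iv0 D213098) F364653 (iv2 F431335)
theorem F469001 : act 7 n213098 = n204196 := d15_2 F447942 F469000 (iv2 F447937)
def n213099 : Q := act 5 n152532
theorem D213099 : act 5 n152532 = n213099 := rfl
theorem F469002 : act 2 n213099 = n201555 := d2_1 D213099 (iv5 D201555) F239714
theorem F469003 : act 7 n213099 = n201560 := d13_2 F239715 D213099 (iv5 D201560)
theorem F469004 : act 4 n213099 = n152797 := d16_2 (iv4 F239712) D213099 F239996 F184281 (iv5 F115160) F115163 (iv5 F177185) (iv7 F177188) F177192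
theorem F469005 : act 0 n213099 = n213042 := d17_2 D152532 D213099 (iv5 D213042) (iv4 D152286) F108297 F95892 (iv5 F108445) (iv0 D71940) D71941
theorem F469006 : act 1 n213099 = n213045 := d17_6 (iv1 F178704) (iv5 F178705) F108572 (iv5 F177191) (iv4 F239712) D213099 (iv5 D213045) F239380 (iv4 D114803)
def n213100 : Q := act 3 n152533
theorem D213100 : act 3 n152533 = n213100 := rfl
theorem F469007 : act 2 n213100 = n194125 := d0_1 D213100 F392116 (iv2 F420942) (iv3 D201559) F239719
theorem F469008 : act 7 n213100 = n201554 := d8_2 (iv7 F239717) D213100 (iv3 D201554)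
theorem F469009 : act 5 n187464 = n213100 := d2_0 F469007 (iv5 D194125) (iv2 F370442)
def n213101 : Q := act 5 n152533
theorem D213101 : act 5 n152533 = n213101 := rfl
theorem F469010 : act 2 n213101 = n201560 := d2_1 D213101 (iv5 D201560) F239719
theorem F469011 : act 3 n213101 = n187464 := d6_1 D213101 F469009 (iv3 D213100)
theorem F469012 : act 4 n213101 = n152798 := d9_1 D213101 F240002 F184287 (iv5 F115245) F115244 (iv5 F177191) (iv4 F239712) D213099 F469004 F239996 F184281 (iv5 F115160) F115163 (iv5 F177185) (iv4 F239718)
theorem F469013 : act 7 n213101 = n201555 := d13_2 (iv7 F239717) D213101 (iv5 D201555)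
theorem F469014 : act 0 n213101 = n213045 := d17_2 (iv1 F239716) D213101 (iv5 D213045) (iv4 D152288) F108302 (iv0 D52457) D52459 F82825 D71944
theorem F469015 : act 1 n213101 = n213042 := d17_6 D114610 F178699 F108561 (iv5 F177185) (iv4 F239718) D213101 (iv5 D213042) F239375 (iv4 D114612)
theorem F469016 : act 6 n187463 = n213101 := d21_3 (iv5 D212427) F374139 F374138 F469014 F468758 F370436 (iv1 F368190) D191410 (iv6 F391051) F465765
def n213102 : Q := act 6 n152533
theorem D213102 : act 6 n152533 = n213102 := rfl
theorem F469017 : act 2 n213102 = n192714 := d3_1 D213102 F418400 F239719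
theorem F469018 : act 4 n213102 = n201083 := d10_1 D213102 (iv6 D201083) (iv4 F239718)
theorem F469019 : act 0 n213102 = n192716 := d21_4 D213042 (iv1 F469015) (iv5 D213101) D213102 (iv6 F468721) F468723 (iv1 F412773) (iv5 F420682) F420681 (iv1 F239375)
theorem F469020 : act 0 n192710 = n213102 := d21_4 (iv5 D191953) (iv1 F153027) D100546 D192710 (iv6 D213102) D213101 F469014 (iv5 D213045) (iv6 F345131) (iv1 F384978)
theorem F469021 : act 7 n192715 = n213102 := d11_0 F469018 (iv7 F451986) F451984
def n213103 : Q := act 0 n152534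
theorem D213103 : act 0 n152534 = n213103 := rfl
theorem F469022 : act 4 n213103 = n194592 := d18_3 F464368 F419787 D213103 (iv5 D194592) F346521 F244655 (iv4 F388699) F388700 D212113
theorem F469023 : act 2 n192643 = n213103 := d15_3 (iv0 D213103) (iv0 F458271) F458270
theorem F469024 : act 1 n211167 = n213103 := d15_0 (iv0 D213103) F457867 (iv2 F460421)
theorem F469025 : act 7 n213103 = n192724 := d15_2 F460424 F469024 (iv2 F458273)
theorem F469026 : act 6 n191944 = n213103 := d21_3 (iv5 F136527) F310433 (iv5 F384936) (iv1 F469024) (iv6 D211167) (iv5 F350422) (iv1 D111448) (iv5 F171816) (iv6 F350409) (iv1 F153025)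
theorem F469027 : act 3 n213103 = n211199 := d7_1 F469026 (iv6 F460574) F384940
def n213104 : Q := act 2 n152534
theorem D213104 : act 2 n152534 = n213104 := rfl
theorem F469028 : act 4 n213104 = n196926 := d1_2 F419787 D213104 (iv2 F419786)
theorem F469029 : act 7 n213104 = n211167 := d4_2 (iv7 F457867) D213104 F460421
theorem F469030 : act 1 n213104 = n192724 := d15_0 (iv0 F457865) (iv7 F457867) D213104
theorem F469031 : act 1 n192643 = n213104 := d15_0 F469030 (iv7 F469025) (iv2 F469023)
theorem F469032 : act 5 n209786 = n213104 := d17_5 (iv1 F390872) (iv5 D193742) F346665 D136941 D209786 F469030 F387618 F454953 (iv4 D209788)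
theorem F469033 : act 6 n188079 = n213104 := d14_5 F469029 (iv6 D211167) F406012 D210522 (iv7 F457907)
def n213105 : Q := act 5 n152534
theorem D213105 : act 5 n152534 = n213105 := rfl
theorem F469034 : act 2 n213105 = n209786 := d2_1 D213105 F469032 (iv2 D213104)
theorem F469035 : act 3 n213105 = n152535 := d6_1 D213105 (iv5 D152535) D152534
theorem F469036 : act 7 n213105 = n209783 := d13_2 (iv7 F457867) D213105 (iv5 F457864)
theorem F469037 : act 4 n213105 = n209777 := d16_2 F419787 D213105 (iv5 D209777) (iv4 F346519) (iv5 D128508) D128507 (iv5 F410877) F410878 (iv2 F419786)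
theorem F469038 : act 0 n213105 = n192735 := d17_2 F458271 D213105 (iv5 D192735) D192734 (iv5 F439627) F439629 (iv5 F373295) (iv0 F373297) (iv4 F458269)
theorem F469039 : act 1 n213105 = n192732 := d17_6 D192728 (iv5 F440474) (iv1 D206372) F419788 F419787 D213105 (iv5 D192732) (iv0 D100568) (iv4 F154642)
def n213106 : Q := act 6 n152534
theorem D213106 : act 6 n152534 = n213106 := rfl
theorem F469040 : act 2 n213106 = n188079 := d3_1 D213106 F469033 (iv2 D213104)
theorem F469041 : act 3 n213106 = n152536 := d7_1 D213106 (iv6 D152536) D152534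
theorem F469042 : act 7 n213106 = n188078 := d14_2 (iv7 F457867) D213106 F372263 (iv7 F406009) D210512
theorem F469043 : act 0 n213106 = n187158 := d21_4 D192732 (iv1 F469039) (iv5 D213105) D213106 F369258 (iv5 D89615) (iv1 F74124) (iv5 D46914) D46915 D100568
theorem F469044 : act 0 n188080 = n213106 := d21_4 F454025 (iv1 F390597) (iv5 F452640) F452641 (iv6 D213106) D213105 F469038 (iv5 D192735) D192736 F454027
def n213107 : Q := act 0 n152535
theorem D213107 : act 0 n152535 = n213107 := rfl
theorem F469045 : act 5 n213107 = n152548 := d17_1 D213107 (iv1 F239732) D152559 F239747 (iv5 D72117) (iv0 D33297) D33300 D72128 (iv4 F239720)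
theorem F469046 : act 4 n213107 = n195598 := d18_1 D213107 F397533 (iv4 F419040) (iv5 D201086) (iv4 D113892) D113891 (iv4 F239712) (iv0 D152532) D152535
theorem F469047 : act 1 n152541 = n213107 := d15_0 (iv0 D213107) (iv7 F468739) F468736
theorem F469048 : act 2 n201547 = n213107 := d1_3 F469046 F397531 (iv4 F420915)
theorem F469049 : act 7 n201489 = n213107 := d11_0 F469046 F397532 (iv4 F420694)
theorem F469050 : act 3 n213107 = n203414 := d19_3 (iv1 F162636) D195598 (iv4 F469046) F458239 (iv5 D210620) F385316 F385314 (iv1 F358823) (iv5 D90783) (iv4 F293859) F136966 F292854 (iv5 F292859) (iv4 F134920) (iv3 F354185) F354179 (iv5 F107547) D150608 F237145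
theorem F469051 : act 6 n203413 = n213107 := d7_0 F469050 (iv6 D203414) D203413
def n213108 : Q := act 1 n152535
theorem D213108 : act 1 n152535 = n213108 := rfl
theorem F469052 : act 1 n213108 = n152541 := d15_1 D213108 (iv7 F428279) F428278
theorem F469053 : act 7 n213108 = n201547 := d15_2 (iv0 D213107) D213108 F469048
theorem F469054 : act 5 n213108 = n152549 := d17_7 (iv1 D33243) (iv5 D16048) D16046 D33239 D71941 D152535 D213108 F239735 (iv4 D71951)
theorem F469055 : act 4 n213108 = n203110 := d17_9 (iv1 D203110) (iv5 D117685) D117683 (iv5 F239996) (iv4 F469004) (iv5 D213099) (iv0 D152532) D152535 D213108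
theorem F469056 : act 2 n201489 = n213108 := d1_3 F469055 (iv2 F427013) (iv4 F420694)
def n213109 : Q := act 6 n152535
theorem D213109 : act 6 n152535 = n213109 := rfl
theorem F469057 : act 4 n213109 = n152870 := d10_1 D213109 (iv6 D152870) (iv4 F239720)
def n213110 : Q := act 0 n152536
theorem D213110 : act 0 n152536 = n213110 := rfl
theorem F469058 : act 4 n213110 = n201459 := d18_3 (iv1 D152537) (iv4 F239721) D213110 F420586 (iv4 D144982) (iv0 D67970) (iv4 F104081) D144977 F356611
theorem F469059 : act 6 n213110 = n191590 := d21_5 (iv5 F469054) (iv1 D213108) (iv5 D152535) D152536 D213110 (iv5 D191590) (iv1 F372249) F372247 (iv6 D152560) (iv1 F239735)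
theorem F469060 : act 2 n192713 = n213110 := d3_3 F469059 F383904 D192713
theorem F469061 : act 3 n211219 = n213110 := d7_3 F469059 (iv3 F454203) F460661
theorem F469062 : act 7 n201539 = n213110 := d14_0 F469059 F383905 (iv6 F427863) (iv7 F454171) (iv6 F454173)
def n213111 : Q := act 1 n152536
theorem D213111 : act 1 n152536 = n213111 := rfl
theorem F469063 : act 7 n213111 = n192713 := d15_2 (iv0 D213110) D213111 F469060
theorem F469064 : act 4 n213111 = n201460 := d18_7 (iv1 F178603) (iv4 F313876) F333620 F178797 F177735 (iv4 F239721) D213111 F420592 (iv5 D114788)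
theorem F469065 : act 2 n201539 = n213111 := d1_3 F469064 (iv2 F420595) D201539
def n213112 : Q := act 5 n152536
theorem D213112 : act 5 n152536 = n213112 := rfl
def n213113 : Q := act 7 n152536
theorem D213113 : act 7 n152536 = n213113 := rfl
theorem F469066 : act 3 n213113 = n188078 := d8_1 D213113 (iv7 F469042) F469041
theorem F469067 : act 4 n213113 = n152538 := d11_1 D213113 (iv7 D152538) (iv4 F239721)
theorem F469068 : act 6 n213113 = n211166 := d14_1 D213113 F460418 F457841 F239368 D152536
theorem F469069 : act 1 n201539 = n213113 := d15_1 F428277 (iv7 D213113) (iv2 F428274)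
theorem F469070 : act 1 n213113 = n192713 := d15_1 F469069 (iv7 F469063) (iv2 F469065)
def n213114 : Q := act 6 n152537
theorem D213114 : act 6 n152537 = n213114 := rfl
theorem F469071 : act 3 n213114 = n206228 := d7_1 D213114 (iv6 D206228) F372356
theorem F469072 : act 4 n213114 = n205093 := d10_1 D213114 F434950 F420896
theorem F469073 : act 1 n188064 = n213114 := d18_6 (iv1 F219576) F400777 F410661 F410657 D209555 F454115 F469072 F453551 F453547
def n213115 : Q := act 5 n152540
theorem D213115 : act 5 n152540 = n213115 := rfl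
theorem F469074 : act 3 n213115 = n152541 := d6_1 D213115 (iv5 D152541) D152540
theorem F469075 : act 1 n213115 = n192795 := d17_6 (iv1 F464187) F376138 F377353 (iv5 F465023) F465022 D213115 (iv5 D192795) F387607 (iv4 F464184)
def n213116 : Q := act 6 n152541
theorem D213116 : act 6 n152541 = n213116 := rfl
theorem F469076 : act 4 n213116 = n152868 := d10_1 D213116 (iv6 D152868) (iv4 F239724)
def n213117 : Q := act 6 n152546
theorem D213117 : act 6 n152546 = n213117 := rfl
theorem F469077 : act 2 n213117 = n170867 := d3_1 D213117 (iv6 F372144) (iv2 F239726)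
theorem F469078 : act 3 n213117 = n192742 := d7_1 D213117 (iv6 F388704) F388702
theorem F469079 : act 4 n213117 = n152547 := d10_1 D213117 (iv6 D152547) D152546
theorem F469080 : act 7 n213117 = n170870 := d14_2 (iv7 F239727) D213117 (iv6 F354717) (iv7 F139601) (iv6 F178542)
theorem F469081 : act 5 n213117 = n157855 := d21_6 F406068 (iv1 F216943) (iv5 F371653) (iv6 D187834) (iv1 F239729) D213117 (iv1 D157855) D157857 (iv6 F353303) D197871
theorem F469082 : act 0 n188000 = n213117 := d17_0 F469081 (iv1 D157855) D157857 (iv4 F375270) (iv5 D188969) F371576 F371574 F370676 D188000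
theorem F469083 : act 0 n213117 = n157891 := d21_1 (iv5 F469081) (iv5 D157891) (iv6 F297994) D163938 F459633 (iv5 F459627) (iv1 F457281) (iv5 F363354) F268403 (iv1 F248772)
def n213118 : Q := act 3 n152549
theorem D213118 : act 3 n152549 = n213118 := rfl
theorem F469084 : act 7 n213118 = n201546 := d8_2 (iv7 F239736) D213118 (iv3 D201546)
def n213119 : Q := act 6 n152551
theorem D213119 : act 6 n152551 = n213119 := rfl
theorem F469085 : act 3 n213119 = n194096 := d7_1 D213119 (iv6 F454951) F454949
theorem F469086 : act 4 n213119 = n152844 := d10_1 D213119 (iv6 D152844) (iv4 F239739)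
theorem F469087 : act 7 n213119 = n194091 := d14_2 F468759 D213119 (iv6 D194091) (iv7 F370437) (iv6 F468758)
def n213120 : Q := act 1 n152552
theorem D213120 : act 1 n152552 = n213120 := rfl
theorem F469088 : act 1 n213120 = n192739 := d15_1 D213120 (iv7 F468747) F468745
theorem F469089 : act 7 n213120 = n192741 := d15_2 F456767 D213120 (iv2 F456762)
theorem F469090 : act 2 n192740 = n213120 := d4_3 F469089 (iv2 F456762) F456764
theorem F469091 : act 3 n188224 = n213120 := d8_3 F469089 (iv3 F449310) F372730
theorem F469092 : act 4 n190515 = n213120 := d11_3 F469089 F449311 (iv7 F379972)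
def n213121 : Q := act 3 n152553
theorem D213121 : act 3 n152553 = n213121 := rfl
theorem F469093 : act 2 n213121 = n188978 := d0_1 D213121 (iv3 F428038) F350583 D201347 F439836
theorem F469094 : act 4 n213121 = n188961 := d5_2 F449287 D213121 (iv3 F449323) F406271 (iv3 F449286)
theorem F469095 : act 7 n213121 = n188977 := d8_2 (iv7 F449282) D213121 F449281
def n213122 : Q := act 5 n152553
theorem D213122 : act 5 n152553 = n213122 := rfl
theorem F469096 : act 6 n213122 = n203461 := d12_2 (iv6 F428270) D213122 F428412 (iv6 D203431) D203430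
theorem F469097 : act 0 n213122 = n207332 := d18_0 F444384 D207333 (iv4 F467896) F467897 F469092 F469088 (iv4 F468751) F468754 D213122
def n213123 : Q := act 0 n152565
theorem D213123 : act 0 n152565 = n213123 := rfl
theorem F469098 : act 5 n213123 = n200900 := d17_1 D213123 F418335 D201464 F420607 (iv5 D117685) D117684 (iv5 F240002) F240000 (iv4 F239760)
theorem F469099 : act 4 n213123 = n152833 := d18_1 D213123 (iv1 D152833) (iv4 F239747) (iv5 D152559) (iv4 D71951) F87032 D119610 F188648 D152565
theorem F469100 : act 1 n152568 = n213123 := d15_0 (iv0 D213123) (iv7 F468771) F468768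
theorem F469101 : act 2 n200920 = n213123 := d1_3 F469099 (iv2 F240056) (iv4 F418402)
theorem F469102 : act 7 n178074 = n213123 := d11_0 F469099 F240054 F364657
theorem F469103 : act 3 n213123 = n178083 := d8_1 F469102 (iv7 D178083) (iv3 F277616)
theorem F469104 : act 6 n213123 = n204450 := d14_1 F469102 (iv7 D204450) F198289 F302301 D178074
def n213124 : Q := act 1 n152565
theorem D213124 : act 1 n152565 = n213124 := rfl
theorem F469105 : act 1 n213124 = n152568 := d15_1 D213124 (iv7 F468764) F468763
theorem F469106 : act 7 n213124 = n200920 := d15_2 (iv0 D213123) D213124 F469101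
theorem F469107 : act 5 n213124 = n157399 := d17_7 (iv1 F177189) F177191 (iv1 F114657) (iv5 F178699) (iv4 F178703) D152565 D213124 F247882 (iv4 D114543)
theorem F469108 : act 4 n213124 = n152832 := d17_9 (iv1 F240050) (iv5 D72120) (iv1 D33298) D33300 D72129 (iv5 F188645) F188648 D152565 D213124
theorem F469109 : act 3 n153866 = n213124 := d19_19 (iv1 D213124) (iv5 D152565) F178703 (iv3 F178701) (iv1 D53082) (iv5 D25747) F20217 (iv3 D6501) F5602 F5599 (iv4 F12441) (iv3 F27651) F50934 D28573 D60125 (iv3 F352719) D193164 (iv5 F466377) F466376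
theorem F469110 : act 2 n213124 = n178074 := d0_1 F469109 F277616 (iv2 F304594) F198413 (iv2 F241757)
theorem F469111 : act 6 n213124 = n153818 := d7_2 D153866 F469109 F241671
def n213125 : Q := act 0 n152567
theorem D213125 : act 0 n152567 = n213125 := rfl
theorem F469112 : act 4 n213125 = n188608 := d20_8 (iv4 F373578) F467760 F467756 (iv3 F370639) (iv1 F251705) (iv3 F387255) F387256 D213125 (iv3 F374181) (iv1 D188468)
theorem F469113 : act 6 n210702 = n213125 := d10_0 F469112 (iv6 F384426) (iv4 F458492)
def n213126 : Q := act 5 n152567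
theorem D213126 : act 5 n152567 = n213126 := rfl
theorem F469114 : act 3 n213126 = n152568 := d6_1 D213126 (iv5 D152568) D152567
theorem F469115 : act 6 n185032 = n213126 := d7_0 F469114 F359593 D185032
def n213127 : Q := act 5 n152572
theorem D213127 : act 5 n152572 = n213127 := rfl
theorem F469116 : act 2 n213127 = n152573 := d2_1 D213127 (iv5 D152573) D152572
theorem F469117 : act 3 n213127 = n210542 := d6_1 D213127 F457982 F413408
theorem F469118 : act 7 n213127 = n185295 := d13_2 F386088 D213127 F386089
theorem F469119 : act 0 n213127 = n185181 := d18_0 F287521 F359646 F384919 (iv5 F358625) (iv4 F372014) F387635 F387632 F386102 D213127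
theorem F469120 : act 4 n213127 = n154448 := d19_2 (iv1 F351170) D213127 F455020 (iv1 D209807) (iv5 D136980) (iv4 F165066) (iv3 D107092) (iv1 F93300) (iv5 F202873) F335539 F235270 (iv1 F370705) F370706 (iv4 F376331) F376330 F335411 F291834 (iv4 F351160) F286560
theorem F469121 : act 0 n154587 = n213127 := d21_10 (iv5 D213127) (iv1 F386102) F386099 F358592 (iv1 D154407) F109622 D73194 (iv1 F231522) F231524 D154587
def n213128 : Q := act 6 n152573
theorem D213128 : act 6 n152573 = n213128 := rfl
theorem F469122 : act 3 n213128 = n152575 := d7_1 D213128 (iv6 D152575) (iv3 F239763)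
theorem F469123 : act 4 n213128 = n185302 := d10_1 D213128 (iv6 D185302) (iv4 F373380)
theorem F469124 : act 5 n213128 = n188843 := d12_1 D213128 F375046 F372983 F340009 D152573
def n213129 : Q := act 6 n152574
theorem D213129 : act 6 n152574 = n213129 := rfl
theorem F469125 : act 2 n213129 = n210498 := d3_1 D213129 F457800 F386096
theorem F469126 : act 3 n213129 = n152576 := d7_1 D213129 (iv6 D152576) (iv3 F239764)
theorem F469127 : act 4 n213129 = n197647 := d10_1 D213129 F405184 (iv4 F239765)
theorem F469128 : act 5 n213129 = n205090 := d12_1 D213129 F434942 (iv5 D185296) D185297 (iv5 F351163)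
theorem F469129 : act 0 n193276 = n213129 := d17_2 (iv1 F388970) D193276 F469128 (iv4 F453927) F453931 (iv0 F388605) F405200 (iv0 F407602) F407599
theorem F469130 : act 1 n193274 = n213129 := d17_6 (iv1 D108461) D108463 D197569 (iv5 F405198) (iv4 F368247) D193274 F469128 (iv0 F434943) (iv4 F359932)
def n213130 : Q := act 0 n152575
theorem D213130 : act 0 n152575 = n213130 := rfl
def n213131 : Q := act 7 n152575
theorem D213131 : act 7 n152575 = n213131 := rfl
theorem F469131 : act 6 n213131 = n209807 := d14_1 D213131 F455019 (iv6 F351167) F239550 D152575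
def n213132 : Q := act 3 n152577
theorem D213132 : act 3 n152577 = n213132 := rfl
theorem F469132 : act 2 n213132 = n212607 := d0_1 D213132 (iv3 D212607) F466596 (iv3 F466597) F428983
theorem F469133 : act 5 n189568 = n213132 := d2_0 F469132 F466663 F447501
def n213133 : Q := act 5 n152577
theorem D213133 : act 5 n152577 = n213133 := rfl
theorem F469134 : act 3 n213133 = n189568 := d6_1 D213133 F469133 (iv3 D213132)
theorem F469135 : act 6 n213133 = n208027 := d12_2 F444524 D213133 F447514 F214059 (iv5 F444523)
theorem F469136 : act 7 n213133 = n208034 := d13_2 F428985 D213133 F447539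
theorem F469137 : act 4 n213133 = n211862 := d17_4 (iv1 D200285) F175880 D152577 D213133 F463308 F461859 F461858 F461759 F461757
def n213134 : Q := act 0 n152589
theorem D213134 : act 0 n152589 = n213134 := rfl
theorem F469138 : act 4 n213134 = n152628 := d18_3 (iv1 D152588) D152589 D213134 (iv5 F303121) (iv4 F305191) F130568 D85290 (iv0 F307032) F307033
theorem F469139 : act 2 n157875 = n213134 := d15_3 (iv0 D213134) (iv0 F322713) (iv7 F366912)
theorem F469140 : act 1 n203894 = n213134 := d15_0 (iv0 D213134) (iv7 F407748) (iv2 F430283)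
theorem F469141 : act 7 n213134 = n203891 := d15_2 D203894 F469140 F430264
theorem F469142 : act 6 n157873 = n213134 := d21_3 (iv5 F327615) D188264 F372889 (iv1 F469140) (iv6 F430282) (iv5 F459474) (iv1 D210956) F341307 F126411 F327609
theorem F469143 : act 3 n213134 = n195893 := d7_1 F469142 (iv6 F398625) F280709
def n213135 : Q := act 5 n152589
theorem D213135 : act 5 n152589 = n213135 := rfl
theorem F469144 : act 2 n213135 = n156795 := d2_1 D213135 (iv5 F338230) F259398
theorem F469145 : act 3 n213135 = n156137 := d6_1 D213135 F332215 F361364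
theorem F469146 : act 4 n213135 = n199115 := d9_1 D213135 F410738 F259424 F120256 (iv4 F120222) (iv5 F259400) (iv4 F430279) F430280 (iv4 F338228) F329017 F104919 F50333 (iv4 F52486) D71964 D152589
theorem F469147 : act 6 n213135 = n195919 := d12_2 F412393 D213135 F398732 D210167 (iv5 F456438)
theorem F469148 : act 7 n213135 = n210458 := d13_2 F407748 D213135 F457625
theorem F469149 : act 0 n213135 = n195883 := d17_2 F322713 D213135 F412032 F412029 (iv5 D152592) F155402 D72003 F322703 (iv4 F193384)
theorem F469150 : act 1 n213135 = n198173 := d17_6 (iv1 F389732) (iv5 D152585) (iv1 D71963) D71964 D152589 D213135 (iv5 D198173) D198172 F407097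
def n213136 : Q := act 4 n152608
theorem D213136 : act 4 n152608 = n213136 := rfl
theorem F469151 : act 3 n213136 = n197275 := d5_1 D213136 F403812 (iv3 F415915) F415916 F403017
theorem F469152 : act 6 n213136 = n197274 := d10_2 (iv6 F403014) D213136 F403804
theorem F469153 : act 7 n213136 = n195560 := d11_2 F259317 D213136 F397350
theorem F469154 : act 5 n213136 = n211268 := d16_1 D213136 F460874 F455894 F385341 F383614 F236154 D152605 (iv7 F259323) F259322
def n213137 : Q := act 4 n152611
theorem D213137 : act 4 n152611 = n213137 := rfl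
theorem F469155 : act 2 n213137 = n193420 := d1_1 D213137 F389787 F366369
theorem F469156 : act 7 n213137 = n193407 := d11_2 (iv7 F366368) D213137 (iv4 D193407)
theorem F469157 : act 0 n213137 = n193417 := d18_2 F321171 D213137 F389784 (iv5 D118487) (iv4 F107082) F232735 (iv4 F130974) F120202 (iv5 F321174)
theorem F469158 : act 1 n213137 = n193416 := d18_6 (iv1 F305109) (iv4 F350948) F350946 (iv4 F312017) F312018 D213137 F389782 F332043 (iv5 D155057)
theorem F469159 : act 3 n213137 = n211270 := d19_3 (iv1 F156537) F312018 D213137 (iv1 D211270) (iv5 D141360) F102222 F49407 (iv1 F100815) (iv5 F313743) (iv4 F208023) D63672 (iv1 F313734) (iv5 F306121) F187418 F106302 (iv1 F51860) D70631 (iv4 F344064) (iv3 D101611)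
def n213138 : Q := act 6 n152611
theorem D213138 : act 6 n152611 = n213138 := rfl
theorem F469160 : act 2 n213138 = n193421 := d3_1 D213138 (iv6 D193421) F366369
theorem F469161 : act 3 n213138 = n197121 := d7_1 D213138 (iv6 F428570) F428566
theorem F469162 : act 5 n213138 = n188110 := d12_1 D213138 F372346 (iv5 D152213) (iv6 F312019) F312018
def n213139 : Q := act 1 n152612
theorem D213139 : act 1 n152612 = n213139 := rfl
theorem F469163 : act 1 n213139 = n193414 := d15_1 D213139 F389780 F259329
theorem F469164 : act 4 n213139 = n152632 := d17_9 (iv1 D152632) (iv5 D72007) (iv1 F155522) D120231 D203677 F429380 (iv0 F397232) F358057 D213139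
theorem F469165 : act 3 n198855 = n213139 := d19_19 (iv1 D213139) (iv5 F358057) F221044 F220540 (iv1 F345844) (iv5 D47294) D47293 (iv3 F324289) (iv1 F271505) (iv5 F409899) F409898 F378083 F169685 (iv5 D109544) (iv4 F80295) F80294 D50898 D110380 D198855
theorem F469166 : act 2 n213139 = n203641 := d0_1 F469165 F429203 (iv2 F463870) F463871 (iv2 F409590)
def n213140 : Q := act 3 n152612
theorem D213140 : act 3 n152612 = n213140 := rfl
theorem F469167 : act 5 n213140 = n210173 := d6_2 F358057 D213140 F456462
theorem F469168 : act 6 n213140 = n195509 := d7_2 (iv6 F397045) D213140 (iv3 F438768)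
def n213141 : Q := act 7 n152612
theorem D213141 : act 7 n152612 = n213141 := rfl
theorem F469169 : act 2 n213141 = n193414 := d4_1 D213141 F389780 F259329
theorem F469170 : act 4 n213141 = n152613 := d11_1 D213141 (iv7 D152613) D152612
theorem F469171 : act 5 n213141 = n205927 := d13_1 D213141 F438457 F358057
theorem F469172 : act 1 n203641 = n213141 := d15_1 (iv0 F429205) (iv7 D213141) (iv2 F259329)
def n213142 : Q := act 6 n152613
theorem D213142 : act 6 n152613 = n213142 := rfl
theorem F469173 : act 2 n213142 = n193415 := d3_1 D213142 (iv6 D193415) F321172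
theorem F469174 : act 3 n213142 = n162950 := d7_1 D213142 (iv6 F460396) (iv3 F460400)
theorem F469175 : act 5 n213142 = n162948 := d12_1 D213142 (iv6 F363107) F259400 F120223 (iv5 F239810)
theorem F469176 : act 7 n213142 = n206330 := d14_2 D152613 D213142 (iv6 D206330) F364910 F239796
theorem F469177 : act 0 n213142 = n177632 := d21_4 (iv5 D164521) (iv1 F120201) (iv5 F239810) D213142 F345847 F362158 F360532 F389759 (iv6 D193410) (iv1 F362743)
def n213143 : Q := act 4 n152626
theorem D213143 : act 4 n152626 = n213143 := rfl
theorem F469178 : act 2 n213143 = n174265 := d1_1 D213143 F337362 F271507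
theorem F469179 : act 3 n213143 = n205132 := d5_1 D213143 (iv4 D205132) F201860 F333003 (iv3 F239836)
theorem F469180 : act 6 n213143 = n174261 := d10_2 F308692 D213143 (iv4 F354480)
theorem F469181 : act 7 n213143 = n203870 := d11_2 F445008 D213143 F445012
theorem F469182 : act 5 n213143 = n207981 := d16_1 D213143 (iv4 D207981) (iv5 D132936) F207234 D134525 F216503 (iv5 F447278) F447277 F271507
theorem F469183 : act 0 n213143 = n176714 := d17_0 (iv5 F382668) (iv1 F447268) F447264 (iv4 F436510) F436509 F213584 D133004 (iv0 F366490) D213143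
theorem F469184 : act 1 n213143 = n203867 := d18_6 (iv1 F97300) (iv4 F98492) (iv1 F316282) (iv4 F108489) D152626 D213143 F430175 F334269 (iv5 D133025)
def n213144 : Q := act 5 n152662
theorem D213144 : act 5 n152662 = n213144 := rfl
theorem F469185 : act 2 n213144 = n152663 := d2_1 D213144 (iv5 D152663) D152662
theorem F469186 : act 3 n213144 = n172263 := d6_1 D213144 (iv5 D172263) (iv3 F344385)
theorem F469187 : act 7 n213144 = n204875 := d13_2 (iv7 F344391) D213144 F433973
theorem F469188 : act 1 n213144 = n206803 := d17_6 (iv1 F275785) (iv5 F303730) F303728 (iv5 D158323) (iv4 F239874) D213144 F442252 (iv0 F434478) F434474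
theorem F469189 : act 6 n213144 = n154348 := d21_3 F320708 (iv1 F344396) D213144 (iv1 F438829) (iv6 D206011) (iv5 F333070) (iv1 D135993) (iv5 F203843) (iv6 F347128) F347125
def n213145 : Q := act 1 n152663
theorem D213145 : act 1 n152663 = n213145 := rfl
theorem F469190 : act 1 n213145 = n204875 := d15_1 D213145 (iv7 F469187) F469185
theorem F469191 : act 3 n191815 = n213145 := d19_19 (iv1 D213145) (iv5 D152663) (iv4 F187617) (iv3 D119227) F320088 (iv5 D86104) F304549 (iv3 D79779) F57074 (iv5 F57151) F313164 (iv3 F205350) (iv1 F205371) (iv5 D68450) (iv4 F313959) (iv3 F161602) F357303 D106356 (iv4 F384529)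
theorem F469192 : act 5 n191812 = n213145 := d21_0 (iv1 D213145) (iv5 D152663) D152664 (iv1 F362958) (iv6 D174419) (iv5 F332021) F242200 F242195 (iv6 F347493) (iv1 F384519)
theorem F469193 : act 6 n206801 = n213145 := d21_9 (iv5 D152663) D152660 (iv5 F354037) (iv6 D129875) (iv1 F315352) D206326 F440261 (iv1 F430612) (iv5 F442243) (iv1 D213145)
theorem F469194 : act 2 n213145 = n206803 := d3_1 F469193 (iv6 D206803) D206801
theorem F469195 : act 4 n213145 = n195856 := d10_1 F469193 F441396 (iv4 F442246)
def n213146 : Q := act 4 n152663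
theorem D213146 : act 4 n152663 = n213146 := rfl
theorem F469196 : act 3 n213146 = n191618 := d5_1 D213146 F384024 (iv3 F421421) (iv4 D152669) (iv3 F239875)
theorem F469197 : act 6 n213146 = n204887 := d10_2 F440195 D213146 F440199
theorem F469198 : act 7 n213146 = n204888 := d11_2 F468784 D213146 (iv4 F468785)
theorem F469199 : act 5 n213146 = n206632 := d16_1 D213146 F441672 F395398 (iv4 F354043) F275818 (iv4 F344389) (iv5 F433973) (iv7 F469187) F469185
theorem F469200 : act 0 n213146 = n206512 := d18_2 (iv1 D213145) D213146 F441146 F307466 F129157 D84157 (iv4 F243933) (iv0 F384518) F469192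
def n213147 : Q := act 1 n152703
theorem D213147 : act 1 n152703 = n213147 := rfl
theorem F469201 : act 7 n213147 = n166756 := d15_2 F464200 D213147 (iv2 F464196)
theorem F469202 : act 5 n213147 = n207412 := d17_7 (iv1 F210393) (iv5 F210607) (iv1 F210610) (iv5 F210746) F324173 D152703 D213147 F444773 (iv4 D133751)
theorem F469203 : act 3 n152705 = n213147 := d19_19 (iv1 D213147) (iv5 D152703) (iv4 F324173) F324172 F305295 F314931 F105963 (iv3 F105959) (iv1 F278368) F332492 (iv4 F314823) F128832 (iv1 F59433) D47353 D101924 F354882 D136973 D209798 F454992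
theorem F469204 : act 6 n200059 = n213147 := d21_3 D132993 (iv1 F351654) D200059 (iv1 D213147) F371525 F371527 F443222 (iv5 D207079) F351692 (iv1 D132992)
theorem F469205 : act 2 n213147 = n200089 := d3_1 F469204 (iv6 D200089) (iv2 F414834)
def n213148 : Q := act 4 n152703
theorem D213148 : act 4 n152703 = n213148 := rfl
theorem F469206 : act 6 n213148 = n206941 := d10_2 (iv6 F371525) D213148 F442672
theorem F469207 : act 0 n213148 = n206753 := d18_2 (iv1 D213147) D213148 F442058 (iv5 F350895) F210551 (iv0 F318798) F344087 F444772 (iv5 F469202)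
theorem F469208 : act 1 n213148 = n206806 := d18_6 (iv1 F340787) (iv4 F333596) (iv1 F350899) F324173 D152703 D213148 F442255 F350909 (iv5 D167342)
def n213149 : Q := act 3 n152707
theorem D213149 : act 3 n152707 = n213149 := rfl
theorem F469209 : act 2 n213149 = n191610 := d0_1 D213149 F384041 F378154 (iv3 F456422) F456421
theorem F469210 : act 6 n213149 = n209698 := d7_2 (iv6 F371529) D213149 (iv3 D209698)
theorem F469211 : act 7 n213149 = n191611 := d8_2 F431866 D213149 (iv3 F456187)
theorem F469212 : act 0 n213149 = n191612 := d20_4 (iv4 F347057) (iv1 D152706) D152707 D213149 F383963 (iv4 F383978) (iv1 F383979) (iv4 D190565) D190564 F421420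
def n213150 : Q := act 5 n152712
theorem D213150 : act 5 n152712 = n213150 := rfl
theorem F469213 : act 2 n213150 = n202279 := d2_1 D213150 (iv5 D202279) F318567
theorem F469214 : act 3 n213150 = n193879 := d6_1 D213150 (iv5 D193879) (iv3 F356220)
theorem F469215 : act 4 n213150 = n185345 := d9_1 D213150 (iv5 F444347) F444346 F305442 F200765 (iv5 F318401) (iv4 F102613) D142325 F453041 (iv5 F456530) F456529 F239880 F200743 F199881 D152712
theorem F469216 : act 7 n213150 = n202348 := d13_2 (iv7 F348348) D213150 (iv5 D202348)
theorem F469217 : act 0 n213150 = n209218 := d17_2 (iv1 F348374) D213150 F452757 F239482 F185771 (iv0 F280213) (iv5 F425319) F425320 (iv4 F348367)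
theorem F469218 : act 1 n213150 = n209801 := d17_6 (iv1 F108322) (iv5 F108323) (iv1 F199880) F199881 D152712 D213150 F455002 F239485 F108544
theorem F469219 : act 6 n213150 = n185343 := d21_3 F348366 (iv1 F348374) D213150 F287599 D193782 F391003 (iv1 D152874) (iv5 F239977) (iv6 D152768) D152765
def n213151 : Q := act 6 n152712
theorem D213151 : act 6 n152712 = n213151 := rfl
theorem F469220 : act 2 n213151 = n202280 := d3_1 D213151 (iv6 D202280) F318567
theorem F469221 : act 3 n213151 = n193880 := d7_1 D213151 (iv6 D193880) (iv3 F356220)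
theorem F469222 : act 4 n213151 = n152713 := d10_1 D213151 (iv6 D152713) D152712
theorem F469223 : act 5 n213151 = n199916 := d12_1 D213151 F414135 F357607 (iv6 F469219) (iv5 D213150)
theorem F469224 : act 7 n213151 = n202868 := d14_2 (iv7 F348348) D213151 (iv6 F426972) F426973 F348347
theorem F469225 : act 0 n213151 = n197977 := d21_4 (iv5 F455002) (iv1 F469218) (iv5 D213150) D213151 F406359 F359985 D115685 F359989 (iv6 D152770) (iv1 F239485)
theorem F469226 : act 0 n202181 = n213151 := d21_4 D201999 F459134 F459133 (iv6 F429053) (iv6 D213151) D213150 F469217 F452757 (iv6 F422675) (iv1 D201998)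
def n213152 : Q := act 3 n152715
theorem D213152 : act 3 n152715 = n213152 := rfl
theorem F469227 : act 2 n213152 = n202254 := d0_1 D213152 (iv3 D202254) (iv2 F423388) F423386 (iv2 F366200)
theorem F469228 : act 4 n213152 = n199027 := d5_2 F264608 D213152 F410380 F361411 D167920
theorem F469229 : act 6 n213152 = n202176 := d7_2 F414470 D213152 (iv3 D202176)
theorem F469230 : act 7 n213152 = n202731 := d8_2 F366198 D213152 (iv3 D202731)
theorem F469231 : act 0 n213152 = n193868 := d20_4 (iv4 F180008) F319615 F264608 D213152 (iv3 D193868) (iv4 D102438) (iv1 F153741) D192200 F385968 (iv1 D115646)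
theorem F469232 : act 0 n202227 = n213152 := d20_4 (iv4 D193948) (iv1 F353167) (iv4 F440590) F440589 (iv3 D213152) (iv4 F264608) (iv1 F467123) F467124 F423453 F391491
def n213153 : Q := act 5 n152717
theorem D213153 : act 5 n152717 = n213153 := rfl
theorem F469233 : act 2 n213153 = n202269 := d2_1 D213153 F423430 (iv2 F336259)
theorem F469234 : act 3 n213153 = n152718 := d6_1 D213153 (iv5 D152718) D152717
theorem F469235 : act 4 n213153 = n203009 := d9_1 D213153 (iv5 D203009) (iv4 D117519) D117520 (iv4 F416629) (iv5 D200478) F176330 D115514 D202268 F423427 (iv4 D117522) (iv5 F85473) (iv4 F315086) (iv5 F326828) (iv4 F336260)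
theorem F469236 : act 7 n213153 = n201910 := d13_2 F336258 D213153 (iv5 D201910)
theorem F469237 : act 0 n213153 = n202267 := d17_2 F336265 D213153 F428848 (iv4 D203551) F188304 F233267 F187779 F187778 (iv4 F336266)
theorem F469238 : act 1 n213153 = n202266 := d17_6 (iv1 F188549) (iv5 F317292) (iv1 D132475) (iv5 F326828) (iv4 F336260) D213153 (iv5 F428852) F428854 (iv4 D119598)
def n213154 : Q := act 0 n152718
theorem D213154 : act 0 n152718 = n213154 := rfl
theorem F469239 : act 5 n213154 = n152740 := d17_1 D213154 (iv1 F239939) D152748 (iv4 F449554) (iv5 D208482) (iv0 D134401) D134403 D208484 F449566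
theorem F469240 : act 4 n213154 = n208526 := d18_3 (iv1 F449562) F449566 D213154 (iv5 D208526) (iv4 F347085) (iv0 D126802) F93931 D64882 D138077
theorem F469241 : act 1 n152738 = n213154 := d15_0 (iv0 D213154) (iv7 F468791) F468787
theorem F469242 : act 2 n202733 = n213154 := d1_3 F469240 F449735 (iv4 F431869)
theorem F469243 : act 6 n202267 = n213154 := d10_0 F469240 F449736 F428928
theorem F469244 : act 7 n202734 = n213154 := d11_0 F469240 F449737 (iv4 F425326)
def n213155 : Q := act 1 n152718
theorem D213155 : act 1 n152718 = n213155 := rfl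
theorem F469245 : act 1 n213155 = n152738 := d15_1 D213155 (iv7 F366274) F366276
theorem F469246 : act 7 n213155 = n202733 := d15_2 (iv0 D213154) D213155 F469242
theorem F469247 : act 5 n213155 = n152741 := d17_7 (iv1 D33281) (iv5 D16066) D16064 D33273 D72050 D152718 D213155 F239940 (iv4 D72080)
theorem F469248 : act 4 n213155 = n209216 := d17_9 F452749 F423714 F421420 F220749 D209800 F454995 (iv0 D152715) D152718 D213155
theorem F469249 : act 2 n202734 = n213155 := d1_3 F469248 F452746 (iv4 F425326)
theorem F469250 : act 3 n213155 = n202260 := d19_3 (iv1 F218747) D209216 (iv4 F469248) (iv1 D202260) (iv5 D115510) (iv4 F163680) F163679 D106427 D195915 F398715 F359296 (iv1 D159465) (iv5 D76278) (iv4 F177788) D48760 D105449 (iv5 F334806) F354877 F220114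
def n213156 : Q := act 4 n152730
theorem D213156 : act 4 n152730 = n213156 := rfl
theorem F469251 : act 2 n213156 = n207561 := d1_1 D213156 F445452 (iv2 F442284)
theorem F469252 : act 3 n213156 = n180360 := d5_1 D213156 (iv4 F369419) F397635 (iv4 D152732) (iv3 F239935)
theorem F469253 : act 6 n213156 = n207764 := d10_2 F366859 D213156 (iv4 D207764)
theorem F469254 : act 7 n213156 = n205552 := d11_2 (iv7 F442110) D213156 (iv4 F442107)
theorem F469255 : act 5 n213156 = n196085 := d16_1 D213156 (iv4 F434009) (iv5 D204883) (iv4 F299822) (iv5 F318580) (iv4 F305918) (iv5 F446487) F446486 (iv2 F442284)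
theorem F469256 : act 1 n213156 = n195856 := d18_6 F344386 (iv4 F249087) F353879 F205989 D152730 D213156 (iv4 F469195) F469190 F433973
def n213157 : Q := act 5 n152731
theorem D213157 : act 5 n152731 = n213157 := rfl
theorem F469257 : act 2 n213157 = n174314 := d2_1 D213157 (iv5 F443430) F443429
theorem F469258 : act 3 n213157 = n152736 := d6_1 D213157 (iv5 D152736) (iv3 F239936)
theorem F469259 : act 6 n213157 = n207765 := d12_2 D152731 D213157 (iv5 D207765) F366859 (iv5 D152730)
theorem F469260 : act 7 n213157 = n174313 := d13_2 F466838 D213157 (iv5 F466836)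
theorem F469261 : act 0 n213157 = n174298 := d17_2 F262848 D213157 (iv5 D174298) F128415 D83364 D174398 (iv5 F273265) (iv0 F347334) F263844
theorem F469262 : act 1 n213157 = n174316 := d17_6 (iv1 F317290) (iv5 F354055) F440291 F440286 F439951 D213157 F273111 (iv0 F303173) F303175
theorem F469263 : act 4 n208371 = n213157 := d18_7 (iv1 F303172) (iv4 F206407) F343388 F271883 (iv5 F449108) F449107 D208371 F469262 F273111
def n213158 : Q := act 0 n152737
theorem D213158 : act 0 n152737 = n213158 := rfl
theorem F469264 : act 3 n213158 = n193887 := d20_5 (iv4 D152712) (iv1 F108523) D72067 D152737 D213158 (iv4 F439040) (iv1 F439042) (iv4 F423653) F423652 (iv1 F348374)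
theorem F469265 : act 4 n213158 = n178161 := d20_8 (iv4 F453163) (iv1 F453166) F390440 (iv3 D142138) D142136 D211454 F461605 D213158 (iv3 F360082) (iv1 F424717)
theorem F469266 : act 6 n213158 = n177951 := d21_5 F400943 (iv1 F165170) D115502 (iv6 F336253) D213158 (iv5 D177951) (iv1 F277492) F400961 (iv6 D196522) D196519
theorem F469267 : act 2 n201911 = n213158 := d15_3 (iv0 D213158) (iv0 F366261) (iv7 F422332)
theorem F469268 : act 1 n202197 = n213158 := d15_0 (iv0 D213158) (iv7 F366273) (iv2 F423207)
theorem F469269 : act 7 n213158 = n202252 := d15_2 F423210 F469268 (iv2 F423407)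
def n213159 : Q := act 5 n152737
theorem D213159 : act 5 n152737 = n213159 := rfl
theorem F469270 : act 2 n213159 = n202253 := d2_1 D213159 (iv5 D202253) F336254
theorem F469271 : act 3 n213159 = n152738 := d6_1 D213159 (iv5 D152738) D152737
theorem F469272 : act 6 n213159 = n202247 := d12_2 (iv6 F336253) D213159 (iv5 D202247) (iv6 D115503) D115502
theorem F469273 : act 7 n213159 = n193893 := d13_2 F366273 D213159 F391310
theorem F469274 : act 0 n192961 = n213159 := d19_0 (iv5 D213159) (iv4 F461605) (iv3 D211454) (iv1 F225169) D142158 (iv4 F360806) (iv3 D89851) D89849 F340364 (iv4 F340363) (iv3 F150261) (iv1 F160466) (iv5 D104756) (iv4 F292393) F292392 (iv1 D47069) D47070 D101034 D192961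
def n213160 : Q := act 6 n152738
theorem D213160 : act 6 n152738 = n213160 := rfl
theorem F469275 : act 2 n213160 = n201907 := d3_1 D213160 (iv6 F468790) F468787
theorem F469276 : act 3 n213160 = n202247 := d7_1 D213160 (iv6 F469272) F469271
theorem F469277 : act 5 n213160 = n201905 := d12_1 D213160 (iv6 D201905) (iv5 F336244) (iv6 D152739) D152738
def n213161 : Q := act 3 n152740
theorem D213161 : act 3 n152740 = n213161 := rfl
theorem F469278 : act 4 n213161 = n210359 := d5_2 F315876 D213161 (iv3 D210359) (iv4 D138410) D138409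
def n213162 : Q := act 6 n152740
theorem D213162 : act 6 n152740 = n213162 := rfl
theorem F469279 : act 2 n213162 = n202165 := d3_1 D213162 (iv6 F456286) (iv2 F456288)
theorem F469280 : act 4 n213162 = n210358 := d10_1 D213162 (iv6 D210358) F315876
theorem F469281 : act 5 n213162 = n198878 := d12_1 D213162 (iv6 F428845) (iv5 F428848) F469243 F469239
theorem F469282 : act 7 n213162 = n152790 := d14_2 F397528 D213162 (iv6 D152790) F162637 (iv6 F397527)
theorem F469283 : act 0 n152880 = n213162 := d21_4 F360639 (iv1 D115232) (iv5 F170805) F360853 (iv6 D213162) (iv5 F469239) (iv1 F469241) (iv5 D152738) D152739 (iv1 F336252)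
theorem F469284 : act 1 n152883 = n213162 := d15_0 (iv0 F469283) F366494 (iv2 F366772)
def n213163 : Q := act 1 n152744
theorem D213163 : act 1 n152744 = n213163 := rfl
theorem F469285 : act 1 n213163 = n178651 := d15_1 D213163 (iv7 F424199) F424197
theorem F469286 : act 7 n213163 = n210841 := d15_2 (iv0 F341137) D213163 F458968
theorem F469287 : act 4 n213163 = n210844 := d18_7 (iv1 F361519) F197932 D123509 F348254 F209428 (iv4 F239943) D213163 F458992 (iv5 F363475)
theorem F469288 : act 2 n210846 = n213163 := d1_3 F469287 F458987 (iv4 F458993)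
theorem F469289 : act 6 n202055 = n213163 := d10_0 F469287 F458990 F422813
def n213164 : Q := act 5 n152744
theorem D213164 : act 5 n152744 = n213164 := rfl
theorem F469290 : act 3 n213164 = n212435 := d6_1 D213164 F465788 F428907
theorem F469291 : act 6 n213164 = n210886 := d12_2 D152744 D213164 F459149 F438162 F364903
theorem F469292 : act 0 n213164 = n203609 := d17_2 (iv1 D213163) D213164 (iv5 D203609) F403387 (iv5 D197171) D197170 F403379 F458991 (iv4 F469287)
theorem F469293 : act 4 n210887 = n213164 := d10_3 F469291 (iv4 D210886) D210887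
def n213165 : Q := act 5 n152747
theorem D213165 : act 5 n152747 = n213165 := rfl
theorem F469294 : act 3 n213165 = n152748 := d6_1 D213165 (iv5 D152748) D152747
def n213166 : Q := act 6 n152748
theorem D213166 : act 6 n152748 = n213166 := rfl
def n213167 : Q := act 0 n152768
theorem D213167 : act 0 n152768 = n213167 := rfl
theorem F469295 : act 3 n213167 = n202104 := d20_5 F454096 (iv1 F219672) D202501 (iv3 F424296) D213167 F422878 (iv1 F219635) (iv4 F423447) F423446 (iv1 F454098)
theorem F469296 : act 5 n202103 = n213167 := d6_0 F469295 (iv5 D202104) D202103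
theorem F469297 : act 7 n209493 = n213167 := d8_0 F469295 (iv7 F422886) D209493
def n213168 : Q := act 1 n152768
theorem D213168 : act 1 n152768 = n213168 := rfl
theorem F469298 : act 6 n202104 = n213168 := d21_3 F422879 (iv1 D202102) D202104 (iv1 D213168) (iv6 D152768) (iv5 D72086) D72083 (iv5 F363881) F220126 D137002
theorem F469299 : act 2 n213168 = n209493 := d3_1 F469298 F455031 F455024
theorem F469300 : act 4 n213168 = n209494 := d10_1 F469298 (iv6 D209494) (iv4 F422878)
def n213169 : Q := act 0 n152773
theorem D213169 : act 0 n152773 = n213169 := rfl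
theorem F469301 : act 3 n213169 = n155510 := d20_5 (iv4 D114806) (iv1 F83701) D72090 D152773 D213169 (iv4 F370618) (iv1 F376457) (iv4 F372331) (iv3 F372332) F187308
theorem F469302 : act 6 n213169 = n155507 := d21_5 (iv5 D202565) (iv1 F180625) D116016 (iv6 F363776) D213169 (iv5 D155507) D155504 (iv5 F425029) (iv6 D202674) (iv1 F424535)
theorem F469303 : act 1 n210834 = n213169 := d15_0 (iv0 D213169) (iv7 F420605) (iv2 F458951)
theorem F469304 : act 7 n210832 = n213169 := d14_0 F469302 (iv7 F366587) F384384 (iv7 F444375) F458946
theorem F469305 : act 2 n213169 = n210831 := d15_3 (iv0 D210831) D210832 F469304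
def n213170 : Q := act 1 n152773
theorem D213170 : act 1 n152773 = n213170 := rfl
theorem F469306 : act 1 n213170 = n210834 := d15_1 D213170 (iv7 D210834) F363778
theorem F469307 : act 7 n213170 = n210831 := d15_2 (iv0 D213169) D213170 (iv2 F469305)
theorem F469308 : act 3 n192766 = n213170 := d20_3 F458241 F454166 (iv4 F454167) (iv1 D213170) (iv3 D152773) (iv4 D72090) (iv1 F83702) D114808 D201559 (iv1 F458243)
theorem F469309 : act 6 n191761 = n213170 := d21_3 F459114 (iv1 F448326) F448323 (iv1 D213170) F363776 (iv5 D116016) (iv1 F180620) D202566 (iv6 F432778) F459116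
theorem F469310 : act 2 n213170 = n210832 := d3_1 F469309 (iv6 F458946) F444372
theorem F469311 : act 4 n213170 = n191762 := d10_1 F469309 (iv6 D191762) D191761
theorem F469312 : act 5 n213170 = n194117 := d12_1 F469309 (iv6 D194117) (iv5 F348236) (iv6 F448324) F448323
def n213171 : Q := act 3 n152778
theorem D213171 : act 3 n152778 = n213171 := rfl
theorem F469313 : act 2 n213171 = n156157 := d0_1 D213171 (iv3 D156157) F172052 D137037 F366403
theorem F469314 : act 6 n213171 = n202219 := d7_2 (iv6 F366404) D213171 F423284
theorem F469315 : act 7 n213171 = n209864 := d8_2 F428252 D213171 F455188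
theorem F469316 : act 4 n213171 = n194617 := d20_6 (iv4 D55039) (iv1 F42602) D33286 D72092 D152778 D213171 F393842 (iv4 F416016) F416015 (iv1 D119619)
theorem F469317 : act 0 n194234 = n213171 := d18_2 F363042 D194234 F469316 F393841 (iv4 F382658) (iv0 F428528) F428527 (iv0 D184128) (iv5 F292221)
theorem F469318 : act 1 n194230 = n213171 := d18_6 (iv1 F176037) F147980 F176026 (iv4 D103022) D103023 D194230 F469316 F393843 (iv5 D194441)
def n213172 : Q := act 4 n152778
theorem D213172 : act 4 n152778 = n213172 := rfl
theorem F469319 : act 2 n213172 = n197642 := d1_1 D213172 F405155 F366403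
theorem F469320 : act 3 n213172 = n194342 := d5_1 D213172 F392882 D194617 (iv4 F469316) (iv3 D213171)
theorem F469321 : act 6 n213172 = n202249 := d10_2 (iv6 F366404) D213172 (iv4 D202249)
theorem F469322 : act 7 n213172 = n198055 := d11_2 F428252 D213172 (iv4 F428249)
theorem F469323 : act 5 n213172 = n199723 := d18_4 F412545 F230545 D152778 D213172 F413250 F224277 F412537 (iv0 D199528) D199530
theorem F469324 : act 0 n178169 = n213172 := d20_10 (iv4 D213172) (iv1 F428258) F428255 F240476 (iv1 F231736) (iv3 F457533) F457534 F419792 (iv4 F419845) F419842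
theorem F469325 : act 1 n208581 = n213172 := d15_0 (iv0 F469324) (iv7 F413578) (iv2 F449991)
def n213173 : Q := act 5 n152778
theorem D213173 : act 5 n152778 = n213173 := rfl
theorem F469326 : act 2 n213173 = n202098 := d2_1 D213173 F422873 F366403
theorem F469327 : act 1 n213173 = n213055 := d17_6 D202468 F424130 (iv1 F413260) (iv5 F469323) (iv4 D213172) D213173 (iv5 D213055) (iv0 F400992) F400989
def n213174 : Q := act 5 n152779
theorem D213174 : act 5 n152779 = n213174 := rfl
theorem F469328 : act 3 n213174 = n156155 := d6_1 D213174 (iv5 D156155) (iv3 F366400)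
theorem F469329 : act 7 n213174 = n202098 := d13_2 (iv7 F366402) D213174 F422873
theorem F469330 : act 0 n213174 = n213055 := d17_2 (iv1 F428259) D213174 (iv5 D213055) (iv4 F241495) (iv5 F412534) (iv0 D199528) D199530 F412550 (iv4 F428255)
def n213175 : Q := act 5 n152780
theorem D213175 : act 5 n152780 = n213175 := rfl
theorem F469331 : act 2 n213175 = n152781 := d2_1 D213175 (iv5 D152781) D152780
theorem F469332 : act 0 n213175 = n209876 := d17_2 (iv1 F428251) D213175 F455234 F400989 (iv5 F413412) (iv0 D199768) D199770 (iv0 F413420) (iv4 F428249)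
def n213176 : Q := act 6 n152780
theorem D213176 : act 6 n152780 = n213176 := rfl
theorem F469333 : act 2 n213176 = n152782 := d3_1 D213176 (iv6 D152782) D152780
theorem F469334 : act 4 n213176 = n204062 := d10_1 D213176 (iv6 F465886) F465885
theorem F469335 : act 7 n213176 = n204599 := d14_2 F428257 D213176 (iv6 F432983) F246664 (iv6 F428256)
theorem F469336 : act 5 n177963 = n213176 := d21_2 (iv5 D177978) (iv1 F277515) (iv6 D213176) F350661 F365193 (iv5 D115396) (iv1 F164994) D196517 F433021 F433019
theorem F469337 : act 0 n213176 = n156122 := d17_2 (iv1 F277515) F469336 F360088 (iv4 D84702) (iv5 D39122) (iv0 D18572) D18574 D39130 D84720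
theorem F469338 : act 1 n213176 = n177951 := d17_6 (iv1 F196272) (iv5 D57778) F299208 D86510 (iv4 F277516) F469336 (iv5 D177951) F277491 (iv4 F302309)
def n213177 : Q := act 0 n152781
theorem D213177 : act 0 n152781 = n213177 := rfl
theorem F469339 : act 2 n209876 = n213177 := d15_3 (iv0 D213177) (iv0 F424166) (iv7 F455235)
theorem F469340 : act 5 n213177 = n152811 := d2_2 (iv5 F455234) F469339 (iv2 F400993)
def n213178 : Q := act 4 n152781
theorem D213178 : act 4 n152781 = n213178 := rfl
def n213179 : Q := act 6 n152781
theorem D213179 : act 6 n152781 = n213179 := rfl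
theorem F469341 : act 3 n213179 = n152783 := d7_1 D213179 (iv6 D152783) (iv3 F239987)
theorem F469342 : act 5 n213179 = n192216 := d12_1 D213179 F386045 F356035 (iv6 D152782) D152781
theorem F469343 : act 4 n193890 = n213179 := d18_3 F449642 (iv4 D193892) D193890 F469342 (iv4 D192216) F336648 (iv4 F336770) (iv0 F391245) F449643
theorem F469344 : act 6 n213178 = n193890 := d10_0 F469343 (iv6 D213179) D213178
theorem F469345 : act 0 n213179 = n194084 := d18_2 D193890 F469343 (iv4 F422480) (iv5 D201943) (iv4 F362202) F388910 F388908 (iv0 D102451) D102454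
theorem F469346 : act 3 n201943 = n212749 := d20_3 F469343 F469345 (iv4 F422480) (iv1 D212749) (iv3 D149147) (iv4 D69988) D69986 D149137 F353164 D193890
theorem F469347 : act 5 n212749 = n201941 := d6_2 D201943 F469346 F422475
def n213180 : Q := act 1 n152782
theorem D213180 : act 1 n152782 = n213180 := rfl
theorem F469348 : act 1 n213180 = n204599 := d15_1 D213180 (iv7 F469335) F469333
theorem F469349 : act 7 n213180 = n156122 := d15_2 F431617 D213180 (iv2 F431614)
theorem F469350 : act 5 n213180 = n177760 := d17_7 (iv1 F302313) (iv5 D39167) F299440 D57787 D124042 F356035 D213180 (iv0 F304470) (iv4 D124045)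
theorem F469351 : act 4 n213180 = n156591 := d18_7 D84656 F325636 F170960 (iv4 F326516) (iv5 F304970) (iv4 F356031) D213180 F360033 (iv5 D84659)
theorem F469352 : act 3 n155993 = n213180 := d20_3 (iv4 F82417) D112959 (iv4 F245058) (iv1 D213180) F239988 F108550 (iv1 F200303) D151303 F320478 F111158
theorem F469353 : act 6 n213180 = n201911 := d7_2 F245060 F469352 (iv3 D201911)
theorem F469354 : act 2 n177951 = n213180 := d3_3 F469353 F469267 F469266
def n213181 : Q := act 7 n152782
theorem D213181 : act 7 n152782 = n213181 := rfl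
theorem F469355 : act 2 n213181 = n204599 := d4_1 D213181 (iv7 F469335) F469333
theorem F469356 : act 3 n213181 = n152787 := d8_1 D213181 (iv7 D152787) (iv3 F239988)
theorem F469357 : act 4 n213181 = n181155 := d11_1 D213181 (iv7 F304971) (iv4 F356031)
theorem F469358 : act 5 n213181 = n177962 := d13_1 D213181 (iv7 F303660) F356035
theorem F469359 : act 6 n213181 = n156117 := d14_1 D213181 F246661 (iv6 F319280) F187149 D152782
theorem F469360 : act 1 n177951 = n213181 := d15_1 F469338 (iv7 D213181) (iv2 F469333)
theorem F469361 : act 1 n213181 = n156122 := d15_1 F469360 (iv7 F469349) (iv2 F469354)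
def n213182 : Q := act 0 n152783
theorem D213182 : act 0 n152783 = n213182 := rfl
theorem F469362 : act 3 n213182 = n208501 := d20_5 (iv4 D193892) D193890 F469343 F469341 D213182 (iv4 D208501) (iv1 D134451) D134452 D208504 F449642
def n213183 : Q := act 1 n152783
theorem D213183 : act 1 n152783 = n213183 := rfl
def n213184 : Q := act 5 n152783
theorem D213184 : act 5 n152783 = n213184 := rfl
theorem F469363 : act 3 n213184 = n192216 := d6_1 D213184 (iv5 F469342) F469341
theorem F469364 : act 6 n213184 = n152786 := d12_2 D152783 D213184 (iv5 D152786) (iv6 D72094) D72093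
theorem F469365 : act 4 n192822 = n213184 := d5_0 F469363 (iv4 D192216) F153774 D100743 D192822
def n213185 : Q := act 7 n152783
theorem D213185 : act 7 n152783 = n213185 := rfl
def n213186 : Q := act 3 n152784
theorem D213186 : act 3 n152784 = n213186 := rfl
theorem F469366 : act 6 n213186 = n202175 := d7_2 (iv6 F359509) D213186 (iv3 D202175)
theorem F469367 : act 7 n213186 = n202258 := d8_2 F426983 D213186 F426987
theorem F469368 : act 0 n213186 = n155992 := d20_4 (iv4 F468731) F468734 F393560 D213186 F245056 F110999 F161261 D65139 D138729 (iv1 F426976)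
theorem F469369 : act 5 n177928 = n213186 := d17_1 F432602 F469368 (iv5 F432580) (iv4 D204451) (iv5 D123825) (iv0 D57708) D57710 D123833 D204458
def n213187 : Q := act 5 n152784
theorem D213187 : act 5 n152784 = n213187 := rfl
theorem F469370 : act 3 n213187 = n177928 := d6_1 D213187 F469369 (iv3 D213186)
theorem F469371 : act 6 n213187 = n156123 := d12_2 (iv6 F359509) D213187 (iv5 D156123) D156124 (iv5 F245335)
theorem F469372 : act 0 n213187 = n210783 := d17_2 D152784 D213187 (iv5 D210783) (iv4 D139693) (iv5 F321134) (iv0 F345703) F320612 F200303 (iv4 F108550)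
theorem F469373 : act 0 n204610 = n213187 := d21_7 F422297 (iv1 F179464) D115420 F409703 (iv1 F409701) F349429 F433014 (iv5 D213187) F359509 (iv1 F422299)
def n213188 : Q := act 5 n152785
theorem D213188 : act 5 n152785 = n213188 := rfl
theorem F469374 : act 0 n213188 = n204610 := d17_2 (iv1 F320445) D213188 (iv5 F433014) (iv4 D139698) D139699 (iv0 F349375) F229957 F318287 (iv4 F112063)
theorem F469375 : act 1 n213188 = n210783 := d17_6 F393581 (iv5 F364631) (iv1 F348685) (iv5 F404537) (iv4 F404541) D213188 (iv5 D210783) (iv0 F423015) F423012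
def n213189 : Q := act 0 n152786
theorem D213189 : act 0 n152786 = n213189 := rfl
theorem F469376 : act 5 n213189 = n202055 := d17_3 (iv1 D152785) D152786 D213189 (iv4 F422813) (iv5 F341009) (iv0 F418894) (iv5 F468732) (iv0 F468735) (iv4 F404541)
theorem F469377 : act 1 n156963 = n213189 := d17_6 (iv1 F222859) (iv5 F316828) (iv1 F183886) F318292 (iv4 F112063) D156963 F469376 (iv0 F458762) (iv4 D210780)
def n213190 : Q := act 1 n152786
theorem D213190 : act 1 n152786 = n213190 := rfl
theorem F469378 : act 1 n213190 = n156963 := d15_1 D213190 (iv7 F426989) F426988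
theorem F469379 : act 5 n213190 = n202054 := d17_7 (iv1 D139682) (iv5 F319961) (iv1 D117407) F85405 (iv4 F108550) D152786 D213190 (iv0 D202054) F349398
def n213191 : Q := act 4 n152786
theorem D213191 : act 4 n152786 = n213191 := rfl
theorem F469380 : act 2 n213191 = n185259 := d1_1 D213191 (iv4 F458685) F426988
theorem F469381 : act 3 n213191 = n192815 := d5_1 D213191 (iv4 D192815) F303653 D124042 (iv3 F356036)
theorem F469382 : act 6 n213191 = n192822 := d10_2 F469364 D213191 F469365
theorem F469383 : act 0 n213191 = n183881 := d18_2 (iv1 D213190) D213191 (iv4 F458688) F458689 F222816 F222859 D210780 (iv0 F458763) (iv5 F469379)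
theorem F469384 : act 1 n213191 = n185261 := d18_6 (iv1 F423709) (iv4 D152788) (iv1 D72096) (iv4 F108550) D152786 D213191 F458665 F458664 (iv5 D156225)
theorem F469385 : act 7 n185260 = n213191 := d15_2 (iv0 D185259) D185260 F469380
theorem F469386 : act 5 n203082 = n185260 := d16_7 (iv4 F458685) (iv5 D203105) (iv4 D117680) (iv5 D54207) (iv4 F85520) D117650 D203082 F469385 F469380
def n213192 : Q := act 7 n152786
theorem D213192 : act 7 n152786 = n213192 := rfl
theorem F469387 : act 2 n213192 = n156963 := d4_1 D213192 (iv7 F426989) F426988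
theorem F469388 : act 3 n213192 = n177962 := d8_1 D213192 (iv7 F303660) (iv3 F356036)
theorem F469389 : act 4 n213192 = n185260 := d11_1 D213192 F469385 (iv4 D213191)
theorem F469390 : act 5 n213192 = n152787 := d13_1 D213192 (iv7 D152787) D152786
def n213193 : Q := act 3 n152788
theorem D213193 : act 3 n152788 = n213193 := rfl
theorem F469391 : act 2 n213193 = n156128 := d0_1 D213193 (iv3 D156128) (iv2 F161388) D138729 F348376
theorem F469392 : act 4 n213193 = n192201 := d5_2 D152788 D213193 F385972 F359422 F320549
theorem F469393 : act 6 n213193 = n192200 := d7_2 (iv6 F348347) D213193 F385968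
theorem F469394 : act 0 n156014 = n213193 := d20_4 F431616 (iv1 D177802) D177803 (iv3 F349757) (iv3 D213193) (iv4 D152788) (iv1 D72096) (iv4 F108550) (iv3 F239988) (iv1 F431617)
def n213194 : Q := act 5 n152788
theorem D213194 : act 5 n152788 = n213194 := rfl
theorem F469395 : act 2 n213194 = n185485 := d2_1 D213194 F363546 F348376
theorem F469396 : act 0 n213194 = n210748 := d17_2 (iv1 F423709) D213194 (iv5 D210748) (iv4 F424577) F424576 F393546 D177141 F404539 F245524
theorem F469397 : act 1 n213194 = n210746 := d17_6 D65568 (iv5 F321134) (iv1 F345706) F229957 D152788 D213194 (iv5 D210746) (iv0 D139641) F101271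
theorem F469398 : act 4 n185499 = n213194 := d1_0 F469395 F287751 D185499
theorem F469399 : act 1 n194105 = n185499 := d18_6 (iv1 F426966) (iv4 D203100) F341172 D139698 F433014 F433011 F469398 F469397 (iv5 D210746)
def n213195 : Q := act 6 n152789
theorem D213195 : act 6 n152789 = n213195 := rfl
theorem F469400 : act 2 n213195 = n209988 := d3_1 D213195 F455646 F388823
theorem F469401 : act 3 n213195 = n152790 := d7_1 D213195 (iv6 D152790) D152789
theorem F469402 : act 4 n213195 = n209987 := d10_1 D213195 F455644 F339914
theorem F469403 : act 5 n213195 = n202167 := d12_1 D213195 (iv6 F423111) (iv5 F455216) F455221 F429104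
theorem F469404 : act 0 n202423 = n213195 := d21_1 D202423 F469403 (iv6 F423111) (iv1 D202048) (iv6 D115347) D115346 (iv1 F409705) F409707 D201904 F433593
theorem F469405 : act 0 n213195 = n204097 := d20_7 F462696 (iv1 F462421) F462417 F408897 (iv1 F366164) (iv3 F455642) (iv4 F469402) F431074 F431060 (iv1 F462702)
def n213196 : Q := act 3 n152793
theorem D213196 : act 3 n152793 = n213196 := rfl
theorem F469406 : act 4 n213196 = n193249 := d5_2 F347038 D213196 F389319 F347042 F347035
theorem F469407 : act 6 n213196 = n193248 := d7_2 F428850 D213196 (iv3 F428849)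
theorem F469408 : act 7 n213196 = n209785 := d8_2 F467706 D213196 F467708
def n213197 : Q := act 5 n152794
theorem D213197 : act 5 n152794 = n213197 := rfl
theorem F469409 : act 2 n213197 = n152795 := d2_1 D213197 (iv5 D152795) D152794
theorem F469410 : act 0 n213197 = n202027 := d17_2 (iv1 F422819) D213197 (iv5 D202027) F179626 F392999 F438361 F438359 F438317 F438315
theorem F469411 : act 1 n213197 = n203613 := d17_6 D55247 D120070 F354181 (iv5 F360755) F360754 D213197 (iv5 D203613) (iv0 D119634) F87041
def n213198 : Q := act 1 n152795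
theorem D213198 : act 1 n152795 = n213198 := rfl
theorem F469412 : act 7 n213198 = n202027 := d15_2 F423256 D213198 (iv2 F423254)
theorem F469413 : act 5 n213198 = n155877 := d17_7 (iv1 F110854) (iv5 F357016) (iv1 D150601) (iv5 F189405) F189404 D152795 D213198 F244855 F188675
theorem F469414 : act 2 n203613 = n213198 := d2_3 F469413 (iv2 F354580) D203613
def n213199 : Q := act 4 n152795
theorem D213199 : act 4 n152795 = n213199 := rfl
theorem F469415 : act 0 n213199 = n183855 := d18_2 (iv1 D213198) D213199 (iv4 F423554) (iv5 D202302) F347895 (iv0 D74135) D74137 D155877 (iv5 F469413)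
theorem F469416 : act 6 n153816 = n213199 := d21_3 F451438 (iv1 D208926) F366444 F469415 (iv6 D183855) (iv5 D87703) F290189 D101016 (iv6 F388321) (iv1 F388325)
theorem F469417 : act 5 n208925 = n213199 := d21_6 F372886 F295434 D186816 F368116 (iv1 F357829) D208925 F469415 (iv5 F372954) (iv6 D188285) (iv1 F372951)
def n213200 : Q := act 6 n152795
theorem D213200 : act 6 n152795 = n213200 := rfl
theorem F469418 : act 3 n213200 = n152799 := d7_1 D213200 (iv6 D152799) (iv3 F239994)
theorem F469419 : act 4 n213200 = n153816 := d10_1 D213200 F469416 (iv4 D213199)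
theorem F469420 : act 5 n213200 = n208520 := d12_1 D213200 F449712 F414474 (iv6 D152796) D152795
theorem F469421 : act 0 n202045 = n213200 := d21_4 (iv5 D72093) (iv1 F87040) D119632 (iv6 F422794) (iv6 D213200) (iv5 D152795) D152792 (iv5 F429098) (iv6 F429099) (iv1 F188679)
def n213201 : Q := act 3 n152797
theorem D213201 : act 3 n152797 = n213201 := rfl
theorem F469422 : act 5 n213201 = n203107 := d6_2 (iv5 F239996) D213201 (iv3 D203107)
theorem F469423 : act 7 n213201 = n203606 := d8_2 F239999 D213201 F429081
theorem F469424 : act 0 n213201 = n210777 := d19_4 D152532 D213099 F469004 D213201 F458748 (iv4 D192391) (iv3 F357356) F365277 D139557 (iv4 F393055) (iv3 D194400) (iv1 D103333) D103335 D194401 F440477 (iv1 D206372) F419788 F419787 (iv3 D152534)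
def n213202 : Q := act 6 n152797
theorem D213202 : act 6 n152797 = n213202 := rfl
theorem F469425 : act 2 n213202 = n202045 := d3_1 D213202 F422794 F239998
theorem F469426 : act 5 n213202 = n156091 := d12_1 D213202 (iv6 F349436) F349432 (iv6 F349438) (iv5 F239996)
def n213203 : Q := act 3 n152798
theorem D213203 : act 3 n152798 = n213203 := rfl
theorem F469427 : act 4 n213203 = n177883 := d5_2 F469012 D213203 (iv3 F292180) (iv4 F370443) (iv3 F469011)
theorem F469428 : act 5 n213203 = n203108 := d6_2 (iv5 F240002) D213203 (iv3 D203108)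
theorem F469429 : act 7 n213203 = n203612 := d8_2 (iv7 F240001) D213203 F429094
theorem F469430 : act 0 n204612 = n213203 := d19_0 F469428 F427000 (iv3 D128371) F94877 D72726 (iv4 F185892) F319261 D138773 F221908 (iv4 F167974) (iv3 F167971) (iv1 D59440) (iv5 F92812) F92811 (iv3 F100019) D136587 D209534 (iv4 F454071) (iv3 F433023)
theorem F469431 : act 6 n177882 = n213203 := d10_0 F469427 (iv6 D177883) D177882
def n213204 : Q := act 6 n152798
theorem D213204 : act 6 n152798 = n213204 := rfl
theorem F469432 : act 2 n213204 = n203608 := d3_1 D213204 (iv6 D203608) F240003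
theorem F469433 : act 3 n213204 = n177882 := d7_1 D213204 F469431 (iv3 D213203)
theorem F469434 : act 4 n213204 = n187463 := d10_1 D213204 F469016 F469012
theorem F469435 : act 7 n194083 = n213204 := d11_0 F469434 F370441 (iv4 F392017)
def n213205 : Q := act 5 n152813
theorem D213205 : act 5 n152813 = n213205 := rfl
theorem F469436 : act 2 n213205 = n152814 := d2_1 D213205 (iv5 D152814) D152813
theorem F469437 : act 0 n213205 = n213174 := d17_2 (iv1 F422866) D213205 (iv5 D213174) F366401 F345428 (iv0 F364126) (iv5 F424061) (iv0 F462713) F462711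
theorem F469438 : act 1 n213205 = n213173 := d17_6 (iv1 F359355) (iv5 F375355) (iv1 F412538) (iv5 F412541) F386748 D213205 (iv5 D213173) (iv0 D152778) (iv4 F230545)
def n213206 : Q := act 0 n152814
theorem D213206 : act 0 n152814 = n213206 := rfl
theorem F469439 : act 5 n213206 = n203425 := d17_3 F366268 D152814 D213206 F428249 F406602 D199722 (iv5 F413245) (iv0 F400183) F400181
theorem F469440 : act 2 n213174 = n213206 := d15_3 (iv0 D213206) (iv0 F422874) (iv7 F469329)
theorem F469441 : act 7 n213206 = n213173 := d4_2 (iv7 F469329) F469440 F469326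
def n213207 : Q := act 4 n152814
theorem D213207 : act 4 n152814 = n213207 := rfl
def n213208 : Q := act 6 n152814
theorem D213208 : act 6 n152814 = n213208 := rfl
theorem F469442 : act 3 n213208 = n152816 := d7_1 D213208 (iv6 D152816) (iv3 F240034)
theorem F469443 : act 5 n213208 = n209673 := d12_1 D213208 F454592 (iv5 D202019) F322283 D152814
theorem F469444 : act 4 n202257 = n213208 := d16_4 (iv4 F280002) (iv5 F432959) F401874 D202257 F469443 (iv4 D209673) (iv5 F434653) (iv7 D205022) F201039
theorem F469445 : act 6 n213207 = n202257 := d10_0 F469444 (iv6 D213208) D213207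
def n213209 : Q := act 0 n152816
theorem D213209 : act 0 n152816 = n213209 := rfl
def n213210 : Q := act 1 n152816
theorem D213210 : act 1 n152816 = n213210 := rfl
theorem F469446 : act 4 n210228 = n213210 := d20_0 (iv1 D213210) F454984 (iv3 D209796) (iv1 F449837) F449833 (iv4 F390897) F392033 F392032 (iv3 F392026) F456654
theorem F469447 : act 5 n156120 = n213210 := d21_0 (iv1 D213210) (iv5 F458754) (iv6 D210779) F423052 (iv6 F423050) F366396 (iv1 D85198) D85200 D178801 F416263
theorem F469448 : act 3 n213210 = n156121 := d6_1 F469447 (iv5 D156121) D156120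
def n213211 : Q := act 7 n152816
theorem D213211 : act 7 n152816 = n213211 := rfl
theorem F469449 : act 4 n213211 = n185030 := d11_1 D213211 (iv7 F454983) (iv4 F454984)
theorem F469450 : act 5 n213211 = n202011 := d13_1 D213211 (iv7 F458755) F458754
theorem F469451 : act 6 n213211 = n185028 := d14_1 D213211 (iv7 F463017) F463018 F239494 D152816
def n213212 : Q := act 5 n152828
theorem D213212 : act 5 n152828 = n213212 := rfl
theorem F469452 : act 2 n213212 = n152829 := d2_1 D213212 (iv5 D152829) D152828
def n213213 : Q := act 0 n152829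
theorem D213213 : act 0 n152829 = n213213 := rfl
theorem F469453 : act 5 n213213 = n201996 := d17_3 F366191 D152829 D213213 F422665 (iv5 D184379) (iv0 F367107) F367108 (iv0 D103595) D103597
theorem F469454 : act 3 n202001 = n213213 := d6_3 F469453 F422664 D202001
theorem F469455 : act 6 n201999 = n213213 := d12_0 F469453 (iv6 D201996) (iv5 D115314) D115315 D201999
def n213214 : Q := act 1 n152829
theorem D213214 : act 1 n152829 = n213214 := rfl
def n213215 : Q := act 4 n152829
theorem D213215 : act 4 n152829 = n213215 := rfl
theorem F469456 : act 5 n213215 = n194447 := d16_3 F187729 D152829 D213215 (iv4 D194447) (iv5 F158943) (iv4 F380905) F380906 (iv7 F428522) (iv2 D203488)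
theorem F469457 : act 4 n213213 = n213214 := d18_1 D213213 (iv1 D213214) D213215 F469456 (iv4 D194447) F158942 F360759 (iv0 D152826) D152829
theorem F469458 : act 5 n213214 = n194561 := d16_3 (iv4 F422665) (iv5 F469453) F469457 (iv4 D194561) F292221 F134795 (iv5 F292221) (iv7 F373305) F373303
theorem F469459 : act 1 n202095 = n213215 := d17_6 (iv1 F425605) F425602 F381267 (iv5 F401169) F401168 (iv5 F422871) F469456 F463360 F463355
def n213216 : Q := act 6 n152829
theorem D213216 : act 6 n152829 = n213216 := rfl
theorem F469460 : act 3 n213216 = n152834 := d7_1 D213216 (iv6 D152834) (iv3 F240045)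
def n213217 : Q := act 3 n152832
theorem D213217 : act 3 n152832 = n213217 := rfl
theorem F469461 : act 4 n213217 = n210545 := d5_2 F469108 D213217 (iv3 F466375) F466376 F469109
theorem F469462 : act 5 n213217 = n203106 := d6_2 (iv5 F240049) D213217 (iv3 D203106)
theorem F469463 : act 7 n213217 = n203595 := d8_2 F240052 D213217 F429046
theorem F469464 : act 6 n210544 = n213217 := d10_0 F469461 (iv6 D210545) D210544
def n213218 : Q := act 6 n152832
theorem D213218 : act 6 n152832 = n213218 := rfl
theorem F469465 : act 2 n213218 = n178073 := d3_1 D213218 F364658 F240051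
theorem F469466 : act 3 n213218 = n210544 := d7_1 D213218 F469464 (iv3 D213217)
theorem F469467 : act 4 n213218 = n153818 := d10_1 D213218 (iv6 F469111) F469108
theorem F469468 : act 5 n213218 = n156265 := d12_1 D213218 (iv6 F423686) (iv5 D202338) (iv6 F336239) (iv5 F240049)
theorem F469469 : act 7 n213218 = n153817 := d16_8 (iv4 D204053) (iv5 D122559) F89929 D82392 D172030 (iv5 F404190) (iv4 F423687) (iv5 F469468) (iv2 F430912)
def n213219 : Q := act 6 n152833
theorem D213219 : act 6 n152833 = n213219 := rfl
theorem F469470 : act 2 n213219 = n203597 := d3_1 D213219 (iv6 D203597) F240056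
theorem F469471 : act 4 n213219 = n204450 := d10_1 D213219 (iv6 F469104) F469099
theorem F469472 : act 7 n213219 = n204449 := d14_2 (iv7 F240054) D213219 F432576 F430913 F364658
def n213220 : Q := act 3 n152839
theorem D213220 : act 3 n152839 = n213220 := rfl
theorem F469473 : act 2 n213220 = n192940 := d0_1 D213220 F388288 F388830 F468815 F468816
theorem F469474 : act 4 n213220 = n192939 := d20_6 (iv4 D128363) (iv1 F104120) F104121 D72119 D152839 D213220 (iv1 F388287) F241495 (iv3 D152329) (iv1 F206488)
theorem F469475 : act 0 n211006 = n213220 := d20_1 (iv4 F459729) F469474 F388284 (iv1 F388261) (iv3 F388254) F168660 (iv1 F167969) F167974 D196280 F400183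
def n213221 : Q := act 5 n152839
theorem D213221 : act 5 n152839 = n213221 := rfl
theorem F469476 : act 7 n213221 = n209541 := d13_2 (iv7 F468811) D213221 (iv5 F468807)
theorem F469477 : act 4 n213221 = n209542 := d19_2 D152839 D213221 F454083 (iv1 F219672) (iv5 D115904) (iv4 D53436) (iv3 D25885) (iv1 F20374) (iv5 F24157) F316150 (iv3 F25329) D32928 F84940 F84937 (iv3 F104005) F104006 D68012 F104121 D72119
theorem F469478 : act 0 n213221 = n210769 := d21_1 D213221 F458736 (iv6 D156003) F111018 D137052 (iv5 F224074) (iv1 F360888) (iv5 F408058) F322285 D152839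
theorem F469479 : act 6 n156256 = n152839 := d21_5 (iv5 D64423) (iv1 F78933) F78931 D74331 D156256 D213221 F469478 F458736 (iv6 D156003) F111018
theorem F469480 : act 1 n213221 = n152869 := d15_1 (iv0 F469478) F366408 (iv2 F458735)
def n213222 : Q := act 5 n152840
theorem D213222 : act 5 n152840 = n213222 := rfl
theorem F469481 : act 2 n213222 = n209541 := d2_1 D213222 (iv5 F468807) (iv2 F468810)
theorem F469482 : act 4 n213222 = n209522 := d18_5 (iv1 F422802) (iv4 F463847) (iv1 F463851) F422562 D213222 (iv0 F454021) F455215 (iv0 F455213) (iv5 D202060)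
theorem F469483 : act 1 n213222 = n210769 := d15_0 (iv0 F469478) F469476 (iv2 F469481)
def n213223 : Q := act 6 n152840
theorem D213223 : act 6 n152840 = n213223 := rfl
theorem F469484 : act 3 n213223 = n202394 := d7_1 D213223 F458721 F422563
theorem F469485 : act 5 n202394 = n213223 := d21_2 (iv5 F458716) (iv1 F458717) (iv6 D213223) (iv1 D152840) (iv6 F322285) F408058 (iv1 D178669) D178670 (iv6 F452225) (iv1 F452226)
theorem F469486 : act 0 n202411 = n213223 := d21_1 D202411 (iv5 F469485) F458721 F386735 F375955 (iv5 F330583) F330581 (iv5 F330518) D201920 F423078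
def n213224 : Q := act 5 n152841
theorem D213224 : act 5 n152841 = n213224 := rfl
theorem F469487 : act 2 n213224 = n152842 := d2_1 D213224 (iv5 D152842) D152841
theorem F469488 : act 6 n213224 = n210748 := d12_2 F458643 D213224 (iv5 D210748) F444572 (iv5 F458642)
def n213225 : Q := act 0 n152842
theorem D213225 : act 0 n152842 = n213225 := rfl
theorem F469489 : act 4 n213225 = n209846 := d20_8 (iv4 F246605) (iv1 D137003) (iv4 D64389) (iv3 F100310) D136943 D209787 (iv4 F454947) D213225 F455123 (iv1 F246604)
theorem F469490 : act 5 n156178 = n213225 := d18_4 (iv1 D137039) (iv4 F167213) D197381 (iv4 F455198) F469489 F464787 (iv4 D202069) D202068 (iv5 F423234)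
def n213226 : Q := act 1 n152842
theorem D213226 : act 1 n152842 = n213226 := rfl
theorem F469491 : act 5 n156179 = n213226 := d21_6 F423335 (iv1 F423334) (iv5 F423478) (iv6 F423481) (iv1 F438129) (iv6 F429075) (iv1 D213226) (iv5 D152842) (iv6 F322285) (iv1 F422551)
def n213227 : Q := act 6 n152842
theorem D213227 : act 6 n152842 = n213227 := rfl
theorem F469492 : act 2 n213227 = n210748 := d3_1 D213227 (iv6 F469488) F469487
theorem F469493 : act 3 n213227 = n152844 := d7_1 D213227 (iv6 D152844) (iv3 F240057)
theorem F469494 : act 5 n213227 = n210739 := d12_1 D213227 (iv6 F458660) (iv5 F408058) F322285 D152842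
theorem F469495 : act 7 n210746 = n213227 := d13_0 F469494 F458659 D210746
theorem F469496 : act 0 n185485 = n213227 := d21_1 (iv5 F363546) F469494 (iv6 F458660) (iv1 D178669) (iv6 D85101) D85100 F316200 (iv5 F167142) D156213 F366573
def n213228 : Q := act 0 n152844
theorem D213228 : act 0 n152844 = n213228 := rfl
def n213229 : Q := act 1 n152844
theorem D213229 : act 1 n152844 = n213229 := rfl
theorem F469497 : act 3 n204500 = n213229 := d19_19 (iv1 D213229) (iv5 F423717) (iv4 F425630) F425629 (iv1 D144509) D144510 F356588 (iv3 F251814) F251816 (iv5 D103241) F290572 (iv3 D89549) F66481 (iv5 F290619) D90141 F346098 (iv1 F90901) D123896 D204500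
theorem F469498 : act 7 n213229 = n204510 := d8_2 (iv7 F432722) F469497 (iv3 D204510)
theorem F469499 : act 2 n204510 = n213228 := d15_3 (iv0 D213228) D213229 F469498
theorem F469500 : act 4 n213228 = n208866 := d1_2 (iv4 F432762) F469499 F451166
theorem F469501 : act 6 n213228 = n204622 := d3_2 (iv6 F432763) F469499 (iv2 D204622)
def n213230 : Q := act 7 n152844
theorem D213230 : act 7 n152844 = n213230 := rfl
theorem F469502 : act 3 n213230 = n210746 := d8_1 D213230 F469495 F469493
theorem F469503 : act 4 n213230 = n194091 := d11_1 D213230 (iv7 F469087) F469086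
theorem F469504 : act 5 n213230 = n210745 := d13_1 D213230 F458676 F423717
theorem F469505 : act 6 n213230 = n185036 := d14_1 D213230 (iv7 F468826) (iv6 D213060) F239527 D152844
theorem F469506 : act 0 n204510 = n213230 := d20_10 F469503 F456654 F469446 F469448 F245331 (iv3 F432747) (iv4 D204506) (iv1 D123908) D123909 D204510
def n213231 : Q := act 2 n152867
theorem D213231 : act 2 n152867 = n213231 := rfl
theorem F469507 : act 3 n213231 = n210769 := d0_2 D152867 D213231 F458735 (iv3 F320454) (iv2 F239543)
theorem F469508 : act 1 n213231 = n194242 := d15_0 (iv0 F468843) F468842 D213231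
theorem F469509 : act 1 n209856 = n213231 := d15_0 F469508 (iv7 F422907) (iv2 F455149)
theorem F469510 : act 6 n210768 = n213231 := d7_0 F469507 (iv6 D210769) D210768
def n213232 : Q := act 4 n152867
theorem D213232 : act 4 n152867 = n213232 := rfl
theorem F469511 : act 5 n213232 = n194443 := d16_3 (iv4 F416016) (iv5 F416018) D213232 (iv4 D194443) (iv5 D103593) D103592 D194441 F393231 F392423
theorem F469512 : act 0 n213232 = n202085 := d18_2 F416019 D213232 (iv4 F455229) F455230 F226968 (iv0 F366190) F187729 (iv0 F366191) D194450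
theorem F469513 : act 1 n213232 = n202093 := d18_8 (iv1 F463360) (iv4 D194447) (iv1 D103596) D103597 D194450 (iv4 F422908) (iv0 F422909) D213232 (iv5 F463356)
def n213233 : Q := act 6 n152867
theorem D213233 : act 6 n152867 = n213233 := rfl
theorem F469514 : act 2 n213233 = n210768 := d3_1 D213233 F469510 (iv2 D213231)
theorem F469515 : act 3 n213233 = n152868 := d7_1 D213233 (iv6 D152868) D152867
def n213234 : Q := act 1 n152868
theorem D213234 : act 1 n152868 = n213234 := rfl
theorem F469516 : act 1 n213234 = n210766 := d15_1 D213234 F458731 F366409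
theorem F469517 : act 5 n210759 = n213234 := d21_0 (iv1 D213234) F366410 (iv6 D156171) (iv1 F316201) D178667 (iv5 F452224) (iv1 F452226) (iv5 F458716) (iv6 D210762) D210759
theorem F469518 : act 4 n213234 = n199354 := d19_2 D210759 F469517 F411818 F172520 (iv5 D65418) F49132 (iv3 F48770) (iv1 F168365) F168366 (iv4 F395621) (iv3 F435204) F435207 (iv5 F417035) F202447 (iv3 F202441) (iv1 F425592) (iv5 D202789) F182848 D139649
theorem E103993 : n210761 = n204620 := (c17_8 D154523 F450538 (iv1 D199353) D199354 (iv4 F469518) (iv5 F469517) (iv0 D210759) D210761 (iv0 D204620) F198434)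
theorem F469519 : act 3 n204620 = n139650 := (sb E103993 F458712)
theorem F469520 : act 5 n204620 = n139649 := (sb E103993 (iv5 D210761))
theorem F469521 : act 2 n177983 = n213234 := d1_3 F469518 F411817 F364089
theorem F469522 : act 1 n210766 = n185173 := d15_1 F469516 (iv7 F364088) F469521
def n213235 : Q := act 7 n152868
theorem D213235 : act 7 n152868 = n213235 := rfl
theorem F469523 : act 2 n213235 = n210766 := d4_1 D213235 F458731 F366409
def n213236 : Q := act 1 n152869
theorem D213236 : act 1 n152869 = n213236 := rfl
def n213237 : Q := act 2 n152869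
theorem D213237 : act 2 n152869 = n213237 := rfl
theorem F469524 : act 7 n213237 = n210769 := d4_2 (iv7 F366408) D213237 F458735
theorem F469525 : act 1 n213237 = n209541 := d15_0 (iv0 F455030) (iv7 F366408) D213237
theorem E103994 : n213236 = n213222 := (c15_1 D213236 F469483 (iv7 F469524) (iv2 D213237))
theorem F469526 : act 0 n213222 = n152869 := (sb E103994 (iv1 D213236))
theorem F469527 : act 4 n213237 = n204595 := d20_8 F455173 (iv1 F455148) (iv4 D209851) F220144 F111428 (iv3 F219668) D209541 (iv1 F469525) F432972 D204601
theorem F469528 : act 6 n204594 = n213237 := d10_0 F469527 (iv6 D204595) D204594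
def n213238 : Q := act 4 n152869
theorem D213238 : act 4 n152869 = n213238 := rfl
theorem F469529 : act 2 n213238 = n204595 := d1_1 D213238 (iv4 F469527) (iv2 D213237)
theorem F469530 : act 3 n213238 = n209777 := d5_1 D213238 (iv4 F469037) F469035 F239720 D152869
theorem F469531 : act 7 n213238 = n209781 := d11_2 (iv7 F366408) D213238 F454935
theorem F469532 : act 1 n213238 = n203384 := d18_6 D137038 F438460 F438461 F404021 F366407 D213238 (iv4 F455220) (iv0 D209872) (iv5 D137041)
theorem F469533 : act 5 n203392 = n213238 := d19_1 D203392 (iv4 D213238) (iv3 D152869) (iv1 D72128) (iv5 D33300) (iv4 D16080) F11751 D7515 F11755 (iv4 D7095) (iv3 F12604) (iv1 D6441) (iv5 F8098) (iv4 F18708) (iv3 F38087) (iv1 F55647) (iv5 F86468) D54714 D118877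
theorem F469534 : act 6 n204314 = n213238 := d3_0 F469529 (iv6 D204595) (iv2 F432008)
def n213239 : Q := act 6 n152869
theorem D213239 : act 6 n152869 = n213239 := rfl
theorem F469535 : act 2 n213239 = n204594 := d3_1 D213239 F469528 (iv2 D213237)
theorem F469536 : act 3 n213239 = n152870 := d7_1 D213239 (iv6 D152870) D152869
theorem F469537 : act 4 n213239 = n204314 := d10_1 D213239 F469534 (iv4 D213238)
theorem F469538 : act 7 n213239 = n210767 := d14_2 (iv7 F366408) D213239 (iv6 D210767) (iv7 F222819) (iv6 F245447)
theorem F469539 : act 1 n212739 = n210767 := d15_1 (iv0 F467308) (iv7 F469538) F469535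
def n213240 : Q := act 0 n152870
theorem D213240 : act 0 n152870 = n213240 := rfl
def n213241 : Q := act 1 n152870
theorem D213241 : act 1 n152870 = n213241 := rfl
def n213242 : Q := act 5 n152870
theorem D213242 : act 5 n152870 = n213242 := rfl
def n213243 : Q := act 7 n152870
theorem D213243 : act 7 n152870 = n213243 := rfl
theorem F469540 : act 3 n213243 = n210767 := d8_1 D213243 (iv7 F469538) F469536
theorem F469541 : act 6 n213243 = n210766 := d14_1 D213243 F458731 (iv6 F320456) (iv7 F239544) D152870
def n213244 : Q := act 1 n152871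
theorem D213244 : act 1 n152871 = n213244 := rfl
theorem F469542 : act 7 n213244 = n198069 := d15_2 (iv0 F413558) D213244 F406646
theorem F469543 : act 5 n213244 = n198076 := d17_7 (iv1 F413252) F412430 F413580 (iv5 D199804) (iv4 F413555) (iv5 F413557) D213244 F406690 F413255
theorem F469544 : act 1 n211232 = n210888 := d18_6 (iv1 F406689) F413247 (iv1 D199722) F173200 D141236 D211232 F459153 D213244 F469543
theorem F469545 : act 2 n204588 = n213244 := d2_3 F469543 F406685 D204588
theorem F469546 : act 6 n185183 = n213244 := d21_5 (iv5 F191579) F302438 (iv5 F308331) (iv6 F337945) D185183 F469543 (iv1 F406689) F304631 (iv6 D84766) (iv1 F304761)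
theorem F469547 : act 1 n213244 = n210542 := d15_0 (iv0 D210542) (iv7 F432961) F469545
def n213245 : Q := act 2 n152871
theorem D213245 : act 2 n152871 = n213245 := rfl
theorem F469548 : act 3 n213245 = n185295 := d0_2 D152871 D213245 (iv2 F373383) F351164 F239548
theorem F469549 : act 4 n213245 = n213066 := d1_2 F459153 D213245 F468840
theorem F469550 : act 5 n213245 = n210499 := d2_2 (iv5 F413557) D213245 F457801
theorem F469551 : act 7 n213245 = n210542 := d4_2 F468776 D213245 (iv2 F468774)
theorem F469552 : act 1 n213245 = n204588 := d15_0 (iv0 F468778) F468776 D213245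
theorem F469553 : act 1 n198069 = n213245 := d15_0 F469552 F432961 (iv2 F406646)
theorem F469554 : act 1 n210637 = n213066 := d18_6 (iv1 D124023) (iv4 F198412) F364126 F172863 D139454 D210637 (iv4 F469549) F469552 (iv5 D204588)
theorem F469555 : act 6 n204602 = n213245 := d21_5 (iv5 D102375) (iv1 F74680) D88226 D185105 (iv1 F432986) F469550 F457805 F386057 F363013 (iv1 F157181)
def n213246 : Q := act 6 n152871
theorem D213246 : act 6 n152871 = n213246 := rfl
theorem F469556 : act 2 n213246 = n204602 := d3_1 D213246 F469555 (iv2 D213245)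
theorem F469557 : act 3 n213246 = n152872 := d7_1 D213246 (iv6 D152872) D152871
theorem F469558 : act 4 n213246 = n202109 := d10_1 D213246 (iv6 F459155) F459153
theorem F469559 : act 7 n204601 = n213246 := d11_0 F469558 (iv7 F455146) (iv4 F455173)
theorem F469560 : act 1 n204054 = n213246 := d17_8 F429043 (iv5 F429041) (iv1 D203594) D203595 (iv4 F451163) F451161 (iv0 F389482) (iv5 F430916) F469558
theorem F469561 : act 1 n213246 = n193828 := d15_1 F469560 F391122 (iv2 F430914)
theorem F469562 : act 1 n185299 = n204054 := d15_0 F469560 (iv7 F469559) (iv2 F455172)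
theorem F469563 : act 1 n193828 = n185299 := d15_0 F469562 F430917 (iv2 F391121)
def n213247 : Q := act 0 n152872
theorem D213247 : act 0 n152872 = n213247 := rfl
theorem F469564 : act 6 n213247 = n204050 := d21_5 (iv5 D152565) (iv1 F188648) F188645 D152872 D213247 (iv5 D204050) (iv1 F196230) (iv5 F241672) (iv6 F469111) (iv1 D213124)
theorem F469565 : act 2 n209221 = n213247 := d15_3 (iv0 D213247) (iv0 F365539) (iv7 F452769)
theorem F469566 : act 3 n213247 = n209813 := d0_2 (iv3 F452767) F469565 F455041 F220135 (iv2 F218762)
theorem F469567 : act 5 n213247 = n209220 := d2_2 D209221 F469565 (iv2 D209220)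
theorem F469568 : act 7 n213247 = n209806 := d4_2 (iv7 F452769) F469565 F455014
theorem F469569 : act 1 n209807 = n213247 := d15_1 D209807 F469568 F455014
def n213248 : Q := act 7 n152872
theorem D213248 : act 7 n152872 = n213248 := rfl
theorem F469570 : act 2 n213248 = n209807 := d4_1 D213248 F455019 F351168
theorem F469571 : act 3 n213248 = n204601 := d8_1 D213248 F469559 F469557
theorem F469572 : act 4 n213248 = n152875 := d11_1 D213248 (iv7 D152875) (iv4 F240072)
theorem F469573 : act 1 n209806 = n213248 := d15_1 (iv0 F455016) (iv7 D213248) (iv2 F351168)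
theorem F469574 : act 1 n213248 = n209221 := d15_1 F469573 F452769 (iv2 F455014)
def n213249 : Q := act 2 n152873
theorem D213249 : act 2 n152873 = n213249 := rfl
theorem F469575 : act 7 n152874 = n213249 := d15_2 (iv0 D152873) D152874 (iv2 D213249)
def n213250 : Q := act 3 n152873
theorem D213250 : act 3 n152873 = n213250 := rfl
def n213251 : Q := act 4 n152873
theorem D213251 : act 4 n152873 = n213251 := rfl
theorem F469576 : act 0 n203413 = n213251 := d20_10 (iv4 D213251) (iv1 F468850) F468847 (iv3 F455020) F310897 (iv3 F352726) D206255 F439946 F428014 D203413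
def n213252 : Q := act 5 n152873
theorem D213252 : act 5 n152873 = n213252 := rfl
def n213253 : Q := act 6 n152873
theorem D213253 : act 6 n152873 = n213253 := rfl
def n213254 : Q := act 7 n152873
theorem D213254 : act 7 n152873 = n213254 := rfl
theorem F469577 : act 2 n213254 = n152874 := d4_1 D213254 F469575 (iv2 D213249)
def n213255 : Q := act 3 n152874
theorem D213255 : act 3 n152874 = n213255 := rfl
theorem F469578 : act 4 n213255 = n212620 := d5_2 F386211 D213255 F466733 F386235 (iv3 F386210)
theorem F469579 : act 6 n213255 = n210755 := d7_2 F361012 D213255 (iv3 F458697)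
def n213256 : Q := act 6 n152875
theorem D213256 : act 6 n152875 = n213256 := rfl
theorem F469580 : act 3 n213256 = n194242 := d7_1 D213256 (iv6 F455108) (iv3 F455109)
theorem F469581 : act 5 n213256 = n194241 := d12_1 D213256 (iv6 F428902) F428904 (iv6 F455163) F455153
theorem F469582 : act 7 n213256 = n152876 := d14_2 D152875 D213256 (iv6 D152876) (iv7 D72131) D72130
theorem F469583 : act 1 n156204 = n213256 := d15_1 (iv0 F429007) F469582 (iv2 F429004)
def n213257 : Q := act 1 n152876
theorem D213257 : act 1 n152876 = n213257 := rfl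
theorem F469584 : act 5 n213257 = n156194 := d17_7 (iv1 F110853) (iv5 F106020) (iv1 F106024) D74132 D155858 (iv5 F359978) D213257 (iv0 F359959) F347895
theorem F469585 : act 2 n156204 = n213257 := d2_3 F469584 F245457 D156204
def n213258 : Q := act 3 n152878
theorem D213258 : act 3 n152878 = n213258 := rfl
theorem F469586 : act 2 n213258 = n202411 := d0_1 D213258 F423904 (iv2 F245592) (iv3 F429020) (iv2 F429018)
theorem F469587 : act 5 n213258 = n202288 := d6_2 (iv5 F423831) D213258 (iv3 F423832)
def n213259 : Q := act 5 n152880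
theorem D213259 : act 5 n152880 = n213259 := rfl
theorem F469588 : act 3 n213259 = n157096 := d6_1 D213259 F351454 (iv3 F360854)
theorem F469589 : act 6 n213259 = n201897 := d12_2 F360853 D213259 (iv5 D201897) (iv6 D115234) (iv5 F170805)
theorem F469590 : act 7 n213259 = n202747 := d13_2 (iv7 F366494) D213259 F425398
theorem F469591 : act 4 n213259 = n163078 := d16_2 D152880 D213259 F257407 F305251 F316538 F123345 (iv5 F309666) (iv7 F200720) (iv2 F200715)
theorem F469592 : act 0 n213259 = n202198 := d17_2 F360253 D213259 F423213 F247023 (iv5 F351468) (iv0 F272905) D177189 F359938 D177255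
theorem F469593 : act 1 n213259 = n178794 := d17_6 (iv1 D53781) D53782 (iv1 F314272) F311858 D152880 D213259 (iv5 F344874) (iv0 F351561) F351563
def n213260 : Q := act 5 n152883
theorem D213260 : act 5 n152883 = n213260 := rfl
theorem F469594 : act 2 n213260 = n202747 := d2_1 D213260 F425398 (iv2 F366772)
theorem F469595 : act 3 n213260 = n209883 := d6_1 D213260 (iv5 F459193) F459192
theorem F469596 : act 4 n213260 = n179286 := d9_1 D213260 F350671 (iv4 F360255) F350673 F188037 F311858 D152880 D213259 F469591 F257407 F305251 F316538 F123345 (iv5 F309666) D152883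
theorem F469597 : act 0 n213260 = n178794 := d17_2 (iv1 F469284) D213260 (iv5 F344874) (iv4 D177200) (iv5 D84430) F333732 D177034 (iv0 F457194) (iv4 F469280)
theorem F469598 : act 1 n213260 = n202198 := d17_6 (iv1 F112046) (iv5 F314269) F309663 (iv5 F309666) D152883 D213260 F423213 F351521 (iv4 D116709)
theorem F469599 : act 6 n213260 = n202213 := d21_3 (iv5 F469281) (iv1 F469284) D213260 (iv1 D202213) (iv6 D115472) F84115 (iv1 F78184) (iv5 F80338) D110430 D198878
def n213261 : Q := act 3 n152888
theorem D213261 : act 3 n152888 = n213261 := rfl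
theorem F469600 : act 2 n213261 = n198217 := d0_1 D213261 F407260 F331108 F241572 (iv2 F240090)
theorem F469601 : act 4 n213261 = n193265 := d5_2 D152888 D213261 (iv3 F389342) (iv4 F237266) (iv3 F190116)
theorem F469602 : act 6 n213261 = n177280 := d7_2 (iv6 F366733) D213261 (iv3 D177280)
theorem F469603 : act 7 n213261 = n153457 := d8_2 (iv7 F240091) D213261 (iv3 D153457)
theorem F469604 : act 0 n194549 = n213261 := d20_4 (iv4 D190060) D190058 (iv4 F378730) D194549 (iv3 D213261) (iv4 D152888) F190113 D72717 D153688 (iv1 F378739)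
theorem F469605 : act 5 n213261 = n187994 := d19_1 F469604 F372047 (iv3 F387714) (iv1 F468213) (iv5 D212935) F238386 F186608 (iv1 F333295) (iv5 F153655) F153654 (iv3 D46628) (iv1 F35415) (iv5 F64462) D89528 (iv3 F348023) D189857 (iv5 F378726) (iv4 F378730) D194549
theorem F469606 : act 6 n198313 = n210921 := d21_5 F378261 F378256 F164671 D109186 D198313 F461514 F469604 F469605 F372048 (iv1 F372495)
def n213262 : Q := act 5 n152888
theorem D213262 : act 5 n152888 = n213262 := rfl
theorem F469607 : act 2 n213262 = n153706 := d2_1 D213262 F241576 (iv2 F240090)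
theorem F469608 : act 3 n213262 = n187994 := d6_1 D213262 (iv5 F469605) (iv3 D213261)
theorem F469609 : act 4 n213262 = n153678 := d9_1 D213262 (iv5 D153678) (iv4 D72669) (iv5 D33534) F25762 D16205 D33548 D72722 D153704 (iv5 F345157) (iv4 D182945) (iv5 D87342) F304607 D72138 D152888
theorem F469610 : act 6 n213262 = n197769 := d12_2 (iv6 F366733) D213262 (iv5 D197769) (iv6 F331158) (iv5 D177281)
theorem F469611 : act 7 n213262 = n153458 := d13_2 (iv7 F240091) D213262 (iv5 D153458)
theorem F469612 : act 0 n213262 = n153703 := d17_2 (iv1 F240093) D213262 (iv5 F322373) F322372 (iv5 D70956) F304634 D80463 (iv0 F306651) (iv4 D153692)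
theorem F469613 : act 1 n213262 = n153702 := d17_6 (iv1 D31183) (iv5 F318408) D33303 D72138 D152888 D213262 F364621 F342509 (iv4 D66968)
theorem F469614 : act 0 n197819 = n211052 := d21_4 (iv5 F203751) (iv1 D113574) (iv5 F168615) D197819 (iv6 D211052) F360598 (iv1 F240093) D213262 F469610 F405706
def n213263 : Q := act 4 n152889
theorem D213263 : act 4 n152889 = n213263 := rfl
theorem F469615 : act 2 n213263 = n152897 := d1_1 D213263 (iv4 D152897) (iv2 F240094)
theorem F469616 : act 5 n213263 = n188372 := d9_2 D152889 D213263 F373193 F225714 F102895 (iv5 F318494) D54736 D118937 F337952 (iv5 F140500) F345151 (iv5 D142774) F102880 (iv5 F320562) D72145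
theorem F469617 : act 6 n213263 = n182170 := d10_2 F395427 D213263 (iv4 F395429)
theorem F469618 : act 7 n213263 = n153683 := d11_2 (iv7 F240095) D213263 (iv4 D153683)
theorem F469619 : act 0 n213263 = n182189 := d17_0 (iv5 F306666) F394061 (iv5 F394060) F308321 (iv5 F306610) (iv0 F198241) D123757 (iv0 F240096) D213263
theorem F469620 : act 1 n213263 = n182188 := d18_8 (iv1 F432417) (iv4 F432419) F434330 F434326 F432429 (iv4 D204408) (iv0 F240096) D213263 F372985
def n213264 : Q := act 6 n152895
theorem D213264 : act 6 n152895 = n213264 := rfl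
theorem F469621 : act 2 n213264 = n182189 := d3_1 D213264 (iv6 F366796) F240116
theorem F469622 : act 3 n213264 = n193057 := d7_1 D213264 F388609 (iv3 F308303)
theorem F469623 : act 4 n213264 = n153657 := d10_1 D213264 (iv6 F366802) F338046
theorem F469624 : act 5 n213264 = n192221 := d12_1 D213264 (iv6 D192221) (iv5 F304672) (iv6 F306697) (iv5 F308304)
theorem F469625 : act 0 n213264 = n153683 := d21_4 (iv5 D154142) (iv1 F306695) (iv5 F308304) D213264 F345155 (iv5 D86909) (iv1 D40318) D40319 (iv6 F133335) (iv1 F307554)
theorem F469626 : act 1 n213264 = n152897 := d15_1 (iv0 F469625) F364079 (iv2 F345153)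
theorem F469627 : act 7 n182188 = n213264 := d13_0 F469624 F386066 (iv5 F372985)
def n213265 : Q := act 6 n152896
theorem D213265 : act 6 n152896 = n213265 := rfl
theorem F469628 : act 5 n213265 = n189583 := d12_1 D213265 F377042 (iv5 D98096) D98097 (iv5 F308283)
def n213266 : Q := act 1 n152897
theorem D213266 : act 1 n152897 = n213266 := rfl
theorem F469629 : act 1 n213266 = n153683 := d15_1 D213266 (iv7 F469618) F469615
theorem F469630 : act 7 n213266 = n182189 := d15_2 F469626 D213266 (iv2 F469621)
theorem F469631 : act 4 n213266 = n153658 := d17_9 (iv1 D153658) (iv5 D72660) F306516 D87342 D182945 F345157 F373391 F373389 D213266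
theorem F469632 : act 5 n204407 = n213266 := d9_0 F469631 F308823 F307010 F320569 D66968 (iv5 F342499) (iv4 F386065) (iv5 F469624) F469623 F241539 F199661 F320567 D66963 (iv5 F342506) (iv4 F432421)
theorem F469633 : act 2 n182188 = n213266 := d16_9 F469631 F308823 F307010 F320569 D66968 (iv5 F342499) (iv4 F386065) (iv5 F469624) (iv7 F469627)
theorem F469634 : act 3 n191733 = n213266 := d20_5 (iv4 D209211) (iv1 F451841) (iv4 F451842) (iv3 D191735) D191733 F469631 (iv1 D153658) D153659 (iv3 F454699) F454702
def n213267 : Q := act 3 n152897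
theorem D213267 : act 3 n152897 = n213267 := rfl
theorem F469635 : act 4 n213267 = n170657 := d5_2 D152897 D213267 (iv3 D170657) (iv4 D81802) (iv3 F108588)
theorem F469636 : act 5 n213267 = n202519 := d6_2 F373389 D213267 (iv3 F424364)
theorem F469637 : act 7 n213267 = n182183 := d8_2 (iv7 F364079) D213267 F283635
theorem F469638 : act 0 n213267 = n170651 := d20_4 (iv4 F381167) (iv1 D152896) D152897 D213267 F451870 (iv4 D209018) D209017 F451858 F283711 D182271
theorem F469639 : act 1 n213267 = n204547 := d15_1 (iv0 F469638) (iv7 D204547) (iv2 F268108)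
theorem F469640 : act 2 n204545 = n213267 := d2_3 F469636 F424367 F432832
def n213268 : Q := act 3 n152913
theorem D213268 : act 3 n152913 = n213268 := rfl
theorem F469641 : act 4 n213268 = n212829 := d5_2 D152913 D213268 F467661 (iv4 F239787) F239786
theorem F469642 : act 5 n213268 = n195160 := d6_2 F345931 D213268 F396026
theorem F469643 : act 6 n213268 = n153296 := d7_2 (iv6 F240140) D213268 (iv3 D153296)
theorem F469644 : act 7 n213268 = n184036 := d8_2 (iv7 F311653) D213268 F285986
def n213269 : Q := act 3 n152929
theorem D213269 : act 3 n152929 = n213269 := rfl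
theorem F469645 : act 2 n213269 = n193623 := d0_1 D213269 (iv3 D193623) F385735 (iv3 F385733) F322197
theorem F469646 : act 4 n213269 = n202650 := d5_2 D152929 D213269 (iv3 D202650) F348316 (iv3 F348315)
theorem F469647 : act 5 n213269 = n199964 := d6_2 (iv5 F363694) D213269 F414368
theorem F469648 : act 6 n213269 = n210454 := d7_2 (iv6 F363703) D213269 (iv3 D210454)
theorem F469649 : act 7 n213269 = n199963 := d8_2 F339842 D213269 F414363
theorem F469650 : act 0 n213269 = n208231 := d19_4 F130162 F130478 D152929 D213269 F448491 F378921 (iv3 F411615) F411619 (iv5 F386408) (iv4 D192318) F311783 (iv1 D56735) (iv5 D27261) F21785 F9680 D6217 (iv5 F13688) (iv4 F30363) (iv3 F130163)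
def n213270 : Q := act 6 n152940
theorem D213270 : act 6 n152940 = n213270 := rfl
theorem F469651 : act 0 n213270 = n197687 := d21_4 F350093 F205958 D152940 D213270 (iv6 D197687) (iv5 F352692) F352689 F405198 (iv6 F405199) (iv1 F330106)
def n213271 : Q := act 3 n152992
theorem D213271 : act 3 n152992 = n213271 := rfl
theorem F469652 : act 5 n213271 = n203272 := d6_2 (iv5 F240280) D213271 (iv3 D203272)
theorem F469653 : act 7 n213271 = n206359 := d8_2 (iv7 F240279) D213271 F440405
theorem F469654 : act 0 n213271 = n210728 := d19_4 D69303 D147923 (iv4 F240281) D213271 F458606 (iv4 D192962) F155640 (iv1 F154101) F152925 (iv4 F138086) (iv3 D89922) (iv1 F292240) D87937 (iv4 F347880) (iv3 D120073) (iv1 D55248) (iv5 F51354) (iv4 F105578) (iv3 D69305)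
theorem F469655 : act 4 n213271 = n201796 := d20_6 (iv4 D87824) (iv1 F66999) D91366 F345144 (iv1 F240278) D213271 (iv1 F448920) F448917 (iv3 D188415) (iv1 F140501)
def n213272 : Q := act 6 n152992
theorem D213272 : act 6 n152992 = n213272 := rfl
theorem F469656 : act 2 n213272 = n206352 := d3_1 D213272 (iv6 D206352) F240282
theorem F469657 : act 4 n213272 = n212111 := d10_1 D213272 F464362 (iv4 F240281)
theorem F469658 : act 0 n204398 = n213272 := d20_1 (iv4 F432392) F469657 F464361 (iv1 F375142) F375130 F143261 D92884 D188887 F432703 (iv1 D204494)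
def n213273 : Q := act 4 n153175
theorem D213273 : act 4 n153175 = n213273 := rfl
theorem F469659 : act 3 n213273 = n188085 := d5_1 D213273 (iv4 D188085) F139733 D90794 (iv3 F365329)
theorem F469660 : act 6 n213273 = n198036 := d10_2 (iv6 F370339) D213273 (iv4 D198036)
theorem F469661 : act 7 n213273 = n192398 := d11_2 F365332 D213273 F386644
def n213274 : Q := act 4 n153176
theorem D213274 : act 4 n153176 = n213274 := rfl
theorem F469662 : act 2 n213274 = n192398 := d1_1 D213274 F386644 (iv2 F412547)
theorem F469663 : act 6 n200104 = n213274 := d3_0 F469662 F401110 (iv2 F415024)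
def n213275 : Q := act 6 n153176
theorem D213275 : act 6 n153176 = n213275 := rfl
theorem F469664 : act 2 n213275 = n192406 := d3_1 D213275 (iv6 D192406) (iv2 F412547)
theorem F469665 : act 4 n213275 = n200104 := d10_1 D213275 F469663 (iv4 D213274)
theorem F469666 : act 7 n213275 = n198033 := d14_2 (iv7 F412549) D213275 (iv6 D198033) (iv7 F172881) (iv6 F412544)
theorem F469667 : act 0 n196655 = n213275 := d21_4 F457847 (iv1 F449611) F449609 (iv6 F401369) (iv6 D213275) (iv5 F412553) (iv1 F412930) (iv5 F412934) (iv6 F366160) F457846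
theorem F469668 : act 1 n202244 = n213275 := d15_0 (iv0 F469667) F401370 (iv2 F423380)
def n213276 : Q := act 5 n153177
theorem D213276 : act 5 n153177 = n213276 := rfl
theorem F469669 : act 2 n213276 = n153178 := d2_1 D213276 (iv5 D153178) D153177
theorem F469670 : act 3 n213276 = n154771 := d6_1 D213276 (iv5 D154771) (iv3 F240476)
theorem F469671 : act 0 n213276 = n202476 := d21_7 (iv5 D196383) (iv1 D106934) D106935 (iv6 F400521) (iv1 F405296) (iv6 F405297) D213276 F424165 (iv6 F424177) F424178
theorem F469672 : act 6 n213276 = n208224 := d21_9 F412689 (iv1 F449955) F449952 (iv6 F449001) (iv1 F412953) F412497 F375355 F359354 D213276 (iv1 F448457)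
theorem F469673 : act 0 n188896 = n213276 := d21_10 (iv5 D213276) (iv1 F412550) (iv5 D199530) (iv6 D111388) F81100 D111312 D199419 F412108 (iv5 F449443) (iv6 F449447)
theorem F469674 : act 0 n204770 = n192941 := d21_4 F404843 (iv1 F400516) (iv5 F457298) F457299 (iv6 D192941) (iv5 F375162) F469673 (iv5 D213276) F405297 (iv1 F405295)
def n213277 : Q := act 1 n153178
theorem D213277 : act 1 n153178 = n213277 := rfl
theorem F469675 : act 7 n213277 = n202476 := d15_2 (iv0 F374513) D213277 F424162
theorem F469676 : act 5 n213277 = n192939 := d17_7 F400994 (iv5 F455234) F462393 (iv5 D203427) F187147 D153178 D213277 F388286 F386748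
theorem F469677 : act 4 n213277 = n208427 := d17_9 F457806 (iv5 F469550) (iv1 F469553) F406647 (iv4 F173049) F370338 (iv0 D153175) D153178 D213277
theorem F469678 : act 6 n208426 = n213277 := d21_9 (iv5 D153178) D153175 (iv5 F370338) (iv6 D111522) (iv1 F81206) D51460 D111580 D199669 (iv5 F449313) (iv1 D213277)
theorem F469679 : act 2 n213277 = n188896 := d3_1 F469678 F449447 (iv2 F449445)
def n213278 : Q := act 0 n153179
theorem D213278 : act 0 n153179 = n213278 := rfl
theorem F469680 : act 5 n213278 = n153713 := d17_3 (iv1 F467951) F467953 D213278 (iv4 F427558) F427559 (iv0 F432931) (iv5 D204577) F432906 (iv4 F467943)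
theorem F469681 : act 3 n213278 = n192224 := d20_5 (iv4 F81285) D111743 (iv4 F412685) (iv3 F412687) D213278 (iv4 F434379) (iv1 F434381) F362332 (iv3 D111753) (iv1 D51522)
theorem F469682 : act 6 n213278 = n153716 := d21_5 (iv5 D147923) (iv1 F105571) D72296 D153179 D213278 (iv5 D153716) D153714 (iv5 F439998) (iv6 D206268) (iv1 F231723)
theorem F469683 : act 2 n154780 = n213278 := d15_3 (iv0 D213278) (iv0 F412638) F427615
theorem F469684 : act 7 n213278 = n154781 := d4_2 F427615 F469683 (iv2 F412636)
theorem F469685 : act 1 n154782 = n213278 := d15_1 F412639 F469684 (iv2 F412636)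
def n213279 : Q := act 7 n153179
theorem D213279 : act 7 n153179 = n213279 := rfl
theorem F469686 : act 2 n213279 = n154782 := d4_1 D213279 (iv7 D154782) (iv2 F240478)
theorem F469687 : act 3 n213279 = n208225 := d8_1 D213279 F448461 (iv3 F412687)
theorem F469688 : act 6 n213279 = n197915 := d14_1 D213279 F409181 F409177 F206041 D153179
theorem F469689 : act 1 n154781 = n213279 := d15_1 D154781 (iv7 D213279) F240478
theorem F469690 : act 1 n213279 = n154780 := d15_1 F469689 (iv7 F427615) F412636
def n213280 : Q := act 6 n153214
theorem D213280 : act 6 n153214 = n213280 := rfl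
theorem F469691 : act 2 n213280 = n199387 := d3_1 D213280 F411929 (iv2 F356986)
theorem F469692 : act 3 n213280 = n208882 := d7_1 D213280 F451233 F343393
theorem F469693 : act 4 n213280 = n199386 := d10_1 D213280 F411924 (iv4 F343392)
theorem F469694 : act 5 n213280 = n154284 := d12_1 D213280 F242385 (iv5 F311889) D208001 F447373
theorem F469695 : act 7 n213280 = n206308 := d14_2 F356985 D213280 F440180 (iv7 F436751) F436750
theorem F469696 : act 0 n206309 = n213280 := d21_4 D157575 F355530 (iv5 F242695) (iv6 F440182) (iv6 D213280) (iv5 F447373) (iv1 F447374) (iv5 F444874) F429118 (iv1 D157574)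
theorem F469697 : act 1 n204384 = n213280 := d15_0 (iv0 F469696) (iv7 D206309) (iv2 F432331)
def n213281 : Q := act 0 n153245
theorem D213281 : act 0 n153245 = n213281 := rfl
theorem F469698 : act 5 n213281 = n206150 := d17_1 D213281 F439483 (iv5 D203648) (iv4 F365669) F158554 D190946 F381653 D206321 F440235
theorem F469699 : act 4 n213281 = n187359 := d18_1 D213281 F369955 F206383 F94836 F46212 F46178 D60185 F185359 D153245
theorem F469700 : act 6 n213281 = n193725 := d21_5 F392486 F355764 F354072 F354078 D213281 (iv5 F440077) F443235 F443232 F392721 F392488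
theorem F469701 : act 2 n194308 = n213281 := d15_3 (iv0 D213281) (iv0 F355436) (iv7 F392771)
theorem F469702 : act 1 n174954 = n213281 := d15_0 (iv0 D213281) F240703 F354137
theorem F469703 : act 7 n213281 = n204992 := d15_2 (iv0 F355435) F469702 F434496
theorem F469704 : act 3 n154969 = n213281 := d8_3 F469703 F434497 F428668
def n213282 : Q := act 6 n153274
theorem D213282 : act 6 n153274 = n213282 := rfl
theorem F469705 : act 2 n213282 = n170091 := d3_1 D213282 (iv6 D170091) (iv2 F310529)
theorem F469706 : act 3 n213282 = n155688 := d7_1 D213282 (iv6 F385160) F385155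
theorem F469707 : act 4 n213282 = n198903 := d10_1 D213282 F409819 F332189
theorem F469708 : act 5 n213282 = n155686 := d12_1 D213282 F340774 (iv5 F339013) F339015 F333690
theorem F469709 : act 7 n213282 = n213021 := d14_2 (iv7 F310531) D213282 (iv6 D213021) (iv7 F338998) F338966
theorem F469710 : act 0 n213282 = n159114 := d21_4 F314378 F312412 F333690 D213282 F300259 D167345 F337085 F252622 F312454 (iv1 F309448)
theorem F469711 : act 0 n212999 = n213282 := d21_4 D114736 D201516 F420814 D212999 (iv6 D213282) (iv5 F333690) (iv1 D153275) F312547 (iv6 F312736) F312732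
def n213283 : Q := act 1 n153280
theorem D213283 : act 1 n153280 = n213283 := rfl
theorem F469712 : act 1 n213283 = n193202 := d15_1 D213283 F389166 F253118
theorem F469713 : act 7 n213283 = n193102 := d15_2 F351827 D213283 F388751
theorem F469714 : act 5 n213283 = n193103 := d17_7 (iv1 F335269) F335265 F353092 F353095 F187383 D153280 D213283 F388760 F351620
theorem F469715 : act 3 n209814 = n213283 := d19_19 (iv1 D213283) (iv5 D153280) (iv4 F187383) F187382 D119110 D203448 F428356 (iv3 F383599) F383601 (iv5 D150080) F205749 F236164 (iv1 D80217) D80218 D167095 F456229 (iv1 D210115) D210116 F456234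
theorem F469716 : act 6 n209220 = n213283 := d21_3 F453649 D213247 F469567 (iv1 D213283) (iv6 F426595) (iv5 D203001) (iv1 D117508) F329018 (iv6 F219633) F453650
theorem F469717 : act 2 n213283 = n193178 := d3_1 F469716 (iv6 F389075) D209220
def n213284 : Q := act 4 n153280
theorem D213284 : act 4 n153280 = n213284 := rfl
theorem F469718 : act 2 n213284 = n204819 := d1_1 D213284 F433705 F253118
theorem F469719 : act 5 n213284 = n198023 := d9_2 D153280 D213284 F406542 F330282 (iv4 F429367) F429368 (iv4 F253122) (iv5 F389165) (iv4 F412788) (iv5 D199591) F353077 F353081 F330271 F353095 F187383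
theorem F469720 : act 7 n213284 = n193203 := d11_2 (iv7 F366846) D213284 (iv4 D193203)
def n213285 : Q := act 0 n153284
theorem D213285 : act 0 n153284 = n213285 := rfl
theorem F469721 : act 5 n213285 = n193246 := d17_1 D213285 (iv1 F389312) (iv5 F388918) (iv4 F456322) F456323 (iv0 F350011) D211519 (iv0 F464774) F464773
theorem F469722 : act 6 n213285 = n209959 := d21_5 F307564 (iv1 D72411) D72412 (iv6 F240826) D213285 F455533 F411865 (iv5 D193199) (iv6 D101346) (iv1 F156107)
theorem F469723 : act 2 n157587 = n213285 := d15_3 (iv0 D213285) (iv0 F432372) F432369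
theorem F469724 : act 4 n213285 = n196758 := d1_2 (iv4 F368238) F469723 F401708
theorem F469725 : act 7 n213285 = n157588 := d4_2 F432369 F469723 (iv2 F432366)
theorem F469726 : act 1 n157590 = n213285 := d15_1 F432371 F469725 (iv2 F432366)
def n213286 : Q := act 7 n153284
theorem D213286 : act 7 n153284 = n213286 := rfl
theorem F469727 : act 2 n213286 = n157590 := d4_1 D213286 (iv7 D157590) (iv2 F240825)
theorem F469728 : act 3 n213286 = n209377 := d8_1 D213286 F453463 F426594
theorem F469729 : act 5 n213286 = n153285 := d13_1 D213286 (iv7 D153285) D153284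
theorem F469730 : act 6 n213286 = n189590 := d14_1 D213286 F377052 (iv6 D101355) F306618 (iv6 F240826)
theorem F469731 : act 1 n157588 = n213286 := d15_1 D157588 (iv7 D213286) F240825
theorem F469732 : act 1 n213286 = n157587 := d15_1 F469731 (iv7 F432369) F432366
def n213287 : Q := act 3 n153292
theorem D213287 : act 3 n153292 = n213287 := rfl
theorem F469733 : act 2 n213287 = n210901 := d0_1 D213287 F459214 F223451 F321646 (iv2 F240844)
theorem F469734 : act 5 n213287 = n210900 := d6_2 F338944 D213287 F459209
theorem F469735 : act 7 n213287 = n193205 := d8_2 (iv7 F360573) D213287 (iv3 D193205)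
theorem F469736 : act 0 n154688 = n213287 := d20_4 (iv4 D154698) (iv1 D73361) (iv4 F110059) (iv3 F242848) (iv3 D213287) (iv4 D153292) F305548 D101232 D193143 F388906
theorem F469737 : act 1 n198229 = n213287 := d17_6 (iv1 D193494) (iv5 D101832) D101831 F346652 D209962 F455546 F469734 F459211 F404773
def n213288 : Q := act 5 n153299
theorem D213288 : act 5 n153299 = n213288 := rfl
theorem F469738 : act 2 n213288 = n191428 := d2_1 D213288 F383470 (iv2 F302982)
theorem F469739 : act 6 n213288 = n202925 := d12_2 D153299 D213288 (iv5 D202925) F361670 F235196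
theorem F469740 : act 7 n213288 = n184240 := d13_2 (iv7 F302983) D213288 (iv5 D184240)
theorem F469741 : act 0 n213288 = n191426 := d17_2 (iv1 F310594) D213288 (iv5 F383465) (iv4 D131167) (iv5 F315547) (iv0 D117818) D117822 F315554 (iv4 F190352)
theorem F469742 : act 1 n213288 = n153672 := d17_6 F448433 F448428 F466287 F466283 F267772 D213288 (iv5 F330118) (iv0 F367511) (iv4 F439659)
def n213289 : Q := act 5 n153301
theorem D213289 : act 5 n153301 = n213289 := rfl
theorem F469743 : act 2 n213289 = n202996 := d2_1 D213289 (iv5 D202996) (iv2 F349458)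
theorem F469744 : act 3 n213289 = n153308 := d6_1 D213289 (iv5 D153308) (iv3 F240865)
theorem F469745 : act 6 n213289 = n153304 := d12_2 D153301 D213289 (iv5 D153304) (iv6 D72429) D72428
theorem F469746 : act 7 n213289 = n203018 := d13_2 F349457 D213289 (iv5 D203018)
theorem F469747 : act 0 n213289 = n202724 := d17_2 (iv1 F349462) D213289 (iv5 D202724) (iv4 D116613) (iv5 D53733) (iv0 F319196) (iv5 F316847) F184308 (iv4 F349471)
theorem F469748 : act 1 n213289 = n200012 := d17_6 (iv1 F432621) F432619 (iv1 F423674) (iv5 F397464) F397463 D213289 F414620 (iv0 F353340) (iv4 F229274)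
def n213290 : Q := act 4 n153304
theorem D213290 : act 4 n153304 = n213290 := rfl
theorem F469749 : act 2 n213290 = n212000 := d1_1 D213290 F463867 F383629
theorem F469750 : act 3 n213290 = n211923 := d5_1 D213290 F463601 (iv3 D193212) F309585 (iv3 F240866)
def n213291 : Q := act 6 n153306
theorem D213291 : act 6 n153306 = n213291 := rfl
theorem F469751 : act 2 n213291 = n187195 := d3_1 D213291 F369444 F355526
theorem F469752 : act 3 n213291 = n203137 := d7_1 D213291 (iv6 D203137) (iv3 F355532)
theorem F469753 : act 4 n213291 = n211665 := d10_1 D213291 (iv6 D211665) F350775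
theorem F469754 : act 7 n213291 = n187196 := d14_2 F355529 D213291 (iv6 F467502) F467503 (iv6 D203030)
theorem F469755 : act 0 n213291 = n187198 := d21_10 F369456 (iv1 F369452) (iv5 F370366) (iv6 F370370) (iv1 F360619) F360616 F329159 (iv1 F329314) F355540 D213291
theorem F469756 : act 0 n187189 = n213291 := d21_4 F307355 F64593 D89692 D187189 (iv6 D213291) (iv5 F355540) (iv1 D104249) D104250 F159848 F309398
def n213292 : Q := act 6 n153307
theorem D213292 : act 6 n153307 = n213292 := rfl
theorem F469757 : act 2 n213292 = n203030 := d3_1 D213292 (iv6 D203030) F355534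
theorem F469758 : act 3 n213292 = n201292 := d7_1 D213292 (iv6 D201292) (iv3 F355542)
theorem F469759 : act 4 n213292 = n212509 := d10_1 D213292 (iv6 D212509) (iv4 F355535)
theorem F469760 : act 0 n174315 = n213292 := d21_4 (iv5 F440764) F440767 (iv5 F342762) F336900 (iv6 D213292) (iv5 F350768) F329313 (iv5 F329159) (iv6 F360616) (iv1 F360618)
def n213293 : Q := act 6 n153312
theorem D213293 : act 6 n153312 = n213293 := rfl
theorem F469761 : act 2 n213293 = n198583 := d3_1 D213293 (iv6 F408395) (iv2 F242669)
theorem F469762 : act 3 n213293 = n209675 := d7_1 D213293 F454594 (iv3 F383625)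
theorem F469763 : act 4 n213293 = n211000 := d10_1 D213293 F459701 F388890
theorem F469764 : act 5 n213293 = n183136 := d12_1 D213293 (iv6 F429820) (iv5 D203788) (iv6 F192128) (iv5 F240870)
theorem F469765 : act 7 n213293 = n209679 := d14_2 D153312 D213293 (iv6 F466246) F466247 F240869
theorem F469766 : act 0 n205853 = n213293 := d21_4 D64015 F203002 (iv5 F203887) D205853 (iv6 D213293) F240870 (iv1 F112575) D75062 (iv6 F338926) (iv1 D64013)
theorem F469767 : act 1 n209678 = n213293 := d15_1 D209678 F469765 (iv2 D209679)
theorem F469768 : act 5 n209678 = n209505 := d21_0 (iv1 D209505) (iv5 D136560) (iv6 D64197) D64193 F338909 (iv5 D75047) F109926 (iv5 F240870) D213293 (iv1 F469767)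
theorem F469769 : act 6 n209505 = n206219 := d21_3 (iv5 F469764) (iv1 F469767) F469768 (iv1 D206219) D206222 (iv5 F439781) (iv1 F394172) F286283 (iv6 F379979) (iv1 F379981)
theorem F469770 : act 4 n201062 = n209505 := d10_3 F469769 F439773 (iv6 F418951)
def n213294 : Q := act 3 n153317
theorem D213294 : act 3 n153317 = n213294 := rfl
theorem F469771 : act 2 n213294 = n209565 := d0_1 D213294 F454154 (iv2 F281965) (iv3 F281931) (iv2 F308818)
theorem F469772 : act 4 n213294 = n209563 := d5_2 F420909 D213294 F454149 F420916 (iv3 F420908)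
theorem F469773 : act 5 n213294 = n174745 := d6_2 (iv5 F308819) D213294 F319025
theorem F469774 : act 7 n213294 = n183083 := d8_2 (iv7 F308820) D213294 F284697
theorem F469775 : act 0 n213294 = n197186 := d20_4 D120450 F420912 F420909 D213294 F403446 F166813 D151705 F238582 (iv3 F316753) F304539
theorem F469776 : act 1 n213294 = n153334 := d15_1 (iv0 F469775) (iv7 F451401) F451398
def n213295 : Q := act 5 n153321
theorem D213295 : act 5 n153321 = n213295 := rfl
theorem F469777 : act 2 n213295 = n153362 := d2_1 D213295 (iv5 D153362) (iv2 F240878)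
theorem F469778 : act 3 n213295 = n153628 := d6_1 D213295 (iv5 D153628) (iv3 F240879)
theorem F469779 : act 6 n213295 = n191451 := d12_2 D153321 D213295 F383504 (iv6 D114127) F108948
theorem F469780 : act 7 n213295 = n191721 := d13_2 (iv7 F354014) D213295 (iv5 D191721)
theorem F469781 : act 4 n213295 = n192523 := d16_6 D192518 (iv5 F434786) (iv4 D205051) (iv5 F353948) F241416 D213295 (iv5 D192523) (iv7 F384885) F384886
def n213296 : Q := act 5 n153325
theorem D213296 : act 5 n153325 = n213296 := rfl
theorem F469782 : act 2 n213296 = n157626 := d2_1 D213296 (iv5 D157626) (iv2 F345836)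
theorem F469783 : act 4 n213296 = n209422 := d9_1 D213296 F453621 F341721 D177442 (iv4 F355888) F345740 (iv4 F240857) (iv5 F355887) F220824 (iv5 F352336) F325664 D177446 (iv4 F355885) F355886 (iv4 F345837)
theorem F469784 : act 7 n213296 = n210031 := d13_2 F431048 D213296 (iv5 F455836)
theorem F469785 : act 0 n213296 = n210139 := d17_2 D153325 D213296 F456316 (iv4 D174768) (iv5 F333785) F333784 F333772 (iv0 F345840) F240889
theorem F469786 : act 1 n213296 = n209591 := d17_6 F334393 F328022 D163697 F355886 (iv4 F345837) D213296 F454257 F342330 (iv4 F334396)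
theorem F469787 : act 6 n209421 = n213296 := d14_5 F469784 (iv6 D210031) F220445 (iv6 F346583) (iv7 F453617)
def n213297 : Q := act 1 n153362
theorem D213297 : act 1 n153362 = n213297 := rfl
theorem F469788 : act 1 n213297 = n191721 := d15_1 D213297 (iv7 F469780) F469777
theorem F469789 : act 5 n207098 = n213297 := d21_6 F90057 D105383 F161710 D124679 (iv1 F431679) (iv6 F443310) (iv1 D213297) (iv5 D153362) (iv6 D72456) F90059
def n213298 : Q := act 1 n153371
theorem D213298 : act 1 n153371 = n213298 := rfl
theorem F469790 : act 7 n213298 = n189786 := d15_2 (iv0 F338037) D213298 F377747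
theorem F469791 : act 5 n213298 = n213291 := d17_7 (iv1 F446335) (iv5 D207767) (iv1 D132285) (iv5 F208549) F342774 D153371 D213298 (iv0 F469756) F369416
theorem F469792 : act 4 n213298 = n154407 := d17_9 (iv1 D154407) D154409 F412732 F412730 (iv4 F382949) F382950 F342781 D153371 D213298
def n213299 : Q := act 5 n153388
theorem D213299 : act 5 n153388 = n213299 := rfl
theorem F469793 : act 2 n213299 = n153641 := d2_1 D213299 (iv5 D153641) (iv2 F348688)
theorem F469794 : act 7 n213299 = n153646 := d13_2 (iv7 F348689) D213299 (iv5 D153646)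
theorem F469795 : act 0 n189197 = n213299 := d19_0 (iv5 D213299) (iv4 F348690) (iv3 F426220) (iv1 F426223) (iv5 F345657) (iv4 F443231) F443230 (iv1 F305143) (iv5 F313345) (iv4 D70970) D70969 F205283 F205282 F94593 F303361 (iv1 F74281) D100905 D192893 F388121
def n213300 : Q := act 6 n153388
theorem D213300 : act 6 n153388 = n213300 := rfl
theorem F469796 : act 2 n213300 = n153642 := d3_1 D213300 (iv6 D153642) (iv2 F348688)
theorem F469797 : act 3 n213300 = n212366 := d7_1 D213300 (iv6 F467034) F467032
theorem F469798 : act 4 n213300 = n159015 := d10_1 D213300 (iv6 F339311) F348690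
theorem F469799 : act 7 n213300 = n212419 := d14_2 (iv7 F348689) D213300 (iv6 D212419) (iv7 F233613) F356775
theorem F469800 : act 5 n213300 = n154106 := d21_6 F52898 (iv1 F52601) (iv5 F52742) D72464 D153388 D213300 (iv1 D154106) (iv5 D72968) (iv6 D33633) (iv1 F52896)
theorem F469801 : act 1 n204993 = n213300 := d17_6 (iv1 F200698) D179063 (iv1 F345972) F192181 (iv4 F200833) D204993 F469800 F434151 F434149
def n213301 : Q := act 5 n153389
theorem D213301 : act 5 n153389 = n213301 := rfl
theorem F469802 : act 2 n213301 = n153646 := d2_1 D213301 (iv5 D153646) (iv2 F348686)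
theorem F469803 : act 6 n213301 = n201334 := d12_2 F449542 D213301 (iv5 D201334) (iv6 F416557) (iv5 F449545)
theorem F469804 : act 7 n213301 = n153641 := d13_2 (iv7 F348687) D213301 (iv5 D153641)
theorem F469805 : act 1 n189197 = n213301 := d15_1 (iv0 F469795) F469804 (iv2 F469793)
theorem F469806 : act 4 n204375 = n189195 := d18_5 (iv1 D153389) F108990 D153214 F343392 D204375 (iv0 D189195) D189197 F469805 (iv5 D213301)
def n213302 : Q := act 0 n153390
theorem D213302 : act 0 n153390 = n213302 := rfl
theorem F469807 : act 4 n213302 = n174459 := d18_1 D213302 F358782 F283662 (iv5 F136971) (iv4 F342715) (iv0 F342713) F348690 (iv0 D153388) D153390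
theorem F469808 : act 6 n213302 = n182136 := d21_5 (iv5 D153421) (iv1 D72481) D72482 (iv6 F240951) D213302 (iv5 F434334) (iv1 D204955) F432429 F432425 F240988
theorem F469809 : act 1 n153651 = n213302 := d15_0 (iv0 D213302) (iv7 F366700) (iv2 F314204)
theorem F469810 : act 2 n153648 = n213302 := d3_3 F469808 (iv2 F365222) F358780
theorem F469811 : act 7 n153649 = n213302 := d15_2 (iv0 D153648) D153649 (iv2 F469810)
def n213303 : Q := act 1 n153390
theorem D213303 : act 1 n153390 = n213303 := rfl
theorem F469812 : act 1 n213303 = n153651 := d15_1 D213303 (iv7 D153651) (iv2 F240950)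
theorem F469813 : act 7 n213303 = n153648 := d15_2 (iv0 D213302) D213303 F469810
theorem F469814 : act 5 n213303 = n174315 := d17_7 F462617 F449108 F343389 (iv5 F308263) (iv4 F108990) D153390 D213303 (iv0 F467504) F467501
theorem F469815 : act 2 n153649 = n213303 := d2_3 F469814 (iv2 F360778) F242011
theorem F469816 : act 3 n203101 = n213303 := d6_3 F469814 F352602 D203101
def n213304 : Q := act 4 n153390
theorem D213304 : act 4 n153390 = n213304 := rfl
theorem F469817 : act 2 n213304 = n153650 := d1_1 D213304 (iv4 D153650) (iv2 F240950)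
theorem F469818 : act 6 n213304 = n153424 := d10_2 (iv6 F240951) D213304 (iv4 D153424)
theorem F469819 : act 5 n213304 = n174442 := d16_1 D213304 (iv4 D174442) (iv5 D83381) D83380 (iv5 F348692) F206337 (iv5 F241526) (iv7 D153651) (iv2 F240950)
theorem F469820 : act 1 n213304 = n210602 := d18_6 (iv1 F198164) F343518 (iv1 D153215) (iv4 F108990) D153390 D213304 (iv4 F458179) F432293 F242415
theorem F469821 : act 1 n182131 = n213304 := d15_0 F469820 F458178 F376027
def n213305 : Q := act 5 n153418
theorem D213305 : act 5 n153418 = n213305 := rfl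
theorem F469822 : act 2 n213305 = n191425 := d2_1 D213305 (iv5 D191425) F344402
theorem F469823 : act 3 n213305 = n153419 := d6_1 D213305 (iv5 D153419) D153418
theorem F469824 : act 4 n213305 = n208469 := d9_1 D213305 F449493 (iv4 F443330) F443331 F425279 (iv5 F361077) F319992 D203189 (iv4 F443338) (iv5 D207103) F208740 D130223 F340114 (iv5 F340115) F319997
theorem F469825 : act 7 n213305 = n153665 := d13_2 (iv7 F240975) D213305 (iv5 D153665)
theorem F469826 : act 0 n213305 = n210063 := d17_2 (iv1 F306625) D213305 F456006 (iv4 F403374) F403375 (iv0 F334636) F334132 F383462 F383460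
def n213306 : Q := act 1 n153419
theorem D213306 : act 1 n153419 = n213306 := rfl
theorem F469827 : act 1 n213306 = n153421 := d15_1 D213306 F240987 (iv2 F240976)
theorem F469828 : act 7 n213306 = n153657 := d15_2 (iv0 F240978) D213306 (iv2 F241541)
theorem F469829 : act 5 n213306 = n170678 := d17_7 F381166 F381163 (iv1 D127211) (iv5 F321590) F205762 D153419 D213306 F268183 (iv4 F330120)
theorem F469830 : act 4 n213306 = n182188 := d17_9 (iv1 F469620) F469616 (iv1 F373370) (iv5 F373372) F241551 F109185 F108999 D153419 D213306
theorem F469831 : act 2 n153658 = n213306 := d1_3 F469830 F469633 F469631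
def n213307 : Q := act 4 n153419
theorem D213307 : act 4 n153419 = n213307 := rfl
theorem F469832 : act 2 n213307 = n153659 := d1_1 D213307 (iv4 D153659) (iv2 F240976)
theorem F469833 : act 7 n213307 = n153667 := d11_2 (iv7 F240977) D213307 (iv4 D153667)
theorem F469834 : act 5 n213307 = n194659 := d16_7 (iv4 F373402) F373403 F204484 (iv5 F321590) F205762 D153419 D213307 (iv7 D194659) (iv2 F338041)
theorem F469835 : act 0 n213307 = n182272 := d17_0 (iv5 F286004) F459920 F459916 (iv4 D153670) F240087 (iv0 D124823) D124825 (iv0 F240978) D213307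
theorem F469836 : act 1 n213307 = n182271 := d18_6 (iv1 F109642) F87735 D60126 F205762 D153419 D213307 (iv4 F381167) F240117 (iv5 D72706)
theorem F469837 : act 3 n213307 = n209191 := d19_3 D72480 D153419 D213307 F452650 (iv5 D204638) (iv4 F433091) (iv3 F464346) F464350 (iv5 D200668) (iv4 D113324) (iv3 F176516) (iv1 F417946) D205591 F437131 F347502 F347504 (iv5 D153593) F109160 F108986
theorem F469838 : act 6 n182256 = n213307 := d7_0 F469837 F452648 F352698
def n213308 : Q := act 6 n153419
theorem D213308 : act 6 n153419 = n213308 := rfl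
theorem F469839 : act 2 n213308 = n153660 := d3_1 D213308 (iv6 D153660) (iv2 F240976)
theorem F469840 : act 4 n213308 = n182256 := d10_1 D213308 F469838 (iv4 D213307)
theorem F469841 : act 5 n213308 = n188797 := d12_1 D213308 F374939 (iv5 F240981) (iv6 D153420) D153419
theorem F469842 : act 7 n213308 = n182252 := d14_2 (iv7 F240977) D213308 (iv6 D182252) (iv7 F338036) (iv6 D153668)
theorem F469843 : act 0 n185424 = n213308 := d21_4 (iv5 D41232) D41229 D88332 D185424 (iv6 D213308) (iv5 D153419) (iv1 F108999) (iv5 F109185) (iv6 F306630) F133368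
def n213309 : Q := act 3 n153422
theorem D213309 : act 3 n153422 = n213309 := rfl
theorem F469844 : act 2 n213309 = n191426 := d0_1 D213309 (iv3 F427270) F427269 F351879 F240996
theorem F469845 : act 5 n213309 = n157673 := d6_2 (iv5 F306627) D213309 F330112
theorem F469846 : act 7 n213309 = n153672 := d8_2 F240997 D213309 (iv3 D153672)
theorem F469847 : act 0 n213309 = n184240 := d20_10 (iv4 F449749) (iv1 F454853) F454851 F432095 (iv1 F429601) F429597 D203736 F429605 (iv4 F306626) D213309
theorem F469848 : act 4 n210163 = n213309 := d19_2 D137729 D210163 (iv3 D213309) (iv1 F240989) F109185 F52849 (iv3 F52834) (iv1 F109108) D153523 (iv4 F280254) (iv3 F446982) (iv1 F458080) F458078 F222617 F101150 (iv1 F53602) (iv5 F95815) (iv4 F209293) F326703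
theorem F469849 : act 0 n191428 = n213309 := d20_4 D186881 (iv1 F383512) F383510 (iv3 F383469) (iv3 D213309) F306626 (iv1 D182137) (iv4 D86973) (iv3 F64360) D89348
def n213310 : Q := act 6 n153422
theorem D213310 : act 6 n153422 = n213310 := rfl
theorem F469850 : act 2 n213310 = n153671 := d3_1 D213310 (iv6 D153671) F240996
theorem F469851 : act 4 n213310 = n210295 := d10_1 D213310 F456898 (iv4 F306626)
theorem F469852 : act 5 n213310 = n210144 := d12_1 D213310 (iv6 D210144) F338928 D181423 (iv5 F306627)
def n213311 : Q := act 1 n153424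
theorem D213311 : act 1 n153424 = n213311 := rfl
theorem F469853 : act 1 n213311 = n153679 := d15_1 D213311 (iv7 D153679) (iv2 F240998)
theorem F469854 : act 7 n213311 = n153675 := d15_2 F389135 D213311 (iv2 F389132)
theorem F469855 : act 4 n213311 = n154142 := d17_9 F242217 (iv5 D75005) (iv1 F191287) D152889 D213263 F469616 (iv0 F373368) F373364 D213311
theorem F469856 : act 2 n153676 = n213311 := d1_3 F469855 F308322 (iv4 F345161)
theorem F469857 : act 6 n154325 = n213311 := d10_0 F469855 (iv6 F376029) (iv4 F432302)
theorem F469858 : act 3 n213311 = n210594 := d7_1 F469857 (iv6 F458157) (iv3 F432303)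
theorem F469859 : act 4 n210594 = n204026 := d5_2 (iv4 F469855) F469858 (iv3 D204026) F304427 (iv3 F242216)
def n213312 : Q := act 3 n153424
theorem D213312 : act 3 n153424 = n213312 := rfl
theorem F469860 : act 5 n213312 = n194680 := d6_2 F373364 D213312 F394073
def n213313 : Q := act 3 n153455
theorem D213313 : act 3 n153455 = n213313 := rfl
theorem F469861 : act 4 n213313 = n155663 := d5_2 (iv4 F241035) D213313 (iv3 D155663) F113954 D120097
theorem F469862 : act 6 n213313 = n174520 := d7_2 (iv6 F425482) D213313 F425480
theorem F469863 : act 7 n213313 = n153695 := d8_2 F241038 D213313 (iv3 D153695)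
theorem F469864 : act 0 n213313 = n194556 := d20_4 (iv4 D127980) (iv1 F241037) (iv4 F241035) D213313 F393683 F159196 F150033 (iv4 F337157) (iv3 D153688) (iv1 F205957)
theorem F469865 : act 2 n176112 = n213313 := d4_3 F469863 (iv2 F432155) F432157
theorem F469866 : act 1 n213313 = n194555 := d15_0 (iv0 F432159) F432157 F469865
def n213314 : Q := act 0 n153457
theorem D213314 : act 0 n153457 = n213314 := rfl
theorem F469867 : act 4 n213314 = n210987 := d18_1 D213314 (iv1 F459643) F404761 (iv5 F401758) (iv4 F401762) F385001 (iv4 F400454) (iv0 D187992) F241045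
theorem F469868 : act 1 n198217 = n213314 := d15_0 (iv0 D213314) (iv7 F469603) F469600
theorem F469869 : act 2 n194549 = n213314 := d1_3 F469867 F459640 (iv4 F393679)
theorem F469870 : act 6 n210985 = n213314 := d10_0 F469867 (iv6 D210987) D210985
def n213315 : Q := act 1 n153457
theorem D213315 : act 1 n153457 = n213315 := rfl
theorem F469871 : act 1 n213315 = n198217 := d15_1 D213315 F407262 F394092
theorem F469872 : act 7 n213315 = n194549 := d15_2 (iv0 D213314) D213315 F469869
theorem F469873 : act 3 n194458 = n213315 := d19_19 (iv1 D213315) (iv5 F241045) F295005 (iv3 F154737) D192770 (iv5 F426121) (iv4 F374072) F374068 (iv1 F189340) (iv5 F333301) F74827 (iv3 D22891) (iv1 F35557) D47561 (iv4 F137063) D186917 F368498 F350623 (iv4 F393298)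
theorem F469874 : act 4 n210362 = n213315 := d20_0 (iv1 D213315) (iv4 F241493) (iv3 D153617) F190919 (iv3 F317474) F111578 (iv1 F79262) D108440 D197545 F457204
theorem F469875 : act 6 n210361 = n213315 := d21_3 F387497 (iv1 F337365) (iv5 F457200) (iv1 D213315) F241044 F109100 D90602 D187845 (iv6 F371684) (iv1 F387500)
def n213316 : Q := act 1 n153458
theorem D213316 : act 1 n153458 = n213316 := rfl
theorem F469876 : act 1 n213316 = n153706 := d15_1 D213316 (iv7 D153706) (iv2 F241046)
theorem F469877 : act 7 n213316 = n153702 := d15_2 (iv0 F373405) D213316 (iv2 F373401)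
theorem F469878 : act 5 n213316 = n204960 := d17_7 F320558 (iv5 F318494) (iv1 F190103) D33474 D72551 D153458 D213316 (iv0 D204960) (iv4 D124833)
theorem F469879 : act 4 n213316 = n194659 := d17_9 (iv1 F393987) (iv5 D182139) D182136 (iv5 F434334) (iv4 F459850) F459849 (iv0 D153455) D153458 D213316
theorem F469880 : act 6 n209190 = n213316 := d10_0 F469879 F393986 D209190
theorem F469881 : act 2 n153703 = n213316 := d16_9 F469879 (iv5 F469834) (iv4 D213307) (iv5 D153419) (iv4 F205762) F321590 (iv4 F204484) (iv5 F373403) (iv7 F373406)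
def n213317 : Q := act 5 n153512
theorem D213317 : act 5 n153512 = n213317 := rfl
theorem F469882 : act 2 n213317 = n194592 := d2_1 D213317 (iv5 D194592) (iv2 F346522)
theorem F469883 : act 3 n213317 = n153513 := d6_1 D213317 (iv5 D153513) D153512
theorem F469884 : act 6 n213317 = n192642 := d12_2 (iv6 F360588) D213317 (iv5 F387332) (iv6 F363146) F360587
theorem F469885 : act 7 n213317 = n153755 := d13_2 (iv7 F241259) D213317 (iv5 D153755)
theorem F469886 : act 0 n213317 = n184123 := d17_2 (iv1 F349907) D213317 (iv5 F373451) (iv4 F376056) (iv5 F388845) (iv0 F388848) (iv5 F365294) F375908 (iv4 F159249)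
theorem F469887 : act 4 n213317 = n192643 := d17_4 F387616 (iv5 F351157) (iv1 F349907) D213317 F387334 (iv0 F274941) (iv5 D100570) D100569 D192734
def n213318 : Q := act 3 n153526
theorem D213318 : act 3 n153526 = n213318 := rfl
theorem F469888 : act 4 n213318 = n154703 := d5_2 D153526 D213318 F242869 F110066 (iv3 F109110)
theorem F469889 : act 6 n213318 = n153528 := d7_2 (iv6 F241300) D213318 (iv3 D153528)
theorem F469890 : act 0 n213318 = n205998 := d20_4 F427332 (iv1 D153525) D153526 D213318 F438755 F204176 (iv1 F93994) D108071 F319577 (iv1 F427330)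
theorem F469891 : act 0 n205996 = n213318 := d20_4 (iv4 D99953) D99951 D192267 (iv3 F438745) (iv3 D213318) (iv4 D153526) (iv1 F241298) (iv4 F427324) (iv3 F427326) (iv1 D192271)
theorem F469892 : act 5 n213318 = n195512 := d19_1 F469891 F397189 (iv3 F408109) (iv1 F408111) (iv5 D190927) (iv4 D97054) F71523 D45378 (iv5 F75581) F75582 F74572 (iv1 F62404) F62406 (iv4 F64095) (iv3 F136560) F352787 F361849 D192267 (iv3 F438745)
theorem F469893 : act 2 n205995 = n213318 := d15_3 (iv0 F469891) (iv0 F438748) (iv7 F438760)
theorem F469894 : act 7 n213318 = n195511 := d4_2 (iv7 F438760) F469893 (iv2 F401207)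
def n213319 : Q := act 5 n153526
theorem D213319 : act 5 n153526 = n213319 := rfl
theorem F469895 : act 2 n213319 = n153565 := d2_1 D213319 (iv5 D153565) (iv2 F241299)
theorem F469896 : act 3 n213319 = n195512 := d6_1 D213319 (iv5 F469892) (iv3 D213318)
theorem F469897 : act 0 n213319 = n203212 := d17_2 (iv1 F241301) D213319 (iv5 D203212) (iv4 D118223) (iv5 D54453) (iv0 D26334) D26336 D54461 D118243
theorem F469898 : act 1 n213319 = n203220 := d17_6 (iv1 F241290) (iv5 D153523) (iv1 D72587) D72588 D153526 D213319 (iv5 D203220) F427418 F427417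
theorem F469899 : act 6 n209533 = n213319 := d7_0 F469896 (iv6 F414235) (iv3 F454066)
theorem F469900 : act 7 n195508 = n213319 := d8_0 F469896 (iv7 D195512) (iv3 F397187)
theorem F469901 : act 6 n153565 = n212048 := d3_2 F469899 F469895 F464129
theorem F469902 : act 4 n213319 = n209535 := d10_1 F469899 (iv6 D209535) D209533
theorem F469903 : act 5 n212048 = n153583 := d12_1 F469901 (iv6 D153583) (iv5 D72618) (iv6 F109138) D153565
def n213320 : Q := act 7 n153526
theorem D213320 : act 7 n153526 = n213320 := rfl
theorem F469904 : act 2 n213320 = n153566 := d4_1 D213320 (iv7 D153566) (iv2 F241299)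
theorem F469905 : act 3 n213320 = n195511 := d8_1 D213320 (iv7 F469894) (iv3 D213318)
theorem F469906 : act 4 n213320 = n153527 := d11_1 D213320 (iv7 D153527) D153526
theorem F469907 : act 5 n213320 = n195508 := d13_1 D213320 F469900 (iv5 D213319)
theorem F469908 : act 6 n213320 = n211921 := d14_1 D213320 F464091 (iv6 D212040) F228064 (iv6 F241300)
theorem F469909 : act 1 n153563 = n213320 := d15_1 D153563 (iv7 D213320) F241299
theorem F469910 : act 1 n213320 = n153562 := d15_1 F469909 F241379 F241374
def n213321 : Q := act 1 n153528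
theorem D213321 : act 1 n153528 = n213321 := rfl
theorem F469911 : act 7 n213321 = n211985 := d15_2 (iv0 F366315) D213321 (iv2 D211985)
theorem F469912 : act 4 n192929 = n213321 := d20_0 (iv1 D213321) F241311 (iv3 D73363) (iv1 F110047) F329198 (iv4 D46441) D46439 (iv4 F74299) D100976 D192929
theorem F469913 : act 6 n195289 = n213321 := d21_3 (iv5 F400470) (iv1 F396978) F396975 (iv1 D213321) (iv6 F469889) F469892 (iv1 F414460) (iv5 D195442) (iv6 D105595) D105591
theorem F469914 : act 2 n213321 = n195291 := d3_1 F469913 (iv6 D195291) D195289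
theorem F469915 : act 3 n213321 = n195361 := d7_1 F469913 (iv6 D195361) (iv3 F396591)
theorem F469916 : act 0 n211984 = n213321 := d21_4 (iv5 D68275) D68273 D145646 F463831 (iv6 F469913) (iv5 F396975) (iv1 F396977) F405340 (iv6 F404006) (iv1 D145653)
def n213322 : Q := act 2 n153528
theorem D213322 : act 2 n153528 = n213322 := rfl
theorem F469917 : act 3 n213322 = n153578 := d0_2 D153528 D213322 (iv2 D153578) (iv3 D72617) (iv2 F109118)
theorem F469918 : act 4 n213322 = n154701 := d1_2 (iv4 F241311) D213322 (iv2 D154701)
theorem F469919 : act 6 n213322 = n205995 := d3_2 F469889 D213322 F469893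
theorem F469920 : act 7 n213322 = n211984 := d4_2 F464078 D213322 (iv2 F464076)
theorem F469921 : act 1 n213322 = n195291 := d15_0 (iv0 F464079) F464078 D213322
theorem F469922 : act 1 n211985 = n213322 := d15_0 F469921 (iv7 F396600) D211985
theorem F469923 : act 5 n213322 = n212816 := d21_0 (iv1 D212816) (iv5 F404011) (iv6 D197348) F403642 F403640 (iv5 F448551) (iv1 F448553) (iv5 D195290) D195291 (iv1 F469921)
def n213323 : Q := act 5 n153528
theorem D213323 : act 5 n153528 = n213323 := rfl
theorem F469924 : act 2 n213323 = n212816 := d2_1 D213323 (iv5 F469923) (iv2 D213322)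
theorem F469925 : act 3 n213323 = n153529 := d6_1 D213323 (iv5 D153529) D153528
theorem F469926 : act 7 n213323 = n211995 := d13_2 F464078 D213323 (iv5 F464081)
theorem F469927 : act 0 n213323 = n197350 := d21_1 D213323 (iv5 D197350) (iv6 D108111) D108107 F387487 (iv5 F400470) (iv1 F396978) F396975 F469913 (iv1 D213321)
theorem F469928 : act 1 n213323 = n212817 := d15_1 (iv0 F469927) (iv7 D212817) (iv2 F404013)
def n213324 : Q := act 6 n153529
theorem D213324 : act 6 n153529 = n213324 := rfl
theorem F469929 : act 2 n213324 = n153583 := d3_1 D213324 (iv6 D153583) (iv2 F241312)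
theorem F469930 : act 4 n213324 = n211993 := d10_1 D213324 (iv6 F464083) (iv4 F241314)
theorem F469931 : act 5 n213324 = n209533 := d12_1 D213324 F469899 (iv5 D213319) F241300 D153529
theorem F469932 : act 0 n203249 = n213324 := d21_4 F227560 (iv1 F219995) D197363 (iv6 F427531) (iv6 D213324) (iv5 D153529) F109119 D118260 F351849 D144720
def n213325 : Q := act 5 n153531
theorem D213325 : act 5 n153531 = n213325 := rfl
theorem F469933 : act 2 n213325 = n153535 := d2_1 D213325 (iv5 D153535) (iv2 F241317)
theorem F469934 : act 3 n213325 = n184476 := d6_1 D213325 (iv5 D184476) (iv3 F241318)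
theorem F469935 : act 4 n213325 = n191471 := d9_1 D213325 (iv5 D191471) F364397 D185984 F363126 (iv5 D100413) (iv4 F154466) D192576 F387141 (iv5 D191469) F364401 D185981 F363132 (iv5 D153628) (iv4 F241319)
theorem F469936 : act 6 n213325 = n191703 := d12_2 D153531 D213325 (iv5 D191703) (iv6 D98684) F109124
theorem F469937 : act 7 n213325 = n191728 := d13_2 F366857 D213325 (iv5 D191728)
def n213326 : Q := act 5 n153532
theorem D213326 : act 5 n153532 = n213326 := rfl
theorem F469938 : act 2 n213326 = n191703 := d2_1 D213326 (iv5 D191703) (iv2 F241320)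
theorem F469939 : act 3 n213326 = n153539 := d6_1 D213326 (iv5 D153539) (iv3 F241321)
theorem F469940 : act 6 n213326 = n153535 := d12_2 D153532 D213326 (iv5 D153535) (iv6 D72594) D72593
def n213327 : Q := act 6 n153533
theorem D213327 : act 6 n153533 = n213327 := rfl
theorem F469941 : act 3 n213327 = n212295 := d7_1 D213327 (iv6 F465194) F366854
theorem F469942 : act 4 n213327 = n207337 := d10_1 D213327 F444405 (iv4 F366852)
theorem F469943 : act 7 n213001 = n213327 := d8_0 F469941 F465193 D213001
def n213328 : Q := act 5 n153534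
theorem D213328 : act 5 n153534 = n213328 := rfl
theorem F469944 : act 7 n213328 = n185987 := d13_2 F387132 D213328 F387136
theorem F469945 : act 4 n213328 = n185988 := d16_4 D181950 (iv5 F363274) F366852 D213328 F288516 F135745 (iv5 F288516) (iv7 D185988) F135741
def n213329 : Q := act 0 n153535
theorem D213329 : act 0 n153535 = n213329 := rfl
theorem F469946 : act 4 n213329 = n185417 := d18_1 D213329 (iv1 F363128) (iv4 D153636) (iv5 D72651) (iv4 F109132) D153534 (iv4 F366852) (iv0 D153533) D153535
theorem F469947 : act 1 n191728 = n213329 := d15_0 (iv0 D213329) (iv7 F387140) F387137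
def n213330 : Q := act 1 n153535
theorem D213330 : act 1 n153535 = n213330 := rfl
theorem F469948 : act 1 n213330 = n191728 := d15_1 D213330 (iv7 F469937) F469933
theorem F469949 : act 4 n213330 = n187004 := d17_9 F368806 (iv5 D181946) (iv1 D86901) D86902 D181950 (iv5 F363274) (iv0 D153533) D153535 D213330
theorem F469950 : act 3 n207396 = n213330 := d20_3 (iv4 F449746) F449747 (iv4 F444678) (iv1 D213330) F241323 D153546 (iv1 F451863) F451864 D203194 F427383
theorem F469951 : act 5 n213330 = n207395 := d6_2 D207396 F469950 (iv3 D207395)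
theorem F469952 : act 6 n213330 = n209756 := d7_2 F444681 F469950 (iv3 F454840)
theorem E103995 : n211648 = n192626 := ((c21_5 F469951 F444675 F434309 (iv6 D192629) D192626 (iv6 D211648) F349353 F234894 D203510 F428628 (iv1 F469948))).symm
theorem F469953 : act 2 n192626 = n212789 := (sb E103995 (iv2 F467517))
theorem F469954 : act 6 n192626 = n143500 := (sb E103995 (iv6 D211648))
theorem F469955 : act 7 n192627 = n212789 := d15_2 (iv0 D192626) D192627 (iv2 F469953)
def n213331 : Q := act 4 n153535
theorem D213331 : act 4 n153535 = n213331 := rfl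
theorem F469956 : act 2 n213331 = n191471 := d1_1 D213331 (iv4 F469935) F469933
theorem F469957 : act 3 n213331 = n191723 := d5_1 D213331 F384274 F463704 (iv4 D153546) (iv3 F241323)
theorem F469958 : act 7 n213331 = n191469 := d11_2 F387140 D213331 (iv4 F387141)
theorem F469959 : act 5 n213331 = n181945 := d16_1 D213331 (iv4 D181945) D181946 (iv4 F363127) (iv5 D98856) (iv4 F152411) D191728 (iv7 F469937) F469933
theorem F469960 : act 1 n213331 = n192292 := d18_6 (iv1 F301703) F301705 F304677 (iv4 F109132) D153535 D213331 F387147 F387142 (iv5 D153628)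
def n213332 : Q := act 1 n153541
theorem D213332 : act 1 n153541 = n213332 := rfl
theorem F469961 : act 1 n213332 = n153542 := d15_1 D213332 F241339 (iv2 F241336)
theorem F469962 : act 7 n213332 = n203205 := d15_2 F389646 D213332 (iv2 F427407)
theorem F469963 : act 5 n213332 = n179932 := d17_7 (iv1 F131909) F319580 (iv1 F319706) (iv5 F317377) (iv4 F190295) D153541 D213332 (iv0 D179932) (iv4 D85977)
theorem F469964 : act 2 n203206 = n213332 := d2_3 F469963 (iv2 F385530) (iv5 F427410)
theorem F469965 : act 6 n209405 = n213332 := d12_0 F469963 F280312 F280309 D192993 (iv5 F453596)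
def n213333 : Q := act 4 n153541
theorem D213333 : act 4 n153541 = n213333 := rfl
theorem F469966 : act 2 n213333 = n203207 := d1_1 D213333 (iv4 D203207) (iv2 F241336)
theorem F469967 : act 7 n213333 = n203216 := d11_2 (iv7 F241337) D213333 (iv4 D203216)
theorem F469968 : act 0 n213333 = n179757 := d18_2 (iv1 D213332) D213333 (iv4 D179757) (iv5 D85861) F60586 D39764 D85982 F280231 (iv5 F469963)
def n213334 : Q := act 6 n153541
theorem D213334 : act 6 n153541 = n213334 := rfl
theorem F469969 : act 2 n213334 = n203208 := d3_1 D213334 (iv6 D203208) (iv2 F241336)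
theorem F469970 : act 0 n213334 = n209414 := d21_4 (iv5 D72598) D72596 D153541 D213334 (iv6 D209414) (iv5 F422948) F422947 F220067 (iv6 F365825) (iv1 D153545)
theorem F469971 : act 4 n210589 = n213334 := d17_9 F469970 F453605 F382914 F382913 (iv4 F458136) (iv5 D210585) (iv0 D139416) D139418 D210589
theorem F469972 : act 6 n213333 = n210589 := d10_0 F469971 (iv6 D213334) D213333
def n213335 : Q := act 4 n153542
theorem D213335 : act 4 n153542 = n213335 := rfl
theorem F469973 : act 2 n213335 = n203216 := d1_1 D213335 (iv4 D203216) (iv2 F241338)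
theorem F469974 : act 3 n213335 = n211661 := d5_1 D213335 F462557 F462518 (iv4 D186878) (iv3 F366766)
theorem F469975 : act 6 n213335 = n204086 := d10_2 F455989 D213335 (iv4 F455991)
theorem F469976 : act 7 n213335 = n203207 := d11_2 (iv7 F241339) D213335 (iv4 D203207)
theorem F469977 : act 5 n213335 = n211660 := d16_1 D213335 F462555 (iv5 D195562) F162329 (iv5 F317377) (iv4 F190295) D153541 F241337 (iv2 F241338)
theorem F469978 : act 1 n213335 = n179757 := d18_6 F185685 F85998 (iv1 F85982) (iv4 F190298) D153542 D213335 (iv4 D179757) D179756 F279979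
def n213336 : Q := act 4 n153544
theorem D213336 : act 4 n153544 = n213336 := rfl
theorem F469979 : act 2 n213336 = n203198 := d1_1 D213336 F427386 F280233
theorem F469980 : act 7 n213336 = n203199 := d11_2 F280242 D213336 F427387
theorem F469981 : act 0 n213336 = n203202 := d18_2 D153544 D213336 F427390 F185742 F85998 F85989 (iv4 F190295) (iv0 D72596) D72598
theorem F469982 : act 1 n213336 = n203176 := d18_6 (iv1 F237241) F131713 D85952 D179891 F280155 D213336 (iv4 D203176) (iv0 F427273) (iv5 D203167)
theorem F469983 : act 3 n213336 = n209754 := d19_3 (iv1 F280156) F280155 D213336 (iv1 F462471) F462469 (iv4 F386321) F386320 F329709 F222669 (iv4 F384762) (iv3 D191375) D191373 F383245 (iv4 D179822) D179821 (iv1 F434323) (iv5 D204952) (iv4 F434308) F434307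
theorem F469984 : act 5 n209752 = n213336 := d6_0 F469983 (iv5 D209754) D209752
theorem F469985 : act 6 n190984 = n213336 := d7_0 F469983 F454839 (iv3 F381801)
theorem F469986 : act 0 n211462 = n209752 := d19_0 F469984 (iv4 D213336) (iv3 F383240) (iv1 F389893) F389895 F320010 F132046 (iv1 F317784) (iv5 F319788) F56360 (iv3 F56320) F297217 F36005 F31218 (iv3 F59043) D82960 D173356 (iv4 F385744) (iv3 F461647)
def n213337 : Q := act 6 n153544
theorem D213337 : act 6 n153544 = n213337 := rfl
theorem F469987 : act 4 n213337 = n190984 := d10_1 D213337 F469985 (iv4 D213336)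
theorem F469988 : act 7 n213337 = n209762 := d14_2 F280242 D213337 (iv6 D209762) (iv7 F221438) F365826
def n213338 : Q := act 4 n153545
theorem D213338 : act 4 n153545 = n213338 := rfl
theorem F469989 : act 2 n213338 = n203199 := d1_1 D213338 F427387 F280241
theorem F469990 : act 3 n213338 = n210787 := d5_1 D213338 F458786 F384299 (iv4 D186883) F362741
theorem F469991 : act 6 n213338 = n209711 := d10_2 (iv6 F365825) D213338 F454711
theorem F469992 : act 7 n213338 = n203198 := d11_2 F280234 D213338 F427386
theorem F469993 : act 0 n213338 = n203176 := d18_2 (iv1 F388426) D213338 (iv4 D203176) (iv5 D118172) F85981 D54441 (iv4 F190298) F155740 (iv5 F388425)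
theorem F469994 : act 1 n213338 = n203202 := d18_6 (iv1 D124151) F304461 (iv1 F155242) (iv4 F321085) F321086 D213338 F427390 F427316 F427312
theorem F469995 : act 5 n210786 = n213338 := d18_9 F469993 (iv4 D203176) D203175 (iv4 F454690) (iv5 D209706) D209705 F454685 D211462 (iv0 F461649)
def n213339 : Q := act 5 n153546
theorem D213339 : act 5 n153546 = n213339 := rfl
theorem F469996 : act 2 n213339 = n209277 := d2_1 D213339 F453013 F388422
theorem F469997 : act 3 n213339 = n192195 := d6_1 D213339 F385952 F463704
theorem F469998 : act 6 n213339 = n192194 := d12_2 (iv6 F466850) D213339 F385945 (iv6 F349473) D212642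
theorem F469999 : act 4 n213339 = n195508 := d16_2 D153546 D213339 (iv5 F469907) F469906 F241304 (iv4 F155738) (iv5 F388425) (iv7 D192984) F155735
theorem F470000 : act 0 n209293 = n213339 := d21_10 (iv5 D213339) (iv1 F451863) F454679 F454677 F377073 (iv6 F383606) (iv5 D191507) (iv1 F366234) (iv5 F351865) D209293
theorem F470001 : act 7 n209535 = n213339 := d11_0 F469999 F469900 F469902
def n213340 : Q := act 7 n153546
theorem D213340 : act 7 n153546 = n213340 := rfl
theorem F470002 : act 4 n213340 = n153547 := d11_1 D213340 (iv7 D153547) D153546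
theorem F470003 : act 5 n213340 = n209535 := d13_1 D213340 F470001 (iv5 D213339)
theorem F470004 : act 0 n209706 = n213340 := d17_2 (iv1 D209703) D209706 F470003 (iv4 F469902) (iv5 D213319) F241301 D203224 (iv0 F462073) (iv4 F462075)
def n213341 : Q := act 6 n153547
theorem D213341 : act 6 n153547 = n213341 := rfl
theorem F470005 : act 3 n213341 = n160114 := d7_1 D213341 (iv6 F387139) F387138
theorem F470006 : act 5 n213341 = n160107 := d12_1 D213341 (iv6 D160107) F304609 F190635 (iv5 F241343)
theorem F470007 : act 0 n203079 = n213341 := d21_4 (iv5 D208530) (iv1 D134549) D134550 (iv6 F426897) (iv6 D213341) F241343 (iv1 F190169) D118234 D203217 (iv1 F449750)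
theorem F470008 : act 1 n203076 = n213341 := d17_6 F348684 F364631 (iv1 F424586) (iv5 F425985) (iv4 F425987) D203076 F470006 (iv0 F393555) (iv4 D194520)
def n213342 : Q := act 3 n153562
theorem D213342 : act 3 n153562 = n213342 := rfl
theorem F470009 : act 4 n213342 = n193652 := d5_2 (iv4 F241378) D213342 (iv3 F414388) F414390 (iv3 F385524)
theorem F470010 : act 6 n213342 = n211953 := d7_2 F366582 D213342 (iv3 D211953)
theorem F470011 : act 7 n213342 = n203223 := d8_2 (iv7 F241379) D213342 (iv3 D203223)
theorem F470012 : act 0 n205992 = n213342 := d20_4 F111069 D74223 (iv4 F204164) D205992 (iv3 D213342) F241378 (iv1 F185701) (iv4 F185778) (iv3 F319577) F167091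
theorem F470013 : act 5 n213342 = n205027 := d19_1 F470012 F434676 (iv3 D139765) (iv1 F221772) D210385 F457324 F313497 (iv1 F428069) F428071 F346254 F353146 F220695 F209161 F95738 (iv3 F95705) (iv1 F99716) (iv5 F111071) (iv4 F204164) D205992
theorem F470014 : act 2 n211933 = n213342 := d2_3 F470013 F434675 D211933
def n213343 : Q := act 5 n153562
theorem D213343 : act 5 n153562 = n213343 := rfl
theorem F470015 : act 2 n213343 = n203221 := d2_1 D213343 (iv5 D203221) F241377
theorem F470016 : act 3 n213343 = n205027 := d6_1 D213343 (iv5 F470013) (iv3 D213342)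
theorem F470017 : act 6 n213343 = n205026 := d12_2 F366582 D213343 F434673 F404158 F390760
theorem F470018 : act 7 n213343 = n203224 := d13_2 (iv7 F241379) D213343 (iv5 D203224)
theorem F470019 : act 4 n213343 = n210786 := d16_2 (iv4 F241378) D213343 F469995 (iv4 D213338) (iv5 F321086) F321085 D118110 (iv7 F185572) F185698
def n213344 : Q := act 5 n153563
theorem D213344 : act 5 n153563 = n213344 := rfl
theorem F470020 : act 2 n213344 = n203224 := d2_1 D213344 (iv5 D203224) F241374
theorem F470021 : act 3 n213344 = n197302 := d6_1 D213344 (iv5 D197302) (iv3 F366511)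
theorem F470022 : act 4 n213344 = n209752 := d9_1 D213344 F469984 (iv4 D213336) (iv5 F280155) (iv4 D179891) (iv5 F185699) (iv4 F241378) D213343 F470019 F469995 (iv4 D213338) (iv5 F321086) F321085 D118110 (iv4 F241373)
theorem F470023 : act 6 n213344 = n197299 := d12_2 F312676 D213344 (iv5 D197299) (iv6 D108080) D108079
theorem F470024 : act 7 n213344 = n203221 := d13_2 F241376 D213344 (iv5 D203221)
def n213345 : Q := act 0 n153564
theorem D213345 : act 0 n153564 = n213345 := rfl
def n213346 : Q := act 1 n153564
theorem D213346 : act 1 n153564 = n213346 := rfl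
def n213347 : Q := act 2 n153564
theorem D213347 : act 2 n153564 = n213347 := rfl
theorem F470025 : act 3 n213347 = n205995 := d0_2 D153564 D213347 F469893 (iv3 D213318) F241299
theorem F470026 : act 4 n213347 = n153699 := d1_2 (iv4 F241381) D213347 (iv2 D153699)
theorem F470027 : act 6 n213347 = n153578 := d3_2 (iv6 F241382) D213347 (iv2 D153578)
theorem F470028 : act 7 n198234 = n213347 := d14_0 F470027 (iv7 F436706) F436705 (iv7 D198238) (iv6 F407298)
theorem F470029 : act 1 n213346 = n198234 := d15_1 D213346 F470028 (iv2 D213347)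
theorem F470030 : act 5 n211916 = n213346 := d17_7 (iv1 F360103) (iv5 D140625) (iv1 D65984) D65985 D140629 F405737 F463571 F470029 (iv4 D198234)
theorem F470031 : act 3 n213346 = n211917 := d6_1 F470030 (iv5 D211917) D211916
theorem F470032 : act 7 n213346 = n211941 := d13_2 (iv7 F463570) F470030 (iv5 D211941)
theorem F470033 : act 2 n211941 = n213345 := d15_3 (iv0 D213345) D213346 F470032
theorem F470034 : act 5 n213345 = n197413 := d2_2 D211941 F470033 F404185
theorem F470035 : act 3 n197416 = n213345 := d6_3 F470034 F404186 D197416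
theorem F470036 : act 0 n213345 = n198234 := d21_1 (iv5 F470034) (iv5 F407300) (iv6 D196599) F360522 (iv6 D105613) D105612 D195466 (iv5 F401187) D196593 F404188
theorem F470037 : act 1 n211941 = n213347 := d17_8 (iv1 F459360) (iv5 D210934) (iv1 F223485) (iv5 F223730) (iv4 F459989) (iv5 F463661) (iv0 D211940) D211941 F470026
def n213348 : Q := act 5 n153564
theorem D213348 : act 5 n153564 = n213348 := rfl
theorem F470038 : act 3 n213348 = n153565 := d6_1 D213348 (iv5 D153565) D153564
theorem F470039 : act 4 n213348 = n211399 := d16_2 (iv4 F241381) D213348 (iv5 D211399) (iv4 D141948) (iv5 D66539) (iv4 F79740) D109067 (iv7 F331107) (iv2 D153699)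
theorem F470040 : act 1 n213348 = n211085 := d17_6 F351240 (iv5 F351237) (iv1 F331091) (iv5 D153700) (iv4 F241381) D213348 (iv5 F463676) F463682 (iv4 D210936)
theorem F470041 : act 6 n209653 = n213348 := d21_5 (iv5 F358807) (iv1 F220003) (iv5 F220005) (iv6 F219989) D209653 (iv5 D213348) D213345 F470034 (iv6 D197413) (iv1 F245166)
def n213349 : Q := act 7 n153564
theorem D213349 : act 7 n153564 = n213349 := rfl
theorem F470042 : act 2 n213349 = n198234 := d4_1 D213349 F470028 (iv2 D213347)
theorem F470043 : act 3 n213349 = n153566 := d8_1 D213349 (iv7 D153566) D153564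
theorem F470044 : act 4 n213349 = n153701 := d11_1 D213349 (iv7 D153701) (iv4 F241381)
theorem F470045 : act 6 n197775 = n213349 := d10_0 F470044 F331110 D197775
theorem F470046 : act 0 n211941 = n213349 := d20_4 (iv4 F438416) (iv1 F463675) (iv4 D211943) (iv3 F463664) F470043 F241383 (iv1 F241291) (iv4 F427332) (iv3 F458065) F458069
def n213350 : Q := act 1 n153565
theorem D213350 : act 1 n153565 = n213350 := rfl
theorem F470047 : act 1 n213350 = n195508 := d15_1 D213350 F469900 F469895
theorem F470048 : act 7 n213350 = n203212 := d15_2 F397353 D213350 F427428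
theorem F470049 : act 5 n213350 = n179937 := d17_7 (iv1 F241348) (iv5 D72608) (iv1 D33511) D33512 D72612 D153565 D213350 F397352 F397351
theorem F470050 : act 2 n203220 = n213350 := d2_3 F470049 F280245 D203220
def n213351 : Q := act 4 n153565
theorem D213351 : act 4 n153565 = n213351 := rfl
theorem F470051 : act 2 n213351 = n209535 := d1_1 D213351 (iv4 F469902) F469895
theorem F470052 : act 6 n213351 = n209521 := d10_2 (iv6 F469901) D213351 F464128
theorem F470053 : act 0 n213351 = n209293 := d18_2 (iv1 D213350) D213351 F453073 F427476 F323261 F322378 D142901 F356233 (iv5 F470049)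
theorem F470054 : act 7 n213351 = n209277 := d15_2 (iv0 F470000) (iv0 F470053) (iv2 F469996)
def n213352 : Q := act 7 n153565
theorem D213352 : act 7 n153565 = n213352 := rfl
theorem F470055 : act 2 n213352 = n195508 := d4_1 D213352 F469900 F469895
theorem F470056 : act 4 n213352 = n209277 := d11_1 D213352 (iv7 F470054) (iv4 D213351)
theorem F470057 : act 5 n213352 = n153566 := d13_1 D213352 (iv7 D153566) D153565
theorem F470058 : act 6 n213352 = n195507 := d14_1 D213352 (iv7 F414221) (iv6 F454075) (iv7 F464127) (iv6 F469901)
theorem F470059 : act 1 n203220 = n213352 := d15_1 F469898 (iv7 D213352) (iv2 F469895)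
theorem F470060 : act 1 n213352 = n203212 := d15_1 F470059 (iv7 F470048) (iv2 F470050)
def n213353 : Q := act 6 n153566
theorem D213353 : act 6 n153566 = n213353 := rfl
theorem F470061 : act 2 n213353 = n211921 := d3_1 D213353 (iv6 F469908) F469904
theorem F470062 : act 3 n213353 = n197775 := d7_1 D213353 F470045 F470043
theorem F470063 : act 4 n213353 = n153567 := d10_1 D213353 (iv6 D153567) (iv4 F241383)
theorem F470064 : act 5 n213353 = n197435 := d12_1 D213353 F404301 (iv5 F397185) (iv6 F470058) F470057
theorem F470065 : act 7 n213353 = n153584 := d14_2 D153566 D213353 (iv6 D153584) (iv7 D72619) (iv6 F109138)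
theorem F470066 : act 0 n203259 = n213353 := d21_4 (iv5 F396768) (iv1 F396769) (iv5 F446750) F446751 (iv6 D213353) (iv5 F470057) (iv1 F470059) (iv5 D203220) F396829 F396827
theorem F470067 : act 1 n203261 = n213353 := d15_0 (iv0 F470066) F427548 (iv2 F427551)
def n213354 : Q := act 4 n153568
theorem D213354 : act 4 n153568 = n213354 := rfl
theorem F470068 : act 2 n213354 = n197495 := d1_1 D213354 (iv4 F404558) F363421
theorem F470069 : act 3 n213354 = n211091 := d5_1 D213354 F460066 F350191 (iv4 D153719) (iv3 F360666)
theorem F470070 : act 7 n213354 = n197494 := d11_2 F363427 D213354 F404554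
theorem F470071 : act 0 n213354 = n197489 := d18_2 D153568 D213354 F404533 (iv5 F317347) (iv4 F227945) F426006 F426003 (iv0 D145889) (iv5 F109141)
theorem F470072 : act 1 n213354 = n197497 := d18_6 F205368 (iv4 F319324) F393630 F393627 (iv5 F340737) D213354 F404561 F317367 (iv5 F319598)
theorem F470073 : act 6 n213354 = n197441 := d21_5 (iv5 F236064) (iv1 F241394) F241396 (iv6 F404562) (iv1 F470072) F404326 F402145 F351848 F318711 (iv1 F228063)
def n213355 : Q := act 6 n153568
theorem D213355 : act 6 n153568 = n213355 := rfl
theorem F470074 : act 2 n213355 = n210465 := d3_1 D213355 (iv6 D210465) F363421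
theorem F470075 : act 3 n213355 = n153721 := d7_1 D213355 (iv6 D153721) (iv3 F360666)
theorem F470076 : act 4 n213355 = n197441 := d10_1 D213355 (iv6 F470073) (iv4 D213354)
theorem F470077 : act 5 n213355 = n203391 := d12_1 D213355 (iv6 F462151) (iv5 D211562) F340736 (iv5 F340737)
theorem F470078 : act 7 n213355 = n204950 := d14_2 F363427 D213355 F434313 F322361 (iv6 F363426)
theorem F470079 : act 0 n213355 = n211157 := d21_4 (iv5 F393649) (iv1 D194540) (iv5 F340737) D213355 F466510 (iv5 F468629) F468630 F447671 (iv6 F420846) (iv1 F420843)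
theorem F470080 : act 0 n210489 = n213355 := d21_1 F460369 F470077 (iv6 F462151) F462149 F364528 (iv5 F393649) (iv1 D194540) (iv5 F340737) D213355 F470079
def n213356 : Q := act 5 n153576
theorem D213356 : act 5 n153576 = n213356 := rfl
theorem F470081 : act 3 n213356 = n209657 := d6_1 D213356 F454521 (iv3 F244901)
def n213357 : Q := act 5 n153577
theorem D213357 : act 5 n153577 = n213357 := rfl
theorem F470082 : act 3 n213357 = n212808 := d6_1 D213357 F467587 F386675
theorem F470083 : act 6 n213357 = n212807 := d12_2 F436637 D213357 (iv5 D212807) (iv6 F462129) F462128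
def n213358 : Q := act 5 n153578
theorem D213358 : act 5 n153578 = n213358 := rfl
theorem F470084 : act 2 n213358 = n153579 := d2_1 D213358 (iv5 D153579) D153578
theorem F470085 : act 3 n213358 = n212816 := d6_1 D213358 (iv5 F469923) F469917
def n213359 : Q := act 0 n153579
theorem D213359 : act 0 n153579 = n213359 := rfl
theorem F470086 : act 3 n213359 = n198398 := d20_5 (iv4 F185826) (iv1 F241402) (iv4 D153582) (iv3 F241391) D213359 (iv4 D198398) D198397 F407878 F244882 (iv1 F185824)
theorem F470087 : act 5 n212804 = n213359 := d6_0 F470086 F407880 (iv3 F467584)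
def n213360 : Q := act 1 n153579
theorem D213360 : act 1 n153579 = n213360 := rfl
def n213361 : Q := act 4 n153579
theorem D213361 : act 4 n153579 = n213361 := rfl
def n213362 : Q := act 6 n153579
theorem D213362 : act 6 n153579 = n213362 := rfl
theorem F470088 : act 3 n213362 = n153583 := d7_1 D213362 (iv6 D153583) (iv3 F241391)
theorem F470089 : act 5 n213362 = n209653 := d12_1 D213362 F470041 (iv5 D213348) F241382 D153579
def n213363 : Q := act 7 n153579
theorem D213363 : act 7 n153579 = n213363 := rfl
theorem F470090 : act 3 n213363 = n153582 := d8_1 D213363 F241403 (iv3 F241391)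
theorem F470091 : act 5 n213363 = n153580 := d13_1 D213363 (iv7 D153580) D153579
def n213364 : Q := act 6 n153580
theorem D213364 : act 6 n153580 = n213364 := rfl
theorem F470092 : act 2 n213364 = n198238 := d3_1 D213364 (iv6 F436705) F436704
theorem F470093 : act 3 n213364 = n153584 := d7_1 D213364 (iv6 D153584) (iv3 F241392)
theorem F470094 : act 4 n213364 = n153780 := d10_1 D213364 (iv6 D153780) (iv4 F241393)
theorem F470095 : act 7 n213364 = n197775 := d14_2 D153580 D213364 F470045 (iv7 D213349) F241382
theorem F470096 : act 5 n213364 = n210370 := d21_6 F459404 (iv1 F407007) F407005 D211103 (iv1 F460110) D213364 F457238 (iv5 F460060) (iv6 D211088) (iv1 F459406)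
theorem F470097 : act 0 n198236 = n213364 := d17_0 F470096 F457238 (iv5 F460060) F460059 F402014 F168514 (iv5 F168961) F405623 (iv4 F407304)
theorem F470098 : act 1 n198237 = n213364 := d17_6 (iv1 F223762) (iv5 D66002) F100431 D108846 D197997 F407310 F470096 F457239 F401203
def n213365 : Q := act 3 n153581
theorem D213365 : act 3 n153581 = n213365 := rfl
theorem F470099 : act 5 n213365 = n197355 := d6_2 (iv5 F241396) D213365 F404020
theorem F470100 : act 7 n213365 = n197354 := d8_2 (iv7 F241395) D213365 F404018
def n213366 : Q := act 6 n153581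
theorem D213366 : act 6 n153581 = n213366 := rfl
theorem F470101 : act 2 n213366 = n203236 := d3_1 D213366 (iv6 D203236) F241398
theorem F470102 : act 4 n213366 = n212801 := d10_1 D213366 (iv6 D212801) (iv4 F241397)
def n213367 : Q := act 6 n153582
theorem D213367 : act 6 n153582 = n213367 := rfl
theorem F470103 : act 2 n213367 = n211993 := d3_1 D213367 (iv6 F464083) (iv2 F241399)
theorem F470104 : act 4 n213367 = n153583 := d10_1 D213367 (iv6 D153583) D153582
theorem F470105 : act 5 n213367 = n211992 := d12_1 D213367 F463848 F357030 (iv6 D153584) (iv5 F241400)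
def n213368 : Q := act 0 n153583
theorem D213368 : act 0 n153583 = n213368 := rfl
def n213369 : Q := act 7 n153583
theorem D213369 : act 7 n153583 = n213369 := rfl
theorem F470106 : act 5 n213369 = n209537 := d13_1 D213369 (iv7 F464127) F469903
theorem F470107 : act 1 n203249 = n213369 := d15_1 (iv0 F469932) (iv7 D213369) (iv2 F469929)
def n213370 : Q := act 6 n153592
theorem D213370 : act 6 n153592 = n213370 := rfl
theorem F470108 : act 3 n213370 = n158324 := d7_1 D213370 (iv6 D158324) (iv3 F354018)
theorem F470109 : act 4 n213370 = n186875 := d10_1 D213370 (iv6 D186875) (iv4 F354019)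
theorem F470110 : act 0 n213370 = n162718 := d21_4 D208911 F451373 F431970 D213370 (iv6 D162718) (iv5 D78192) (iv1 F117743) D83110 D173804 F357878
theorem F470111 : act 5 n213370 = n206317 := d21_6 (iv5 F306539) F306537 (iv5 F152395) D191720 (iv1 F384260) D213370 (iv1 D206317) (iv5 D128240) F303517 F86864
def n213371 : Q := act 4 n153593
theorem D213371 : act 4 n153593 = n213371 := rfl
theorem F470112 : act 2 n213371 = n205051 := d1_1 D213371 (iv4 D205051) F353909
theorem F470113 : act 3 n213371 = n170817 := d5_1 D213371 (iv4 F380566) F380563 F358725 (iv3 F241417)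
theorem F470114 : act 5 n213371 = n192437 := d16_7 F386717 (iv5 F384879) (iv4 F368858) (iv5 D153362) (iv4 F109160) D153593 D213371 (iv7 F386944) F386942
theorem F470115 : act 0 n213371 = n180178 := d18_2 F347504 D213371 (iv4 D180178) (iv5 F333767) D207097 (iv0 F443304) F434222 (iv0 D203835) (iv5 F347503)
theorem F470116 : act 1 n213371 = n180183 := d18_6 D45913 D98235 F304714 (iv4 F109160) D153593 D213371 (iv4 D180183) F324243 (iv5 D45915)
def n213372 : Q := act 5 n153610
theorem D213372 : act 5 n153610 = n213372 := rfl
theorem F470117 : act 2 n213372 = n193321 := d2_1 D213372 F389452 F322946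
theorem F470118 : act 3 n213372 = n211440 := d6_1 D213372 (iv5 D211440) F366179
theorem F470119 : act 4 n213372 = n190889 := d9_1 D213372 F381458 (iv4 F323497) (iv5 D153598) (iv4 D72631) F322147 (iv4 F181996) D202728 F425308 (iv5 F381464) (iv4 F302236) F321727 (iv4 D72636) D72637 D153610
theorem F470120 : act 7 n213372 = n193322 := d13_2 F348344 D213372 F389456
theorem F470121 : act 0 n213372 = n193323 := d17_2 F319305 D213372 F389463 (iv4 D127928) (iv5 D60101) (iv0 F188308) (iv5 F316882) F102561 D142067
theorem F470122 : act 1 n213372 = n190894 := d17_6 (iv1 F110072) F110069 (iv1 F108900) D72637 D153610 D213372 F381478 F352708 (iv4 D153613)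
def n213373 : Q := act 3 n153613
theorem D213373 : act 3 n153613 = n213373 := rfl
theorem F470123 : act 4 n213373 = n210118 := d5_2 D153613 D213373 F456238 (iv4 D152321) (iv3 F190918)
theorem F470124 : act 5 n213373 = n197957 := d6_2 F461616 D213373 F461620
theorem F470125 : act 6 n213373 = n197735 := d7_2 F350086 D213373 F405577
theorem F470126 : act 7 n213373 = n204770 := d8_2 (iv7 F241476) D213373 F436688
theorem F470127 : act 2 n213373 = n198046 := d15_3 (iv0 F409193) (iv0 F469674) (iv7 F470126)
def n213374 : Q := act 6 n153620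
theorem D213374 : act 6 n153620 = n213374 := rfl
theorem F470128 : act 2 n213374 = n206268 := d3_1 D213374 (iv6 D206268) (iv2 F241497)
theorem F470129 : act 4 n213374 = n153757 := d10_1 D213374 (iv6 D153757) (iv4 F241498)
theorem F470130 : act 5 n213374 = n194523 := d12_1 D213374 F393573 F348833 F320493 D153620
theorem F470131 : act 0 n213374 = n198110 := d21_4 (iv5 D127949) F109171 D153620 D213374 (iv6 D198110) (iv5 F172885) (iv1 F409187) (iv5 F409174) (iv6 D147931) (iv1 F205903)
def n213375 : Q := act 6 n153624
theorem D213375 : act 6 n153624 = n213375 := rfl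
theorem F470132 : act 2 n213375 = n211057 := d3_1 D213375 (iv6 F459941) (iv2 F399023)
theorem F470133 : act 4 n213375 = n192909 := d10_1 D213375 F388189 F371621
theorem F470134 : act 7 n213375 = n211029 := d14_2 F399022 D213375 (iv6 D211029) (iv7 F401042) (iv6 F401045)
theorem F470135 : act 5 n174497 = n213375 := d21_8 F242843 (iv1 F178081) D201282 F419843 F466445 F466442 F464776 (iv1 F273910) (iv6 D213375) (iv1 F242845)
theorem F470136 : act 0 n213375 = n211058 := d17_2 (iv1 F273910) F470135 F459931 (iv4 D193427) (iv5 D101656) (iv0 F311764) F271843 F271841 (iv4 F273909)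
theorem F470137 : act 1 n213375 = n211042 := d17_6 (iv1 F386475) F386477 F184679 F184678 D174497 F470135 F459861 (iv0 F386566) (iv4 D192361)
def n213376 : Q := act 0 n153627
theorem D213376 : act 0 n153627 = n213376 := rfl
theorem F470138 : act 1 n198261 = n213376 := d15_0 (iv0 D213376) (iv7 F375257) (iv2 F407372)
theorem F470139 : act 3 n197969 = n213376 := d19_19 (iv1 F470138) F407375 F379048 (iv3 F381417) (iv1 D163289) (iv5 F297237) F249013 F292425 (iv1 F364665) F147693 D190456 (iv3 F380006) (iv1 F451701) F451697 (iv4 F406306) (iv3 D197966) (iv1 D108807) D108809 D197969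
theorem F470140 : act 6 n213376 = n199809 := d7_2 (iv6 F406321) F470139 (iv3 D199809)
def n213377 : Q := act 1 n153627
theorem D213377 : act 1 n153627 = n213377 := rfl
theorem F470141 : act 1 n213377 = n198261 := d15_1 D213377 F407374 F242870
def n213378 : Q := act 4 n153632
theorem D213378 : act 4 n153632 = n213378 := rfl
theorem F470142 : act 2 n213378 = n191476 := d1_1 D213378 F384375 (iv2 F366800)
theorem F470143 : act 5 n213378 = n186940 := d9_2 D153632 D213378 F368601 (iv5 F383538) F384375 F280038 F301705 D122414 F384373 (iv5 D98381) (iv4 F151809) D191468 (iv4 F386379) (iv5 D192309) F307491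
theorem F470144 : act 7 n213378 = n191468 := d11_2 F386378 D213378 (iv4 F386379)
theorem F470145 : act 0 n213378 = n191474 := d17_0 (iv5 F383536) F289868 D192292 F387147 (iv5 F387144) (iv0 F431627) (iv5 F431628) F430818 D213378
theorem F470146 : act 1 n213378 = n191473 := d18_6 (iv1 D192575) F154466 (iv1 F307489) F307491 D153632 D213378 F427404 F427406 F387136
theorem F470147 : act 3 n213378 = n185369 := d19_3 D72649 D153632 D213378 (iv1 D185369) (iv5 D88311) (iv4 F73587) F73586 (iv1 F35436) D47556 (iv4 F156965) F382174 (iv1 D191088) (iv5 F337158) F337150 F190603 (iv1 D33547) (iv5 D16205) (iv4 F25762) (iv3 F52848)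
theorem F470148 : act 6 n212904 = n213378 := d14_5 F470144 (iv6 F427308) F427309 (iv6 F238050) D212904
def n213379 : Q := act 6 n153632
theorem D213379 : act 6 n153632 = n213379 := rfl
theorem F470149 : act 3 n213379 = n191448 := d7_1 D213379 (iv6 D191448) F366798
theorem F470150 : act 4 n213379 = n212904 := d10_1 D213379 F470148 (iv4 D213378)
theorem F470151 : act 7 n213379 = n212903 := d14_2 F386378 D213379 F468045 F431081 F421395
theorem F470152 : act 0 n213379 = n187015 := d21_4 (iv5 D72651) D72649 D153632 D213379 (iv6 F460630) (iv5 D211212) F348144 (iv5 F430835) (iv6 D204019) F304685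
theorem F470153 : act 0 n208432 = n213379 := d21_4 (iv5 F290951) F290949 (iv5 F283689) (iv6 F449338) (iv6 D213379) (iv5 D153632) F304489 D98856 F152412 D98859
def n213380 : Q := act 4 n153634
theorem D213380 : act 4 n153634 = n213380 := rfl
theorem F470154 : act 2 n213380 = n192292 := d1_1 D213380 F387147 (iv2 F387146)
theorem F470155 : act 3 n213380 = n185435 := d5_1 D213380 (iv4 F426190) F426189 F368416 (iv3 F368417)
theorem F470156 : act 5 n213380 = n185434 := d16_1 D213380 (iv4 F289867) D192292 F387147 (iv5 F387144) F198616 (iv5 F195865) (iv7 F387143) (iv2 F387146)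
theorem F470157 : act 0 n213380 = n191471 := d17_0 (iv5 D191471) (iv1 D98380) D98381 (iv4 F384373) (iv5 D122414) F304678 D98856 F366923 D213380
theorem F470158 : act 1 n213380 = n191469 := d18_8 F368605 F368601 F353211 (iv4 D181945) D181946 (iv4 F363127) F366923 D213380 (iv5 D191469)
def n213381 : Q := act 6 n153634
theorem D213381 : act 6 n153634 = n213381 := rfl
theorem F470159 : act 3 n213381 = n191450 := d7_1 D213381 (iv6 D191450) (iv3 F368417)
def n213382 : Q := act 3 n153636
theorem D213382 : act 3 n153636 = n213382 := rfl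
theorem F470160 : act 4 n213382 = n153677 := d5_2 D153636 D213382 (iv3 D153677) (iv4 D72669) (iv3 F109180)
theorem F470161 : act 5 n213382 = n159747 := d6_2 (iv5 F363130) D213382 F251694
theorem F470162 : act 6 n213382 = n211632 := d7_2 F385510 D213382 (iv3 F462460)
theorem F470163 : act 7 n213382 = n189285 := d8_2 (iv7 F363131) D213382 F376329
theorem F470164 : act 2 n189280 = n213382 := d3_3 F470162 (iv2 F462459) F454839
def n213383 : Q := act 5 n153639
theorem D213383 : act 5 n153639 = n213383 := rfl
theorem F470165 : act 3 n213383 = n153641 := d6_1 D213383 (iv5 D153641) D153639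
theorem F470166 : act 6 n213383 = n191436 := d12_2 (iv6 F348677) D213383 F457074 (iv6 D210334) F348678
theorem F470167 : act 4 n191437 = n213383 := d16_0 (iv5 D213383) F348676 F318400 (iv4 F221880) (iv5 F363546) F287751 (iv5 F283651) (iv7 F287643) (iv2 F383487)
def n213384 : Q := act 0 n153641
theorem D213384 : act 0 n153641 = n213384 := rfl
theorem F470168 : act 5 n213384 = n213292 := d21_2 D153641 D213384 (iv6 D213292) (iv1 D153307) (iv6 D72430) (iv5 D33438) (iv1 F25698) D16201 D33531 D72653
theorem F470169 : act 1 n153646 = n213384 := d15_0 (iv0 D213384) (iv7 F469804) F469802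
theorem F470170 : act 3 n186876 = n213384 := d19_19 (iv1 F470169) (iv5 D153646) D153645 (iv3 F356774) F240602 (iv5 F334574) (iv4 F262995) F262994 F306881 (iv5 F316473) F113954 D120097 F307171 (iv5 D86959) F61458 (iv3 F31405) D41725 D89341 D186876
theorem F470171 : act 4 n213384 = n189198 := d5_2 D186876 F470170 (iv3 F386947) F386948 F368395
theorem F470172 : act 7 n213384 = n189197 := d8_2 F388123 F470170 (iv3 F388121)
def n213385 : Q := act 1 n153641
theorem D213385 : act 1 n153641 = n213385 := rfl
theorem F470173 : act 1 n213385 = n153646 := d15_1 D213385 (iv7 F469794) F469793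
theorem F470174 : act 5 n212786 = n213385 := d21_6 F440175 (iv1 F393063) (iv5 D154103) D154104 (iv1 F369446) (iv6 F467502) (iv1 D213385) (iv5 D153641) D153642 F440176
theorem F470175 : act 6 n182160 = n213385 := d21_9 (iv5 D153641) (iv1 F240947) (iv5 F366699) (iv6 D182226) F133541 F329949 F135243 (iv1 F146165) (iv5 F283612) (iv1 D213385)
theorem F470176 : act 2 n213385 = n189197 := d3_1 F470175 F376034 (iv2 F283611)
theorem F470177 : act 3 n213385 = n212787 := d7_1 F470175 F467509 F431105
theorem F470178 : act 4 n213385 = n182161 := d10_1 F470175 (iv6 D182161) D182160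
def n213386 : Q := act 4 n153641
theorem D213386 : act 4 n153641 = n213386 := rfl
theorem F470179 : act 1 n213386 = n182247 := d18_8 D184328 (iv4 F358769) (iv1 F273270) (iv4 F358752) (iv5 F376035) (iv4 F470171) (iv0 D213384) D213386 F283688
theorem F470180 : act 6 n213386 = n213299 := d21_5 (iv5 D41223) (iv1 F63248) (iv5 F133545) D182247 (iv1 F470179) (iv5 D213299) (iv1 F240948) (iv5 F241526) F314205 (iv1 D88326)
def n213387 : Q := act 6 n153641
theorem D213387 : act 6 n153641 = n213387 := rfl
theorem F470181 : act 2 n213387 = n213386 := d3_1 D213387 F470180 F469793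
theorem F470182 : act 3 n213387 = n191436 := d7_1 D213387 (iv6 F470166) F470165
theorem F470183 : act 4 n213387 = n213299 := d10_1 D213387 (iv6 F470180) (iv4 D213386)
theorem F470184 : act 0 n185429 = n213387 := d21_4 (iv5 D41258) (iv1 F62451) D88335 D185429 (iv6 D213387) (iv5 D153641) (iv1 F240947) (iv5 F366699) (iv6 D182226) F133541
def n213388 : Q := act 4 n153646
theorem D213388 : act 4 n153646 = n213388 := rfl
theorem F470185 : act 3 n213388 = n210654 := d5_1 D213388 F458350 F383437 (iv4 F467028) F467027
theorem F470186 : act 7 n213388 = n213387 := d11_2 F469794 D213388 F470183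
theorem F470187 : act 5 n213388 = n210652 := d16_1 D213388 F458343 F343427 (iv4 F263216) (iv5 F348671) (iv4 D153640) D153641 (iv7 F469804) F469802
theorem F470188 : act 6 n206221 = n213388 := d12_0 F470187 (iv6 F458347) F439781 (iv6 D206222) D206221
theorem F470189 : act 1 n182247 = n213388 := d17_6 (iv1 F403076) F403073 F447357 F447354 F329895 (iv5 F283688) F470187 (iv0 F458345) F341134
def n213389 : Q := act 6 n153646
theorem D213389 : act 6 n153646 = n213389 := rfl
theorem F470190 : act 2 n213389 = n201334 := d3_1 D213389 (iv6 F469803) F469802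
theorem F470191 : act 4 n213389 = n206221 := d10_1 D213389 F470188 (iv4 D213388)
theorem F470192 : act 5 n213389 = n195782 := d12_1 D213389 F467021 (iv5 D212678) F356775 D153646
theorem F470193 : act 7 n195840 = n213389 := d13_0 F470192 F398153 D195840
def n213390 : Q := act 3 n153648
theorem D213390 : act 3 n153648 = n213390 := rfl
theorem F470194 : act 7 n213390 = n203101 := d8_2 F469813 D213390 F469816
theorem F470195 : act 2 n203098 = n213390 := d4_3 F470194 (iv2 F449478) F449481
theorem F470196 : act 5 n202964 = n213390 := d13_3 F470194 (iv5 D203101) (iv7 F426408)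
theorem F470197 : act 1 n213390 = n212898 := d17_6 (iv1 F426239) (iv5 F349390) (iv1 F222859) (iv5 F316828) D202964 F470196 (iv5 D212898) (iv0 F465717) F465715
def n213391 : Q := act 5 n153648
theorem D213391 : act 5 n153648 = n213391 := rfl
theorem F470198 : act 3 n213391 = n202964 := d6_1 D213391 F470196 (iv3 D213390)
theorem F470199 : act 4 n213391 = n174316 := d9_1 D213391 F273111 F128419 (iv5 F128505) (iv4 F273334) F432314 F432313 (iv5 F242011) (iv4 F349796) (iv5 D174298) F128415 D83364 D174399 (iv5 F358776) (iv4 F358779)
theorem F470200 : act 7 n213391 = n174315 := d13_2 F469813 D213391 (iv5 F469814)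
theorem F470201 : act 0 n203030 = n213391 := d21_10 (iv5 D213391) (iv1 F366701) F366699 (iv6 D153387) (iv1 F309577) (iv6 F350039) F350038 F329315 (iv5 F350790) D203030
def n213392 : Q := act 3 n153649
theorem D213392 : act 3 n153649 = n213392 := rfl
theorem F470202 : act 2 n213392 = n186941 := d0_1 D213392 (iv3 F449479) F449478 F469816 (iv2 F469815)
theorem F470203 : act 4 n213392 = n186936 := d5_2 F432313 D213392 F368572 D191431 F438516
theorem F470204 : act 0 n213392 = n202925 := d19_4 F358471 F432314 F432313 D213392 (iv5 D202925) (iv4 D117263) F183264 (iv1 F85293) F85289 (iv4 F313317) D54350 (iv1 F189471) (iv5 D79753) D79752 F308054 (iv1 D131182) F96076 (iv4 F110814) (iv3 F329673)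
theorem F470205 : act 0 n191443 = n213392 := d18_0 F470203 F368575 (iv4 F432472) (iv5 D204422) F356475 (iv0 F243222) (iv4 F233620) (iv0 F243338) (iv5 F383491)
def n213393 : Q := act 6 n153649
theorem D213393 : act 6 n153649 = n213393 := rfl
theorem F470206 : act 4 n213393 = n209708 := d10_1 D213393 F454696 F432313
theorem F470207 : act 5 n213393 = n183500 := d12_1 D213393 (iv6 F345946) (iv5 D153986) D153987 F242011
theorem F470208 : act 0 n188800 = n213393 := d19_0 F470207 F395413 (iv3 F437026) F437027 (iv5 D194805) (iv4 D104591) F76034 (iv1 F70131) (iv5 F71449) F71448 F61501 F62498 (iv5 F292758) (iv4 F36838) (iv3 F293270) F291378 D47480 (iv4 F292655) (iv3 F374944)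
def n213394 : Q := act 3 n153650
theorem D213394 : act 3 n153650 = n213394 := rfl
theorem F470209 : act 4 n213394 = n211632 := d5_2 D153650 D213394 (iv3 F462460) F385511 F241519
theorem F470210 : act 6 n213394 = n153677 := d7_2 (iv6 F241525) D213394 (iv3 D153677)
def n213395 : Q := act 7 n153650
theorem D213395 : act 7 n153650 = n213395 := rfl
theorem F470211 : act 4 n213395 = n153651 := d11_1 D213395 (iv7 D153651) D153650
theorem F470212 : act 5 n213395 = n174436 := d13_1 D213395 (iv7 F410316) F410315
theorem F470213 : act 6 n213395 = n182195 := d14_1 D213395 F283642 (iv6 F306629) (iv7 D153679) (iv6 F241525)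
theorem F470214 : act 1 n210602 = n213395 := d15_1 F469820 (iv7 D213395) (iv2 F469817)
theorem F470215 : act 1 n213395 = n182131 := d15_1 F470214 (iv7 F376021) (iv2 F458180)
def n213396 : Q := act 3 n153657
theorem D213396 : act 3 n153657 = n213396 := rfl
theorem F470216 : act 5 n213396 = n204929 := d6_2 (iv5 F241539) D213396 F434221
def n213397 : Q := act 6 n153658
theorem D213397 : act 6 n153658 = n213397 := rfl
theorem F470217 : act 5 n213397 = n183098 := d12_1 D213397 (iv6 D183098) (iv5 D87401) D87402 (iv5 F308823)
theorem F470218 : act 0 n213397 = n201334 := d21_4 F306627 F330092 (iv5 F308823) D213397 (iv6 F469803) (iv5 D213301) (iv1 D153389) D153390 F240951 D153422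
theorem F470219 : act 1 n213397 = n195840 := d15_1 (iv0 F470218) F470193 F470190
def n213398 : Q := act 1 n153659
theorem D213398 : act 1 n153659 = n213398 := rfl
theorem F470220 : act 1 n213398 = n153667 := d15_1 D213398 (iv7 F469833) F469832
theorem F470221 : act 7 n213398 = n182272 := d15_2 F432428 D213398 (iv2 F432424)
theorem F470222 : act 4 n213398 = n184724 := d18_7 F191288 (iv4 F94593) F191285 (iv4 D72659) D72660 D153659 D213398 (iv0 F304637) (iv5 D118937)
theorem F470223 : act 2 n182271 = n213398 := d1_3 F470222 (iv2 F308282) F381167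
theorem F470224 : act 4 n192524 = n213396 := d20_8 D153667 (iv1 F470220) F470222 (iv3 F368015) F368018 (iv3 F383229) F383233 D192524 (iv3 D213396) (iv1 F241540)
def n213399 : Q := act 5 n153659
theorem D213399 : act 5 n153659 = n213399 := rfl
theorem F470225 : act 2 n213399 = n194659 := d2_1 D213399 (iv5 F469834) F469832
theorem F470226 : act 3 n213399 = n208873 := d6_1 D213399 (iv5 F454700) F454699
theorem F470227 : act 4 n213399 = n153703 := d9_1 D213399 (iv5 F322373) F322372 (iv5 D70956) F190163 D72665 D153667 (iv5 F338040) F364624 F364621 F225600 F321588 (iv4 D72659) D72660 D153659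
theorem F470228 : act 7 n213399 = n182273 := d13_2 (iv7 F338044) D213399 (iv5 D182273)
theorem F470229 : act 0 n213399 = n194658 := d17_2 (iv1 D213398) D213399 F393981 (iv4 D181962) (iv5 D86906) (iv0 F302075) D152889 F304640 (iv4 F470222)
theorem F470230 : act 1 n213399 = n194657 := d17_6 (iv1 D72668) (iv5 D33534) D33532 D72660 D153659 D213399 F432309 F248315 (iv4 D153673)
theorem F470231 : act 6 n194662 = n213399 := d21_5 F134771 (iv1 F75765) D104183 F338908 (iv1 F394004) (iv5 D213399) (iv1 F432428) (iv5 F432429) (iv6 D124822) (iv1 F308463)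
def n213400 : Q := act 6 n153659
theorem D213400 : act 6 n153659 = n213400 := rfl
theorem F470232 : act 2 n213400 = n182256 := d3_1 D213400 F469838 F469832
theorem F470233 : act 4 n213400 = n153660 := d10_1 D213400 (iv6 D153660) D153659
theorem F470234 : act 5 n213400 = n209701 := d12_1 D213400 F454671 F448172 F470231 (iv5 D213399)
theorem F470235 : act 7 n213400 = n181974 := d14_2 (iv7 F338044) D213400 (iv6 D181974) F133360 D87029
theorem F470236 : act 0 n182253 = n213400 := d21_4 F283270 (iv1 F157193) (iv5 F294288) (iv6 F365251) (iv6 D213400) D213399 F470229 F393981 F283250 D181970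
theorem F470237 : act 1 n182254 = n213400 := d15_1 D182254 F470235 F283286
theorem E103996 : n210160 = n210074 := (c21_2 (iv5 F365472) D210160 F456063 F454696 (iv1 F432311) F432306 (iv5 F432309) (iv1 F470230) (iv5 D213399) D213400 (iv1 F470237))
theorem F470238 : act 1 n210074 = n137717 := (sb E103996 (iv0 D210160))
def n213401 : Q := act 0 n153660
theorem D213401 : act 0 n153660 = n213401 := rfl
theorem F470239 : act 5 n213401 = n190720 := d17_1 D213401 (iv1 F380795) (iv5 F470207) F470206 (iv5 F456063) F470238 F365472 F470237 F470233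
theorem F470240 : act 4 n213401 = n182169 := d18_1 D213401 (iv1 D182169) (iv4 F283629) (iv5 F377739) F377738 (iv0 F399451) F399449 (iv0 F399446) F242047
theorem F470241 : act 3 n185998 = n213401 := d5_5 F470240 F368940 (iv4 F368820) F288543 D185998
theorem F470242 : act 7 n185424 = n213401 := d11_0 F470240 F368938 F368935
theorem F470243 : act 1 n182252 = n213401 := d18_6 (iv1 F388986) F459655 (iv1 D210990) (iv4 F352696) (iv5 D182255) (iv4 F283697) F470240 F368949 F368947
def n213402 : Q := act 7 n153660
theorem D213402 : act 7 n153660 = n213402 := rfl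
theorem F470244 : act 2 n213402 = n182252 := d4_1 D213402 (iv7 F469842) F469839
theorem F470245 : act 3 n213402 = n210164 := d8_1 D213402 F456418 F427374
theorem F470246 : act 4 n213402 = n181974 := d11_1 D213402 (iv7 F470235) F470233
theorem F470247 : act 5 n213402 = n188798 := d13_1 D213402 F374941 F242047
theorem F470248 : act 6 n213402 = n181973 := d14_1 D213402 F283283 (iv6 F338043) F240987 D153660
theorem F470249 : act 1 n185424 = n213402 := d15_1 (iv0 F469843) (iv7 D213402) (iv2 F469839)
def n213403 : Q := act 0 n153665
theorem D213403 : act 0 n153665 = n213403 := rfl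
theorem F470250 : act 5 n213403 = n212722 := d17_1 D213403 F467264 (iv5 F427380) (iv4 F456419) (iv5 D210164) F220953 (iv5 F449486) (iv0 D208468) F359637
theorem F470251 : act 4 n213403 = n210064 := d18_1 D213403 (iv1 F456011) F449762 (iv5 D204083) F383454 F383452 F267772 F310594 D153665
theorem F470252 : act 1 n191425 = n213403 := d15_0 (iv0 D213403) (iv7 F469825) F469822
theorem F470253 : act 7 n213403 = n210063 := d15_2 F454858 F470252 F456004
def n213404 : Q := act 6 n153665
theorem D213404 : act 6 n153665 = n213404 := rfl
theorem F470254 : act 3 n213404 = n153668 := d7_1 D213404 (iv6 D153668) (iv3 F241548)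
theorem F470255 : act 4 n213404 = n208466 := d10_1 D213404 F449480 F359637
theorem F470256 : act 5 n213404 = n183881 := d12_1 D213404 (iv6 F364036) F242643 (iv6 D153666) D153665
theorem F470257 : act 7 n182251 = n213404 := d13_0 F470256 F285708 (iv5 F283696)
def n213405 : Q := act 3 n153670
theorem D213405 : act 3 n153670 = n213405 := rfl
theorem F470258 : act 4 n213405 = n205086 := d5_2 D153670 D213405 F434923 (iv4 D203197) F351879
theorem F470259 : act 5 n213405 = n209004 := d6_2 F459916 D213405 (iv3 F459915)
theorem F470260 : act 7 n213405 = n209707 := d8_2 (iv7 F365223) D213405 F454692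
theorem F470261 : act 2 n213405 = n209702 := d15_3 F454675 (iv0 F454694) (iv7 F470260)
theorem F470262 : act 6 n209602 = n213405 := d10_0 F470258 F434924 D209602
def n213406 : Q := act 6 n153670
theorem D213406 : act 6 n153670 = n213406 := rfl
theorem F470263 : act 2 n213406 = n210295 := d3_1 D213406 F456898 F365226
theorem F470264 : act 3 n213406 = n209602 := d7_1 D213406 F470262 (iv3 D213405)
theorem F470265 : act 4 n213406 = n153671 := d10_1 D213406 (iv6 D153671) D153670
theorem F470266 : act 5 n213406 = n190718 := d12_1 D213406 F380788 F380789 (iv6 F459917) F459916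
theorem F470267 : act 7 n213406 = n213393 := d14_2 (iv7 F365223) D213406 (iv6 D213393) F469811 F469808
theorem F470268 : act 0 n187022 = n213406 := d19_0 F470266 (iv4 F395409) F441329 (iv1 D206559) F362290 (iv4 D96239) F70628 D44947 (iv5 F138093) F138094 (iv3 F293180) F293177 (iv5 D20701) (iv4 F32820) (iv3 F65707) (iv1 F291132) (iv5 F291785) D89476 D187022
def n213407 : Q := act 0 n153671
theorem D213407 : act 0 n153671 = n213407 := rfl
theorem F470269 : act 3 n213407 = n188802 := d20_5 (iv4 F452353) (iv1 F454280) F454276 (iv3 F351877) D213407 F374949 D193776 F454860 (iv3 D209761) F390637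
theorem F470270 : act 6 n213407 = n188800 := d21_5 (iv5 D124825) D124823 (iv5 F240087) D153671 D213407 (iv5 D188800) D188797 (iv5 F469841) (iv6 D213308) F240978
theorem F470271 : act 5 n213407 = n210150 := d21_8 F203888 (iv1 F219117) (iv5 D136120) F338926 (iv1 F351596) D138209 F351876 D213407 (iv6 D210150) (iv1 F220874)
def n213408 : Q := act 1 n153671
theorem D213408 : act 1 n153671 = n213408 := rfl
def n213409 : Q := act 6 n153672
theorem D213409 : act 6 n153672 = n213409 := rfl
theorem F470272 : act 3 n213409 = n153674 := d7_1 D213409 (iv6 D153674) D153672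
def n213410 : Q := act 3 n153673
theorem D213410 : act 3 n153673 = n213410 := rfl
theorem F470273 : act 5 n213410 = n204637 := d6_2 F459907 D213410 (iv3 F459910)
theorem F470274 : act 6 n213410 = n213390 := d7_2 (iv6 F358780) D213410 (iv3 D213390)
theorem F470275 : act 7 n213410 = n210301 := d8_2 F365225 D213410 F456913
theorem F470276 : act 0 n213410 = n209599 := d21_10 (iv5 D209599) (iv1 D136678) D136679 (iv6 F434924) F434926 (iv6 F426637) (iv5 D203013) F426409 F470196 (iv6 F470274)
theorem F470277 : act 0 n209597 = n213410 := d21_1 D209597 F470273 F453425 (iv1 D209369) (iv6 D136359) (iv5 D64107) (iv1 F92805) (iv5 F92806) D64236 D136677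
def n213411 : Q := act 7 n153674
theorem D213411 : act 7 n153674 = n213411 := rfl
theorem F470278 : act 2 n213411 = n185287 := d4_1 D213411 F432312 F358777
theorem F470279 : act 4 n213411 = n213303 := d11_1 D213411 F469813 F358779
theorem F470280 : act 5 n213411 = n184328 := d13_1 D213411 F358771 (iv5 F358776)
theorem F470281 : act 1 n154327 = n213411 := d15_1 F358791 (iv7 D213411) (iv2 F358777)
theorem F470282 : act 1 n213411 = n182221 := d15_1 F470281 (iv7 F432307) F432305
def n213412 : Q := act 3 n153676
theorem D213412 : act 3 n153676 = n213412 := rfl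
def n213413 : Q := act 0 n153677
theorem D213413 : act 0 n153677 = n213413 := rfl
theorem F470283 : act 4 n213413 = n185428 := d20_8 (iv4 F338034) F338031 F287449 (iv3 F287646) (iv1 F363128) D213382 F470160 D213413 F287687 F135275
def n213414 : Q := act 1 n153677
theorem D213414 : act 1 n153677 = n213414 := rfl
theorem F470284 : act 4 n213414 = n187150 := d18_7 F136449 F55274 D76422 D159747 (iv5 F470161) F470160 D213414 (iv0 D187150) (iv5 D89611)
theorem F470285 : act 3 n193672 = n213414 := d5_5 F470284 F369247 (iv4 D102233) (iv3 F157079) D193672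
theorem F470286 : act 7 n213414 = n209417 := d8_2 (iv7 F390648) F470285 (iv3 D209417)
theorem F470287 : act 2 n209417 = n213413 := d15_3 (iv0 D213413) D213414 F470286
def n213415 : Q := act 2 n153677
theorem D213415 : act 2 n153677 = n213415 := rfl
theorem F470288 : act 4 n213415 = n189280 := d1_2 F470160 D213415 F470164
def n213416 : Q := act 5 n153677
theorem D213416 : act 5 n153677 = n213416 := rfl
theorem F470289 : act 3 n213416 = n153678 := d6_1 D213416 (iv5 D153678) D153677
theorem F470290 : act 0 n213416 = n159716 := d18_0 (iv4 D159716) D159714 (iv4 F454219) F454283 (iv4 D187151) (iv0 F287690) (iv4 F470283) (iv0 D213413) D213416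
theorem F470291 : act 0 n191736 = n213416 := d19_0 (iv5 D213416) (iv4 F470160) (iv3 D213382) F368805 F368804 F140132 (iv3 D91081) (iv1 F66707) D42676 D91138 D188280 F449386 F449342 (iv4 F218367) F218366 (iv1 F100272) D135573 D209013 (iv3 F451847)
theorem F470292 : act 6 n213416 = n211587 := d21_5 F74353 D98650 (iv5 F370848) (iv6 F384297) F470291 F462271 F410304 (iv5 F385339) (iv6 D192049) F157667
theorem F470293 : act 4 n192772 = n213416 := d20_6 (iv4 F454902) (iv1 F454904) (iv4 F453723) (iv3 D194689) (iv1 F159482) (iv3 F387714) F470290 (iv4 D159716) (iv3 F177747) D201211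
theorem F470294 : act 7 n213416 = n192769 := d11_2 D192772 F470293 F387707
def n213417 : Q := act 7 n153677
theorem D213417 : act 7 n153677 = n213417 := rfl
theorem F470295 : act 3 n213417 = n153679 := d8_1 D213417 (iv7 D153679) D153677
theorem F470296 : act 4 n213417 = n189285 := d11_1 D213417 (iv7 F470163) F470160
theorem F470297 : act 5 n213417 = n192769 := d13_1 D213417 (iv7 F470294) (iv5 D213416)
theorem F470298 : act 0 n209417 = n213417 := d20_4 (iv4 D209413) (iv1 D136444) D136445 D209417 F470295 F241551 (iv1 F240990) (iv4 F365221) (iv3 F454692) F454694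
def n213418 : Q := act 4 n153681
theorem D213418 : act 4 n153681 = n213418 := rfl
theorem F470299 : act 5 n213418 = n195390 := d16_1 D213418 (iv4 F424089) (iv5 F424090) (iv4 D172563) (iv5 D82609) (iv4 F301011) D122460 (iv7 F429549) F429547
def n213419 : Q := act 6 n153681
theorem D213419 : act 6 n153681 = n213419 := rfl
theorem F470300 : act 3 n213419 = n153684 := d7_1 D213419 (iv6 D153684) (iv3 F241552)
theorem F470301 : act 5 n213419 = n183868 := d12_1 D213419 (iv6 F364091) F242483 (iv6 D153682) D153681
theorem F470302 : act 7 n182166 = n213419 := d13_0 F470301 F285683 (iv5 F283628)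
def n213420 : Q := act 3 n153683
theorem D213420 : act 3 n153683 = n213420 := rfl
theorem F470303 : act 5 n213420 = n188370 := d6_2 (iv5 F345154) D213420 F373192
theorem F470304 : act 6 n213420 = n181967 := d7_2 (iv6 F345155) D213420 F283263
def n213421 : Q := act 5 n153688
theorem D213421 : act 5 n153688 = n213421 := rfl
theorem F470305 : act 2 n213421 = n194548 := d2_1 D213421 (iv5 D194548) F364177
theorem F470306 : act 3 n213421 = n153689 := d6_1 D213421 (iv5 D153689) D153688
theorem F470307 : act 7 n213421 = n194545 := d13_2 (iv7 F361902) D213421 (iv5 D194545)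
theorem F470308 : act 4 n213421 = n212208 := d16_2 (iv4 F337157) D213421 F464750 F228572 (iv5 F228589) F324928 F334492 F288200 (iv2 F288196)
def n213422 : Q := act 1 n153691
theorem D213422 : act 1 n153691 = n213422 := rfl
theorem F470309 : act 7 n213422 = n193105 := d15_2 (iv0 F361914) D213422 F388766
theorem F470310 : act 4 n213422 = n193106 := d17_9 (iv1 F388769) F155986 (iv1 F335761) (iv5 D137602) (iv4 F165308) D196740 (iv0 F459911) F459904 D213422
theorem F470311 : act 2 n193222 = n213422 := d1_3 F470310 F388767 D193222
theorem F470312 : act 6 n153742 = n213422 := d10_0 F470310 (iv6 F388771) F385262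
theorem F470313 : act 0 n193855 = n213422 := d18_2 (iv1 F371267) D193855 F470310 F388768 F290170 (iv0 F288273) F139380 F139256 D187710
def n213423 : Q := act 2 n153691
theorem D213423 : act 2 n153691 = n213423 := rfl
theorem F470314 : act 3 n213423 = n176112 := d0_2 D153691 D213423 F469865 (iv3 D213313) F241039
theorem F470315 : act 4 n213423 = n176122 := d1_2 (iv4 F363853) D213423 F363852
theorem F470316 : act 7 n213423 = n193855 := d4_2 (iv7 F441222) D213423 (iv2 F441218)
theorem F470317 : act 1 n213423 = n193222 := d15_0 (iv0 F441221) (iv7 F441222) D213423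
theorem F470318 : act 1 n193105 = n213423 := d15_0 F470317 F389234 (iv2 F388766)
def n213424 : Q := act 1 n153695
theorem D213424 : act 1 n153695 = n213424 := rfl
theorem F470319 : act 1 n213424 = n176112 := d15_1 D213424 (iv7 F432157) F432155
theorem F470320 : act 7 n213424 = n194555 := d15_2 (iv0 F361896) D213424 (iv2 D194555)
theorem F470321 : act 4 n213424 = n203562 := d18_7 (iv1 F188543) F188538 (iv1 F156284) D101478 (iv5 F345589) (iv4 F241569) D213424 F428893 (iv5 F343422)
theorem F470322 : act 2 n194556 = n213424 := d1_3 F470321 F428888 (iv4 F393684)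
theorem F470323 : act 6 n177284 = n213424 := d10_0 F470321 F428890 F409726
theorem F470324 : act 5 n198276 = n213424 := d16_1 (iv4 F407441) F470321 F428889 F428472 F427443 F374765 F143155 (iv7 F374919) (iv2 F387752)
theorem F470325 : act 3 n213424 = n196403 := d19_3 F451415 (iv5 F428889) (iv4 F470321) (iv1 D196403) D196404 (iv4 F400601) (iv3 F454137) (iv1 F465268) F465264 F408417 F334904 F104715 (iv5 D59993) (iv4 F104777) D31305 F320143 (iv5 F320145) F309117 (iv3 F451412)
def n213425 : Q := act 3 n153703
theorem D213425 : act 3 n153703 = n213425 := rfl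
theorem F470326 : act 4 n213425 = n188051 := d5_2 F470227 D213425 F374723 D208873 (iv3 F470226)
theorem F470327 : act 5 n213425 = n211546 := d6_2 F322373 D213425 (iv3 D211546)
theorem F470328 : act 0 n213425 = n187878 := d20_4 (iv4 F462002) (iv1 F470230) F470227 D213425 F371750 D194558 F427570 F427567 F345150 D211531
theorem F470329 : act 0 n198276 = n213425 := d20_4 (iv4 F450379) (iv1 F450380) F407461 (iv3 F407440) (iv3 D213425) (iv4 F470227) F470229 F462009 (iv3 F462008) (iv1 F409157)
theorem F470330 : act 6 n213425 = n197533 := d21_5 (iv5 D198271) (iv1 D109110) D109113 D198276 F470329 (iv5 D197533) (iv1 F167793) D197633 (iv6 F420432) F420434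
def n213426 : Q := act 6 n153703
theorem D213426 : act 6 n153703 = n213426 := rfl
theorem F470331 : act 2 n213426 = n209190 := d3_1 D213426 F469880 (iv2 F469881)
theorem F470332 : act 3 n213426 = n197533 := d7_1 D213426 (iv6 F470330) (iv3 D213425)
theorem F470333 : act 4 n213426 = n194662 := d10_1 D213426 F470231 F470227
theorem F470334 : act 5 n213426 = n193270 := d12_1 D213426 (iv6 F466178) (iv5 D212511) (iv6 F322374) F322373
theorem F470335 : act 7 n213426 = n188380 := d14_2 (iv7 F373406) D213426 (iv6 D188380) (iv7 F146087) D188417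
theorem F470336 : act 0 n213426 = n209592 := d21_4 F342506 D142882 F322373 D213426 F454263 (iv5 D157862) D157859 (iv5 F456894) F459857 (iv1 D211041)
theorem F470337 : act 0 n193053 = n213426 := d21_4 (iv5 F350383) F375243 (iv5 F375242) F388604 (iv6 D213426) (iv5 F322373) (iv1 F225771) (iv5 F342499) F351233 (iv1 F364770)
theorem F470338 : act 0 n177799 = n194728 := d21_4 (iv5 F470334) F470336 F454260 F453938 (iv6 D194728) (iv5 F360813) (iv1 F290801) (iv5 D101424) D101425 D193270
theorem F470339 : act 4 n189594 = n177799 := d18_1 (iv1 F389262) F470338 F394277 F159841 (iv4 F379974) F448084 (iv4 D189592) F377027 (iv5 F389261)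
theorem F470340 : act 1 n177799 = n209503 := d15_1 (iv0 F470338) F453948 (iv2 F394276)
theorem F470341 : act 7 n193231 = n189594 := d11_0 F470339 (iv7 F433210) (iv4 F433211)
theorem F470342 : act 2 n189594 = n193232 := d15_3 F389258 (iv0 F389257) F470341
theorem F470343 : act 2 n193231 = n189593 := d15_3 (iv0 D189593) D189594 (iv7 F470341)
theorem F470344 : act 7 n189593 = n193232 := d4_2 (iv7 F470341) F470343 (iv2 F470342)
def n213427 : Q := act 6 n153704
theorem D213427 : act 6 n153704 = n213427 := rfl
theorem F470345 : act 2 n213427 = n187986 := d3_1 D213427 F373375 F373373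
theorem F470346 : act 4 n213427 = n153705 := d10_1 D213427 (iv6 D153705) D153704
theorem F470347 : act 5 n213427 = n185181 := d12_1 D213427 (iv6 D185181) F135174 (iv6 F284525) F345157
theorem F470348 : act 7 n213427 = n198254 := d14_2 (iv7 F373366) D213427 (iv6 D198254) (iv7 F405709) F405708
theorem F470349 : act 0 n213427 = n204374 := d21_4 (iv5 F394060) (iv1 F345158) F345157 D213427 (iv6 D204374) F198157 (iv1 F90837) D57684 D123755 F394061
theorem F470350 : act 1 n213427 = n204401 := d15_1 (iv0 F470349) F432403 (iv2 F432273)
def n213428 : Q := act 0 n153705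
theorem D213428 : act 0 n153705 = n213428 := rfl
theorem F470351 : act 3 n213428 = n188054 := d20_5 F351299 (iv1 F373417) F373414 F331130 D213428 (iv4 F421838) (iv1 F421839) F407123 F169006 D109005
theorem F470352 : act 6 n213428 = n204409 := d21_5 F363137 (iv1 D72720) D72722 D153705 D213428 F432430 F432410 (iv5 D204404) D204405 (iv1 F432416)
theorem F470353 : act 2 n187562 = n213428 := d15_3 (iv0 D213428) F370865 (iv7 F370818)
theorem F470354 : act 1 n187577 = n213428 := d15_0 (iv0 D213428) F331132 (iv2 F370861)
theorem F470355 : act 7 n213428 = n187985 := d15_2 (iv0 F370864) F470354 (iv2 F372035)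
def n213429 : Q := act 5 n153712
theorem D213429 : act 5 n153712 = n213429 := rfl
theorem F470356 : act 2 n213429 = n194579 := d2_1 D213429 (iv5 D194579) F362347
theorem F470357 : act 3 n213429 = n153716 := d6_1 D213429 (iv5 D153716) (iv3 F241580)
theorem F470358 : act 6 n213429 = n192224 := d12_2 D153712 D213429 (iv5 D192224) F153794 F325477
theorem F470359 : act 7 n213429 = n197916 := d13_2 F410674 D213429 (iv5 F410673)
theorem F470360 : act 1 n213429 = n199133 := d17_6 F425675 F369650 (iv1 D187260) (iv5 F158977) (iv4 F362352) D213429 (iv5 D199133) F410816 (iv4 F425672)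
theorem F470361 : act 4 n197920 = n213429 := d11_3 F470359 F406193 D197920
def n213430 : Q := act 0 n153713
theorem D213430 : act 0 n153713 = n213430 := rfl
theorem F470362 : act 6 n213430 = n196774 := d21_5 (iv5 D128372) F94877 D72726 D153713 D213430 (iv5 D196774) (iv1 D107310) D107311 (iv6 F165771) F322062
theorem F470363 : act 4 n154780 = n213430 := d10_3 F470362 (iv4 F427618) F427619
theorem F470364 : act 0 n213430 = n197913 := d21_4 F406865 (iv1 F356927) D196774 (iv6 F470362) (iv6 D197913) F354403 (iv1 D50293) D50295 D108936 D198111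
def n213431 : Q := act 7 n153713
theorem D213431 : act 7 n153713 = n213431 := rfl
theorem F470365 : act 2 n213431 = n197913 := d4_1 D213431 (iv7 F427613) F427612
theorem F470366 : act 3 n213431 = n192225 := d8_1 D213431 (iv7 D192225) F365934
theorem F470367 : act 4 n213431 = n199482 := d11_1 D213431 (iv7 F427560) F427558
theorem F470368 : act 5 n213431 = n154781 := d13_1 D213431 (iv7 F469684) F469680
theorem F470369 : act 6 n213431 = n197728 := d14_1 D213431 F405544 F354398 F237416 D153713
def n213432 : Q := act 3 n153714
theorem D213432 : act 3 n153714 = n213432 := rfl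
theorem F470370 : act 4 n213432 = n212702 := d5_2 (iv4 F353405) D213432 F467151 (iv4 D203264) F348033
theorem F470371 : act 6 n213432 = n211100 := d7_2 F440001 D213432 F460092
theorem F470372 : act 7 n213432 = n211539 := d8_2 (iv7 F353406) D213432 F462035
def n213433 : Q := act 3 n153715
theorem D213433 : act 3 n153715 = n213433 := rfl
theorem F470373 : act 4 n213433 = n202258 := d5_2 (iv4 F346813) D213433 F426987 (iv4 F426984) F276558
theorem F470374 : act 6 n213433 = n196813 := d7_2 F353399 D213433 (iv3 F401872)
theorem F470375 : act 0 n213433 = n204477 := d19_4 D38924 D84416 (iv4 F346813) D213433 (iv5 D204477) (iv4 D123857) (iv3 F198305) (iv1 F427183) (iv5 D203151) (iv4 D117843) F85640 (iv1 F85675) F205252 D55190 F305178 (iv1 D54319) F41696 (iv4 F51668) F51667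
theorem F470376 : act 5 n204487 = n213433 := d17_1 (iv1 F432685) F470375 (iv5 D204477) (iv4 D123857) (iv5 D57715) (iv0 D27560) D27562 D57723 D123887
theorem F470377 : act 1 n213433 = n204485 := d17_6 (iv1 D198994) (iv5 F341503) F341510 D161577 F432686 F470376 (iv5 D204485) F432643 F432642
def n213434 : Q := act 5 n153715
theorem D213434 : act 5 n153715 = n213434 := rfl
theorem F470378 : act 2 n213434 = n211540 := d2_1 D213434 (iv5 D211540) (iv2 F353400)
theorem F470379 : act 3 n213434 = n204487 := d6_1 D213434 F470376 (iv3 D213433)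
theorem F470380 : act 6 n213434 = n204417 := d12_2 F353399 D213434 F432448 D204953 F434329
theorem F470381 : act 7 n213434 = n213374 := d13_2 F393574 D213434 F470130
theorem F470382 : act 0 n213434 = n212144 := d17_2 (iv1 F346812) D213434 (iv5 D212144) F357271 (iv5 F324915) (iv0 D103725) (iv5 F313063) F315360 (iv4 F111981)
theorem F470383 : act 1 n213434 = n210784 := d17_6 (iv1 F330067) (iv5 D38926) D38924 D84416 (iv4 F346813) D213434 (iv5 D210784) F361890 F104313
theorem F470384 : act 4 n213434 = n204943 := d18_5 F434667 F434665 F341037 (iv4 F346813) D213434 F434280 F393690 (iv0 F401757) (iv5 F427624)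
def n213435 : Q := act 4 n153716
theorem D213435 : act 4 n153716 = n213435 := rfl
theorem F470385 : act 2 n213435 = n196774 := d1_1 D213435 (iv4 F427618) F427616
theorem F470386 : act 3 n213435 = n196371 := d5_1 D213435 F400497 (iv3 F406196) F470361 F470357
theorem F470387 : act 7 n213435 = n196368 := d11_2 (iv7 F412626) D213435 (iv4 F412624)
theorem F470388 : act 5 n213435 = n194534 := d16_1 D213435 F393617 F391367 (iv4 D156826) (iv5 D74579) (iv4 F111981) D156803 (iv7 F427620) F427616
theorem F470389 : act 0 n213435 = n213421 := d18_2 F402281 D213435 F470308 F464750 F228572 F182574 (iv4 F402274) (iv0 D196916) D196917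
def n213436 : Q := act 0 n153719
theorem D213436 : act 0 n153719 = n213436 := rfl
theorem F470390 : act 4 n213436 = n194517 := d18_3 D72728 D153719 D213436 F393539 F330078 F334496 (iv4 F324928) F324926 F105013
theorem F470391 : act 6 n213436 = n156773 := d21_5 (iv5 F342423) (iv1 F223706) (iv5 F223721) (iv6 F350190) D213436 (iv5 F417459) F417458 (iv5 D197467) (iv6 F322617) (iv1 D140924)
theorem F470392 : act 2 n205024 = n213436 := d15_3 (iv0 D213436) (iv0 F350189) (iv7 F434666)
theorem F470393 : act 1 n153722 = n213436 := d15_0 (iv0 D213436) (iv7 F350192) F366250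
theorem F470394 : act 7 n213436 = n206129 := d15_2 (iv0 F241585) F470393 F439370
theorem F470395 : act 3 n205111 = n213436 := d7_3 F470391 (iv3 F246675) D205111
def n213437 : Q := act 3 n153722
theorem D213437 : act 3 n153722 = n213437 := rfl
theorem F470396 : act 4 n213437 = n178154 := d5_2 D153722 D213437 F356033 F322939 F227732
theorem F470397 : act 6 n213437 = n211379 := d7_2 (iv6 F366251) D213437 F461336
theorem F470398 : act 0 n197574 = n213437 := d20_1 (iv4 F404878) F470396 F356033 F322937 (iv3 F319260) F111767 (iv1 F79271) D108451 D197556 F404884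
def n213438 : Q := act 5 n153722
theorem D213438 : act 5 n153722 = n213438 := rfl
theorem F470399 : act 2 n213438 = n211549 := d2_1 D213438 (iv5 D211549) F366250
theorem F470400 : act 4 n213438 = n194543 := d9_1 D213438 (iv5 D194543) (iv4 D103749) (iv5 D48040) D48039 (iv5 F317722) D153719 (iv5 F427568) F427567 (iv5 F356922) (iv4 D103733) (iv5 D48035) D48034 (iv5 F313063) D153722
theorem F470401 : act 6 n213438 = n204404 := d12_2 (iv6 F366251) D213438 (iv5 D204404) D204405 F432414
theorem F470402 : act 7 n213438 = n196777 := d13_2 F427623 D213438 (iv5 F427624)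
theorem F470403 : act 0 n213438 = n194558 := d17_2 (iv1 F470393) D213438 F393688 F341055 F129568 F75495 D103701 D194517 (iv4 F470390)
theorem F470404 : act 1 n213438 = n194527 := d17_6 F326749 (iv5 F318384) F321383 (iv5 F313063) D153722 D213438 (iv5 D194527) F363401 F104396
def n213439 : Q := act 5 n153743
theorem D213439 : act 5 n153743 = n213439 := rfl
theorem F470405 : act 2 n213439 = n153744 := d2_1 D213439 (iv5 D153744) D153743
theorem F470406 : act 3 n213439 = n194592 := d6_1 D213439 (iv5 D194592) F362003
theorem F470407 : act 6 n213439 = n193381 := d21_9 (iv5 F450284) (iv1 F450287) F387482 F387481 F372032 F401115 (iv5 D196575) F362004 D213439 (iv1 F434621)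
theorem F470408 : act 0 n196579 = n213439 := d21_1 F434992 (iv5 D213439) (iv6 F402568) (iv1 F402567) F228456 (iv5 F435057) (iv1 F435059) (iv5 D125507) D125508 F434994
theorem F470409 : act 4 n193382 = n213439 := d10_3 F470407 (iv4 D193381) D193382
def n213440 : Q := act 1 n153744
theorem D213440 : act 1 n153744 = n213440 := rfl
theorem F470410 : act 4 n213440 = n209683 := d17_9 F454616 F404589 (iv1 D193643) (iv5 F373574) (iv4 F402336) (iv5 D196929) F359408 D153744 D213440
theorem F470411 : act 2 n196579 = n213440 := d1_3 F470410 F454614 F453983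
theorem F470412 : act 6 n209682 = n213440 := d10_0 F470410 (iv6 D209683) D209682
def n213441 : Q := act 4 n153744
theorem D213441 : act 4 n153744 = n213441 := rfl
theorem F470413 : act 2 n213441 = n193382 := d1_1 D213441 F470409 F470405
theorem F470414 : act 3 n213441 = n213023 := d5_1 D213441 F468639 F459661 F235496 (iv3 F241608)
theorem F470415 : act 6 n213441 = n193373 := d10_2 (iv6 F434343) D213441 (iv4 F434340)
theorem F470416 : act 0 n213441 = n188355 := d20_7 F458616 (iv1 F450698) F450700 F436709 F206502 (iv3 F241608) D213441 (iv4 F449898) (iv3 F457224) (iv1 F458619)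
theorem F470417 : act 0 n209471 = n213441 := d20_7 F206505 (iv1 F185982) F185980 (iv3 F345144) (iv1 F158604) D194406 (iv4 F453825) (iv4 D213441) F241608 (iv1 F206507)
theorem F470418 : act 5 n213441 = n193784 := d21_8 (iv5 D70006) D70003 (iv5 F365483) (iv6 D136992) (iv1 F220129) D209810 F455035 F470417 (iv6 F467162) (iv1 D149170)
def n213442 : Q := act 5 n153754
theorem D213442 : act 5 n153754 = n213442 := rfl
theorem F470419 : act 2 n213442 = n153755 := d2_1 D213442 (iv5 D153755) D153754
theorem F470420 : act 6 n213442 = n187992 := d12_2 (iv6 F400440) D213442 F400444 (iv6 D196350) D196349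
theorem F470421 : act 7 n213442 = n194592 := d13_2 (iv7 F346523) D213442 (iv5 D194592)
theorem F470422 : act 4 n213442 = n192724 := d16_2 (iv4 F241615) D213442 F387618 (iv4 F467687) (iv5 D212833) F237091 (iv5 F110778) F110779 D150591
theorem F470423 : act 1 n213442 = n184123 := d17_6 D127766 (iv5 F362166) F362163 (iv5 F237111) (iv4 F241615) D213442 (iv5 F373451) (iv0 F373454) F205289
def n213443 : Q := act 0 n153757
theorem D213443 : act 0 n153757 = n213443 := rfl
theorem F470424 : act 5 n213443 = n194461 := d17_1 D213443 (iv1 F393305) D194553 (iv4 F464481) F464482 F402276 (iv5 F406861) (iv0 F470131) F470129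
theorem F470425 : act 4 n213443 = n194527 := d18_1 D213443 (iv1 F470404) F470400 (iv5 D194543) (iv4 D103749) F159183 D194531 F411196 F411194
theorem F470426 : act 3 n213443 = n198269 := d20_5 F384987 D191956 (iv4 F411218) (iv3 F394090) D213443 F450372 (iv1 D208664) (iv4 F222776) F387726 (iv1 F387723)
theorem F470427 : act 6 n213443 = n198266 := d21_5 (iv5 D151155) F107720 D72742 D153757 D213443 (iv5 D198266) F406697 (iv5 F406698) (iv6 D153782) (iv1 F237833)
theorem F470428 : act 2 n194559 = n213443 := d15_3 (iv0 D213443) (iv0 F372009) D194559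
theorem F470429 : act 1 n194557 = n213443 := d15_0 (iv0 D213443) (iv7 F434278) F434276
theorem F470430 : act 7 n213443 = n194460 := d15_2 D194557 F470429 F393302
def n213444 : Q := act 4 n153763
theorem D213444 : act 4 n153763 = n213444 := rfl
theorem F470431 : act 2 n213444 = n196526 := d1_1 D213444 F400969 (iv2 F365888)
theorem F470432 : act 3 n213444 = n202050 := d5_1 D213444 (iv4 F463847) F463846 (iv4 D153764) D153763
theorem F470433 : act 6 n213444 = n202146 := d10_2 F415087 D213444 F423043
theorem F470434 : act 7 n213444 = n196518 := d11_2 F365889 D213444 F400940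
theorem F470435 : act 0 n213444 = n196524 := d18_2 (iv1 F365890) D213444 (iv4 F400963) (iv5 F430680) F430679 (iv0 D134747) F98564 D109220 F351133
theorem F470436 : act 1 n213444 = n196523 := d15_0 (iv0 D196523) D196526 (iv2 F470431)
def n213445 : Q := act 5 n153764
theorem D213445 : act 5 n153764 = n213445 := rfl
theorem F470437 : act 3 n213445 = n213367 := d6_1 D213445 F470105 F463846
theorem F470438 : act 6 n213445 = n213363 := d12_2 F457236 D213445 F470091 D213364 F470096
theorem F470439 : act 1 n213445 = n213362 := d17_6 F366454 (iv5 F436710) (iv1 F436711) F342484 D153764 D213445 F470089 (iv0 D209653) F219988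
def n213446 : Q := act 4 n153774
theorem D213446 : act 4 n153774 = n213446 := rfl
theorem F470440 : act 2 n213446 = n153777 := d1_1 D213446 (iv4 D153777) (iv2 F241628)
theorem F470441 : act 3 n213446 = n187498 := d5_1 D213446 (iv4 D187498) F138864 D90297 (iv3 F241629)
theorem F470442 : act 6 n213446 = n187515 := d10_2 F241630 D213446 F370636
theorem F470443 : act 7 n213446 = n188289 := d11_2 F407573 D213446 (iv4 F407568)
theorem F470444 : act 0 n170717 = n213446 := d21_4 (iv5 D39685) (iv1 F117232) D81841 D170717 F470442 F370637 (iv1 F429741) (iv5 D203764) (iv6 D120480) F301829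
theorem F470445 : act 1 n203771 = n213446 := d15_0 (iv0 F470444) (iv7 F450436) F450434
def n213447 : Q := act 3 n153777
theorem D213447 : act 3 n153777 = n213447 := rfl
theorem F470446 : act 4 n213447 = n153785 := d5_2 D153777 D213447 (iv3 D153785) (iv4 D72751) (iv3 F109226)
theorem F470447 : act 0 n213447 = n199602 := d20_4 (iv4 F342486) (iv1 D153776) D153777 D213447 F412812 F222696 (iv1 F329566) D100452 F351135 (iv1 D179715)
def n213448 : Q := act 5 n153777
theorem D213448 : act 5 n153777 = n213448 := rfl
theorem F470448 : act 0 n213448 = n208750 := d17_2 (iv1 F433029) D213448 (iv5 D208750) (iv4 F221646) (iv5 F407036) (iv0 F407038) F362246 (iv0 F429752) F429751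
def n213449 : Q := act 7 n153777
theorem D213449 : act 7 n153777 = n213449 := rfl
theorem F470449 : act 2 n213449 = n188289 := d4_1 D213449 (iv7 F470443) F470440
theorem F470450 : act 4 n213449 = n153779 := d11_1 D213449 (iv7 D153779) D153777
theorem F470451 : act 6 n213449 = n188287 := d14_1 D213449 F372962 F404965 (iv7 F405397) (iv6 F405399)
theorem F470452 : act 1 n170717 = n213449 := d15_1 (iv0 F470444) (iv7 D213449) (iv2 F470440)
theorem F470453 : act 1 n213449 = n203771 := d15_1 F470452 (iv7 D203771) F302884
def n213450 : Q := act 2 n153781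
theorem D213450 : act 2 n153781 = n213450 := rfl
theorem F470454 : act 3 n213450 = n194593 := d0_2 D153781 D213450 (iv2 F393778) F206509 F109229
theorem F470455 : act 5 n213450 = n205125 := d2_2 F366758 D213450 F435062
theorem F470456 : act 1 n213450 = n196575 := d15_0 (iv0 F401116) F243426 D213450
def n213451 : Q := act 4 n153781
theorem D213451 : act 4 n153781 = n213451 := rfl
theorem F470457 : act 3 n213451 = n212587 := d5_1 D213451 (iv4 D212587) F231738 F109230 D153781
theorem F470458 : act 6 n213451 = n203037 := d10_2 F461871 D213451 (iv4 F461870)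
theorem F470459 : act 0 n213451 = n187587 := d21_4 (iv5 D211514) (iv1 F428920) (iv5 F428919) (iv6 F470458) (iv6 D187587) (iv5 D90374) D90371 (iv5 F338447) F338452 F461922
def n213452 : Q := act 1 n153784
theorem D213452 : act 1 n153784 = n213452 := rfl
theorem F470460 : act 1 n213452 = n204580 := d15_1 D213452 (iv7 F451311) F243427
theorem F470461 : act 7 n213452 = n204579 := d15_2 (iv0 F432943) D213452 F432936
theorem F470462 : act 2 n179787 = n213452 := d4_3 F470461 F432936 (iv7 F366868)
theorem F470463 : act 5 n204571 = n213452 := d13_3 F470461 (iv5 D204579) (iv7 F432905)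
theorem F470464 : act 6 n213452 = n199552 := d21_3 (iv5 D204573) D204571 F470463 (iv1 D199552) F350375 F222382 (iv1 D65153) D65155 D138757 F432908
theorem F470465 : act 3 n213452 = n203774 := d0_2 D179787 F470462 (iv2 D203774) (iv3 D120503) (iv2 F302442)
def n213453 : Q := act 5 n153784
theorem D213453 : act 5 n153784 = n213453 := rfl
theorem F470466 : act 2 n213453 = n204582 := d2_1 D213453 F432938 F243427
theorem F470467 : act 3 n213453 = n199795 := d6_1 D213453 F413534 (iv3 F407631)
theorem F470468 : act 6 n213453 = n206180 := d12_2 D153784 D213453 (iv5 D206180) F205280 (iv5 F109232)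
theorem F470469 : act 0 n213453 = n199482 := d21_7 (iv5 D198256) (iv1 F407340) F467831 (iv6 D212859) F237832 D153784 D213453 (iv5 F430707) (iv6 F435362) F435366
theorem F470470 : act 4 n204579 = n213453 := d20_0 F470469 (iv4 F470367) F470366 (iv1 F386085) (iv3 F407625) (iv4 F444221) F450519 (iv4 F450991) (iv3 F450993) (iv1 F432940)
def n213454 : Q := act 7 n153784
theorem D213454 : act 7 n153784 = n213454 := rfl
theorem F470471 : act 2 n213454 = n204580 := d4_1 D213454 (iv7 F451311) F243427
theorem F470472 : act 4 n213454 = n213279 := d11_1 D213454 (iv7 D213279) (iv4 F241641)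
theorem F470473 : act 6 n213454 = n206365 := d14_1 D213454 (iv7 D206365) (iv6 D128392) (iv7 F109231) D153784
theorem F470474 : act 1 n179787 = n213454 := d15_1 (iv0 F432939) (iv7 D213454) (iv2 F243427)
theorem F470475 : act 1 n213454 = n204579 := d15_1 F470474 (iv7 F470461) (iv2 F470462)
def n213455 : Q := act 0 n153785
theorem D213455 : act 0 n153785 = n213455 := rfl
theorem F470476 : act 1 n201306 = n213455 := d15_0 (iv0 D213455) (iv7 F242868) (iv2 F419933)
def n213456 : Q := act 1 n153785
theorem D213456 : act 1 n153785 = n213456 := rfl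
theorem F470477 : act 1 n213456 = n201306 := d15_1 D213456 F419936 F371570
theorem F470478 : act 5 n213456 = n212578 := d18_9 (iv1 D212578) (iv4 F236056) F404017 (iv4 F405257) F405258 (iv4 F412813) (iv0 F470447) F470446 D213456
theorem F470479 : act 4 n189210 = n213456 := d20_6 F450435 F409113 (iv4 D179807) F294627 D93770 D189210 (iv1 D213456) (iv4 F470446) (iv3 D213447) F450438
theorem F470480 : act 6 n213456 = n191808 := d10_2 (iv6 F376105) F470479 (iv4 D191808)
def n213457 : Q := act 4 n153786
theorem D213457 : act 4 n153786 = n213457 := rfl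
theorem F470481 : act 2 n213457 = n187983 := d1_1 D213457 (iv4 D187983) F345139
theorem F470482 : act 6 n213457 = n199398 := d10_2 F453016 D213457 (iv4 F453015)
theorem F470483 : act 7 n213457 = n187984 := d11_2 (iv7 F345117) D213457 (iv4 D187984)
theorem F470484 : act 5 n213457 = n212583 := d16_7 (iv4 F218621) F338918 F384919 (iv5 F358625) (iv4 F372014) F372005 D213457 F466543 (iv2 F366523)
theorem F470485 : act 1 n213457 = n206273 := d18_6 D127823 (iv4 F394232) (iv1 F394235) (iv4 F372014) F372005 D213457 F440015 (iv0 F400513) F178379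
theorem F470486 : act 0 n213457 = n193326 := d20_1 D213457 (iv4 F420139) F420138 F420144 F364312 (iv4 F167925) D197695 F405395 F342489 D153786
theorem F470487 : act 3 n192544 = n213457 := d20_5 (iv4 F142672) F69079 D46833 D100366 D192544 (iv4 D213457) (iv1 F241645) (iv4 F143291) F143290 (iv1 F142671)
def n213458 : Q := act 0 n153789
theorem D213458 : act 0 n153789 = n213458 := rfl
theorem F470488 : act 5 n213458 = n205193 := d17_3 F365125 F365127 D213458 F435358 (iv5 F382706) (iv0 D166610) F326387 D166576 (iv4 F280908)
theorem F470489 : act 3 n213458 = n188263 := d20_5 (iv4 F362812) (iv1 F372964) F372961 F331126 D213458 (iv4 D188263) (iv1 D91126) D91127 F327614 D109017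
theorem F470490 : act 1 n187987 = n213458 := d15_0 (iv0 D213458) F365128 (iv2 F372037)
theorem F470491 : act 4 n206274 = n213458 := d20_8 F387676 (iv1 D183017) (iv4 F333854) F248793 (iv1 F195596) (iv3 F430673) F430676 D206274 F470489 F387678
theorem F470492 : act 2 n198260 = n213458 := d2_3 F470488 (iv2 F435359) (iv5 F407371)
theorem F470493 : act 7 n198259 = n213458 := d15_2 (iv0 F467830) F467832 (iv2 F470492)
def n213459 : Q := act 1 n153789
theorem D213459 : act 1 n153789 = n213459 := rfl
theorem F470494 : act 1 n213459 = n187987 := d15_1 D213459 (iv7 F467829) F467826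
theorem F470495 : act 7 n213459 = n198260 := d15_2 (iv0 D213458) D213459 F470492
theorem F470496 : act 3 n157920 = n213459 := d20_3 F155870 (iv1 F354720) (iv4 F354685) (iv1 D213459) (iv3 F331126) (iv4 F372961) F372963 F343087 (iv3 F362335) (iv1 F354719)
theorem F470497 : act 4 n213459 = n206275 := d5_2 (iv4 F354685) F470496 F464058 (iv4 D134354) (iv3 F216348)
theorem F470498 : act 5 n213459 = n157918 := d6_2 D157920 F470496 (iv3 D157918)
theorem F470499 : act 2 n198259 = n213459 := d4_3 F470495 F470492 (iv7 F470493)
def n213460 : Q := act 3 n153790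
theorem D213460 : act 3 n153790 = n213460 := rfl
theorem F470500 : act 4 n213460 = n204098 := d5_2 (iv4 F312881) D213460 F431077 F341193 (iv3 F311376)
theorem F470501 : act 5 n213460 = n177460 := d6_2 (iv5 F312882) D213460 (iv3 D177460)
theorem F470502 : act 7 n213460 = n176987 := d8_2 (iv7 F312883) D213460 (iv3 D176987)
def n213461 : Q := act 0 n153792
theorem D213461 : act 0 n153792 = n213461 := rfl
theorem F470503 : act 5 n213461 = n167679 := d17_1 D213461 (iv1 F347185) D202690 F425115 (iv5 D145449) D145447 F326472 F276782 (iv4 F312888)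
theorem F470504 : act 4 n213461 = n166619 := d18_1 D213461 F299621 (iv4 F300154) (iv5 D167690) (iv4 D80473) D80472 (iv4 F312881) (iv0 D153790) D153792
theorem F470505 : act 3 n213461 = n199250 := d20_5 (iv4 F169057) (iv1 F169061) (iv4 F168583) (iv3 F331122) D213461 (iv4 F411324) F402878 F402877 F168512 D108632
theorem F470506 : act 2 n197772 = n213461 := d15_3 (iv0 D213461) F413354 (iv7 F413352)
theorem F470507 : act 1 n177281 = n213461 := d15_0 (iv0 D213461) (iv7 F331137) F331136
theorem F470508 : act 7 n213461 = n197771 := d15_2 (iv0 F413355) F470507 (iv2 F413349)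
theorem F470509 : act 6 n212854 = n213461 := d21_3 (iv5 D150851) D150849 D212854 (iv1 F470507) F331158 D197769 F405706 (iv5 F203751) (iv6 F345108) F363684
def n213462 : Q := act 5 n153801
theorem D213462 : act 5 n153801 = n213462 := rfl
theorem F470510 : act 2 n213462 = n204445 := d2_1 D213462 (iv5 D204445) F415426
theorem F470511 : act 3 n213462 = n203566 := d6_1 D213462 (iv5 D203566) F355104
theorem F470512 : act 7 n213462 = n204447 := d13_2 F415428 D213462 (iv5 D204447)
theorem F470513 : act 0 n183875 = n213462 := d21_10 (iv5 D213462) (iv1 F241663) (iv5 F432578) (iv6 F469104) (iv1 F469100) F359593 D185034 F287431 (iv5 F136954) D183875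
theorem F470514 : act 6 n213130 = n213462 := d21_5 (iv5 D152568) (iv1 D71954) D71956 D152575 D213130 (iv5 D213462) (iv1 F241663) (iv5 F432578) (iv6 F469104) (iv1 F469100)
def n213463 : Q := act 4 n153802
theorem D213463 : act 4 n153802 = n213463 := rfl
theorem F470515 : act 2 n213463 = n204446 := d1_1 D213463 (iv4 D204446) (iv2 F415429)
theorem F470516 : act 3 n213463 = n197128 := d5_1 D213463 F403173 F247846 D160093 (iv3 F360536)
theorem F470517 : act 6 n213463 = n212482 := d10_2 F448632 D213463 F466014
theorem F470518 : act 7 n213463 = n197122 := d11_2 (iv7 F415427) D213463 F415424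
theorem F470519 : act 0 n213463 = n201569 := d20_1 D213463 F420956 F374134 F419474 F419471 (iv4 D123121) (iv1 F90379) (iv4 F90890) (iv3 F198290) (iv1 F241657)
theorem F470520 : act 5 n197123 = n213463 := d21_0 F470519 (iv5 F422846) F428864 (iv1 D203556) (iv6 D119506) (iv5 D54981) (iv1 F86847) (iv5 F187782) D203504 (iv1 F428828)
def n213464 : Q := act 5 n153802
theorem D213464 : act 5 n153802 = n213464 := rfl
theorem F470521 : act 2 n213464 = n204447 := d2_1 D213464 (iv5 D204447) (iv2 F415429)
theorem F470522 : act 7 n213464 = n204445 := d13_2 (iv7 F415427) D213464 (iv5 D204445)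
theorem F470523 : act 0 n213464 = n183875 := d17_2 (iv1 F241657) D213464 (iv5 F368198) (iv4 F415430) (iv5 F415435) (iv0 D155880) (iv5 F200970) F432325 F432322
def n213465 : Q := act 0 n153803
theorem D213465 : act 0 n153803 = n213465 := rfl
theorem F470524 : act 5 n213465 = n203005 := d17_3 (iv1 D153802) D153803 D213465 F426603 F402919 (iv0 F422847) F422846 (iv0 F470519) (iv4 D213463)
theorem F470525 : act 3 n203007 = n213465 := d6_3 F470524 F426602 (iv5 F426612)
theorem F470526 : act 7 n203004 = n213465 := d13_0 F470524 (iv7 D203005) D203004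
theorem F470527 : act 6 n213465 = n185041 := d14_1 F470526 (iv7 F455086) (iv6 F455017) (iv7 F452790) F452789
theorem F470528 : act 2 n213465 = n204448 := d15_3 (iv0 D204448) (iv0 F426601) F470526
theorem F470529 : act 6 n204448 = n185148 := d3_2 (iv6 F470527) F470528 (iv2 F455087)
theorem F470530 : act 0 n213465 = n204450 := d20_4 (iv4 F426875) (iv1 F426876) (iv4 F426611) F470525 F432577 (iv4 F432610) (iv1 F432758) F432760 (iv3 F426642) F426644
def n213466 : Q := act 1 n153803
theorem D213466 : act 1 n153803 = n213466 := rfl
theorem F470531 : act 1 n213466 = n204450 := d15_1 D213466 (iv7 D204450) (iv2 F241658)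
theorem F470532 : act 7 n213466 = n204448 := d15_2 (iv0 D213465) D213466 (iv2 F470528)
theorem F470533 : act 5 n203002 = n213466 := d21_6 F115316 (iv1 D76809) (iv5 F87752) D120454 F355612 D203002 (iv1 D213466) (iv5 D153803) (iv6 D72758) (iv1 F90370)
theorem F470534 : act 2 n213466 = n203004 := d2_1 F470533 (iv5 D203004) (iv2 F426597)
theorem F470535 : act 3 n213466 = n203050 := d6_1 F470533 (iv5 D203050) (iv3 F426598)
def n213467 : Q := act 4 n153803
theorem D213467 : act 4 n153803 = n213467 := rfl
theorem F470536 : act 2 n213467 = n204449 := d1_1 D213467 (iv4 D204449) (iv2 F241658)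
theorem F470537 : act 3 n213467 = n208507 := d5_1 D213467 (iv4 D208507) (iv3 F349423) (iv4 D153831) (iv3 F241659)
theorem F470538 : act 6 n213467 = n153817 := d10_2 (iv6 F241660) D213467 (iv4 D153817)
theorem F470539 : act 7 n203597 = n213467 := d14_0 F470538 (iv7 F469469) (iv6 D213218) (iv7 F240052) D203597
def n213468 : Q := act 7 n153803
theorem D213468 : act 7 n153803 = n213468 := rfl
theorem F470540 : act 2 n213468 = n204450 := d4_1 D213468 (iv7 D204450) (iv2 F241658)
theorem F470541 : act 3 n213468 = n153832 := d8_1 D213468 (iv7 D153832) (iv3 F241659)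
theorem F470542 : act 4 n213468 = n203597 := d11_1 D213468 F470539 (iv4 D213467)
theorem F470543 : act 5 n213468 = n153804 := d13_1 D213468 (iv7 D153804) D153803
theorem F470544 : act 6 n213468 = n200920 := d14_1 D213468 (iv7 F469106) F469111 (iv7 D153818) (iv6 F241660)
theorem F470545 : act 1 n203004 = n213468 := d15_1 (iv0 F426601) (iv7 D213468) F241658
theorem F470546 : act 1 n213468 = n204448 := d15_1 F470545 (iv7 F470532) F470534
def n213469 : Q := act 4 n153808
theorem D213469 : act 4 n153808 = n213469 := rfl
theorem F470547 : act 7 n213469 = n156092 := d11_2 F388322 D213469 F388326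
theorem F470548 : act 5 n156093 = n213469 := d13_3 F470547 (iv5 D156092) D156093
def n213470 : Q := act 5 n153811
theorem D213470 : act 5 n153811 = n213470 := rfl
theorem F470549 : act 2 n213470 = n204919 := d2_1 D213470 (iv5 D204919) (iv2 F304377)
theorem F470550 : act 3 n213470 = n153813 := d6_1 D213470 (iv5 D153813) D153811
theorem F470551 : act 6 n213470 = n184447 := d12_2 (iv6 F304379) D213470 (iv5 D184447) (iv6 D87961) (iv5 F125883)
theorem F470552 : act 4 n213470 = n184447 := d16_2 (iv4 F304378) D213470 (iv5 D184447) (iv4 F142810) (iv5 F162427) F360921 (iv5 D183423) (iv7 F304376) (iv2 F197495)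
def n213471 : Q := act 4 n153813
theorem D213471 : act 4 n153813 = n213471 := rfl
theorem F470553 : act 2 n213471 = n156092 := d1_1 D213471 F388326 F388319
theorem F470554 : act 3 n213471 = n155988 := d5_1 D213471 F359551 (iv3 F286353) (iv4 F470552) F470550
theorem F470555 : act 6 n213471 = n155988 := d10_2 (iv6 F306762) D213471 F359551
theorem F470556 : act 5 n155987 = n213471 := d12_5 F470555 (iv5 D155988) (iv6 D74192) F110977 D155987
def n213472 : Q := act 4 n153815
theorem D213472 : act 4 n153815 = n213472 := rfl
theorem F470557 : act 0 n213472 = n202045 := d17_0 (iv5 D202045) F360643 F470556 (iv4 D213471) (iv5 D153813) F304766 D84763 (iv0 F366842) D213472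
def n213473 : Q := act 0 n153817
theorem D213473 : act 0 n153817 = n213473 := rfl
theorem F470558 : act 1 n178073 = n213473 := d15_0 (iv0 D213473) (iv7 F469469) F469465
theorem F470559 : act 6 n204620 = n213473 := d21_3 (iv5 F458627) F458630 (iv5 F469520) (iv1 F470558) F364658 (iv5 D119627) (iv1 F188669) F188671 D152868 F458629
theorem F470560 : act 3 n213473 = n210764 := d7_1 F470559 (iv6 D210764) (iv3 F469519)
def n213474 : Q := act 1 n153817
theorem D213474 : act 1 n153817 = n213474 := rfl
theorem F470561 : act 1 n213474 = n178073 := d15_1 D213474 (iv7 F430913) F430912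
theorem F470562 : act 4 n213010 = n213474 := d20_6 D153858 (iv1 F242633) (iv4 D154558) (iv3 F242629) (iv1 F467283) (iv3 F468580) (iv1 D213474) (iv4 D153817) F109245 D72776
theorem F470563 : act 5 n213474 = n202404 := d16_3 F366445 D213010 F470562 F460860 (iv5 D211263) F428544 (iv5 F445004) (iv7 D207454) F366446
theorem F470564 : act 6 n202405 = n213474 := d12_0 F470563 (iv6 D202404) (iv5 D115700) D115701 D202405
def n213475 : Q := act 3 n153817
theorem D213475 : act 3 n153817 = n213475 := rfl
theorem F470565 : act 4 n213475 = n153865 := d5_2 D153817 D213475 (iv3 D153865) (iv4 D72778) (iv3 F109245)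
theorem F470566 : act 6 n213475 = n208507 := d7_2 F470538 D213475 (iv3 F470537)
theorem F470567 : act 7 n213475 = n210544 := d8_2 F469469 D213475 (iv3 F469466)
theorem F470568 : act 0 n213475 = n204616 := d20_10 F433036 F343247 (iv4 F422741) F422740 F359529 (iv3 F469418) F469419 (iv1 D153816) D153817 D213475
theorem F470569 : act 5 n198038 = n213475 := d18_9 F470568 F433036 F343247 (iv4 F422741) (iv5 D202026) F179625 (iv0 F351251) (iv4 F458293) F458294
theorem F470570 : act 2 n213475 = n210547 := d2_1 F470569 (iv5 F459568) (iv2 F459571)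
def n213476 : Q := act 5 n153817
theorem D213476 : act 5 n153817 = n213476 := rfl
theorem F470571 : act 2 n213476 = n156264 := d2_1 D213476 F463002 F430912
theorem F470572 : act 3 n213476 = n198038 := d6_1 D213476 F470569 (iv3 D213475)
theorem F470573 : act 7 n213476 = n156265 := d13_2 F469469 D213476 (iv5 F469468)
theorem F470574 : act 0 n156030 = n213476 := d19_0 (iv5 D213476) (iv4 D153817) F109245 D72776 F306447 (iv4 F306444) F235855 (iv1 F334076) F360669 (iv4 F360668) F317062 (iv1 D84410) D84411 (iv4 F315267) (iv3 F215320) F228259 (iv5 F316713) F316712 F366544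
theorem F470575 : act 1 n156267 = n213476 := d15_1 F461050 F470573 (iv2 F461045)
def n213477 : Q := act 4 n153822
theorem D213477 : act 4 n153822 = n213477 := rfl
theorem F470576 : act 2 n213477 = n154373 := d1_1 D213477 (iv4 D154373) (iv2 F354977)
theorem F470577 : act 3 n213477 = n175536 := d5_1 D213477 F274874 (iv3 F274747) (iv4 F430361) F430360
theorem F470578 : act 7 n213477 = n154390 := d11_2 (iv7 F354978) D213477 (iv4 D154390)
theorem F470579 : act 5 n213477 = n201144 := d16_1 D213477 F419253 (iv5 F365926) F213508 D132914 F354984 D153827 F354986 (iv2 F354977)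
theorem F470580 : act 0 n213477 = n185267 := d17_0 F364039 F345938 (iv5 F353695) (iv4 D154398) D154399 (iv0 F353701) F287546 (iv0 F353705) D213477
theorem F470581 : act 1 n213477 = n183884 := d18_6 (iv1 D153370) (iv4 F342774) F355076 (iv4 F354974) D153822 D213477 F369450 (iv0 F382947) F382946
def n213478 : Q := act 6 n153822
theorem D213478 : act 6 n153822 = n213478 := rfl
theorem F470582 : act 2 n213478 = n154374 := d3_1 D213478 (iv6 D154374) (iv2 F354977)
theorem F470583 : act 3 n213478 = n206254 := d7_1 D213478 F439941 F430360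
theorem F470584 : act 5 n213478 = n185162 := d12_1 D213478 F429629 (iv5 F429627) (iv6 D153823) D153822
theorem F470585 : act 0 n213478 = n185302 := d21_10 F387745 F387744 F383126 (iv6 D153862) (iv1 D72777) (iv6 F109249) (iv5 D72765) D72763 D153822 D213478
theorem F470586 : act 0 n213128 = n213478 := d21_4 (iv5 F153807) F372003 D152573 D213128 (iv6 D213478) (iv5 D153822) (iv1 F109251) (iv5 F109623) D154411 F310888
def n213479 : Q := act 4 n153827
theorem D213479 : act 4 n153827 = n213479 := rfl
theorem F470587 : act 2 n213479 = n154390 := d1_1 D213479 (iv4 D154390) (iv2 F354985)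
theorem F470588 : act 5 n213479 = n206602 := d9_2 D153827 D213479 F441520 (iv5 F347513) F213575 (iv5 F213607) (iv4 F354974) D153822 D213477 F470579 F419253 (iv5 F365926) F213508 D132914 F354984
theorem F470589 : act 6 n213479 = n191301 := d10_2 F353720 D213479 F382945
theorem F470590 : act 7 n213479 = n154373 := d11_2 (iv7 F354986) D213479 (iv4 D154373)
theorem F470591 : act 0 n213479 = n183884 := d17_0 (iv5 F378153) (iv1 F378158) (iv5 F358619) (iv4 D154403) D154404 (iv0 F357259) F136964 (iv0 F355063) D213479
theorem F470592 : act 3 n193578 = n213479 := d20_5 D208731 F450611 F277519 (iv3 F277511) (iv1 F431883) (iv4 D213479) F355063 (iv4 F285701) (iv3 F449656) F449659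
theorem F470593 : act 1 n213479 = n185267 := d15_1 (iv0 F470591) (iv7 D185267) (iv2 F285711)
def n213480 : Q := act 3 n153829
theorem D213480 : act 3 n153829 = n213480 := rfl
theorem F470594 : act 4 n213480 = n193550 := d5_2 (iv4 F337986) D213480 (iv3 D193550) (iv4 F364810) F287611
theorem F470595 : act 5 n213480 = n212294 := d6_2 (iv5 F310884) D213480 F465187
theorem F470596 : act 6 n213480 = n185081 := d7_2 (iv6 F310885) D213480 (iv3 D185081)
theorem F470597 : act 7 n213480 = n154402 := d8_2 (iv7 F353691) D213480 (iv3 D154402)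
theorem F470598 : act 0 n212897 = n213480 := d17_2 F353785 D212897 F470595 (iv4 D212294) (iv5 D146523) F319342 F83726 D55969 D121323
def n213481 : Q := act 4 n153830
theorem D213481 : act 4 n153830 = n213481 := rfl
theorem F470599 : act 2 n213481 = n154403 := d1_1 D213481 (iv4 D154403) (iv2 F353688)
theorem F470600 : act 7 n213481 = n154398 := d11_2 (iv7 F353689) D213481 (iv4 D154398)
theorem F470601 : act 5 n213481 = n189899 := d16_7 (iv4 F364817) D201702 F421474 D207767 F446333 F248344 D213481 (iv7 D189899) (iv2 F295062)
theorem F470602 : act 0 n213481 = n185378 := d17_0 (iv5 F365552) F419255 (iv5 F470579) (iv4 D213477) (iv5 D153822) (iv0 D72763) D72765 D153830 D213481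
theorem F470603 : act 1 n213481 = n185377 := d18_8 F441523 F441520 (iv1 F365927) (iv4 F216411) F349424 (iv4 D153831) D153830 D213481 F365543
theorem F470604 : act 6 n185388 = n213481 := d12_0 F470601 F378160 (iv5 F286051) (iv6 F394234) F394233
def n213482 : Q := act 6 n153830
theorem D213482 : act 6 n153830 = n213482 := rfl
theorem F470605 : act 2 n213482 = n154405 := d3_1 D213482 (iv6 D154405) (iv2 F353688)
theorem F470606 : act 3 n213482 = n193633 := d7_1 D213482 F390514 (iv3 F390271)
theorem F470607 : act 4 n213482 = n185388 := d10_1 D213482 F470604 (iv4 D213481)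
theorem F470608 : act 5 n213482 = n193245 := d12_1 D213482 (iv6 D193245) F357284 D157581 F248344
theorem F470609 : act 7 n213482 = n185088 := d14_2 (iv7 F353689) D213482 (iv6 D185088) (iv7 F337982) F353697
theorem F470610 : act 0 n212549 = n213482 := d21_4 (iv5 F231524) (iv1 D147779) D147781 D212549 (iv6 D213482) (iv5 F248344) (iv1 F353714) (iv5 F242449) F352350 (iv1 F337929)
def n213483 : Q := act 4 n153836
theorem D213483 : act 4 n153836 = n213483 := rfl
theorem F470611 : act 2 n213483 = n203912 := d1_1 D213483 F430361 (iv2 F310356)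
theorem F470612 : act 5 n213483 = n203905 := d9_2 D153836 D213483 (iv4 D203905) (iv5 F420267) F420266 (iv5 D175210) F128756 D83797 (iv4 F354907) (iv5 D154385) (iv4 F354911) F354912 F231840 (iv5 F332507) F162844
theorem F470613 : act 7 n213483 = n154473 := d11_2 (iv7 F241690) D213483 (iv4 D154473)
theorem F470614 : act 1 n213483 = n191283 := d18_6 (iv1 F337500) (iv4 F110096) F332509 F162844 D153836 D213483 (iv4 F433174) (iv0 D177733) (iv5 D84630)
theorem F470615 : act 3 n186931 = n213483 := d20_5 (iv4 D22813) D22811 D47490 (iv3 F347702) D186931 (iv4 D213483) F310354 (iv4 F382951) (iv3 D102360) (iv1 D47496)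
def n213484 : Q := act 3 n153840
theorem D213484 : act 3 n153840 = n213484 := rfl
theorem F470616 : act 2 n213484 = n193803 := d0_1 D213484 (iv3 F424450) F424447 F341130 (iv2 F241702)
theorem F470617 : act 4 n213484 = n186931 := d5_2 D153840 D213484 F470615 (iv4 D213483) F241689
theorem F470618 : act 7 n213484 = n154482 := d8_2 (iv7 F241703) D213484 (iv3 D154482)
theorem F470619 : act 0 n213484 = n193815 := d20_10 F391081 (iv1 F391082) (iv4 F391016) (iv3 F391023) (iv1 F222597) F352338 (iv4 D88172) (iv1 F308279) D153840 D213484
theorem F470620 : act 0 n187093 = n213484 := d18_0 F470617 F368543 (iv4 F387899) (iv5 F393904) F393903 D194639 (iv4 F466344) (iv0 F466347) F416277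
def n213485 : Q := act 6 n153840
theorem D213485 : act 6 n153840 = n213485 := rfl
theorem F470621 : act 2 n213485 = n154447 := d3_1 D213485 (iv6 D154447) (iv2 F241702)
theorem F470622 : act 4 n213485 = n153841 := d10_1 D213485 (iv6 D153841) D153840
theorem F470623 : act 7 n213485 = n182220 := d14_2 (iv7 F241703) D213485 (iv6 D182220) F133517 (iv6 F308277)
theorem F470624 : act 0 n213485 = n185291 := d21_10 (iv5 F393984) (iv1 F394236) F394233 F470604 F470602 (iv6 F353761) F337995 F458385 F458382 D213485
theorem F470625 : act 0 n185290 = n213485 := d18_0 F470622 F310371 (iv4 F373380) (iv5 D152573) F108454 D127824 F358490 D184097 F358625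
def n213486 : Q := act 4 n153857
theorem D213486 : act 4 n153857 = n213486 := rfl
theorem F470626 : act 2 n213486 = n213480 := d1_1 D213486 F470594 F390238
theorem F470627 : act 5 n213486 = n203914 := d9_2 (iv5 F308326) D213486 (iv4 D203914) (iv5 D121330) F318958 F85351 (iv4 F108159) D152006 (iv4 F353686) (iv5 F353685) F238497 F161829 F335467 (iv5 F247743) (iv4 F348246)
theorem F470628 : act 6 n213486 = n193772 := d10_2 (iv6 F358576) D213486 F390971
theorem F470629 : act 7 n213486 = n154508 := d11_2 (iv7 F241747) D213486 (iv4 D154508)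
theorem F470630 : act 1 n213486 = n204244 := d18_6 (iv1 F247750) (iv4 D152010) F247746 (iv4 F348246) (iv5 F308326) D213486 (iv4 D204244) F364120 (iv5 D152036)
theorem F470631 : act 3 n213486 = n193556 := d20_3 F430312 F348247 D213486 (iv1 F426859) (iv3 D203066) D203067 F426862 (iv4 F464008) F464005 (iv1 F430315)
def n213487 : Q := act 3 n153858
theorem D213487 : act 3 n153858 = n213487 := rfl
theorem F470632 : act 4 n213487 = n193556 := d5_2 D153858 D213487 (iv3 F470631) (iv4 D213486) (iv3 D153857)
theorem F470633 : act 6 n213487 = n193773 := d7_2 (iv6 F353746) D213487 F390970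
theorem F470634 : act 7 n213487 = n154511 := d8_2 (iv7 F241749) D213487 (iv3 D154511)
def n213488 : Q := act 3 n153864
theorem D213488 : act 3 n153864 = n213488 := rfl
theorem F470635 : act 7 n213488 = n154518 := d8_2 (iv7 F338012) D213488 (iv3 D154518)
def n213489 : Q := act 5 n153877
theorem D213489 : act 5 n153877 = n213489 := rfl
theorem F470636 : act 2 n213489 = n154650 := d2_1 D213489 (iv5 D154650) F241795
theorem F470637 : act 3 n213489 = n173573 := d6_1 D213489 (iv5 D173573) F308287
theorem F470638 : act 4 n213489 = n188773 := d9_1 D213489 (iv5 D188773) (iv4 D92781) D92782 F332656 (iv5 D123428) (iv4 F120844) D84695 D177913 F332658 (iv4 D92777) D92778 (iv4 F332661) (iv5 F332662) (iv4 F241794)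
theorem F470639 : act 7 n213489 = n154082 := d13_2 (iv7 F241798) D213489 (iv5 D154082)
theorem F470640 : act 1 n213489 = n177911 := d17_6 F383258 (iv5 F349511) F349513 (iv5 F332662) (iv4 F241794) D213489 (iv5 F384734) (iv0 F384735) (iv4 F383257)
theorem F470641 : act 0 n213489 = n177912 := d18_0 F332660 F151078 D191307 (iv5 F382980) (iv4 F376312) (iv0 F376313) F242741 F241796 D213489
def n213490 : Q := act 1 n153897
theorem D213490 : act 1 n153897 = n213490 := rfl
theorem F470642 : act 1 n213490 = n154569 := d15_1 D213490 (iv7 F387065) F387058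
theorem F470643 : act 7 n213490 = n154572 := d15_2 (iv0 F421380) D213490 (iv2 F421426)
theorem F470644 : act 5 n191382 = n213490 := d21_0 (iv1 D213490) (iv5 D153897) F305616 F70105 D83490 D174746 F384380 F384379 D212933 (iv1 F468200)
theorem F470645 : act 2 n213490 = n154571 := d2_1 F470644 (iv5 F468540) F468545
theorem F470646 : act 3 n213490 = n191500 := d6_1 F470644 (iv5 F468572) F468575
theorem F470647 : act 0 n197273 = n210176 := d19_8 (iv1 F470642) (iv5 F470644) F383278 F366896 F429375 F429373 (iv4 D197284) (iv3 F403802) (iv5 D210176) F385447 (iv3 F385976) (iv1 F290117) (iv5 D177862) (iv4 D84680) D84679 (iv1 F289799) (iv5 F154410) (iv4 F387070) F387069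
def n213491 : Q := act 0 n153907
theorem D213491 : act 0 n153907 = n213491 := rfl
theorem F470648 : act 5 n213491 = n179257 := d17_1 D213491 F398601 F398599 (iv4 F366621) F367181 (iv0 F367182) F238452 F238455 (iv4 F241888)
theorem F470649 : act 4 n213491 = n164209 := d18_1 D213491 (iv1 F355329) F272145 (iv5 F326618) D178921 (iv0 F407656) (iv4 F407654) D200507 (iv5 F416777)
theorem F470650 : act 3 n213491 = n179268 := d20_5 (iv4 F342699) (iv1 D124685) (iv4 F109330) (iv3 F241887) D213491 F350614 (iv1 F380974) (iv4 F444852) F444851 (iv1 F345972)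
theorem F470651 : act 6 n213491 = n212513 := d21_5 F177726 F90747 D72824 D153907 D213491 (iv5 F466186) F430101 (iv5 D201403) (iv6 D114434) (iv1 F177729)
theorem F470652 : act 2 n201413 = n213491 := d15_3 (iv0 D213491) (iv0 F392264) (iv7 F420415)
theorem F470653 : act 1 n158707 = n213491 := d15_0 (iv0 D213491) F355844 F263846
theorem F470654 : act 7 n213491 = n179255 := d15_2 F392263 F470653 (iv2 F392261)
def n213492 : Q := act 4 n153910
theorem D213492 : act 4 n153910 = n213492 := rfl
theorem F470655 : act 6 n213492 = n197449 := d10_2 (iv6 F416778) D213492 F416775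
theorem F470656 : act 1 n213492 = n199097 := d18_6 F331856 (iv4 F331860) (iv1 D72862) (iv4 F109328) D153910 D213492 F410646 (iv0 D176110) (iv5 D84010)
def n213493 : Q := act 7 n153914
theorem D213493 : act 7 n153914 = n213493 := rfl
theorem F470657 : act 2 n213493 = n205034 := d4_1 D213493 F434712 (iv2 F241894)
theorem F470658 : act 3 n213493 = n174519 := d8_1 D213493 (iv7 F416774) (iv3 F416776)
theorem F470659 : act 4 n213493 = n204914 := d11_1 D213493 F434144 F362135
theorem F470660 : act 5 n213493 = n153915 := d13_1 D213493 (iv7 D153915) D153914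
theorem F470661 : act 6 n213493 = n174435 := d14_1 D213493 F354169 (iv6 F343426) (iv7 D153922) (iv6 F241895)
theorem F470662 : act 1 n154284 = n213493 := d15_1 (iv0 F343437) (iv7 D213493) F241894
theorem F470663 : act 1 n213493 = n206298 := d15_1 F470662 F440135 F432213
def n213494 : Q := act 3 n153921
theorem D213494 : act 3 n153921 = n213494 := rfl
theorem F470664 : act 2 n213494 = n210332 := d0_1 D213494 F457064 F446572 (iv3 D206300) (iv2 F241919)
theorem F470665 : act 6 n213494 = n156464 := d7_2 (iv6 F362136) D213494 (iv3 F358665)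
theorem F470666 : act 7 n213494 = n210341 := d8_2 F394171 D213494 (iv3 F457105)
theorem F470667 : act 0 n213494 = n199269 := d20_4 F375596 (iv1 D153920) D153921 D213494 (iv3 D199269) F172346 (iv1 F215967) (iv4 F216112) F362973 (iv1 F375600)
theorem F470668 : act 1 n213494 = n210342 := d15_1 (iv0 F470667) F457107 F411399
def n213495 : Q := act 5 n153921
theorem D213495 : act 5 n153921 = n213495 := rfl
theorem F470669 : act 2 n213495 = n206301 := d2_1 D213495 (iv5 D206301) (iv2 F241919)
theorem F470670 : act 4 n213495 = n206224 := d9_1 D213495 F439791 F234843 F199575 F109304 (iv5 F206314) (iv4 F364280) (iv5 F398383) (iv4 D195833) (iv5 D106328) F77598 (iv5 D33591) (iv4 F52884) D72829 D153921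
theorem F470671 : act 7 n213495 = n206222 := d13_2 F394171 D213495 (iv5 F439781)
theorem F470672 : act 0 n213495 = n211674 := d17_2 (iv1 F394177) D213495 F462635 F394134 F333393 (iv0 D60205) D60207 D128117 (iv4 F394175)
def n213496 : Q := act 3 n153938
theorem D213496 : act 3 n153938 = n213496 := rfl
theorem F470673 : act 4 n213496 = n187566 := d5_2 D153938 D213496 F403331 (iv4 D197160) (iv3 F315788)
theorem F470674 : act 5 n213496 = n204221 := d6_2 F467821 D213496 F467824
theorem F470675 : act 6 n213496 = n188115 := d7_2 F373431 D213496 F373426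
theorem F470676 : act 7 n213496 = n187563 := d8_2 F434238 D213496 (iv3 F434236)
theorem F470677 : act 0 n213496 = n187898 := d19_4 F199700 D72849 D153938 D213496 F413458 F413452 F420031 (iv1 D201326) F178299 (iv4 F364643) D196262 F400094 F399352 (iv4 F211558) F211560 (iv1 F207872) (iv5 F315350) F206388 (iv3 D124745)
theorem F470678 : act 0 n187894 = n213496 := d20_4 (iv4 F301586) (iv1 F302880) (iv4 F329073) (iv3 F371772) (iv3 D213496) (iv4 D153938) (iv1 F366781) F338871 (iv3 D177833) D177831
theorem F470679 : act 2 n188058 = n213496 := d15_3 (iv0 F470678) (iv0 F371775) D188058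
def n213497 : Q := act 4 n153944
theorem D213497 : act 4 n153944 = n213497 := rfl
theorem F470680 : act 2 n213497 = n204554 := d1_1 D213497 (iv4 F434125) F434124
theorem F470681 : act 6 n213497 = n201213 := d10_2 (iv6 F241965) D213497 (iv4 D201213)
theorem F470682 : act 7 n213497 = n204555 := d11_2 F433050 D213497 (iv4 F433051)
theorem F470683 : act 5 n213497 = n207087 := d16_1 D213497 F443257 (iv5 D133260) (iv4 D62538) F97469 D130149 D207096 F443296 F434124
theorem F470684 : act 0 n213497 = n204215 := d17_0 F431515 F445538 F445539 (iv4 F434254) F434253 (iv0 F338852) F375708 (iv0 F375709) D213497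
theorem F470685 : act 1 n213497 = n204553 := d18_6 (iv1 F197320) F312602 D61099 F312103 D153944 D213497 (iv4 D204553) (iv0 F431486) (iv5 D204206)
theorem F470686 : act 3 n213497 = n208600 := d19_3 F357810 D153944 D213497 (iv1 D208600) (iv5 D134783) F98610 (iv3 D53125) (iv1 D25771) D25773 (iv4 F78629) F316238 (iv1 F130593) (iv5 D85306) (iv4 D39414) D39413 (iv1 F190864) (iv5 D58318) D58317 D124745
def n213498 : Q := act 0 n153953
theorem D213498 : act 0 n153953 = n213498 := rfl
theorem F470687 : act 5 n213498 = n207129 := d17_1 D213498 F443457 (iv5 F285987) (iv4 F396039) F396040 F387755 F387753 F374916 F374907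
theorem F470688 : act 4 n213498 = n188755 := d18_1 D213498 (iv1 F374741) F389491 (iv5 D193334) F331913 (iv0 D83484) (iv4 F128584) (iv0 F331918) D153953
theorem F470689 : act 2 n153969 = n213498 := d15_3 (iv0 D213498) F371171 (iv7 F374736)
theorem F470690 : act 6 n213498 = n201690 := d3_2 (iv6 F390322) F470689 (iv2 F421429)
theorem F470691 : act 7 n213498 = n153970 := d4_2 (iv7 F374736) F470689 (iv2 F371168)
theorem F470692 : act 1 n153972 = n213498 := d15_1 (iv0 F371170) F470691 (iv2 F371168)
theorem F470693 : act 3 n191527 = n213498 := d19_19 (iv1 F470692) F241987 F308241 F306242 F190374 D79810 D166218 (iv3 F385862) F385864 D211588 F462277 F419059 (iv1 F443951) (iv5 D207246) F209219 F207624 F207437 D206768 (iv4 F442115)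
def n213499 : Q := act 7 n153953
theorem D213499 : act 7 n153953 = n213499 := rfl
theorem F470694 : act 2 n213499 = n153972 := d4_1 D213499 (iv7 D153972) (iv2 F241970)
theorem F470695 : act 3 n213499 = n186677 := d8_1 D213499 (iv7 F431621) F431619
theorem F470696 : act 4 n213499 = n187763 := d11_1 D213499 F374925 F374907
theorem F470697 : act 5 n213499 = n153954 := d13_1 D213499 (iv7 D153954) D153953
theorem F470698 : act 1 n153970 = n213499 := d15_1 D153970 (iv7 D213499) F241970
theorem F470699 : act 1 n213499 = n153969 := d15_1 F470698 F374736 F371168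
theorem F470700 : act 6 n213499 = n211213 := d21_9 F462317 F460517 F394143 (iv6 D183505) F284504 (iv6 F364931) (iv5 D153962) (iv1 F241976) (iv5 F470697) (iv1 F462319)
def n213500 : Q := act 6 n153956
theorem D213500 : act 6 n153956 = n213500 := rfl
theorem F470701 : act 3 n213500 = n212341 := d7_1 D213500 F465399 F405033
theorem F470702 : act 4 n213500 = n201197 := d10_1 D213500 (iv6 D201197) F336956
theorem F470703 : act 0 n213500 = n201580 := d21_4 (iv5 F390333) (iv1 F449682) F449678 D213500 F421008 F369426 D190701 (iv5 F380669) F391107 (iv1 D193824)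
theorem F470704 : act 0 n201582 = n213500 := d18_2 F371492 D201582 F470702 F419410 F231611 D147844 F332127 F364022 D176083
def n213501 : Q := act 5 n153969
theorem D213501 : act 5 n153969 = n213501 := rfl
theorem F470705 : act 2 n213501 = n207129 := d2_1 D213501 (iv5 F470687) (iv2 F470689)
theorem F470706 : act 3 n213501 = n204109 := d6_1 D213501 (iv5 F431217) F431216
theorem F470707 : act 6 n213501 = n212556 := d12_2 (iv6 F390322) D213501 F466406 (iv6 D193575) D193574
theorem F470708 : act 7 n213501 = n191388 := d13_2 (iv7 F374736) D213501 F383301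
theorem F470709 : act 4 n213501 = n158584 := d16_6 (iv4 F410646) (iv5 F411068) F411071 F387793 F374735 D213501 (iv5 F346540) (iv7 F383305) F383303
theorem F470710 : act 1 n213501 = n213268 := d17_6 (iv1 F444505) F252004 (iv1 F387796) F387793 F374735 D213501 F469642 (iv0 F396028) (iv4 F444504)
theorem F470711 : act 0 n213501 = n192580 := d18_0 F387159 D208922 F451417 F383236 F365802 D187763 (iv4 F470696) F470699 D213501
def n213502 : Q := act 3 n153970
theorem D213502 : act 3 n153970 = n213502 := rfl
theorem F470712 : act 2 n213502 = n191526 := d0_1 D213502 F442482 F431220 F431097 F371168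
theorem F470713 : act 4 n213502 = n207670 := d5_2 (iv4 F369222) D213502 F445937 (iv4 F442543) F230272
theorem F470714 : act 6 n213502 = n187767 := d7_2 F369221 D213502 (iv3 D187767)
theorem F470715 : act 7 n213502 = n191527 := d8_2 F470691 D213502 F470693
theorem F470716 : act 0 n213502 = n173421 := d20_4 F374733 (iv1 D188754) (iv4 F369222) D213502 (iv3 F366746) D186693 (iv1 F389562) (iv4 D193356) F389523 (iv1 D193344)
theorem F470717 : act 5 n192304 = n213502 := d18_9 F470716 (iv4 F437337) (iv1 F445908) F445903 F431281 F429861 F403086 F403083 F447687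
theorem F470718 : act 1 n213502 = n191525 := d15_1 (iv0 F470716) (iv7 F442870) F442867
theorem F470719 : act 0 n210188 = n187767 := d21_4 (iv5 F402231) (iv1 F456504) (iv5 D210187) D210188 (iv6 F470714) (iv5 F470717) (iv1 F447687) (iv5 D191557) D191558 F383809
def n213503 : Q := act 5 n153970
theorem D213503 : act 5 n153970 = n213503 := rfl
theorem F470720 : act 2 n213503 = n191388 := d2_1 D213503 F383301 F371168
theorem F470721 : act 3 n213503 = n192304 := d6_1 D213503 F470717 (iv3 D213502)
theorem F470722 : act 7 n213503 = n207129 := d13_2 F470691 D213503 (iv5 F470687)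
theorem F470723 : act 4 n213503 = n158583 := d16_2 (iv4 F369222) D213503 (iv5 F344756) (iv4 F410646) (iv5 F411068) F411071 F387793 (iv7 D187679) (iv2 F143018)
theorem F470724 : act 0 n213503 = n213268 := d17_2 (iv1 F470698) D213503 F469642 F396027 F161539 (iv0 F367158) F367157 D187763 (iv4 F470696)
theorem F470725 : act 1 n213503 = n192580 := d17_8 D208922 F451418 (iv1 F392793) (iv5 D153910) F109328 D72863 D153970 D213503 F387159
theorem F470726 : act 6 n213503 = n182919 := d21_3 (iv5 F470697) (iv1 F470698) D213503 (iv1 D182919) (iv6 D87336) (iv5 D40592) D40590 (iv5 F127860) F331870 (iv1 F241976)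
def n213504 : Q := act 5 n153971
theorem D213504 : act 5 n153971 = n213504 := rfl
theorem F470727 : act 3 n213504 = n201097 := d6_1 D213504 F419079 F418307
theorem F470728 : act 6 n213504 = n186964 := d12_2 F418302 D213504 (iv5 D186964) D186965 F418301
theorem F470729 : act 1 n213504 = n209124 := d17_6 F450849 (iv5 D153967) (iv1 D72862) D72863 D153971 D213504 (iv5 D209124) (iv0 F396024) (iv4 F450848)
def n213505 : Q := act 5 n153975
theorem D213505 : act 5 n153975 = n213505 := rfl
theorem F470730 : act 2 n213505 = n183148 := d2_1 D213505 F359699 F347999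
theorem F470731 : act 3 n213505 = n202586 := d6_1 D213505 (iv5 D202586) (iv3 F348001)
theorem F470732 : act 7 n213505 = n182037 := d13_2 F348000 D213505 (iv5 F359695)
theorem F470733 : act 0 n213505 = n183146 := d17_2 D153975 D213505 (iv5 F449545) F449541 (iv5 D163930) (iv0 F320733) D126203 (iv0 F202963) (iv4 F311879)
theorem F470734 : act 1 n213505 = n183145 := d17_6 D176493 F353638 D200730 (iv5 F417681) F350717 D213505 F359700 (iv0 F362988) F275807
theorem F470735 : act 6 n213505 = n183153 := d21_9 F439688 (iv1 F366753) (iv5 F366835) (iv6 D183090) (iv1 F307405) (iv6 F241996) (iv5 D153977) D153975 D213505 (iv1 F439690)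
def n213506 : Q := act 6 n153975
theorem D213506 : act 6 n153975 = n213506 := rfl
theorem F470736 : act 2 n213506 = n212522 := d3_1 D213506 (iv6 D212522) F347999
theorem F470737 : act 3 n213506 = n202587 := d7_1 D213506 (iv6 D202587) (iv3 F348001)
theorem F470738 : act 4 n213506 = n211904 := d10_1 D213506 F463506 F350717
theorem F470739 : act 5 n213506 = n184086 := d12_1 D213506 (iv6 F394219) F394218 (iv6 F470735) (iv5 D213505)
theorem F470740 : act 7 n213506 = n184085 := d14_2 F348000 D213506 F286025 (iv7 F137682) F359697
theorem F470741 : act 0 n213506 = n153992 := d21_4 (iv5 F359700) (iv1 F470734) (iv5 D213505) D213506 (iv6 D153992) F347345 F216302 F339682 D176492 F362988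
theorem F470742 : act 1 n213506 = n212351 := d15_1 (iv0 F470741) F465436 F361778
def n213507 : Q := act 1 n153977
theorem D213507 : act 1 n153977 = n213507 := rfl
theorem F470743 : act 1 n213507 = n212521 := d15_1 D213507 F466233 (iv2 F241995)
theorem F470744 : act 7 n213507 = n212523 := d15_2 (iv0 F460989) D213507 (iv2 F466243)
theorem F470745 : act 5 n213507 = n194136 := d17_7 (iv1 F439389) (iv5 F439392) (iv1 F338356) (iv5 F176498) (iv4 F311879) D153977 D213507 F460985 F460981
theorem F470746 : act 3 n194139 = n213507 := d19_19 (iv1 D213507) (iv5 D153977) F311879 (iv3 D69084) (iv1 D32143) D32145 (iv4 F94410) (iv3 F162366) D195564 F397360 F223037 (iv3 F225265) F225267 (iv5 F181595) F85077 D65465 D139495 D210675 F458420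
theorem F470747 : act 2 n213507 = n210866 := d0_1 F470746 F459059 (iv2 F224501) (iv3 F457788) F457787
theorem F470748 : act 4 n213507 = n187510 := d5_2 F458420 F470746 (iv3 F445184) F445179 (iv3 F458419)
theorem F470749 : act 6 n185515 = n213507 := d10_0 F470748 (iv6 D187510) F356716
def n213508 : Q := act 4 n153977
theorem D213508 : act 4 n153977 = n213508 := rfl
theorem F470750 : act 2 n213508 = n212287 := d1_1 D213508 F465148 (iv2 F241995)
theorem F470751 : act 6 n213508 = n211142 := d10_2 (iv6 F241996) D213508 F460302
theorem F470752 : act 7 n213508 = n212286 := d11_2 (iv7 F366696) D213508 F465145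
theorem F470753 : act 5 n213508 = n202945 := d16_1 D213508 (iv4 F437106) F437104 F261915 F318601 D147595 D212521 F466233 (iv2 F241995)
theorem F470754 : act 1 n213508 = n200645 := d18_6 (iv1 F242330) F353625 (iv1 D147355) (iv4 F311879) D153977 D213508 F429626 F429625 F377054
def n213509 : Q := act 6 n153984
theorem D213509 : act 6 n153984 = n213509 := rfl
theorem F470755 : act 2 n213509 = n208462 := d3_1 D213509 (iv6 D208462) (iv2 F360771)
theorem F470756 : act 3 n213509 = n153987 := d7_1 D213509 (iv6 D153987) D153984
theorem F470757 : act 4 n213509 = n204861 := d10_1 D213509 F433891 F349789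
theorem F470758 : act 7 n213509 = n212325 := d14_2 F434201 D213509 (iv6 F465327) (iv7 F426111) (iv6 F434200)
theorem F470759 : act 0 n213509 = n202929 := d21_4 D146919 (iv1 F336998) F360769 D213509 F426232 F360612 (iv1 D136106) (iv5 F329158) F360608 (iv1 D146918)
theorem F470760 : act 5 n213509 = n213392 := d21_6 F386437 (iv1 F197040) F309425 D148167 (iv1 F360772) D213509 F470204 (iv5 D202925) F361670 (iv1 F386435)
theorem F470761 : act 0 n202977 = n213509 := d17_0 F470760 F470204 (iv5 D202925) (iv4 D117263) D117264 (iv0 F184260) F130902 (iv0 F183957) D202977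
def n213510 : Q := act 1 n153987
theorem D213510 : act 1 n153987 = n213510 := rfl
theorem F470762 : act 1 n213510 = n213391 := d15_1 D213510 F470200 (iv2 F360778)
theorem F470763 : act 7 n213510 = n213292 := d15_2 (iv0 F426700) D213510 F469757
theorem F470764 : act 6 n187208 = n213510 := d21_3 D153371 F338037 (iv5 F369509) (iv1 D213510) (iv6 D153987) D153986 (iv1 F355011) (iv5 F380685) F380692 (iv1 D153370)
theorem F470765 : act 2 n213510 = n212786 := d3_1 F470764 F467502 (iv2 F369515)
theorem F470766 : act 3 n213510 = n187209 := d7_1 F470764 (iv6 D187209) D187208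
theorem F470767 : act 5 n213510 = n189197 := d12_1 F470764 F376034 F144147 D185060 (iv5 F369509)
def n213511 : Q := act 7 n153987
theorem D213511 : act 7 n153987 = n213511 := rfl
theorem F470768 : act 2 n213511 = n213391 := d4_1 D213511 F470200 (iv2 F360778)
theorem F470769 : act 3 n213511 = n212325 := d8_1 D213511 (iv7 F470758) F470756
theorem F470770 : act 4 n213511 = n212496 := d11_1 D213511 F466089 F349796
theorem F470771 : act 5 n213511 = n213302 := d13_1 D213511 (iv7 F469811) (iv5 F242011)
theorem F470772 : act 6 n213511 = n212351 := d14_1 D213511 F465436 (iv6 F361779) F347347 D153987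
theorem F470773 : act 1 n212786 = n213511 := d15_1 (iv0 F467504) (iv7 D213511) F360778
theorem F470774 : act 1 n213511 = n213292 := d15_1 F470773 (iv7 F470763) F470765
def n213512 : Q := act 5 n153992
theorem D213512 : act 5 n153992 = n213512 := rfl
theorem F470775 : act 2 n213512 = n212540 := d2_1 D213512 (iv5 D212540) F361778
theorem F470776 : act 3 n213512 = n199071 := d6_1 D213512 F410537 (iv3 F361782)
theorem F470777 : act 6 n213512 = n184102 := d12_2 D153992 D213512 F339697 (iv6 D134374) (iv5 F347345)
theorem F470778 : act 0 n213512 = n206306 := d17_2 F470741 D213512 (iv5 D206306) (iv4 D128213) (iv5 F347138) F392947 F392948 (iv0 F463505) (iv4 F470738)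
theorem F470779 : act 1 n213512 = n206303 := d17_6 F354074 (iv5 F392928) (iv1 F392931) (iv5 F361780) (iv4 F361777) D213512 (iv5 D206303) F354082 (iv4 F240701)
def n213513 : Q := act 7 n153992
theorem D213513 : act 7 n153992 = n213513 := rfl
theorem F470780 : act 2 n213513 = n212351 := d4_1 D213513 F465436 F361778
theorem F470781 : act 3 n213513 = n207345 := d8_1 D213513 F444445 (iv3 F361782)
theorem F470782 : act 4 n213513 = n212495 := d11_1 D213513 F466082 (iv4 F361777)
theorem F470783 : act 6 n213513 = n213391 := d14_1 D213513 F470200 (iv6 F336900) F347350 D153992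
theorem F470784 : act 1 n212522 = n213513 := d15_1 F466238 (iv7 D213513) (iv2 F361778)
theorem F470785 : act 1 n213513 = n184085 := d15_1 F470784 (iv7 F470740) F470736
def n213514 : Q := act 6 n154014
theorem D213514 : act 6 n154014 = n213514 := rfl
theorem F470786 : act 2 n213514 = n191611 := d3_1 D213514 F456188 F431851
theorem F470787 : act 3 n213514 = n154017 := d7_1 D213514 (iv6 D154017) D154014
theorem F470788 : act 0 n213514 = n191604 := d21_4 (iv5 F387296) (iv1 F387298) (iv5 F358464) D213514 (iv6 D191604) (iv5 D98587) (iv1 F72657) D87543 (iv6 F338410) F367705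
theorem F470789 : act 1 n213514 = n191612 := d15_1 (iv0 F470788) (iv7 D191612) (iv2 F383957)
theorem F470790 : act 7 n191610 = n213514 := d8_0 F470787 F364040 (iv3 F384041)
theorem F470791 : act 1 n213149 = n191604 := d15_0 (iv0 F470788) (iv7 F470790) (iv2 F469209)
def n213515 : Q := act 3 n154019
theorem D213515 : act 3 n154019 = n213515 := rfl
theorem F470792 : act 2 n213515 = n201702 := d0_1 D213515 F421472 (iv2 F396464) F396465 (iv2 F242339)
theorem F470793 : act 4 n213515 = n207762 := d5_2 D154019 D213515 (iv3 F446303) F338555 F242347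
theorem F470794 : act 5 n213515 = n189802 := d6_2 F398355 D213515 (iv3 F398354)
theorem F470795 : act 7 n213515 = n207764 := d8_2 F242343 D213515 F446314
theorem F470796 : act 6 n181690 = n213515 := d14_5 F470795 (iv6 F469253) F469254 (iv6 F442105) F442102
theorem F470797 : act 0 n213515 = n154350 := d21_4 (iv5 D124607) F296422 D181690 F470796 (iv6 F358584) (iv5 F355970) (iv1 F355986) F343565 D130199 (iv1 F354307)
def n213516 : Q := act 6 n154019
theorem D213516 : act 6 n154019 = n213516 := rfl
theorem F470798 : act 3 n213516 = n181690 := d7_1 D213516 F470796 (iv3 D213515)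
theorem F470799 : act 4 n213516 = n154020 := d10_1 D213516 (iv6 D154020) D154019
theorem F470800 : act 5 n213516 = n181689 := d12_1 D213516 (iv6 F366965) D189801 F398356 F398355
theorem F470801 : act 0 n213516 = n207478 := d21_4 (iv5 F421359) (iv1 F421361) F398355 D213516 (iv6 D207478) (iv5 F373502) (iv1 F373547) F373544 F362903 (iv1 F389057)
theorem F470802 : act 0 n205583 = n213516 := d21_4 (iv5 D200804) (iv1 F176685) D126382 D205583 (iv6 D213516) (iv5 F398355) F421366 F421363 F389049 (iv1 F417978)
def n213517 : Q := act 6 n154021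
theorem D213517 : act 6 n154021 = n213517 := rfl
theorem F470803 : act 2 n213517 = n189785 := d3_1 D213517 (iv6 F432189) F432187
theorem F470804 : act 3 n213517 = n206084 := d7_1 D213517 (iv6 F445747) (iv3 F445751)
theorem F470805 : act 4 n213517 = n154230 := d10_1 D213517 (iv6 D154230) F242089
theorem F470806 : act 5 n213517 = n206077 := d12_1 D213517 F439151 F418091 (iv6 F462058) F462060
theorem F470807 : act 7 n213517 = n189783 := d14_2 F432230 D213517 (iv6 F377734) (iv7 F417508) F432235
theorem F470808 : act 0 n213517 = n189802 := d21_4 D205559 (iv1 F462061) F462060 D213517 (iv6 D189802) (iv5 D95269) F70011 D86125 (iv6 F295054) (iv1 F345929)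
theorem F470809 : act 1 n213517 = n195243 := d15_1 (iv0 F470808) F396440 (iv2 F377801)
def n213518 : Q := act 5 n154022
theorem D213518 : act 5 n154022 = n213518 := rfl
theorem F470810 : act 2 n213518 = n201522 := d2_1 D213518 (iv5 F432231) F432229
theorem F470811 : act 3 n213518 = n207562 := d6_1 D213518 F445454 F365503
theorem F470812 : act 4 n213518 = n154053 := d9_1 D213518 (iv5 D154053) (iv4 D72931) D72932 D154054 F242088 F242089 (iv5 F462060) (iv4 D211545) (iv5 D142854) F102901 (iv5 F318071) (iv4 F108590) F190092 (iv4 F242048)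
theorem F470813 : act 0 n213518 = n205559 := d17_2 (iv1 F363724) D213518 (iv5 D205559) (iv4 F220832) F345931 F240144 F109366 F308299 D183432
def n213519 : Q := act 0 n154023
theorem D213519 : act 0 n154023 = n213519 := rfl
theorem F470814 : act 5 n213519 = n205560 := d17_1 D213519 (iv1 F436997) F417381 F176519 (iv5 F177207) (iv0 F396047) (iv5 F396419) F418310 F418308
theorem F470815 : act 4 n213519 = n195670 := d18_3 F418309 F418308 D213519 F397800 D200936 (iv0 F418437) F362690 D195165 (iv5 F396055)
theorem F470816 : act 6 n213519 = n195241 := d21_5 F417215 F395630 F395629 (iv6 F339646) D213519 (iv5 F400082) (iv1 F400084) (iv5 D113977) D113978 F417217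
theorem F470817 : act 2 n201130 = n213519 := d15_3 (iv0 D213519) (iv0 F421534) (iv7 F419196)
theorem F470818 : act 7 n213519 = n200700 := d4_2 (iv7 F419196) F470817 (iv2 F418736)
theorem F470819 : act 1 n205414 = n213519 := d15_1 (iv0 F436301) F470818 (iv2 F418736)
def n213520 : Q := act 2 n154023
theorem D213520 : act 2 n154023 = n213520 := rfl
theorem F470820 : act 4 n213520 = n201025 := d1_2 F418308 D213520 F418792
theorem F470821 : act 5 n213520 = n200774 := d2_2 F439295 D213520 (iv2 F439293)
theorem F470822 : act 6 n213520 = n197013 := d3_2 (iv6 F339646) D213520 (iv2 F402694)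
theorem F470823 : act 7 n205414 = n213520 := d15_2 (iv0 F421534) (iv0 F436301) (iv2 D213520)
theorem F470824 : act 0 n213520 = n201130 := d21_4 (iv5 F418791) (iv1 D200775) (iv5 F402693) (iv6 F470822) F419195 (iv5 F399231) (iv1 F399232) (iv5 D195183) D195184 F399233
theorem F470825 : act 1 n213520 = n200700 := d15_1 (iv0 F470824) (iv7 F470818) (iv2 F470817)
theorem F470826 : act 0 n189586 = n206127 := d20_4 F421278 (iv1 D117340) (iv4 F183747) (iv3 F377047) F439364 (iv4 F417549) (iv1 F470825) F470820 (iv3 F452160) F452164
def n213521 : Q := act 7 n154023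
theorem D213521 : act 7 n154023 = n213521 := rfl
theorem F470827 : act 2 n213521 = n205414 := d4_1 D213521 F470823 (iv2 D213520)
theorem F470828 : act 3 n213521 = n154025 := d8_1 D213521 (iv7 D154025) D154023
theorem F470829 : act 4 n213521 = n201045 := d11_1 D213521 F418862 F418308
theorem F470830 : act 5 n213521 = n201122 := d13_1 D213521 (iv7 F439296) F439295
theorem F470831 : act 6 n213521 = n205189 := d14_1 D213521 F435343 (iv6 F402685) (iv7 F402686) (iv6 F339646)
theorem F470832 : act 1 n200700 = n213521 := d15_1 F470825 (iv7 D213521) D213520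
theorem F470833 : act 1 n213521 = n201130 := d15_1 F470832 F419196 F418736
def n213522 : Q := act 0 n154026
theorem D213522 : act 0 n154026 = n213522 := rfl
theorem F470834 : act 5 n213522 = n184314 := d21_2 F366830 D213522 F415402 (iv1 D141175) D141177 D211184 F460506 (iv5 F406421) (iv6 F453046) F453047
theorem F470835 : act 6 n213522 = n189895 := d21_5 (iv5 D86922) (iv1 F306398) (iv5 F109367) D154026 D213522 (iv5 F454336) (iv1 F454337) (iv5 F441544) F441542 (iv1 D181992)
theorem F470836 : act 1 n189905 = n213522 := d15_0 (iv0 D213522) (iv7 F380875) F380874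
theorem F470837 : act 2 n211255 = n213522 := d3_3 F470835 F417194 (iv6 F460823)
def n213523 : Q := act 1 n154026
theorem D213523 : act 1 n154026 = n213523 := rfl
theorem F470838 : act 1 n213523 = n189905 := d15_1 D213523 F378179 F366819
theorem F470839 : act 7 n213523 = n211255 := d15_2 (iv0 D213522) D213523 F470837
theorem F470840 : act 5 n213523 = n184313 := d17_7 F416603 (iv5 D200473) (iv1 F402879) (iv5 F438538) F438535 F366830 D213523 (iv0 D184313) (iv4 F329733)
theorem F470841 : act 6 n206777 = n213523 := d21_3 D207581 F445602 (iv5 F442151) (iv1 D213523) (iv6 D154026) F109367 F306397 (iv5 F134452) F295125 (iv1 F363955)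
theorem F470842 : act 3 n213523 = n206778 := d7_1 F470841 (iv6 D206778) D206777
def n213524 : Q := act 3 n154035
theorem D213524 : act 3 n154035 = n213524 := rfl
theorem F470843 : act 2 n213524 = n188539 := d0_1 D213524 F373866 F205537 (iv3 F420003) F420002
theorem F470844 : act 4 n213524 = n212758 := d5_2 D154035 D213524 (iv3 D212758) F242059 (iv3 D154034)
theorem F470845 : act 6 n213524 = n188534 := d7_2 (iv6 F366304) D213524 F373845
theorem F470846 : act 7 n213524 = n195650 := d8_2 F366157 D213524 F397727
theorem F470847 : act 0 n213524 = n193720 := d20_4 (iv4 D72907) D72905 D154035 D213524 F390779 (iv4 D172416) D172414 (iv4 F272776) (iv3 F339631) F339633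
theorem F470848 : act 0 n193729 = n213524 := d20_4 (iv4 F338667) F338674 F338675 (iv3 F390800) (iv3 D213524) (iv4 D154035) (iv1 F109388) D72923 F326597 (iv1 F338672)
theorem F470849 : act 5 n213524 = n187647 := d17_1 F470848 (iv1 F398473) (iv5 D164469) D164468 (iv5 F453164) F453167 F375894 (iv0 F378433) D193729
def n213525 : Q := act 5 n154035
theorem D213525 : act 5 n154035 = n213525 := rfl
theorem F470850 : act 2 n213525 = n195825 := d2_1 D213525 (iv5 F420005) F420002
theorem F470851 : act 3 n213525 = n187647 := d6_1 D213525 (iv5 F470849) (iv3 D213524)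
theorem F470852 : act 7 n213525 = n195824 := d13_2 F366157 D213525 F398345
theorem F470853 : act 0 n213525 = n195816 := d17_2 (iv1 F339621) D213525 (iv5 D195816) (iv4 F234968) (iv5 F403303) F404617 F404612 F363055 (iv4 F233348)
theorem F470854 : act 1 n213525 = n195818 := d17_6 (iv1 F92172) F190134 F190106 (iv5 F109384) D154035 D213525 (iv5 D195818) F163381 F77596
theorem F470855 : act 6 n213525 = n187644 := d21_3 F366676 (iv1 F339621) D213525 F386958 (iv6 D106238) (iv5 D49096) (iv1 D23952) D23954 D49102 D106254
def n213526 : Q := act 3 n154054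
theorem D213526 : act 3 n154054 = n213526 := rfl
theorem F470856 : act 2 n213526 = n203798 := d0_1 D213526 (iv3 D203798) F304269 (iv3 F240121) (iv2 F242085)
theorem F470857 : act 4 n213526 = n197108 := d5_2 D154054 D213526 (iv3 F403079) (iv4 D157091) (iv3 F315964)
theorem F470858 : act 5 n213526 = n154229 := d6_2 (iv5 F242088) D213526 (iv3 D154229)
theorem F470859 : act 6 n213526 = n184953 := d7_2 F308310 D213526 F287367
theorem F470860 : act 7 n213526 = n204040 := d8_2 (iv7 F242087) D213526 F430872
theorem F470861 : act 0 n213526 = n184485 := d19_4 D33618 D72932 D154054 D213526 F286423 F346166 (iv3 F346168) (iv1 F362145) (iv5 D129157) (iv4 F99188) (iv3 F218211) F451748 F465247 F465244 F398379 (iv1 D195832) (iv5 D106328) F77598 F52885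
theorem F470862 : act 1 n213526 = n204045 := d15_1 (iv0 F470861) (iv7 F430884) (iv2 F286421)
def n213527 : Q := act 5 n154062
theorem D213527 : act 5 n154062 = n213527 := rfl
theorem F470863 : act 2 n213527 = n192063 := d2_1 D213527 (iv5 D192063) (iv2 F242110)
theorem F470864 : act 3 n213527 = n203755 := d6_1 D213527 F429705 F314263
theorem F470865 : act 6 n213527 = n189620 := d12_2 D154062 D213527 (iv5 D189620) (iv6 D94218) (iv5 F109450)
theorem F470866 : act 4 n213527 = n192985 := d16_2 F252671 D213527 (iv5 D192985) (iv4 F387078) F387077 (iv4 F444373) F444374 (iv7 F314895) (iv2 F252669)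
theorem F470867 : act 0 n213527 = n193380 := d17_2 F354633 D213527 F389648 (iv4 D192563) F338877 (iv0 F366783) (iv5 D123211) D123210 (iv4 F319768)
theorem F470868 : act 1 n213527 = n204241 := d17_6 (iv1 F342641) D212823 F467634 F454215 F252671 D213527 F431631 (iv0 F239246) (iv4 F209461)
def n213528 : Q := act 0 n154063
theorem D213528 : act 0 n154063 = n213528 := rfl
theorem F470869 : act 5 n213528 = n211631 := d17_1 D213528 (iv1 F462450) (iv5 F422992) (iv4 D171127) D171128 (iv0 F408885) F408882 F197561 (iv4 F242113)
theorem F470870 : act 4 n213528 = n154259 := d18_1 D213528 (iv1 F384326) F384322 (iv5 F384328) (iv4 F385255) (iv0 F431059) F455061 F462414 F462409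
theorem F470871 : act 3 n213528 = n192065 := d20_5 F367479 (iv1 F330184) F330187 (iv3 F242112) D213528 F385404 D212693 F467101 F462574 (iv1 F462572)
theorem F470872 : act 6 n213528 = n207395 := d21_5 (iv5 D46531) D46530 (iv5 F109454) D154063 D213528 (iv5 F469951) (iv1 D213330) (iv5 D153535) (iv6 D72594) F73529
theorem F470873 : act 2 n154064 = n213528 := d15_3 (iv0 D213528) F361940 F384319
theorem F470874 : act 1 n154067 = n213528 := d15_0 (iv0 D213528) (iv7 F431748) F431745
theorem F470875 : act 7 n213528 = n154065 := d15_2 (iv0 F361938) F470874 (iv2 F384320)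
def n213529 : Q := act 4 n154101
theorem D213529 : act 4 n154101 = n213529 := rfl
theorem F470876 : act 2 n213529 = n204326 := d1_1 D213529 (iv4 F432058) F426922
theorem F470877 : act 3 n213529 = n170481 := d5_1 D213529 (iv4 F350201) F342706 (iv4 D154102) D154101
theorem F470878 : act 5 n213529 = n170465 := d9_2 (iv5 F411751) D213529 (iv4 F353468) F353469 (iv4 F411757) (iv5 D199336) (iv4 F386699) (iv5 F465492) F465491 (iv5 F460950) F460954 F351005 (iv4 F411743) F411746 D199333
theorem F470879 : act 6 n213529 = n170468 := d10_2 (iv6 F426919) D213529 (iv4 F426918)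
theorem F470880 : act 7 n213529 = n204325 := d11_2 (iv7 F369470) D213529 F432053
theorem F470881 : act 0 n213529 = n201469 := d17_0 (iv5 F465857) F465860 F234629 (iv4 F233610) (iv5 F457054) (iv0 F457057) (iv5 F335201) (iv0 F335199) D213529
theorem F470882 : act 1 n213529 = n204328 := d18_6 (iv1 D51309) (iv4 F80906) D111202 D199333 (iv5 F411751) D213529 F432065 (iv0 F356567) (iv5 D111249)
def n213530 : Q := act 5 n154104
theorem D213530 : act 5 n154104 = n213530 := rfl
theorem F470883 : act 2 n213530 = n184981 := d2_1 D213530 (iv5 F369456) F369453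
theorem F470884 : act 4 n213530 = n185267 := d9_1 D213530 F364039 (iv4 F377721) (iv5 F377714) F208143 D129798 F346000 D187197 (iv4 F369450) (iv5 F378153) F378155 F436955 F436952 D207935 F447062
theorem F470885 : act 6 n213530 = n154445 := d12_2 D154104 D213530 (iv5 F393136) F393137 (iv5 D154103)
theorem F470886 : act 7 n213530 = n182278 := d13_2 F369418 D213530 (iv5 F369417)
theorem F470887 : act 0 n213530 = n191301 := d17_2 F369445 D213530 F382946 F342780 (iv5 F342209) D134531 (iv5 F440128) (iv0 F440130) (iv4 F369443)
theorem F470888 : act 1 n213530 = n191302 := d17_6 F355076 F213607 (iv1 F336587) D207935 F447062 D213530 F382950 F342781 (iv4 F342774)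
def n213531 : Q := act 3 n154106
theorem D213531 : act 3 n154106 = n213531 := rfl
theorem F470889 : act 2 n213531 = n212450 := d0_1 D213531 F465837 (iv2 F358662) (iv3 F434146) (iv2 F434147)
theorem F470890 : act 4 n213531 = n197256 := d5_2 F434713 D213531 F411763 F411759 D205034
theorem F470891 : act 5 n213531 = n212366 := d6_2 F469800 D213531 (iv3 F469797)
theorem F470892 : act 7 n213531 = n212420 := d8_2 (iv7 F434142) D213531 F465726
theorem F470893 : act 0 n213531 = n156243 := d19_4 (iv1 F241899) (iv5 F434711) F434713 D213531 (iv5 F335201) F231974 (iv3 F310939) F184522 (iv5 D65574) F49195 (iv3 F49883) D67870 (iv5 F200441) F303523 D191361 F383203 (iv5 F342652) (iv4 F342692) (iv3 F342696)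
theorem F470894 : act 1 n213531 = n199340 := d15_1 (iv0 F470893) F411773 F411383
def n213532 : Q := act 6 n154106
theorem D213532 : act 6 n154106 = n213532 := rfl
theorem F470895 : act 5 n213532 = n213386 := d12_1 D213532 F470180 (iv5 D213299) D213300 F469800
theorem F470896 : act 0 n205943 = n213532 := d21_4 F410443 (iv1 F438511) (iv5 D205942) D205943 (iv6 D213532) (iv5 F469800) (iv1 F469801) (iv5 D204993) F366092 F410446
theorem F470897 : act 1 n184995 = n213532 := d15_0 (iv0 F470896) (iv7 F466358) F466355
def n213533 : Q := act 4 n154120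
theorem D213533 : act 4 n154120 = n213533 := rfl
theorem F470898 : act 2 n213533 = n211937 := d1_1 D213533 F463652 (iv2 F386550)
theorem F470899 : act 5 n213533 = n211473 := d9_2 D154120 D213533 (iv4 D211473) (iv5 D142371) F102628 D66771 D142394 D211479 F461733 F460064 F434520 (iv5 D204996) F200883 (iv5 F314092) (iv4 F190976)
theorem F470900 : act 7 n213533 = n211938 := d11_2 (iv7 F386548) D213533 F463655
theorem F470901 : act 0 n213533 = n211939 := d17_0 F463659 (iv1 F463557) F463560 F432114 (iv5 D150124) (iv0 F275042) D192350 F386541 D213533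
theorem F470902 : act 1 n213533 = n211915 := d18_6 (iv1 F197946) (iv4 F197958) F197959 (iv4 F190976) D154120 D213533 F463567 (iv0 F432028) (iv5 D204320)
def n213534 : Q := act 6 n154120
theorem D213534 : act 6 n154120 = n213534 := rfl
theorem F470903 : act 2 n213534 = n210313 := d3_1 D213534 F456967 (iv2 F386550)
theorem F470904 : act 3 n213534 = n154123 := d7_1 D213534 (iv6 D154123) (iv3 F242190)
theorem F470905 : act 5 n213534 = n193932 := d12_1 D213534 F391437 F362505 F314091 D154120
def n213535 : Q := act 6 n154122
theorem D213535 : act 6 n154122 = n213535 := rfl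
theorem F470906 : act 3 n213535 = n163074 := d7_1 D213535 F364287 F364282
theorem F470907 : act 4 n213535 = n154123 := d10_1 D213535 (iv6 D154123) D154122
theorem F470908 : act 5 n213535 = n204840 := d12_1 D213535 (iv6 F445011) (iv5 D207455) F317035 (iv5 F332009)
theorem F470909 : act 0 n213535 = n163149 := d21_4 F332024 (iv1 F273244) (iv5 F332009) D213535 F410345 (iv5 F418060) (iv1 F439136) F439138 F401842 (iv1 F242397)
def n213536 : Q := act 1 n154123
theorem D213536 : act 1 n154123 = n213536 := rfl
theorem F470910 : act 1 n213536 = n211183 := d15_1 D213536 (iv7 F460499) F434153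
theorem F470911 : act 7 n213536 = n211182 := d15_2 (iv0 F373284) D213536 F460492
theorem F470912 : act 4 n213536 = n163002 := d18_7 (iv1 F193076) (iv4 F430059) (iv1 F430063) (iv4 F433785) (iv5 F470908) F470907 D213536 (iv0 F345788) (iv5 D162814)
theorem F470913 : act 2 n163005 = n213536 := d1_3 F470912 F257361 D163005
theorem F470914 : act 6 n179157 = n213536 := d10_0 F470912 F313849 (iv4 F279109)
def n213537 : Q := act 5 n154123
theorem D213537 : act 5 n154123 = n213537 := rfl
theorem F470915 : act 2 n213537 = n194731 := d2_1 D213537 (iv5 F434155) F434153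
theorem F470916 : act 3 n213537 = n193932 := d6_1 D213537 (iv5 F470905) F470904
theorem F470917 : act 6 n213537 = n154124 := d12_2 D154123 D213537 (iv5 D154124) (iv6 D72979) D72978
theorem F470918 : act 0 n213537 = n194733 := d17_2 (iv1 D213536) D213537 F394285 (iv4 D162825) (iv5 D78268) D78266 D162819 F336595 (iv4 F470912)
theorem F470919 : act 0 n190913 = n213537 := d19_0 (iv5 D213537) (iv4 F470907) F470906 (iv1 F353961) (iv5 F353959) (iv4 F353963) (iv3 F430777) (iv1 F431796) F431798 (iv4 D158800) (iv3 F249996) F345765 F345766 F344056 (iv3 D99715) F272739 D98116 D191352 (iv3 F383169)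
theorem F470920 : act 7 n194732 = n213537 := d15_2 (iv0 D194731) D194732 F470915
def n213538 : Q := act 7 n154123
theorem D213538 : act 7 n154123 = n213538 := rfl
theorem F470921 : act 2 n213538 = n211183 := d4_1 D213538 (iv7 F460499) F434153
theorem F470922 : act 5 n213538 = n194732 := d13_1 D213538 F470920 (iv5 D213537)
theorem F470923 : act 6 n213538 = n184328 := d14_1 D213538 F358771 (iv6 F358775) F199465 D154123
theorem F470924 : act 1 n163005 = n213538 := d15_1 (iv0 F455698) (iv7 D213538) (iv2 F434153)
theorem F470925 : act 1 n213538 = n211182 := d15_1 F470924 (iv7 F470911) (iv2 F470913)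
def n213539 : Q := act 0 n154137
theorem D213539 : act 0 n154137 = n213539 := rfl
theorem F470926 : act 5 n213539 = n190713 := d17_1 D213539 F380753 (iv5 F394152) F416573 (iv5 D200467) F324600 (iv5 F341865) (iv0 F414722) F414721
theorem F470927 : act 4 n213539 = n200503 := d18_3 F414723 F414721 D213539 F416758 (iv4 F435678) F435676 F257227 (iv0 F323180) D113147
theorem F470928 : act 6 n213539 = n184992 := d21_5 (iv5 D124689) (iv1 F92130) (iv5 F109478) D154137 D213539 (iv5 F337995) F241956 (iv5 F353747) (iv6 D184287) (iv1 F343505)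
theorem F470929 : act 3 n209289 = n213539 := d7_3 F470928 F424414 (iv6 F453059)
theorem F470930 : act 7 n209286 = n213539 := d14_0 F470928 F458396 (iv6 F458393) F424281 (iv6 F453046)
def n213540 : Q := act 1 n154137
theorem D213540 : act 1 n154137 = n213540 := rfl
theorem F470931 : act 5 n213540 = n190714 := d18_9 (iv1 D190714) (iv4 F267344) (iv1 F436228) (iv4 F436230) (iv5 F450564) F450563 (iv0 F414722) F414721 D213540
theorem F470932 : act 3 n210276 = n213540 := d20_3 (iv4 F403758) (iv1 F403761) (iv4 F456833) (iv1 D213540) (iv3 F395972) F395970 D195575 (iv4 F457162) F457165 (iv1 D208721)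
theorem F470933 : act 2 n213540 = n209286 := d0_1 F470932 F453045 F219259 (iv3 F221322) (iv2 F456832)
theorem F470934 : act 6 n194704 = n213540 := d3_0 F470933 F453046 F424282
def n213541 : Q := act 4 n154146
theorem D213541 : act 4 n154146 = n213541 := rfl
theorem F470935 : act 2 n213541 = n202373 := d1_1 D213541 (iv4 F431208) F431205
theorem F470936 : act 3 n213541 = n203541 := d5_1 D213541 (iv4 D203541) F343413 F334212 (iv3 F242227)
theorem F470937 : act 5 n213541 = n202354 := d9_2 D154146 D213541 (iv4 F423739) F408735 (iv4 D174175) (iv5 D83256) (iv4 F121563) D123303 D204267 F431765 F414440 (iv5 D199976) D199975 (iv5 F414436) (iv4 F191103)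
theorem F470938 : act 7 n213541 = n202372 := d11_2 F431295 D213541 (iv4 F431294)
def n213542 : Q := act 7 n154181
theorem D213542 : act 7 n154181 = n213542 := rfl
theorem F470939 : act 2 n213542 = n154193 := d4_1 D213542 (iv7 D154193) (iv2 F242296)
theorem F470940 : act 3 n213542 = n159681 := d8_1 D213542 (iv7 D159681) (iv3 F242297)
theorem F470941 : act 5 n213542 = n190536 := d13_1 D213542 F380024 (iv5 F352504)
theorem F470942 : act 6 n213542 = n186575 := d14_1 D213542 F367285 F307591 (iv7 F109569) D154181
theorem F470943 : act 1 n154191 = n213542 := d15_1 D154191 (iv7 D213542) F242296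
theorem F470944 : act 1 n213542 = n154190 := d15_1 F470943 (iv7 F432168) F432165
def n213543 : Q := act 6 n154190
theorem D213543 : act 6 n154190 = n213543 := rfl
theorem F470945 : act 2 n213543 = n203078 := d3_1 D213543 F426895 F368374
theorem F470946 : act 3 n213543 = n186888 := d7_1 D213543 (iv6 F419396) F419398
theorem F470947 : act 5 n213543 = n186887 := d12_1 D213543 F368419 D187042 (iv6 F368888) (iv5 F368373)
theorem F470948 : act 0 n213543 = n193631 := d21_4 (iv5 F354705) (iv1 F216520) (iv5 F368373) D213543 (iv6 D193631) (iv5 D102036) F329746 (iv5 F329749) (iv6 F367299) (iv1 F367301)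
theorem F470949 : act 0 n186930 = n213543 := d21_4 (iv5 F274765) F368300 (iv5 F368299) D186930 (iv6 D213543) F368373 (iv1 F355061) (iv5 F367305) (iv6 F368358) (iv1 D186868)
def n213544 : Q := act 0 n154210
theorem D213544 : act 0 n154210 = n213544 := rfl
theorem F470950 : act 4 n213544 = n211475 := d18_3 D145781 F347964 D213544 F461710 F409845 (iv0 D191051) (iv4 F347819) (iv0 F248415) F182682
theorem F470951 : act 3 n213544 = n202994 := d20_5 (iv4 F347996) (iv1 D150244) (iv4 F109588) (iv3 F242322) D213544 (iv4 D202994) (iv1 D117493) (iv4 F184032) (iv3 F348002) F316670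
theorem F470952 : act 6 n213544 = n208413 := d21_5 F115309 (iv1 F115308) (iv5 F109585) D154210 D213544 F449247 (iv1 D204182) (iv5 D123104) (iv6 D57288) D57286
theorem F470953 : act 2 n202589 = n213544 := d15_3 (iv0 D213544) (iv0 F350720) (iv7 F424645)
theorem F470954 : act 7 n213544 = n203027 := d4_2 (iv7 F424645) F470953 F426690
theorem F470955 : act 1 n203000 = n213544 := d15_1 (iv0 F426593) F470954 F426690
def n213545 : Q := act 5 n154210
theorem D213545 : act 5 n154210 = n213545 := rfl
theorem F470956 : act 2 n213545 = n203703 := d2_1 D213545 (iv5 D203703) (iv2 F242321)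
theorem F470957 : act 3 n213545 = n154213 := d6_1 D213545 (iv5 D154213) (iv3 F242322)
theorem F470958 : act 6 n213545 = n203702 := d12_2 D154210 D213545 (iv5 D203702) (iv6 D120300) (iv5 F109585)
theorem F470959 : act 4 n213545 = n199699 := d16_2 F347964 D213545 (iv5 D199699) D199698 F413164 (iv4 D157703) (iv5 F353675) (iv7 F353677) (iv2 F347962)
theorem F470960 : act 1 n213545 = n210875 := d17_6 F347932 F106153 D75136 (iv5 F347965) F347964 D213545 F459108 (iv0 F425075) F411917
def n213546 : Q := act 7 n154210
theorem D213546 : act 7 n154210 = n213546 := rfl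
theorem F470961 : act 2 n213546 = n203000 := d4_1 D213546 F426592 (iv2 F242321)
theorem F470962 : act 3 n213546 = n154214 := d8_1 D213546 (iv7 D154214) (iv3 F242322)
theorem F470963 : act 4 n213546 = n202772 := d11_1 D213546 F425518 F347964
theorem F470964 : act 6 n213546 = n202958 := d14_1 D213546 F426380 F353589 (iv7 F109586) D154210
theorem F470965 : act 1 n203027 = n213546 := d15_1 (iv0 F426693) (iv7 D213546) F242321
theorem F470966 : act 1 n213546 = n202589 := d15_1 F470965 F424645 (iv2 F426690)
def n213547 : Q := act 1 n154219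
theorem D213547 : act 1 n154219 = n213547 := rfl
theorem F470967 : act 1 n213547 = n208372 := d15_1 D213547 (iv7 D208372) F365269
theorem F470968 : act 7 n213547 = n208370 := d15_2 (iv0 F388922) D213547 (iv2 F449110)
theorem F470969 : act 4 n213547 = n174314 := d17_9 (iv1 D174314) (iv5 D83317) D83315 (iv5 F308842) F94640 D73114 D154326 (iv5 F242414) D213547
theorem F470970 : act 3 n186930 = n213547 := d20_3 (iv4 F369049) (iv1 F391892) (iv4 F391890) (iv1 D213547) (iv3 F415460) (iv4 D200186) F326509 D203956 F430576 F391536
theorem F470971 : act 6 n154399 = n213547 := d21_3 D33683 D73134 D154399 (iv1 D213547) (iv6 D154219) (iv5 F329918) (iv1 F168769) F329957 (iv6 D73133) (iv1 D33682)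
theorem F470972 : act 2 n213547 = n208371 := d3_1 F470971 (iv6 F449112) F357262
def n213548 : Q := act 7 n154219
theorem D213548 : act 7 n154219 = n213548 := rfl
theorem F470973 : act 2 n213548 = n208372 := d4_1 D213548 (iv7 D208372) F365269
theorem F470974 : act 3 n213548 = n203957 := d8_1 D213548 F430583 F415460
theorem F470975 : act 4 n213548 = n191531 := d11_1 D213548 F383676 F347343
theorem F470976 : act 5 n213548 = n204378 := d13_1 D213548 F432299 (iv5 F242414)
theorem F470977 : act 6 n213548 = n188428 := d14_1 D213548 F432391 (iv6 D204364) F349800 D154219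
theorem F470978 : act 1 n208371 = n213548 := d15_1 D208371 (iv7 D213548) (iv2 F365269)
theorem F470979 : act 1 n213548 = n208370 := d15_1 F470978 (iv7 F470968) F470972
def n213549 : Q := act 7 n154224
theorem D213549 : act 7 n154224 = n213549 := rfl
theorem F470980 : act 2 n213549 = n188428 := d4_1 D213549 F432391 F432224
theorem F470981 : act 3 n213549 = n197974 := d8_1 D213549 (iv7 D197974) F365361
theorem F470982 : act 5 n213549 = n204390 := d13_1 D213549 (iv7 F448610) F448608
theorem F470983 : act 6 n213549 = n208372 := d14_1 D213549 (iv7 D208372) (iv6 D134233) F329777 D154224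
theorem F470984 : act 1 n188429 = n213549 := d15_1 F432228 (iv7 D213549) (iv2 F432224)
theorem F470985 : act 1 n213549 = n186837 := d15_1 F470984 (iv7 F432386) F432384
def n213550 : Q := act 6 n154229
theorem D213550 : act 6 n154229 = n213550 := rfl
theorem F470986 : act 2 n213550 = n208512 := d3_1 D213550 F449668 F431280
theorem F470987 : act 3 n213550 = n154230 := d7_1 D213550 (iv6 D154230) D154229
theorem F470988 : act 5 n213550 = n184954 := d12_1 D213550 (iv6 D184954) D184953 (iv6 F470859) F470858
theorem F470989 : act 7 n213550 = n189782 := d14_2 F431307 D213550 F455979 F455975 (iv6 F450488)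
def n213551 : Q := act 6 n154233
theorem D213551 : act 6 n154233 = n213551 := rfl
theorem F470990 : act 2 n213551 = n213516 := d3_1 D213551 (iv6 D213516) F242339
theorem F470991 : act 3 n213551 = n208103 := d7_1 D213551 (iv6 F447880) F396465
theorem F470992 : act 4 n213551 = n188797 := d10_1 D213551 F374939 (iv4 F242338)
theorem F470993 : act 5 n213551 = n177462 := d12_1 D213551 (iv6 F377797) (iv5 F463890) F463891 (iv5 F396463)
theorem F470994 : act 0 n193357 = n213551 := d17_0 F470993 F459558 F459557 F395417 (iv5 F395432) F395435 (iv5 F242337) (iv0 F462173) F462171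
theorem F470995 : act 1 n208669 = n213551 := d18_8 F459558 (iv4 D210970) (iv1 D140414) F101596 D127366 (iv4 F377738) (iv0 F377740) (iv4 F450395) F470993
def n213552 : Q := act 0 n154234
theorem D213552 : act 0 n154234 = n213552 := rfl
theorem F470996 : act 4 n213552 = n201019 := d18_1 D213552 F418759 (iv4 F436913) F436915 (iv4 D133091) F97317 (iv4 F207190) F211649 (iv5 F335847)
theorem F470997 : act 1 n205589 = n213552 := d15_0 (iv0 D213552) (iv7 F441646) F441644
theorem F470998 : act 3 n201017 = n213552 := d5_5 F470996 (iv3 D201019) (iv4 D113750) D113749 D201017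
def n213553 : Q := act 1 n154234
theorem D213553 : act 1 n154234 = n213553 := rfl
theorem F470999 : act 1 n213553 = n205589 := d15_1 D213553 (iv7 F441662) F441659
theorem F471000 : act 5 n213553 = n206512 := d17_7 (iv1 F444784) (iv5 D207414) F347512 (iv5 F445658) (iv4 D207609) (iv5 F335847) D213553 (iv0 F469200) (iv4 D213146)
theorem F471001 : act 4 n213553 = n205542 := d17_9 (iv1 F436918) (iv5 D163612) (iv1 F341627) D206603 (iv4 F441560) (iv5 D206610) F211649 (iv5 F335847) D213553
theorem F471002 : act 6 n200651 = n213553 := d21_3 (iv5 F417307) (iv1 F417309) (iv5 F417358) (iv1 D213553) (iv6 F448844) F448843 F436214 F436211 D209068 F452092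
theorem F471003 : act 3 n213553 = n200670 := d7_1 F471002 (iv6 D200670) (iv3 F417357)
def n213554 : Q := act 6 n154236
theorem D213554 : act 6 n154236 = n213554 := rfl
theorem F471004 : act 2 n213554 = n210099 := d3_1 D213554 F456150 F389038
theorem F471005 : act 3 n213554 = n200797 := d7_1 D213554 F441648 F441645
theorem F471006 : act 4 n213554 = n154237 := d10_1 D213554 (iv6 D154237) (iv4 F242344)
theorem F471007 : act 5 n213554 = n205379 := d12_1 D213554 (iv6 F436289) F436286 F419231 F419222
theorem F471008 : act 7 n213554 = n205594 := d14_2 D154236 D213554 (iv6 F437146) F378169 F336392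
def n213555 : Q := act 6 n154255
theorem D213555 : act 6 n154255 = n213555 := rfl
theorem F471009 : act 2 n213555 = n203055 := d3_1 D213555 F426808 F349069
theorem F471010 : act 3 n213555 = n199375 := d7_1 D213555 (iv6 D199375) F356863
theorem F471011 : act 4 n213555 = n203934 := d10_1 D213555 (iv6 D203934) F349075
theorem F471012 : act 7 n213555 = n186491 := d14_2 F349070 D213555 (iv6 D186491) (iv7 F289306) F356612
theorem F471013 : act 0 n186926 = n213555 := d21_4 (iv5 D142998) D142996 (iv5 F335427) (iv6 F368529) (iv6 D213555) F356864 (iv1 F411880) (iv5 F422081) F462096 (iv1 D211552)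
theorem F471014 : act 1 n212294 = n213555 := d15_0 (iv0 F471013) (iv7 F430370) (iv2 F465186)
def n213556 : Q := act 4 n154256
theorem D213556 : act 4 n154256 = n213556 := rfl
theorem F471015 : act 2 n213556 = n208840 := d1_1 D213556 F451069 (iv2 F242369)
theorem F471016 : act 5 n213556 = n202555 := d9_2 D154256 D213556 F424477 (iv5 F404651) F404650 F227812 (iv4 F238469) (iv5 F468309) F468308 F462387 (iv4 D208623) F216923 F328834 (iv5 D76389) (iv4 F109600)
theorem F471017 : act 6 n213556 = n154270 := d10_2 (iv6 F242371) D213556 (iv4 D154270)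
theorem F471018 : act 0 n213556 = n192550 := d18_2 F450579 D213556 F433558 D210329 F457052 (iv0 D201877) D201878 F449595 (iv5 F450578)
theorem F471019 : act 1 n213556 = n210327 := d18_6 (iv1 F347609) (iv4 D159640) F336796 (iv4 F109600) D154256 D213556 (iv4 D210327) (iv0 D138288) (iv5 F329496)
theorem F471020 : act 7 n213556 = n211582 := d15_2 (iv0 F462386) (iv0 F471018) (iv2 F462382)
def n213557 : Q := act 7 n154256
theorem D213557 : act 7 n154256 = n213557 := rfl
theorem F471021 : act 2 n213557 = n212957 := d4_1 D213557 (iv7 D212957) (iv2 F242369)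
theorem F471022 : act 3 n213557 = n154285 := d8_1 D213557 (iv7 D154285) (iv3 F242370)
theorem F471023 : act 4 n213557 = n211582 := d11_1 D213557 (iv7 F471020) (iv4 D213556)
theorem F471024 : act 5 n213557 = n154257 := d13_1 D213557 (iv7 D154257) D154256
theorem F471025 : act 6 n213557 = n210234 := d14_1 D213557 (iv7 F456681) F456578 (iv7 D154271) (iv6 F242371)
theorem F471026 : act 1 n179012 = n213557 := d15_1 (iv0 F385072) (iv7 D213557) F242369
theorem F471027 : act 1 n213557 = n210324 := d15_1 F471026 F457029 F450577
def n213558 : Q := act 6 n154259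
theorem D213558 : act 6 n154259 = n213558 := rfl
theorem F471028 : act 3 n213558 = n154262 := d7_1 D213558 (iv6 D154262) D154259
theorem F471029 : act 4 n213558 = n207395 := d10_1 D213558 (iv6 F470872) F470870
theorem F471030 : act 7 n213558 = n212988 := d14_2 F384312 D213558 F468478 (iv7 F384319) (iv6 F384310)
theorem F471031 : act 5 n213558 = n213329 := d21_6 F115035 (iv1 F106750) (iv5 F129882) D177806 (iv1 F384316) D213558 (iv1 F469947) (iv5 D191728) (iv6 D98853) (iv1 F115033)
theorem F471032 : act 0 n204949 = n213558 := d21_4 (iv5 F366713) (iv1 F366714) F338889 D204949 (iv6 D213558) (iv5 F462568) F462569 F462291 F430732 F342634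
def n213559 : Q := act 5 n154262
theorem D213559 : act 5 n154262 = n213559 := rfl
theorem F471033 : act 2 n213559 = n192887 := d2_1 D213559 F388107 (iv2 F361925)
theorem F471034 : act 3 n213559 = n213329 := d6_1 D213559 (iv5 F471031) F471028
theorem F471035 : act 7 n213559 = n192888 := d13_2 F361930 D213559 F388109
theorem F471036 : act 0 n213559 = n192890 := d17_2 (iv1 F361931) D213559 F388113 (iv4 F337188) F305883 F315738 F313304 (iv0 F232793) (iv4 F238339)
theorem F471037 : act 1 n213559 = n181939 := d17_6 (iv1 D81549) D81550 (iv1 F332438) F234773 F361929 D213559 (iv5 D181939) (iv0 F337196) (iv4 D170027)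
theorem F471038 : act 6 n212992 = n191734 := d21_3 (iv5 D213559) (iv1 F361932) (iv5 F468497) (iv1 D191734) (iv6 F363135) (iv5 D181946) (iv1 D86901) D86902 (iv6 F283234) (iv1 F471037)
theorem F471039 : act 3 n191734 = n187018 := d7_1 F471038 (iv6 F385563) (iv3 F468496)
def n213560 : Q := act 6 n154266
theorem D213560 : act 6 n154266 = n213560 := rfl
theorem F471040 : act 2 n213560 = n211662 := d3_1 D213560 F462561 F385416
theorem F471041 : act 3 n213560 = n199381 := d7_1 D213560 (iv6 F432039) F432036
theorem F471042 : act 4 n213560 = n209263 := d10_1 D213560 (iv6 F460928) F460927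
theorem F471043 : act 5 n213560 = n210490 := d12_1 D213560 (iv6 D210490) (iv5 F339010) F339124 D154266
theorem F471044 : act 0 n213560 = n211149 := d21_4 F385074 F342352 D154266 D213560 F460334 (iv5 F457697) (iv1 F458902) (iv5 D210821) F365843 F385076
def n213561 : Q := act 1 n154270
theorem D213561 : act 1 n154270 = n213561 := rfl
theorem F471045 : act 1 n213561 = n179166 := d15_1 D213561 F342360 (iv2 F342358)
theorem F471046 : act 7 n213561 = n204257 := d15_2 (iv0 F454572) D213561 (iv2 F454566)
theorem F471047 : act 5 n213561 = n210674 := d17_7 (iv1 F238085) (iv5 F312013) (iv1 F323798) (iv5 D142355) (iv4 F181205) F342359 D213561 F458416 F244637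
theorem F471048 : act 4 n213561 = n170887 := d17_9 F351963 (iv5 D123225) D123223 D204247 F431659 (iv5 D143874) (iv0 F342362) F342359 D213561
theorem F471049 : act 2 n204258 = n213561 := d1_3 F471048 F366686 D204258
theorem F471050 : act 6 n192019 = n213561 := d10_0 F471048 F268486 D192019
theorem F471051 : act 3 n213561 = n193862 := d20_9 (iv4 D209923) (iv1 D137089) F100364 F48796 D30362 D64490 (iv4 F180574) (iv1 F351965) (iv4 F471048) (iv1 F455371)
def n213562 : Q := act 6 n154278
theorem D213562 : act 6 n154278 = n213562 := rfl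
theorem F471052 : act 2 n213562 = n199351 := d3_1 D213562 (iv6 D199351) (iv2 F336354)
theorem F471053 : act 3 n213562 = n154281 := d7_1 D213562 (iv6 D154281) D154278
theorem F471054 : act 4 n213562 = n178621 := d10_1 D213562 (iv6 D178621) (iv4 F336355)
theorem F471055 : act 7 n213562 = n186836 := d14_2 (iv7 F336357) D213562 (iv6 D186836) (iv7 F368160) F368159
theorem F471056 : act 0 n213562 = n203005 := d21_10 (iv5 F470524) F470530 F432578 F198291 (iv1 F431317) (iv6 F431320) F332230 (iv1 F172510) (iv5 F336356) D213562
theorem F471057 : act 0 n203002 = n213562 := d21_4 (iv5 F409959) (iv1 F409961) F365528 D203002 (iv6 D213562) F336356 (iv1 F172512) (iv5 F333939) F259421 (iv1 F341465)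
def n213563 : Q := act 6 n154283
theorem D213563 : act 6 n154283 = n213563 := rfl
theorem F471058 : act 2 n213563 = n197102 := d3_1 D213563 (iv6 D197102) F336348
theorem F471059 : act 3 n213563 = n208330 := d7_1 D213563 (iv6 D208330) F336349
theorem F471060 : act 4 n213563 = n179064 := d10_1 D213563 (iv6 D179064) (iv4 F336347)
theorem F471061 : act 5 n213563 = n189195 := d12_1 D213563 F432280 (iv5 D204375) (iv6 F411924) F411923
theorem F471062 : act 7 n213563 = n210597 := d14_2 (iv7 F354228) D213563 F458164 F375592 F354240
theorem F471063 : act 0 n213563 = n174436 := d21_4 D199288 (iv1 F411926) F411923 D213563 F354166 (iv5 D185194) F337917 (iv5 F352339) (iv6 D111155) D111151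
theorem F471064 : act 0 n174442 = n213563 := d21_4 D110856 F405711 F405710 (iv6 F354175) (iv6 D213563) (iv5 F411923) (iv1 F411927) (iv5 F336362) F373324 (iv1 D110854)
def n213564 : Q := act 0 n154318
theorem D213564 : act 0 n154318 = n213564 := rfl
theorem F471065 : act 5 n213564 = n208370 := d21_2 D154318 D213564 F449109 (iv1 D153283) (iv6 D72409) (iv5 D33431) (iv1 F43043) (iv5 F43044) D33678 D73112
theorem F471066 : act 1 n154323 = n213564 := d15_0 (iv0 D213564) (iv7 F432283) F432281
theorem F471067 : act 6 n182169 = n213564 := d21_5 D153678 (iv1 F373392) F373389 (iv6 F368948) (iv1 F368949) F471065 (iv1 F470979) F470976 F432304 (iv1 D153676)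
def n213565 : Q := act 1 n154318
theorem D213565 : act 1 n154318 = n213565 := rfl
theorem F471068 : act 1 n213565 = n154323 := d15_1 D213565 (iv7 F432279) F432278
theorem F471069 : act 5 n213565 = n208371 := d17_7 F462618 F462615 (iv1 F362958) (iv5 F362957) F348697 D154318 D213565 F470978 F470975
theorem F471070 : act 6 n182164 = n213565 := d21_9 (iv5 D154318) (iv1 F308372) F136971 (iv6 D87002) (iv1 F62376) (iv6 F135157) (iv5 D88218) D88216 F337966 (iv1 D213565)
theorem F471071 : act 4 n213565 = n185429 := d10_1 F471070 (iv6 D185429) (iv4 F283623)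
def n213566 : Q := act 4 n154318
theorem D213566 : act 4 n154318 = n213566 := rfl
theorem F471072 : act 2 n213566 = n189195 := d1_1 D213566 (iv4 F469806) F432278
theorem F471073 : act 7 n213566 = n189196 := d11_2 F432283 D213566 (iv4 F432506)
theorem F471074 : act 5 n213566 = n197102 := d16_1 D213566 F403049 D197106 F403068 (iv5 F356984) F348698 D154323 (iv7 F432279) F432278
theorem F471075 : act 0 n213566 = n189198 := d17_0 F376035 (iv1 F286294) (iv5 F286295) F432301 (iv5 F470976) F470979 (iv5 F471065) (iv0 D213564) D213566
theorem F471076 : act 1 n213566 = n182161 := d18_6 (iv1 D72654) (iv4 F94823) D128197 F348697 D154318 D213566 (iv4 F470178) F470173 (iv5 D153646)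
theorem F471077 : act 3 n213566 = n197103 := d19_3 D73112 D154318 D213566 F403053 (iv5 D141316) F102197 (iv3 F102196) D141306 F224328 (iv4 F164579) D132557 (iv1 F419184) F419183 (iv4 D114910) D114909 F189732 (iv5 D71434) (iv4 F107964) F107963
theorem F471078 : act 6 n154318 = n213566 := d7_0 F471077 (iv6 F411934) F411933
def n213567 : Q := act 5 n154321
theorem D213567 : act 5 n154321 = n213567 := rfl
theorem F471079 : act 3 n213567 = n154323 := d6_1 D213567 (iv5 D154323) D154321
theorem F471080 : act 1 n213567 = n211600 := d17_6 (iv1 D121742) (iv5 D56254) (iv1 F326506) D110624 F356988 D213567 (iv5 D211600) (iv0 F430588) (iv4 D203958)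
def n213568 : Q := act 4 n154323
theorem D213568 : act 4 n154323 = n213568 := rfl
theorem F471081 : act 2 n213568 = n189196 := d1_1 D213568 (iv4 F432506) F432281
theorem F471082 : act 5 n213568 = n210597 := d9_2 D154323 D213568 F458163 (iv5 F440120) F440119 (iv5 F362957) F348697 D154318 D213566 F471074 F403049 D197106 F403068 (iv5 F356984) F348698
theorem F471083 : act 7 n213568 = n189195 := d11_2 F432279 D213568 (iv4 F469806)
theorem F471084 : act 0 n213568 = n182161 := d17_0 F283616 D184368 (iv5 F458177) (iv4 F458179) (iv5 F432294) D208371 (iv5 F471069) F471068 D213568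
theorem F471085 : act 1 n213568 = n189198 := d18_6 (iv1 F240947) F240944 (iv1 F240582) F348698 D154323 D213568 (iv4 F470171) (iv0 D213384) (iv5 D153641)
def n213569 : Q := act 6 n154323
theorem D213569 : act 6 n154323 = n213569 := rfl
def n213570 : Q := act 5 n154324
theorem D213570 : act 5 n154324 = n213570 := rfl
theorem F471086 : act 2 n213570 = n188310 := d2_1 D213570 (iv5 F432288) F432284
theorem F471087 : act 7 n213570 = n188309 := d13_2 F467088 D213570 (iv5 F467087)
theorem F471088 : act 0 n213570 = n183181 := d17_2 (iv1 F432290) D213570 (iv5 F356632) F353625 F328755 (iv0 F328754) D163930 (iv0 F361984) F242445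
theorem F471089 : act 1 n213570 = n188308 := d17_6 (iv1 F353611) (iv5 F436397) F436399 D205506 F436753 D213570 (iv5 F373051) (iv0 D120435) (iv4 F191881)
def n213571 : Q := act 3 n154326
theorem D213571 : act 3 n154326 = n213571 := rfl
theorem F471090 : act 5 n213571 = n200186 := d6_2 F242414 D213571 F415460
theorem F471091 : act 0 n213571 = n204443 := d19_4 D93444 D189192 F376022 D213571 (iv5 D204443) (iv4 F414864) F414869 F337726 (iv5 D84849) D84848 F130054 F297617 D125305 (iv4 F431240) F431239 (iv1 F386927) (iv5 D192515) F154251 F73900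
theorem F471092 : act 4 n200201 = n213571 := d19_2 (iv1 F396758) D200201 (iv3 D213571) (iv1 D154326) (iv5 D73114) (iv4 F94640) (iv3 F108261) D152220 F335507 (iv4 F466342) F466339 (iv1 F338006) (iv5 D184828) (iv4 F310873) (iv3 F353773) F353776 (iv5 F438193) (iv4 F458859) (iv3 F458857)
def n213572 : Q := act 6 n154341
theorem D213572 : act 6 n154341 = n213572 := rfl
theorem F471093 : act 2 n213572 = n206031 := d3_1 D213572 F438919 (iv2 F346114)
theorem F471094 : act 3 n213572 = n185861 := d7_1 D213572 (iv6 D185861) (iv3 F346104)
theorem F471095 : act 4 n213572 = n207570 := d10_1 D213572 (iv6 F445497) F354361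
theorem F471096 : act 7 n213572 = n207590 := d14_2 (iv7 F346105) D213572 (iv6 D207590) (iv7 D132078) D132077
theorem F471097 : act 0 n213572 = n207600 := d21_4 (iv5 D73122) D73120 D154341 D213572 (iv6 F445634) (iv5 F348861) F348859 (iv5 F348857) F348866 (iv1 D154349)
theorem F471098 : act 0 n206003 = n213572 := d21_4 (iv5 D59574) D59570 D126922 D206003 (iv6 D213572) (iv5 D154341) (iv1 F206352) (iv5 F438826) (iv6 D206011) (iv1 D126936)
def n213573 : Q := act 0 n154350
theorem D213573 : act 0 n154350 = n213573 := rfl
theorem F471099 : act 5 n213573 = n195243 := d17_1 D213573 (iv1 F470809) F470806 (iv4 F445581) F445580 (iv0 F369512) (iv5 F369516) (iv0 D154348) D154350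
theorem F471100 : act 4 n213573 = n207761 := d18_1 D213573 F446299 (iv4 F445227) (iv5 F445521) (iv4 F456811) F456814 (iv4 F396136) (iv0 F396138) (iv5 F358582)
theorem F471101 : act 3 n213573 = n195244 := d20_5 (iv4 F445919) F445922 (iv4 D206666) F358583 D213573 (iv4 F421635) (iv1 D201740) F179143 (iv3 F365451) (iv1 F418523)
theorem F471102 : act 6 n213573 = n207561 := d21_5 (iv5 F208757) F355985 F355970 F358584 D213573 (iv5 D207561) (iv1 F399360) F399358 F396094 F208711
theorem F471103 : act 2 n207764 = n213573 := d15_3 (iv0 D213573) (iv0 F470797) F470795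
theorem F471104 : act 7 n213573 = n201702 := d4_2 F470795 F471103 (iv2 F470792)
def n213574 : Q := act 6 n154360
theorem D213574 : act 6 n154360 = n213574 := rfl
theorem F471105 : act 2 n213574 = n154363 := d3_1 D213574 (iv6 D154363) D154360
theorem F471106 : act 3 n213574 = n202903 := d7_1 D213574 (iv6 F430325) F430324
theorem F471107 : act 4 n213574 = n210015 := d10_1 D213574 (iv6 F455761) (iv4 F361979)
theorem F471108 : act 7 n213574 = n212362 := d14_2 F368355 D213574 F465497 (iv7 F367306) (iv6 F368358)
theorem F471109 : act 0 n213574 = n188368 := d21_10 (iv5 D188368) (iv1 D91235) F294661 (iv6 D89379) (iv1 D41738) D41740 D89386 D186931 F368540 D213574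
theorem F471110 : act 1 n213574 = n188364 := d15_1 (iv0 F471109) (iv7 F378699) F378678
def n213575 : Q := act 0 n154361
theorem D213575 : act 0 n154361 = n213575 := rfl
theorem F471111 : act 4 n213575 = n204120 := d20_2 D154361 D213575 F431112 F350263 (iv3 F331659) F331658 (iv1 D128274) D128275 F318174 F342799
theorem F471112 : act 2 n212776 = n213575 := d15_3 (iv0 D213575) (iv0 F361978) D212776
theorem F471113 : act 1 n201238 = n213575 := d15_0 (iv0 D213575) (iv7 F381786) (iv2 F419588)
theorem F471114 : act 7 n213575 = n186745 := d15_2 (iv0 F419591) F471113 F367870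
def n213576 : Q := act 5 n154361
theorem D213576 : act 5 n154361 = n213576 := rfl
theorem F471115 : act 3 n213576 = n210020 := d6_1 D213576 (iv5 D210020) (iv3 F361970)
theorem F471116 : act 6 n213576 = n210019 := d12_2 F361976 D213576 (iv5 D210019) (iv6 D137272) D137271
def n213577 : Q := act 0 n154367
theorem D213577 : act 0 n154367 = n213577 := rfl
theorem F471117 : act 4 n213577 = n190061 := d18_1 D213577 (iv1 F378742) F348890 (iv5 D132596) (iv4 F212772) D207882 F446868 (iv0 F447054) F447051
theorem F471118 : act 3 n213577 = n205880 := d20_5 F52950 D33681 D73126 D154367 D213577 F438238 (iv1 F334646) (iv4 D134576) (iv3 F342208) (iv1 D73121)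
theorem F471119 : act 5 n213577 = n205875 := d21_2 F447051 D213577 (iv6 D205875) D205873 (iv6 F438216) (iv5 D203880) (iv1 F193283) D121216 F364317 (iv1 F447055)
theorem F471120 : act 6 n213577 = n205878 := d21_5 (iv5 D51937) (iv1 F76494) D105180 (iv6 F361966) D213577 (iv5 D205878) D205876 F438224 (iv6 D197209) F166887
theorem F471121 : act 2 n198551 = n213577 := d15_3 (iv0 D213577) (iv0 F346569) (iv7 F408327)
theorem F471122 : act 7 n213577 = n198553 := d4_2 (iv7 F408327) F471121 F408332
def n213578 : Q := act 3 n154371
theorem D213578 : act 3 n154371 = n213578 := rfl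
theorem F471123 : act 5 n213578 = n213562 := d6_2 (iv5 F242449) D213578 F471053
theorem F471124 : act 6 n213578 = n185179 := d7_2 (iv6 F352350) D213578 F287518
theorem F471125 : act 7 n213578 = n183875 := d8_2 (iv7 F352351) D213578 F285698
theorem F471126 : act 0 n204445 = n213578 := d17_2 D123818 D204445 F471123 F471054 F347856 (iv0 D179317) (iv5 F233684) (iv0 F347967) F198195
theorem F471127 : act 1 n204447 = n213578 := d17_6 F364023 (iv5 F188514) D203560 F432574 (iv4 D204446) D204447 F471123 (iv0 F471057) F426599
def n213579 : Q := act 6 n154373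
theorem D213579 : act 6 n154373 = n213579 := rfl
theorem F471128 : act 4 n213579 = n154374 := d10_1 D213579 (iv6 D154374) D154373
theorem F471129 : act 5 n213579 = n185514 := d12_1 D213579 (iv6 F445544) (iv5 D207581) (iv6 F419229) F419230
def n213580 : Q := act 0 n154374
theorem D213580 : act 0 n154374 = n213580 := rfl
def n213581 : Q := act 1 n154374
theorem D213581 : act 1 n154374 = n213581 := rfl
theorem F471130 : act 4 n213581 = n213580 := d18_7 (iv1 F370633) (iv4 F362828) (iv1 F142620) (iv4 F362834) (iv5 F471129) F471128 D213581 (iv0 D213580) (iv5 F370632)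
theorem F471131 : act 5 n187873 = n213581 := d21_0 (iv1 D213581) (iv5 F370632) (iv6 F370634) F242454 F242325 (iv5 D120431) D120429 F304531 (iv6 F312621) F374208
theorem F471132 : act 6 n213127 = n213581 := d21_3 F157195 (iv1 F351170) D213127 (iv1 D213581) (iv6 D154374) (iv5 D73127) (iv1 F109253) (iv5 F241679) F391160 (iv1 D193841)
theorem F471133 : act 2 n213581 = n213128 := d3_1 F471132 (iv6 D213128) (iv2 F469116)
theorem F471134 : act 6 n213580 = n154448 := d10_2 F471132 F471130 (iv4 F469120)
theorem F471135 : act 7 n213581 = n185302 := d14_2 (iv7 F469118) F471132 (iv6 D185302) (iv7 F386093) F386092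
theorem F471136 : act 7 n213128 = n213580 := d11_2 F471135 (iv4 F469123) (iv4 F471130)
theorem F471137 : act 2 n185302 = n213580 := d15_3 (iv0 D213580) D213581 F471135
theorem F471138 : act 3 n213580 = n213131 := d8_1 F471136 (iv7 D213131) (iv3 F469122)
def n213582 : Q := act 7 n154374
theorem D213582 : act 7 n154374 = n213582 := rfl
theorem F471139 : act 5 n213582 = n185161 := d13_1 D213582 F370643 F370632
theorem F471140 : act 6 n213582 = n184962 := d14_1 D213582 (iv7 F358605) F353720 F354986 D154374
theorem F471141 : act 1 n213128 = n213582 := d15_1 (iv0 F470586) (iv7 D213582) (iv2 F470582)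
theorem F471142 : act 1 n213582 = n185302 := d15_1 F471141 (iv7 F471135) F471133
def n213583 : Q := act 5 n154377
theorem D213583 : act 5 n154377 = n213583 := rfl
theorem F471143 : act 2 n213583 = n188309 := d2_1 D213583 (iv5 F467087) F467082
theorem F471144 : act 3 n213583 = n199320 := d6_1 D213583 (iv5 D199320) (iv3 F358450)
theorem F471145 : act 6 n213583 = n206287 := d12_2 F354227 D213583 (iv5 D206287) F356744 (iv5 F172432)
theorem F471146 : act 7 n213583 = n188310 := d13_2 F432287 D213583 (iv5 F432288)
theorem F471147 : act 0 n213583 = n188308 := d17_2 F448873 D213583 (iv5 F373051) (iv4 F353597) (iv5 D126203) D126202 (iv5 F227723) (iv0 F417242) (iv4 F448871)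
theorem F471148 : act 1 n213583 = n183181 := d17_6 (iv1 F353610) (iv5 F349825) (iv1 F353602) D205508 F436763 D213583 (iv5 F356632) F242330 F242327
def n213584 : Q := act 4 n154378
theorem D213584 : act 4 n154378 = n213584 := rfl
theorem F471149 : act 2 n213584 = n200645 := d1_1 D213584 F429626 F429628
theorem F471150 : act 5 n213584 = n200633 := d9_2 D154378 D213584 (iv4 D200633) (iv5 D113305) (iv4 F176501) D200619 (iv4 F448871) (iv5 F450423) F450422 (iv5 D205555) (iv4 D126279) F93396 (iv4 F161096) (iv5 F361982) F242445
theorem F471151 : act 6 n213584 = n192534 := d10_2 (iv6 F370634) D213584 F386990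
theorem F471152 : act 0 n213584 = n212287 := d17_0 (iv5 D212287) (iv1 D146458) D146460 D212289 F465157 F347992 D154213 (iv0 F242454) D213584
theorem F471153 : act 1 n213584 = n212286 := d18_6 F362988 F230276 F361985 F242445 D154378 D213584 F465145 D212523 F466240
theorem F471154 : act 3 n213584 = n192535 := d19_3 (iv1 D154377) D154378 D213584 (iv1 F466656) F466652 F451744 (iv3 F437611) (iv1 F437612) F347251 (iv4 F220072) D195357 (iv1 F458807) (iv5 F462161) (iv4 D211564) (iv3 F429651) F429654 (iv5 D134190) (iv4 F172433) (iv3 F358450)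
def n213585 : Q := act 5 n154382
theorem D213585 : act 5 n154382 = n213585 := rfl
theorem F471155 : act 3 n213585 = n212437 := d6_1 D213585 (iv5 D212437) (iv3 F354933)
theorem F471156 : act 4 n213585 = n177731 := d9_1 D213585 (iv5 D177731) (iv4 F337509) (iv5 F308176) (iv4 F314748) (iv5 F163390) (iv4 F238384) (iv5 F431644) (iv4 D204244) (iv5 D123216) (iv4 F110096) (iv5 F308170) (iv4 F338148) F252037 F354932
theorem F471157 : act 7 n213585 = n212897 := d13_2 (iv7 F354934) D213585 (iv5 D212897)
theorem F471158 : act 0 n213585 = n154402 := d17_2 F430327 D213585 (iv5 F353685) F238497 F161829 F178946 F178943 F193442 D203905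
theorem F471159 : act 1 n213585 = n213486 := d17_6 F426356 (iv5 D202952) F317049 F252037 F354932 D213585 F470627 (iv0 F430372) F426807
def n213586 : Q := act 1 n154385
theorem D213586 : act 1 n154385 = n213586 := rfl
theorem F471160 : act 1 n213586 = n213483 := d15_1 D213586 F470613 (iv2 F354906)
theorem F471161 : act 7 n213586 = n183780 := d15_2 F433177 D213586 (iv2 F382874)
theorem F471162 : act 5 n213586 = n213555 := d17_7 (iv1 F364430) (iv5 F421033) F421035 (iv5 F354912) F354911 D154385 D213586 (iv0 F471013) (iv4 F368530)
theorem F471163 : act 4 n213586 = n177734 := d17_9 (iv1 D177734) (iv5 D84630) (iv1 F337500) D123216 D204244 F431644 F354931 D154385 D213586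
theorem F471164 : act 3 n213586 = n192258 := d19_3 (iv1 F332473) (iv5 F338080) (iv4 F471163) (iv1 D192258) (iv5 F370348) F370347 F227872 (iv1 F104628) F317472 (iv4 D83693) D83692 (iv1 F317466) D152204 F353141 F234410 F312693 (iv5 F79094) (iv4 F167422) F167421
def n213587 : Q := act 4 n154397
theorem D213587 : act 4 n154397 = n213587 := rfl
theorem F471165 : act 2 n213587 = n213487 := d1_1 D213587 F470632 (iv2 F390265)
theorem F471166 : act 3 n213587 = n210396 := d5_1 D213587 F457395 F392098 (iv4 D154398) D154397
theorem F471167 : act 5 n213587 = n210395 := d16_1 D213587 F457382 (iv5 F393912) F262368 F368534 (iv4 D186927) D186928 F390266 (iv2 F390265)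
def n213588 : Q := act 1 n154398
theorem D213588 : act 1 n154398 = n213588 := rfl
theorem F471168 : act 1 n213588 = n154403 := d15_1 D213588 F358620 (iv2 F353694)
theorem F471169 : act 7 n213588 = n185377 := d15_2 (iv0 F353693) D213588 (iv2 F365544)
theorem F471170 : act 4 n213588 = n204908 := d17_9 F434117 F377749 (iv1 D187196) D187197 (iv4 F369450) (iv5 F378153) (iv0 D189898) (iv5 F353695) D213588
theorem F471171 : act 5 n213588 = n210270 := d18_9 (iv1 F456813) (iv4 F419227) (iv1 F362096) (iv4 F217388) (iv5 F358579) F358585 F241682 D154398 D213588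
theorem F471172 : act 6 n154498 = n213588 := d21_3 (iv5 F231511) (iv1 F458397) F458399 (iv1 D213588) F353696 F134643 (iv1 F133403) D87021 (iv6 F338027) (iv1 F242497)
theorem F471173 : act 2 n213588 = n185378 := d3_1 F471172 (iv6 F353761) F242546
def n213589 : Q := act 3 n154403
theorem D213589 : act 3 n154403 = n213589 := rfl
theorem F471174 : act 4 n213589 = n175505 := d5_2 D154403 D213589 F338133 (iv4 F353686) (iv3 D154402)
theorem F471175 : act 5 n213589 = n195236 := d6_2 (iv5 F358619) D213589 F396403
theorem F471176 : act 7 n213589 = n185374 := d8_2 (iv7 F358620) D213589 F287611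
theorem F471177 : act 0 n213589 = n175572 := d20_4 F358585 (iv1 F241681) D154403 D213589 F332669 (iv4 D183758) F157644 F358598 F287444 D185061
theorem F471178 : act 1 n213589 = n175625 := d15_1 (iv0 F471177) (iv7 F431604) F431603
theorem F471179 : act 2 n193551 = n213589 := d15_3 F471178 (iv0 F366670) (iv7 F390243)
theorem F471180 : act 6 n213589 = n193792 := d21_3 F371182 (iv1 F396402) (iv5 F471175) F391015 (iv6 D102704) F290676 (iv1 F290674) (iv5 D47498) (iv6 F74557) D101937
def n213590 : Q := act 6 n154403
theorem D213590 : act 6 n154403 = n213590 := rfl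
theorem F471181 : act 2 n213590 = n185388 := d3_1 D213590 F470604 F470599
theorem F471182 : act 3 n213590 = n193792 := d7_1 D213590 (iv6 F471180) (iv3 D213589)
theorem F471183 : act 4 n213590 = n154405 := d10_1 D213590 (iv6 D154405) D154403
theorem F471184 : act 5 n213590 = n184098 := d12_1 D213590 (iv6 F394243) F394242 F378149 (iv5 F358619)
theorem F471185 : act 7 n213590 = n183898 := d14_2 (iv7 F358620) D213590 (iv6 D183898) F134648 D88314
theorem F471186 : act 0 n213590 = n185387 := d21_10 (iv5 F393083) F372335 (iv5 D185292) (iv6 D88283) (iv1 F134628) D183884 (iv5 F378153) (iv1 F378158) (iv5 F358619) D213590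
theorem F471187 : act 0 n185386 = n213590 := d21_4 (iv5 D72796) (iv1 F308456) D149129 (iv6 F366809) (iv6 D213590) F358619 (iv1 F345940) (iv5 F364039) (iv6 F364037) (iv1 D153882)
def n213591 : Q := act 1 n154408
theorem D213591 : act 1 n154408 = n213591 := rfl
theorem F471188 : act 1 n213591 = n208509 := d15_1 D213591 (iv7 F451168) F451166
def n213592 : Q := act 7 n154408
theorem D213592 : act 7 n154408 = n213592 := rfl
theorem F471189 : act 2 n213592 = n208509 := d4_1 D213592 (iv7 F451168) F451166
theorem F471190 : act 3 n213592 = n154410 := d8_1 D213592 (iv7 D154410) D154408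
theorem F471191 : act 4 n213592 = n213229 := d11_1 D213592 F469498 F432762
theorem F471192 : act 5 n213592 = n208407 := d13_1 D213592 (iv7 F450718) F450722
theorem F471193 : act 1 n208509 = n185030 := d15_0 (iv0 F431647) D213592 F471189
theorem F471194 : act 1 n209796 = n213592 := d15_1 (iv0 F454985) (iv7 D213592) (iv2 F451166)
theorem F471195 : act 6 n209720 = n213592 := d21_3 F469567 (iv1 F452766) D209720 (iv1 F471194) F454982 (iv5 D152565) (iv1 F188648) F188645 D152872 D213247
theorem F471196 : act 2 n209796 = n213591 := d15_3 F471188 F471193 (iv7 F454983)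
theorem F471197 : act 4 n213591 = n213056 := d1_2 F454984 F471196 F468805
theorem F471198 : act 6 n213591 = n213047 := d3_2 (iv6 F454982) F471196 F468763
theorem F471199 : act 0 n177950 = n213056 := d20_10 (iv4 F471197) (iv1 D213591) (iv4 F432762) (iv3 D204510) D204508 (iv3 F432755) F306747 (iv1 F129933) D84712 D177950
theorem F471200 : act 1 n177950 = n213211 := d15_1 (iv0 F471199) (iv7 D213211) (iv2 F468805)
def n213593 : Q := act 6 n154410
theorem D213593 : act 6 n154410 = n213593 := rfl
theorem F471201 : act 2 n213593 = n193332 := d3_1 D213593 F389483 (iv2 F358586)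
theorem F471202 : act 3 n213593 = n209720 := d7_1 D213593 F471195 F471190
theorem F471203 : act 4 n213593 = n154411 := d10_1 D213593 (iv6 D154411) (iv4 F242464)
theorem F471204 : act 5 n213593 = n193165 := d12_1 D213593 (iv6 F417152) (iv5 F417148) (iv6 F450621) F450619
theorem F471205 : act 7 n213593 = n154529 := d14_2 D154410 D213593 (iv6 D154529) (iv7 D73195) (iv6 F109622)
theorem F471206 : act 0 n213593 = n185071 := d21_4 F358604 D208733 F450619 D213593 (iv6 D185071) (iv5 F283691) F283693 F137172 D183877 (iv1 F353718)
theorem F471207 : act 0 n213482 = n213593 := d21_4 D88269 (iv1 F313124) F248344 D213482 (iv6 D213593) (iv5 F450619) (iv1 F450623) F406342 (iv6 D154391) (iv1 F352353)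
def n213594 : Q := act 4 n154438
theorem D213594 : act 4 n154438 = n213594 := rfl
theorem F471208 : act 3 n213594 = n210548 := d5_1 D213594 (iv4 D210548) F352341 (iv4 F337934) D154438
theorem F471209 : act 7 n213594 = n184952 := d11_2 (iv7 F310363) D213594 (iv4 D184952)
theorem F471210 : act 0 n213594 = n156266 := d17_0 (iv5 D156266) D156264 F463002 (iv4 D204053) (iv5 D122559) (iv0 F302300) D192954 (iv0 F388323) D213594
def n213595 : Q := act 3 n154444
theorem D213595 : act 3 n154444 = n213595 := rfl
theorem F471211 : act 4 n213595 = n212743 := d5_2 (iv4 F338026) D213595 (iv3 D212743) (iv4 D149142) (iv3 F338049)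
theorem F471212 : act 5 n213595 = n210404 := d6_2 F392538 D213595 (iv3 F457411)
theorem F471213 : act 6 n213595 = n182262 := d7_2 (iv6 F338027) D213595 F283706
theorem F471214 : act 7 n213595 = n184979 := d8_2 (iv7 F310892) D213595 (iv3 D184979)
theorem F471215 : act 0 n213595 = n210408 := d20_4 (iv4 F337923) F338024 (iv4 F338026) D213595 (iv3 D210408) D210409 F457425 (iv4 D199292) F352338 (iv1 F337916)
theorem F471216 : act 2 n212725 = n213595 := d4_3 F471214 (iv2 F426933) (iv7 F467276)
def n213596 : Q := act 3 n154445
theorem D213596 : act 3 n154445 = n213596 := rfl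
theorem F471217 : act 7 n213596 = n184983 := d8_2 (iv7 F310890) D213596 (iv3 D184983)
theorem F471218 : act 0 n192822 = n213596 := d20_4 (iv4 F347703) F367276 D100743 D192822 (iv3 D213596) F242499 (iv1 D153882) F337923 (iv3 F368563) (iv1 D102344)
def n213597 : Q := act 0 n154447
theorem D213597 : act 0 n154447 = n213597 := rfl
theorem F471219 : act 5 n213597 = n194717 := d17_3 F458389 F458388 D213597 F394222 (iv5 F345109) F241646 (iv5 F331133) (iv0 F370819) (iv4 F434243)
theorem F471220 : act 4 n213597 = n185317 := d20_2 (iv4 F242500) D213597 (iv3 F452585) (iv1 D137014) (iv3 F220144) D209851 (iv1 F455134) F455169 F455170 (iv1 D154449)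
theorem F471221 : act 1 n182220 = n213597 := d15_0 (iv0 D213597) F310896 (iv2 F283659)
theorem F471222 : act 2 n185291 = n213597 := d1_3 F471220 (iv2 F452584) F394230
theorem F471223 : act 7 n185290 = n213597 := d11_0 F471220 F452583 F384919
def n213598 : Q := act 1 n154447
theorem D213598 : act 1 n154447 = n213598 := rfl
theorem F471224 : act 1 n213598 = n182220 := d15_1 D213598 (iv7 F470623) F470621
theorem F471225 : act 7 n213598 = n185291 := d15_2 (iv0 D213597) D213598 F471222
theorem F471226 : act 5 n213598 = n187980 := d17_7 (iv1 D201362) (iv5 D114367) D114364 D201359 (iv4 F458387) F458388 D213598 F372012 (iv4 F420183)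
theorem F471227 : act 4 n213598 = n185316 := d18_7 D194725 F394267 (iv1 F389231) F389226 (iv5 F308731) (iv4 F242500) D213598 (iv0 D185316) (iv5 F159825)
theorem F471228 : act 2 n185290 = n213598 := d1_3 F471227 F452581 F384919
theorem F471229 : act 3 n213598 = n192795 := d19_3 F452580 F452579 (iv4 F471227) (iv1 F469075) (iv5 D213115) (iv4 F465022) (iv3 D212262) (iv1 F329484) (iv5 D92602) F73279 (iv3 F73278) (iv1 D23321) D23322 D48197 (iv3 F365288) D194387 F393017 F251056 (iv3 F386854)
theorem F471230 : act 6 n185316 = n213598 := d7_0 F471229 (iv6 F454020) F454019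
def n213599 : Q := act 5 n154448
theorem D213599 : act 5 n154448 = n213599 := rfl
theorem F471231 : act 2 n213599 = n185301 := d2_1 D213599 (iv5 D185301) (iv2 F386094)
theorem F471232 : act 3 n213599 = n209491 := d6_1 D213599 F455021 (iv3 F455020)
theorem F471233 : act 7 n213599 = n185296 := d13_2 (iv7 F386095) D213599 (iv5 D185296)
theorem F471234 : act 4 n213599 = n192501 := d16_2 F469120 D213599 F386847 F178147 D114367 (iv4 F239765) F351163 F351165 (iv2 F469116)
theorem F471235 : act 0 n213599 = n154754 := d17_2 D154448 D213599 (iv5 F357256) (iv4 F471183) F471184 F394228 (iv5 F471219) (iv0 D213597) F242500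
theorem F471236 : act 1 n213599 = n209483 := d17_6 (iv1 D193841) F157195 (iv1 F351170) D213127 F469120 D213599 F453883 F389485 (iv4 F391171)
theorem F471237 : act 6 n213599 = n189593 := d21_9 F389261 (iv1 F377027) (iv5 F366865) (iv6 D157617) (iv1 F306613) D101366 (iv5 F308731) D154448 D213599 (iv1 F389263)
def n213600 : Q := act 5 n154449
theorem D213600 : act 5 n154449 = n213600 := rfl
theorem F471238 : act 2 n213600 = n185296 := d2_1 D213600 (iv5 D185296) (iv2 F386090)
theorem F471239 : act 4 n213600 = n192500 := d9_1 D213600 F386842 (iv4 F420136) F420137 (iv4 F239762) D213127 F469120 D213599 F471234 F386847 F178147 D114367 (iv4 F239765) F351163 (iv4 F386091)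
theorem F471240 : act 6 n213600 = n209476 := d12_2 (iv6 F386092) D213600 (iv5 F457796) F457800 (iv5 F386089)
theorem F471241 : act 7 n213600 = n185301 := d13_2 (iv7 F386093) D213600 (iv5 D185301)
theorem F471242 : act 0 n213600 = n209483 := d17_2 (iv1 F310898) D213600 F453883 F337980 (iv5 F159725) (iv0 F372011) (iv5 F471226) F471224 F283660
theorem F471243 : act 1 n213600 = n154754 := d17_6 D154530 (iv5 F386099) (iv1 F386101) F351163 (iv4 F386091) D213600 (iv5 F357256) (iv0 F357263) F242556
def n213601 : Q := act 6 n154462
theorem D213601 : act 6 n154462 = n213601 := rfl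
theorem F471244 : act 5 n213601 = n209574 := d12_1 D213601 (iv6 D209574) (iv5 F316793) F338140 D154462
theorem F471245 : act 0 n213601 = n193075 := d21_10 (iv5 D193075) F382806 D210484 F457732 D210486 (iv6 F457743) F274748 F310345 D154462 D213601
def n213602 : Q := act 6 n154472
theorem D213602 : act 6 n154472 = n213602 := rfl
theorem F471246 : act 4 n213602 = n210629 := d10_1 D213602 (iv6 F458263) F391057
def n213603 : Q := act 1 n154473
theorem D213603 : act 1 n154473 = n213603 := rfl
theorem F471247 : act 1 n213603 = n203912 := d15_1 D213603 F430362 F354906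
theorem F471248 : act 7 n213603 = n191283 := d15_2 F364035 D213603 F382874
theorem F471249 : act 5 n213603 = n203055 := d17_7 (iv1 F335476) F420262 (iv1 D201380) (iv5 F321363) D121323 F354925 D213603 (iv0 F426809) F238497
theorem F471250 : act 4 n213603 = n204659 := d17_9 (iv1 F433166) (iv5 D149044) F314827 D154836 (iv4 F468018) (iv5 D212897) (iv0 F353785) F354925 D213603
theorem F471251 : act 3 n203056 = n213603 := d20_3 F157104 (iv1 F426814) F426815 (iv1 D213603) (iv3 F368364) (iv4 F368365) F390923 F367350 (iv3 F390920) (iv1 D193758)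
theorem F471252 : act 2 n213586 = n213603 := d1_3 F471250 (iv2 F433167) (iv4 F471163)
def n213604 : Q := act 1 n154482
theorem D213604 : act 1 n154482 = n213604 := rfl
theorem F471253 : act 7 n213604 = n187093 := d15_2 (iv0 F390923) D213604 F369061
theorem F471254 : act 4 n213604 = n187094 := d18_7 (iv1 F431114) (iv4 F471111) (iv1 F471113) F419589 F368363 (iv4 F368365) D213604 F457978 F457976
theorem F471255 : act 2 n193815 = n213604 := d1_3 F471254 F391080 (iv4 F391081)
theorem F471256 : act 6 n185311 = n213604 := d10_0 F471254 F387907 F387901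
theorem F471257 : act 0 n193803 = n213604 := d18_2 D102354 D193803 F471254 F369063 (iv4 F369054) (iv0 F414766) F414763 (iv0 D186553) F136236
def n213605 : Q := act 2 n154482
theorem D213605 : act 2 n154482 = n213605 := rfl
theorem F471258 : act 3 n213605 = n184989 := d0_2 D154482 D213605 (iv2 D184989) (iv3 D88182) (iv2 F308276)
theorem F471259 : act 4 n213605 = n186932 := d1_2 (iv4 F368365) D213605 F368550
theorem F471260 : act 6 n213605 = n183887 := d3_2 (iv6 F310367) D213605 (iv2 D183887)
theorem F471261 : act 7 n213605 = n193803 := d4_2 F470618 D213605 (iv2 F470616)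
theorem F471262 : act 1 n213605 = n193815 := d15_0 (iv0 F470619) F470618 D213605
theorem F471263 : act 1 n187093 = n213605 := d15_0 F471262 (iv7 D193815) (iv2 F369061)
def n213606 : Q := act 3 n154494
theorem D213606 : act 3 n154494 = n213606 := rfl
theorem F471264 : act 2 n213606 = n194114 := d0_1 D213606 F392098 F353694 (iv3 F287611) (iv2 F364811)
theorem F471265 : act 4 n213606 = n154499 := d5_2 D154494 D213606 (iv3 D154499) (iv4 D73183) D73182
theorem F471266 : act 5 n213606 = n194044 := d6_2 F421376 D213606 F421379
theorem F471267 : act 6 n213606 = n191306 := d7_2 F364816 D213606 F382971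
theorem F471268 : act 0 n213606 = n208855 := d19_4 F338067 (iv5 F310408) D154494 D213606 (iv5 D208855) (iv4 F218156) (iv3 D135668) (iv1 D63786) D63787 (iv4 F325787) F192292 F87906 (iv5 D54004) F313314 (iv3 F51576) (iv1 F106348) (iv5 F106349) (iv4 F185755) F338071
theorem F471269 : act 0 n195151 = n213606 := d21_1 D195151 F471266 (iv6 D194044) (iv1 F285215) (iv6 F364222) F171505 (iv1 F340097) (iv5 D134304) D134305 F396008
def n213607 : Q := act 3 n154497
theorem D213607 : act 3 n154497 = n213607 := rfl
theorem F471270 : act 4 n213607 = n212735 := d5_2 F306620 D213607 (iv3 D212735) (iv4 D149131) (iv3 F234509)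
theorem F471271 : act 5 n213607 = n210004 := d6_2 F458391 D213607 (iv3 F458395)
theorem F471272 : act 7 n213607 = n210273 := d8_2 F242544 D213607 F456827
theorem F471273 : act 6 n202500 = n213607 := d14_5 F471272 (iv6 D210273) (iv7 D138082) (iv6 F203890) (iv7 F424287)
theorem F471274 : act 2 n213607 = n209848 := d15_3 (iv0 F457416) (iv0 F457417) (iv7 F471272)
theorem F471275 : act 0 n212730 = n213607 := d21_4 (iv5 F234387) F243629 (iv5 F234496) D212730 (iv6 F471273) (iv5 D202500) (iv1 F180437) D135990 F328991 (iv1 F234386)
def n213608 : Q := act 6 n154497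
theorem D213608 : act 6 n154497 = n213608 := rfl
theorem F471276 : act 3 n213608 = n202500 := d7_1 D213608 F471273 (iv3 D213607)
theorem F471277 : act 4 n213608 = n185386 := d10_1 D213608 F366809 F306620
theorem F471278 : act 5 n213608 = n202499 := d12_1 D213608 F424275 F424278 F458393 F458391
theorem F471279 : act 7 n213608 = n205857 := d14_2 F242544 D213608 F438160 (iv7 F365550) (iv6 F353761)
theorem F471280 : act 0 n213608 = n210157 := d21_10 (iv5 D210157) F452580 F452579 F471230 (iv1 D213598) (iv6 D154447) (iv5 F336317) D210667 F458391 D213608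
theorem F471281 : act 0 n185066 = n213608 := d21_4 (iv5 F338035) F338031 (iv5 D185065) D185066 (iv6 D213608) (iv5 F458391) (iv1 F458392) F231511 F308277 D87713
def n213609 : Q := act 3 n154498
theorem D213609 : act 3 n154498 = n213609 := rfl
def n213610 : Q := act 1 n154508
theorem D213610 : act 1 n154508 = n213610 := rfl
theorem F471282 : act 1 n213610 = n213480 := d15_1 D213610 F470597 (iv2 F353687)
theorem F471283 : act 7 n213610 = n204244 := d15_2 F468019 D213610 (iv2 F468015)
theorem F471284 : act 5 n213610 = n203911 := d17_7 (iv1 F193444) F193440 (iv1 F324270) D114853 F368530 (iv5 F368531) D213610 (iv0 D203911) (iv4 D121318)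
theorem F471285 : act 4 n213610 = n204245 := d17_9 (iv1 F431651) (iv5 D197201) (iv1 F332473) (iv5 F338080) (iv4 F471163) F471162 (iv0 F471013) (iv5 F368531) D213610
theorem F471286 : act 2 n213585 = n213610 := d1_3 F471285 F431648 (iv4 F471156)
def n213611 : Q := act 7 n154510
theorem D213611 : act 7 n154510 = n213611 := rfl
theorem F471287 : act 3 n213611 = n154516 := d8_1 D213611 (iv7 D154516) (iv3 F242550)
theorem F471288 : act 4 n213611 = n203397 := d11_1 D213611 F428144 F362836
theorem F471289 : act 5 n213611 = n203351 := d13_1 D213611 F428005 (iv5 F362838)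
theorem F471290 : act 6 n213611 = n213488 := d14_1 D213611 F470635 (iv6 F358576) F241747 D154510
theorem F471291 : act 1 n212834 = n213611 := d15_1 (iv0 F467691) (iv7 D213611) (iv2 F391011)
theorem F471292 : act 1 n213611 = n183770 := d15_1 F471291 (iv7 F428049) (iv2 F467688)
theorem F471293 : act 0 n203398 = n213488 := d21_4 (iv5 D159406) F114288 D118878 D203398 (iv6 F471290) F471289 (iv1 D203351) D203353 F428010 (iv1 F251016)
def n213612 : Q := act 0 n154511
theorem D213612 : act 0 n154511 = n213612 := rfl
theorem F471294 : act 4 n213612 = n175573 := d18_3 F372805 (iv4 F368538) D213612 (iv5 F386445) F386444 (iv0 F419591) F419589 F368359 (iv5 F372803)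
theorem F471295 : act 1 n213587 = n213612 := d15_0 (iv0 D213612) (iv7 F470634) (iv2 F471165)
theorem F471296 : act 6 n175572 = n213612 := d10_0 F471294 (iv6 D175573) D175572
def n213613 : Q := act 1 n154511
theorem D213613 : act 1 n154511 = n213613 := rfl
def n213614 : Q := act 2 n154511
theorem D213614 : act 2 n154511 = n213614 := rfl
theorem F471297 : act 4 n213614 = n193557 := d1_2 (iv4 F368538) D213614 (iv2 F390270)
theorem F471298 : act 7 n213614 = n213587 := d4_2 F470634 D213614 F471165
theorem F471299 : act 1 n213613 = n213587 := d15_1 D213613 (iv7 F471298) (iv2 D213614)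
def n213615 : Q := act 6 n154511
theorem D213615 : act 6 n154511 = n213615 := rfl
theorem F471300 : act 3 n213615 = n154512 := d7_1 D213615 (iv6 D154512) D154511
theorem F471301 : act 4 n213615 = n193744 := d10_1 D213615 (iv6 F390881) (iv4 F368538)
theorem F471302 : act 7 n185511 = n213615 := d8_0 F471300 F353751 D185511
def n213616 : Q := act 1 n154515
theorem D213616 : act 1 n154515 = n213616 := rfl
theorem F471303 : act 1 n213616 = n185157 := d15_1 D213616 F383127 F383123
theorem F471304 : act 7 n213616 = n188843 := d15_2 (iv0 F374208) D213616 F375045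
theorem F471305 : act 4 n213616 = n188619 := d17_9 (iv1 D188619) (iv5 D92580) (iv1 F67983) (iv5 F138873) F362820 (iv5 D88242) F312616 D154515 D213616
theorem F471306 : act 5 n213580 = n213616 := d21_0 (iv1 D213616) (iv5 D154515) (iv6 D73190) (iv1 D33696) (iv6 F52951) (iv5 D33683) D33681 D73127 D154374 D213580
theorem F471307 : act 2 n213616 = n192781 := d2_1 F471306 (iv5 F387745) F471137
def n213617 : Q := act 7 n154515
theorem D213617 : act 7 n154515 = n213617 := rfl
theorem F471308 : act 2 n213617 = n185157 := d4_1 D213617 F383127 F383123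
theorem F471309 : act 3 n213617 = n203351 := d8_1 D213617 F428005 F362839
theorem F471310 : act 4 n213617 = n187506 := d11_1 D213617 (iv7 F374205) (iv4 F374207)
theorem F471311 : act 5 n213617 = n154516 := d13_1 D213617 (iv7 D154516) D154515
theorem F471312 : act 1 n192781 = n213617 := d15_1 (iv0 F387744) (iv7 D213617) (iv2 F383123)
theorem F471313 : act 1 n213617 = n188843 := d15_1 F471312 (iv7 F471304) F471307
theorem F471314 : act 5 n213130 = n212587 := d19_5 (iv1 F471312) (iv5 F387745) (iv4 F469123) F469122 D213130 (iv4 D212587) F231738 (iv1 F205903) (iv5 D127949) (iv4 D60111) (iv3 F83602) F115167 (iv5 D68020) D68019 (iv3 F114955) (iv1 F114957) D159870 (iv4 F428006) (iv3 F471309)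
def n213618 : Q := act 0 n154518
theorem D213618 : act 0 n154518 = n213618 := rfl
theorem F471315 : act 5 n213618 = n210835 := d19_1 D213618 (iv4 F458956) F460238 F460237 F457720 F457719 F427227 (iv1 F439794) F439791 F234843 (iv3 F434157) (iv1 F434160) (iv5 F199517) F234518 (iv3 F335023) (iv1 D147823) D147825 F231587 D154518
theorem F471316 : act 6 n213618 = n203324 := d21_5 (iv5 F363405) F348245 (iv5 F308326) F358576 D213618 (iv5 D203324) (iv1 F235108) (iv5 F457738) (iv6 F457743) (iv1 F310351)
theorem F471317 : act 2 n203398 = n213618 := d3_3 F471316 F427879 D203398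
theorem F471318 : act 3 n210836 = n213618 := d6_3 F471315 (iv3 D210835) D210836
def n213619 : Q := act 1 n154518
theorem D213619 : act 1 n154518 = n213619 := rfl
theorem F471319 : act 7 n213619 = n203398 := d15_2 (iv0 D213618) D213619 F471317
theorem F471320 : act 6 n210238 = n213619 := d21_3 D183784 F445318 D210238 (iv1 D213619) (iv6 F358576) F308326 (iv1 F364029) (iv5 F364030) (iv6 F444987) (iv1 D183782)
theorem F471321 : act 5 n210236 = n213619 := d21_6 (iv5 D154261) (iv1 F342353) (iv5 F385074) F456688 (iv1 D210235) D210236 (iv1 D213619) (iv5 F466415) F466416 (iv1 F365563)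
def n213620 : Q := act 2 n154518
theorem D213620 : act 2 n154518 = n213620 := rfl
theorem F471322 : act 3 n213620 = n185373 := d0_2 D154518 D213620 F364813 F242541 F353725
theorem F471323 : act 4 n213620 = n185081 := d1_2 F390971 D213620 (iv2 F390966)
theorem F471324 : act 6 n213620 = n193550 := d3_2 F358576 D213620 F390238
theorem F471325 : act 0 n213620 = n203398 := d21_4 (iv5 F465189) (iv1 F465192) (iv5 F390239) (iv6 F471324) (iv6 D203398) (iv5 D118878) (iv1 F114276) D159399 (iv6 F352729) F310354
def n213621 : Q := act 1 n154521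
theorem D213621 : act 1 n154521 = n213621 := rfl
theorem F471326 : act 7 n213621 = n192817 := d15_2 F364815 D213621 F387889
theorem F471327 : act 4 n213621 = n188216 := d17_9 F372708 (iv5 F287610) (iv1 D89370) D89371 F347703 (iv5 F154229) D192498 F386833 D213621
theorem F471328 : act 5 n209964 = n213621 := d21_0 (iv1 D213621) (iv5 F386833) (iv6 F386836) (iv1 D189142) F372454 D208229 F448482 (iv5 D192950) D192951 F455555
theorem F471329 : act 6 n192164 = n213621 := d21_9 (iv5 F386833) (iv1 D192498) F154229 (iv6 D47491) (iv1 F72163) D97990 F151050 D99813 D192164 (iv1 D213621)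
theorem F471330 : act 2 n213621 = n188234 := d3_1 F471329 F372771 (iv2 F385820)
theorem F471331 : act 3 n213621 = n209233 := d7_1 F471329 (iv6 D209233) (iv3 F385821)
theorem F471332 : act 0 n185373 = n213621 := d21_4 (iv5 F137026) (iv1 F156855) (iv5 F156850) F364812 (iv6 F471329) (iv5 D192164) (iv1 F153652) D101887 F156831 (iv1 F128837)
def n213622 : Q := act 2 n154521
theorem D213622 : act 2 n154521 = n213622 := rfl
theorem F471333 : act 4 n213622 = n183897 := d1_2 F392079 D213622 (iv2 F392077)
theorem F471334 : act 5 n213622 = n189048 := d2_2 F386833 D213622 F386835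
theorem F471335 : act 6 n213622 = n188239 := d3_2 F372793 D213622 (iv2 F372791)
theorem F471336 : act 7 n213622 = n185373 := d4_2 F353729 D213622 F364813
theorem F471337 : act 1 n213622 = n188234 := d15_0 (iv0 F372773) F353729 D213622
theorem F471338 : act 1 n192817 = n213622 := d15_0 F471337 F372772 (iv2 F387889)
def n213623 : Q := act 0 n154523
theorem D213623 : act 0 n154523 = n213623 := rfl
theorem F471339 : act 6 n213623 = n209805 := d21_5 F242483 (iv1 F430754) F430751 F450539 D213623 (iv5 D209805) (iv1 F452765) (iv5 F469567) F469564 F430900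
theorem F471340 : act 2 n154527 = n213623 := d15_3 (iv0 D213623) (iv0 D154523) D154527
theorem F471341 : act 3 n213623 = n198060 := d0_2 (iv3 F242555) F471340 F406622 F349412 F231525
theorem F471342 : act 5 n213623 = n198059 := d2_2 F466099 F471340 (iv2 F466097)
theorem F471343 : act 7 n213623 = n154525 := d4_2 D154527 F471340 (iv2 D154525)
theorem F471344 : act 1 n154524 = n213623 := d15_1 D154524 F471343 (iv2 D154525)
def n213624 : Q := act 2 n154523
theorem D213624 : act 2 n154523 = n213624 := rfl
theorem F471345 : act 5 n213624 = n210425 := d2_2 (iv5 F450538) D213624 (iv2 F457477)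
theorem F471346 : act 6 n213624 = n204051 := d3_2 F450539 D213624 (iv2 F430905)
theorem F471347 : act 7 n154524 = n213624 := d15_2 (iv0 D154523) D154524 (iv2 D213624)
theorem F471348 : act 0 n154525 = n213624 := d21_4 (iv5 D208408) F347114 D208866 (iv6 F451169) F471346 F430903 (iv1 F388789) (iv5 D184953) D184954 F449225
theorem F471349 : act 1 n154527 = n213624 := d15_0 (iv0 F471348) (iv7 F471343) (iv2 F471340)
theorem F471350 : act 3 n210426 = n213624 := d6_3 F471345 (iv3 D210425) D210426
def n213625 : Q := act 3 n154523
theorem D213625 : act 3 n154523 = n213625 := rfl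
theorem F471351 : act 5 n213625 = n212819 := d6_2 (iv5 F450538) D213625 F467612
theorem F471352 : act 6 n213625 = n193559 := d7_2 F450539 D213625 (iv3 F430752)
theorem F471353 : act 2 n209842 = n213625 := d3_3 F471352 (iv2 F390276) F455115
theorem F471354 : act 0 n209802 = n213625 := d21_4 (iv5 D208526) F347089 (iv5 F220127) D209802 F471352 F390275 (iv1 F243628) (iv5 F338055) (iv6 F423713) F449738
theorem F471355 : act 0 n213625 = n209233 := d21_4 (iv5 F388328) F366717 (iv5 F390275) (iv6 F471352) (iv6 D209233) F218777 (iv1 F99461) D64385 D136992 (iv1 F388327)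
def n213626 : Q := act 4 n154523
theorem D213626 : act 4 n154523 = n213626 := rfl
theorem F471356 : act 6 n213626 = n213472 := d10_2 F450539 D213626 (iv4 D213472)
def n213627 : Q := act 7 n154523
theorem D213627 : act 7 n154523 = n213627 := rfl
theorem F471357 : act 2 n213627 = n154524 := d4_1 D213627 F471347 (iv2 D213624)
theorem F471358 : act 1 n154525 = n213627 := d15_1 (iv0 F471348) (iv7 D213627) D213624
theorem F471359 : act 1 n213627 = n154527 := d15_1 F471358 (iv7 D154527) D154525
def n213628 : Q := act 3 n154524
theorem D213628 : act 3 n154524 = n213628 := rfl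
theorem F471360 : act 5 n213628 = n202688 := d6_2 F448941 D213628 (iv3 F425104)
theorem F471361 : act 7 n213628 = n210426 := d8_2 (iv7 F471347) D213628 F471350
theorem F471362 : act 2 n210423 = n213628 := d2_3 F471360 F425099 D210423
theorem F471363 : act 0 n210836 = n213628 := d17_2 D139942 D210836 F471360 F425100 (iv5 F393532) F393535 (iv5 D139958) (iv0 D65707) (iv4 F101422)
theorem F471364 : act 1 n210837 = n213628 := d17_6 (iv1 F233152) F227744 (iv1 F315495) (iv5 F333259) F334971 D210837 F471360 (iv0 F425101) F278853
def n213629 : Q := act 4 n154524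
theorem D213629 : act 4 n154524 = n213629 := rfl
theorem F471365 : act 3 n213056 = n213629 := d20_5 F306747 (iv1 F129933) D84712 D177950 F471199 (iv4 D213629) (iv1 D154524) (iv4 F198434) (iv3 D124052) D124050
theorem F471366 : act 6 n213629 = n212838 := d7_2 D213056 F471365 F467711
def n213630 : Q := act 6 n154524
theorem D213630 : act 6 n154524 = n213630 := rfl
theorem F471367 : act 4 n213630 = n212838 := d10_1 D213630 (iv6 F471366) (iv4 D213629)
theorem F471368 : act 7 n213630 = n213199 := d14_2 (iv7 F471347) D213630 (iv6 F469416) F430906 (iv6 F471346)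
theorem F471369 : act 1 n185150 = n213630 := d18_6 F346465 F87041 D55247 D120069 D203655 F429259 F471367 F467714 (iv5 D202027)
def n213631 : Q := act 1 n154526
theorem D213631 : act 1 n154526 = n213631 := rfl
theorem F471370 : act 1 n213631 = n198059 := d15_1 D213631 F406621 (iv2 F349415)
theorem F471371 : act 7 n213631 = n202578 := d15_2 (iv0 F450768) D213631 F424587
theorem F471372 : act 3 n202581 = n213631 := d19_19 (iv1 D213631) (iv5 D154526) (iv4 F198434) (iv3 D124052) D124050 D204615 F433035 (iv3 F433231) F459823 F459822 F272933 (iv3 F358924) F373664 F373663 F230979 (iv3 F359199) F359197 (iv5 F332417) (iv4 F424600)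
theorem F471373 : act 6 n213631 = n208331 := d7_2 (iv6 F424601) F471372 F448945
theorem F471374 : act 2 n210546 = n213631 := d4_3 F471371 F424587 (iv7 F457988)
def n213632 : Q := act 6 n154527
theorem D213632 : act 6 n154527 = n213632 := rfl
theorem F471375 : act 2 n213632 = n209805 := d3_1 D213632 (iv6 F471339) (iv2 F471340)
theorem F471376 : act 3 n213632 = n154529 := d7_1 D213632 (iv6 D154529) (iv3 F242555)
theorem F471377 : act 5 n213632 = n193328 := d12_1 D213632 F453665 D209977 (iv6 F466100) F466099
theorem F471378 : act 7 n213632 = n209720 := d14_2 D154527 D213632 F471195 (iv7 D213592) F242463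
theorem F471379 : act 0 n213632 = n209226 := d21_10 F452788 F453650 F453649 (iv6 D152872) (iv1 F188684) F424590 (iv5 F424589) F466102 F466099 D213632
def n213633 : Q := act 4 n154530
theorem D213633 : act 4 n154530 = n213633 := rfl
theorem F471380 : act 2 n213633 = n210157 := d1_1 D213633 F456404 F391172
theorem F471381 : act 6 n213633 = n213298 := d10_2 (iv6 F358592) D213633 F469792
theorem F471382 : act 7 n213633 = n185066 := d11_2 (iv7 F358593) D213633 F287453
theorem F471383 : act 5 n213633 = n192492 := d16_1 D213633 F386806 (iv5 F375055) F375054 F371748 F294749 (iv5 F157195) D193842 F391172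
theorem F471384 : act 0 n213633 = n205857 := d17_0 (iv5 D205857) F365464 F159825 (iv4 F287579) F373376 (iv0 F391162) F391161 F391158 D213633
theorem F471385 : act 3 n192493 = n213633 := d6_3 F471383 (iv3 D192492) D192493
def n213634 : Q := act 0 n154541
theorem D213634 : act 0 n154541 = n213634 := rfl
theorem F471386 : act 5 n213634 = n212563 := d17_1 D213634 F466439 (iv5 F463510) F463509 (iv5 F462772) F462775 F389966 (iv0 D193470) (iv4 F357909)
theorem F471387 : act 4 n213634 = n194337 := d18_1 D213634 F393788 F393787 (iv5 D162950) D162949 F435395 F435391 (iv0 F467671) F467669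
theorem F471388 : act 6 n213634 = n179276 := d21_5 (iv5 D60181) F77289 D73242 D154541 D213634 (iv5 F354255) F335860 (iv5 D133331) (iv6 F354115) (iv1 D128066)
theorem F471389 : act 2 n179279 = n213634 := d15_3 (iv0 D213634) (iv0 F382340) (iv7 F351384)
theorem F471390 : act 7 n213634 = n205832 := d4_2 (iv7 F351384) F471389 F438047
theorem F471391 : act 1 n197144 = n213634 := d15_1 (iv0 F403249) F471390 F438047
def n213635 : Q := act 7 n154541
theorem D213635 : act 7 n154541 = n213635 := rfl
theorem F471392 : act 2 n213635 = n197144 := d4_1 D213635 F403248 F357889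
theorem F471393 : act 3 n213635 = n192105 := d8_1 D213635 F385569 F357885
theorem F471394 : act 4 n213635 = n192110 := d11_1 D213635 F385601 (iv4 F357909)
theorem F471395 : act 5 n213635 = n206636 := d13_1 D213635 (iv7 F467670) F467669
theorem F471396 : act 6 n213635 = n206320 := d14_1 D213635 (iv7 D206320) (iv6 D128243) F110044 D154541
theorem F471397 : act 1 n205832 = n213635 := d15_1 (iv0 F438048) (iv7 D213635) (iv2 F357889)
theorem F471398 : act 1 n213635 = n179279 := d15_1 F471397 F351384 (iv2 F438047)
theorem F471399 : act 0 n194471 = n209258 := d18_2 (iv1 D194473) (iv4 F393352) F452934 F393834 (iv4 F471394) F471398 (iv4 F423925) (iv0 F440313) F440311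
def n213636 : Q := act 4 n154557
theorem D213636 : act 4 n154557 = n213636 := rfl
theorem F471400 : act 1 n213636 = n204604 := d18_6 F315670 F307071 (iv1 D74858) (iv4 F307078) D154557 D213636 (iv4 D204604) (iv0 F431256) (iv5 D204159)
def n213637 : Q := act 6 n154557
theorem D213637 : act 6 n154557 = n213637 := rfl
theorem F471401 : act 3 n213637 = n154559 := d7_1 D213637 (iv6 D154559) (iv3 F242629)
theorem F471402 : act 5 n213637 = n157404 := d12_1 D213637 (iv6 D157404) (iv5 D74855) F308932 D154557
theorem F471403 : act 0 n192726 = n213637 := d21_4 (iv5 F340562) (iv1 F340560) (iv5 F157911) (iv6 F387605) (iv6 D213637) (iv5 D154557) (iv1 F310394) D183393 F285108 D184234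
theorem F471404 : act 7 n188106 = n213637 := d13_0 F471402 (iv7 F364669) D188106
def n213638 : Q := act 3 n154558
theorem D213638 : act 3 n154558 = n213638 := rfl
theorem F471405 : act 7 n213638 = n213609 := d8_2 (iv7 F242631) D213638 (iv3 D213609)
def n213639 : Q := act 6 n154558
theorem D213639 : act 6 n154558 = n213639 := rfl
theorem F471406 : act 2 n213639 = n213608 := d3_1 D213639 (iv6 D213608) (iv2 F242630)
theorem F471407 : act 4 n213639 = n154559 := d10_1 D213639 (iv6 D154559) D154558
theorem F471408 : act 5 n213639 = n194725 := d12_1 D213639 (iv6 F455701) F455700 (iv6 F392540) F337993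
theorem F471409 : act 0 n213639 = n213633 := d21_4 (iv5 F458382) F458383 F337993 D213639 F471381 F469791 F469755 F369456 (iv6 D184981) (iv1 F310370)
theorem F471410 : act 0 n193840 = n213639 := d21_4 (iv5 F133585) (iv1 F294286) F294288 D193840 (iv6 D213639) (iv5 F337993) (iv1 D184993) (iv5 D88183) F62355 D41194
def n213640 : Q := act 6 n154569
theorem D213640 : act 6 n154569 = n213640 := rfl
theorem F471411 : act 2 n213640 = n154574 := d3_1 D213640 (iv6 D154574) (iv2 F242638)
theorem F471412 : act 5 n212832 = n213640 := d2_0 F471411 (iv5 F428183) F467681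
theorem F471413 : act 1 n213640 = n159426 := d15_0 (iv0 F391169) F359650 (iv2 F471411)
def n213641 : Q := act 5 n154570
theorem D213641 : act 5 n154570 = n213641 := rfl
theorem F471414 : act 2 n213641 = n154577 := d2_1 D213641 (iv5 D154577) (iv2 F242639)
theorem F471415 : act 3 n213641 = n191745 := d6_1 D213641 F384328 (iv3 F351789)
theorem F471416 : act 6 n213641 = n212832 := d12_2 D154570 D213641 F471412 (iv6 D213640) (iv5 D154569)
theorem F471417 : act 7 n213641 = n177667 := d13_2 F351790 D213641 F363861
theorem F471418 : act 0 n213641 = n177655 := d17_2 (iv1 F342332) D213641 F342120 (iv4 F347439) F347440 F318839 F128625 F128603 D174764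
theorem F471419 : act 1 n213641 = n177672 := d17_6 F442216 F442212 (iv1 F466200) F466202 F351791 D213641 (iv5 F348211) F351925 (iv4 F248370)
def n213642 : Q := act 4 n154571
theorem D213642 : act 4 n154571 = n213642 := rfl
theorem F471420 : act 3 n213642 = n185274 := d5_1 D213642 F426815 F471251 F471250 F433179
theorem F471421 : act 7 n213642 = n185270 := d11_2 (iv7 F421428) D213642 F421382
theorem F471422 : act 0 n213642 = n192815 := d17_0 F392069 (iv1 D194109) (iv5 D102676) (iv4 F157919) F291517 (iv0 F324404) (iv5 F387060) F387067 D213642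
def n213643 : Q := act 6 n154571
theorem D213643 : act 6 n154571 = n213643 := rfl
def n213644 : Q := act 3 n154572
theorem D213644 : act 3 n154572 = n213644 := rfl
theorem F471423 : act 2 n213644 = n191499 := d0_1 D213644 F433180 F433173 (iv3 F433175) F421426
theorem F471424 : act 7 n213644 = n191500 := d8_2 F470643 D213644 (iv3 F470646)
theorem F471425 : act 0 n213644 = n191501 := d20_4 D192815 F392070 F421427 D213644 F383589 (iv4 F383593) (iv1 F383594) (iv4 D175530) D175529 F368399
theorem F471426 : act 5 n208927 = n213644 := d13_3 F471424 (iv5 F468572) F468577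
theorem F471427 : act 1 n213644 = n191495 := d17_6 (iv1 D128169) D128170 F403047 F403045 D208927 F471426 (iv5 D191495) F340214 F277181
def n213645 : Q := act 5 n154572
theorem D213645 : act 5 n154572 = n213645 := rfl
theorem F471428 : act 2 n213645 = n212556 := d2_1 D213645 F466406 F421426
theorem F471429 : act 3 n213645 = n208927 := d6_1 D213645 F471426 (iv3 D213644)
theorem F471430 : act 6 n213645 = n207129 := d12_2 (iv6 F421425) D213645 (iv5 F470687) F470690 F421423
theorem F471431 : act 7 n213645 = n191382 := d13_2 F470643 D213645 F470644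
theorem F471432 : act 4 n213645 = n191385 := d16_6 F349902 D210053 (iv4 F455954) F383496 F421427 D213645 F383290 (iv7 F383289) F383284
theorem F471433 : act 1 n203789 = n213645 := d18_6 D176125 (iv4 F337534) (iv1 F385752) F385749 D206322 (iv4 F440240) F471432 (iv0 F383292) F303621
theorem F471434 : act 0 n212557 = n213645 := d20_7 (iv4 D126907) D126905 (iv4 F345595) (iv3 F447682) (iv1 F447685) F425436 (iv4 F466410) F471432 (iv3 F438717) (iv1 D205988)
def n213646 : Q := act 3 n154573
theorem D213646 : act 3 n154573 = n213646 := rfl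
theorem F471435 : act 2 n213646 = n185314 := d0_1 D213646 (iv3 D185314) F135204 D185180 F387063
theorem F471436 : act 4 n213646 = n154586 := d5_2 D154573 D213646 (iv3 D154586) (iv4 D73273) (iv3 F109719)
def n213647 : Q := act 6 n154573
theorem D213647 : act 6 n154573 = n213647 := rfl
theorem F471437 : act 4 n213647 = n154574 := d10_1 D213647 (iv6 D154574) D154573
theorem F471438 : act 0 n213647 = n193070 := d21_4 D102317 D193776 F390977 D213647 F388658 (iv5 D136526) D136524 (iv5 F390886) (iv6 F390888) (iv1 D102316)
theorem F471439 : act 1 n213647 = n193068 := d15_1 (iv0 F471438) F390902 F390900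
def n213648 : Q := act 1 n154574
theorem D213648 : act 1 n154574 = n213648 := rfl
theorem F471440 : act 5 n213648 = n159425 := d17_7 F375930 (iv5 F376006) F376008 F362971 (iv4 F428179) F428183 D213648 F440486 F440482
theorem F471441 : act 2 n159426 = n213648 := d2_3 F471440 (iv2 D159425) D159426
theorem F471442 : act 4 n192732 = n213648 := d9_15 F471440 F251057 (iv5 F205391) (iv4 F439626) F439627 (iv4 D192734) D192735 F428195 F428193 (iv4 D128513) (iv5 D60442) (iv4 F94883) D128391 (iv4 F349174) D192732
def n213649 : Q := act 1 n154577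
theorem D213649 : act 1 n154577 = n213649 := rfl
theorem F471443 : act 1 n213649 = n177667 := d15_1 D213649 (iv7 F471417) F471414
theorem F471444 : act 7 n213649 = n177655 := d15_2 (iv0 F339164) D213649 F277101
theorem F471445 : act 5 n213649 = n208918 := d17_7 (iv1 F390115) (iv5 F466209) (iv1 F466211) (iv5 D193446) F351749 D154577 D213649 F451408 F345837
theorem F471446 : act 4 n213649 = n177597 := d17_9 (iv1 F277059) (iv5 F339184) (iv1 D177508) F333804 (iv4 F346593) F346594 F339165 D154577 D213649
theorem F471447 : act 2 n177672 = n213649 := d1_3 F471446 F277057 (iv4 F277108)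
theorem F471448 : act 3 n208919 = n213649 := d5_5 F471446 (iv3 F433806) (iv4 F433812) (iv3 F464306) F464307
def n213650 : Q := act 4 n154579
theorem D213650 : act 4 n154579 = n213650 := rfl
theorem F471449 : act 3 n213650 = n210770 := d5_1 D213650 F458737 (iv3 D184983) (iv4 F310893) D154579
theorem F471450 : act 6 n213650 = n210751 := d10_2 (iv6 F364036) D213650 F458688
theorem F471451 : act 1 n213650 = n204594 := d18_6 (iv1 D203758) (iv4 F381140) F381143 F311564 (iv5 F242643) D213650 (iv4 D204594) D204593 F432971
def n213651 : Q := act 1 n154586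
theorem D213651 : act 1 n154586 = n213651 := rfl
theorem F471452 : act 7 n213651 = n191280 := d15_2 (iv0 F458963) D213651 F382869
theorem F471453 : act 5 n199370 = n213651 := d21_6 D210821 F458901 F388747 (iv6 F411877) (iv1 D199368) D199370 (iv1 D213651) (iv5 F466370) F466371 F438475
theorem F471454 : act 6 n213586 = n213651 := d21_9 (iv5 F466370) F466372 (iv5 F471315) F471316 F427881 (iv6 F362837) F368531 F471013 (iv5 F471162) (iv1 D213651)
theorem F471455 : act 3 n213651 = n199378 := d7_1 F471454 F411909 (iv3 F471164)
def n213652 : Q := act 2 n154586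
theorem D213652 : act 2 n154586 = n213652 := rfl
theorem F471456 : act 3 n213652 = n185312 := d0_2 D154586 D213652 (iv2 F368566) F368563 (iv2 F337921)
theorem F471457 : act 4 n213652 = n185314 := d1_2 F471436 D213652 (iv2 F471435)
theorem F471458 : act 7 n213652 = n193796 := d4_2 F364100 D213652 F391030
theorem F471459 : act 1 n213651 = n193796 := d15_1 D213651 (iv7 F471458) (iv2 D213652)
def n213653 : Q := act 6 n154586
theorem D213653 : act 6 n154586 = n213653 := rfl
theorem F471460 : act 3 n213653 = n154587 := d7_1 D213653 (iv6 D154587) D154586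
theorem F471461 : act 7 n213653 = n192768 := d14_2 F364100 D213653 (iv6 F387705) F287577 (iv6 F364094)
theorem F471462 : act 0 n203385 = n213653 := d21_4 (iv5 D159416) F114300 D118863 D203385 (iv6 D213653) (iv5 F466370) F466372 (iv5 F471315) F471316 F427881
theorem F471463 : act 5 n213653 = n187575 := d17_3 F385334 (iv5 F428113) F471462 (iv4 D187575) (iv5 D90364) (iv0 F293975) D46538 D99566 D192044
def n213654 : Q := act 5 n154587
theorem D213654 : act 5 n154587 = n213654 := rfl
theorem F471464 : act 2 n213654 = n198254 := d2_1 D213654 F407362 (iv2 F364097)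
theorem F471465 : act 3 n213654 = n187575 := d6_1 D213654 (iv5 F471463) F471460
theorem F471466 : act 4 n213654 = n187577 := d9_1 D213654 F370862 (iv4 F143291) (iv5 F374441) (iv4 F381531) F381532 (iv4 F287521) (iv5 F470347) F470346 F241575 (iv4 F143287) D188952 (iv4 F375246) (iv5 D154590) (iv4 F242658)
theorem F471467 : act 6 n213654 = n198245 := d12_2 D154587 D213654 F407332 (iv6 F352354) F231524
theorem F471468 : act 7 n213654 = n187986 := d13_2 F359651 D213654 (iv5 F373376)
theorem F471469 : act 0 n213654 = n204401 := d17_2 (iv1 F364099) D213654 F432402 (iv4 F471203) F471204 F389002 (iv5 F308731) D154449 F386091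
theorem F471470 : act 1 n213654 = n204374 := d17_6 F471281 F471278 (iv1 F424279) (iv5 D154590) (iv4 F242658) D213654 F432276 F310357 (iv4 F287453)
def n213655 : Q := act 3 n154588
theorem D213655 : act 3 n154588 = n213655 := rfl
theorem F471471 : act 2 n213655 = n209542 := d0_1 D213655 F454083 F220148 F452585 (iv2 F452584)
theorem F471472 : act 7 n213655 = n209522 := d8_2 (iv7 F452582) D213655 F454019
theorem F471473 : act 0 n213655 = n209540 := d20_10 F454081 D209872 F455220 F428112 (iv1 F250996) F352730 (iv4 F470622) F470624 (iv4 F394230) D213655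
theorem F471474 : act 5 n209523 = n213655 := d18_9 F471473 F454081 D209872 F455220 (iv5 D203384) (iv4 F236050) (iv0 F454076) (iv4 D209537) F454023
theorem F471475 : act 1 n213655 = n209539 := d15_1 (iv0 F471473) (iv7 F455120) (iv2 F454080)
def n213656 : Q := act 5 n154588
theorem D213656 : act 5 n154588 = n213656 := rfl
theorem F471476 : act 2 n213656 = n209177 := d2_1 D213656 F452597 (iv2 F452584)
theorem F471477 : act 3 n213656 = n209523 := d6_1 D213656 F471474 (iv3 D213655)
theorem F471478 : act 4 n213656 = n212583 := d9_1 D213656 (iv5 F470484) (iv4 D213457) (iv5 F372005) F372014 F358625 (iv4 F384919) (iv5 F338918) F218621 (iv5 F384915) F384914 (iv5 F370780) (iv4 F394226) F393984 (iv4 F394230)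
theorem F471479 : act 7 n213656 = n209174 := d13_2 (iv7 F452582) D213656 F452579
theorem F471480 : act 0 n213656 = n192492 := d17_2 D154588 D213656 (iv5 F471383) (iv4 D213633) (iv5 F386099) F386102 D213127 (iv0 F469121) F242658
theorem F471481 : act 1 n213656 = n209176 := d17_8 F386850 F386847 F365728 (iv5 F374441) (iv4 F381531) F381532 F359653 D213656 F452592
theorem F471482 : act 6 n213656 = n194729 := d21_3 (iv5 D154590) D154588 D213656 (iv1 F394280) (iv6 F394286) F394285 (iv1 F394162) (iv5 F424278) (iv6 F424275) (iv1 F424279)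
def n213657 : Q := act 6 n154588
theorem D213657 : act 6 n154588 = n213657 := rfl
theorem F471483 : act 0 n213657 = n213579 := d21_4 (iv5 F452591) (iv1 F471481) (iv5 D213656) D213657 (iv6 D213579) (iv5 F419230) (iv1 D138066) D138067 (iv6 F438160) F438161
def n213658 : Q := act 0 n154598
theorem D213658 : act 0 n154598 = n213658 := rfl
theorem F471484 : act 5 n213658 = n202074 := d17_1 D213658 F422837 F364895 (iv4 F426599) F470533 F470531 F432578 F241663 F355103
theorem F471485 : act 4 n213658 = n188595 := d20_2 F355103 D213658 F374137 (iv1 F142453) D187447 F370365 (iv1 D128222) F94833 (iv3 F109244) D153801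
theorem F471486 : act 3 n213658 = n188572 := d20_5 (iv4 D33720) D33718 D73282 D154598 D213658 F374021 (iv1 F142384) D114074 F353773 (iv1 D73288)
theorem F471487 : act 2 n205886 = n213658 := d15_3 (iv0 D213658) (iv0 F420957) (iv7 F438270)
theorem F471488 : act 1 n213463 = n213658 := d15_0 (iv0 D213658) (iv7 F432572) (iv2 F470515)
theorem F471489 : act 7 n213658 = n188570 := d15_2 (iv0 F470519) F471488 (iv2 F420954)
def n213659 : Q := act 6 n154604
theorem D213659 : act 6 n154604 = n213659 := rfl
theorem F471490 : act 2 n213659 = n204997 := d3_1 D213659 (iv6 F434525) (iv2 F242691)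
theorem F471491 : act 3 n213659 = n195884 := d7_1 D213659 F415050 (iv3 F363178)
theorem F471492 : act 4 n213659 = n194403 := d10_1 D213659 F393067 F337996
theorem F471493 : act 5 n213659 = n206309 := d12_1 D213659 F440182 F242695 (iv6 D154605) D154604
theorem F471494 : act 7 n213659 = n189177 := d14_2 (iv7 F242692) D213659 (iv6 D189177) (iv7 F144139) F353765
theorem F471495 : act 0 n199359 = n213659 := d21_4 F454396 F439114 F439110 F438092 (iv6 D213659) (iv5 D154604) (iv1 F109792) D73342 (iv6 F352356) F454401
theorem F471496 : act 1 n199362 = n213659 := d15_0 (iv0 F471495) F411843 (iv2 F411853)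
def n213660 : Q := act 4 n154612
theorem D213660 : act 4 n154612 = n213660 := rfl
theorem F471497 : act 3 n213660 = n194920 := d5_1 D213660 (iv4 F466362) (iv3 D212546) F231519 (iv3 F242706)
theorem F471498 : act 6 n213660 = n178502 := d10_2 (iv6 F359979) D213660 (iv4 D178502)
theorem F471499 : act 7 n213660 = n210915 := d11_2 F436418 D213660 F459271
theorem F471500 : act 5 n213660 = n194919 := d16_1 D213660 F395006 F160480 (iv4 F378636) (iv5 F379108) (iv4 F414915) (iv5 F442709) F442710 F428646
theorem F471501 : act 0 n211015 = n213660 := d20_10 (iv4 D213660) F436433 F436430 (iv3 F424238) (iv1 D202491) (iv3 F424222) (iv4 F425789) F459764 (iv4 D211016) D211015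
def n213661 : Q := act 1 n154614
theorem D213661 : act 1 n154614 = n213661 := rfl
theorem F471502 : act 1 n213661 = n174395 := d15_1 D213661 F273255 (iv2 F343429)
theorem F471503 : act 7 n213661 = n174434 := d15_2 (iv0 F343428) D213661 (iv2 F354168)
theorem F471504 : act 4 n213661 = n213532 := d17_9 (iv1 F470897) F287393 D185287 (iv5 F432314) F273334 F128505 F128483 (iv5 F343431) D213661
theorem F471505 : act 3 n205035 = n213661 := d19_19 (iv1 D213661) F343431 (iv4 F188757) (iv3 D119663) (iv1 F188699) F339393 (iv4 D143720) F311118 (iv1 F313300) (iv5 F315706) F313935 (iv3 F358560) (iv1 F239229) (iv5 F403045) (iv4 F403834) (iv3 D197286) (iv1 F227241) (iv5 F439058) F439059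
theorem F471506 : act 6 n205034 = n213661 := d21_3 F411855 (iv1 F241899) (iv5 F434711) (iv1 D213661) (iv6 D154614) (iv5 D73290) D73287 D154604 D213659 (iv1 F471496)
theorem F471507 : act 2 n213661 = n174435 := d3_1 F471506 (iv6 F470661) F470657
def n213662 : Q := act 5 n154627
theorem D213662 : act 5 n154627 = n213662 := rfl
theorem F471508 : act 2 n213662 = n187662 := d2_1 D213662 F403420 F403415
theorem F471509 : act 3 n213662 = n204162 := d6_1 D213662 (iv5 D204162) (iv3 F361520)
theorem F471510 : act 4 n213662 = n187658 := d16_4 D102700 (iv5 F348236) F348239 D213662 (iv5 D187658) F289802 D177856 F290090 F154406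
theorem F471511 : act 0 n213662 = n185779 := d17_2 (iv1 F268351) D213662 (iv5 F388436) F388435 (iv5 F392089) F392091 (iv5 D154650) F241803 (iv4 F268349)
theorem F471512 : act 6 n208726 = n213662 := d21_5 (iv5 F456563) F456565 F335185 (iv6 F347107) (iv1 F450600) (iv5 D213662) (iv1 D154627) D154629 F359674 (iv1 F448962)
def n213663 : Q := act 5 n154628
theorem D213663 : act 5 n154628 = n213663 := rfl
theorem F471513 : act 2 n213663 = n154629 := d2_1 D213663 (iv5 D154629) D154628
theorem F471514 : act 3 n213663 = n193169 := d6_1 D213663 (iv5 D193169) (iv3 F242740)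
theorem F471515 : act 4 n213663 = n185770 := d9_1 D213663 (iv5 D185770) (iv4 F151052) D191305 F382965 (iv5 D153879) (iv4 F241758) (iv5 F349318) (iv4 D92786) (iv5 D43407) (iv4 F35060) D46852 D100389 F349320 (iv4 F242741)
theorem F471516 : act 6 n213663 = n208260 := d12_2 (iv6 F306375) D213663 F448625 (iv6 D160045) (iv5 F129895)
theorem F471517 : act 7 n213663 = n188771 := d13_2 F268350 D213663 F374822
theorem F471518 : act 1 n213663 = n187674 := d17_6 F386383 (iv5 F421390) F421385 F349320 (iv4 F242741) D213663 (iv5 F459067) (iv0 F459066) F388435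
theorem F471519 : act 0 n213663 = n188778 := d18_0 F374846 (iv1 F371161) F367641 (iv5 D186677) D186676 (iv0 F367638) (iv4 F376312) (iv0 F376313) D213663
def n213664 : Q := act 1 n154629
theorem D213664 : act 1 n154629 = n213664 := rfl
theorem F471520 : act 1 n213664 = n188771 := d15_1 D213664 (iv7 F471517) F471513
theorem F471521 : act 7 n213664 = n188778 := d15_2 F374744 D213664 (iv2 F374847)
theorem F471522 : act 4 n213664 = n187673 := d17_9 (iv1 F374671) (iv5 D188743) (iv1 D92741) D92743 D188747 (iv5 F374689) F332405 D154629 D213664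
theorem F471523 : act 5 n207337 = n213664 := d21_6 (iv5 D76669) (iv1 F114943) F114941 D98853 F366855 (iv6 F444405) (iv1 D213664) (iv5 D154629) F304372 (iv1 F115001)
theorem F471524 : act 2 n213664 = n187674 := d2_1 F471523 (iv5 F459067) F459064
theorem F471525 : act 3 n213664 = n204164 := d6_1 F471523 F431272 D207337
def n213665 : Q := act 4 n154650
theorem D213665 : act 4 n154650 = n213665 := rfl
theorem F471526 : act 2 n213665 = n188773 := d1_1 D213665 (iv4 F470638) F470636
theorem F471527 : act 5 n213665 = n185767 := d9_2 D154650 D213665 (iv4 D185767) D185768 (iv4 F332657) (iv5 D89032) (iv4 F109463) D154082 (iv4 F332668) (iv5 D183754) F135458 (iv5 F332653) F179380 (iv5 F327343) (iv4 F302828)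
theorem F471528 : act 7 n213665 = n177913 := d11_2 (iv7 F305181) D213665 (iv4 D177913)
theorem F471529 : act 1 n193779 = n213665 := d15_1 (iv0 F392097) F471528 (iv2 F332659)
def n213666 : Q := act 6 n154650
theorem D213666 : act 6 n154650 = n213666 := rfl
theorem F471530 : act 3 n213666 = n177761 := d7_1 D213666 (iv6 D177761) (iv3 F305180)
theorem F471531 : act 5 n213666 = n210634 := d12_1 D213666 F458280 (iv5 D179846) (iv6 F302829) D154650
theorem F471532 : act 0 n192616 = n213666 := d21_4 F365645 D189030 F375492 (iv6 F387254) (iv6 D213666) (iv5 D154650) (iv1 D73331) D73333 (iv6 F306388) F153869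
def n213667 : Q := act 5 n154653
theorem D213667 : act 5 n154653 = n213667 := rfl
theorem F471533 : act 2 n213667 = n177960 := d2_1 D213667 (iv5 D177960) (iv2 F338099)
theorem F471534 : act 3 n213667 = n175649 := d6_1 D213667 F274977 (iv3 F338100)
theorem F471535 : act 6 n213667 = n192585 := d12_2 (iv6 F418873) D213667 (iv5 F418868) F418866 F418871
theorem F471536 : act 7 n213667 = n192310 := d13_2 F421391 D213667 (iv5 F421390)
theorem F471537 : act 0 n213667 = n192579 := d17_2 D154653 D213667 F387156 F332660 D185382 (iv0 F375489) F375487 F367337 F349322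
theorem F471538 : act 4 n213667 = n192585 := d17_4 (iv1 D73331) D73333 D154653 D213667 (iv5 F418868) F418870 (iv5 D124712) (iv0 F197143) (iv4 F302828)
theorem F471539 : act 0 n191898 = n213667 := d19_0 (iv5 D213667) F364217 (iv3 D183774) (iv1 F150993) F150990 F72128 F72127 (iv1 F34321) D22809 D47487 D102328 (iv1 F346080) (iv5 D117517) F85471 F41601 D32147 D69102 (iv4 F307368) (iv3 F384733)
def n213668 : Q := act 4 n154654
theorem D213668 : act 4 n154654 = n213668 := rfl
theorem F471540 : act 2 n213668 = n191281 := d1_1 D213668 (iv4 F421389) F421387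
theorem F471541 : act 6 n213668 = n203058 := d10_2 (iv6 F421398) D213668 (iv4 F426826)
theorem F471542 : act 7 n213668 = n177959 := d11_2 (iv7 F338103) D213668 (iv4 D177959)
theorem F471543 : act 5 n213668 = n189623 := d16_1 D213668 F377152 (iv5 F177036) D201046 F418868 (iv4 F471538) (iv5 D213667) (iv7 F421391) F421387
theorem F471544 : act 0 n213668 = n191964 := d17_0 (iv5 D191964) F290158 D183754 F332668 (iv5 D154082) F184765 D73333 D154654 D213668
def n213669 : Q := act 3 n154685
theorem D213669 : act 3 n154685 = n213669 := rfl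
theorem F471545 : act 2 n213669 = n188953 := d0_1 D213669 (iv3 F424060) F424059 F371650 (iv2 F399021)
theorem F471546 : act 4 n213669 = n193165 := d5_2 F401047 D213669 F417153 (iv4 F454739) F454738
theorem F471547 : act 5 n213669 = n212883 := d6_2 F399018 D213669 F467938
theorem F471548 : act 6 n213669 = n209717 := d7_2 (iv6 F401045) D213669 F454735
theorem F471549 : act 7 n213669 = n188954 := d8_2 (iv7 F399022) D213669 (iv3 F375249)
theorem F471550 : act 0 n213669 = n188683 := d19_4 (iv1 F400398) F401049 F401047 D213669 F374441 F143291 F139618 (iv1 F138940) F291892 F74132 (iv3 F74090) (iv1 F154432) (iv5 F154433) (iv4 F145424) (iv3 F371925) F371928 (iv5 F157813) F335544 (iv3 F400394)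
theorem F471551 : act 0 n188952 = n213669 := d20_4 F206033 D150600 D212835 F467693 (iv3 D213669) (iv4 F401047) (iv1 F410861) F410857 F439985 (iv1 D206265)
def n213670 : Q := act 5 n154686
theorem D213670 : act 5 n154686 = n213670 := rfl
theorem F471552 : act 2 n213670 = n187824 := d2_1 D213670 F371618 F399023
theorem F471553 : act 3 n213670 = n199501 := d6_1 D213670 (iv5 F424130) F424128
theorem F471554 : act 4 n213670 = n187516 := d9_1 D213670 (iv5 D187516) (iv4 D90294) D90295 D187517 F401049 F401047 (iv5 F399018) (iv4 D196000) (iv5 D106510) (iv4 F82969) (iv5 F107771) D151234 (iv5 F401146) F401147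
theorem F471555 : act 7 n213670 = n187812 := d13_2 F399024 D213670 F371590
theorem F471556 : act 0 n213670 = n188810 := d17_2 (iv1 F242846) D213670 (iv5 F374974) F231698 (iv5 F401827) (iv0 F401830) F373213 F373214 (iv4 F241515)
theorem F471557 : act 1 n213670 = n188808 := d17_6 (iv1 F419793) (iv5 D201273) (iv1 F237966) (iv5 F401146) F401147 D213670 (iv5 F374969) F419974 F419971
def n213671 : Q := act 6 n154687
theorem D213671 : act 6 n154687 = n213671 := rfl
theorem F471558 : act 2 n213671 = n154688 := d3_1 D213671 (iv6 D154688) D154687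
theorem F471559 : act 3 n213671 = n212221 := d7_1 D213671 F466485 F466479
theorem F471560 : act 4 n213671 = n198230 := d10_1 D213671 (iv6 F436699) (iv4 F436701)
theorem F471561 : act 5 n213671 = n188661 := d12_1 D213671 (iv6 D188661) (iv5 D92614) (iv6 F139464) (iv5 F242843)
theorem F471562 : act 0 n213671 = n210901 := d21_10 (iv5 D210901) F400193 (iv5 F457489) (iv6 D210430) (iv1 F387491) (iv6 F419973) F419972 (iv1 F178151) (iv5 F242843) D213671
theorem F471563 : act 0 n193205 = n213671 := d21_4 F466446 F466428 (iv5 F459809) (iv6 F459811) (iv6 D213671) F242843 (iv1 F178081) D201282 F419843 F466445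
theorem F471564 : act 7 n198229 = n213671 := d13_0 F471561 (iv7 F455545) F455546
def n213672 : Q := act 1 n154688
theorem D213672 : act 1 n154688 = n213672 := rfl
theorem F471565 : act 1 n213672 = n198229 := d15_1 D213672 F471564 F471558
theorem F471566 : act 7 n213672 = n210901 := d15_2 (iv0 F469736) D213672 (iv2 F469733)
theorem F471567 : act 5 n213672 = n196388 := d17_7 F390055 F386940 (iv1 F385625) F153570 (iv4 F294172) (iv5 F242849) D213672 (iv0 F400548) F390053
theorem F471568 : act 4 n204826 = n213672 := d20_6 F129598 F299117 D167648 (iv3 F358850) F358856 (iv3 F433732) (iv1 D213672) (iv4 F455674) (iv3 F455672) F312885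
theorem F471569 : act 6 n204678 = n213672 := d21_3 (iv5 F433228) (iv1 D204676) D204678 (iv1 D213672) (iv6 D154688) F110057 (iv1 F83495) D114290 D201310 (iv1 F419965)
theorem F471570 : act 2 n213672 = n193205 := d3_1 F471569 F459811 (iv2 F459812)
theorem F471571 : act 3 n213672 = n196389 := d7_1 F471569 F400550 (iv3 F433231)
def n213673 : Q := act 7 n154688
theorem D213673 : act 7 n154688 = n213673 := rfl
theorem F471572 : act 2 n213673 = n198229 := d4_1 D213673 F471564 F471558
theorem F471573 : act 3 n213673 = n154693 := d8_1 D213673 (iv7 D154693) (iv3 F242848)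
theorem F471574 : act 4 n213673 = n177280 := d11_1 D213673 (iv7 F455671) F455674
theorem F471575 : act 5 n213673 = n188959 := d13_1 D213673 (iv7 D188959) (iv5 F242849)
theorem F471576 : act 6 n213673 = n193265 := d14_1 D213673 F389343 F241494 (iv7 F110051) D154688
theorem F471577 : act 1 n193205 = n213673 := d15_1 (iv0 F471563) (iv7 D213673) (iv2 F471558)
theorem F471578 : act 1 n213673 = n210901 := d15_1 F471577 (iv7 F471566) F471570
def n213674 : Q := act 6 n154689
theorem D213674 : act 6 n154689 = n213674 := rfl
theorem F471579 : act 2 n213674 = n203263 := d3_1 D213674 (iv6 D203263) F242853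
theorem F471580 : act 3 n213674 = n188655 := d7_1 D213674 (iv6 D188655) (iv3 F349173)
theorem F471581 : act 4 n213674 = n203274 := d10_1 D213674 (iv6 D203274) F242854
theorem F471582 : act 5 n213674 = n204576 := d12_1 D213674 (iv6 F432928) (iv5 D138752) (iv6 F314694) (iv5 F242852)
theorem F471583 : act 0 n213674 = n213453 := d21_4 (iv5 D73379) (iv1 F110073) (iv5 F242852) D213674 F470468 (iv5 D206180) F350189 (iv5 F427568) (iv6 D203265) F185981
theorem E103997 : n204493 = n154733 := (c21_5 (iv5 D213453) F432943 (iv5 D124018) (iv6 F198327) D204493 (iv6 D154733) (iv5 D73379) (iv1 F110073) (iv5 F242852) D213674 F471583)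
theorem F471584 : act 1 n154733 = n123892 := (sb E103997 (iv0 D204493))
theorem F471585 : act 7 n204494 = n212575 := d15_2 F471584 D204494 F466504
def n213675 : Q := act 3 n154691
theorem D213675 : act 3 n154691 = n213675 := rfl
theorem F471586 : act 2 n213675 = n188958 := d0_1 D213675 F424173 F223455 D143935 F320348
theorem F471587 : act 4 n213675 = n191920 := d5_2 (iv4 F248078) D213675 (iv3 F458412) F458413 (iv3 F360569)
theorem F471588 : act 5 n213675 = n193188 := d6_2 (iv5 F344022) D213675 (iv3 D193188)
theorem F471589 : act 7 n213675 = n188957 := d8_2 F466494 D213675 F466496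
theorem F471590 : act 0 n213675 = n188661 := d19_4 (iv1 F350155) F350150 (iv4 F248078) D213675 (iv5 F471561) F471560 F407281 (iv1 F405723) F405725 F172827 F81080 (iv1 F81427) (iv5 F173062) F332944 (iv3 F268743) F432040 (iv5 D204322) D204321 F432031
theorem F471591 : act 0 n188959 = n213675 := d20_4 F309585 (iv1 F308294) D194692 F394109 (iv3 D213675) F248078 (iv1 D128047) (iv4 F206052) (iv3 F360584) (iv1 F309584)
def n213676 : Q := act 4 n154699
theorem D213676 : act 4 n154699 = n213676 := rfl
theorem F471592 : act 3 n213676 = n194366 := d5_1 D213676 (iv4 D194366) F390823 (iv4 F415135) (iv3 F415139)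
theorem F471593 : act 0 n192473 = n213676 := d20_10 (iv4 D213676) (iv1 F466483) F466480 F463830 (iv1 F436708) (iv3 F386675) (iv4 D192413) F154100 D100200 D192473
def n213677 : Q := act 5 n154699
theorem D213677 : act 5 n154699 = n213677 := rfl
def n213678 : Q := act 5 n154700
theorem D213678 : act 5 n154700 = n213678 := rfl
theorem F471594 : act 0 n201406 = n213678 := d19_0 (iv5 D213678) (iv4 F438390) (iv3 D205913) F396862 (iv5 F464143) (iv4 D212052) F228092 D145121 F228095 F185723 F104124 F86407 (iv5 D54649) F43614 (iv3 F76760) (iv1 F76762) D52817 D114438 D201406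
def n213679 : Q := act 6 n154701
theorem D213679 : act 6 n154701 = n213679 := rfl
theorem F471595 : act 2 n213679 = n154703 := d3_1 D213679 (iv6 D154703) D154701
theorem F471596 : act 3 n213679 = n193264 := d7_1 D213679 F389345 (iv3 F242866)
theorem F471597 : act 4 n213679 = n205995 := d10_1 D213679 (iv6 F469919) F469918
theorem F471598 : act 0 n193717 = n213679 := d21_4 F387482 (iv1 F434638) F434635 (iv6 F404164) (iv6 D213679) (iv5 F419935) (iv1 F470477) F470478 F466519 (iv1 F450287)
def n213680 : Q := act 0 n154702
theorem D213680 : act 0 n154702 = n213680 := rfl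
theorem F471599 : act 1 n187808 = n213680 := d15_0 (iv0 D213680) F242868 (iv2 F371570)
def n213681 : Q := act 1 n154702
theorem D213681 : act 1 n154702 = n213681 := rfl
theorem F471600 : act 1 n213681 = n187808 := d15_1 D213681 (iv7 F419936) F419933
theorem F471601 : act 4 n188198 = n213681 := d18_7 (iv1 F466484) (iv4 F438390) F438391 F386770 (iv5 F375305) (iv4 F384593) (iv0 F384594) F471600 (iv5 F466481)
theorem F471602 : act 3 n213681 = n188656 := d5_1 F471601 F374324 (iv3 D188612) (iv4 F367227) D188198
theorem F471603 : act 7 n213681 = n213456 := d11_2 F376106 F471601 (iv4 F470479)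
theorem F471604 : act 5 n154729 = n213681 := d13_3 F471603 F470478 F466516
theorem F471605 : act 2 n213456 = n213680 := d15_3 (iv0 D213680) D213681 F471603
theorem F471606 : act 2 n213681 = n213455 := d15_3 (iv0 D213455) D213456 (iv7 F471603)
theorem F471607 : act 5 n213455 = n212577 := d2_2 F471604 F471606 (iv2 F466514)
theorem F471608 : act 7 n213455 = n213680 := d4_2 (iv7 F471603) F471606 (iv2 F471605)
theorem F471609 : act 5 n213680 = n154728 := d13_1 F471608 F466515 (iv5 F471607)
theorem F471610 : act 3 n208641 = n213680 := d6_3 F471609 F372083 D208641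
theorem F471611 : act 6 n213012 = n213680 := d12_0 F471609 (iv6 F372084) F343130 (iv6 F447242) (iv5 F468590)
theorem F471612 : act 4 n213680 = n213013 := d10_1 F471611 (iv6 D213013) D213012
theorem F471613 : act 3 n213455 = n199476 := d8_3 (iv7 F450293) F471610 (iv7 F471608)
theorem F471614 : act 6 n199474 = n213455 := d7_0 F471613 (iv6 D199476) D199474
def n213682 : Q := act 4 n154702
theorem D213682 : act 4 n154702 = n213682 := rfl
theorem F471615 : act 2 n213682 = n189582 := d1_1 D213682 (iv4 F419934) F419933
theorem F471616 : act 3 n213682 = n213449 := d5_1 D213682 F470450 F241633 (iv4 F110062) (iv3 F242867)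
theorem F471617 : act 6 n213682 = n189580 := d10_2 F384598 D213682 (iv4 F384595)
theorem F471618 : act 7 n213682 = n213447 := d11_2 (iv7 F242868) D213682 F470446
theorem F471619 : act 0 n213682 = n192572 := d18_2 (iv1 D213681) D213682 F387124 F387018 F167892 (iv0 F366397) F242902 D154729 F471604
def n213683 : Q := act 0 n154703
theorem D213683 : act 0 n154703 = n213683 := rfl
theorem F471620 : act 3 n213683 = n193719 := d20_5 F206001 F199423 (iv4 F110066) (iv3 F242869) D213683 F390776 F378409 (iv4 F156258) (iv3 F352732) F264248
theorem F471621 : act 7 n193717 = n213683 := d8_0 F471620 (iv7 D193719) D193717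
def n213684 : Q := act 1 n154703
theorem D213684 : act 1 n154703 = n213684 := rfl
def n213685 : Q := act 5 n154703
theorem D213685 : act 5 n154703 = n213685 := rfl
theorem F471622 : act 3 n213685 = n154706 := d6_1 D213685 (iv5 D154706) (iv3 F242869)
theorem F471623 : act 7 n211384 = n213685 := d8_0 F471622 F366253 D211384
def n213686 : Q := act 7 n154703
theorem D213686 : act 7 n154703 = n213686 := rfl
theorem F471624 : act 3 n213686 = n154707 := d8_1 D213686 (iv7 D154707) (iv3 F242869)
theorem F471625 : act 4 n213686 = n195511 := d11_1 D213686 (iv7 F469894) F469888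
theorem F471626 : act 5 n213686 = n211384 := d13_1 D213686 F471623 (iv5 D213685)
theorem F471627 : act 6 n213686 = n211924 := d14_1 D213686 F466490 (iv6 D212572) F231682 D154703
theorem F471628 : act 1 n193717 = n213686 := d15_1 (iv0 F471598) (iv7 D213686) (iv2 F471595)
def n213687 : Q := act 0 n154704
theorem D213687 : act 0 n154704 = n213687 := rfl
theorem F471629 : act 1 n188956 = n213687 := d15_0 (iv0 D213687) (iv7 F407374) F407372
def n213688 : Q := act 1 n154704
theorem D213688 : act 1 n154704 = n213688 := rfl
theorem F471630 : act 1 n213688 = n188956 := d15_1 D213688 F375257 (iv2 F242870)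
theorem F471631 : act 6 n212208 = n213688 := d21_3 (iv5 D177184) (iv1 F330079) (iv5 F464750) (iv1 D213688) (iv6 D154704) (iv5 D73364) (iv1 F110047) D154683 (iv6 F401756) F401757
theorem F471632 : act 7 n213688 = n213376 := d14_2 D212208 F471631 F470140 F464733 F464728
theorem F471633 : act 2 n213376 = n213687 := d15_3 (iv0 D213687) D213688 F471632
theorem F471634 : act 2 n213688 = n213377 := d15_3 F470141 F470138 (iv7 F471632)
theorem F471635 : act 7 n213377 = n213687 := d4_2 (iv7 F471632) F471634 (iv2 F471633)
theorem F471636 : act 3 n213687 = n188960 := d0_2 F470139 F471633 F449319 (iv3 D208428) (iv2 F406320)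
theorem E103998 : n201349 = n201305 := ((c20_8 F375256 (iv1 F470494) F470497 F464058 D208457 F449448 F375164 (iv1 F419932) F420095 (iv3 F471636) (iv1 F471629))).symm
theorem F471637 : act 2 n201305 = n188977 := (sb E103998 F428041)
theorem F471638 : act 3 n201305 = n114351 := (sb E103998 (iv3 D201349))
theorem F471639 : act 4 n201305 = n188960 := (sb E103998 F420095)
theorem F471640 : act 7 n201305 = n188978 := (sb E103998 (iv7 F428039))
theorem E103999 : n213121 = n201304 := (c15_4 (iv0 D201304) D201305 F471640 (iv2 F469093))
theorem F471641 : act 2 n201304 = n188978 := (sb E103999 F469093)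
theorem F471642 : act 3 n201304 = n152553 := (sb E103999 (iv3 D213121))
theorem F471643 : act 4 n201304 = n188961 := (sb E103999 F469094)
theorem F471644 : act 7 n201304 = n188977 := (sb E103999 F469095)
def n213689 : Q := act 5 n154704
theorem D213689 : act 5 n154704 = n213689 := rfl
theorem F471645 : act 2 n213689 = n211386 := d2_1 D213689 F461362 (iv2 F242870)
theorem F471646 : act 4 n213689 = n190190 := d9_1 D213689 (iv5 F382710) F382709 (iv5 F395647) F395646 (iv5 F372039) (iv4 F375256) (iv5 F379340) F379339 (iv5 F367205) (iv4 F380443) F380444 (iv4 F365123) F365127 (iv4 F242871)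
theorem F471647 : act 6 n213689 = n154706 := d12_2 D154704 D213689 (iv5 D154706) (iv6 D73365) D73364
theorem F471648 : act 7 n213689 = n190187 := d13_2 F407374 D213689 (iv5 F407375)
theorem F471649 : act 0 n213689 = n194766 := d21_1 D213689 F413303 (iv6 D199735) (iv1 F412163) (iv6 F412167) (iv5 D177184) (iv1 F330079) (iv5 F464750) F471631 (iv1 D213688)
theorem F471650 : act 0 n194761 = n213689 := d19_0 (iv5 D213689) F242871 (iv3 F331126) (iv1 F169458) (iv5 D109499) (iv4 D50510) (iv3 D24608) (iv1 F19626) (iv5 F23704) (iv4 F46591) (iv3 F95618) (iv1 F331840) (iv5 F334634) (iv4 F412111) (iv3 D199420) (iv1 F172737) (iv5 F173130) F343783 (iv3 F394372)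
def n213690 : Q := act 3 n154705
theorem D213690 : act 3 n154705 = n213690 := rfl
theorem F471651 : act 2 n213690 = n189059 := d0_1 D213690 F384865 F167658 F317474 F242872
theorem F471652 : act 4 n213690 = n191925 := d5_2 (iv4 F242873) D213690 (iv3 F384858) (iv4 D150685) (iv3 F185835)
theorem F471653 : act 6 n213690 = n204310 := d7_2 F366681 D213690 F431991
theorem F471654 : act 7 n213690 = n189060 := d8_2 (iv7 F242874) D213690 F375620
theorem F471655 : act 0 n213690 = n189062 := d20_10 F375626 (iv1 F374454) (iv4 F386776) (iv3 F386780) D193307 F389432 (iv4 D127928) F190972 (iv4 F242873) D213690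
theorem F471656 : act 0 n188684 = n213690 := d20_4 F155992 F293043 F292404 F374445 (iv3 D213690) F242873 (iv1 F190971) (iv4 F352710) (iv3 D101253) D101251
def n213691 : Q := act 6 n154711
theorem D213691 : act 6 n154711 = n213691 := rfl
theorem F471657 : act 2 n213691 = n154713 := d3_1 D213691 (iv6 D154713) D154711
theorem F471658 : act 3 n213691 = n194492 := d7_1 D213691 (iv6 F466534) F466521
theorem F471659 : act 5 n213691 = n194491 := d12_1 D213691 (iv6 F410284) (iv5 F412213) F412216 (iv5 F374969)
def n213692 : Q := act 0 n154713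
theorem D213692 : act 0 n154713 = n213692 := rfl
theorem F471660 : act 3 n213692 = n193189 := d20_5 (iv4 D154720) (iv1 D73374) (iv4 F110077) (iv3 F242892) D213692 F389123 D193190 F389127 (iv3 D166067) (iv1 F312868)
theorem F471661 : act 6 n213692 = n193188 := d21_5 (iv5 F371590) F371591 (iv5 D154712) D154713 D213692 (iv5 F471588) F471590 (iv5 F471561) (iv6 D213671) (iv1 F242847)
theorem F471662 : act 4 n196846 = n213692 := d10_3 F471661 F389122 D196846
def n213693 : Q := act 1 n154713
theorem D213693 : act 1 n154713 = n213693 := rfl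
theorem F471663 : act 5 n199813 = n213693 := d21_6 F410291 (iv1 F412195) (iv5 D199437) D199438 (iv1 F412199) D199813 (iv1 D213693) (iv5 F460157) (iv6 D211115) (iv1 F410293)
theorem F471664 : act 3 n213693 = n198049 := d6_1 F471663 F406592 (iv3 F413607)
def n213694 : Q := act 7 n154714
theorem D213694 : act 7 n154714 = n213694 := rfl
theorem F471665 : act 2 n213694 = n199761 := d4_1 D213694 F466540 F466535
theorem F471666 : act 3 n213694 = n199441 := d8_1 D213694 F412217 F412063
theorem F471667 : act 4 n213694 = n199626 := d11_1 D213694 F412904 F401817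
theorem F471668 : act 5 n213694 = n195047 := d13_1 D213694 F395569 (iv5 F350079)
theorem F471669 : act 6 n213694 = n204494 := d14_1 D213694 F471585 (iv6 D212575) F231701 D154714
theorem F471670 : act 1 n198798 = n213694 := d15_1 (iv0 F466538) (iv7 D213694) (iv2 F466535)
theorem F471671 : act 1 n213694 = n199760 := d15_1 F471670 (iv7 F456356) F456352
def n213695 : Q := act 1 n154723
theorem D213695 : act 1 n154723 = n213695 := rfl
theorem F471672 : act 7 n213695 = n197348 := d15_2 (iv0 F366397) D213695 F404010
theorem F471673 : act 4 n192434 = n213695 := d20_0 (iv1 D213695) F242902 (iv3 D73378) (iv1 F110073) (iv3 F329722) (iv4 D89582) (iv1 F66001) D46754 D100178 D192434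
theorem F471674 : act 2 n213695 = n197351 := d1_1 F471673 (iv4 F405257) F405255
theorem F471675 : act 0 n197349 = n213695 := d20_1 F466522 (iv4 F471673) F466544 (iv1 F466542) (iv3 F392875) (iv4 D194340) (iv1 F372085) (iv4 F372082) (iv3 F372083) (iv1 F466524)
theorem F471676 : act 5 n213695 = n212817 := d17_1 F471675 (iv1 F469928) (iv5 D213323) F241311 D154702 D213681 (iv5 F471604) F466525 F466522
def n213696 : Q := act 2 n154723
theorem D213696 : act 2 n154723 = n213696 := rfl
theorem F471677 : act 3 n213696 = n212806 := d0_2 D154723 D213696 (iv2 D212806) (iv3 D150039) (iv2 F110078)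
theorem F471678 : act 4 n213696 = n154730 := d1_2 (iv4 F242902) D213696 (iv2 D154730)
theorem F471679 : act 7 n213696 = n197349 := d4_2 (iv7 F242903) D213696 (iv2 F404012)
theorem F471680 : act 1 n213696 = n197351 := d15_0 (iv0 F404017) (iv7 F242903) D213696
theorem F471681 : act 1 n197348 = n213696 := d15_0 F471680 (iv7 D197351) (iv2 F404010)
def n213697 : Q := act 5 n154723
theorem D213697 : act 5 n154723 = n213697 := rfl
theorem F471682 : act 3 n213697 = n154724 := d6_1 D213697 (iv5 D154724) D154723
theorem F471683 : act 7 n213697 = n212802 := d13_2 (iv7 F242903) D213697 (iv5 D212802)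
theorem F471684 : act 6 n209649 = n213697 := d21_5 F241400 (iv1 F109145) D118266 D203243 F454490 (iv5 D213697) F366397 D197350 F404015 (iv1 F241402)
def n213698 : Q := act 6 n154723
theorem D213698 : act 6 n154723 = n213698 := rfl
theorem F471685 : act 3 n213698 = n154725 := d7_1 D213698 (iv6 D154725) D154723
theorem F471686 : act 4 n213698 = n154732 := d10_1 D213698 (iv6 D154732) (iv4 F242902)
theorem F471687 : act 5 n213698 = n205861 := d12_1 D213698 F438172 D209649 F471684 (iv5 D213697)
theorem F471688 : act 7 n213698 = n211559 := d14_2 (iv7 F242903) D213698 F462132 (iv7 F464829) (iv6 F464832)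
theorem F471689 : act 1 n210172 = n213698 := d17_6 F437981 (iv5 D205819) F360533 (iv5 F362158) (iv4 F221043) D210172 F471687 (iv0 F438282) (iv4 D205888)
def n213699 : Q := act 6 n154724
theorem D213699 : act 6 n154724 = n213699 := rfl
theorem F471690 : act 2 n213699 = n212808 := d3_1 D213699 (iv6 D212808) (iv2 F242904)
theorem F471691 : act 3 n213699 = n209649 := d7_1 D213699 F471684 F471682
theorem F471692 : act 4 n213699 = n212803 := d10_1 D213699 (iv6 D212803) (iv4 F242906)
theorem F471693 : act 5 n213699 = n184258 := d12_1 D213699 F364962 F340719 (iv6 D154725) D154724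
theorem E104000 : n213368 = n212054 := (c21_5 (iv5 D145103) F104130 D72618 D153583 D213368 F464152 (iv5 D210711) F365339 (iv5 F471693) (iv6 D213699) F242907)
theorem F471694 : act 1 n212054 = n153583 := (sb E104000 (iv0 D213368))
theorem F471695 : act 7 n184257 = n213699 := d13_0 F471693 (iv7 D184258) D184257
theorem F471696 : act 1 n212812 = n213699 := d17_6 (iv1 F365348) F349987 F157779 D100862 D192863 (iv5 F467597) F471693 (iv0 F365339) F222742
def n213700 : Q := act 4 n154729
theorem D213700 : act 4 n154729 = n213700 := rfl
theorem F471697 : act 3 n213700 = n155789 := d5_1 D213700 (iv4 F396879) F396875 F392904 F392908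
def n213701 : Q := act 6 n154729
theorem D213701 : act 6 n154729 = n213701 := rfl
def n213702 : Q := act 6 n154730
theorem D213702 : act 6 n154730 = n213702 := rfl
theorem F471698 : act 2 n213702 = n154732 := d3_1 D213702 (iv6 D154732) D154730
theorem F471699 : act 3 n213702 = n196798 := d7_1 D213702 F419951 F419948
theorem F471700 : act 7 n213702 = n209972 := d14_2 F466523 D213702 F455583 F394646 (iv6 F466534)
theorem F471701 : act 0 n195318 = n213702 := d21_4 (iv5 F224932) F420001 F419999 F396684 (iv6 D213702) (iv5 F420377) F471594 (iv5 D213678) (iv6 F454439) (iv1 D202457)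
theorem F471702 : act 5 n213702 = n209973 := d17_1 F471701 (iv1 F463426) (iv5 F463424) (iv4 F458819) (iv5 D210793) F227187 (iv5 F438372) (iv0 D195316) D195318
def n213703 : Q := act 0 n154731
theorem D213703 : act 0 n154731 = n213703 := rfl
theorem F471703 : act 5 n213703 = n211011 := d21_8 (iv5 F461271) (iv1 F461274) F459780 F424721 (iv1 F463432) (iv6 D154732) D154731 D213703 (iv6 D211011) (iv1 F424082)
theorem F471704 : act 2 n213678 = n213703 := d2_3 F471703 F459742 D213678
theorem F471705 : act 3 n211012 = n213703 := d6_3 F471703 F459743 D211012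
theorem F471706 : act 7 n213677 = n213703 := d13_0 F471703 F459744 D213677
theorem F471707 : act 1 n201406 = n213677 := d15_1 (iv0 F471594) F471706 (iv2 F471704)
theorem F471708 : act 1 n213677 = n212580 := d15_1 F471707 F466527 (iv2 F420376)
def n213704 : Q := act 1 n154731
theorem D213704 : act 1 n154731 = n213704 := rfl
theorem F471709 : act 7 n213704 = n213678 := d15_2 (iv0 D213703) D213704 F471704
theorem F471710 : act 2 n213677 = n213704 := d4_3 F471709 F471704 (iv7 F471706)
theorem F471711 : act 5 n212570 = n213704 := d13_3 F471709 (iv5 D213678) (iv7 F466475)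
theorem F471712 : act 1 n212580 = n213678 := d15_1 F471708 (iv7 F471709) (iv2 F471710)
def n213705 : Q := act 4 n154731
theorem D213705 : act 4 n154731 = n213705 := rfl
theorem F471713 : act 3 n213705 = n208749 := d5_1 D213705 F450700 F436709 F206501 (iv3 F243407)
theorem F471714 : act 0 n213705 = n208758 := d18_2 (iv1 D213704) D213705 F450736 (iv5 D197852) (iv4 F396599) (iv0 F464079) F464077 D212570 F471711
def n213706 : Q := act 6 n154731
theorem D213706 : act 6 n154731 = n213706 := rfl
theorem F471715 : act 3 n213706 = n154733 := d7_1 D213706 (iv6 D154733) (iv3 F243407)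
theorem F471716 : act 5 n213706 = n196891 := d12_1 D213706 (iv6 F463433) F463430 (iv6 D154732) D154731
def n213707 : Q := act 7 n154732
theorem D213707 : act 7 n154732 = n213707 := rfl
theorem F471717 : act 2 n213707 = n209972 := d4_1 D213707 (iv7 F471700) F471698
theorem F471718 : act 3 n213707 = n154737 := d8_1 D213707 (iv7 D154737) (iv3 F243408)
theorem F471719 : act 4 n213707 = n211559 := d11_1 D213707 (iv7 F471688) F471686
theorem F471720 : act 5 n213707 = n209247 := d13_1 D213707 (iv7 F463428) F463430
theorem F471721 : act 6 n213707 = n169875 := d14_1 D213707 F466531 (iv6 D212581) F231705 D154732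
theorem F471722 : act 1 n195318 = n213707 := d15_1 (iv0 F471701) (iv7 D213707) (iv2 F471698)
def n213708 : Q := act 0 n154733
theorem D213708 : act 0 n154733 = n213708 := rfl
theorem F471723 : act 2 n204496 = n213708 := d15_3 (iv0 D213708) F471584 D204496
theorem F471724 : act 7 n213708 = n204495 := d4_2 D204496 F471723 (iv2 D204495)
theorem F471725 : act 1 n204496 = n212575 := d15_0 (iv0 F466506) (iv7 F471724) (iv2 F471723)
theorem F471726 : act 1 n204494 = n213708 := d15_1 D204494 F471724 (iv2 D204495)
def n213709 : Q := act 5 n154733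
theorem D213709 : act 5 n154733 = n213709 := rfl
theorem F471727 : act 2 n213709 = n212202 := d2_1 D213709 (iv5 F466505) F466504
theorem F471728 : act 3 n213709 = n196891 := d6_1 D213709 (iv5 F471716) F471715
theorem F471729 : act 6 n213709 = n154736 := d12_2 D154733 D213709 (iv5 D154736) (iv6 D73380) D73379
theorem F471730 : act 0 n212204 = n213709 := d21_7 F339902 F94706 D72646 D153627 D213376 F470140 (iv5 F464735) (iv5 D213709) (iv6 D154733) (iv1 F339899)
theorem F471731 : act 1 n202758 = n213709 := d15_0 (iv0 F471730) (iv7 D212204) (iv2 F425449)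
def n213710 : Q := act 7 n154733
theorem D213710 : act 7 n154733 = n213710 := rfl
theorem F471732 : act 2 n213710 = n204494 := d4_1 D213710 F471585 F466504
theorem F471733 : act 6 n213710 = n199761 := d14_1 D213710 F466540 (iv6 D212582) F231707 D154733
theorem F471734 : act 1 n204495 = n213710 := d15_1 (iv0 F466506) (iv7 D213710) (iv2 F466504)
theorem F471735 : act 1 n213710 = n204496 := d15_1 F471734 (iv7 D204496) D204495
theorem F471736 : act 5 n212201 = n213710 := d12_5 F471733 F413376 D200593 (iv5 F417110) (iv6 F464726)
theorem F471737 : act 7 n213709 = n212201 := d13_0 F471736 (iv7 D213710) D213709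
def n213711 : Q := act 5 n154734
theorem D213711 : act 5 n154734 = n213711 := rfl
theorem F471738 : act 2 n213711 = n202611 := d2_1 D213711 F424740 F330609
theorem F471739 : act 3 n213711 = n174573 := d6_1 D213711 (iv5 F386663) F386662
theorem F471740 : act 4 n213711 = n188436 := d9_1 D213711 F373464 F369713 (iv5 F358011) (iv4 D116181) (iv5 D53543) (iv4 F84430) D116100 (iv4 F373309) F373310 (iv4 F340379) (iv5 F149952) F335110 (iv5 F316879) (iv4 F330608)
theorem F471741 : act 7 n213711 = n188434 := d13_2 F330611 D213711 F373458
theorem F471742 : act 0 n213711 = n202610 := d17_2 D154734 D213711 (iv5 F434292) F434291 (iv5 F393283) (iv0 F393286) (iv5 D154739) (iv0 D73381) (iv4 F110083)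
theorem F471743 : act 1 n213711 = n202609 := d17_6 F341073 (iv5 F341070) F341068 (iv5 F316879) (iv4 F330608) D213711 F424728 (iv0 F366695) (iv4 D145149)
theorem F471744 : act 6 n174571 = n213711 := d14_5 F471741 (iv6 D188434) F140574 F352778 F273924
def n213712 : Q := act 0 n154736
theorem D213712 : act 0 n154736 = n213712 := rfl
theorem F471745 : act 5 n213712 = n204944 := d17_1 D213712 (iv1 D204944) D204945 F434286 F393867 F174516 D200000 F414560 F382089
theorem F471746 : act 4 n213712 = n200213 := d18_1 D213712 F415538 (iv4 F424873) (iv5 D202637) (iv4 D116176) F180961 (iv4 F330608) (iv0 D154734) D154736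
theorem F471747 : act 2 n212060 = n213712 := d1_3 F471746 (iv2 F415939) (iv4 F464177)
theorem F471748 : act 3 n200500 = n213712 := d5_5 F471746 F415535 F355467 F230895 D200500
theorem F471749 : act 6 n200212 = n213712 := d10_0 F471746 (iv6 D200213) D200212
theorem F471750 : act 1 n202608 = n213712 := d17_8 F415538 F393789 (iv1 F378312) (iv5 F373310) F373309 (iv5 D116100) D116099 D202608 F471746
def n213713 : Q := act 1 n154736
theorem D213713 : act 1 n154736 = n213713 := rfl
theorem F471751 : act 1 n213713 = n202608 := d15_1 D213713 (iv7 F466118) F466117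
theorem F471752 : act 7 n213713 = n212060 := d15_2 (iv0 D213712) D213713 F471747
theorem F471753 : act 5 n213713 = n202775 := d17_7 D124797 (iv5 F337298) F337294 F105406 (iv4 F110083) D154736 D213713 F425534 F200462
theorem F471754 : act 4 n213713 = n202352 := d17_9 F423727 (iv5 D190631) F369714 (iv5 F373464) (iv4 F471740) (iv5 D213711) (iv0 D154734) D154736 D213713
theorem F471755 : act 3 n200120 = n213713 := d19_19 (iv1 D213713) (iv5 D154736) F110083 (iv3 F110082) F321986 (iv5 F225915) (iv4 F349964) F325990 (iv1 F178551) (iv5 F178549) (iv4 F339989) F224976 (iv1 F360793) (iv5 D141852) D141851 (iv3 F345478) F345476 D115279 (iv4 F415104)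
theorem F471756 : act 6 n213713 = n200117 := d7_2 D200120 F471755 (iv3 D200117)
def n213714 : Q := act 7 n154736
theorem D213714 : act 7 n154736 = n213714 := rfl
theorem F471757 : act 2 n213714 = n202608 := d4_1 D213714 (iv7 F466118) F466117
theorem F471758 : act 3 n213714 = n209247 := d8_1 D213714 (iv7 F463428) (iv3 F463431)
theorem F471759 : act 4 n213714 = n198370 := d11_1 D213714 F407787 F382089
theorem F471760 : act 5 n213714 = n154737 := d13_1 D213714 (iv7 D154737) D154736
theorem F471761 : act 6 n213714 = n209258 := d14_1 D213714 (iv7 F452936) (iv6 F464726) (iv7 F471737) F471729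
theorem F471762 : act 0 n212060 = n213714 := d17_0 F471760 F350020 (iv5 F373458) F373457 F292256 D187287 (iv5 F447702) (iv0 F447706) (iv4 F464177)
def n213715 : Q := act 6 n154741
theorem D213715 : act 6 n154741 = n213715 := rfl
theorem F471763 : act 3 n213715 = n197578 := d7_1 D213715 (iv6 F421694) F421692
theorem F471764 : act 4 n213715 = n188872 := d10_1 D213715 (iv6 D188872) (iv4 F365603)
theorem F471765 : act 7 n213715 = n197573 := d14_2 F365604 D213715 (iv6 D197573) (iv7 F357649) F357663
theorem F471766 : act 0 n213715 = n212155 := d21_4 F365241 F421689 F421690 D213715 (iv6 D212155) F228430 (iv1 F388204) (iv5 D192914) F155576 D100982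
def n213716 : Q := act 6 n154743
theorem D213716 : act 6 n154743 = n213716 := rfl
theorem F471767 : act 2 n213716 = n154745 := d3_1 D213716 (iv6 D154745) D154743
theorem F471768 : act 7 n213716 = n212161 := d14_2 F392876 D213716 (iv6 F464556) (iv7 F410974) F410973
theorem F471769 : act 0 n196640 = n213716 := d21_4 F104320 (iv1 F78261) D107159 D196640 (iv6 D213716) (iv5 F375128) (iv1 D188881) F293127 (iv6 F155576) F331777
theorem F471770 : act 1 n212162 = n213716 := d15_1 F464564 F471768 F464558
def n213717 : Q := act 4 n154744
theorem D213717 : act 4 n154744 = n213717 := rfl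
theorem F471771 : act 3 n213717 = n193012 := d5_1 D213717 (iv4 F440406) F440405 F206496 (iv3 F243416)
theorem F471772 : act 5 n213717 = n188874 := d16_3 F365601 D154744 D213717 (iv4 D188874) D188875 (iv4 F376038) F376037 F372090 (iv2 F372088)
def n213718 : Q := act 0 n154745
theorem D213718 : act 0 n154745 = n213718 := rfl
theorem F471773 : act 6 n213718 = n211705 := d21_5 (iv5 F374268) F374270 (iv5 D154744) D154745 D213718 F462778 (iv1 F389208) F389209 F389205 (iv1 F388300)
theorem F471774 : act 2 n212162 = n213718 := d15_3 (iv0 D213718) (iv0 F374992) D212162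
theorem F471775 : act 1 n212161 = n213718 := d15_0 (iv0 D213718) F366602 (iv2 F464558)
theorem F471776 : act 7 n213718 = n196640 := d15_2 D212161 F471775 F401294
theorem F471777 : act 4 n213718 = n211706 := d1_2 (iv4 F464561) F471774 F462782
def n213719 : Q := act 5 n154753
theorem D213719 : act 5 n154753 = n213719 := rfl
theorem F471778 : act 2 n213719 = n154755 := d2_1 D213719 (iv5 D154755) D154753
theorem F471779 : act 4 n213719 = n206237 := d9_1 D213719 (iv5 D206237) F358490 (iv5 F285735) (iv4 F287455) F358622 F251033 D212585 F466553 (iv5 F405648) (iv4 F394232) F394233 (iv4 F470607) F470608 F389305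
theorem F471780 : act 0 n213719 = n206272 := d17_2 (iv1 F466542) D213719 (iv5 D206272) F352724 D205857 (iv0 F471384) F471383 (iv0 F471480) F471478
theorem F471781 : act 1 n213719 = n206270 := d17_6 D193164 (iv5 F466377) F470610 F470608 F389305 D213719 (iv5 D206270) (iv0 D128036) (iv4 F352720)
def n213720 : Q := act 0 n154755
theorem D213720 : act 0 n154755 = n213720 := rfl
theorem F471782 : act 5 n213720 = n193325 := d21_2 D154755 D213720 (iv6 F405439) (iv1 F405442) (iv6 F406160) (iv5 D197904) F406146 (iv5 F405224) F405225 (iv1 D154752)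
theorem F471783 : act 2 n206272 = n213720 := d2_3 F471782 (iv2 F389471) D206272
theorem F471784 : act 7 n206270 = n213720 := d13_0 F471782 F389470 D206270
def n213721 : Q := act 1 n154755
theorem D213721 : act 1 n154755 = n213721 := rfl
theorem F471785 : act 7 n213721 = n206272 := d15_2 (iv0 D213720) D213721 F471783
theorem F471786 : act 5 n213721 = n193324 := d17_7 D101457 F357264 F357263 F357256 (iv4 D154754) D154755 D213721 (iv0 D193324) F156276
theorem F471787 : act 3 n188077 = n213721 := d20_3 F345090 (iv1 F358823) D188077 (iv1 D213721) F243418 (iv4 F206492) F237669 (iv4 D150956) F322664 D115791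
theorem F471788 : act 4 n213721 = n187990 := d5_2 D188077 F471787 (iv3 D187990) F139624 (iv3 F139718)
theorem F471789 : act 2 n206270 = n213721 := d2_3 F471786 F389467 D206270
def n213722 : Q := act 4 n154755
theorem D213722 : act 4 n154755 = n213722 := rfl
theorem F471790 : act 2 n213722 = n206237 := d1_1 D213722 (iv4 F471779) F471778
theorem F471791 : act 3 n213722 = n197698 := d5_1 D213722 (iv4 F440365) F440362 F206492 (iv3 F243418)
theorem F471792 : act 6 n213722 = n198113 := d10_2 F464475 D213722 (iv4 F464474)
theorem F471793 : act 7 n213722 = n197756 := d11_2 F466552 D213722 (iv4 F466553)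
theorem F471794 : act 5 n213722 = n184581 := d16_3 (iv4 D154754) D154755 D213722 F286567 F159725 (iv4 F337980) (iv5 F453883) F453885 F389303
theorem F471795 : act 0 n213722 = n212882 := d17_0 F467934 (iv1 F432466) (iv5 F420143) F420139 (iv5 D193326) D193325 (iv5 F471782) (iv0 D213720) D213722
theorem F471796 : act 1 n213722 = n195126 := d15_1 (iv0 F471795) F395877 D212882
def n213723 : Q := act 0 n154757
theorem D213723 : act 0 n154757 = n213723 := rfl
theorem F471797 : act 6 n213723 = n206270 := d21_5 F206042 (iv1 F105136) D73388 D154757 D213723 (iv5 D206270) (iv1 F389231) F389227 (iv6 D154777) (iv1 F206040)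
theorem F471798 : act 5 n213723 = n194645 := d21_0 F393928 D199104 F410685 (iv1 F409179) F409177 F206042 (iv1 F105136) D73388 D154757 D213723
theorem F471799 : act 1 n199624 = n213723 := d15_0 (iv0 D213723) (iv7 F412576) (iv2 F412896)
def n213724 : Q := act 1 n154757
theorem D213724 : act 1 n154757 = n213724 := rfl
theorem F471800 : act 1 n213724 = n199624 := d15_1 D213724 (iv7 F464363) F464360
theorem F471801 : act 3 n199639 = n213724 := d20_3 (iv4 F101834) D141227 F412956 (iv1 D213724) (iv3 F464473) F464474 (iv1 F406887) (iv4 F427567) F427566 (iv1 D140711)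
theorem F471802 : act 5 n194649 = n213724 := d21_0 (iv1 D213724) (iv5 F402455) (iv6 F402453) F434978 (iv6 D205101) (iv5 F410680) (iv1 D199103) (iv5 D110936) D110937 (iv1 F393951)
def n213725 : Q := act 0 n154764
theorem D213725 : act 0 n154764 = n213725 := rfl
theorem F471803 : act 5 n213725 = n206266 := d17_3 D73390 D154764 D213725 F439990 (iv5 F360755) (iv0 D155839) (iv5 D74127) (iv0 D34006) (iv4 F52994)
theorem F471804 : act 3 n213725 = n199634 := d20_5 (iv4 F373194) (iv1 F373197) (iv4 F405161) F405159 D213725 F412925 (iv1 F224275) (iv4 F412429) F412428 F384907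
theorem F471805 : act 2 n206267 = n213725 := d15_3 (iv0 D213725) (iv0 F459663) F459662
theorem F471806 : act 1 n154769 = n213725 := d15_0 (iv0 D213725) (iv7 F457544) F457542
def n213726 : Q := act 4 n154764
theorem D213726 : act 4 n154764 = n213726 := rfl
theorem F471807 : act 2 n213726 = n203386 := d1_1 D213726 F428114 F412774
theorem F471808 : act 3 n213726 = n191991 := d5_1 D213726 (iv4 D191991) (iv3 F268821) (iv4 F405161) F405159
theorem F471809 : act 6 n213726 = n191876 := d10_2 F359306 D213726 (iv4 F412042)
theorem F471810 : act 0 n213008 = n213726 := d21_4 (iv5 D71683) D71680 D152039 D213008 F471809 F468982 (iv1 D213093) (iv5 F468600) (iv6 D213015) (iv1 D152046)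
def n213727 : Q := act 4 n154769
theorem D213727 : act 4 n154769 = n213727 := rfl
theorem F471811 : act 3 n213727 = n195594 := d5_1 D213727 (iv4 D195594) F162583 D114280 (iv3 F392911)
theorem F471812 : act 7 n213727 = n203386 := d11_2 (iv7 F412776) D213727 F428114
theorem F471813 : act 1 n213008 = n213727 := d15_1 (iv0 F471810) F471812 (iv2 F471807)
def n213728 : Q := act 6 n154769
theorem D213728 : act 6 n154769 = n213728 := rfl
theorem F471814 : act 3 n213728 = n189023 := d7_1 D213728 F375448 (iv3 F392911)
theorem F471815 : act 7 n213728 = n199660 := d14_2 (iv7 F412776) D213728 (iv6 D199660) (iv7 F232079) D199587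
theorem F471816 : act 5 n209728 = n213728 := d13_3 F471815 (iv5 F464429) F464430
def n213729 : Q := act 5 n154770
theorem D213729 : act 5 n154770 = n213729 := rfl
theorem F471817 : act 4 n213729 = n209377 := d9_1 D213729 F453464 F426381 (iv5 D166484) (iv4 F262030) (iv5 F362472) (iv4 F344431) D202630 (iv4 F429649) (iv5 D203744) (iv4 F414371) F414372 D200057 (iv5 F438647) F438646
theorem F471818 : act 6 n213729 = n209728 := d12_2 D154770 D213729 F471816 (iv6 D213728) (iv5 D154769)
def n213730 : Q := act 4 n154771
theorem D213730 : act 4 n154771 = n213730 := rfl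
theorem F471819 : act 2 n213730 = n154774 := d1_1 D213730 (iv4 D154774) (iv2 F243423)
theorem F471820 : act 5 n213730 = n203617 := d16_1 D213730 (iv4 D203617) (iv5 D119637) F87041 (iv5 F51354) (iv4 F105578) D147930 F231739 (iv2 F243423)
theorem F471821 : act 0 n213730 = n188629 := d18_2 F412828 D213730 F374245 D188659 (iv4 F374328) F354180 (iv4 F439990) F439992 (iv5 F412826)
theorem F471822 : act 6 n208585 = n213730 := d21_5 (iv5 F413031) (iv1 F468949) F468948 F407547 D208585 F471820 F429101 (iv5 F468996) (iv6 D213097) F413033
def n213731 : Q := act 6 n154771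
theorem D213731 : act 6 n154771 = n213731 := rfl
theorem F471823 : act 2 n213731 = n154775 := d3_1 D213731 (iv6 D154775) (iv2 F243423)
theorem F471824 : act 3 n213731 = n208224 := d7_1 D213731 (iv6 F469672) F469670
theorem F471825 : act 4 n213731 = n208585 := d10_1 D213731 F471822 (iv4 D213730)
theorem F471826 : act 7 n213731 = n204534 := d14_2 F466558 D213731 (iv6 F432817) F448534 (iv6 F466557)
theorem F471827 : act 0 n204209 = n213731 := d21_4 (iv5 D111568) (iv1 F172690) (iv5 F411968) (iv6 F431493) (iv6 D213731) (iv5 D154771) (iv1 F231736) (iv5 F412775) (iv6 D199587) (iv1 F230759)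
theorem F471828 : act 1 n204536 = n213731 := d15_0 (iv0 F471827) F431494 D204536
def n213732 : Q := act 4 n154772
theorem D213732 : act 4 n154772 = n213732 := rfl
theorem F471829 : act 2 n213732 = n203364 := d1_1 D213732 F428053 F387007
theorem F471830 : act 3 n213732 = n191998 := d5_1 D213732 (iv4 D191998) F345054 (iv4 F345049) (iv3 F345052)
theorem F471831 : act 7 n213732 = n191855 := d11_2 F412827 D213732 (iv4 F422744)
theorem F471832 : act 0 n213732 = n188612 := d18_2 D154772 D213732 (iv4 F374324) F396880 (iv4 F392904) F392906 (iv4 D154763) (iv0 D73390) D73393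
def n213733 : Q := act 4 n154773
theorem D213733 : act 4 n154773 = n213733 := rfl
theorem F471833 : act 2 n213733 = n191855 := d1_1 D213733 (iv4 F422744) F412825
theorem F471834 : act 3 n213733 = n201302 := d5_1 D213733 (iv4 D201302) (iv3 D114283) D114284 F243424
theorem F471835 : act 7 n213733 = n203364 := d11_2 F387009 D213733 F428053
theorem F471836 : act 1 n213733 = n188612 := d18_6 (iv1 F438355) (iv4 D205904) D205903 (iv4 F439984) F439987 D213733 (iv4 F374324) (iv0 D188656) D188659
theorem F471837 : act 6 n213733 = n186288 := d21_5 F412943 (iv1 F233621) D212423 (iv6 F465747) (iv1 F471836) F367129 (iv1 F142558) (iv5 F367544) (iv6 F426096) F426098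
def n213734 : Q := act 6 n154773
theorem D213734 : act 6 n154773 = n213734 := rfl
theorem F471838 : act 2 n213734 = n191854 := d3_1 D213734 F422745 F412825
theorem F471839 : act 3 n213734 = n201303 := d7_1 D213734 (iv6 D201303) F243424
theorem F471840 : act 4 n213734 = n186288 := d10_1 D213734 (iv6 F471837) (iv4 D213733)
theorem F471841 : act 7 n213734 = n191852 := d14_2 F387009 D213734 (iv6 F384591) F375306 (iv6 F387008)
def n213735 : Q := act 0 n154774
theorem D213735 : act 0 n154774 = n213735 := rfl
theorem F471842 : act 4 n213735 = n188658 := d18_3 (iv1 D154773) D154774 D213735 F467698 (iv4 D212835) (iv0 D150600) (iv4 F206033) D206265 F439987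
theorem F471843 : act 2 n188629 = n213735 := d15_3 (iv0 D213735) (iv0 F374335) (iv7 F374247)
theorem F471844 : act 3 n213735 = n197695 := d0_2 D188629 F471843 (iv2 F405396) (iv3 D187515) (iv2 F142615)
theorem F471845 : act 6 n213447 = n213735 := d7_0 F471844 (iv6 F405399) D213447
def n213736 : Q := act 3 n154774
theorem D213736 : act 3 n154774 = n213736 := rfl
theorem F471846 : act 4 n213736 = n154778 := d5_2 D154774 D213736 (iv3 D154778) (iv4 D73395) (iv3 F110086)
theorem F471847 : act 6 n213736 = n208707 := d7_2 F389037 D213736 (iv3 D208707)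
theorem F471848 : act 7 n213736 = n213451 := d8_2 F466561 D213736 F470457
theorem F471849 : act 2 n213736 = n208897 := d15_3 (iv0 F451304) (iv0 F470459) (iv7 F471848)
def n213737 : Q := act 5 n154774
theorem D213737 : act 5 n154774 = n213737 := rfl
theorem F471850 : act 2 n213737 = n203617 := d2_1 D213737 (iv5 F471820) F471819
theorem F471851 : act 6 n213737 = n208754 := d12_2 F389037 D213737 (iv5 D208754) (iv6 D135032) (iv5 F389036)
theorem F471852 : act 7 n213737 = n213130 := d13_2 F466561 D213737 F471314
theorem F471853 : act 4 n213737 = n203614 := d16_2 D154774 D213737 (iv5 D203614) F188675 (iv5 F106020) (iv4 F231733) D212586 F466558 F243423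
theorem F471854 : act 0 n213131 = n213737 := d19_0 (iv5 D213737) (iv4 D154774) F110086 D73394 (iv5 F185875) (iv4 D118308) (iv3 F178727) (iv1 F178730) (iv5 F104064) F104063 F83198 F106659 (iv5 F186919) (iv4 F250830) F362839 F374208 F471131 F471130 F471138
theorem F471855 : act 1 n213050 = n213737 := d15_0 (iv0 F471854) (iv7 D213131) (iv2 F468779)
def n213738 : Q := act 7 n154775
theorem D213738 : act 7 n154775 = n213738 := rfl
theorem F471856 : act 2 n213738 = n204534 := d4_1 D213738 (iv7 F471826) F471823
theorem F471857 : act 3 n213738 = n154782 := d8_1 D213738 (iv7 D154782) (iv3 F243425)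
theorem F471858 : act 4 n213738 = n208586 := d11_1 D213738 F450014 F389035
theorem F471859 : act 6 n213738 = n208240 := d14_1 D213738 F448535 (iv6 F412500) F231739 D154775
theorem F471860 : act 1 n204209 = n213738 := d15_1 (iv0 F471827) (iv7 D213738) (iv2 F471823)
theorem F471861 : act 1 n213738 = n204536 := d15_1 F471860 F432819 F431495
def n213739 : Q := act 2 n154776
theorem D213739 : act 2 n154776 = n213739 := rfl
theorem F471862 : act 3 n213739 = n154777 := d0_2 D154776 D213739 (iv2 F440013) F440014 F206048
theorem F471863 : act 5 n213739 = n192944 := d2_2 F365241 D213739 (iv2 D192944)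
theorem F471864 : act 7 n213739 = n188921 := d4_2 F439932 D213739 (iv2 F439930)
theorem F471865 : act 1 n213739 = n188829 := d15_0 (iv0 F439933) F439932 D213739
theorem F471866 : act 1 n188645 = n213739 := d15_0 F471865 (iv7 F421687) F421685
theorem F471867 : act 6 n154776 = n213739 := d21_9 (iv5 F386822) F386824 (iv5 F375125) F401029 (iv1 F375142) (iv6 D188882) F293127 D100982 F365241 (iv1 F471866)
def n213740 : Q := act 4 n154776
theorem D213740 : act 4 n154776 = n213740 := rfl
theorem F471868 : act 5 n213740 = n159828 := d16_1 D213740 (iv4 D159828) (iv5 D76493) (iv4 F75098) (iv5 F314178) F365232 (iv5 F379914) (iv7 F471864) (iv2 D213739)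
def n213741 : Q := act 1 n154778
theorem D213741 : act 1 n154778 = n213741 := rfl
theorem F471869 : act 7 n213741 = n192753 := d15_2 (iv0 F401116) D213741 (iv2 F401117)
theorem F471870 : act 2 n196929 = n213741 := d4_3 F471869 (iv2 F401117) (iv7 F402334)
theorem F471871 : act 5 n196928 = n213741 := d13_3 F471869 F401118 (iv7 F402330)
theorem F471872 : act 3 n213741 = n184111 := d6_1 F471871 (iv5 F385036) (iv3 F402329)
theorem F471873 : act 1 n213741 = n213450 := d17_6 F453650 F453649 D213247 F469567 F452763 F471871 F470455 (iv0 F435064) F227007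
def n213742 : Q := act 2 n154778
theorem D213742 : act 2 n154778 = n213742 := rfl
theorem F471874 : act 3 n213742 = n192734 := d0_2 D154778 D213742 F387614 (iv3 D153783) (iv2 F110087)
theorem F471875 : act 4 n213742 = n208897 := d1_2 F471846 D213742 (iv2 F471849)
theorem F471876 : act 6 n213742 = n208896 := d3_2 F450994 D213742 F451300
theorem F471877 : act 7 n213742 = n213450 := d4_2 (iv7 F243426) D213742 (iv2 D213450)
theorem F471878 : act 1 n213742 = n196929 := d15_0 (iv0 F402337) (iv7 F243426) D213742
theorem F471879 : act 1 n192753 = n213742 := d15_0 F471878 F402334 F401117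
theorem F471880 : act 4 n192753 = n208836 := d20_0 (iv1 F451058) F427835 (iv3 D187832) (iv1 F239729) (iv3 F388702) F388703 (iv1 F361020) D192734 (iv3 F471874) (iv1 F471879)
theorem F471881 : act 6 n208836 = n179748 := d10_2 D192753 F471880 (iv4 F371868)
def n213743 : Q := act 6 n154963
theorem D213743 : act 6 n154963 = n213743 := rfl
theorem F471882 : act 2 n213743 = n189623 := d3_1 D213743 (iv6 D189623) (iv2 F337218)
theorem F471883 : act 3 n213743 = n186457 := d7_1 D213743 (iv6 D186457) (iv3 F337219)
theorem F471884 : act 4 n213743 = n188509 := d10_1 D213743 (iv6 F373772) (iv4 F337220)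
theorem F471885 : act 5 n213743 = n191281 := d12_1 D213743 F421396 (iv5 F426780) (iv6 F427757) F427756
theorem F471886 : act 0 n210113 = n213743 := d21_4 D188768 (iv1 F387112) D193017 (iv6 F456219) (iv6 D213743) (iv5 F427756) F427759 F349292 (iv6 D184505) (iv1 F177371)
def n213744 : Q := act 5 n154968
theorem D213744 : act 5 n154968 = n213744 := rfl
theorem F471887 : act 2 n213744 = n211640 := d2_1 D213744 F462484 (iv2 F243673)
theorem F471888 : act 7 n213744 = n160114 := d13_2 (iv7 F243675) D213744 (iv5 D160114)
theorem F471889 : act 0 n213744 = n211606 := d17_2 (iv1 F243677) D213744 (iv5 D211606) F323284 (iv5 D70114) F57041 D79753 F189471 D117983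
theorem F471890 : act 1 n213744 = n166122 := d17_6 D67154 F308019 (iv1 F187876) F187873 (iv4 F243674) D213744 (iv5 D166122) (iv0 F321593) F103102
def n213745 : Q := act 4 n154969
theorem D213745 : act 4 n154969 = n213745 := rfl
theorem F471891 : act 3 n213745 = n193728 := d5_1 D213745 F390798 (iv3 F378407) (iv4 F469699) (iv3 F469704)
theorem F471892 : act 5 n213745 = n180690 := d16_1 D213745 F281223 (iv5 F337705) (iv4 F261794) (iv5 F448442) F448441 F428245 F428666 (iv2 F428665)
theorem F471893 : act 0 n213745 = n203515 := d18_2 D154969 D213745 (iv4 D203515) (iv5 D119340) (iv4 F188765) F188168 F188165 F188449 D73522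
theorem F471894 : act 1 n213745 = n203513 := d18_6 F315968 F278193 F467136 F467133 F428238 D213745 (iv4 D203513) (iv0 F348495) F348491
theorem F471895 : act 6 n193726 = n213745 := d7_0 F471891 (iv6 D193728) D193726
def n213746 : Q := act 6 n154969
theorem D213746 : act 6 n154969 = n213746 := rfl
theorem F471896 : act 3 n213746 = n193725 := d7_1 D213746 (iv6 F469700) (iv3 F469704)
theorem F471897 : act 4 n213746 = n193726 := d10_1 D213746 F471895 (iv4 D213745)
theorem F471898 : act 5 n213746 = n177042 := d12_1 D213746 (iv6 F428362) (iv5 D203449) F428240 F428238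
theorem F471899 : act 7 n213746 = n194310 := d14_2 F428668 D213746 F392783 (iv7 F355519) F428670
theorem F471900 : act 0 n213746 = n207143 := d21_4 (iv5 F188394) D203423 F428238 D213746 F443507 F409573 (iv1 F175493) (iv5 F366439) (iv6 D175126) (iv1 F188186)
def n213747 : Q := act 4 n154970
theorem D213747 : act 4 n154970 = n213747 := rfl
theorem F471901 : act 5 n213747 = n203949 := d9_2 F428245 D213747 (iv4 D203949) F337695 (iv4 F440040) (iv5 F467134) F467133 F428238 D213745 F471892 F281223 (iv5 F337705) (iv4 F261794) (iv5 F448442) F448441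
theorem F471902 : act 0 n213747 = n203513 := d18_2 (iv1 F243679) D213747 (iv4 D203513) (iv5 D119337) (iv4 F188769) (iv0 D60192) F46182 D38562 D83641
theorem F471903 : act 0 n203515 = n213747 := d20_7 (iv4 F397055) F397056 (iv4 F449824) F449821 (iv1 F273314) F188771 D203515 (iv4 D213747) (iv3 F438718) F438721
def n213748 : Q := act 4 n155057
theorem D213748 : act 4 n155057 = n213748 := rfl
theorem F471904 : act 2 n213748 = n161367 := d1_1 D213748 (iv4 D161367) (iv2 F243835)
theorem F471905 : act 3 n213748 = n196721 := d5_1 D213748 F401596 F175510 F321021 (iv3 F243836)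
theorem F471906 : act 6 n213748 = n196719 := d10_2 F438036 D213748 (iv4 F438034)
theorem F471907 : act 7 n213748 = n213139 := d11_2 (iv7 F364897) D213748 F469164
theorem F471908 : act 5 n213748 = n213290 := d16_1 D213748 (iv4 D213290) (iv5 D153304) F310201 F54512 (iv4 F87257) D119856 F304785 (iv2 F243835)
theorem F471909 : act 0 n213748 = n213141 := d17_0 F469171 (iv1 F438458) F351837 (iv4 D157665) (iv5 D75114) (iv0 F155091) (iv5 F239845) F332043 D213748
theorem F471910 : act 1 n213748 = n164527 := d18_6 (iv1 F156532) F344060 (iv1 F304073) F188906 D155057 D213748 (iv4 D164527) (iv0 F339374) F156541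
def n213749 : Q := act 6 n155079
theorem D213749 : act 6 n155079 = n213749 := rfl
theorem F471911 : act 2 n213749 = n172399 := d3_1 D213749 F340220 (iv2 F343964)
theorem F471912 : act 3 n213749 = n161393 := d7_1 D213749 F357001 F341152
theorem F471913 : act 4 n213749 = n206294 := d10_1 D213749 (iv6 F440115) F440078
theorem F471914 : act 5 n213749 = n174421 := d12_1 D213749 F353857 (iv5 D147414) D147415 (iv5 F343965)
theorem F471915 : act 7 n213749 = n161632 := d14_2 (iv7 F343966) D213749 (iv6 D161632) (iv7 F151347) F343374
theorem F471916 : act 0 n213749 = n162721 := d21_4 F356292 (iv1 F356290) (iv5 F343965) D213749 F360162 D192106 (iv1 F385578) (iv5 D174485) D174486 F356294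
theorem F471917 : act 0 n161356 = n213749 := d21_4 D174404 F339479 (iv5 F434475) F434476 (iv6 D213749) F343965 (iv1 F313328) F313329 (iv6 F344388) F344386
def n213750 : Q := act 5 n155086
theorem D213750 : act 5 n155086 = n213750 := rfl
theorem F471918 : act 4 n213750 = n178876 := d16_2 D155086 D213750 F278745 (iv4 F316716) F316717 (iv4 D85254) D85255 F324623 (iv2 F324618)
def n213751 : Q := act 0 n155093
theorem D213751 : act 0 n155093 = n213751 := rfl
theorem F471919 : act 5 n213751 = n198859 := d17_1 D213751 (iv1 D198859) D198860 F409607 D203284 (iv0 F427665) F427040 F310778 (iv4 F305947)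
theorem F471920 : act 4 n213751 = n190576 := d20_2 (iv4 F305947) D213751 F380177 (iv1 F359378) F267784 (iv4 F315629) F304900 (iv4 F148947) (iv3 F306837) (iv1 D155514)
theorem F471921 : act 3 n213751 = n170729 := d20_5 F328139 (iv1 D73622) (iv4 F110323) (iv3 F243922) D213751 F268253 (iv1 F345813) (iv4 F332357) F332356 (iv1 D82927)
theorem F471922 : act 6 n213751 = n173388 := d21_5 F305815 (iv1 F198286) F177550 D155093 D213751 (iv5 F444841) (iv1 F444843) D207445 F444954 (iv1 F305811)
theorem F471923 : act 2 n204863 = n213751 := d15_3 (iv0 D213751) (iv0 F343396) (iv7 F433903)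
theorem F471924 : act 1 n173359 = n213751 := d15_0 (iv0 D213751) (iv7 F438306) F438300
theorem F471925 : act 7 n213751 = n172006 := d15_2 (iv0 F343387) F471924 (iv2 F276441)
def n213752 : Q := act 4 n155132
theorem D213752 : act 4 n155132 = n213752 := rfl
theorem F471926 : act 3 n213752 = n198159 := d5_1 D213752 (iv4 D198159) F390032 (iv4 D193487) (iv3 F365296)
theorem F471927 : act 6 n213752 = n155913 := d10_2 (iv6 F350974) D213752 (iv4 D155913)
theorem F471928 : act 7 n213752 = n211099 := d11_2 F429200 D213752 F460089
theorem F471929 : act 0 n213752 = n213136 := d17_0 F469154 F460876 F452988 F389784 (iv5 D118487) F155569 D75114 (iv0 F243956) D213752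
theorem F471930 : act 1 n213752 = n211258 := d18_6 (iv1 F156535) (iv4 F156078) F310338 F243952 D155132 D213752 F460840 (iv0 F389737) (iv5 D193404)
def n213753 : Q := act 4 n155375
theorem D213753 : act 4 n155375 = n213753 := rfl
theorem F471931 : act 2 n213753 = n202266 := d1_1 D213753 (iv4 F428912) F428910
theorem F471932 : act 7 n213753 = n202267 := d11_2 F428929 D213753 (iv4 F428928)
theorem F471933 : act 0 n213753 = n202269 := d17_0 F423430 F348378 D119538 (iv4 F426611) F426612 F184103 (iv5 F352985) (iv0 F352987) D213753
theorem F471934 : act 1 n213753 = n201910 := d18_6 F426499 (iv4 D119304) F110799 D73846 D155375 D213753 F422329 F426928 F426927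
def n213754 : Q := act 6 n155375
theorem D213754 : act 6 n155375 = n213754 := rfl
theorem F471935 : act 7 n213754 = n209795 := d14_2 F428929 D213754 (iv6 D209795) (iv7 F449737) F449736
theorem F471936 : act 0 n213754 = n209810 := d21_4 F346073 F206398 D155375 D213754 (iv6 D209810) F220131 (iv1 F179679) (iv5 F218773) F365478 F346076
def n213755 : Q := act 6 n155454
theorem D213755 : act 6 n155454 = n213755 := rfl
theorem F471937 : act 2 n213755 = n155510 := d3_1 D213755 (iv6 D155510) (iv2 F244438)
theorem F471938 : act 3 n213755 = n192767 := d7_1 D213755 (iv6 F457734) F426120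
theorem F471939 : act 4 n213755 = n212792 := d10_1 D213755 F467535 F355586
theorem F471940 : act 7 n213755 = n204513 := d14_2 F429173 D213755 (iv6 D204513) F314234 (iv6 F429172)
theorem F471941 : act 0 n188102 = n213755 := d21_4 (iv5 D198073) (iv1 D108900) D108902 (iv6 F372330) (iv6 D213755) (iv5 D155454) (iv1 F189202) (iv5 F233292) F364975 (iv1 F406672)
theorem F471942 : act 1 n188100 = n213755 := d15_0 (iv0 F471941) (iv7 F375348) F375347
def n213756 : Q := act 4 n155467
theorem D213756 : act 4 n155467 = n213756 := rfl
theorem F471943 : act 2 n213756 = n206366 := d1_1 D213756 F440437 (iv2 F244461)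
theorem F471944 : act 3 n213756 = n206329 := d5_1 D213756 F440271 (iv3 F392475) F392478 (iv3 F356293)
theorem F471945 : act 5 n213756 = n155498 := d9_2 D155467 D213756 (iv4 D155498) (iv5 F331644) (iv4 F421454) F421453 (iv4 D155470) F189145 (iv4 F239903) (iv5 F244515) (iv4 D155501) D155502 (iv4 F419716) (iv5 D201259) F356297
theorem F471946 : act 6 n213756 = n212694 := d10_2 F244465 D213756 F467108
theorem F471947 : act 7 n213756 = n204465 := d11_2 (iv7 F244462) D213756 F432613
theorem F471948 : act 0 n213756 = n212695 := d17_0 F467115 (iv1 F397476) F183161 (iv4 F87072) (iv5 F298221) (iv0 F339228) F339219 F244464 D213756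
theorem F471949 : act 1 n213756 = n212697 := d18_6 F466834 (iv4 F346135) (iv1 F419674) F356297 D155467 D213756 F467127 F438558 D212639
theorem F471950 : act 0 n204204 = n188850 := d19_8 (iv1 F471949) F471945 (iv4 D155498) (iv3 F331640) F342785 D57295 D123131 D204204 (iv5 F464737) F464736 (iv3 D211908) F322402 F319405 F317158 (iv3 F232872) (iv1 F335011) F335014 (iv4 F337033) (iv3 F467126)
def n213757 : Q := act 0 n155493
theorem D213757 : act 0 n155493 = n213757 := rfl
theorem F471951 : act 5 n213757 = n191956 := d19_1 D213757 (iv4 F411218) (iv3 F394090) D213443 F470424 F393304 (iv3 F337144) (iv1 D102236) (iv5 F137322) F337112 F199511 (iv1 F243469) (iv5 F316962) F316961 F232241 F131188 F130784 D73957 D155493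
theorem F471952 : act 3 n213757 = n161578 := d20_5 (iv4 D119843) (iv1 F87250) D73957 D155493 D213757 F255576 F350263 F98424 F331640 (iv1 F189152)
theorem F471953 : act 2 n192723 = n213757 := d15_3 (iv0 D213757) (iv0 F366470) (iv7 F387599)
theorem F471954 : act 7 n213757 = n161571 := d4_2 (iv7 F387599) F471953 F255566
theorem F471955 : act 6 n204120 = n213757 := d14_5 F471954 (iv6 D161571) F116501 D122693 D204120
def n213758 : Q := act 5 n155493
theorem D213758 : act 5 n155493 = n213758 := rfl
theorem F471956 : act 3 n213758 = n155494 := d6_1 D213758 (iv5 D155494) D155493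
theorem F471957 : act 6 n213758 = n209524 := d12_2 F353338 D213758 F454025 F390580 (iv5 F324385)
theorem F471958 : act 7 n213758 = n210528 := d13_2 F378762 D213758 F457935
theorem F471959 : act 4 n213758 = n199182 := d16_4 F381575 (iv5 D190928) F361109 D213758 (iv5 D199182) (iv4 F224887) D211338 F461181 (iv2 F348941)
theorem F471960 : act 0 n213758 = n199080 := d21_1 D213758 F410566 (iv6 D134344) D134341 F377959 F148310 (iv1 F90527) (iv5 F114990) D160075 F366470
def n213759 : Q := act 5 n155506
theorem D213759 : act 5 n155506 = n213759 := rfl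
theorem F471961 : act 2 n213759 = n155507 := d2_1 D213759 (iv5 D155507) D155506
theorem F471962 : act 4 n213759 = n202651 := d9_1 D213759 (iv5 D202651) F348316 F348314 F97963 (iv5 F51656) (iv4 F106697) D149575 (iv4 F384386) F384387 F348335 (iv5 F348319) (iv4 F215205) (iv5 F319819) (iv4 F244524)
theorem F471963 : act 7 n213759 = n160096 := d13_2 (iv7 F319418) D213759 (iv5 D160096)
theorem F471964 : act 0 n213759 = n212791 := d17_2 (iv1 F319417) D213759 F467529 F424654 (iv5 F342589) F312450 (iv5 F312455) F314016 (iv4 F222942)
theorem F471965 : act 1 n213759 = n212790 := d17_6 D117849 F315614 (iv1 F215209) (iv5 F319819) (iv4 F244524) D213759 F467522 (iv0 D203153) F184790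
theorem F471966 : act 6 n210831 = n213759 := d21_5 (iv5 D139932) (iv1 D65697) D65699 D139941 D210831 (iv5 D213759) F319416 F348308 (iv6 D141418) (iv1 F223163)
def n213760 : Q := act 5 n155510
theorem D213760 : act 5 n155510 = n213760 := rfl
theorem F471967 : act 6 n213760 = n155512 := d12_2 D155510 D213760 (iv5 D155512) (iv6 D73964) D73963
def n213761 : Q := act 4 n155512
theorem D213761 : act 4 n155512 = n213761 := rfl
def n213762 : Q := act 5 n155546
theorem D213762 : act 5 n155546 = n213762 := rfl
theorem F471968 : act 2 n213762 = n210698 := d2_1 D213762 F458480 F350260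
theorem F471969 : act 3 n213762 = n206303 := d6_1 D213762 (iv5 D206303) (iv3 F350265)
theorem F471970 : act 4 n213762 = n167926 := d9_1 D213762 (iv5 D167926) (iv4 D80604) (iv5 D36779) (iv4 F57660) F321724 D155541 F337090 (iv4 F424930) (iv5 D202648) F181211 (iv5 F319298) D71003 F321719 D155546
theorem F471971 : act 6 n213762 = n208623 := d12_2 (iv6 F350259) D213762 (iv5 F462387) (iv6 D211614) F226174
theorem F471972 : act 7 n213762 = n202552 := d13_2 (iv7 F356829) D213762 F424468
theorem F471973 : act 0 n213762 = n210697 := d17_2 F350261 D213762 (iv5 F462531) F462530 F314869 (iv0 F309504) (iv5 D139763) (iv0 F314017) (iv4 F196559)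
theorem F471974 : act 1 n213762 = n199076 := d17_6 (iv1 F184795) (iv5 F320081) F185044 F321719 D155546 D213762 F427144 F427143 F391992
def n213763 : Q := act 0 n155577
theorem D213763 : act 0 n155577 = n213763 := rfl
theorem F471975 : act 5 n213763 = n207202 := d17_1 D213763 (iv1 F443781) (iv5 F468252) F468251 (iv5 F392304) (iv0 F444804) F444802 (iv0 D155578) (iv4 F244596)
theorem F471976 : act 4 n213763 = n212593 := d20_2 (iv4 F244596) D213763 (iv3 F466597) (iv1 F428988) F239699 (iv4 F420191) (iv1 F420195) F420197 (iv3 F421587) (iv1 D155579)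
theorem F471977 : act 6 n213763 = n201709 := d21_5 (iv5 F375150) (iv1 F375155) F328907 D155577 D213763 F421497 D212924 F468143 F238393 F329483
theorem F471978 : act 2 n212292 = n213763 := d15_3 (iv0 D213763) (iv0 F335906) D212292
theorem F471979 : act 7 n213763 = n202951 := d4_2 D212292 F471978 F426349
theorem F471980 : act 1 n212291 = n213763 := d15_1 D212291 F471979 F426349
def n213764 : Q := act 7 n155577
theorem D213764 : act 7 n155577 = n213764 := rfl
theorem F471981 : act 2 n213764 = n212291 := d4_1 D213764 F465169 F374309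
theorem F471982 : act 3 n213764 = n201152 := d8_1 D213764 F419281 F375190
theorem F471983 : act 4 n213764 = n155580 := d11_1 D213764 (iv7 D155580) (iv4 F244596)
theorem F471984 : act 5 n213764 = n212978 := d13_1 D213764 F468427 F376445
theorem F471985 : act 6 n213764 = n201147 := d14_1 D213764 F419266 (iv6 D188893) F329556 D155577
theorem F471986 : act 1 n202951 = n213764 := d15_1 (iv0 F426352) (iv7 D213764) (iv2 F374309)
theorem F471987 : act 1 n213764 = n212292 := d15_1 F471986 (iv7 D212292) (iv2 F426349)
def n213765 : Q := act 5 n155579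
theorem D213765 : act 5 n155579 = n213765 := rfl
theorem F471988 : act 2 n213765 = n194187 := d2_1 D213765 (iv5 F465127) F465124
theorem F471989 : act 3 n213765 = n189428 := d6_1 D213765 (iv5 F376588) (iv3 F421587)
theorem F471990 : act 4 n213765 = n212983 := d9_1 D213765 F468453 F465228 (iv5 F448377) F448376 (iv5 F465230) F465229 (iv5 F444802) (iv4 F468179) F468180 F465221 F350242 F403398 F403401 (iv4 F421588)
theorem F471991 : act 6 n213765 = n207384 := d12_2 (iv6 F421589) D213765 (iv5 F444620) (iv6 F421292) (iv5 F231788)
theorem F471992 : act 7 n213765 = n194186 := d13_2 F468103 D213765 (iv5 F468099)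
theorem F471993 : act 0 n213765 = n194181 := d17_2 F465030 D213765 F392282 F375042 (iv5 F209177) (iv0 F398870) F398868 D212291 F465173
theorem F471994 : act 1 n213765 = n194188 := d17_8 F468434 F465171 (iv1 D212291) (iv5 F398868) F398867 F163733 D155579 D213765 (iv4 F468431)
def n213766 : Q := act 0 n155605
theorem D213766 : act 0 n155605 = n213766 := rfl
theorem F471995 : act 5 n213766 = n179164 := d17_1 D213766 (iv1 F361956) F342359 (iv4 D154270) (iv5 D73086) D73085 D154266 (iv0 F363858) F365564
theorem F471996 : act 4 n213766 = n204248 := d18_3 F361933 F365564 D213766 (iv5 D204248) (iv4 F307855) F307854 (iv4 F342355) F342353 D154261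
theorem F471997 : act 6 n213766 = n191518 := d21_5 (iv5 F367364) (iv1 F367363) F153696 (iv6 F365553) D213766 (iv5 D191518) F351769 D98878 F152440 D100384
theorem F471998 : act 2 n194018 = n213766 := d15_3 (iv0 D213766) (iv0 F362322) F391794
theorem F471999 : act 3 n213766 = n191520 := d0_2 F391792 F471998 F383652 F366767 (iv2 F332952)
theorem F472000 : act 7 n213766 = n193943 := d4_2 F391794 F471998 F391474
theorem F472001 : act 1 n194019 = n213766 := d15_1 F391797 F472000 F391474
def n213767 : Q := act 7 n155605
theorem D213767 : act 7 n155605 = n213767 := rfl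
theorem F472002 : act 2 n213767 = n194019 := d4_1 D213767 (iv7 D194019) F365554
theorem F472003 : act 3 n213767 = n194733 := d8_1 D213767 (iv7 D194733) F365555
theorem F472004 : act 4 n213767 = n191975 := d11_1 D213767 F385052 F365564
theorem F472005 : act 5 n213767 = n155606 := d13_1 D213767 (iv7 D155606) D155605
theorem F472006 : act 6 n213767 = n194024 := d14_1 D213767 (iv7 D194024) (iv6 D102596) (iv7 F153693) (iv6 F365553)
theorem F472007 : act 1 n193943 = n213767 := d15_1 (iv0 F391477) (iv7 D213767) (iv2 F365554)
theorem F472008 : act 1 n213767 = n194018 := d15_1 F472007 (iv7 F391794) (iv2 F391474)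
def n213768 : Q := act 3 n155609
theorem D213768 : act 3 n155609 = n213768 := rfl
theorem F472009 : act 2 n213768 = n210716 := d0_1 D213768 F462700 (iv2 F456724) F467765 F467767
theorem F472010 : act 5 n213768 = n209740 := d6_2 F385247 D213768 F454810
theorem F472011 : act 7 n213768 = n210717 := d8_2 F467769 D213768 (iv3 F467774)
theorem F472012 : act 0 n213768 = n210350 := d20_4 F110768 D74026 D155609 D213768 F457149 F221540 (iv1 F168220) D116835 (iv3 F366417) (iv1 D155604)
theorem F472013 : act 0 n193439 = n213768 := d21_10 F472010 F454811 (iv5 D199383) (iv6 D111258) (iv1 F210280) F366477 (iv5 F374425) (iv1 F458545) (iv5 D210714) F389827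
def n213769 : Q := act 0 n155683
theorem D213769 : act 0 n155683 = n213769 := rfl
theorem F472014 : act 5 n213769 = n156476 := d17_3 (iv1 D155682) D155683 D213769 F246004 (iv5 F312801) D86569 (iv5 F313276) (iv0 F312220) F312221
theorem F472015 : act 4 n213769 = n209691 := d18_1 D213769 F454654 (iv4 F461031) (iv5 D211301) F224585 (iv0 F363156) (iv4 F348149) (iv0 D155681) D155683
theorem F472016 : act 6 n213769 = n209697 := d21_5 F367619 F289803 D185428 F365352 D213769 F454665 F261540 (iv5 F384300) (iv6 D191738) (iv1 F367617)
theorem F472017 : act 2 n156483 = n213769 := d15_3 (iv0 D213769) (iv0 F463744) F463742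
theorem F472018 : act 7 n213769 = n210689 := d4_2 F463742 F472017 (iv2 F463739)
theorem F472019 : act 1 n211212 = n213769 := d15_1 F463745 F472018 (iv2 F463739)
def n213770 : Q := act 4 n155683
theorem D213770 : act 4 n155683 = n213770 := rfl
theorem F472020 : act 6 n213770 = n213413 := d10_2 F365352 D213770 F470283
theorem F472021 : act 5 n213770 = n210266 := d16_1 D213770 (iv4 D210266) F342385 (iv4 F331874) F340836 (iv4 F340830) D211212 (iv7 F468109) F468108
def n213771 : Q := act 7 n155683
theorem D213771 : act 7 n155683 = n213771 := rfl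
theorem F472022 : act 2 n213771 = n211212 := d4_1 D213771 (iv7 F468109) F468108
theorem F472023 : act 5 n213771 = n155684 := d13_1 D213771 (iv7 D155684) D155683
theorem F472024 : act 1 n210689 = n213771 := d15_1 F468111 (iv7 D213771) (iv2 F468108)
theorem F472025 : act 1 n213771 = n156483 := d15_1 F472024 (iv7 F463742) F463739
def n213772 : Q := act 5 n155687
theorem D213772 : act 5 n155687 = n213772 := rfl
theorem F472026 : act 2 n213772 = n210863 := d2_1 D213772 (iv5 F460921) F460919
theorem F472027 : act 3 n213772 = n210589 := d6_1 D213772 (iv5 F460813) (iv3 F460811)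
theorem F472028 : act 7 n213772 = n210862 := d13_2 F461028 D213772 F461029
theorem F472029 : act 0 n213772 = n202571 := d17_2 F403435 D213772 (iv5 D202571) F180622 D116007 F332421 (iv5 D143903) (iv0 F316863) D197183
theorem F472030 : act 1 n213772 = n210865 := d17_6 F247761 F233352 F252458 (iv5 D155688) D155687 D213772 F459058 F361516 F278933
def n213773 : Q := act 5 n155692
theorem D213773 : act 5 n155692 = n213773 := rfl
theorem F472031 : act 2 n213773 = n210862 := d2_1 D213773 F461029 (iv2 F461026)
theorem F472032 : act 6 n213773 = n213329 := d12_2 F462566 D213773 (iv5 F471031) (iv6 D213558) (iv5 F462568)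
theorem F472033 : act 7 n213773 = n210863 := d13_2 (iv7 F460924) D213773 (iv5 F460921)
theorem F472034 : act 0 n213773 = n210865 := d17_2 (iv1 F460962) D213773 F459058 F223211 (iv5 F223216) F357374 F366297 F366299 (iv4 F460958)
theorem F472035 : act 1 n213773 = n202571 := d17_6 (iv1 F389548) D202854 F425886 F338980 D155692 D213773 (iv5 D202571) D202570 (iv4 F424551)
def n213774 : Q := act 4 n155708
theorem D213774 : act 4 n155708 = n213774 := rfl
theorem F472036 : act 2 n213774 = n212640 := d1_1 D213774 F466835 F447352
theorem F472037 : act 3 n213774 = n207433 := d5_1 D213774 F444883 F320625 F321977 (iv3 F244722)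
theorem F472038 : act 6 n213774 = n207130 := d10_2 F320268 D213774 (iv4 D207130)
theorem F472039 : act 7 n213774 = n207124 := d11_2 F447377 D213774 (iv4 F447378)
theorem F472040 : act 5 n213774 = n212510 := d16_7 (iv4 F469263) (iv5 F471069) F471071 F287692 F329674 D155708 D213774 F466171 (iv2 F469257)
theorem F472041 : act 0 n213774 = n161315 := d17_0 (iv5 F339315) (iv1 D127903) F308842 (iv4 F305078) (iv5 F354063) (iv0 F342712) D197106 (iv0 F403069) D213774
theorem F472042 : act 1 n213774 = n206250 := d18_6 (iv1 D174398) D174399 (iv1 F358773) F329674 D155708 D213774 (iv4 F449816) (iv0 F449819) F273265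
def n213775 : Q := act 4 n155710
theorem D213775 : act 4 n155710 = n213775 := rfl
theorem F472043 : act 3 n213775 = n206368 := d5_1 D213775 (iv4 D206368) (iv3 D128487) (iv4 F207953) D155710
theorem F472044 : act 6 n213775 = n209591 := d10_2 F366508 D213775 F454256
def n213776 : Q := act 5 n155719
theorem D213776 : act 5 n155719 = n213776 := rfl
theorem F472045 : act 6 n213776 = n202083 := d12_2 F366520 D213776 F422852 (iv6 F409723) F409722
theorem F472046 : act 7 n213776 = n202106 := d13_2 F429066 D213776 F429069
theorem F472047 : act 0 n213776 = n210845 := d17_2 F427008 D213776 (iv5 D210845) F223200 D139979 D210849 F459011 (iv0 D206345) (iv4 F427006)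
def n213777 : Q := act 6 n155727
theorem D213777 : act 6 n155727 = n213777 := rfl
theorem F472048 : act 2 n213777 = n199939 := d3_1 D213777 (iv6 D199939) (iv2 F358514)
theorem F472049 : act 3 n213777 = n155728 := d7_1 D213777 (iv6 D155728) D155727
theorem F472050 : act 4 n213777 = n203235 := d10_1 D213777 (iv6 D203235) (iv4 F244736)
theorem F472051 : act 0 n193616 = n213777 := d21_4 F386271 F369042 F369040 D193616 (iv6 D213777) F358499 (iv1 D87858) D87859 (iv6 F286125) (iv1 F386270)
theorem F472052 : act 1 n193616 = n200322 := d15_1 (iv0 F472051) F415998 (iv2 F472048)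
def n213778 : Q := act 0 n155737
theorem D213778 : act 0 n155737 = n213778 := rfl
theorem F472053 : act 5 n213778 = n190685 := d17_1 D213778 (iv1 F380584) (iv5 D189862) F153660 F327683 (iv0 F329324) D193924 (iv0 F391409) (iv4 F326524)
theorem F472054 : act 4 n213778 = n193584 := d18_1 D213778 F391416 F381803 F160325 D194827 F406556 F406554 (iv0 F378030) (iv5 F361846)
theorem F472055 : act 6 n213778 = n190177 := d21_5 F329976 (iv1 D74084) D74086 D155737 D213778 (iv5 F379040) (iv1 F386670) (iv5 D192412) (iv6 F158525) (iv1 F158528)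
theorem F472056 : act 2 n190091 = n213778 := d15_3 (iv0 D213778) (iv0 F381214) (iv7 F381217)
theorem F472057 : act 1 n190085 = n213778 := d15_0 (iv0 D213778) (iv7 F361847) (iv2 F378812)
theorem F472058 : act 7 n213778 = n190090 := d15_2 F381216 F472057 (iv2 F381212)
def n213779 : Q := act 6 n155779
theorem D213779 : act 6 n155779 = n213779 := rfl
theorem F472059 : act 4 n213779 = n155781 := d10_1 D213779 (iv6 D155781) D155779
theorem F472060 : act 5 n182193 = n213779 := d16_1 D182193 F472059 (iv5 F353774) (iv4 D114074) (iv5 F142963) F142962 D185020 (iv7 F287411) (iv2 D182192)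
def n213780 : Q := act 6 n155789
theorem D213780 : act 6 n155789 = n213780 := rfl
def n213781 : Q := act 5 n155829
theorem D213781 : act 5 n155829 = n213781 := rfl
theorem F472061 : act 3 n213781 = n193840 := d6_1 D213781 (iv5 F452591) F452593
theorem F472062 : act 0 n213781 = n212833 := d17_2 F251058 D213781 (iv5 D212833) F237091 (iv5 F110778) (iv0 F349895) (iv5 F349893) F206674 (iv4 F251057)
theorem F472063 : act 6 n193839 = n213781 := d7_0 F472061 (iv6 D193840) D193839
def n213782 : Q := act 6 n155829
theorem D213782 : act 6 n155829 = n213782 := rfl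
theorem F472064 : act 4 n213782 = n155831 := d10_1 D213782 (iv6 D155831) D155829
theorem F472065 : act 0 n173365 = n213782 := d21_4 F424917 (iv1 F424918) (iv5 D193434) F366841 (iv6 D213782) D213781 F472062 (iv5 D212833) F337657 (iv1 F389943)
theorem F472066 : act 1 n213775 = n213782 := d18_6 (iv1 F305722) F187924 F312000 F348279 F366507 D213775 F472064 (iv0 F375909) (iv5 D128240)
def n213783 : Q := act 5 n155831
theorem D213783 : act 5 n155831 = n213783 := rfl
theorem F472067 : act 3 n213783 = n155846 := d6_1 D213783 (iv5 D155846) (iv3 F244826)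
theorem F472068 : act 6 n213783 = n208923 := d12_2 D155831 D213783 (iv5 F451426) F392788 F349917
theorem F472069 : act 1 n213783 = n162718 := d17_8 D212556 F466406 (iv1 F421381) (iv5 D154569) (iv4 F242566) (iv5 F456979) (iv0 F456980) D213783 F358451
def n213784 : Q := act 5 n155833
theorem D213784 : act 5 n155833 = n213784 := rfl
theorem F472070 : act 2 n213784 = n188656 := d2_1 D213784 F396880 (iv2 F386920)
theorem F472071 : act 3 n213784 = n194344 := d6_1 D213784 (iv5 D194344) (iv3 F365594)
theorem F472072 : act 7 n213784 = n188657 := d13_2 F386919 D213784 F386923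
theorem F472073 : act 0 n213784 = n188660 := d17_2 D155833 D213784 F374333 F357084 F357016 F110854 (iv5 F106020) F106022 D74126
theorem F472074 : act 1 n213784 = n188658 := d17_6 (iv1 F438361) (iv5 F392999) (iv1 F393003) (iv5 F359963) F328605 D213784 F467698 F467697 F438363
theorem F472075 : act 4 n213784 = n212426 := d18_5 (iv1 F231736) (iv4 F231732) F359964 F328605 D213784 F465761 F428053 F412830 (iv5 D154771)
theorem F472076 : act 6 n212425 = n213784 := d10_0 F472075 (iv6 D212426) D212425
def n213785 : Q := act 6 n155833
theorem D213785 : act 6 n155833 = n213785 := rfl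
theorem F472077 : act 3 n213785 = n194345 := d7_1 D213785 (iv6 D194345) (iv3 F365594)
theorem F472078 : act 4 n213785 = n194353 := d10_1 D213785 (iv6 D194353) F328605
theorem F472079 : act 7 n213785 = n208636 := d14_2 F386919 D213785 (iv6 D208636) (iv7 F405020) F405019
def n213786 : Q := act 5 n155834
theorem D213786 : act 5 n155834 = n213786 := rfl
theorem F472080 : act 2 n213786 = n188657 := d2_1 D213786 F386923 F386921
theorem F472081 : act 3 n213786 = n213456 := d6_1 D213786 F470478 (iv3 F466517)
theorem F472082 : act 7 n213786 = n188656 := d13_2 (iv7 F386922) D213786 F396880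
theorem F472083 : act 0 n213786 = n188658 := d17_2 (iv1 F244829) D213786 F467698 (iv4 D212835) F357010 (iv0 D74135) (iv5 D34009) D34007 D74131
theorem F472084 : act 1 n213786 = n188660 := d17_6 F365114 (iv5 F409544) (iv1 F415359) (iv5 F440463) F440467 D213786 F374333 D189056 (iv4 F375615)
theorem F472085 : act 4 n213786 = n187480 := d18_5 (iv1 F359343) (iv4 F392899) (iv1 F440461) F440467 D213786 (iv0 F450146) (iv4 F422744) (iv0 F412829) (iv5 D147930)
theorem F472086 : act 6 n208709 = n213786 := d10_0 F472085 (iv6 F384531) F450521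
def n213787 : Q := act 5 n155835
theorem D213787 : act 5 n155835 = n213787 := rfl
theorem F472087 : act 2 n213787 = n194430 := d2_1 D213787 F393176 F384872
theorem F472088 : act 3 n213787 = n155836 := d6_1 D213787 (iv5 D155836) D155835
theorem F472089 : act 4 n213787 = n198291 := d9_1 D213787 F407497 F387632 F386099 D213633 F471383 F386806 (iv5 F375055) F375054 F371748 F294749 (iv5 F157195) (iv4 F391157) (iv5 F452591) F452592
theorem F472090 : act 1 n213787 = n204584 := d17_6 F375254 D205857 F438161 (iv5 F452591) F452592 D213787 (iv5 F432947) (iv0 D188953) D188955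
theorem F472091 : act 6 n213787 = n198290 := d21_3 (iv5 F386842) (iv1 F386843) D213787 F407493 D199735 (iv5 F413303) F394379 F379340 (iv6 D188956) (iv1 F375239)
def n213788 : Q := act 6 n155835
theorem D213788 : act 6 n155835 = n213788 := rfl
theorem F472092 : act 2 n213788 = n210971 := d3_1 D213788 F459560 F384872
theorem F472093 : act 3 n213788 = n155837 := d7_1 D213788 (iv6 D155837) D155835
theorem F472094 : act 5 n213788 = n210966 := d12_1 D213788 (iv6 F459534) F410318 (iv6 F472091) (iv5 D213787)
theorem F472095 : act 7 n213788 = n210969 := d14_2 F386853 D213788 F459550 F394300 F386855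
theorem F472096 : act 0 n213788 = n193189 := d21_4 F432947 (iv1 F472090) (iv5 D213787) D213788 (iv6 D193189) (iv5 F344022) (iv1 D154691) D154692 F242857 D188953
def n213789 : Q := act 0 n155836
theorem D213789 : act 0 n155836 = n213789 := rfl
theorem F472097 : act 1 n155856 = n213789 := d15_0 (iv0 D213789) (iv7 F466861) F466859
def n213790 : Q := act 1 n155836
theorem D213790 : act 1 n155836 = n213790 := rfl
theorem F472098 : act 1 n213790 = n155856 := d15_1 D213790 (iv7 F375048) (iv2 F375049)
theorem F472099 : act 5 n213790 = n205904 := d17_7 F354179 (iv5 F107547) (iv1 F349914) (iv5 D74127) D74126 D155836 D213790 F438355 (iv4 F374328)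
theorem F472100 : act 3 n213678 = n213790 := d6_3 F472099 F438356 D213678
theorem F472101 : act 6 n208821 = n213790 := d12_0 F472099 (iv6 F454433) F454435 (iv6 D208822) D208821
theorem F472102 : act 4 n213790 = n208934 := d10_1 F472101 (iv6 D208934) (iv4 F451002)
def n213791 : Q := act 4 n155836
theorem D213791 : act 4 n155836 = n213791 := rfl
theorem F472103 : act 2 n213791 = n213097 := d1_1 D213791 F468995 (iv2 F375049)
theorem F472104 : act 3 n213791 = n198294 := d5_1 D213791 F407511 (iv3 F407496) (iv4 F472089) F472088
theorem F472105 : act 5 n213791 = n213050 := d16_1 D213791 F468780 F359978 (iv4 D155858) (iv5 D74132) D74131 D155856 (iv7 F375048) (iv2 F375049)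
theorem F472106 : act 1 n213791 = n213023 := d18_6 (iv1 D73391) F52994 D34006 D74126 D155836 D213791 F468639 F459664 (iv5 D154769)
theorem F472107 : act 6 n213791 = n198292 := d21_5 (iv5 D203702) F315464 D152158 D213023 (iv1 F472106) (iv5 F407501) F431405 F431404 F430702 F430700
def n213792 : Q := act 6 n155836
theorem D213792 : act 6 n155836 = n213792 := rfl
theorem F472108 : act 2 n213792 = n213096 := d3_1 D213792 (iv6 F468993) (iv2 F375049)
theorem F472109 : act 3 n213792 = n198290 := d7_1 D213792 (iv6 F472091) F472088
theorem F472110 : act 4 n213792 = n198292 := d10_1 D213792 (iv6 F472107) (iv4 D213791)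
theorem F472111 : act 5 n213085 = n213792 := d16_1 (iv4 F468935) F472110 (iv5 F407501) (iv4 D152281) (iv5 D71841) (iv4 F108280) D152268 F351728 (iv2 F351726)
theorem F472112 : act 7 n213792 = n199744 := d13_2 D213085 F472111 F413340
theorem F472113 : act 0 n213792 = n199465 := d17_2 (iv1 F468937) F472111 (iv5 D199465) F349854 D125457 (iv0 F336517) F182069 F231245 D212508
def n213793 : Q := act 5 n155837
theorem D213793 : act 5 n155837 = n213793 := rfl
theorem F472114 : act 3 n213793 = n210966 := d6_1 D213793 (iv5 F472094) F472093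
theorem F472115 : act 4 n213793 = n197982 := d9_1 D213793 F406376 (iv4 F278236) (iv5 F428465) F428464 F187935 (iv4 F274104) (iv5 F431983) F431982 F406368 (iv4 F206151) D206284 F440068 (iv5 D155846) (iv4 F244830)
theorem F472116 : act 6 n213793 = n213085 := d12_2 D155837 D213793 F472111 (iv6 D213792) (iv5 D155836)
theorem F472117 : act 7 n213793 = n204906 := d13_2 (iv7 F353046) D213793 F434109
theorem F472118 : act 1 n213793 = n164004 := d17_8 (iv1 F330285) F330652 (iv1 F206160) (iv5 F330645) D204889 F434025 F428761 D213793 F258471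
theorem F472119 : act 0 n213793 = n166436 := d18_0 (iv4 D166436) (iv1 D79905) D79907 D166444 F330682 F188191 (iv4 F428759) F428761 D213793
def n213794 : Q := act 3 n155841
theorem D213794 : act 3 n155841 = n213794 := rfl
theorem F472120 : act 2 n213794 = n194449 := d0_1 D213794 (iv3 D194449) F158944 D194241 F392466
theorem F472121 : act 4 n213794 = n194469 := d5_2 D155841 D213794 F393339 F159249 F349916
theorem F472122 : act 7 n213794 = n196574 := d8_2 (iv7 F423860) D213794 (iv3 F423858)
theorem F472123 : act 0 n213794 = n213062 := d20_4 (iv4 D150608) (iv1 F349914) D155841 D213794 (iv3 D213062) (iv4 F455011) (iv1 D209784) D209785 F467708 (iv1 D212837)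
def n213795 : Q := act 5 n155841
theorem D213795 : act 5 n155841 = n213795 := rfl
theorem F472124 : act 2 n213795 = n213256 := d2_1 D213795 F469581 F392466
theorem F472125 : act 7 n213795 = n203587 := d13_2 (iv7 F423860) D213795 F429006
theorem F472126 : act 0 n213795 = n213257 := d17_2 (iv1 F388836) D213795 F469584 F359960 (iv5 F359963) (iv0 F359964) (iv5 F347034) (iv0 D126741) (iv4 F203871)
theorem F472127 : act 1 n213795 = n210885 := d17_6 (iv1 D74136) (iv5 D34009) D34006 D74127 D155841 D213795 F459146 F359965 (iv4 D155873)
theorem F472128 : act 6 n213795 = n213070 := d21_3 (iv5 D205850) (iv1 F388836) D213795 (iv1 F468849) (iv6 F361012) (iv5 F359545) (iv1 D115318) D115319 (iv6 F422683) (iv1 F438142)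
theorem F472129 : act 4 n213131 = n213795 := d10_3 F472128 F468847 (iv6 F469131)
def n213796 : Q := act 4 n155856
theorem D213796 : act 4 n155856 = n213796 := rfl
theorem F472130 : act 3 n213796 = n213616 := d5_1 D213796 F471305 (iv3 F374212) F292122 F365266
theorem F472131 : act 5 n213796 = n213131 := d9_2 D155856 D213796 F472129 (iv5 D213795) (iv4 D155841) (iv5 D74127) D74126 D155836 D213791 F472105 F468780 F359978 (iv4 D155858) (iv5 D74132) D74131
theorem F472132 : act 7 n213796 = n213097 := d11_2 F375048 D213796 F468995
theorem F472133 : act 0 n213796 = n213023 := d20_7 (iv4 F206496) (iv1 F322063) F322065 F339904 F291994 F365266 D213796 F468639 F459661 F235497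
def n213797 : Q := act 6 n155856
theorem D213797 : act 6 n155856 = n213797 := rfl
theorem F472134 : act 2 n213797 = n212100 := d3_1 D213797 (iv6 F466860) F466859
theorem F472135 : act 3 n213797 = n194424 := d7_1 D213797 (iv6 D194424) F365266
theorem F472136 : act 5 n212092 = n213797 := d2_0 F472134 (iv5 D212100) F464293
theorem F472137 : act 7 n213797 = n212097 := d13_2 (iv7 F464292) F472136 (iv5 D212097)
def n213798 : Q := act 0 n155857
theorem D213798 : act 0 n155857 = n213798 := rfl
theorem F472138 : act 5 n213798 = n199242 := d17_1 D213798 (iv1 D199242) D199243 F411296 (iv5 F352282) F202673 (iv5 F350836) F350834 (iv4 F244843)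
theorem F472139 : act 4 n213798 = n205968 := d18_3 F354213 (iv4 F244843) D213798 F438642 (iv4 D147375) D147374 (iv4 F231093) (iv0 D125993) D125995
theorem F472140 : act 2 n206036 = n213798 := d15_3 (iv0 D213798) (iv0 F410982) (iv7 F438949)
def n213799 : Q := act 5 n155857
theorem D213799 : act 5 n155857 = n213799 := rfl
theorem F472141 : act 2 n213799 = n206532 := d2_1 D213799 F456401 F456392
theorem F472142 : act 3 n213799 = n194427 := d6_1 D213799 (iv5 D194427) (iv3 F365243)
theorem F472143 : act 6 n213799 = n212092 := d12_2 D155857 D213799 F472136 (iv6 D213797) (iv5 D155856)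
theorem F472144 : act 4 n213799 = n212488 := d16_2 (iv4 F244843) D213799 (iv5 D212488) (iv4 D147363) D147364 (iv4 F350840) (iv5 F342290) (iv7 F353033) F353031
theorem F472145 : act 1 n213799 = n196989 := d17_8 (iv1 F426589) (iv5 D202999) (iv1 F184079) D143376 F411292 (iv5 F472138) (iv0 D213798) D213799 F402578
theorem F472146 : act 1 n206533 = n213799 := d15_0 F472145 F402579 D206533
def n213800 : Q := act 7 n155857
theorem D213800 : act 7 n155857 = n213800 := rfl
theorem F472147 : act 3 n213800 = n194428 := d8_1 D213800 (iv7 D194428) (iv3 F365243)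
theorem F472148 : act 4 n213800 = n155863 := d11_1 D213800 (iv7 D155863) (iv4 F244843)
theorem F472149 : act 6 n213800 = n175122 := d14_1 D213800 (iv7 F278200) (iv6 F358743) F329944 D155857
theorem F472150 : act 5 n206531 = n213800 := d21_2 F401465 D206531 F472149 (iv1 D175122) (iv6 F274080) F402600 (iv1 F402599) (iv5 F444912) F444911 F435091
theorem F472151 : act 7 n213799 = n206531 := d13_0 F472150 (iv7 D213800) D213799
theorem F472152 : act 0 n206036 = n213800 := d18_0 F472148 F350827 (iv4 F223443) (iv5 F401801) F401798 F391208 F221112 (iv0 F401802) D206036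
def n213801 : Q := act 5 n155864
theorem D213801 : act 5 n155864 = n213801 := rfl
theorem F472153 : act 2 n213801 = n155878 := d2_1 D213801 (iv5 D155878) (iv2 F244844)
theorem F472154 : act 3 n213801 = n213175 := d6_1 D213801 (iv5 D213175) F244847
theorem F472155 : act 4 n213801 = n213130 := d9_1 D213801 F471314 (iv4 D212587) (iv5 D147930) F105578 F51354 (iv4 F87041) D119637 D203617 (iv5 F471820) (iv4 D213730) (iv5 D154771) F110085 D74134 D155864
theorem F472156 : act 7 n213801 = n203614 := d13_2 (iv7 F244845) D213801 (iv5 D203614)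
theorem F472157 : act 0 n213801 = n203616 := d17_2 (iv1 F244848) D213801 (iv5 F429100) (iv4 F347038) F347034 D206370 F440463 F415359 F409543
theorem F472158 : act 1 n213801 = n203615 := d17_6 (iv1 F357005) (iv5 D148671) (iv1 F106019) D74134 D155864 D213801 F429098 (iv0 D152792) (iv4 F189404)
def n213802 : Q := act 6 n155864
theorem D213802 : act 6 n155864 = n213802 := rfl
theorem F472159 : act 2 n213802 = n155879 := d3_1 D213802 (iv6 D155879) (iv2 F244844)
theorem F472160 : act 3 n213802 = n213176 := d7_1 D213802 (iv6 D213176) F244847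
theorem F472161 : act 4 n213802 = n155865 := d10_1 D213802 (iv6 D155865) D155864
theorem F472162 : act 0 n209891 = n213802 := d21_4 (iv5 F426881) (iv1 D203071) F422326 (iv6 F455274) (iv6 D213802) D213801 F472157 (iv5 F429100) (iv6 F428850) F428853
def n213803 : Q := act 5 n155873
theorem D213803 : act 5 n155873 = n213803 := rfl
theorem F472163 : act 2 n213803 = n203655 := d2_1 D213803 (iv5 D203655) (iv2 F350658)
theorem F472164 : act 7 n213803 = n202001 := d13_2 (iv7 F350659) D213803 (iv5 D202001)
theorem F472165 : act 0 n213803 = n202405 := d17_2 (iv1 F359962) D213803 (iv5 D202405) F357058 (iv5 F438359) F438362 (iv5 F409544) (iv0 F409545) (iv4 F359960)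
def n213804 : Q := act 3 n155877
theorem D213804 : act 3 n155877 = n213804 := rfl
theorem F472166 : act 7 n213804 = n202025 := d8_2 (iv7 F354575) D213804 F422739
def n213805 : Q := act 0 n155878
theorem D213805 : act 0 n155878 = n213805 := rfl
theorem F472167 : act 5 n213805 = n202058 := d17_3 (iv1 D155877) D155878 D213805 (iv4 F438315) F438314 (iv0 F372110) (iv5 F376001) F376004 F251063
theorem F472168 : act 1 n203614 = n213805 := d15_0 (iv0 D213805) F244857 (iv2 F429097)
theorem F472169 : act 2 n203616 = n213805 := d2_3 F472167 F438331 F429100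
theorem F472170 : act 3 n202060 = n213805 := d6_3 F472167 (iv3 D202058) D202060
theorem F472171 : act 7 n203615 = n213805 := d13_0 F472167 F438321 (iv5 F429098)
def n213806 : Q := act 1 n155878
theorem D213806 : act 1 n155878 = n213806 := rfl
theorem F472172 : act 1 n213806 = n203614 := d15_1 D213806 (iv7 F472156) F472153
theorem F472173 : act 7 n213806 = n203616 := d15_2 (iv0 D213805) D213806 F472169
theorem F472174 : act 5 n213806 = n212837 := d17_7 (iv1 F244837) (iv5 D74132) (iv1 D34007) D34009 D74137 D155878 D213806 F467705 (iv4 F360754)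
theorem F472175 : act 6 n203110 = n213806 := d21_9 (iv5 D155878) (iv1 F354574) D202210 F423255 D211766 F463018 (iv5 D152330) (iv1 F206488) (iv5 F427012) (iv1 D213806)
theorem F472176 : act 2 n213806 = n203615 := d3_1 F472175 (iv6 F429099) F427013
def n213807 : Q := act 4 n155878
theorem D213807 : act 4 n155878 = n213807 := rfl
theorem F472177 : act 2 n213807 = n213130 := d1_1 D213807 (iv4 F472155) F472153
theorem F472178 : act 7 n213807 = n203617 := d11_2 (iv7 F244857) D213807 (iv4 D203617)
theorem F472179 : act 0 n213807 = n213131 := d18_2 (iv1 D213806) D213807 F472129 (iv5 D213795) (iv4 D155841) F349914 D150608 D212837 (iv5 F472174)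
theorem F472180 : act 1 n213807 = n213050 := d18_6 (iv1 F359962) (iv4 D155873) (iv1 D74136) D74137 D155878 D213807 F468780 D213257 F469584
theorem F472181 : act 6 n213807 = n204445 := d21_5 (iv5 D213048) (iv1 D152290) D152292 D213050 (iv1 F472180) (iv5 D204445) (iv1 F241665) (iv5 F470543) F470544 (iv1 F468773)
def n213808 : Q := act 6 n155878
theorem D213808 : act 6 n155878 = n213808 := rfl
theorem F472182 : act 3 n213808 = n203111 := d7_1 D213808 (iv6 D203111) (iv3 F244856)
theorem F472183 : act 4 n213808 = n204445 := d10_1 D213808 (iv6 F472181) (iv4 D213807)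
theorem F472184 : act 0 n193807 = n213808 := d21_4 F463013 F422062 (iv5 F386206) (iv6 F391052) (iv6 D213808) (iv5 D155878) (iv1 F354574) D202210 F423255 D211766
def n213809 : Q := act 0 n155879
theorem D213809 : act 0 n155879 = n213809 := rfl
theorem F472185 : act 5 n213809 = n202080 := d17_1 D213809 (iv1 F432995) (iv5 F432993) (iv4 F415290) F415291 (iv0 F415434) (iv5 F415435) (iv0 D155880) (iv4 F244859)
theorem F472186 : act 4 n213809 = n197121 := d18_3 (iv1 D155881) (iv4 F244859) D213809 F466062 (iv4 F466061) F415449 (iv4 D200183) D200182 (iv5 F415442)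
theorem F472187 : act 7 n209891 = n213809 := d11_0 F472186 (iv7 F428602) F455277
theorem F472188 : act 3 n156151 = n213809 := d20_5 (iv4 D65139) (iv1 F161262) (iv4 F111151) (iv3 F220236) (iv1 F245390) F472186 (iv1 D197121) (iv4 F245090) F245089 F166195
def n213810 : Q := act 5 n155879
theorem D213810 : act 5 n155879 = n213810 := rfl
theorem F472189 : act 3 n213810 = n203105 := d6_1 D213810 (iv5 D203105) (iv3 F244858)
def n213811 : Q := act 3 n155880
theorem D213811 : act 3 n155880 = n213811 := rfl
theorem F472190 : act 5 n213811 = n172847 := d6_2 (iv5 F415435) D213811 F415432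
theorem F472191 : act 2 n174498 = n213811 := d2_3 F472190 (iv2 F383688) F383689
theorem F472192 : act 6 n172850 = n213811 := d12_0 F472190 (iv6 D172847) (iv5 D82752) D82753 D172850
theorem F472193 : act 0 n207969 = n213811 := d21_1 D207969 F472190 (iv6 D172847) (iv1 F314203) (iv6 F433970) (iv5 F446365) (iv1 F446371) F281338 F132315 (iv1 F344835)
def n213812 : Q := act 4 n155880
theorem D213812 : act 4 n155880 = n213812 := rfl
theorem F472194 : act 5 n213812 = n202383 := d17_5 (iv1 D112767) D112768 D200181 (iv5 F415435) D213812 (iv0 D202383) (iv5 D115678) D115677 (iv4 F415295)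
def n213813 : Q := act 6 n155880
theorem D213813 : act 6 n155880 = n213813 := rfl
theorem F472195 : act 2 n213813 = n161879 := d3_1 D213813 (iv6 F357007) (iv2 F415437)
theorem F472196 : act 3 n213813 = n172850 := d7_1 D213813 F472192 (iv3 D213811)
theorem F472197 : act 5 n213813 = n161383 := d12_1 D213813 F333713 D161651 (iv6 F415431) (iv5 F415435)
theorem F472198 : act 7 n213813 = n161685 := d14_2 F415436 D213813 F255694 (iv7 F188544) (iv6 F347854)
theorem F472199 : act 0 n213813 = n161924 := d21_4 D112768 D200181 (iv5 F415435) D213813 F302957 (iv5 D84936) F300868 D128060 F360256 (iv1 D112767)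
theorem F472200 : act 0 n161401 = n213813 := d21_4 (iv5 F409477) F409479 (iv5 F257407) F350669 (iv6 D213813) F415435 F415434 (iv5 F415291) F415292 (iv1 F409518)
def n213814 : Q := act 4 n155884
theorem D213814 : act 4 n155884 = n213814 := rfl
theorem F472201 : act 2 n213814 = n197342 := d1_1 D213814 F403990 F403177
theorem F472202 : act 3 n213814 = n197393 := d5_1 D213814 F404122 F315151 (iv4 F110861) D155884
theorem F472203 : act 6 n213814 = n211262 := d10_2 F438108 D213814 F460854
theorem F472204 : act 7 n213814 = n212644 := d11_2 (iv7 F244869) D213814 (iv4 D212644)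
def n213815 : Q := act 6 n155890
theorem D213815 : act 6 n155890 = n213815 := rfl
theorem F472205 : act 2 n213815 = n212047 := d3_1 D213815 F464124 F463836
theorem F472206 : act 3 n213815 = n155892 := d7_1 D213815 (iv6 D155892) (iv3 F244882)
theorem F472207 : act 5 n213815 = n212046 := d12_1 D213815 F464118 F397003 (iv6 D155891) D155890
theorem F472208 : act 0 n213815 = n195369 := d21_4 F438437 (iv1 D155888) D155890 D213815 F396837 (iv5 D105549) D105547 D195370 F425500 (iv1 F438439)
theorem F472209 : act 0 n212809 = n213815 := d17_2 D150042 D212809 F472207 F464117 F379040 (iv0 D190177) (iv5 F159290) (iv0 F358504) F358507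
def n213816 : Q := act 0 n155892
theorem D213816 : act 0 n155892 = n213816 := rfl
theorem F472210 : act 6 n213816 = n203242 := d21_5 (iv5 D118272) (iv1 F86014) D74142 D155892 D213816 (iv5 D203242) (iv1 F392551) F464161 (iv6 D212057) (iv1 F228110)
theorem F472211 : act 5 n213816 = n197353 := d21_8 F461033 (iv1 F407833) (iv5 F416363) (iv6 F460870) F460868 F427501 F427502 D213816 (iv6 F423243) F461036
theorem F472212 : act 3 n203243 = n213816 := d6_3 F472211 (iv3 F454507) F454508
theorem F472213 : act 0 n213816 = n212044 := d21_7 (iv5 F426660) F426661 F403788 F397317 (iv1 F423242) F423243 (iv5 F472211) (iv5 D212044) F366262 F396818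
def n213817 : Q := act 1 n155892
theorem D213817 : act 1 n155892 = n213817 := rfl
theorem F472214 : act 1 n213817 = n212044 := d15_1 D213817 F464110 F427503
theorem F472215 : act 4 n213817 = n203249 := d18_7 F454076 F236050 D203381 (iv4 F438428) F427480 (iv4 F244885) D213817 F470107 F470106
theorem F472216 : act 3 n203188 = n213817 := d19_19 (iv1 D213817) (iv5 F427502) F427500 (iv3 F404295) (iv1 F393262) (iv5 F455151) F455150 (iv3 F469580) (iv1 F469583) (iv5 D156204) (iv4 F245472) F245471 D195379 F396868 D205910 F438380 F422817 D203239 F427506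
theorem F472217 : act 5 n197352 = n213817 := d21_0 (iv1 D213817) (iv5 F427502) (iv6 F427501) F403815 (iv6 D197275) F167078 (iv1 F78970) D49933 D108112 D197352
theorem F472218 : act 6 n203187 = n213817 := d21_3 F463859 (iv1 D203186) D203187 (iv1 D213817) (iv6 D155892) (iv5 D74142) (iv1 F86009) D118275 (iv6 F351852) D211998
def n213818 : Q := act 7 n155892
theorem D213818 : act 7 n155892 = n213818 := rfl
theorem F472219 : act 2 n213818 = n212044 := d4_1 D213818 F464110 F427503
theorem F472220 : act 4 n213818 = n203256 := d11_1 D213818 (iv7 D203256) (iv4 F244885)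
theorem F472221 : act 5 n213818 = n212043 := d13_1 D213818 F464105 F427502
def n213819 : Q := act 3 n155893
theorem D213819 : act 3 n155893 = n213819 := rfl
theorem F472222 : act 4 n213819 = n203725 := d5_2 F428232 D213819 F429552 F385353 D203421
theorem F472223 : act 6 n213819 = n195483 := d7_2 (iv6 F434696) D213819 (iv3 F434698)
theorem F472224 : act 0 n213819 = n191513 := d20_4 F464087 F428233 F428232 D213819 F463556 F463550 (iv1 F408017) (iv4 F458063) F458062 (iv1 F464090)
theorem F472225 : act 2 n193419 = n213819 := d3_3 F472223 F422550 F414627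
theorem F472226 : act 5 n193407 = n213819 := d12_5 F472223 F397120 D201968 F428553 F428552
def n213820 : Q := act 5 n155893
theorem D213820 : act 5 n155893 = n213820 := rfl
theorem F472227 : act 2 n213820 = n211269 := d2_1 D213820 F460879 F427542
theorem F472228 : act 3 n213820 = n193407 := d6_1 D213820 F472226 (iv3 D213819)
theorem F472229 : act 7 n213820 = n211270 := d13_2 F427544 D213820 F460885
theorem F472230 : act 0 n213820 = n197412 := d17_2 D155893 D213820 (iv5 D197412) F167231 D108286 F314104 (iv5 D155900) (iv0 D74144) (iv4 F110864)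
theorem F472231 : act 1 n213820 = n211261 := d17_6 F361579 F322336 (iv1 F314161) (iv5 F428228) F428232 D213820 (iv5 D211261) F404181 F404179
def n213821 : Q := act 3 n155894
theorem D213821 : act 3 n155894 = n213821 := rfl
theorem F472232 : act 4 n213821 = n210717 := d5_2 F381024 D213821 (iv3 F467774) F467771 (iv3 F381019)
theorem F472233 : act 6 n213821 = n210806 := d7_2 (iv6 F381025) D213821 (iv3 D210806)
def n213822 : Q := act 5 n155894
theorem D213822 : act 5 n155894 = n213822 := rfl
theorem F472234 : act 2 n213822 = n211270 := d2_1 D213822 F460885 (iv2 F427546)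
theorem F472235 : act 7 n213822 = n211269 := d13_2 (iv7 F427541) D213822 F460879
theorem F472236 : act 4 n213822 = n209898 := d16_2 F381024 D213822 (iv5 F462677) F428820 F188282 (iv4 F188276) (iv5 F428228) F428230 (iv2 F381018)
theorem F472237 : act 0 n213822 = n211261 := d17_2 (iv1 F427490) D213822 (iv5 D211261) F224395 (iv5 F318003) (iv0 F333723) (iv5 D155904) F185783 (iv4 F427487)
theorem F472238 : act 1 n213822 = n197412 := d17_6 (iv1 F347181) F321155 (iv1 F309921) D190779 F381024 D213822 (iv5 D197412) (iv0 F226249) (iv4 D143544)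
theorem F472239 : act 6 n213822 = n197331 := d21_3 (iv5 F427488) (iv1 F427490) D213822 (iv1 D197331) (iv6 D108096) (iv5 D49926) D49924 (iv5 F167078) D197275 (iv1 F404273)
theorem E104001 : n209896 = n197331 := ((c10_1 F472239 (iv4 D209896) D209898 (iv4 F472236))).symm
theorem F472240 : act 4 n197331 = n137069 := (sb E104001 (iv4 D209896))
def n213823 : Q := act 7 n155895
theorem D213823 : act 7 n155895 = n213823 := rfl
theorem F472241 : act 2 n213823 = n156278 := d4_1 D213823 (iv7 F427511) F427507
theorem F472242 : act 3 n213823 = n198657 := d8_1 D213823 F408730 (iv3 F397004)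
theorem F472243 : act 4 n213823 = n156031 := d11_1 D213823 F404283 (iv4 F403816)
theorem F472244 : act 5 n213823 = n155896 := d13_1 D213823 (iv7 D155896) D155895
theorem F472245 : act 6 n213823 = n210791 := d14_1 D213823 F458806 (iv6 F464104) F464105 (iv6 F427501)
theorem F472246 : act 1 n211658 = n213823 := d15_1 (iv0 F462544) (iv7 D213823) (iv2 F427507)
theorem F472247 : act 1 n213823 = n200423 := d15_1 F472246 (iv7 F460867) (iv2 F462540)
def n213824 : Q := act 5 n155899
theorem D213824 : act 5 n155899 = n213824 := rfl
theorem F472248 : act 3 n213824 = n210566 := d6_1 D213824 (iv5 D210566) (iv3 F347172)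
theorem F472249 : act 6 n213824 = n210562 := d12_2 F347170 D213824 (iv5 D210562) (iv6 D139398) D139397
theorem F472250 : act 1 n213824 = n211528 := d17_6 (iv1 F167426) (iv5 F318003) F333709 (iv5 D155900) D155899 D213824 (iv5 D211528) F404315 F404314
def n213825 : Q := act 3 n155903
theorem D213825 : act 3 n155903 = n213825 := rfl
theorem F472251 : act 4 n213825 = n213258 := d5_2 D155903 D213825 (iv3 D213258) (iv4 F244893) (iv3 D155902)
theorem F472252 : act 6 n213825 = n210816 := d7_2 F364630 D213825 (iv3 D210816)
def n213826 : Q := act 5 n155903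
theorem D213826 : act 5 n155903 = n213826 := rfl
theorem F472253 : act 0 n213826 = n211528 := d17_2 F463591 D213826 (iv5 D211528) F225643 (iv5 F322337) F316597 D119477 D203538 (iv4 F463589)
theorem F472254 : act 6 n213826 = n197375 := d21_3 D211921 F463591 D213826 (iv1 D197375) (iv6 D108123) (iv5 D49939) (iv1 F78905) F78903 D74335 (iv1 F339887)
def n213827 : Q := act 3 n155918
theorem D213827 : act 3 n155918 = n213827 := rfl
theorem F472255 : act 5 n213827 = n203845 := d6_2 F337698 D213827 (iv3 D203845)
theorem F472256 : act 6 n213827 = n162585 := d7_2 F438190 D213827 F466148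
theorem F472257 : act 7 n213827 = n200502 := d8_2 (iv7 F351012) D213827 F416756
theorem F472258 : act 4 n213827 = n198143 := d20_6 (iv4 D127074) D127073 (iv4 F338783) F338782 (iv1 F353968) D213827 F410867 F410864 F346530 (iv1 F219838)
theorem F472259 : act 0 n198881 = n213827 := d18_0 F472258 F410867 F410864 F346531 (iv4 F412468) (iv0 F412471) F272953 D174160 F409739
theorem F472260 : act 1 n194388 = n213827 := d18_6 F406749 (iv4 F345547) F345543 (iv4 F199040) (iv5 F351540) (iv4 F393023) F472258 (iv0 F433855) F433854
def n213828 : Q := act 4 n155918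
theorem D213828 : act 4 n155918 = n213828 := rfl
theorem F472261 : act 3 n213828 = n198144 := d5_1 D213828 (iv4 D198144) D198143 (iv4 F472258) (iv3 D213827)
def n213829 : Q := act 1 n155940
theorem D213829 : act 1 n155940 = n213829 := rfl
theorem F472262 : act 1 n213829 = n202639 := d15_1 D213829 F424883 (iv2 F244939)
theorem F472263 : act 7 n213829 = n211267 := d15_2 (iv0 F462550) D213829 (iv2 F462546)
theorem F472264 : act 5 n213829 = n198386 := d17_7 (iv1 D136289) (iv5 F110939) (iv1 F339746) F364426 (iv4 F438730) F438731 D213829 F407840 (iv4 F397012)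
theorem F472265 : act 4 n213829 = n212576 := d17_9 (iv1 D212576) F308556 (iv1 F302277) (iv5 F312357) (iv4 F434676) (iv5 F470013) (iv0 F470012) F438731 D213829
theorem F472266 : act 6 n198387 = n213829 := d21_3 (iv5 F351840) F169256 D198387 (iv1 D213829) (iv6 D155940) (iv5 F228103) F228104 F228100 F343142 (iv1 D140995)
theorem F472267 : act 2 n213829 = n212058 := d3_1 F472266 (iv6 F464167) (iv2 F407841)
def n213830 : Q := act 3 n155941
theorem D213830 : act 3 n155941 = n213830 := rfl
theorem F472268 : act 5 n213830 = n170277 := d6_2 (iv5 F333692) D213830 (iv3 F364616)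
theorem F472269 : act 6 n213830 = n197505 := d7_2 F333699 D213830 (iv3 D197505)
theorem F472270 : act 7 n213830 = n177050 := d8_2 (iv7 F359880) D213830 (iv3 F408616)
theorem F472271 : act 4 n213830 = n211471 := d20_6 D74080 F208510 (iv4 F53352) (iv3 F110889) D155941 D213830 (iv1 F461687) F225458 (iv3 F322331) (iv1 F87406)
theorem F472272 : act 2 n177051 = n213830 := d1_3 F472271 F461681 F453160
theorem F472273 : act 0 n177053 = n213830 := d20_10 F472271 (iv1 F461687) F225458 (iv3 F322331) (iv1 F87406) (iv3 F209904) D154720 F315265 F314556 (iv3 F276464)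
theorem F472274 : act 1 n177038 = n213830 := d15_0 (iv0 F472273) (iv7 D177053) (iv2 F276455)
def n213831 : Q := act 4 n155941
theorem D213831 : act 4 n155941 = n213831 := rfl
theorem F472275 : act 2 n213831 = n211272 := d1_1 D213831 F460889 F359895
theorem F472276 : act 5 n213831 = n209324 := d9_2 (iv5 F333692) D213831 F453229 (iv5 F319848) D194287 F392668 F357082 (iv5 F357080) (iv4 F397204) (iv5 D195519) F162242 (iv5 F110939) F110938 D147170 F350914
theorem F472277 : act 6 n213831 = n197506 := d10_2 F333699 D213831 (iv4 D197506)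
theorem F472278 : act 7 n213831 = n209323 := d11_2 (iv7 F359880) D213831 F453224
theorem F472279 : act 0 n213831 = n169826 := d18_2 D155941 D213831 (iv4 D169826) (iv5 D81440) (iv4 F86759) D119131 F343973 (iv0 D131271) (iv5 F110890)
theorem F472280 : act 1 n213831 = n203173 := d18_6 F468528 F468525 F444880 F350914 (iv5 F333692) D213831 F427302 F366805 (iv5 F458789)
theorem F472281 : act 3 n213831 = n195400 := d20_9 (iv4 F219363) D209314 F453184 (iv3 F438768) (iv1 F397044) (iv3 F244940) F244941 D155941 D213831 (iv1 D195400)
theorem F472282 : act 4 n198373 = n195400 := d5_4 (iv4 D213831) D213830 F472271 F461682 (iv3 F472281)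
theorem F472283 : act 2 n195400 = n198476 := d1_1 F472282 (iv4 D198476) (iv2 F461685)
theorem F472284 : act 7 n195400 = n198471 := d11_2 (iv7 F461686) F472282 (iv4 D198471)
theorem F472285 : act 2 n198471 = n195399 := d15_3 (iv0 D195399) D195400 F472284
theorem F472286 : act 7 n198476 = n195399 := d4_2 (iv7 F472284) F472283 (iv2 F472285)
theorem F472287 : act 4 n195399 = n198372 := d11_1 F472286 F461689 D198476
def n213832 : Q := act 3 n155942
theorem D213832 : act 3 n155942 = n213832 := rfl
theorem F472288 : act 4 n213832 = n211161 := d5_2 F397204 D213832 F460391 F460860 F460858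
theorem F472289 : act 5 n213832 = n192352 := d6_2 (iv5 F357080) D213832 F386543
theorem F472290 : act 6 n213832 = n211144 := d7_2 F357081 D213832 F460314
theorem F472291 : act 7 n213832 = n206345 := d8_2 (iv7 F359894) D213832 (iv3 F440345)
theorem F472292 : act 0 n213832 = n197171 := d19_4 F391446 D195519 F397204 D213832 (iv5 D197171) (iv4 F215095) F434165 (iv1 D204918) D204919 F434171 F385024 (iv1 F382927) F382925 F375567 F391433 (iv1 D193931) (iv5 D102486) D102485 D193928
theorem F472293 : act 0 n204312 = n213832 := d20_4 (iv4 F402058) (iv1 F402060) F379007 (iv3 F432003) (iv3 D213832) (iv4 F397204) F427303 F427302 F236048 (iv1 F313666)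
theorem F472294 : act 2 n213832 = n206346 := d15_3 F440346 F440344 (iv7 F472291)
def n213833 : Q := act 6 n155955
theorem D213833 : act 6 n155955 = n213833 := rfl
theorem F472295 : act 2 n213833 = n198212 := d3_1 D213833 (iv6 D198212) F244982
theorem F472296 : act 3 n213833 = n194931 := d7_1 D213833 F397365 (iv3 F397364)
theorem F472297 : act 7 n213833 = n209298 := d14_2 F244983 D213833 (iv6 D209298) (iv7 F219324) F359284
theorem F472298 : act 5 n189697 = n213833 := d21_8 D155957 (iv1 F387861) F387858 (iv6 F346339) F346335 (iv6 F377524) (iv5 D189721) (iv1 F377542) (iv6 D213833) (iv1 D155955)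
theorem F472299 : act 0 n213833 = n198336 := d18_0 (iv4 D198336) (iv1 F407660) (iv4 F413151) F413153 F355324 F289018 (iv4 F276213) (iv0 F377541) F472298
def n213834 : Q := act 6 n155956
theorem D213834 : act 6 n155956 = n213834 := rfl
theorem F472300 : act 2 n213834 = n155958 := d3_1 D213834 (iv6 D155958) D155956
theorem F472301 : act 3 n213834 = n200776 := d7_1 D213834 (iv6 D200776) (iv3 F244977)
theorem F472302 : act 4 n213834 = n187997 := d10_1 D213834 F372052 (iv4 F244978)
theorem F472303 : act 0 n157852 = n213834 := d21_4 (iv5 D84305) (iv1 F119074) D83280 (iv6 F353299) (iv6 D213834) (iv5 F379366) F379368 (iv5 F351020) F351021 F129377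
theorem F472304 : act 1 n170747 = n213834 := d15_0 (iv0 F472303) F248764 D170747
theorem F472305 : act 7 n170745 = n213834 := d15_2 (iv0 F433803) F433804 F472300
def n213835 : Q := act 6 n155957
theorem D213835 : act 6 n155957 = n213835 := rfl
theorem F472306 : act 3 n213835 = n155959 := d7_1 D213835 (iv6 D155959) (iv3 F244988)
theorem F472307 : act 4 n213835 = n193977 := d10_1 D213835 F391574 F368335
theorem F472308 : act 7 n213835 = n193597 := d14_2 (iv7 F244989) D213835 (iv6 D193597) F156964 F353329
theorem F472309 : act 1 n208451 = n213835 := d15_1 F449411 F472308 F390405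
def n213836 : Q := act 5 n155958
theorem D213836 : act 5 n155958 = n213836 := rfl
theorem F472310 : act 3 n213836 = n155960 := d6_1 D213836 (iv5 D155960) (iv3 F244990)
def n213837 : Q := act 7 n155958
theorem D213837 : act 7 n155958 = n213837 := rfl
theorem F472311 : act 2 n213837 = n170745 := d4_1 D213837 F472305 F472300
theorem F472312 : act 3 n213837 = n155961 := d8_1 D213837 (iv7 D155961) (iv3 F244990)
theorem F472313 : act 4 n213837 = n197786 := d11_1 D213837 (iv7 D197786) (iv4 F244991)
theorem F472314 : act 6 n213837 = n198214 := d14_1 D213837 (iv7 D198214) (iv6 D109050) (iv7 F110930) D155958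
theorem F472315 : act 1 n157852 = n213837 := d15_1 (iv0 F472303) (iv7 D213837) (iv2 F472300)
theorem F472316 : act 1 n213837 = n170747 := d15_1 F472315 (iv7 F433802) F433799
def n213838 : Q := act 4 n155960
theorem D213838 : act 4 n155960 = n213838 := rfl
theorem F472317 : act 2 n213838 = n205505 := d1_1 D213838 (iv4 D205505) (iv2 F244993)
theorem F472318 : act 7 n213838 = n190883 := d11_2 F408171 D213838 (iv4 F408174)
theorem F472319 : act 0 n213838 = n198495 := d18_2 F407823 D213838 (iv4 D198495) (iv5 D109358) D109357 F169872 (iv4 F392588) F392591 D198380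
theorem F472320 : act 1 n213838 = n198486 := d18_6 (iv1 F202532) (iv4 F202917) (iv1 D126181) (iv4 F110936) D155960 D213838 (iv4 D198486) F169918 F169917
theorem F472321 : act 3 n213838 = n190886 := d20_9 (iv4 F394363) (iv1 D194757) F159970 (iv3 F291913) D104712 D194903 (iv4 F408184) F407823 D213838 (iv1 F381451)
def n213839 : Q := act 3 n155972
theorem D213839 : act 3 n155972 = n213839 := rfl
theorem F472322 : act 4 n213839 = n197120 := d5_2 F398825 D213839 F403138 (iv4 F179400) (iv3 F398822)
theorem F472323 : act 5 n213839 = n191062 := d6_2 (iv5 F364556) D213839 F382062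
theorem F472324 : act 6 n213839 = n197119 := d7_2 F422186 D213839 (iv3 F422185)
theorem F472325 : act 7 n213839 = n190220 := d8_2 F364558 D213839 F379116
theorem F472326 : act 0 n213839 = n157698 := d19_4 D106470 D195948 F398825 D213839 F414761 (iv4 F417447) (iv3 D200679) F176537 D199760 F413375 (iv3 F439706) F439704 F331516 (iv4 F225052) F215907 (iv1 F425181) F425178 F377237 F145401
theorem F472327 : act 1 n213839 = n157703 := d15_1 (iv0 F472326) (iv7 F464965) F464962
def n213840 : Q := act 2 n155976
theorem D213840 : act 2 n155976 = n213840 := rfl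
theorem F472328 : act 3 n213840 = n194538 := d0_2 D155976 D213840 (iv2 F393637) F220423 F110948
theorem F472329 : act 4 n213840 = n212362 := d1_2 (iv4 F368725) D213840 F465496
theorem F472330 : act 5 n213840 = n199831 := d2_2 (iv5 F245014) D213840 (iv2 D199831)
theorem F472331 : act 6 n213840 = n208486 := d3_2 F368726 D213840 F449580
theorem F472332 : act 7 n213840 = n210015 := d4_2 (iv7 F245015) D213840 F455757
theorem F472333 : act 1 n213840 = n193973 := d15_0 (iv0 F391562) (iv7 F245015) D213840
theorem F472334 : act 1 n210017 = n213840 := d15_0 F472333 (iv7 F407239) (iv2 F455771)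
def n213841 : Q := act 1 n155977
theorem D213841 : act 1 n155977 = n213841 := rfl
theorem F472335 : act 1 n213841 = n194530 := d15_1 D213841 F393610 (iv2 F245016)
theorem F472336 : act 7 n213841 = n176359 := d15_2 (iv0 F346911) D213841 F346722
theorem F472337 : act 5 n213841 = n190366 := d17_7 (iv1 F175863) F82406 (iv1 F82400) (iv5 F175859) (iv4 F379455) (iv5 F379457) D213841 F381700 F381696
theorem F472338 : act 4 n213841 = n157700 := d17_9 F347921 (iv5 D85129) (iv1 F128218) (iv5 F342248) (iv4 D95907) D95908 D190337 (iv5 F379457) D213841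
theorem F472339 : act 3 n206052 = n213841 := d19_19 (iv1 D213841) F379457 F379455 F175858 (iv1 D106507) (iv5 D49219) (iv4 F37656) (iv3 D24061) F18427 D11773 D24841 D51068 D110770 (iv5 F335829) F335827 F176935 D113711 F355241 (iv4 F439017)
theorem F472340 : act 6 n157698 = n213841 := d21_3 F382005 (iv1 F414760) (iv5 F414761) (iv1 D213841) (iv6 D155977) F110946 (iv1 D51549) D51551 (iv6 F316666) (iv1 F381994)
theorem F472341 : act 2 n213841 = n190367 := d3_1 F472340 (iv6 F464964) F464962
def n213842 : Q := act 1 n155981
theorem D213842 : act 1 n155981 = n213842 := rfl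
theorem F472342 : act 1 n213842 = n156051 := d15_1 D213842 (iv7 F423065) F423059
theorem F472343 : act 7 n213842 = n156050 := d15_2 F366519 D213842 (iv2 F405566)
theorem F472344 : act 5 n213842 = n209368 := d17_7 F388950 F388949 F373203 (iv5 F253226) F344868 (iv5 F245025) D213842 (iv0 F453534) (iv4 D209390)
theorem F472345 : act 4 n213842 = n198026 := d17_9 (iv1 F406552) (iv5 F461391) F461390 F430689 F405287 (iv5 F452623) (iv0 F452624) (iv5 F245025) D213842
theorem F472346 : act 3 n200302 = n213842 := d20_3 F403849 (iv1 F347855) (iv4 F415903) (iv1 D213842) (iv3 D155981) F110954 (iv1 F78927) D49917 D108074 D197289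
theorem F472347 : act 2 n213842 = n156049 := d0_1 F472346 F245183 F313696 D178652 F415905
theorem F472348 : act 6 n213842 = n203577 := d7_2 F415906 F472346 (iv3 D203577)
def n213843 : Q := act 0 n155986
theorem D213843 : act 0 n155986 = n213843 := rfl
theorem F472349 : act 6 n213843 = n202047 := d21_5 F110967 (iv1 D74188) D74190 D155986 D213843 F455223 (iv1 D209873) (iv5 D137041) F100336 D64427
theorem F472350 : act 2 n156058 = n213843 := d3_3 F472349 F438324 (iv6 F455214)
theorem F472351 : act 7 n156059 = n213843 := d15_2 (iv0 D156058) D156059 (iv2 F472350)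
def n213844 : Q := act 1 n155986
theorem D213844 : act 1 n155986 = n213844 := rfl
theorem F472352 : act 1 n213844 = n156061 := d15_1 D213844 (iv7 D156061) (iv2 F245041)
theorem F472353 : act 7 n213844 = n156058 := d15_2 (iv0 D213843) D213844 F472350
theorem F472354 : act 2 n156059 = n213844 := d4_3 F472353 F472350 (iv7 F472351)
theorem F472355 : act 3 n213844 = n203551 := d0_2 F386039 F472354 F428844 F423102 (iv2 F386037)
theorem F472356 : act 1 n156061 = n213843 := d15_1 F472352 (iv7 F472351) F472354
theorem F472357 : act 4 n197300 = n213843 := d20_0 (iv1 F472356) (iv4 F404198) F404197 (iv1 F227240) F319577 F185778 F185562 (iv4 F241373) F366511 D197300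
theorem F472358 : act 3 n197272 = n197300 := d20_5 (iv4 D108071) (iv1 D49912) (iv4 F78948) (iv3 F167077) D197272 F472357 (iv1 F472356) (iv4 F404198) F404197 (iv1 F227240)
theorem F472359 : act 6 n212041 = n197300 := d10_0 F472357 F472349 (iv4 F464093)
theorem F472360 : act 6 n197272 = n195362 := d7_2 F472359 (iv3 F472358) (iv3 F464092)
theorem F472361 : act 4 n213844 = n197301 := d20_6 (iv4 D33282) D33280 D72075 (iv3 F366383) (iv1 F428847) (iv3 F472355) (iv1 D197301) F167109 F318478 (iv1 D72084)
def n213845 : Q := act 7 n155986
theorem D213845 : act 7 n155986 = n213845 := rfl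
theorem F472362 : act 2 n213845 = n156061 := d4_1 D213845 (iv7 D156061) (iv2 F245041)
theorem F472363 : act 3 n213845 = n210124 := d8_1 D213845 F456270 (iv3 F245042)
theorem F472364 : act 5 n213845 = n210136 := d13_1 D213845 (iv7 D210136) (iv5 F245043)
theorem F472365 : act 6 n213845 = n156093 := d14_1 D213845 (iv7 D156093) (iv6 D74249) (iv7 F110972) D155986
theorem F472366 : act 1 n156059 = n213845 := d15_1 D156059 (iv7 D213845) F245041
theorem F472367 : act 1 n213845 = n156058 := d15_1 F472366 (iv7 F472353) (iv2 F472354)
def n213846 : Q := act 0 n155987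
theorem D213846 : act 0 n155987 = n213846 := rfl
theorem F472368 : act 4 n213846 = n197276 := d20_8 (iv4 F449824) F449825 (iv4 F227194) F227193 F111117 (iv3 F245159) F245160 D213846 (iv3 F429271) F397056
theorem F472369 : act 2 n156090 = n213846 := d15_3 (iv0 D213846) (iv0 F360643) (iv7 F463007)
theorem F472370 : act 1 n156093 = n213846 := d15_0 (iv0 D213846) (iv7 F462997) (iv2 F463005)
theorem F472371 : act 7 n213846 = n156091 := d15_2 F360644 F472370 F349437
theorem F472372 : act 6 n202039 = n213846 := d14_5 F472371 (iv6 F349436) F203961 D115340 D202039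
def n213847 : Q := act 3 n155989
theorem D213847 : act 3 n155989 = n213847 := rfl
theorem F472373 : act 4 n213847 = n209016 := d5_2 D155989 D213847 F451853 F218035 (iv3 F110986)
theorem F472374 : act 5 n213847 = n185038 := d6_2 (iv5 F359530) D213847 (iv3 D185038)
theorem F472375 : act 6 n213847 = n201983 := d7_2 (iv6 F245048) D213847 F422604
theorem F472376 : act 7 n213847 = n156104 := d8_2 (iv7 F245049) D213847 (iv3 D156104)
theorem F472377 : act 0 n213847 = n193282 := d20_4 F110981 D74193 D155989 D213847 F458299 F458293 F351251 (iv4 F179625) F179624 F110982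
def n213848 : Q := act 6 n155990
theorem D213848 : act 6 n155990 = n213848 := rfl
theorem F472378 : act 2 n213848 = n156143 := d3_1 D213848 (iv6 D156143) (iv2 F245371)
theorem F472379 : act 4 n213848 = n204829 := d10_1 D213848 (iv6 F433748) F407751
theorem F472380 : act 5 n213848 = n204788 := d12_1 D213848 (iv6 F433591) F422304 (iv6 D156084) (iv5 F245249)
theorem F472381 : act 7 n213848 = n196652 := d14_2 (iv7 F245372) D213848 (iv6 D196652) F165341 F351548
theorem F472382 : act 0 n213848 = n202242 := d21_4 F245039 (iv1 F245040) (iv5 F245249) D213848 (iv6 F460027) F460028 F423877 (iv5 F351416) F359948 (iv1 D155984)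
theorem F472383 : act 1 n213848 = n156303 := d15_1 (iv0 F472382) F245615 F423371
def n213849 : Q := act 0 n155992
theorem D213849 : act 0 n155992 = n213849 := rfl
theorem F472384 : act 2 n202258 = n213849 := d15_3 (iv0 D213849) (iv0 F469368) F469367
theorem F472385 : act 6 n213849 = n202246 := d3_2 D202258 F472384 (iv2 F423392)
def n213850 : Q := act 7 n155992
theorem D213850 : act 7 n155992 = n213850 := rfl
theorem F472386 : act 3 n213850 = n155996 := d8_1 D213850 (iv7 D155996) (iv3 F245056)
theorem F472387 : act 4 n213850 = n196430 := d11_1 D213850 (iv7 D196430) (iv4 F245057)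
theorem F472388 : act 5 n213850 = n204503 := d13_1 D213850 F432738 F432580
theorem F472389 : act 6 n213850 = n156149 := d14_1 D213850 (iv7 D156149) (iv6 D74280) (iv7 F110997) D155992
theorem F472390 : act 0 n202258 = n213850 := d19_0 F472388 (iv4 D204503) F358616 F152855 F368430 F368428 D187205 F369490 F316821 (iv4 F356578) F356577 F356582 F356971 (iv4 F429557) F429556 F348721 D177141 F426984 (iv3 F426987)
def n213851 : Q := act 5 n155993
theorem D213851 : act 5 n155993 = n213851 := rfl
theorem F472391 : act 2 n213851 = n156121 := d2_1 D213851 (iv5 D156121) F245059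
theorem F472392 : act 3 n213851 = n177760 := d6_1 D213851 (iv5 F469350) (iv3 F469352)
theorem F472393 : act 7 n213851 = n156123 := d13_2 F245061 D213851 (iv5 D156123)
theorem F472394 : act 0 n213851 = n185478 := d17_2 D155993 D213851 (iv5 F359521) (iv4 D115310) (iv5 F84035) (iv0 F161374) (iv5 D65140) (iv0 F161261) (iv4 F110999)
theorem F472395 : act 1 n213851 = n185481 := d17_6 D116975 D202789 F425593 (iv5 D200297) (iv4 F245058) D213851 (iv5 F359528) (iv0 F179585) (iv4 F85019)
theorem F472396 : act 2 n177950 = n213210 := d0_3 F472392 F277218 D177950 F469448 (iv2 F472391)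
def n213852 : Q := act 3 n155994
theorem D213852 : act 3 n155994 = n213852 := rfl
theorem F472397 : act 4 n213852 = n197485 := d5_2 (iv4 F245065) D213852 (iv3 D197485) (iv4 D108226) D108225
theorem F472398 : act 7 n213852 = n156120 := d8_2 (iv7 F245064) D213852 (iv3 D156120)
theorem F472399 : act 4 n156206 = n197374 := d20_0 (iv1 F455267) F455263 F220236 (iv1 F245063) D213852 F472397 F439047 (iv4 F245476) F245475 D156206
theorem F472400 : act 3 n156172 = n156206 := d20_5 F245065 F175782 F82417 (iv3 F111500) D156172 F472399 (iv1 F455267) F455263 F220236 (iv1 F245063)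
def n213853 : Q := act 5 n155994
theorem D213853 : act 5 n155994 = n213853 := rfl
theorem F472401 : act 2 n213853 = n156123 := d2_1 D213853 (iv5 D156123) F245066
theorem F472402 : act 7 n213853 = n156121 := d13_2 (iv7 F245064) D213853 (iv5 D156121)
theorem F472403 : act 4 n213853 = n191269 := d16_2 (iv4 F245065) D213853 (iv5 D191269) (iv4 F158371) D194262 (iv4 F415887) (iv5 D200297) (iv7 F175897) (iv2 F175898)
theorem F472404 : act 0 n213853 = n185481 := d17_2 (iv1 F245063) D213853 (iv5 F359528) (iv4 D115309) F84032 (iv0 F173505) F173503 F111004 (iv4 F111151)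
theorem F472405 : act 1 n213853 = n185478 := d17_6 (iv1 F405984) (iv5 F203192) F203193 F202442 (iv4 F245065) D213853 (iv5 F359521) F245261 (iv4 F405981)
def n213854 : Q := act 6 n155994
theorem D213854 : act 6 n155994 = n213854 := rfl
theorem F472406 : act 2 n213854 = n156124 := d3_1 D213854 (iv6 D156124) F245066
theorem F472407 : act 4 n213854 = n197484 := d10_1 D213854 (iv6 D197484) (iv4 F245065)
theorem F472408 : act 7 n213854 = n199983 := d14_2 (iv7 F245064) D213854 F414471 F179915 F166291
theorem F472409 : act 0 n213854 = n199949 := d21_4 F359521 (iv1 F472405) (iv5 D213853) D213854 (iv6 F422060) (iv5 F463013) (iv1 F463016) (iv5 D156095) D156096 (iv1 F245261)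
theorem F472410 : act 5 n213854 = n201899 := d21_6 D115367 (iv1 F220183) F220181 (iv6 F111152) (iv1 F245063) D213854 (iv1 F422293) F179715 (iv6 F165014) (iv1 F165015)
theorem F472411 : act 0 n156302 = n213854 := d21_4 D202094 F422869 (iv5 D156301) D156302 (iv6 D213854) D213853 F472404 (iv5 F359528) (iv6 F180051) (iv1 F226988)
def n213855 : Q := act 3 n155997
theorem D213855 : act 3 n155997 = n213855 := rfl
theorem F472412 : act 4 n213855 = n193876 := d5_2 D155997 D213855 F391274 (iv4 D135892) F161299
theorem F472413 : act 6 n213855 = n211681 := d7_2 F407949 D213855 F462665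
theorem F472414 : act 7 n213855 = n156128 := d8_2 (iv7 F245074) D213855 (iv3 D156128)
theorem F472415 : act 0 n213855 = n156014 := d19_4 F173506 F173503 D155997 D213855 (iv5 F349758) (iv4 F467352) F467351 F390301 F423655 F423653 (iv3 F414411) (iv1 D199970) (iv5 D112123) F323164 (iv3 F194303) F332148 F332138 F332145 F174618
theorem F472416 : act 5 n210134 = n213855 := d16_7 F469392 F385973 F400601 (iv5 D196404) F164832 D137648 D210134 F472414 (iv2 F469391)
def n213856 : Q := act 5 n155997
theorem D213856 : act 5 n155997 = n213856 := rfl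
theorem F472417 : act 2 n213856 = n156132 := d2_1 D213856 (iv5 D156132) (iv2 F245073)
theorem F472418 : act 3 n213856 = n210134 := d6_1 D213856 F472416 (iv3 D213855)
theorem F472419 : act 4 n213856 = n183892 := d9_1 D213856 (iv5 D183892) (iv4 F148071) F325912 F325048 (iv5 D65140) D65139 F340573 (iv4 D88359) (iv5 D41249) (iv4 F62464) D88345 (iv4 F340612) F173503 D155997
theorem F472420 : act 7 n213856 = n156129 := d13_2 (iv7 F245074) D213856 (iv5 D156129)
theorem F472421 : act 0 n213856 = n185484 := d17_2 F245076 D213856 F359522 (iv4 F179580) D144354 (iv0 F392585) F392583 F175903 F175901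
theorem F472422 : act 1 n213856 = n185483 := d17_6 (iv1 F84034) (iv5 F84035) F173506 F173503 D155997 D213856 F359526 F179573 F101272
def n213857 : Q := act 6 n156000
theorem D213857 : act 6 n156000 = n213857 := rfl
theorem F472423 : act 2 n213857 = n156002 := d3_1 D213857 (iv6 D156002) D156000
theorem F472424 : act 3 n213857 = n156171 := d7_1 D213857 (iv6 D156171) (iv3 F245078)
theorem F472425 : act 4 n213857 = n197117 := d10_1 D213857 (iv6 D197117) (iv4 F245079)
theorem F472426 : act 5 n213857 = n213233 := d12_1 D213857 (iv6 D213233) F416018 (iv6 D200331) F245083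
theorem F472427 : act 0 n213857 = n202322 := d21_4 (iv5 F347954) (iv1 F245473) F245083 D213857 (iv6 D202322) D202321 (iv1 F426853) F426851 F345601 (iv1 F347951)
theorem F472428 : act 0 n213812 = n213857 := d21_1 (iv5 F472194) F472426 (iv6 D213233) F422909 (iv6 D202112) (iv5 D115377) F176282 D200466 F416566 D202383
def n213858 : Q := act 6 n156001
theorem D213858 : act 6 n156001 = n213858 := rfl
theorem F472429 : act 2 n213858 = n200331 := d3_1 D213858 (iv6 D200331) (iv2 F245085)
theorem F472430 : act 3 n213858 = n156003 := d7_1 D213858 (iv6 D156003) (iv3 F245086)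
theorem F472431 : act 4 n213858 = n194229 := d10_1 D213858 (iv6 F392425) F245088
theorem F472432 : act 5 n213858 = n213231 := d12_1 D213858 (iv6 F469510) F458732 (iv6 D156002) D156001
theorem F472433 : act 0 n213858 = n194561 := d21_10 (iv5 F469458) (iv1 D213214) (iv5 D152829) D152830 F415148 D202374 F423815 (iv1 D155999) D156001 D213858
theorem F472434 : act 0 n201996 = n213858 := d21_4 F179595 (iv1 D115312) D115314 D201996 (iv6 D213858) (iv5 D156001) D155998 F423629 (iv6 D202325) (iv1 F179938)
def n213859 : Q := act 0 n156002
theorem D213859 : act 0 n156002 = n213859 := rfl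
theorem F472435 : act 4 n213859 = n179317 := d18_3 (iv1 D197121) (iv4 F245090) D213859 (iv5 F347856) (iv4 F471054) (iv0 F471057) F426599 D212491 (iv5 F466062)
theorem F472436 : act 2 n202322 = n213859 := d1_3 F472435 F415438 (iv4 F423622)
theorem F472437 : act 6 n201926 = n213859 := d10_0 F472435 F347854 (iv4 F422394)
theorem F472438 : act 7 n213812 = n213859 := d11_0 F472435 F415436 D213812
def n213860 : Q := act 1 n156002
theorem D213860 : act 1 n156002 = n213860 := rfl
theorem F472439 : act 7 n213860 = n202322 := d15_2 (iv0 D213859) D213860 F472436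
theorem F472440 : act 4 n213860 = n179318 := d17_9 (iv1 D179318) (iv5 F233684) F415425 (iv5 D200180) F357049 D202379 (iv0 F458734) F458732 D213860
theorem F472441 : act 2 n213812 = n213860 := d1_3 F472440 (iv2 F415437) D213812
def n213861 : Q := act 7 n156002
theorem D213861 : act 7 n156002 = n213861 := rfl
theorem F472442 : act 3 n213861 = n156004 := d8_1 D213861 (iv7 D156004) (iv3 F245089)
theorem F472443 : act 4 n213861 = n197123 := d11_1 D213861 (iv7 D197123) (iv4 F245090)
theorem F472444 : act 6 n213861 = n156205 := d14_1 D213861 (iv7 D156205) (iv6 D74304) (iv7 F111014) D156002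
theorem F472445 : act 1 n213812 = n213861 := d15_1 (iv0 F472428) (iv7 D213861) (iv2 F472423)
theorem F472446 : act 1 n213861 = n202322 := d15_1 F472445 (iv7 F472439) (iv2 F472441)
theorem F472447 : act 3 n213812 = n204463 := d20_5 F245058 (iv1 F175899) (iv4 F245094) (iv3 F472442) (iv1 F472445) F432609 (iv1 D196429) (iv4 F245057) F245056 D155993
theorem E104002 : n204462 = n202383 := (c6_4 (iv5 F472194) F472447 (iv5 D204463) D204462)
theorem F472448 : act 3 n202383 = n123834 := (sb E104002 (iv3 D204462))
theorem F472449 : act 6 n202383 = n204056 := (sb E104002 F432608)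
theorem F472450 : act 5 n204056 = n156207 := d21_6 (iv5 D115377) F176282 D200466 F416566 D202383 F472449 (iv1 D156207) D156208 F245479 (iv1 F179656)
theorem F472451 : act 3 n156207 = n204057 := d6_1 F472450 (iv5 D204057) D204056
theorem F472452 : act 7 n156207 = n204690 := d13_2 (iv7 F430922) F472450 F433268
theorem F472453 : act 2 n204690 = n156206 := d15_3 (iv0 D156206) D156207 F472452
theorem F472454 : act 2 n197374 = n209886 := d1_3 F455256 F472453 F472399
theorem F472455 : act 7 n209887 = n197374 := d15_2 (iv0 D209886) D209887 F472454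
theorem F472456 : act 7 n197375 = n209886 := d15_2 (iv0 D197374) D197375 (iv2 F472454)
theorem F472457 : act 2 n209887 = n197375 := d4_3 F472456 (iv2 F472454) (iv7 F472455)
theorem F472458 : act 4 n156207 = n197375 := d11_3 F472456 F455256 (iv7 F472452)
theorem E104003 : n209892 = n197330 := ((c20_2 (iv4 F167169) D197330 (iv4 D209892) D209891 F472162 F472160 F469334 (iv1 F430948) (iv4 F430925) (iv3 F472451) (iv1 D156207))).symm
theorem F472459 : act 4 n197330 = n137068 := (sb E104003 (iv4 D209892))
def n213862 : Q := act 0 n156003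
theorem D213862 : act 0 n156003 = n213862 := rfl
theorem F472460 : act 4 n213862 = n209665 := d20_0 (iv1 F454563) F404092 F220172 (iv1 F111479) D156157 (iv4 F393029) F393031 (iv4 F472431) F472430 D213862
theorem F472461 : act 0 n213862 = n156181 := d20_1 (iv4 F472460) (iv4 F404021) F404020 F183334 D150039 (iv4 F237856) (iv1 F400714) (iv4 F454514) F454513 D209665
theorem F472462 : act 3 n192415 = n209665 := d20_5 F107740 (iv1 F107738) (iv4 F104148) D145112 (iv1 F386683) (iv4 F472460) F472461 (iv4 F404021) F404020 F183334
theorem F472463 : act 7 n209665 = n197382 := d8_2 (iv7 F386682) F472462 (iv3 F438406)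
theorem F472464 : act 7 n156179 = n213862 := d11_2 F472463 F438407 F472460
theorem F472465 : act 2 n197382 = n209666 := d15_3 F454560 F454563 F472463
theorem F472466 : act 2 n209665 = n197381 := d15_3 (iv0 D197381) D197382 (iv7 F472463)
theorem F472467 : act 2 n156178 = n213862 := d1_3 F472460 F472466 (iv4 F455198)
theorem F472468 : act 7 n197381 = n209666 := d4_2 (iv7 F472463) F472466 (iv2 F472465)
def n213863 : Q := act 1 n156003
theorem D213863 : act 1 n156003 = n213863 := rfl
theorem F472469 : act 1 n213863 = n156181 := d15_1 D213863 (iv7 D156181) (iv2 F245091)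
theorem F472470 : act 7 n213863 = n156178 := d15_2 (iv0 D213862) D213863 F472467
theorem F472471 : act 4 n209666 = n213863 := d20_0 (iv1 D213863) F245092 (iv3 F366546) (iv1 F392826) F392823 F175796 (iv1 F100135) (iv4 F167215) (iv3 F404091) (iv1 F454560)
theorem F472472 : act 3 n213274 = n213863 := d20_9 F245092 D205928 (iv4 F438460) F415365 (iv1 F244848) (iv3 F244847) (iv4 F465885) (iv1 F465889) D213274 (iv1 D213863)
theorem F472473 : act 2 n213863 = n156179 := d0_1 F472472 (iv3 F429071) F386628 D192398 (iv2 F469662)
def n213864 : Q := act 7 n156003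
theorem D213864 : act 7 n156003 = n213864 := rfl
theorem F472474 : act 2 n213864 = n156181 := d4_1 D213864 (iv7 D156181) (iv2 F245091)
theorem F472475 : act 4 n213864 = n205930 := d11_1 D213864 (iv7 D205930) (iv4 F245092)
theorem F472476 : act 5 n213864 = n213237 := d13_1 D213864 F469524 F458736
theorem F472477 : act 6 n213864 = n156209 := d14_1 D213864 (iv7 D156209) (iv6 D74305) (iv7 F111016) D156003
theorem F472478 : act 1 n156179 = n213864 := d15_1 D156179 (iv7 D213864) F245091
theorem F472479 : act 1 n213864 = n156178 := d15_1 F472478 (iv7 F472470) F472473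
def n213865 : Q := act 0 n156006
theorem D213865 : act 0 n156006 = n213865 := rfl
theorem F472480 : act 4 n213865 = n188082 := d18_3 (iv1 F359970) (iv4 F245103) D213865 (iv5 D188082) F139728 F138956 (iv4 F143947) F143950 D101197
theorem F472481 : act 3 n213865 = n213862 := d20_5 (iv4 F165797) F165800 (iv4 F111029) (iv3 F245102) D213865 F472460 (iv1 F454563) F404092 F220172 (iv1 F111479)
theorem F472482 : act 2 n188085 = n213865 := d15_3 (iv0 D213865) (iv0 F335720) (iv7 F372287)
theorem F472483 : act 7 n213865 = n192392 := d4_2 (iv7 F372287) F472482 F386628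
theorem F472484 : act 1 n189186 = n213865 := d15_1 (iv0 F376000) F472483 F386628
def n213866 : Q := act 7 n156006
theorem D213866 : act 7 n156006 = n213866 := rfl
theorem F472485 : act 2 n213866 = n189186 := d4_1 D213866 F375999 F245530
theorem F472486 : act 3 n213866 = n156008 := d8_1 D213866 (iv7 D156008) (iv3 F245102)
theorem F472487 : act 4 n213866 = n189185 := d11_1 D213866 F375996 (iv4 F245103)
theorem F472488 : act 6 n213866 = n156175 := d14_1 D213866 (iv7 D156175) (iv6 D74293) (iv7 F111023) D156006
theorem F472489 : act 1 n192392 = n213866 := d15_1 (iv0 F386629) (iv7 D213866) (iv2 F245530)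
theorem F472490 : act 1 n213866 = n188085 := d15_1 F472489 F372287 (iv2 F386628)
def n213867 : Q := act 1 n156007
theorem D213867 : act 1 n156007 = n213867 := rfl
theorem F472491 : act 1 n213867 = n156209 := d15_1 D213867 (iv7 D156209) (iv2 F245104)
theorem F472492 : act 7 n213867 = n156206 := d15_2 (iv0 F433269) D213867 (iv2 F472453)
theorem F472493 : act 2 n156207 = n213867 := d4_3 F472492 (iv2 F472453) (iv7 F472452)
theorem F472494 : act 4 n209887 = n213867 := d11_3 F472492 F472399 (iv7 F472455)
theorem F472495 : act 1 n156209 = n204690 := d15_1 F472491 (iv7 F472452) F472493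
def n213868 : Q := act 7 n156007
theorem D213868 : act 7 n156007 = n213868 := rfl
theorem F472496 : act 2 n213868 = n156209 := d4_1 D213868 (iv7 D156209) (iv2 F245104)
theorem F472497 : act 3 n213868 = n203592 := d8_1 D213868 F429036 F245491
theorem F472498 : act 6 n213868 = n156181 := d14_1 D213868 (iv7 D156181) (iv6 D74295) (iv7 F111025) D156007
theorem F472499 : act 1 n156207 = n213868 := d15_1 D156207 (iv7 D213868) F245104
theorem F472500 : act 1 n213868 = n156206 := d15_1 F472499 (iv7 F472492) (iv2 F472493)
def n213869 : Q := act 3 n156010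
theorem D213869 : act 3 n156010 = n213869 := rfl
theorem F472501 : act 2 n213869 = n199616 := d0_1 D213869 F412864 (iv2 F349756) (iv3 D156011) D156010
theorem F472502 : act 4 n213869 = n199405 := d5_2 F432897 D213869 F412020 (iv4 F400781) F432898
theorem F472503 : act 7 n213869 = n156016 := d8_2 F245116 D213869 (iv3 D156016)
theorem F472504 : act 0 n213869 = n196428 := d20_4 (iv4 F448994) F448997 F432897 D213869 F400660 (iv4 F410899) F410901 F393226 F245307 (iv1 F364775)
theorem F472505 : act 0 n156184 = n213869 := d20_4 F60326 D39488 F325780 D156184 (iv3 D213869) (iv4 F432897) (iv1 D204568) (iv4 F344858) (iv3 D178791) (iv1 D85198)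
theorem F472506 : act 5 n213869 = n196479 := d17_1 F472505 F400790 (iv5 F407694) (iv4 D198345) (iv5 D109227) F81068 F330482 D106973 (iv4 F245449)
def n213870 : Q := act 5 n156010
theorem D213870 : act 5 n156010 = n213870 := rfl
theorem F472507 : act 2 n213870 = n156013 := d2_1 D213870 (iv5 D156013) D156010
theorem F472508 : act 3 n213870 = n196479 := d6_1 D213870 (iv5 F472506) (iv3 D213869)
theorem F472509 : act 4 n213870 = n156569 := d9_1 D213870 F349766 (iv4 F412338) (iv5 D199484) (iv4 F362240) (iv5 F432891) F432892 F349760 F246211 F349753 F248779 (iv5 F345423) (iv4 F351246) (iv5 F432896) F432897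
theorem F472510 : act 7 n213870 = n156018 := d13_2 F245116 D213870 (iv5 D156018)
theorem F472511 : act 0 n213870 = n156176 := d17_2 (iv1 F360781) D213870 F245443 F218267 (iv5 F332961) D199083 (iv5 F410580) F410579 (iv4 F111031)
theorem F472512 : act 1 n213870 = n178663 := d17_6 F432666 (iv5 D204479) (iv1 F363104) (iv5 F432896) F432897 D213870 (iv5 D178663) D178661 (iv4 F388951)
def n213871 : Q := act 6 n156010
theorem D213871 : act 6 n156010 = n213871 := rfl
theorem F472513 : act 2 n213871 = n156014 := d3_1 D213871 (iv6 D156014) D156010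
def n213872 : Q := act 3 n156012
theorem D213872 : act 3 n156012 = n213872 := rfl
theorem F472514 : act 2 n213872 = n209427 := d0_1 D213872 (iv3 D209427) F400780 F432898 (iv2 F432899)
theorem F472515 : act 4 n213872 = n209499 := d5_2 D156012 D213872 (iv3 F453936) (iv4 F246211) (iv3 D156011)
theorem F472516 : act 5 n213872 = n199806 := d6_2 (iv5 F345273) D213872 (iv3 D199806)
theorem F472517 : act 7 n213872 = n209476 := d8_2 (iv7 F432894) D213872 (iv3 F453844)
theorem F472518 : act 0 n213872 = n157597 := d20_4 (iv4 F53410) D74206 D156012 D213872 (iv3 F359931) D209148 F452460 F416299 (iv3 D135916) (iv1 D63909)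
theorem F472519 : act 0 n181759 = n213872 := d20_4 F310004 D40241 D86805 D181759 (iv3 D213872) (iv4 D156012) D156009 F245112 F218631 (iv1 F100023)
theorem F472520 : act 6 n189594 = n213872 := d14_5 F472517 (iv6 F471240) F471241 (iv6 F389256) F470341
def n213873 : Q := act 6 n156012
theorem D213873 : act 6 n156012 = n213873 := rfl
theorem F472521 : act 3 n213873 = n189594 := d7_1 D213873 F472520 (iv3 D213872)
theorem F472522 : act 4 n213873 = n156014 := d10_1 D213873 (iv6 D156014) D156012
theorem F472523 : act 5 n213873 = n198282 := d12_1 D213873 (iv6 D198282) D198281 F407459 (iv5 F345273)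
theorem F472524 : act 0 n209440 = n213873 := d21_4 F411728 (iv1 F226511) (iv5 F433715) (iv6 F453713) (iv6 D213873) F345273 (iv1 F345275) D202510 F424328 (iv1 F411726)
def n213874 : Q := act 6 n156013
theorem D213874 : act 6 n156013 = n213874 := rfl
theorem F472525 : act 3 n213874 = n203594 := d7_1 D213874 (iv6 F429042) F349762
theorem F472526 : act 4 n213874 = n208581 := d10_1 D213874 (iv6 D208581) F349769
theorem F472527 : act 7 n213874 = n177996 := d14_2 (iv7 F349761) D213874 (iv6 D177996) F277310 F349755
theorem F472528 : act 0 n213874 = n213273 := d21_4 (iv5 D74209) D74206 D156013 D213874 F469660 (iv5 F458289) (iv1 F458291) (iv5 F459242) F459243 (iv1 D156024)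
theorem F472529 : act 0 n213274 = n213874 := d20_10 F472526 F449995 (iv4 F366401) F366400 (iv1 F111483) (iv3 F220172) (iv4 F404092) (iv1 F454560) F472471 (iv3 F472472)
def n213875 : Q := act 6 n156016
theorem D213875 : act 6 n156016 = n213875 := rfl
theorem F472530 : act 3 n213875 = n156019 := d7_1 D213875 (iv6 D156019) D156016
theorem F472531 : act 4 n213875 = n206348 := d10_1 D213875 (iv6 F440354) (iv4 F358700)
theorem F472532 : act 0 n202301 = n213875 := d21_4 (iv5 F400894) (iv1 D196508) (iv5 F179878) D202301 (iv6 D213875) (iv5 F412867) (iv1 F413622) F413620 (iv6 F416792) (iv1 F416795)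
def n213876 : Q := act 6 n156017
theorem D213876 : act 6 n156017 = n213876 := rfl
theorem F472533 : act 3 n213876 = n209426 := d7_1 D213876 (iv6 D209426) (iv3 F245119)
theorem F472534 : act 4 n213876 = n156019 := d10_1 D213876 (iv6 D156019) D156017
theorem F472535 : act 5 n213876 = n213246 := d12_1 D213876 (iv6 D213246) F413557 (iv6 D199800) (iv5 F332959)
def n213877 : Q := act 4 n156022
theorem D213877 : act 4 n156022 = n213877 := rfl
theorem F472536 : act 2 n213877 = n156025 := d1_1 D213877 (iv4 D156025) (iv2 F245122)
theorem F472537 : act 3 n213877 = n192375 := d5_1 D213877 F386604 F342224 (iv4 D156235) (iv3 F245123)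
theorem F472538 : act 7 n213877 = n198025 := d11_2 F404219 D213877 F406548
theorem F472539 : act 0 n213877 = n198026 := d17_0 F406551 F364228 D109206 F332966 (iv5 D135738) D135736 (iv5 F404213) F404216 D213877
theorem F472540 : act 1 n213877 = n197732 := d18_6 F452624 F452622 F410584 (iv4 F111031) D156022 D213877 F405564 F366519 F245025
theorem F472541 : act 6 n192374 = n213877 := d21_9 F406551 F364228 D109206 F169168 D140341 (iv6 F423093) F423094 D212149 F464499 F472539
def n213878 : Q := act 6 n156022
theorem D213878 : act 6 n156022 = n213878 := rfl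
theorem F472542 : act 2 n213878 = n156026 := d3_1 D213878 (iv6 D156026) (iv2 F245122)
theorem F472543 : act 3 n213878 = n156236 := d7_1 D213878 (iv6 D156236) (iv3 F245123)
theorem F472544 : act 4 n213878 = n192374 := d10_1 D213878 F472541 (iv4 D213877)
theorem F472545 : act 5 n213878 = n200118 := d12_1 D213878 (iv6 F415097) (iv5 D115279) (iv6 F111032) D156022
def n213879 : Q := act 6 n156023
theorem D213879 : act 6 n156023 = n213879 := rfl
theorem F472546 : act 3 n213879 = n193150 := d7_1 D213879 (iv6 F388952) F366517
theorem F472547 : act 4 n213879 = n193152 := d10_1 D213879 (iv6 F388957) (iv4 F245625)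
theorem F472548 : act 7 n213879 = n193280 := d14_2 (iv7 F404205) D213879 F458300 (iv7 F458301) F404204
def n213880 : Q := act 3 n156024
theorem D213880 : act 3 n156024 = n213880 := rfl
theorem F472549 : act 0 n213880 = n196400 := d19_4 (iv1 F351242) (iv5 F350387) F245623 D213880 (iv5 F413625) (iv4 D199817) F363565 (iv1 F410721) F412146 (iv4 F441127) F441125 (iv1 F333057) (iv5 D125656) F93021 (iv3 D29987) (iv1 D14239) D14241 D29997 D63522
theorem F472550 : act 4 n213880 = n198349 := d20_6 (iv4 F332265) F411374 F411371 (iv3 F404217) (iv1 F404221) D213880 (iv1 F407708) F332213 D156077 F317692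
theorem F472551 : act 0 n196397 = n213880 := d20_4 (iv4 F390699) F415938 (iv4 F423627) F423626 (iv3 D213880) (iv4 F245623) (iv1 F245624) (iv4 F245184) (iv3 F443610) F443614
def n213881 : Q := act 5 n156025
theorem D213881 : act 5 n156025 = n213881 := rfl
theorem F472552 : act 3 n213881 = n197657 := d6_1 D213881 F405247 (iv3 F245124)
theorem F472553 : act 4 n213881 = n199802 := d9_1 D213881 (iv5 F424121) F424122 (iv5 F341515) (iv4 F245112) (iv5 F404218) (iv4 F406548) (iv5 F406923) (iv4 F413561) F413559 (iv4 D135925) (iv5 D63911) (iv4 F53410) D74209 D156025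
theorem F472554 : act 7 n213881 = n211393 := d13_2 F404168 D213881 F461391
theorem F472555 : act 0 n213881 = n204930 := d17_2 (iv1 F350392) D213881 (iv5 D204930) (iv4 F317014) (iv5 F247050) (iv0 F245115) F220230 D156050 (iv4 F361298)
theorem F472556 : act 1 n213881 = n170878 := d17_6 (iv1 F349774) (iv5 D156018) (iv1 D74207) D74209 D156025 D213881 F363356 D197663 F405281
theorem F472557 : act 6 n213881 = n208553 := d21_3 D108876 (iv1 F350392) D213881 (iv1 D208553) (iv6 D134723) (iv5 D63312) (iv1 F48051) (iv5 F78127) D106932 F364229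
def n213882 : Q := act 6 n156025
theorem D213882 : act 6 n156025 = n213882 := rfl
theorem F472558 : act 2 n213882 = n192374 := d3_1 D213882 F472541 F472536
theorem F472559 : act 3 n213882 = n208631 := d7_1 D213882 (iv6 D208631) (iv3 F245124)
theorem F472560 : act 4 n213882 = n156026 := d10_1 D213882 (iv6 D156026) D156025
theorem F472561 : act 0 n213882 = n212210 := d21_4 (iv5 F363356) (iv1 F472556) (iv5 D213881) D213882 F464761 (iv5 F424207) F404980 (iv5 F423502) F423500 (iv1 D197663)
theorem F472562 : act 0 n211071 = n156026 := d20_1 D211071 (iv4 F472560) F472559 F450253 F396896 F162129 (iv1 F101682) (iv4 D65988) D65987 D140631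
def n213883 : Q := act 7 n156026
theorem D213883 : act 7 n156026 = n213883 := rfl
theorem F472563 : act 3 n213883 = n156033 := d8_1 D213883 (iv7 D156033) (iv3 F245125)
theorem F472564 : act 5 n213883 = n200121 := d13_1 D213883 F415111 (iv5 F245126)
def n213884 : Q := act 6 n156028
theorem D213884 : act 6 n156028 = n213884 := rfl
theorem F472565 : act 2 n213884 = n212752 := d3_1 D213884 F467355 F355484
theorem F472566 : act 3 n213884 = n156029 := d7_1 D213884 (iv6 D156029) D156028
theorem F472567 : act 4 n213884 = n207164 := d10_1 D213884 (iv6 D207164) F245132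
theorem F472568 : act 5 n213884 = n212717 := d12_1 D213884 F467236 F426851 F345601 (iv5 F245130)
theorem F472569 : act 0 n213884 = n194437 := d21_4 (iv5 F347949) F347950 (iv5 F245130) D213884 F393213 D194450 F416019 F416018 (iv6 D200331) (iv1 F245474)
theorem F472570 : act 0 n212716 = n213884 := d21_4 (iv5 F422522) F422521 (iv5 F423760) (iv6 F467231) (iv6 D213884) F245130 (iv1 F347951) (iv5 F347954) F347955 (iv1 F245600)
theorem F472571 : act 7 n213884 = n212753 := d15_2 (iv0 F428505) (iv0 F472569) (iv2 F467362)
def n213885 : Q := act 0 n156029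
theorem D213885 : act 0 n156029 = n213885 := rfl
def n213886 : Q := act 1 n156029
theorem D213886 : act 1 n156029 = n213886 := rfl
theorem F472572 : act 1 n213886 = n156259 := d15_1 D213886 (iv7 D156259) (iv2 F245144)
def n213887 : Q := act 5 n156029
theorem D213887 : act 5 n156029 = n213887 := rfl
theorem F472573 : act 2 n213887 = n156258 := d2_1 D213887 (iv5 D156258) (iv2 F245144)
theorem F472574 : act 3 n213887 = n212717 := d6_1 D213887 (iv5 F472568) F472566
theorem F472575 : act 6 n213887 = n191292 := d12_2 D156029 D213887 F382909 (iv6 D107619) (iv5 F111036)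
theorem F472576 : act 4 n213887 = n191293 := d16_2 F403628 D213887 F382913 (iv4 F458136) (iv5 D210585) D210584 (iv5 F458133) (iv7 D197303) (iv2 F403627)
theorem F472577 : act 7 n212763 = n213887 := d8_0 F472574 F467237 D212763
def n213888 : Q := act 7 n156029
theorem D213888 : act 7 n156029 = n213888 := rfl
theorem F472578 : act 2 n213888 = n156259 := d4_1 D213888 (iv7 D156259) (iv2 F245144)
theorem F472579 : act 3 n213888 = n212753 := d8_1 D213888 (iv7 F472571) F472566
theorem F472580 : act 5 n213888 = n212763 := d13_1 D213888 F472577 (iv5 D213887)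
theorem F472581 : act 6 n213888 = n156267 := d14_1 D213888 (iv7 D156267) (iv6 D74333) F111039 D156029
theorem F472582 : act 1 n156259 = n213885 := d15_0 (iv0 D213885) D213888 F472578
theorem F472583 : act 1 n156257 = n213888 := d15_1 D156257 (iv7 D213888) F245144
theorem F472584 : act 4 n156257 = n197419 := d20_0 (iv1 D197419) F167238 F111094 D74233 D156062 (iv4 F415557) (iv1 F415564) (iv4 F467361) (iv3 F472579) (iv1 F472583)
theorem F472585 : act 3 n211245 = n197419 := d20_5 (iv4 D72612) D72610 (iv4 F278982) F404358 (iv1 F460789) (iv4 F472584) (iv1 D156257) (iv4 F167109) (iv3 F366511) (iv1 D153563)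
theorem F472586 : act 5 n197419 = n211243 := d6_2 D211245 F472585 F460781
theorem F472587 : act 1 n213888 = n156256 := d15_0 (iv0 D156256) D156259 (iv2 F472578)
def n213889 : Q := act 5 n156030
theorem D213889 : act 5 n156030 = n213889 := rfl
theorem F472588 : act 2 n213889 = n156266 := d2_1 D213889 (iv5 D156266) (iv2 F245145)
theorem F472589 : act 6 n213889 = n185170 := d12_2 D156030 D213889 (iv5 F359543) F179611 (iv5 F111042)
theorem F472590 : act 4 n213889 = n191495 := d16_4 (iv4 F438777) F438778 F403608 D213889 (iv5 D191495) (iv4 F310882) D203492 F428539 F392768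
theorem F472591 : act 0 n213889 = n184952 := d20_7 D153840 F310369 (iv4 F310893) D154579 F366779 (iv3 F383578) (iv4 F472590) (iv4 D184952) (iv3 D88171) (iv1 F308279)
def n213890 : Q := act 7 n156030
theorem D213890 : act 7 n156030 = n213890 := rfl
theorem F472592 : act 2 n213890 = n156267 := d4_1 D213890 (iv7 D156267) (iv2 F245145)
theorem F472593 : act 3 n213890 = n201998 := d8_1 D213890 F422673 F366544
theorem F472594 : act 6 n213890 = n156259 := d14_1 D213890 (iv7 D156259) (iv6 D74331) (iv7 F111041) D156030
theorem F472595 : act 1 n156265 = n213890 := d15_1 D156265 (iv7 D213890) F245145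
theorem F472596 : act 1 n213890 = n156264 := d15_1 F472595 (iv7 F463000) F461045
theorem F472597 : act 5 n213253 = n213890 := d21_6 (iv5 D72120) (iv1 D33298) D33300 D72130 D152873 D213253 (iv1 F472595) (iv5 F469468) (iv6 D213218) (iv1 F240050)
theorem F472598 : act 7 n213889 = n213253 := d13_0 F472597 (iv7 D213890) D213889
theorem F472599 : act 1 n213594 = n213253 := d18_8 (iv1 F472595) F423687 (iv1 D197415) F167236 D156092 F388326 (iv0 F388323) D213594 F472597
def n213891 : Q := act 0 n156036
theorem D213891 : act 0 n156036 = n213891 := rfl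
theorem F472600 : act 4 n213891 = n213476 := d18_3 F360643 (iv4 F245160) D213891 (iv5 D213476) (iv4 D153817) D153816 (iv4 F469419) (iv0 F469421) (iv5 D202045)
theorem F472601 : act 5 n213891 = n210178 := d19_1 D213891 F456473 F270081 (iv1 F126928) F316632 (iv4 F314473) F298276 (iv1 F118872) D80561 (iv4 F297643) (iv3 F358171) (iv1 F358169) (iv5 F358168) F211180 F213972 (iv1 D133182) F97394 (iv4 F111116) (iv3 F245159)
theorem F472602 : act 3 n213891 = n210179 := d20_5 F162068 F78236 (iv4 F111116) (iv3 F245159) D213891 F456476 F424046 F424042 (iv3 D144448) F162069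
theorem F472603 : act 2 n197414 = n213891 := d15_3 (iv0 D213891) (iv0 F422555) (iv7 F422557)
theorem F472604 : act 1 n197417 = n213891 := d15_0 (iv0 D213891) (iv7 F245161) (iv2 F404192)
theorem F472605 : act 7 n213891 = n197415 := d15_2 F422556 F472604 (iv2 F422554)
def n213892 : Q := act 5 n156036
theorem D213892 : act 5 n156036 = n213892 := rfl
theorem F472606 : act 2 n213892 = n197416 := d2_1 D213892 (iv5 D197416) (iv2 F245158)
theorem F472607 : act 3 n213892 = n156075 := d6_1 D213892 (iv5 D156075) (iv3 F245159)
theorem F472608 : act 6 n213892 = n156037 := d12_2 D156036 D213892 (iv5 D156037) (iv6 D74217) D74216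
theorem F472609 : act 7 n213892 = n206296 := d13_2 F245161 D213892 F440124
theorem F472610 : act 4 n213892 = n203656 := d16_2 (iv4 F245160) D213892 F429261 (iv4 F304765) D153808 D213469 (iv5 F470548) (iv7 D156093) (iv2 F245044)
def n213893 : Q := act 3 n156038
theorem D213893 : act 3 n156038 = n213893 := rfl
theorem F472611 : act 2 n213893 = n200016 := d0_1 D213893 F414635 F174598 (iv3 F397073) (iv2 F397089)
theorem F472612 : act 5 n213893 = n197366 := d6_2 (iv5 F344467) D213893 (iv3 D197366)
theorem F472613 : act 6 n213893 = n200015 := d7_2 F397092 D213893 F414629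
theorem F472614 : act 4 n213893 = n205083 := d20_6 (iv4 D64307) F48720 D34048 D74221 D156038 D213893 (iv1 D205083) F201750 (iv3 D108023) (iv1 F100141)
theorem F472615 : act 1 n205026 = n213893 := d17_8 (iv1 D205083) F201751 (iv1 F393993) (iv5 D136574) D136573 F352946 (iv0 F404160) (iv5 F434673) F472614
theorem F472616 : act 0 n212803 = n194326 := d21_7 (iv5 F472612) (iv1 F472615) F434673 F404158 F390761 (iv6 F392960) (iv5 F467583) (iv5 D194326) (iv6 F355181) (iv1 F404068)
def n213894 : Q := act 6 n156040
theorem D213894 : act 6 n156040 = n213894 := rfl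
theorem F472617 : act 2 n213894 = n156041 := d3_1 D213894 (iv6 D156041) D156040
theorem F472618 : act 3 n213894 = n196412 := d7_1 D213894 (iv6 D196412) (iv3 F245163)
theorem F472619 : act 4 n213894 = n210935 := d10_1 D213894 F459365 F337394
theorem F472620 : act 7 n211064 = n213894 := d11_0 F472619 F459366 D211064
def n213895 : Q := act 0 n156041
theorem D213895 : act 0 n156041 = n213895 := rfl
def n213896 : Q := act 5 n156041
theorem D213896 : act 5 n156041 = n213896 := rfl
theorem F472621 : act 3 n213896 = n156042 := d6_1 D213896 (iv5 D156042) (iv3 F245167)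
theorem F472622 : act 6 n213896 = n213345 := d12_2 D156041 D213896 F470034 (iv6 D197413) F167234
theorem F472623 : act 4 n213896 = n212116 := d16_2 F360105 D213896 F464381 F461405 F360121 (iv4 D140619) D140620 (iv7 F459366) F459363
theorem F472624 : act 0 n213896 = n205490 := d17_2 F406953 D213896 (iv5 F436671) (iv4 F449975) (iv5 D208577) (iv0 F363355) (iv5 F406951) (iv0 D198130) D198132
def n213897 : Q := act 7 n156041
theorem D213897 : act 7 n156041 = n213897 := rfl
theorem F472625 : act 2 n213897 = n211064 := d4_1 D213897 F472620 F472617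
theorem F472626 : act 3 n213897 = n156043 := d8_1 D213897 (iv7 D156043) (iv3 F245167)
theorem F472627 : act 4 n213897 = n210934 := d11_1 D213897 F459359 F360105
theorem F472628 : act 6 n213897 = n211916 := d14_1 D213897 F463570 F227237 F164853 D156041
theorem F472629 : act 1 n211064 = n213895 := d15_0 (iv0 D213895) D213897 F472625
def n213898 : Q := act 7 n156042
theorem D213898 : act 7 n156042 = n213898 := rfl
theorem F472630 : act 2 n213898 = n206060 := d4_1 D213898 F439057 (iv2 F245168)
theorem F472631 : act 4 n213898 = n162607 := d11_1 D213898 (iv7 F366933) (iv4 F366038)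
theorem F472632 : act 5 n213898 = n156043 := d13_1 D213898 (iv7 D156043) D156042
theorem F472633 : act 1 n195459 = n213898 := d15_1 (iv0 F397056) (iv7 D213898) F245168
theorem F472634 : act 1 n213898 = n195456 := d15_1 F472633 F397047 (iv2 F397054)
theorem F472635 : act 6 n213898 = n179951 := d21_5 F438074 F456469 F456465 F404356 (iv1 F472634) F434686 (iv1 D197257) D197259 (iv6 F438592) F438595
def n213899 : Q := act 3 n156044
theorem D213899 : act 3 n156044 = n213899 := rfl
theorem F472636 : act 2 n213899 = n209367 := d0_1 D213899 F453414 F278652 F443621 (iv2 F443620)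
theorem F472637 : act 4 n213899 = n207654 := d5_2 (iv4 F390711) D213899 (iv3 F445864) F369115 (iv3 F390710)
theorem F472638 : act 5 n213899 = n156050 := d6_2 (iv5 F416801) D213899 (iv3 F416797)
theorem F472639 : act 7 n213899 = n209368 := d8_2 F390712 D213899 F453417
theorem F472640 : act 0 n213899 = n156056 := d20_4 F423627 (iv1 F423632) (iv4 F390711) D213899 (iv3 D156056) (iv4 F176194) (iv1 F176196) F166948 D156028 (iv1 F423631)
theorem F472641 : act 1 n213899 = n209882 := d15_1 (iv0 F472640) F455243 F453530
def n213900 : Q := act 5 n156049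
theorem D213900 : act 5 n156049 = n213900 := rfl
theorem F472642 : act 2 n213900 = n209368 := d2_1 D213900 (iv5 F472344) F472347
theorem F472643 : act 3 n213900 = n178766 := d6_1 D213900 (iv5 F313697) (iv3 F245183)
theorem F472644 : act 4 n213900 = n204781 := d9_1 D213900 F433554 F400481 (iv5 D196365) F164790 D108876 F361298 (iv5 F472638) F472637 F445863 (iv4 F449000) (iv5 F449952) F449951 (iv5 F457298) F457297
theorem F472645 : act 7 n213900 = n209367 := d13_2 F366720 D213900 F453415
theorem F472646 : act 0 n213900 = n209882 := d17_2 D156049 D213900 (iv5 D209882) (iv4 F345282) (iv5 D140615) (iv0 F345276) (iv5 F364771) (iv0 D138450) (iv4 F111080)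
theorem F472647 : act 1 n213900 = n156056 := d17_6 (iv1 F405295) F404843 (iv1 F400516) (iv5 F457298) F457297 D213900 F245194 D156118 (iv4 F405294)
theorem F472648 : act 6 n204780 = n213900 := d10_0 F472644 (iv6 D204781) D204780
def n213901 : Q := act 0 n156052
theorem D213901 : act 0 n156052 = n213901 := rfl
theorem F472649 : act 5 n213901 = n199989 := d17_3 D202144 (iv5 F423036) D213901 F414499 (iv5 F464590) (iv0 F464594) F461440 (iv0 D200115) (iv4 F179707)
theorem F472650 : act 3 n213901 = n199990 := d20_5 F179716 (iv1 F171695) F166051 (iv3 F245185) D213901 F414502 F180845 F339853 F339850 D115425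
theorem F472651 : act 4 n213901 = n212210 := d20_8 (iv4 D140811) (iv1 F101735) (iv4 F101670) F101669 (iv1 F100840) (iv3 F221648) (iv4 F245186) D213901 (iv3 D212210) F353379
theorem F472652 : act 6 n213901 = n196510 := d21_5 F247038 (iv1 F364775) F220230 D156052 D213901 (iv5 F431727) F431728 F422825 (iv6 F245325) (iv1 F245329)
theorem F472653 : act 1 n200125 = n213901 := d15_0 (iv0 D213901) (iv7 F245187) (iv2 F415117)
theorem F472654 : act 2 n202022 = n213901 := d3_3 F472652 F400914 D202022
theorem F472655 : act 7 n202169 = n213901 := d14_0 F472652 (iv7 F400904) F322283 (iv7 F239492) F423114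
def n213902 : Q := act 1 n156052
theorem D213902 : act 1 n156052 = n213902 := rfl
theorem F472656 : act 1 n213902 = n200125 := d15_1 D213902 (iv7 F423088) F423087
theorem F472657 : act 7 n213902 = n202022 := d15_2 (iv0 D213901) D213902 F472654
theorem F472658 : act 3 n206402 = n213902 := d19_19 (iv1 D213902) F423036 F423033 (iv3 D145378) (iv1 F331037) (iv5 D140905) (iv4 D66097) D66096 (iv1 F342393) (iv5 D116028) (iv4 F180563) F331776 (iv1 F152917) (iv5 F136722) F184763 (iv3 F333711) (iv1 F255193) D161882 (iv4 F440614)
theorem F472659 : act 2 n213902 = n202169 := d0_1 F472658 F423112 F318327 (iv3 F239995) F440615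
theorem F472660 : act 6 n213902 = n202088 := d7_2 (iv6 F440618) F472658 (iv3 F422861)
def n213903 : Q := act 1 n156057
theorem D213903 : act 1 n156057 = n213903 := rfl
theorem F472661 : act 1 n213903 = n200307 := d15_1 D213903 (iv7 D200307) (iv2 F245196)
theorem F472662 : act 7 n213903 = n200305 := d15_2 F404300 D213903 (iv2 F415922)
theorem F472663 : act 4 n213903 = n156273 := d18_7 (iv1 F404553) F404550 (iv1 F361581) (iv4 F404179) F416368 F416367 D213903 F404271 (iv5 F404272)
theorem F472664 : act 5 n213903 = n203544 := d18_9 (iv1 D203544) (iv4 D119491) D119489 D203541 F428802 (iv4 F472243) F472247 F416367 D213903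
theorem F472665 : act 3 n202146 = n213903 := d20_9 (iv4 F416367) (iv1 F472247) F472243 (iv3 F423741) (iv1 D202354) F415096 (iv4 D200118) (iv1 F415089) (iv4 F423043) (iv1 D213903)
theorem F472666 : act 2 n213903 = n200306 := d0_1 F472665 (iv3 F415924) F179461 (iv3 F179711) (iv2 F423042)
theorem F472667 : act 6 n213903 = n202050 := d7_2 F470433 F472665 (iv3 F470432)
def n213904 : Q := act 7 n156057
theorem D213904 : act 7 n156057 = n213904 := rfl
theorem F472668 : act 2 n213904 = n200307 := d4_1 D213904 (iv7 D200307) (iv2 F245196)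
theorem F472669 : act 3 n213904 = n199389 := d8_1 D213904 (iv7 F424332) F424334
theorem F472670 : act 4 n213904 = n211266 := d11_1 D213904 F460867 F416367
theorem F472671 : act 5 n213904 = n202073 := d13_1 D213904 (iv7 D202073) (iv5 F245197)
theorem F472672 : act 6 n213904 = n206399 := d14_1 D213904 F440598 (iv6 D137057) (iv7 F111090) D156057
theorem F472673 : act 1 n200306 = n213904 := d15_1 D200306 (iv7 D213904) F245196
theorem F472674 : act 1 n213904 = n200305 := d15_1 F472673 (iv7 F472662) F472666
def n213905 : Q := act 3 n156058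
theorem D213905 : act 3 n156058 = n213905 := rfl
theorem F472675 : act 6 n213905 = n202058 := d7_2 (iv6 F455214) D213905 (iv3 D202058)
theorem F472676 : act 7 n213905 = n203551 := d8_2 F472353 D213905 (iv3 F472355)
theorem F472677 : act 4 n213905 = n203500 := d20_6 (iv4 D74240) (iv1 D34056) (iv4 F53432) (iv3 F111094) D156058 D213905 (iv1 D203500) D203501 F428583 (iv1 F245228)
theorem F472678 : act 2 n203552 = n213905 := d1_3 F472677 F428581 D203552
theorem F472679 : act 5 n213753 = n213905 := d16_1 D213753 F472677 (iv5 F428580) (iv4 D203094) F184255 (iv4 F426504) F426505 (iv7 F428911) F428910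
theorem F472680 : act 0 n203508 = n213905 := d18_2 (iv1 F428607) D203508 F472677 (iv5 F428580) (iv4 D203094) (iv0 D117660) D117661 D203096 (iv5 F428604)
theorem F472681 : act 1 n203506 = n213905 := d18_6 (iv1 D54897) F42521 D26557 D54902 D119302 D203506 F472677 F428578 (iv5 D119294)
def n213906 : Q := act 4 n156058
theorem D213906 : act 4 n156058 = n213906 := rfl
theorem F472682 : act 2 n213906 = n197300 := d1_1 D213906 F472357 (iv2 F472350)
theorem F472683 : act 6 n213906 = n202059 := d10_2 (iv6 F455214) D213906 (iv4 D202059)
theorem F472684 : act 7 n213906 = n197301 := d11_2 F472353 D213906 (iv4 F472361)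
theorem F472685 : act 0 n213906 = n197303 := d20_1 D213906 F403906 (iv3 F366513) F239483 (iv3 F318495) (iv4 D74240) (iv1 D34056) (iv4 F53432) (iv3 F111094) D156058
theorem F472686 : act 0 n197224 = n213906 := d20_7 (iv4 D203506) D203505 (iv4 F428610) (iv3 F467229) F472570 F472566 (iv4 F403628) (iv4 D213906) D213905 (iv1 F472681)
def n213907 : Q := act 5 n156058
theorem D213907 : act 5 n156058 = n213907 := rfl
theorem F472687 : act 3 n213907 = n213753 := d6_1 D213907 F472679 (iv3 D213905)
theorem F472688 : act 0 n213907 = n213160 := d21_1 D213907 F469277 (iv6 D201905) (iv1 F179476) (iv6 F336208) F100350 (iv1 D34051) (iv5 F78995) D74232 D156058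
theorem F472689 : act 1 n213907 = n185253 := d15_1 (iv0 F472688) F422317 (iv2 F469275)
def n213908 : Q := act 4 n156059
theorem D213908 : act 4 n156059 = n213908 := rfl
theorem F472690 : act 2 n213908 = n197301 := d1_1 D213908 (iv4 F472361) (iv2 F472354)
theorem F472691 : act 7 n213908 = n197300 := d11_2 (iv7 F472351) D213908 F472357
theorem F472692 : act 0 n213908 = n197224 := d18_2 (iv1 F472366) D213908 F403628 D213887 F472576 (iv0 F382914) (iv4 F455077) F456306 (iv5 F472364)
theorem F472693 : act 0 n197303 = n213908 := d20_10 (iv4 D213908) (iv1 D156059) (iv4 F167238) F167237 F112178 (iv3 F318746) (iv4 D54462) D54460 D118240 (iv3 F403905)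
def n213909 : Q := act 5 n156059
theorem D213909 : act 5 n156059 = n213909 := rfl
theorem F472694 : act 0 n213160 = n213909 := d21_10 (iv5 D213909) (iv1 D156059) D156060 F245200 D156065 (iv6 F454996) F454995 (iv1 F239921) D152738 D213160
def n213910 : Q := act 6 n156059
theorem D213910 : act 6 n156059 = n213910 := rfl
theorem F472695 : act 3 n213910 = n160328 := d7_1 D213910 (iv6 F386038) F386039
theorem F472696 : act 7 n213910 = n202066 := d14_2 (iv7 F472351) D213910 (iv6 D202066) (iv7 F438325) (iv6 F472349)
theorem F472697 : act 1 n210775 = n213910 := d15_1 (iv0 F458746) F472696 F438326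
theorem F472698 : act 0 n210774 = n209893 := d21_7 (iv5 F469277) F472694 (iv5 D213909) D213910 (iv1 F472697) (iv6 D210775) D210774 (iv5 D209893) D209894 (iv1 F455272)
theorem E104004 : n210773 = n201896 := ((c21_10 D210774 F472698 (iv5 D209893) D209894 (iv1 F455272) (iv6 D201905) (iv5 F336244) (iv1 F336252) F360639 D201896 (iv1 D210773))).symm
theorem F472699 : act 0 n201896 = n139660 := (sb E104004 (iv1 D210773))
def n213911 : Q := act 0 n156060
theorem D213911 : act 0 n156060 = n213911 := rfl
theorem F472700 : act 3 n213911 = n202264 := d20_5 F329586 (iv1 D88306) (iv4 F329340) (iv3 F245199) D213911 F423420 (iv1 F346081) (iv4 F391001) (iv3 D193781) F357603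
theorem F472701 : act 6 n213911 = n202264 := d21_5 F346058 (iv1 D74234) D74235 (iv6 F245200) D213911 (iv5 D202264) (iv1 D115513) D115514 F179803 (iv1 F346056)
theorem F472702 : act 2 n203559 = n213911 := d15_3 (iv0 D213911) (iv0 F455079) F455078
theorem F472703 : act 1 n210136 = n213911 := d15_0 (iv0 D213911) (iv7 F390543) (iv2 F456305)
theorem F472704 : act 7 n213911 = n203072 := d15_2 F456306 F472703 (iv2 F455076)
theorem F472705 : act 5 n201906 = n213911 := d21_0 (iv1 F472703) (iv5 F472364) F472365 (iv1 F360644) (iv6 D115345) D115344 (iv1 F360641) (iv5 D115242) D115243 D201906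
theorem F472706 : act 4 n203073 = n213911 := d11_3 F472704 (iv4 F452786) F452787
def n213912 : Q := act 1 n156063
theorem D213912 : act 1 n156063 = n213912 := rfl
theorem F472707 : act 7 n213912 = n203577 := d15_2 (iv0 F366406) D213912 F428965
theorem F472708 : act 3 n203506 = n213912 := d19_19 (iv1 D213912) (iv5 F388350) F388349 F245252 D156097 F245263 (iv4 F204068) (iv3 F431885) F431889 (iv5 D197517) (iv4 F327854) F389495 (iv1 D193335) (iv5 D101461) (iv4 F130108) F130107 (iv1 F184664) D119302 D203506
theorem F472709 : act 4 n198046 = n213912 := d20_0 (iv1 D213912) (iv4 F389400) F389399 (iv1 D108436) (iv3 F167644) (iv4 F172343) F374452 (iv4 F155598) (iv3 F388290) F409193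
theorem F472710 : act 6 n198045 = n213912 := d21_9 (iv5 F388350) F469274 (iv5 D213159) F336253 (iv1 F182531) D202138 (iv5 F423021) (iv1 F222595) (iv5 F406578) (iv1 D213912)
theorem F472711 : act 0 n210119 = n213912 := d21_4 D152781 D213177 F469340 (iv6 F456241) (iv6 F472710) F406578 D210549 (iv5 F458001) F412437 (iv1 D152779)
theorem F472712 : act 2 n210118 = n213912 := d15_3 (iv0 F472711) F456242 F456239
def n213913 : Q := act 2 n156063
theorem D213913 : act 2 n156063 = n213913 := rfl
theorem F472713 : act 3 n213913 = n210122 := d0_2 D156063 D213913 (iv2 D210122) (iv3 D137642) F167024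
theorem F472714 : act 7 n213913 = n210119 := d4_2 (iv7 F245204) D213913 (iv2 D210119)
theorem F472715 : act 1 n213913 = n210118 := d15_0 (iv0 D210118) (iv7 F245204) D213913
theorem F472716 : act 1 n203577 = n213913 := d15_0 F472715 (iv7 F456239) (iv2 F428965)
def n213914 : Q := act 3 n156066
theorem D213914 : act 3 n156066 = n213914 := rfl
theorem F472717 : act 5 n213914 = n201911 := d6_2 (iv5 F245215) D213914 (iv3 D201911)
theorem F472718 : act 7 n213914 = n202270 := d8_2 (iv7 F245214) D213914 F423431
theorem F472719 : act 0 n213914 = n213165 := d19_4 F375569 (iv5 F382903) F382904 D213914 (iv5 D213165) (iv4 F436685) F436688 (iv1 D128013) (iv5 F352716) F352715 (iv3 D104710) (iv1 F137861) F137858 (iv4 D44607) (iv3 F70124) D95465 (iv5 F150258) (iv4 F368445) (iv3 F375566)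
def n213915 : Q := act 6 n156066
theorem D213915 : act 6 n156066 = n213915 := rfl
theorem F472720 : act 2 n213915 = n202274 := d3_1 D213915 (iv6 D202274) F245216
theorem F472721 : act 0 n213915 = n212736 := d21_4 F179810 (iv1 F179483) (iv5 F245215) D213915 (iv6 D212736) F456254 (iv1 D210121) (iv5 F434184) F434181 F220804
def n213916 : Q := act 0 n156075
theorem D213916 : act 0 n156075 = n213916 := rfl
theorem F472722 : act 5 n213916 = n195430 := d17_3 F111117 D156075 D213916 F396989 F162199 F101905 F47125 (iv0 F49722) (iv4 F103691)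
theorem F472723 : act 4 n213916 = n210349 := d18_1 D213916 (iv1 F457148) (iv4 F458068) (iv5 D210568) F222613 F103692 (iv4 F103717) (iv0 F111119) D156075
theorem F472724 : act 2 n205993 = n213916 := d15_3 (iv0 D213916) (iv0 F403821) (iv7 F438736)
theorem F472725 : act 1 n211917 = n213916 := d15_0 (iv0 D213916) F245245 (iv2 F463572)
theorem F472726 : act 7 n213916 = n211942 := d15_2 (iv0 F463575) F472725 (iv2 F463669)
def n213917 : Q := act 6 n156077
theorem D213917 : act 6 n156077 = n213917 := rfl
theorem F472727 : act 2 n213917 = n178768 := d3_1 D213917 (iv6 D178768) (iv2 F317694)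
theorem F472728 : act 3 n213917 = n156080 := d7_1 D213917 (iv6 D156080) D156077
theorem F472729 : act 4 n213917 = n193113 := d10_1 D213917 (iv6 F448619) F448617
theorem F472730 : act 5 n213917 = n202719 := d12_1 D213917 (iv6 D202719) (iv5 D116574) F323215 (iv5 F245375)
theorem F472731 : act 7 n213917 = n202157 := d14_2 (iv7 F317695) D213917 F423276 F423275 (iv6 D178779)
def n213918 : Q := act 0 n156085
theorem D213918 : act 0 n156085 = n213918 := rfl
theorem F472732 : act 4 n213918 = n212137 := d18_3 D200106 F415032 D213918 F464454 (iv4 F461424) (iv0 D211405) D211407 F461438 (iv5 D200107)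
theorem F472733 : act 3 n213918 = n213163 := d20_5 F423687 (iv1 D197415) F167236 (iv3 F245251) D213918 F469287 (iv1 F458991) F422674 (iv3 F472593) (iv1 F472595)
theorem F472734 : act 2 n202135 = n213918 := d15_3 (iv0 D213918) (iv0 F351549) D202135
theorem F472735 : act 7 n213918 = n156087 := d4_2 D202135 F472734 (iv2 F366112)
theorem E104005 : n202135 = n156086 := (c15_4 (iv0 D156086) D156087 (iv7 F472735) (iv2 F472734))
theorem F472736 : act 2 n156086 = n213918 := (sb E104005 F472734)
theorem F472737 : act 7 n156086 = n115397 := (sb E104005 (iv7 D202135))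
theorem F472738 : act 6 n202141 = n213918 := d14_5 F472735 F366111 F180676 D115401 D202141
theorem F472739 : act 1 n156089 = n213918 := d15_1 F351550 F472735 (iv2 F366112)
def n213919 : Q := act 5 n156085
theorem D213919 : act 5 n156085 = n213919 := rfl
theorem F472740 : act 2 n213919 = n156088 := d2_1 D213919 (iv5 D156088) (iv2 F245250)
theorem F472741 : act 3 n213919 = n156092 := d6_1 D213919 (iv5 D156092) (iv3 F245251)
theorem F472742 : act 6 n213919 = n156088 := d12_2 D156085 D213919 (iv5 D156088) (iv6 D74248) F111124
def n213920 : Q := act 7 n156085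
theorem D213920 : act 7 n156085 = n213920 := rfl
theorem F472743 : act 2 n213920 = n156089 := d4_1 D213920 (iv7 D156089) (iv2 F245250)
theorem F472744 : act 3 n213920 = n156093 := d8_1 D213920 (iv7 D156093) (iv3 F245251)
theorem F472745 : act 4 n213920 = n196572 := d11_1 D213920 F415033 F415032
theorem F472746 : act 6 n213920 = n210124 := d14_1 D213920 F456270 (iv6 F245035) F245036 D156085
theorem F472747 : act 1 n156087 = n213920 := d15_1 D156087 (iv7 D213920) F245250
theorem F472748 : act 1 n213920 = n156086 := d15_1 F472747 F472737 F366112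
def n213921 : Q := act 3 n156086
theorem D213921 : act 3 n156086 = n213921 := rfl
theorem F472749 : act 7 n213921 = n202132 := d8_2 (iv7 F472737) D213921 F423004
def n213922 : Q := act 4 n156086
theorem D213922 : act 4 n156086 = n213922 := rfl
theorem F472750 : act 2 n213922 = n212137 := d1_1 D213922 (iv4 F472732) (iv2 F472736)
theorem F472751 : act 7 n213922 = n202133 := d11_2 (iv7 F472737) D213922 F423007
theorem F472752 : act 5 n213922 = n160467 := d18_4 F362963 F228332 D156086 D213922 (iv4 F461429) (iv0 F461420) (iv4 F464263) (iv0 F464265) (iv5 D196573)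
theorem F472753 : act 0 n212135 = n213922 := d21_10 F472752 (iv1 D160467) (iv5 F253346) (iv6 D160400) D160397 (iv6 F351460) F332214 (iv1 F400803) (iv5 F407707) (iv6 F464451)
theorem F472754 : act 1 n212136 = n213922 := d15_1 D212136 F472751 F423006
def n213923 : Q := act 5 n156086
theorem D213923 : act 5 n156086 = n213923 := rfl
theorem F472755 : act 7 n213923 = n202134 := d13_2 (iv7 F472737) D213923 (iv5 D202134)
def n213924 : Q := act 6 n156086
theorem D213924 : act 6 n156086 = n213924 := rfl
theorem F472756 : act 2 n213924 = n202141 := d3_1 D213924 F472738 (iv2 F472736)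
theorem F472757 : act 7 n213924 = n196516 := d14_2 (iv7 F472737) D213924 (iv6 D196516) F180678 D115397
theorem F472758 : act 1 n202139 = n213924 := d15_1 D202139 F472757 F400932
theorem F472759 : act 1 n213924 = n201991 := d15_1 F472758 F422642 F424774
def n213925 : Q := act 5 n156087
theorem D213925 : act 5 n156087 = n213925 := rfl
theorem F472760 : act 2 n213925 = n202134 := d2_1 D213925 (iv5 D202134) F366112
theorem F472761 : act 6 n213925 = n213173 := d12_2 (iv6 F366111) D213925 (iv5 D213173) F366404 (iv5 F182525)
def n213926 : Q := act 0 n156088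
theorem D213926 : act 0 n156088 = n213926 := rfl
def n213927 : Q := act 1 n156088
theorem D213927 : act 1 n156088 = n213927 := rfl
def n213928 : Q := act 7 n156088
theorem D213928 : act 7 n156088 = n213928 := rfl
theorem F472762 : act 3 n213928 = n156100 := d8_1 D213928 (iv7 D156100) (iv3 F245252)
theorem F472763 : act 4 n213928 = n210120 := d11_1 D213928 F456247 F388349
theorem F472764 : act 5 n213928 = n156089 := d13_1 D213928 (iv7 D156089) D156088
def n213929 : Q := act 3 n156090
theorem D213929 : act 3 n156090 = n213929 := rfl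
theorem F472765 : act 7 n213929 = n202042 := d8_2 (iv7 F463007) D213929 F422781
def n213930 : Q := act 4 n156090
theorem D213930 : act 4 n156090 = n213930 := rfl
theorem F472766 : act 2 n213930 = n197276 := d1_1 D213930 (iv4 F472368) (iv2 F472369)
theorem F472767 : act 7 n213930 = n197277 := d11_2 (iv7 F463007) D213930 F422786
theorem F472768 : act 5 n213930 = n211262 := d18_4 (iv1 D197415) F167236 D156090 D213930 F460854 F451455 (iv4 F461982) (iv0 F461985) (iv5 F404190)
theorem F472769 : act 0 n197220 = n213930 := d20_10 (iv4 D213930) F463006 F462995 (iv3 D144439) (iv1 D67683) (iv3 F103715) F103716 D67700 D144468 (iv3 F403607)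
theorem F472770 : act 3 n211460 = n213930 := d20_5 F49728 D31435 D67686 D144446 (iv1 F461641) (iv4 D213930) F463006 F462995 (iv3 D144439) (iv1 D67683)
theorem F472771 : act 0 n213814 = n213780 := d21_4 F438778 F472769 F472768 (iv6 F472203) (iv6 D213780) (iv5 F463834) (iv1 F464146) F464143 (iv6 F403835) F438779
theorem F472772 : act 1 n197279 = n213930 := d18_8 (iv1 F460857) F447322 (iv1 D203494) D203495 (iv5 F428553) (iv4 F461047) F461050 (iv4 F403819) F472768
def n213931 : Q := act 5 n156090
theorem D213931 : act 5 n156090 = n213931 := rfl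
theorem F472773 : act 7 n213931 = n202045 := d13_2 (iv7 F463007) D213931 (iv5 D202045)
theorem F472774 : act 4 n213931 = n194100 := d16_4 (iv4 F460854) (iv5 F472768) (iv4 D213930) D213931 F392055 F321380 (iv5 F438035) F438037 (iv2 F438107)
theorem F472775 : act 3 n194085 = n213931 := d5_5 F472774 F392054 F157919 (iv3 F157901) (iv4 F392018)
theorem F472776 : act 6 n194083 = n213931 := d10_0 F472774 (iv6 D194100) (iv4 F392017)
theorem F472777 : act 5 n213929 = n194085 := d6_0 F472775 (iv5 D213931) D213929
def n213932 : Q := act 6 n156090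
theorem D213932 : act 6 n156090 = n213932 := rfl
theorem F472778 : act 2 n213932 = n202039 := d3_1 D213932 F472372 (iv2 F472369)
theorem F472779 : act 7 n213932 = n201896 := d14_2 (iv7 F463007) D213932 (iv6 D201896) F203963 D115345
theorem F472780 : act 5 n213932 = n209879 := d21_6 F100347 (iv1 F53429) D34064 D74249 D156090 D213932 (iv1 D209879) F220180 (iv6 D64433) D64430
theorem F472781 : act 1 n201992 = n213932 := d15_1 (iv0 F422838) F472779 F422276
theorem F472782 : act 1 n213932 = n202036 := d15_0 (iv0 D202036) D202039 (iv2 F472778)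
def n213933 : Q := act 4 n156091
theorem D213933 : act 4 n156091 = n213933 := rfl
theorem F472783 : act 2 n213933 = n197277 := d1_1 D213933 F422786 (iv2 F349437)
theorem F472784 : act 3 n213933 = n196720 := d5_1 D213933 (iv4 F438292) F438291 (iv4 F438297) F438296
theorem F472785 : act 6 n213933 = n201894 := d10_2 F349436 D213933 (iv4 D201894)
theorem F472786 : act 7 n213933 = n197276 := d11_2 F472371 D213933 (iv4 F472368)
theorem F472787 : act 5 n213933 = n196719 := d16_1 D213933 (iv4 F438034) F438035 (iv4 F321380) (iv5 F392055) (iv4 F472774) (iv5 D213931) F463007 (iv2 F349437)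
theorem F472788 : act 0 n213933 = n197220 := d20_1 D213933 F403608 (iv3 F366544) F366110 (iv3 D156102) (iv4 D74253) (iv1 F110994) (iv4 F226794) D211764 F462998
theorem F472789 : act 0 n197279 = n213933 := d20_1 (iv4 F403819) (iv4 D213933) (iv3 F438296) (iv1 F438298) (iv3 D198043) (iv4 D108885) D108883 D198038 (iv3 F470572) (iv1 F470575)
def n213934 : Q := act 0 n156092
theorem D213934 : act 0 n156092 = n213934 := rfl
theorem F472790 : act 5 n213934 = n202209 := d17_1 D213934 F449714 (iv5 F469420) F469419 (iv5 F366444) D208926 (iv5 F451438) F388325 (iv4 F388326)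
theorem F472791 : act 4 n213934 = n213644 := d18_3 F388323 (iv4 F388326) D213934 (iv5 F471426) (iv4 D208927) F239229 (iv4 F430749) F430754 (iv5 F242483)
theorem F472792 : act 3 n177979 = n213934 := d5_5 F472791 (iv3 D213644) (iv4 F421427) F277528 (iv4 F277530)
theorem F472793 : act 6 n213934 = n177977 := d7_2 D177979 F472792 (iv3 D177977)
def n213935 : Q := act 1 n156092
theorem D213935 : act 1 n156092 = n213935 := rfl
theorem F472794 : act 5 n209869 = n213935 := d21_0 (iv1 D213935) (iv5 D156092) (iv6 D74249) (iv1 F111089) D156057 F245197 (iv1 F365960) (iv5 F414474) (iv6 F449712) F455207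
theorem F472795 : act 6 n213935 = n213183 := d21_3 F469420 F455207 F472794 (iv1 D213183) (iv6 D152783) (iv5 D72093) (iv1 F87040) D119632 (iv6 F422794) F469421
def n213936 : Q := act 0 n156094
theorem D213936 : act 0 n156094 = n213936 := rfl
theorem F472796 : act 5 n213936 = n198068 := d17_1 D213936 (iv1 F457438) F457436 (iv4 D198054) (iv5 D108891) F168876 D198048 F406587 (iv4 F245256)
theorem F472797 : act 4 n213936 = n197735 := d18_3 (iv1 F351211) (iv4 F245256) D213936 F405578 F168491 F79470 D50276 (iv0 F79651) D65908
theorem F472798 : act 3 n213936 = n202481 := d20_5 F179610 (iv1 F203865) (iv4 F203866) D156094 D213936 (iv4 D202481) (iv1 D115808) (iv4 F179608) F179607 D115317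
theorem F472799 : act 2 n198045 = n213936 := d15_3 (iv0 D213936) (iv0 F359347) D198045
theorem F472800 : act 1 n198042 = n213936 := d15_0 (iv0 D213936) F245257 (iv2 F406589)
theorem F472801 : act 7 n213936 = n197734 := d15_2 D198042 F472800 F405572
theorem F472802 : act 6 n210118 = n213936 := d14_5 F472801 F405574 F366720 (iv6 F366721) F456239
def n213937 : Q := act 2 n156094
theorem D213937 : act 2 n156094 = n213937 := rfl
theorem F472803 : act 4 n213937 = n210377 := d1_2 (iv4 F245256) D213937 (iv2 D210377)
theorem F472804 : act 7 n213937 = n198042 := d4_2 (iv7 F245257) D213937 F406589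
theorem F472805 : act 1 n213937 = n197734 := d15_0 F405575 (iv7 F245257) D213937
theorem F472806 : act 1 n198045 = n213937 := d15_0 F472805 (iv7 F472801) (iv2 F472799)
theorem F472807 : act 5 n210555 = n213937 := d17_5 (iv1 F222647) F221804 (iv1 F180542) D139393 D210555 F472805 (iv5 F457431) F457999 F457997
def n213938 : Q := act 5 n156094
theorem D213938 : act 5 n156094 = n213938 := rfl
theorem F472808 : act 2 n213938 = n210555 := d2_1 D213938 F472807 (iv2 D213937)
theorem F472809 : act 3 n213938 = n156095 := d6_1 D213938 (iv5 D156095) D156094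
theorem F472810 : act 6 n213938 = n208859 := d12_2 F351214 D213938 F451138 (iv6 D177966) D177965
theorem F472811 : act 7 n213938 = n202026 := d13_2 (iv7 F245257) D213938 (iv5 D202026)
theorem F472812 : act 4 n213938 = n198058 := d16_2 (iv4 F245256) D213938 (iv5 D198058) (iv4 D108893) (iv5 F168563) (iv4 F405679) F405680 (iv7 F457276) (iv2 D210377)
theorem F472813 : act 1 n213938 = n210415 := d17_8 F349421 F349416 (iv1 D108895) D108897 D198068 (iv5 F472796) (iv0 D213936) D213938 (iv4 D210415)
theorem F472814 : act 1 n204608 = n213938 := d18_6 (iv1 F172388) F172386 (iv1 F80877) D65102 (iv5 F336654) (iv4 F433004) F472812 F406619 (iv5 D138635)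
def n213939 : Q := act 6 n156095
theorem D213939 : act 6 n156095 = n213939 := rfl
theorem F472815 : act 3 n213939 = n208859 := d7_1 D213939 (iv6 F472810) F472809
def n213940 : Q := act 6 n156097
theorem D213940 : act 6 n156097 = n213940 := rfl
theorem F472816 : act 2 n213940 = n203623 := d3_1 D213940 F463019 F386199
theorem F472817 : act 5 n213940 = n202223 := d12_1 D213940 (iv6 D202223) (iv5 D115481) D115482 (iv5 F245263)
theorem F472818 : act 0 n203428 = n213940 := d21_4 F239996 (iv1 F184282) D119007 D203428 (iv6 D213940) F245263 (iv1 F245405) (iv5 F359504) (iv6 D152799) D152797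
theorem F472819 : act 0 n213940 = n203625 := d21_7 (iv5 F469422) F469424 F458748 F423297 (iv1 F423293) D202223 (iv5 F472817) F429109 F386641 F426997
theorem F472820 : act 7 n203624 = n213940 := d15_2 (iv0 D203623) D203624 F472816
def n213941 : Q := act 3 n156098
theorem D213941 : act 3 n156098 = n213941 := rfl
theorem F472821 : act 5 n213941 = n209865 := d6_2 F245264 D213941 F455191
def n213942 : Q := act 6 n156098
theorem D213942 : act 6 n156098 = n213942 := rfl
theorem F472822 : act 2 n213942 = n193807 := d3_1 D213942 F391052 F386202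
theorem F472823 : act 4 n213942 = n193806 := d10_1 D213942 F391051 F383397
theorem F472824 : act 5 n213942 = n202097 := d12_1 D213942 (iv6 D202097) F201768 D137036 F245264
def n213943 : Q := act 5 n156101
theorem D213943 : act 5 n156101 = n213943 := rfl
theorem F472825 : act 2 n213943 = n185169 := d2_1 D213943 (iv5 F359545) F245269
theorem F472826 : act 3 n213943 = n209878 := d6_1 D213943 F461063 (iv3 F461062)
theorem F472827 : act 4 n213943 = n192240 := d9_1 D213943 F386168 F153855 (iv5 F325801) (iv4 F96457) F96458 (iv4 F167102) (iv5 F359542) (iv4 D99936) (iv5 D46674) F34935 D43378 D92730 F327157 (iv4 F245268)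
theorem F472828 : act 7 n213943 = n185170 := d13_2 (iv7 F245271) D213943 (iv5 F359543)
theorem F472829 : act 0 n213943 = n183874 := d17_2 D156101 D213943 (iv5 F359541) F220165 F100333 F97430 (iv5 F110991) F110994 D74253
theorem F472830 : act 1 n213943 = n185166 := d17_6 F397288 F397287 (iv1 F327155) F327157 (iv4 F245268) D213943 (iv5 F359538) (iv0 F245597) F245595
theorem F472831 : act 6 n213943 = n209877 := d21_3 (iv5 D156103) D156101 D213943 (iv1 F459142) (iv6 D152351) (iv5 D71875) D71872 D152339 D213060 (iv1 F468825)
theorem E104006 : n213254 = n209877 := ((c3_1 F472831 F469577 (iv6 F361012) (iv2 F472825))).symm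
theorem F472832 : act 2 n209877 = n152874 := (sb E104006 F469577)
theorem F472833 : act 7 n209877 = n152873 := (sb E104006 (iv7 D213254))
theorem E104007 : n213250 = n209231 := (c8_2 F472833 D213250 F452805 D209877)
theorem F472834 : act 3 n209231 = n152873 := (sb E104007 (iv3 D213250))
theorem E104008 : n213249 = n213069 := (c15_4 (iv0 D213069) F459142 F472833 D213249)
theorem F472835 : act 2 n213069 = n152873 := (sb E104008 (iv2 D213249))
theorem F472836 : act 7 n213069 = n152874 := (sb E104008 (iv7 F469575))
theorem E104009 : n213252 = n209230 := (c6_3 D209231 F472834 D213252 (iv3 D209230))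
theorem F472837 : act 5 n209230 = n152873 := (sb E104009 (iv5 D213252))
theorem F472838 : act 5 n203403 = n213251 := d19_1 D203403 (iv4 D213251) (iv3 F472834) F452806 (iv5 F424293) (iv4 D202501) F322398 D118900 F186949 (iv4 D76246) F55067 (iv1 F94432) F94434 F79143 F55713 F104207 (iv5 F104206) (iv4 F107525) D118890
def n213944 : Q := act 2 n156102
theorem D213944 : act 2 n156102 = n213944 := rfl
theorem F472839 : act 4 n213944 = n156566 := d1_2 (iv4 F245273) D213944 (iv2 D156566)
theorem F472840 : act 6 n213944 = n203100 := d3_2 (iv6 F245274) D213944 F426963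
theorem F472841 : act 7 n213944 = n201994 := d4_2 (iv7 F245275) D213944 F422653
theorem F472842 : act 1 n213944 = n201997 := d15_0 (iv0 D201997) (iv7 F245275) D213944
theorem F472843 : act 1 n201998 = n213944 := d15_0 F472842 (iv7 F422670) F422676
def n213945 : Q := act 5 n156102
theorem D213945 : act 5 n156102 = n213945 := rfl
theorem F472844 : act 3 n213945 = n156103 := d6_1 D213945 (iv5 D156103) D156102
theorem F472845 : act 7 n213945 = n201999 := d13_2 (iv7 F245275) D213945 (iv5 D201999)
def n213946 : Q := act 6 n156103
theorem D213946 : act 6 n156103 = n213946 := rfl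
theorem F472846 : act 2 n213946 = n185040 := d3_1 D213946 (iv6 D185040) (iv2 F359531)
theorem F472847 : act 4 n213946 = n185017 := d10_1 D213946 (iv6 D185017) (iv4 F359532)
theorem F472848 : act 5 n213946 = n210770 := d12_1 D213946 (iv6 D210770) F222822 (iv6 F111130) D156103
def n213947 : Q := act 1 n156104
theorem D213947 : act 1 n156104 = n213947 := rfl
def n213948 : Q := act 2 n156104
theorem D213948 : act 2 n156104 = n213948 := rfl
theorem F472849 : act 3 n213948 = n201994 := d0_2 D156104 D213948 F422653 F179607 (iv2 F111132)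
theorem F472850 : act 4 n213948 = n209015 := d1_2 (iv4 F245277) D213948 (iv2 D209015)
theorem F472851 : act 6 n213948 = n196509 := d3_2 (iv6 F245278) D213948 (iv2 D196509)
theorem F472852 : act 1 n213948 = n193282 := d15_0 (iv0 F472377) F472376 D213948
def n213949 : Q := act 5 n156104
theorem D213949 : act 5 n156104 = n213949 := rfl
theorem F472853 : act 3 n213949 = n156105 := d6_1 D213949 (iv5 D156105) D156104
theorem F472854 : act 7 n213949 = n185038 := d13_2 F472376 D213949 (iv5 F472374)
theorem F472855 : act 4 n183858 = n213949 := d11_3 F472854 F287432 (iv7 F285666)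
def n213950 : Q := act 3 n156106
theorem D213950 : act 3 n156106 = n213950 := rfl
theorem F472856 : act 2 n213950 = n212644 := d0_1 D213950 F466857 (iv2 F457649) F246390 F245283
theorem F472857 : act 4 n213950 = n209423 := d5_2 (iv4 F245282) D213950 (iv3 D209423) F219555 F166961
theorem F472858 : act 6 n213950 = n213139 := d7_2 F409591 D213950 (iv3 F469165)
theorem F472859 : act 7 n213950 = n197342 := d8_2 (iv7 F245281) D213950 (iv3 D197342)
theorem F472860 : act 1 n213950 = n213780 := d15_0 (iv0 F472771) F472204 (iv2 F472856)
def n213951 : Q := act 5 n156106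
theorem D213951 : act 5 n156106 = n213951 := rfl
theorem F472861 : act 2 n213951 = n197344 := d2_1 D213951 (iv5 D197344) F245283
theorem F472862 : act 7 n213951 = n197343 := d13_2 (iv7 F245281) D213951 (iv5 D197343)
theorem F472863 : act 0 n213951 = n210772 := d17_2 (iv1 F245280) D213951 (iv5 D210772) (iv4 D139658) D139659 (iv0 F245298) (iv5 D156110) F168825 (iv4 F168824)
def n213952 : Q := act 1 n156107
theorem D213952 : act 1 n156107 = n213952 := rfl
theorem F472864 : act 1 n213952 = n197380 := d15_1 D213952 (iv7 D197380) (iv2 F245284)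
theorem F472865 : act 7 n213952 = n195339 := d15_2 (iv0 F245285) D213952 F396753
theorem F472866 : act 5 n213952 = n195340 := d17_7 (iv1 F169275) F169272 (iv1 F168783) (iv5 F79631) (iv4 F111135) D156107 D213952 F396759 F175589
theorem F472867 : act 2 n197378 = n213952 := d2_3 F472866 F396755 (iv5 F404084)
theorem F472868 : act 4 n200192 = n213952 := d9_15 F472866 F396756 F162050 F326669 D121740 D203956 F430579 (iv4 D200202) (iv5 D112788) (iv4 D52057) (iv5 D25268) (iv4 F39865) D52051 D112774 D200192
def n213953 : Q := act 4 n156107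
theorem D213953 : act 4 n156107 = n213953 := rfl
theorem F472869 : act 2 n213953 = n197379 := d1_1 D213953 (iv4 D197379) (iv2 F245284)
theorem F472870 : act 5 n213953 = n200185 := d16_1 D213953 (iv4 D200185) (iv5 D112771) F161138 D108838 (iv4 F168824) (iv5 F404087) (iv7 D197380) (iv2 F245284)
theorem F472871 : act 3 n204375 = n213953 := d6_3 F472870 F415456 D204375
theorem F472872 : act 7 n213567 = n213953 := d13_0 F472870 F415458 D213567
def n213954 : Q := act 7 n156107
theorem D213954 : act 7 n156107 = n213954 := rfl
theorem F472873 : act 2 n213954 = n197380 := d4_1 D213954 (iv7 D197380) (iv2 F245284)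
theorem F472874 : act 4 n213954 = n213567 := d11_1 D213954 F472872 (iv4 D213953)
theorem F472875 : act 5 n213954 = n156108 := d13_1 D213954 (iv7 D156108) D156107
theorem F472876 : act 1 n197378 = n213954 := d15_1 D197378 (iv7 D213954) F245284
theorem F472877 : act 1 n213954 = n195339 := d15_1 F472876 (iv7 F472865) (iv2 F472867)
def n213955 : Q := act 0 n156120
theorem D213955 : act 0 n156120 = n213955 := rfl
def n213956 : Q := act 2 n156120
theorem D213956 : act 2 n156120 = n213956 := rfl
theorem F472878 : act 3 n213956 = n177951 := d0_2 D156120 D213956 F469354 (iv3 F469352) (iv2 F245059)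
theorem F472879 : act 4 n213956 = n200326 := d1_2 F415603 D213956 (iv2 F439045)
theorem F472880 : act 5 n213956 = n177950 := d2_2 (iv5 F469447) D213956 F472396
theorem F472881 : act 6 n213956 = n193887 := d3_2 (iv6 F245330) D213956 (iv2 F391301)
theorem F472882 : act 0 n200300 = n213956 := d21_4 (iv5 F220226) F320433 (iv5 F320582) D200300 F472881 (iv5 F467373) F467375 F431845 (iv6 F390700) (iv1 D156045)
theorem F472883 : act 1 n200300 = n213852 := d15_1 (iv0 F472882) F472398 D213956
def n213957 : Q := act 6 n156121
theorem D213957 : act 6 n156121 = n213957 := rfl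
theorem F472884 : act 5 n213957 = n202274 := d12_1 D213957 (iv6 D202274) (iv5 D115522) F166291 D156121
def n213958 : Q := act 6 n156122
theorem D213958 : act 6 n156122 = n213958 := rfl
theorem F472885 : act 2 n213958 = n202161 := d3_1 D213958 F433002 F431614
theorem F472886 : act 3 n213958 = n156124 := d7_1 D213958 (iv6 D156124) D156122
theorem F472887 : act 4 n213958 = n178163 := d10_1 D213958 (iv6 D178163) (iv4 F360087)
theorem F472888 : act 5 n213958 = n202175 := d12_1 D213958 (iv6 F469366) (iv5 F469369) (iv6 D177928) (iv5 F360088)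
theorem F472889 : act 7 n213958 = n202162 := d14_2 F469349 D213958 F461443 (iv7 F422332) (iv6 F469353)
theorem F472890 : act 0 n213958 = n202164 := d21_10 F423097 (iv1 F400955) F415119 F415118 (iv1 D196520) D196522 (iv5 F400961) (iv1 D177925) (iv5 F360088) D213958
theorem F472891 : act 0 n202145 = n213958 := d21_1 D202145 F472888 (iv6 F469366) F469368 (iv6 D155992) F111471 (iv1 F245053) F245374 D156080 F400954
def n213959 : Q := act 4 n156125
theorem D213959 : act 4 n156125 = n213959 := rfl
theorem F472892 : act 2 n213959 = n191278 := d1_1 D213959 (iv4 F422716) F422715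
theorem F472893 : act 3 n213959 = n177959 := d5_1 D213959 (iv4 D177959) (iv3 D84715) D84716 (iv3 F351216)
theorem F472894 : act 5 n213959 = n205259 := d9_2 (iv5 F245336) D213959 (iv4 D205259) (iv5 D125664) F93040 (iv5 F85020) F85019 D115326 F369580 F289351 (iv4 F369578) F369579 F319036 (iv5 F405982) F405981
theorem F472895 : act 0 n213959 = n193826 := d17_0 (iv5 D193826) F157169 D183765 F359517 (iv5 D156121) (iv0 D74262) D74264 D156125 D213959
theorem F472896 : act 1 n213959 = n191985 := d18_6 D65541 (iv4 F182848) (iv1 F405985) F405981 (iv5 F245336) D213959 F385099 (iv0 D139654) (iv5 D65543)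
def n213960 : Q := act 6 n156125
theorem D213960 : act 6 n156125 = n213960 := rfl
theorem F472897 : act 3 n213960 = n177966 := d7_1 D213960 (iv6 D177966) (iv3 F351216)
theorem F472898 : act 5 n213960 = n213939 := d12_1 D213960 (iv6 D213939) (iv5 D156095) D156096 (iv5 F245336)
def n213961 : Q := act 6 n156127
theorem D213961 : act 6 n156127 = n213961 := rfl
theorem F472899 : act 4 n213961 = n183393 := d10_1 D213961 F285108 (iv4 F340590)
theorem F472900 : act 5 n213961 = n209881 := d12_1 D213961 (iv6 D209881) F220181 (iv6 F111152) (iv5 F245337)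
def n213962 : Q := act 1 n156128
theorem D213962 : act 1 n156128 = n213962 := rfl
def n213963 : Q := act 5 n156128
theorem D213963 : act 5 n156128 = n213963 := rfl
theorem F472901 : act 3 n213963 = n156129 := d6_1 D213963 (iv5 D156129) D156128
theorem F472902 : act 7 n213963 = n210134 := d13_2 F472414 D213963 F472416
theorem F472903 : act 4 n213963 = n210135 := d16_4 F407382 F370513 F329306 D213963 F456304 (iv4 F400603) F432950 F432949 (iv2 F407380)
theorem F472904 : act 0 n213963 = n204617 := d20_4 F359518 (iv1 F285726) (iv4 F340571) (iv3 F472901) (iv3 D204617) F306749 (iv1 D84701) D84702 (iv3 F360096) F245333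
def n213964 : Q := act 6 n156129
theorem D213964 : act 6 n156129 = n213964 := rfl
theorem F472905 : act 2 n213964 = n185487 := d3_1 D213964 (iv6 D185487) F340572
theorem F472906 : act 4 n213964 = n185475 := d10_1 D213964 (iv6 D185475) (iv4 F340571)
theorem F472907 : act 5 n213964 = n202282 := d12_1 D213964 (iv6 D202282) (iv5 D115531) (iv6 F111154) D156129
theorem F472908 : act 4 n207898 = n212429 := d16_2 (iv4 D207897) D207898 (iv5 F465771) (iv4 F472906) F472907 F423475 F390535 (iv7 F375578) (iv2 F446921)
def n213965 : Q := act 5 n156144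
theorem D213965 : act 5 n156144 = n213965 := rfl
theorem F472909 : act 2 n213965 = n156148 := d2_1 D213965 (iv5 D156148) (iv2 F245384)
theorem F472910 : act 3 n213965 = n209871 := d6_1 D213965 (iv5 D209871) (iv3 F245385)
theorem F472911 : act 6 n213965 = n204451 := d12_2 D156144 D213965 F432580 (iv6 D155992) F111471
theorem F472912 : act 4 n213965 = n204452 := d16_2 F362345 D213965 F432582 F404970 (iv5 F351187) F351186 (iv5 F424748) F424747 F362344
def n213966 : Q := act 1 n156145
theorem D213966 : act 1 n156145 = n213966 := rfl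
theorem F472913 : act 1 n213966 = n213850 := d15_1 D213966 (iv7 D213850) (iv2 F245386)
theorem F472914 : act 7 n213966 = n213849 := d15_2 (iv0 F424801) D213966 (iv2 F472384)
theorem F472915 : act 5 n213966 = n204123 := d17_7 (iv1 D123908) (iv5 D57729) D57727 D123900 D204501 F432727 D213966 (iv0 F432750) (iv4 D204506)
theorem F472916 : act 3 n178813 = n213966 := d19_19 (iv1 D213966) (iv5 F432727) (iv4 D204501) F363299 (iv1 F386230) (iv5 F411907) (iv4 F427664) F427660 (iv1 F278371) F337184 (iv4 D73170) (iv3 D33691) (iv1 D16283) D16284 D33697 D73193 D154523 F450538 F466348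
theorem F472917 : act 2 n213186 = n213966 := d2_3 F472915 F431124 F469369
def n213967 : Q := act 7 n156145
theorem D213967 : act 7 n156145 = n213967 := rfl
theorem F472918 : act 2 n213967 = n213850 := d4_1 D213967 (iv7 D213850) (iv2 F245386)
theorem F472919 : act 3 n213967 = n156153 := d8_1 D213967 (iv7 D156153) (iv3 F245387)
theorem F472920 : act 4 n213967 = n199807 := d11_1 D213967 F413591 (iv4 F365205)
theorem F472921 : act 5 n213967 = n204454 := d13_1 D213967 (iv7 F432726) F432727
theorem F472922 : act 6 n213967 = n203610 := d14_1 D213967 F429084 (iv6 D156144) (iv7 F111474) D156145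
theorem F472923 : act 1 n213186 = n213967 := d15_1 (iv0 F469368) (iv7 D213967) F245386
theorem F472924 : act 1 n213967 = n213849 := d15_1 F472923 (iv7 F472914) (iv2 F472917)
def n213968 : Q := act 5 n156146
theorem D213968 : act 5 n156146 = n213968 := rfl
theorem F472925 : act 2 n213968 = n213203 := d2_1 D213968 F469428 F427003
theorem F472926 : act 1 n213968 = n196525 := d17_6 D206342 F440337 F400308 F440360 F440357 D213968 (iv5 D196525) D196524 (iv4 F400963)
def n213969 : Q := act 6 n156146
theorem D213969 : act 6 n156146 = n213969 := rfl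
def n213970 : Q := act 0 n156148
theorem D213970 : act 0 n156148 = n213970 := rfl
def n213971 : Q := act 7 n156148
theorem D213971 : act 7 n156148 = n213971 := rfl
theorem F472927 : act 3 n213971 = n156160 := d8_1 D213971 (iv7 D156160) (iv3 F245388)
theorem F472928 : act 4 n213971 = n197696 := d11_1 D213971 (iv7 F432734) F432732
theorem F472929 : act 5 n213971 = n156149 := d13_1 D213971 (iv7 D156149) D156148
theorem F472930 : act 6 n213971 = n208731 := d14_1 D213971 F450610 F449074 (iv7 F432726) (iv6 F432730)
def n213972 : Q := act 4 n156150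
theorem D213972 : act 4 n156150 = n213972 := rfl
theorem F472931 : act 2 n213972 = n197330 := d1_1 D213972 F472459 (iv2 F455282)
theorem F472932 : act 7 n213972 = n197331 := d11_2 (iv7 F455285) D213972 F472240
theorem F472933 : act 0 n197229 = n213972 := d20_10 (iv4 D213972) (iv1 F245394) (iv4 F455263) F455262 (iv1 F245289) (iv3 F246390) (iv4 D156662) (iv1 F317397) (iv4 F167385) (iv3 F403652)
theorem F472934 : act 3 n197324 = n213972 := d20_5 (iv4 D108103) (iv1 D49929) (iv4 F78973) (iv3 F167129) D197324 (iv4 D213972) (iv1 F245394) (iv4 F455263) F455262 (iv1 F245289)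
def n213973 : Q := act 5 n156150
theorem D213973 : act 5 n156150 = n213973 := rfl
theorem F472935 : act 2 n213973 = n209893 := d2_1 D213973 (iv5 D209893) (iv2 F455282)
theorem F472936 : act 6 n213973 = n202099 := d12_2 (iv6 F455284) D213973 F422875 D209826 (iv5 F455279)
theorem F472937 : act 7 n213973 = n209897 := d13_2 (iv7 F455285) D213973 (iv5 D209897)
theorem F472938 : act 1 n210774 = n209897 := d15_1 (iv0 F472698) (iv7 F472937) F472935
theorem F472939 : act 4 n202100 = n213973 := d10_3 F472936 (iv4 D202099) D202100
def n213974 : Q := act 4 n156151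
theorem D213974 : act 4 n156151 = n213974 := rfl
theorem F472940 : act 2 n213974 = n197331 := d1_1 D213974 F472240 F455286
theorem F472941 : act 7 n213974 = n197330 := d11_2 F455287 D213974 F472459
theorem F472942 : act 0 n213974 = n197229 := d20_1 D213974 F403653 (iv3 F245491) F366573 (iv3 D138729) (iv4 D65139) (iv1 F161262) (iv4 F111151) (iv3 F220236) (iv1 F245390)
theorem F472943 : act 6 n211270 = n213974 := d21_3 F472244 (iv1 F427543) (iv5 F460885) F472942 (iv6 D197229) (iv5 D108026) (iv1 F82530) (iv5 F176195) D200423 (iv1 F472247)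
theorem F472944 : act 1 n213974 = n197333 := d15_1 (iv0 F472942) (iv7 D197333) (iv2 F403651)
theorem F472945 : act 1 n197333 = n213972 := d15_1 F472944 F472932 (iv2 F472940)
def n213975 : Q := act 5 n156151
theorem D213975 : act 5 n156151 = n213975 := rfl
theorem F472946 : act 2 n213975 = n209897 := d2_1 D213975 (iv5 D209897) F455286
theorem F472947 : act 3 n213975 = n202080 := d6_1 D213975 (iv5 F472185) (iv3 F472188)
theorem F472948 : act 7 n213975 = n209893 := d13_2 F455287 D213975 (iv5 D209893)
theorem F472949 : act 6 n202080 = n213975 := d21_5 (iv5 D115367) (iv1 D53219) D53220 (iv6 F179639) D202080 (iv5 D213975) (iv1 D156151) D156152 F245392 (iv1 F179642)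
def n213976 : Q := act 6 n156151
theorem D213976 : act 6 n156151 = n213976 := rfl
theorem F472950 : act 2 n213976 = n209898 := d3_1 D213976 (iv6 D209898) F455286
theorem F472951 : act 4 n213976 = n211270 := d10_1 D213976 F472943 (iv4 D213974)
def n213977 : Q := act 0 n156152
theorem D213977 : act 0 n156152 = n213977 := rfl
theorem F472952 : act 5 n213977 = n201896 := d21_8 (iv5 F170805) D198876 F409700 F336207 (iv1 F100342) D74281 D156152 D213977 (iv6 D201896) (iv1 D115232)
theorem F472953 : act 2 n202038 = n213977 := d2_3 F472952 F422276 D202038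
theorem F472954 : act 7 n209879 = n213977 := d13_0 F472952 (iv7 F472779) F472780
def n213978 : Q := act 1 n156152
theorem D213978 : act 1 n156152 = n213978 := rfl
theorem F472955 : act 1 n213978 = n209880 := d15_1 D213978 (iv7 D209880) (iv2 F245391)
theorem F472956 : act 7 n213978 = n202038 := d15_2 (iv0 D213977) D213978 F472953
theorem F472957 : act 5 n202039 = n213978 := d21_6 (iv5 F110953) (iv1 F110955) F110977 D155987 D213846 (iv6 F472372) (iv1 D213978) (iv5 D156152) (iv6 D74281) (iv1 F100346)
theorem F472958 : act 2 n213978 = n209879 := d2_1 F472957 (iv5 F472780) F472778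
theorem F472959 : act 1 n209880 = n213977 := d15_1 F472955 (iv7 F472954) (iv2 F472958)
def n213979 : Q := act 4 n156152
theorem D213979 : act 4 n156152 = n213979 := rfl
theorem F472960 : act 2 n213979 = n209878 := d1_1 D213979 F455236 (iv2 F245391)
theorem F472961 : act 3 n213979 = n212441 := d5_1 D213979 (iv4 D212441) (iv3 F363299) D204501 (iv3 F432729)
theorem F472962 : act 6 n213979 = n156159 := d10_2 (iv6 F245392) D213979 (iv4 D156159)
def n213980 : Q := act 7 n156152
theorem D213980 : act 7 n156152 = n213980 := rfl
theorem F472963 : act 2 n213980 = n209880 := d4_1 D213980 (iv7 D209880) (iv2 F245391)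
theorem F472964 : act 3 n213980 = n204454 := d8_1 D213980 (iv7 F432726) (iv3 F432729)
theorem F472965 : act 5 n213980 = n156153 := d13_1 D213980 (iv7 D156153) D156152
theorem F472966 : act 1 n209879 = n213980 := d15_1 D209879 (iv7 D213980) F245391
theorem F472967 : act 1 n213980 = n202038 := d15_1 F472966 (iv7 F472956) F472958
def n213981 : Q := act 4 n156155
theorem D213981 : act 4 n156155 = n213981 := rfl
theorem F472968 : act 2 n213981 = n202096 := d1_1 D213981 (iv4 D202096) (iv2 F245399)
theorem F472969 : act 7 n213981 = n202099 := d11_2 (iv7 F245400) D213981 (iv4 D202099)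
theorem F472970 : act 5 n213981 = n209227 := d16_1 D213981 (iv4 D209227) F218773 F172079 (iv5 F165795) F165797 D156158 F245409 (iv2 F245399)
theorem F472971 : act 6 n202081 = n213981 := d12_0 F472970 F452792 (iv5 D202262) D202263 F423417
def n213982 : Q := act 6 n156155
theorem D213982 : act 6 n156155 = n213982 := rfl
theorem F472972 : act 2 n213982 = n202097 := d3_1 D213982 (iv6 D202097) (iv2 F245399)
theorem F472973 : act 4 n213982 = n202081 := d10_1 D213982 F472971 (iv4 D213981)
theorem F472974 : act 5 n213982 = n193807 := d12_1 D213982 F391052 F386206 (iv6 D156156) D156155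
def n213983 : Q := act 5 n156157
theorem D213983 : act 5 n156157 = n213983 := rfl
theorem F472975 : act 3 n213983 = n156158 := d6_1 D213983 (iv5 D156158) D156157
theorem F472976 : act 6 n213983 = n210845 := d12_2 (iv6 F245406) D213983 (iv5 D210845) (iv6 D139974) (iv5 F362576)
theorem F472977 : act 7 n213983 = n202095 := d13_2 (iv7 F245407) D213983 F422871
theorem F472978 : act 4 n213983 = n202095 := d16_4 (iv4 F382658) (iv5 F393030) F393029 D213983 F422871 (iv4 F401168) F401169 (iv7 F382659) F382657
def n213984 : Q := act 4 n156158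
theorem D213984 : act 4 n156158 = n213984 := rfl
theorem F472979 : act 2 n213984 = n202099 := d1_1 D213984 (iv4 D202099) (iv2 F245408)
theorem F472980 : act 3 n213984 = n202096 := d5_1 D213984 (iv4 D202096) D202095 (iv4 F472978) F472975
theorem F472981 : act 5 n213984 = n209224 := d9_2 D156158 D213984 (iv4 D209224) F218767 (iv4 F217020) F217022 F203891 D156155 D213981 F472970 (iv4 D209227) F218773 F172079 (iv5 F165795) F165797
theorem F472982 : act 7 n213984 = n202096 := d11_2 (iv7 F245409) D213984 (iv4 D202096)
theorem F472983 : act 6 n209893 = n213984 := d12_0 F472981 (iv6 F452783) (iv5 F455269) (iv6 D209894) D209893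
def n213985 : Q := act 6 n156158
theorem D213985 : act 6 n156158 = n213985 := rfl
theorem F472984 : act 2 n213985 = n202100 := d3_1 D213985 (iv6 D202100) (iv2 F245408)
theorem F472985 : act 3 n213985 = n210845 := d7_1 D213985 (iv6 F472976) F472975
theorem F472986 : act 4 n213985 = n209893 := d10_1 D213985 F472983 (iv4 D213984)
theorem F472987 : act 5 n213985 = n202222 := d12_1 D213985 (iv6 D202222) (iv5 D115478) (iv6 F165798) D156158
def n213986 : Q := act 3 n156159
theorem D213986 : act 3 n156159 = n213986 := rfl
theorem F472988 : act 2 n213986 = n213255 := d0_1 D213986 (iv3 D213255) (iv2 F472832) (iv3 D209877) (iv2 F245412)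
theorem F472989 : act 4 n213986 = n212440 := d5_2 D156159 D213986 F465801 F432732 F245388
theorem F472990 : act 5 n213986 = n209837 := d6_2 (iv5 F245413) D213986 F455098
theorem F472991 : act 6 n213986 = n212441 := d7_2 F472962 D213986 (iv3 F472961)
theorem F472992 : act 7 n213986 = n209836 := d8_2 F245414 D213986 F455097
def n213987 : Q := act 6 n156160
theorem D213987 : act 6 n156160 = n213987 := rfl
theorem F472993 : act 2 n213987 = n209881 := d3_1 D213987 (iv6 D209881) (iv2 F245416)
theorem F472994 : act 3 n213987 = n208731 := d7_1 D213987 (iv6 F472930) F472927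
theorem F472995 : act 4 n213987 = n209839 := d10_1 D213987 (iv6 D209839) (iv4 F245417)
def n213988 : Q := act 4 n156162
theorem D213988 : act 4 n156162 = n213988 := rfl
theorem F472996 : act 2 n213988 = n202101 := d1_1 D213988 F422877 (iv2 F245423)
theorem F472997 : act 7 n213988 = n202102 := d11_2 (iv7 F245424) D213988 F422881
theorem F472998 : act 5 n213988 = n209229 := d16_1 D213988 F452801 (iv5 D136541) (iv4 D64192) F81361 D74288 D156165 F245434 (iv2 F245423)
theorem F472999 : act 0 n213988 = n202105 := d17_0 F422888 (iv1 F220160) (iv5 F455105) F455106 (iv5 D137018) F111449 D140260 (iv0 F245425) D213988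
theorem F473000 : act 1 n213988 = n196534 := d18_6 (iv1 D74283) F53496 D34083 D74286 D156162 D213988 (iv4 D196534) (iv0 F245410) (iv5 D156158)
def n213989 : Q := act 6 n156162
theorem D213989 : act 6 n156162 = n213989 := rfl
theorem F473001 : act 2 n213989 = n209862 := d3_1 D213989 (iv6 D209862) (iv2 F245423)
theorem F473002 : act 3 n213989 = n213219 := d7_1 D213989 (iv6 D213219) (iv3 F366405)
def n213990 : Q := act 5 n156163
theorem D213990 : act 5 n156163 = n213990 := rfl
theorem F473003 : act 2 n213990 = n183874 := d2_1 D213990 (iv5 F359541) (iv2 F245427)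
theorem F473004 : act 4 n213990 = n183873 := d9_1 D213990 (iv5 F368179) F368178 F183968 F326336 (iv5 F165208) (iv4 F359547) (iv5 D185172) (iv4 D88248) D88249 (iv4 F145638) F145639 F326339 (iv5 F111491) (iv4 F245428)
theorem F473005 : act 7 n213990 = n185166 := d13_2 (iv7 F245429) D213990 (iv5 F359538)
theorem F473006 : act 0 n213990 = n185170 := d17_2 F442825 D213990 (iv5 F359543) F179610 (iv5 F163795) F211948 (iv5 F410888) (iv0 F410889) D206979
theorem F473007 : act 1 n213990 = n185169 := d17_6 (iv1 F110988) (iv5 F95921) (iv1 F97426) (iv5 F111491) (iv4 F245428) D213990 (iv5 F359545) (iv0 F245050) (iv4 D155989)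
def n213991 : Q := act 5 n156164
theorem D213991 : act 5 n156164 = n213991 := rfl
theorem F473008 : act 2 n213991 = n213217 := d2_1 D213991 F469462 F426990
theorem F473009 : act 3 n213991 = n156165 := d6_1 D213991 (iv5 D156165) D156164
theorem F473010 : act 7 n213991 = n209860 := d13_2 (iv7 F245432) D213991 (iv5 D209860)
theorem F473011 : act 1 n213991 = n213063 := d17_6 D203326 (iv5 F458009) F458011 (iv5 D209496) (iv4 F245430) D213991 (iv5 D213063) (iv0 D152344) (iv4 F186772)
theorem F473012 : act 0 n213991 = n213065 := d21_7 D201978 F422597 (iv5 D201931) D201932 (iv1 F422428) (iv6 F245431) D213991 (iv5 D213065) (iv6 F400890) (iv1 F400888)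
def n213992 : Q := act 4 n156165
theorem D213992 : act 4 n156165 = n213992 := rfl
theorem F473013 : act 2 n213992 = n202102 := d1_1 D213992 F422881 (iv2 F245433)
theorem F473014 : act 5 n213992 = n209228 := d9_2 D156165 D213992 F452795 (iv5 D136538) (iv4 D64188) F53503 D74286 D156162 D213988 F472998 F452801 (iv5 D136541) (iv4 D64192) F81361 D74288
theorem F473015 : act 7 n213992 = n202101 := d11_2 (iv7 F245434) D213992 F422877
theorem F473016 : act 0 n213992 = n196534 := d17_0 (iv5 F455026) F455028 (iv5 F223387) (iv4 D140267) (iv5 D65822) (iv0 F101952) D126688 (iv0 F245435) D213992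
theorem F473017 : act 1 n213992 = n202105 := d18_6 (iv1 F111483) F100337 (iv1 F53497) D74288 D156165 D213992 F422887 (iv0 F245401) (iv5 D156155)
def n213993 : Q := act 6 n156165
theorem D213993 : act 6 n156165 = n213993 := rfl
theorem F473018 : act 2 n213993 = n209863 := d3_1 D213993 (iv6 D209863) (iv2 F245433)
theorem F473019 : act 5 n213993 = n202229 := d12_1 D213993 (iv6 D202229) (iv5 D115488) (iv6 F111495) D156165
theorem F473020 : act 0 n213993 = n213216 := d21_4 F422900 (iv1 F245108) D156165 D213993 (iv6 D213216) (iv5 D152829) D152826 F422906 (iv6 D202112) (iv1 F422898)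
def n213994 : Q := act 6 n156166
theorem D213994 : act 6 n156166 = n213994 := rfl
theorem F473021 : act 3 n213994 = n212452 := d7_1 D213994 (iv6 D212452) (iv3 F361429)
theorem F473022 : act 4 n213994 = n156167 := d10_1 D213994 (iv6 D156167) D156166
theorem F473023 : act 7 n213994 = n202287 := d14_2 (iv7 F349784) D213994 (iv6 D202287) (iv7 F422367) F422366
def n213995 : Q := act 0 n156167
theorem D213995 : act 0 n156167 = n213995 := rfl
theorem F473024 : act 4 n213995 = n209978 := d18_1 D213995 (iv1 D209978) (iv4 F455249) (iv5 D209884) (iv4 F403782) (iv0 F460887) F460886 F452216 F423485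
theorem F473025 : act 6 n213995 = n213541 := d21_5 F167006 F167082 (iv5 F111497) D156167 D213995 F470937 (iv1 D202354) (iv5 F245548) (iv6 D156236) (iv1 F245484)
theorem F473026 : act 2 n156290 = n213995 := d15_3 (iv0 D213995) F423079 (iv7 F245586)
theorem F473027 : act 1 n201920 = n213995 := d15_0 (iv0 D213995) F363691 (iv2 F422377)
theorem F473028 : act 7 n213995 = n202288 := d15_2 (iv0 F423078) F473027 (iv2 F423811)
theorem F473029 : act 3 n202309 = n213995 := d19_19 (iv1 F473027) F422379 (iv4 F403749) (iv3 F436482) F436485 (iv5 D197264) F167066 F95715 F48769 (iv5 F92948) (iv4 F201874) (iv3 F414897) (iv1 F414901) F417291 F417289 F444963 (iv1 D207446) (iv5 F428808) F428807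
def n213996 : Q := act 0 n156171
theorem D213996 : act 0 n156171 = n213996 := rfl
theorem F473030 : act 5 n213996 = n204591 := d17_3 (iv1 D213234) F366410 D213996 F432967 (iv5 F466099) (iv0 F466102) F424589 F411820 (iv4 F469518)
theorem F473031 : act 3 n204063 = n213996 := d6_3 F473030 (iv3 D204591) (iv5 F430952)
theorem F473032 : act 7 n156173 = n213996 := d13_0 F473030 F432968 (iv5 F457388)
theorem F473033 : act 2 n213996 = n156172 := d15_3 (iv0 D156172) D156173 F473032
theorem F473034 : act 0 n213996 = n156175 := d20_4 F469357 (iv1 F302317) D204063 F473031 F245441 (iv4 F175901) (iv1 F175903) (iv4 F175905) D156122 (iv1 F469361)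
def n213997 : Q := act 1 n156171
theorem D213997 : act 1 n156171 = n213997 := rfl
theorem F473035 : act 1 n213997 = n156175 := d15_1 D213997 (iv7 D156175) (iv2 F245439)
theorem F473036 : act 7 n213997 = n156172 := d15_2 (iv0 D213996) D213997 (iv2 F473033)
theorem F473037 : act 3 n213867 = n213997 := d20_3 (iv4 F404082) (iv1 F455257) F472494 (iv1 D213997) (iv3 F472424) F472425 F428603 F455277 (iv3 D209891) (iv1 F245396)
theorem F473038 : act 5 n204622 = n213997 := d21_6 (iv5 D119613) (iv1 F87036) D72120 D152844 D213228 F469501 (iv1 D213997) (iv5 F366410) (iv6 D152868) (iv1 F188655)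
theorem F473039 : act 2 n213997 = n156173 := d2_1 F473038 F457388 D204622
def n213998 : Q := act 7 n156171
theorem D213998 : act 7 n156171 = n213998 := rfl
theorem F473040 : act 2 n213998 = n156175 := d4_1 D213998 (iv7 D156175) (iv2 F245439)
theorem F473041 : act 4 n213998 = n185178 := d11_1 D213998 (iv7 F411813) F411812
theorem F473042 : act 5 n213998 = n213235 := d13_1 D213998 (iv7 D213235) F366410
theorem F473043 : act 6 n213998 = n189186 := d14_1 D213998 F375999 (iv6 D156222) F167145 D156171
theorem F473044 : act 1 n156173 = n213998 := d15_1 D156173 (iv7 D213998) F245439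
theorem F473045 : act 1 n213998 = n156172 := d15_1 F473044 (iv7 F473036) F473039
def n213999 : Q := act 4 n156172
theorem D213999 : act 4 n156172 = n213999 := rfl
def n214000 : Q := act 5 n156172
theorem D214000 : act 5 n156172 = n214000 := rfl
theorem F473046 : act 2 n214000 = n204591 := d2_1 D214000 (iv5 F473030) F473033
theorem F473047 : act 7 n214000 = n204622 := d13_2 F473036 D214000 F473038
theorem F473048 : act 0 n214000 = n204621 := d17_2 D156172 D214000 F457392 F422501 (iv5 D154526) D154524 (iv5 F448941) (iv0 D199352) F172516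
theorem F473049 : act 4 n214000 = n213623 := d19_2 D156172 D214000 F471341 F406624 (iv5 D138643) (iv4 D65098) (iv3 F161366) (iv1 F82546) (iv5 F93057) (iv4 F201915) D205155 F435200 F202176 F93074 (iv3 F93045) (iv1 F93046) F82843 F82417 (iv3 F111500)
theorem F473050 : act 1 n214000 = n204620 := d15_0 (iv0 D204620) (iv7 F432968) (iv2 F473046)
def n214001 : Q := act 6 n156172
theorem D214001 : act 6 n156172 = n214001 := rfl
theorem F473051 : act 0 n214001 = n201921 := d21_4 (iv5 F469520) (iv1 F473050) (iv5 D214000) D214001 (iv6 D201921) F330521 (iv1 F165204) (iv5 F330566) D210732 F458630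
theorem F473052 : act 0 n201925 = n214001 := d21_4 (iv5 D201912) (iv1 F179495) (iv5 F359765) (iv6 F422392) (iv6 D214001) D214000 F473048 F457392 (iv6 D201953) (iv1 F422337)
def n214002 : Q := act 4 n156173
theorem D214002 : act 4 n156173 = n214002 := rfl
theorem F473053 : act 3 n214002 = n191910 := d5_1 D214002 (iv4 F394588) F277620 (iv4 F306752) (iv3 F457387)
theorem F473054 : act 6 n191907 = n214002 := d7_0 F473053 (iv6 D191910) (iv3 F384788)
theorem F473055 : act 0 n192397 = n214002 := d21_4 (iv5 F375480) (iv1 F375484) F362390 D192397 (iv6 F473054) (iv5 D191907) (iv1 F351947) D191402 F383360 (iv1 F371257)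
def n214003 : Q := act 6 n156173
theorem D214003 : act 6 n156173 = n214003 := rfl
theorem F473056 : act 3 n214003 = n204624 := d7_1 D214003 (iv6 D204624) (iv3 F457387)
theorem F473057 : act 4 n214003 = n191907 := d10_1 D214003 F473054 (iv4 D214002)
theorem F473058 : act 0 n214003 = n204267 := d21_10 F431765 F415148 (iv5 F245562) (iv6 F422353) F422352 D201953 (iv5 F457392) (iv1 D204621) (iv5 F457388) D214003
theorem F473059 : act 1 n214003 = n213541 := d15_1 (iv0 F473058) F470938 (iv2 F431762)
theorem F473060 : act 7 n192332 = n214003 := d11_0 F473057 F384789 D192332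
def n214004 : Q := act 0 n156174
theorem D214004 : act 0 n156174 = n214004 := rfl
theorem F473061 : act 6 n214004 = n185166 := d21_5 F240049 F320453 (iv5 F320455) F320456 D214004 (iv5 F359538) D202236 F423349 (iv6 D152834) D152832
theorem F473062 : act 5 n214004 = n202235 := d21_8 F330573 (iv1 F330534) (iv5 D115546) (iv6 F339877) (iv1 D74290) D74293 D156174 D214004 (iv6 D202235) (iv1 F330594)
theorem F473063 : act 1 n213235 = n214004 := d15_0 (iv0 D214004) (iv7 F458731) (iv2 F469523)
theorem F473064 : act 2 n185173 = n214004 := d2_3 F473062 (iv2 F458625) F458627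
theorem F473065 : act 7 n213234 = n214004 := d13_0 F473062 (iv7 F458707) F469517
theorem F473066 : act 4 n214004 = n185168 := d19_2 F423348 (iv5 F473062) (iv3 F406641) (iv1 F406644) F222596 F101113 (iv3 F97619) (iv1 F169547) (iv5 F395462) (iv4 F435261) F435260 (iv1 F395242) (iv5 F415616) (iv4 D200227) (iv3 F392580) F392578 (iv5 F223590) F223588 D201988
theorem F473067 : act 1 n177983 = n213235 := d15_0 F473063 (iv7 F473065) (iv2 F469521)
theorem F473068 : act 1 n156174 = n177983 := d15_0 F473067 (iv7 D213235) (iv2 F366409)
def n214005 : Q := act 4 n156174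
theorem D214005 : act 4 n156174 = n214005 := rfl
theorem F473069 : act 2 n214005 = n213116 := d1_1 D214005 F469076 (iv2 F366409)
theorem F473070 : act 3 n214005 = n192255 := d5_1 D214005 (iv4 F386223) (iv3 F368477) (iv4 D156182) (iv3 F245440)
theorem F473071 : act 6 n214005 = n213041 := d10_2 F320456 D214005 F468738
theorem F473072 : act 5 n214005 = n210507 := d16_1 D214005 (iv4 F458626) F458627 F287515 D185178 (iv4 F473041) F473042 (iv7 D213235) (iv2 F366409)
theorem F473073 : act 0 n214005 = n192249 := d21_4 (iv5 D201555) (iv1 F239370) D213041 (iv6 F473071) (iv6 D192249) F375477 (iv1 F449702) F449698 (iv6 F361008) (iv1 F420934)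
theorem F473074 : act 3 n203623 = n213190 := d20_3 D214005 F473073 F463020 (iv1 D213190) F356036 (iv4 D124042) (iv1 F198421) F303655 D177983 (iv1 F473068)
def n214006 : Q := act 3 n156178
theorem D214006 : act 3 n156178 = n214006 := rfl
theorem F473075 : act 2 n214006 = n213273 := d0_1 D214006 F469659 F472482 F472481 (iv2 F472467)
theorem F473076 : act 7 n214006 = n213274 := d8_2 F472470 D214006 F472472
theorem F473077 : act 4 n214006 = n199530 := d20_6 F185673 (iv1 D118164) (iv4 F318298) F167161 D156178 D214006 F412545 F230545 (iv3 D72092) (iv1 F87040)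
theorem F473078 : act 0 n214006 = n177996 := d20_10 F413421 F413419 F405155 (iv3 D137037) (iv1 D64418) D64419 (iv4 F167213) D197381 (iv4 F455198) D214006
theorem F473079 : act 6 n199533 = n214006 := d10_0 F473077 F412544 D199533
def n214007 : Q := act 6 n156178
theorem D214007 : act 6 n156178 = n214007 := rfl
theorem F473080 : act 3 n214007 = n199533 := d7_1 D214007 F473079 (iv3 D214006)
theorem F473081 : act 5 n214007 = n213594 := d21_6 (iv5 D16513) D16510 D34087 D74295 D156178 D214007 F471210 (iv5 D156266) (iv6 D74333) (iv1 D34098)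
theorem F473082 : act 0 n202404 = n214007 := d17_2 (iv1 F470561) F470563 F473081 (iv4 D213594) F242483 (iv0 F388324) F366444 F366915 D178073
theorem F473083 : act 6 n213594 = n213241 := d21_3 F470563 F473082 F473081 (iv1 D213241) (iv6 D152870) (iv5 F188665) (iv1 F188667) D119627 (iv6 F364658) (iv1 F470561)
theorem F473084 : act 3 n213241 = n177894 := d7_1 F473083 (iv6 F457992) (iv3 F471208)
theorem F473085 : act 4 n213241 = n183868 := d10_1 F473083 (iv6 F364091) D213594
theorem F473086 : act 7 n185219 = n213241 := d11_0 F473085 F285683 (iv4 F287536)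
theorem F473087 : act 2 n185219 = n213240 := d15_3 (iv0 D213240) D213241 (iv7 F473086)
theorem F473088 : act 4 n213240 = n185230 := d1_2 (iv4 F287536) F473087 (iv2 D185230)
def n214008 : Q := act 1 n156180
theorem D214008 : act 1 n156180 = n214008 := rfl
theorem F473089 : act 1 n214008 = n213237 := d15_1 D214008 F469524 F458735
theorem F473090 : act 7 n214008 = n213222 := d15_2 (iv0 F455030) D214008 F469481
theorem F473091 : act 4 n213655 = n214008 := d20_6 (iv4 F422969) (iv1 F471439) F471437 F242640 D154588 D213655 (iv1 D214008) (iv4 F454935) F454933 F422970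
theorem F473092 : act 5 n213058 = n214008 := d21_0 (iv1 D214008) (iv5 D156180) (iv6 D74295) D74294 (iv6 F360875) F360874 (iv1 F444567) (iv5 F458642) F458643 (iv1 F468812)
theorem F473093 : act 6 n213885 = n213058 := d21_5 F111501 (iv1 F99219) (iv5 F111036) D156029 D213885 F473092 (iv1 D214008) (iv5 D156180) (iv6 D74295) D74294
theorem F473094 : act 2 n156256 = n213885 := d3_3 F473093 F468816 (iv6 F469479)
theorem F473095 : act 7 n213886 = n156256 := d15_2 (iv0 D213885) D213886 F473094
theorem F473096 : act 7 n156257 = n213885 := d15_2 (iv0 D156256) D156257 (iv2 F473094)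
theorem F473097 : act 2 n213886 = n156257 := d4_3 F473096 (iv2 F473094) (iv7 F473095)
theorem F473098 : act 2 n214008 = n213221 := d2_1 F473092 (iv5 D213221) (iv2 F468816)
theorem F473099 : act 5 n209844 = n209540 := d17_7 (iv1 D214008) (iv5 D156180) D156178 F469490 F469489 (iv5 D209846) D209844 (iv0 F471473) F473091
theorem F473100 : act 2 n192169 = n209844 := d2_3 F473099 F454080 (iv5 F385842)
theorem F473101 : act 6 n192166 = n209844 := d12_0 F473099 (iv6 F454079) F340587 (iv6 F153665) D192166
theorem F473102 : act 3 n209844 = n193853 := d7_1 F473101 (iv6 D193853) (iv3 F385829)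
def n214009 : Q := act 0 n156182
theorem D214009 : act 0 n156182 = n214009 := rfl
theorem F473103 : act 5 n214009 = n190229 := d17_3 F372761 F372757 D214009 F379136 F356020 F173600 (iv5 F321139) (iv0 F158372) F158371
theorem F473104 : act 4 n214009 = n196514 := d18_1 D214009 F400925 F340590 (iv5 D87876) (iv4 F75092) D103085 (iv4 F285545) (iv0 F372760) F372757
theorem F473105 : act 3 n214009 = n213668 := d20_5 (iv4 F387901) (iv1 F387908) (iv4 F386223) (iv3 F368477) D214009 (iv4 D213668) (iv1 D154654) (iv4 F349322) (iv3 F378190) (iv1 F378193)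
theorem F473106 : act 2 n183778 = n214009 := d15_3 (iv0 D214009) F422721 F382866
theorem F473107 : act 1 n184598 = n214009 := d15_0 (iv0 D214009) (iv7 F385098) F385096
theorem F473108 : act 7 n214009 = n213959 := d15_2 F422720 F473107 F472892
theorem F473109 : act 6 n192257 = n214009 := d21_3 F392028 F426820 F426821 (iv1 F473107) F286586 (iv5 D181152) F348256 D123511 (iv6 F432007) F432589
def n214010 : Q := act 5 n156195
theorem D214010 : act 5 n156195 = n214010 := rfl
theorem F473110 : act 2 n214010 = n197096 := d2_1 D214010 F403024 F245466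
theorem F473111 : act 3 n214010 = n160595 := d6_1 D214010 (iv5 F344810) (iv3 F319241)
theorem F473112 : act 7 n214010 = n197095 := d13_2 F245468 D214010 (iv5 F403023)
theorem F473113 : act 4 n214010 = n190611 := d16_2 (iv4 F247024) D214010 F444656 (iv4 D207390) F210034 (iv4 F111078) (iv5 F220226) F320578 (iv2 F320572)
theorem F473114 : act 0 n214010 = n190961 := d17_2 D156195 D214010 F381722 (iv4 F355511) F355512 F355487 (iv5 D156186) (iv0 D74299) D74302
theorem F473115 : act 1 n214010 = n191082 := d17_6 (iv1 F416800) (iv5 F416801) (iv1 F443615) F443613 (iv4 F247024) D214010 F382153 F351355 (iv4 F179636)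
def n214011 : Q := act 3 n156196
theorem D214011 : act 3 n156196 = n214011 := rfl
theorem F473116 : act 2 n214011 = n181796 := d0_1 D214011 (iv3 D181796) (iv2 F344814) (iv3 F344863) (iv2 F245467)
theorem F473117 : act 4 n214011 = n197328 := d5_2 F245461 D214011 (iv3 D197328) F167131 D137063
theorem F473118 : act 7 n214011 = n197115 := d8_2 (iv7 F245462) D214011 (iv3 D197115)
theorem F473119 : act 0 n214011 = n194333 := d19_4 (iv1 D156045) (iv5 F220226) F245461 D214011 (iv5 F425162) (iv4 D202698) (iv3 D116438) (iv1 D53666) (iv5 F315925) F105815 F321854 (iv1 F320306) F321864 D146835 F361423 F274446 F332264 F332265 F332267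
theorem F473120 : act 0 n197608 = n214011 := d20_4 (iv4 F404779) F405013 (iv4 D197609) D197608 (iv3 D214011) (iv4 F245461) F320433 F130524 (iv3 F92367) (iv1 F352305)
theorem F473121 : act 5 n214011 = n202746 := d17_1 F473120 (iv1 F425396) F355444 F280194 F356558 (iv0 D156268) (iv5 F166975) F403669 (iv4 F405009)
def n214012 : Q := act 5 n156196
theorem D214012 : act 5 n156196 = n214012 := rfl
theorem F473122 : act 2 n214012 = n197095 := d2_1 D214012 (iv5 F403023) (iv2 F245467)
theorem F473123 : act 3 n214012 = n202746 := d6_1 D214012 (iv5 F473121) (iv3 D214011)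
theorem F473124 : act 7 n214012 = n197096 := d13_2 (iv7 F245462) D214012 F403024
theorem F473125 : act 0 n214012 = n191082 := d17_2 (iv1 F245460) D214012 F382153 (iv4 F167099) F167100 (iv0 F355490) F351402 F245084 F245079
theorem F473126 : act 1 n214012 = n190961 := d17_6 F415901 (iv5 F332268) (iv1 D156045) (iv5 F220226) F245461 D214012 F381722 F402923 (iv4 F415899)
theorem F473127 : act 4 n214012 = n190610 := d18_5 (iv1 F351394) (iv4 F318282) F220228 F245461 D214012 (iv0 D190610) (iv4 F351335) F351359 (iv5 D179249)
theorem F473128 : act 6 n214012 = n199653 := d21_3 (iv5 D197116) (iv1 F245460) D214012 (iv1 D199653) (iv6 D111552) (iv5 D51450) F39243 D49886 D108020 (iv1 F403122)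
def n214013 : Q := act 6 n156196
theorem D214013 : act 6 n156196 = n214013 := rfl
theorem F473129 : act 2 n214013 = n177609 := d3_1 D214013 F344872 (iv2 F245467)
theorem F473130 : act 4 n214013 = n202718 := d10_1 D214013 F425269 F245461
theorem F473131 : act 5 n214013 = n174108 := d12_1 D214013 (iv6 F434773) F434772 (iv6 F473128) (iv5 D214012)
theorem F473132 : act 7 n214013 = n202314 := d14_2 (iv7 F245462) D214013 (iv6 D202314) F218818 (iv6 F351557)
theorem F473133 : act 0 n214013 = n197145 := d21_4 (iv5 F381722) (iv1 F473126) (iv5 D214012) D214013 (iv6 F404633) (iv5 D197510) D197509 (iv5 F415269) F415270 (iv1 F402923)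
theorem F473134 : act 0 n205957 = n214013 := d21_4 (iv5 F432140) F433905 F433904 (iv6 F438585) (iv6 D214013) D214012 F473125 F382153 D197074 (iv1 F428862)
def n214014 : Q := act 6 n156197
theorem D214014 : act 6 n156197 = n214014 := rfl
theorem F473135 : act 2 n214014 = n190222 := d3_1 D214014 F403568 (iv2 F403567)
theorem F473136 : act 3 n214014 = n188569 := d7_1 D214014 (iv6 F374014) (iv3 F245469)
theorem F473137 : act 4 n214014 = n190214 := d10_1 D214014 (iv6 F392698) F392692
theorem F473138 : act 7 n214014 = n190218 := d14_2 (iv7 F245470) D214014 F427709 (iv7 F427710) (iv6 D197120)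
theorem F473139 : act 0 n214014 = n203812 := d21_4 (iv5 D214012) (iv1 D156196) D156197 D214014 (iv6 D203812) (iv5 D120796) F94714 F149795 D190961 (iv1 F473126)
theorem F473140 : act 1 n214014 = n205878 := d15_1 (iv0 F473139) F438227 (iv2 F429925)
def n214015 : Q := act 0 n156201
theorem D214015 : act 0 n156201 = n214015 := rfl
theorem F473141 : act 4 n214015 = n194583 := d20_2 (iv4 F245476) D214015 (iv3 D194583) (iv1 D103810) (iv3 F159233) F295867 (iv1 F82352) D108226 D197485 F439047
theorem F473142 : act 3 n214015 = n204497 := d20_5 (iv4 F472240) (iv1 D197331) F167169 (iv3 F245475) D214015 (iv4 D204497) F413592 (iv4 F472920) F472919 (iv1 F245395)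
theorem F473143 : act 5 n214015 = n213229 := d21_0 (iv1 D213229) (iv5 F423717) (iv6 D202350) (iv1 F180011) D115667 F351402 (iv1 D74300) D74303 D156201 D214015
def n214016 : Q := act 1 n156201
theorem D214016 : act 1 n156201 = n214016 := rfl
theorem F473144 : act 3 n213860 = n214016 := d20_3 F472161 (iv1 F279205) (iv4 F472440) (iv1 D214016) F245475 (iv4 F167169) D197330 F472459 D209891 F472162
def n214017 : Q := act 5 n156201
theorem D214017 : act 5 n156201 = n214017 := rfl
theorem F473145 : act 3 n214017 = n156208 := d6_1 D214017 (iv5 D156208) (iv3 F245475)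
theorem F473146 : act 6 n214017 = n156204 := d12_2 D156201 D214017 (iv5 D156204) (iv6 D74304) D74303
theorem F473147 : act 5 n213228 = n214016 := d21_0 (iv1 D214016) D214017 F473146 F429007 (iv6 D203587) (iv5 D119613) (iv1 F87036) D72120 D152844 D213228
def n214018 : Q := act 7 n156201
theorem D214018 : act 7 n156201 = n214018 := rfl
theorem F473148 : act 3 n214018 = n156209 := d8_1 D214018 (iv7 D156209) (iv3 F245475)
theorem F473149 : act 4 n214018 = n200329 := d11_1 D214018 (iv7 D200329) (iv4 F245476)
def n214019 : Q := act 4 n156204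
theorem D214019 : act 4 n156204 = n214019 := rfl
def n214020 : Q := act 5 n156206
theorem D214020 : act 5 n156206 = n214020 := rfl
theorem F473150 : act 2 n214020 = n178078 := d2_1 D214020 (iv5 F433268) F472453
theorem F473151 : act 3 n214020 = n214000 := d6_1 D214020 (iv5 D214000) F472400
theorem F473152 : act 6 n214020 = n213992 := d21_9 (iv5 F455026) F455028 (iv5 F223387) (iv6 F362129) F179652 (iv6 F245479) (iv5 D156208) D156206 D214020 F473016
theorem F473153 : act 4 n213993 = n214020 := d10_3 F473152 (iv4 D213992) D213993
def n214021 : Q := act 6 n156206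
theorem D214021 : act 6 n156206 = n214021 := rfl
theorem F473154 : act 3 n214021 = n214001 := d7_1 D214021 (iv6 D214001) F472400
theorem F473155 : act 4 n214021 = n195487 := d20_6 (iv4 F179908) F179913 (iv4 F179527) (iv3 F422390) F473052 (iv3 F473154) (iv1 D195487) (iv4 F179480) F179479 D115245
theorem F473156 : act 6 n195487 = n197374 := d10_2 D214021 F473155 (iv4 F472399)
theorem F473157 : act 5 n195487 = n210563 := d21_6 (iv5 D24356) D24353 D49939 D108123 D197374 (iv6 F473156) (iv1 F458053) (iv5 D197420) (iv6 D108149) (iv1 D49950)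
theorem F473158 : act 3 n210571 = n195487 := d6_3 F473157 F458051 (iv5 F458078)
theorem F473159 : act 7 n210562 = n195487 := d13_0 F473157 (iv7 D210563) D210562
theorem F473160 : act 2 n210562 = n195486 := d15_3 (iv0 D195486) D195487 (iv7 F473159)
theorem F473161 : act 5 n195486 = n210557 := d2_2 D210562 F473160 F458027
theorem E104010 : n214021 = n202344 := (c20_7 F427417 (iv1 F241290) (iv4 F280254) (iv3 F446982) (iv1 F458080) F473158 (iv4 F473155) (iv1 D202344) (iv4 F423698) F423697 D203210)
theorem F473162 : act 3 n202344 = n214001 := (sb E104010 F473154)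
theorem F473163 : act 4 n202344 = n195487 := (sb E104010 F473155)
theorem F473164 : act 6 n202344 = n156206 := (sb E104010 (iv6 D214021))
def n214022 : Q := act 6 n156207
theorem D214022 : act 6 n156207 = n214022 := rfl
theorem F473165 : act 4 n214022 = n213826 := d10_1 D214022 F472254 (iv4 F472458)
theorem F473166 : act 1 n201960 = n214022 := d17_8 F472253 (iv5 D211528) (iv1 F404611) F404609 F245580 F111533 F179555 D201960 F473165
theorem F473167 : act 0 n201961 = n214022 := d18_2 F472230 (iv4 F422534) F473165 (iv5 D213826) (iv4 D155903) F185783 (iv4 F427487) F427491 D213820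
def n214023 : Q := act 0 n156208
theorem D214023 : act 0 n156208 = n214023 := rfl
def n214024 : Q := act 1 n156208
theorem D214024 : act 1 n156208 = n214024 := rfl
def n214025 : Q := act 4 n156208
theorem D214025 : act 4 n156208 = n214025 := rfl
theorem F473168 : act 6 n214025 = n156210 := d10_2 (iv6 F245479) D214025 (iv4 D156210)
def n214026 : Q := act 7 n156208
theorem D214026 : act 7 n156208 = n214026 := rfl
theorem F473169 : act 5 n214026 = n156209 := d13_1 D214026 (iv7 D156209) D156208
def n214027 : Q := act 3 n156210
theorem D214027 : act 3 n156210 = n214027 := rfl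
theorem F473170 : act 5 n214027 = n212736 := d6_2 F455068 D214027 F467300
def n214028 : Q := act 0 n156216
theorem D214028 : act 0 n156216 = n214028 := rfl
theorem F473171 : act 3 n214028 = n202322 := d20_5 F426977 (iv1 F393564) F245524 (iv3 F245496) D214028 F423622 (iv1 D155881) (iv4 F244859) F244858 D203103
theorem F473172 : act 4 n214028 = n193949 := d20_8 (iv4 F158493) D194354 F392916 F392532 (iv1 F366529) (iv3 F415983) F415984 D214028 F391492 (iv1 D103247)
theorem F473173 : act 2 n214015 = n214028 := d1_3 F473172 (iv2 F393756) (iv4 F473141)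
theorem F473174 : act 6 n193948 = n214028 := d10_0 F473172 (iv6 D193949) D193948
theorem F473175 : act 7 n214016 = n214028 := d15_2 (iv0 D214015) D214016 (iv2 F473173)
def n214029 : Q := act 1 n156216
theorem D214029 : act 1 n156216 = n214029 := rfl
theorem F473176 : act 1 n214029 = n214018 := d15_1 D214029 (iv7 D214018) (iv2 F245495)
theorem F473177 : act 7 n214029 = n214015 := d15_2 (iv0 D214028) D214029 F473173
theorem F473178 : act 5 n214029 = n204510 := d18_9 F469506 F469503 F456654 F469446 (iv5 F469447) (iv4 F415603) (iv0 F423711) F415984 D214029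
theorem F473179 : act 3 n204511 = n214029 := d20_3 F472387 (iv1 F413600) (iv4 F432766) (iv1 D214029) F245496 (iv4 F245524) (iv1 F404539) F426984 (iv3 F426987) F472390
theorem F473180 : act 2 n214029 = n214016 := d0_1 F473179 (iv3 F473144) (iv2 F472441) F472447 (iv2 F432764)
theorem F473181 : act 1 n214018 = n214028 := d15_1 F473176 (iv7 F473175) (iv2 F473180)
def n214030 : Q := act 5 n156216
theorem D214030 : act 5 n156216 = n214030 := rfl
theorem F473182 : act 2 n214030 = n214017 := d2_1 D214030 (iv5 D214017) (iv2 F245495)
theorem F473183 : act 3 n214030 = n156225 := d6_1 D214030 (iv5 D156225) (iv3 F245496)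
theorem F473184 : act 6 n214030 = n213257 := d12_2 D156216 D214030 F469584 (iv6 D156194) F167148
def n214031 : Q := act 7 n156216
theorem D214031 : act 7 n156216 = n214031 := rfl
theorem F473185 : act 2 n214031 = n214018 := d4_1 D214031 (iv7 D214018) (iv2 F245495)
theorem F473186 : act 3 n214031 = n156226 := d8_1 D214031 (iv7 D156226) (iv3 F245496)
theorem F473187 : act 1 n214016 = n214031 := d15_1 D214016 (iv7 D214031) F245495
theorem F473188 : act 1 n214031 = n214015 := d15_1 F473187 (iv7 F473177) F473180
def n214032 : Q := act 6 n156218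
theorem D214032 : act 6 n156218 = n214032 := rfl
theorem F473189 : act 2 n214032 = n197488 := d3_1 D214032 (iv6 D197488) (iv2 F245508)
theorem F473190 : act 3 n214032 = n156220 := d7_1 D214032 (iv6 D156220) D156218
theorem F473191 : act 4 n214032 = n179092 := d10_1 D214032 (iv6 D179092) (iv4 F316716)
theorem F473192 : act 5 n214032 = n212022 := d12_1 D214032 F463987 (iv5 D184777) (iv6 F310870) (iv5 F316717)
theorem F473193 : act 7 n214032 = n201492 := d14_2 F245519 D214032 (iv6 D201492) F178715 (iv6 F314598)
theorem F473194 : act 0 n214032 = n156636 := d21_4 (iv5 D149071) F155119 (iv5 F316717) D214032 (iv6 F366476) F319309 (iv1 F264409) (iv5 F185773) F185774 (iv1 F278738)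
theorem F473195 : act 0 n203233 = n214032 := d21_4 F348062 (iv1 F351434) D212857 F467815 (iv6 D214032) F316717 (iv1 F155120) (iv5 F316785) D138504 (iv1 F348116)
def n214033 : Q := act 5 n156220
theorem D214033 : act 5 n156220 = n214033 := rfl
theorem F473196 : act 2 n214033 = n197491 := d2_1 D214033 (iv5 D197491) (iv2 F245523)
theorem F473197 : act 3 n214033 = n212022 := d6_1 D214033 (iv5 F473192) F473190
theorem F473198 : act 6 n214033 = n203063 := d12_2 D156220 D214033 F426837 (iv6 F188294) F314997
theorem F473199 : act 7 n214033 = n201050 := d13_2 F468733 D214033 (iv5 F468732)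
theorem F473200 : act 1 n214033 = n202875 := d17_6 (iv1 F458655) (iv5 F458689) (iv1 F458690) (iv5 D156225) (iv4 F245524) D214033 F425985 F424586 (iv4 F458653)
theorem F473201 : act 4 n214033 = n208437 := d18_5 (iv1 F200303) D151303 F423710 (iv4 F245524) D214033 F449353 (iv4 D202964) (iv0 D117406) F85405
theorem F473202 : act 0 n214033 = n170405 := d18_0 F352620 (iv1 D117649) F85520 D54207 D117680 D203104 (iv4 F426984) F404539 D214033
def n214034 : Q := act 5 n156222
theorem D214034 : act 5 n156222 = n214034 := rfl
theorem F473203 : act 2 n214034 = n210882 := d2_1 D214034 F459135 (iv2 F245530)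
theorem F473204 : act 3 n214034 = n213257 := d6_1 D214034 F469584 (iv3 F245531)
theorem F473205 : act 6 n214034 = n156225 := d12_2 D156222 D214034 (iv5 D156225) (iv6 D74315) D74314
theorem F473206 : act 0 n214034 = n192449 := d17_2 F386629 D214034 (iv5 D192449) (iv4 D100190) (iv5 F292681) (iv0 F345184) (iv5 F372278) F372277 D192392
def n214035 : Q := act 4 n156225
theorem D214035 : act 4 n156225 = n214035 := rfl
def n214036 : Q := act 1 n156235
theorem D214036 : act 1 n156235 = n214036 := rfl
theorem F473207 : act 1 n214036 = n156246 := d15_1 D214036 (iv7 D156246) (iv2 F245545)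
theorem F473208 : act 7 n214036 = n156241 := d15_2 F457051 D214036 (iv2 F457047)
theorem F473209 : act 5 n214036 = n212451 := d17_7 (iv1 F278248) (iv5 F311314) (iv1 D120148) D120150 F311318 (iv5 F320429) D214036 (iv0 D212451) F361426
theorem F473210 : act 4 n214036 = n178767 := d17_9 (iv1 D178767) (iv5 D85190) F315026 D156924 F316168 (iv5 D83756) D83754 (iv5 F320429) D214036
theorem F473211 : act 3 n207145 = n214036 := d19_19 (iv1 D214036) F320429 (iv4 F311318) F189783 (iv1 F342246) F342248 (iv4 F309683) (iv3 D61624) (iv1 D29198) (iv5 D13890) D13889 F23157 F19054 D23769 D48738 D105410 D195209 (iv5 F396272) D207145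
theorem F473212 : act 2 n214036 = n156242 := d0_1 F473211 F332254 (iv2 F447699) F447697 F447692
def n214037 : Q := act 6 n156238
theorem D214037 : act 6 n156238 = n214037 := rfl
theorem F473213 : act 2 n214037 = n208259 := d3_1 D214037 (iv6 D208259) (iv2 F245551)
theorem F473214 : act 3 n214037 = n184691 := d7_1 D214037 F354240 F245554
theorem F473215 : act 4 n214037 = n156239 := d10_1 D214037 (iv6 D156239) D156238
theorem F473216 : act 0 n210359 = n214037 := d20_7 (iv4 D203564) (iv1 D119565) D119566 F366383 D152740 D213161 F469278 F473215 (iv3 F423895) F428906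
def n214038 : Q := act 0 n156239
theorem D214038 : act 0 n156239 = n214038 := rfl
theorem F473217 : act 4 n214038 = n191924 := d20_2 F473215 D214038 F384847 D191925 (iv3 F384858) (iv4 D150685) (iv1 F313397) D138410 D210359 F473216
theorem F473218 : act 1 n210117 = n214038 := d15_0 (iv0 D214038) (iv7 F428858) (iv2 F456236)
theorem F473219 : act 6 n191923 = n214038 := d10_0 F473217 (iv6 D191924) D191923
def n214039 : Q := act 1 n156239
theorem D214039 : act 1 n156239 = n214039 := rfl
theorem F473220 : act 1 n214039 = n210117 := d15_1 D214039 F456237 F403743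
theorem F473221 : act 3 n214039 = n156257 := d20_5 F166212 (iv1 F167036) (iv4 F220782) D210117 (iv1 F473220) F472584 (iv1 D197419) F167238 F111094 D74233
def n214040 : Q := act 5 n156239
theorem D214040 : act 5 n156239 = n214040 := rfl
theorem F473222 : act 2 n214040 = n211466 := d2_1 D214040 F461661 F403743
theorem F473223 : act 3 n214040 = n212757 := d6_1 D214040 F467379 F423895
theorem F473224 : act 6 n214040 = n209801 := d12_2 D156239 D214040 F455002 (iv6 F239971) (iv5 F318299)
theorem F473225 : act 7 n214040 = n209840 := d13_2 F428858 D214040 (iv5 F455114)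
theorem F473226 : act 4 n209802 = n214040 := d11_3 F473225 F455113 (iv7 F455004)
def n214041 : Q := act 5 n156240
theorem D214041 : act 5 n156240 = n214041 := rfl
theorem F473227 : act 3 n214041 = n185170 := d6_1 D214041 (iv5 F359543) (iv3 F245556)
theorem F473228 : act 7 n214041 = n209878 := d13_2 F461061 D214041 F461063
theorem F473229 : act 4 n214041 = n209880 := d16_6 (iv4 F167211) D197376 F448952 (iv5 D208333) (iv4 F245557) D214041 F455238 (iv7 D137070) (iv2 F111478)
def n214042 : Q := act 6 n156241
theorem D214042 : act 6 n156241 = n214042 := rfl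
theorem F473230 : act 0 n214042 = n191924 := d21_4 F274443 F274446 F332264 D214042 (iv6 D191924) F292909 D100375 (iv5 F367144) F367145 D175403
def n214043 : Q := act 6 n156242
theorem D214043 : act 6 n156242 = n214043 := rfl
def n214044 : Q := act 0 n156245
theorem D214044 : act 0 n156245 = n214044 := rfl
theorem F473231 : act 5 n214044 = n191904 := d17_3 F333751 (iv5 F335203) D214044 (iv4 F384778) (iv5 F430551) (iv0 F430554) F345819 F345823 F315010
theorem F473232 : act 3 n214044 = n158864 := d20_5 (iv4 F427522) F427523 F384818 F384817 D214044 (iv4 D158864) D158862 (iv4 F356153) D192858 (iv1 F388039)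
theorem F473233 : act 2 n192327 = n214044 := d15_3 (iv0 D214044) (iv0 F383361) (iv7 F386448)
theorem F473234 : act 7 n214044 = n192235 := d4_2 (iv7 F386448) F473233 F386144
theorem F473235 : act 1 n191529 = n214044 := d15_1 (iv0 F383669) F473234 F386144
def n214045 : Q := act 7 n156245
theorem D214045 : act 7 n156245 = n214045 := rfl
theorem F473236 : act 2 n214045 = n191529 := d4_1 D214045 F383668 F342228
theorem F473237 : act 3 n214045 = n192376 := d8_1 D214045 F386606 F384817
theorem F473238 : act 4 n214045 = n156249 := d11_1 D214045 (iv7 D156249) (iv4 F245559)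
theorem F473239 : act 5 n214045 = n173393 := d13_1 D214045 (iv7 D173393) (iv5 F335203)
theorem F473240 : act 1 n192235 = n214045 := d15_1 (iv0 F386146) (iv7 D214045) (iv2 F342228)
theorem F473241 : act 1 n214045 = n192327 := d15_1 F473240 F386448 (iv2 F386144)
def n214046 : Q := act 5 n156248
theorem D214046 : act 5 n156248 = n214046 := rfl
theorem F473242 : act 3 n214046 = n202181 := d6_1 D214046 (iv5 D202181) F339884
theorem F473243 : act 7 n214046 = n210733 := d13_2 (iv7 F339883) D214046 (iv5 D210733)
theorem F473244 : act 4 n214046 = n199978 := d16_2 (iv4 F339885) D214046 F414449 F414185 (iv5 F388779) F388778 (iv5 F388808) (iv7 D193116) (iv2 F195771)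
def n214047 : Q := act 3 n156256
theorem D214047 : act 3 n156256 = n214047 := rfl
theorem F473245 : act 6 n214047 = n213220 := d7_2 (iv6 F469479) D214047 (iv3 D213220)
def n214048 : Q := act 4 n156256
theorem D214048 : act 4 n156256 = n214048 := rfl
theorem F473246 : act 6 n214048 = n201970 := d10_2 (iv6 F469479) D214048 F464122
def n214049 : Q := act 5 n156256
theorem D214049 : act 5 n156256 = n214049 := rfl
theorem F473247 : act 4 n214049 = n185250 := d19_2 D156256 D214049 (iv3 F467195) (iv1 F421406) (iv5 F430824) F430823 (iv3 D122745) (iv1 F304429) (iv5 F195899) (iv4 D122449) (iv3 F304423) F304637 (iv5 D184724) (iv4 F282518) F427291 (iv1 D203170) F239955 (iv4 D152757) (iv3 F318478)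
theorem F473248 : act 0 n214049 = n212745 := d21_1 D214049 (iv5 F467334) (iv6 D202340) (iv1 F360871) (iv6 D137052) (iv5 D64423) (iv1 F78933) F78931 D74331 D156256
theorem F473249 : act 1 n214049 = n212747 := d15_1 (iv0 F473248) F467344 (iv2 F467333)
def n214050 : Q := act 5 n156257
theorem D214050 : act 5 n156257 = n214050 := rfl
theorem F473250 : act 0 n212745 = n214050 := d21_10 (iv5 D214050) (iv1 D156257) D156258 F245575 (iv1 F357610) (iv6 F469219) (iv5 D213150) (iv1 F348361) F348363 F467335
theorem F473251 : act 4 n214050 = n185251 := d20_0 (iv1 D185251) D185253 F388348 (iv1 F388346) D202275 (iv4 F423443) (iv1 F388327) (iv4 F388330) D212745 F473250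
def n214051 : Q := act 6 n156257
theorem D214051 : act 6 n156257 = n214051 := rfl
theorem F473252 : act 7 n214051 = n213223 := d14_2 (iv7 F473096) D214051 (iv6 D213223) (iv7 F468813) (iv6 F473093)
theorem F473253 : act 0 n214051 = n213258 := d21_10 F469587 (iv1 F423496) (iv5 F452224) F452225 (iv1 F336243) D202340 F467334 F473250 (iv5 D214050) D214051
def n214052 : Q := act 0 n156258
theorem D214052 : act 0 n156258 = n214052 := rfl
theorem F473254 : act 6 n214052 = n202319 := d21_5 F179933 F167012 (iv5 F225256) (iv6 F245575) D214052 (iv5 D202319) F360169 D115604 F179932 D115606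
theorem F473255 : act 5 n214052 = n202343 := d21_8 (iv5 D115705) (iv1 D53353) (iv5 F53510) (iv6 D34100) D34097 D74331 D156258 D214052 F461044 (iv1 F423881)
theorem F473256 : act 4 n195486 = n202343 := d17_4 (iv1 D197419) D197420 F458029 (iv5 F473161) (iv5 F473255) (iv0 D214052) (iv5 D156258) D156257 F472584
theorem F473257 : act 4 n214052 = n185356 := d18_5 F391293 F179480 D195486 F473256 (iv5 F473255) (iv0 D185356) F329739 (iv0 F455079) (iv5 F455279)
theorem F473258 : act 0 n214052 = n212763 := d21_1 (iv5 F473255) (iv5 F472580) F472581 (iv1 F461050) (iv6 D211304) (iv5 D141722) (iv1 F360885) F336234 D115640 D202343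
def n214053 : Q := act 1 n156258
theorem D214053 : act 1 n156258 = n214053 := rfl
theorem F473259 : act 1 n214053 = n212763 := d15_1 D214053 F472577 F472573
theorem F473260 : act 6 n209228 = n214053 := d21_3 (iv5 F422888) (iv1 F473017) F473014 (iv1 D214053) F245575 F225256 (iv1 F167013) (iv5 F179934) (iv6 F362128) F220149
theorem F473261 : act 5 n202344 = n214053 := d21_6 F78997 (iv1 F53415) D34090 D74305 D156206 (iv6 F473164) (iv1 D214053) (iv5 D156258) (iv6 D74331) (iv1 F78999)
theorem F473262 : act 2 n214053 = n209831 := d3_1 F473260 (iv6 D209831) F452796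
theorem F473263 : act 4 n214053 = n185357 := d10_1 F473260 (iv6 F365613) (iv4 F452795)
theorem F473264 : act 7 n214052 = n209831 := d15_2 F473259 (iv0 F473258) (iv2 F473262)
def n214054 : Q := act 4 n156258
theorem D214054 : act 4 n156258 = n214054 := rfl
theorem F473265 : act 2 n214054 = n191293 := d1_1 D214054 (iv4 F472576) F472573
theorem F473266 : act 3 n214054 = n192818 := d5_1 D214054 F390897 (iv3 F449833) F449834 F366512
theorem F473267 : act 6 n214054 = n191289 := d10_2 (iv6 F245575) D214054 F382891

end Cfsg.Agent.Helper17.ONTC
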