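import Cfsg.Agent.Helper17.ONTC.Facts55

set_option autoImplicit false
set_option linter.all false

noncomputable section

namespace Cfsg.Agent.Helper17.ONTC

theorem F473268 : act 1 n214054 = n209225 := d18_6 (iv1 F472352) F472361 (iv1 D197301) F167109 D156258 D214054 F452786 (iv0 F426882) F390542
theorem F473269 : act 1 n209828 = n214054 := d15_0 F473268 F452787 (iv2 F455082)
theorem F473270 : act 7 n209827 = n214054 := d15_2 (iv0 F382914) D209827 F473265
def n214055 : Q := act 7 n156258
theorem D214055 : act 7 n156258 = n214055 := rfl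
theorem F473271 : act 2 n214055 = n212763 := d4_1 D214055 F472577 F472573
theorem F473272 : act 3 n214055 = n209218 := d8_1 D214055 F452756 F366512
theorem F473273 : act 4 n214055 = n209827 := d11_1 D214055 F473270 (iv4 D214054)
theorem F473274 : act 5 n214055 = n156259 := d13_1 D214055 (iv7 D156259) D156258
theorem F473275 : act 6 n209230 = n214055 := d12_0 F473274 (iv6 F472594) (iv5 F472597) (iv6 D213253) (iv5 F472837)
theorem F473276 : act 0 n214055 = n209831 := d21_4 F239977 D152873 (iv5 F472837) F473275 (iv6 D209831) F422879 (iv1 D202102) D202104 F469298 (iv1 D213168)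
theorem F473277 : act 1 n213887 = n209831 := d15_0 (iv0 F473276) (iv7 D214055) (iv2 F472573)
def n214056 : Q := act 6 n156262
theorem D214056 : act 6 n156262 = n214056 := rfl
theorem F473278 : act 2 n214056 = n156263 := d3_1 D214056 (iv6 D156263) D156262
theorem F473279 : act 3 n214056 = n201997 := d7_1 D214056 F422668 (iv3 F245576)
theorem F473280 : act 4 n214056 = n207165 := d10_1 D214056 (iv6 D207165) (iv4 F245577)
theorem F473281 : act 7 n214056 = n211779 := d14_2 F355486 D214056 F463061 (iv7 F467358) F467355
def n214057 : Q := act 0 n156263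
theorem D214057 : act 0 n156263 = n214057 := rfl
def n214058 : Q := act 1 n156263
theorem D214058 : act 1 n156263 = n214058 := rfl
theorem F473282 : act 1 n214058 = n211779 := d15_1 D214058 (iv7 F473281) F473278
theorem F473283 : act 6 n205847 = n214058 := d21_3 D115619 (iv1 F438129) (iv5 F438126) (iv1 D214058) (iv6 D156263) (iv5 F167100) D197289 F403848 (iv6 F401416) (iv1 D115616)
theorem F473284 : act 3 n214058 = n205848 := d7_1 F473283 (iv6 D205848) D205847
def n214059 : Q := act 5 n156263
theorem D214059 : act 5 n156263 = n214059 := rfl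
theorem F473285 : act 3 n214059 = n156266 := d6_1 D214059 (iv5 D156266) (iv3 F245578)
theorem F473286 : act 6 n214059 = n192251 := d12_2 D156263 D214059 F403863 (iv6 D197291) F167100
theorem F473287 : act 4 n214059 = n191503 := d16_6 F217208 D206824 (iv4 F463058) (iv5 D211778) (iv4 F365084) D214059 (iv5 F449066) (iv7 F450603) F450601
def n214060 : Q := act 7 n156263
theorem D214060 : act 7 n156263 = n214060 := rfl
theorem F473288 : act 2 n214060 = n211779 := d4_1 D214060 (iv7 F473281) F473278
theorem F473289 : act 3 n214060 = n156267 := d8_1 D214060 (iv7 D156267) (iv3 F245578)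
theorem F473290 : act 4 n214060 = n211768 := d11_1 D214060 F463026 (iv4 F365084)
theorem F473291 : act 6 n214060 = n212753 := d14_1 D214060 (iv7 F472571) (iv6 D213884) F245131 D156263
theorem F473292 : act 1 n211779 = n214057 := d15_0 (iv0 D214057) D214060 F473288
def n214061 : Q := act 6 n156264
theorem D214061 : act 6 n156264 = n214061 := rfl
theorem F473293 : act 3 n214061 = n210759 := d7_1 D214061 (iv6 F461066) (iv3 F463001)
def n214062 : Q := act 0 n156266
theorem D214062 : act 0 n156266 = n214062 := rfl
theorem F473294 : act 4 n214062 = n184951 := d18_3 (iv1 D191500) F359546 D214062 F451438 F451435 (iv0 F447406) F445003 F468578 F468572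
theorem F473295 : act 2 n184952 = n214062 := d15_3 (iv0 D214062) (iv0 F471210) F471209
theorem F473296 : act 1 n213253 = n214062 := d17_8 (iv1 F430902) (iv5 D204050) (iv1 F196230) (iv5 F241672) (iv4 F469467) F469468 F472595 (iv5 F472597) F473294
def n214063 : Q := act 7 n156266
theorem D214063 : act 7 n156266 = n214063 := rfl
theorem F473297 : act 2 n214063 = n213253 := d4_1 D214063 (iv7 F472598) F472588
theorem F473298 : act 4 n214063 = n191501 := d11_1 D214063 (iv7 D191501) F359546
theorem F473299 : act 5 n214063 = n156267 := d13_1 D214063 (iv7 D156267) D156266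
theorem F473300 : act 6 n214063 = n213069 := d14_1 D214063 F472836 (iv6 F361012) (iv7 F287511) (iv6 F359544)
theorem F473301 : act 0 n184952 = n214063 := d17_0 F473299 (iv1 F461050) F461048 (iv4 D178073) (iv5 D84763) (iv0 F304764) D153808 F429263 D184952
def n214064 : Q := act 3 n156268
theorem D214064 : act 3 n156268 = n214064 := rfl
theorem F473302 : act 2 n214064 = n179905 := d0_1 D214064 (iv3 D179905) (iv2 F232984) F356548 F356556
theorem F473303 : act 5 n214064 = n200017 := d6_2 F356558 D214064 F414643
theorem F473304 : act 6 n214064 = n192270 := d7_2 (iv6 F427534) D214064 F403893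
theorem F473305 : act 0 n214064 = n213893 := d19_4 (iv1 F331636) (iv5 F356561) F356560 D214064 F472612 F404065 (iv3 D194632) (iv1 F393375) F393372 (iv4 F382603) F382602 (iv1 D131945) (iv5 D61910) (iv4 F96498) (iv3 D61901) F46990 (iv5 F48009) F48008 (iv3 F80948)
def n214065 : Q := act 6 n156270
theorem D214065 : act 6 n156270 = n214065 := rfl
theorem F473306 : act 2 n214065 = n156271 := d3_1 D214065 (iv6 D156271) D156270
theorem F473307 : act 4 n214065 = n191913 := d10_1 D214065 (iv6 F411385) F411384
theorem F473308 : act 0 n214065 = n210574 := d21_4 (iv5 F356564) F354250 (iv5 F366393) D214065 (iv6 D210574) (iv5 F349980) (iv1 D143037) D143038 (iv6 F403746) (iv1 F403748)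
theorem F473309 : act 7 n192377 = n214065 := d11_0 F473307 F384815 D192377
def n214066 : Q := act 7 n156271
theorem D214066 : act 7 n156271 = n214066 := rfl
theorem F473310 : act 2 n214066 = n192377 := d4_1 D214066 F473309 F473306
theorem F473311 : act 3 n214066 = n156275 := d8_1 D214066 (iv7 D156275) (iv3 F245579)
theorem F473312 : act 4 n214066 = n192376 := d11_1 D214066 F386606 (iv4 F384818)
theorem F473313 : act 0 n210574 = n214066 := d20_10 F473312 (iv1 F386607) (iv4 F432114) (iv3 F432115) (iv1 F460019) F460014 (iv4 D145582) (iv1 F245708) F228552 (iv3 F458092)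
def n214067 : Q := act 0 n156279
theorem D214067 : act 0 n156279 = n214067 := rfl
theorem F473314 : act 5 n214067 = n214022 := d17_1 D214067 (iv1 F473166) (iv5 D201960) (iv4 F388839) F388840 F187752 (iv5 F188282) (iv0 F404637) F404635
theorem F473315 : act 4 n214067 = n213813 := d18_1 D214067 F472199 F428817 (iv5 F472664) F472663 F404271 F404269 F245151 D156279
theorem F473316 : act 1 n156284 = n214067 := d15_0 (iv0 D214067) (iv7 F428814) F428811
theorem F473317 : act 6 n213812 = n214067 := d21_9 (iv5 D156284) (iv1 D74337) F53510 (iv6 D25855) D25852 D53347 D115678 D202383 (iv5 F472194) (iv1 F473316)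
theorem F473318 : act 7 n214067 = n202320 := d14_2 (iv7 F472438) F473317 (iv6 D202320) F422397 F472437
theorem F473319 : act 7 n202402 = n214022 := d13_2 F473318 (iv5 F423880) (iv5 F473314)
theorem F473320 : act 2 n214022 = n202403 := d15_3 F423882 F423881 F473319
theorem F473321 : act 6 n202403 = n213867 := d3_2 D214022 F473320 (iv2 F472493)
def n214068 : Q := act 1 n156279
theorem D214068 : act 1 n156279 = n214068 := rfl
theorem F473322 : act 1 n214068 = n156284 := d15_1 D214068 (iv7 F428801) F428800
theorem F473323 : act 4 n214068 = n203451 := d17_9 F428374 F350670 F194825 (iv5 F357019) (iv4 F357023) (iv5 F245148) F245151 D156279 D214068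
theorem F473324 : act 2 n202320 = n214068 := d1_3 F473323 F428370 (iv4 F423620)
theorem F473325 : act 6 n201927 = n214068 := d10_0 F473323 F428372 F422400
def n214069 : Q := act 5 n156285
theorem D214069 : act 5 n156285 = n214069 := rfl
theorem F473326 : act 2 n214069 = n213059 := d2_1 D214069 (iv5 D213059) (iv2 F404294)
theorem F473327 : act 3 n214069 = n213212 := d6_1 D214069 (iv5 D213212) F404295
theorem F473328 : act 7 n214069 = n213224 := d13_2 F404296 D214069 (iv5 D213224)
theorem F473329 : act 1 n214069 = n213225 := d17_6 D197352 F472217 (iv1 D213817) (iv5 F427502) F427500 D214069 (iv5 F469490) (iv0 D156178) (iv4 F167195)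
theorem F473330 : act 1 n213226 = n214069 := d15_1 D213226 F473328 F469487
def n214070 : Q := act 6 n156287
theorem D214070 : act 6 n156287 = n214070 := rfl
theorem F473331 : act 3 n214070 = n203588 := d7_1 D214070 (iv6 F429013) F408061
theorem F473332 : act 5 n214070 = n213995 := d12_1 D214070 F473025 F470937 (iv6 F425595) F425597
theorem F473333 : act 7 n213258 = n214070 := d13_0 F473332 F473028 (iv5 F469587)
theorem F473334 : act 0 n213223 = n214070 := d21_10 F473332 (iv1 F473027) F422379 (iv6 D135740) (iv1 F111019) D156003 (iv5 F458736) (iv1 F469483) (iv5 D213222) D213223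
def n214071 : Q := act 5 n156290
theorem D214071 : act 5 n156290 = n214071 := rfl
theorem F473335 : act 2 n214071 = n214070 := d2_1 D214071 F473332 (iv2 F473026)
theorem F473336 : act 3 n214071 = n156291 := d6_1 D214071 (iv5 D156291) D156290
theorem F473337 : act 6 n214071 = n197425 := d12_2 (iv6 F423809) D214071 F404222 F404225 D202373
theorem F473338 : act 7 n214071 = n202411 := d13_2 (iv7 F245586) D214071 (iv5 D202411)
theorem F473339 : act 1 n214051 = n214071 := d15_1 (iv0 F473253) F473338 (iv2 F469586)
def n214072 : Q := act 6 n156296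
theorem D214072 : act 6 n156296 = n214072 := rfl
theorem F473340 : act 2 n214072 = n202415 := d3_1 D214072 (iv6 D202415) F416055
theorem F473341 : act 4 n214072 = n198475 := d10_1 D214072 F461692 F425546
theorem F473342 : act 5 n214072 = n210764 := d12_1 D214072 (iv6 D210764) (iv5 D139650) D139651 (iv5 F245599)
theorem F473343 : act 0 n214072 = n210737 := d21_4 F423760 F245343 (iv5 F245599) D214072 (iv6 D210737) (iv5 D139637) (iv1 F179594) (iv5 F179595) D115657 D202363
theorem F473344 : act 1 n214072 = n210744 := d15_1 (iv0 F473343) (iv7 D210744) (iv2 F458652)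
def n214073 : Q := act 1 n156298
theorem D214073 : act 1 n156298 = n214073 := rfl
theorem F473345 : act 1 n214073 = n201962 := d15_1 D214073 (iv7 F423930) F423928
theorem F473346 : act 7 n214073 = n202417 := d15_2 (iv0 F423204) D214073 (iv2 F423920)
theorem F473347 : act 4 n214073 = n202195 := d18_7 (iv1 F168140) (iv4 D74347) (iv1 D34104) (iv4 F53512) D74342 D156298 D214073 (iv0 D202195) (iv5 D115445)
theorem F473348 : act 3 n204794 = n214073 := d19_19 (iv1 D214073) (iv5 F422537) (iv4 D201962) (iv3 F422485) F422489 (iv5 D160336) (iv4 D76843) F55819 (iv1 F305552) (iv5 D22696) (iv4 F35278) (iv3 F74451) D101289 (iv5 F383619) F383618 F151899 F311710 D124371 D204794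
theorem F473349 : act 2 n214073 = n202416 := d0_1 F473348 (iv3 F423918) F385681 (iv3 F385536) (iv2 F433605)
def n214074 : Q := act 5 n156300
theorem D214074 : act 5 n156300 = n214074 := rfl
theorem F473350 : act 2 n214074 = n204097 := d2_1 D214074 (iv5 F455254) (iv2 F455250)
theorem F473351 : act 3 n214074 = n156301 := d6_1 D214074 (iv5 D156301) D156300
theorem F473352 : act 7 n214074 = n202423 := d13_2 (iv7 F245608) D214074 (iv5 D202423)
theorem F473353 : act 1 n214074 = n209988 := d17_8 F454733 (iv5 D209716) F453660 F452900 F411808 F336251 F422310 D214074 (iv4 D209988)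
theorem F473354 : act 6 n214074 = n210778 := d21_9 (iv5 D205959) (iv1 F326819) D196658 F401379 F401340 (iv6 F455248) (iv5 D209884) F346600 D214074 F458750
def n214075 : Q := act 6 n156300
theorem D214075 : act 6 n156300 = n214075 := rfl
theorem F473355 : act 3 n214075 = n156302 := d7_1 D214075 (iv6 D156302) D156300
theorem F473356 : act 5 n214075 = n202869 := d12_1 D214075 F425953 D210778 (iv6 F473354) (iv5 D214074)
theorem F473357 : act 7 n214075 = n199984 := d14_2 (iv7 F245608) D214075 (iv6 F449712) F449713 (iv6 D202424)
theorem F473358 : act 0 n203545 = n214075 := d17_0 F473356 F425955 F206790 (iv4 F403812) (iv5 F403813) (iv0 F404109) (iv5 F423888) F460880 (iv4 F460881)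
theorem F473359 : act 1 n213976 = n214075 := d18_8 F425955 F206789 F350932 (iv4 D115699) D115700 (iv4 F350931) D211270 (iv4 F472951) F473356
def n214076 : Q := act 4 n156301
theorem D214076 : act 4 n156301 = n214076 := rfl
theorem F473360 : act 2 n214076 = n192129 := d1_1 D214076 F385677 (iv2 F245609)
theorem F473361 : act 5 n214076 = n214073 := d9_2 D156301 D214076 F473347 F423195 (iv4 D156305) (iv5 D74348) D74347 D156304 (iv4 F385680) D193529 F423203 F423202 F222833 F101278 D74344
theorem F473362 : act 6 n214076 = n202351 := d10_2 (iv6 F361877) D214076 F423721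
theorem F473363 : act 7 n214076 = n193528 := d11_2 (iv7 F245610) D214076 F390170
theorem F473364 : act 0 n214076 = n193527 := d17_0 (iv5 F467436) F467438 F423922 F423919 F423190 F226987 (iv5 F456265) (iv0 F456268) D214076
theorem F473365 : act 1 n214076 = n193526 := d18_6 (iv1 D74341) F53512 D34103 D74344 D156301 D214076 F422921 F422920 (iv5 D156294)
theorem F473366 : act 3 n214076 = n192137 := d19_3 (iv1 F168139) D156301 D214076 (iv1 D192137) (iv5 D99736) (iv4 D46590) (iv3 F73558) D99622 F348216 F239011 F166789 (iv1 F209858) F317426 (iv4 F103290) (iv3 D67430) (iv1 F168123) D116084 F345296 F220222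
def n214077 : Q := act 3 n156306
theorem D214077 : act 3 n156306 = n214077 := rfl
theorem F473367 : act 2 n214077 = n192684 := d0_1 D214077 (iv3 F389371) (iv2 F407597) F407598 F350388
theorem F473368 : act 4 n214077 = n157153 := d5_2 (iv4 F245623) D214077 F407710 (iv4 F472550) (iv3 D213880)
theorem F473369 : act 5 n214077 = n191951 := d6_2 (iv5 F350387) D214077 F384967
theorem F473370 : act 6 n214077 = n210908 := d7_2 F350389 D214077 F459240
theorem F473371 : act 7 n214077 = n192681 := d8_2 (iv7 F364773) D214077 F387455
theorem F473372 : act 0 n214077 = n156317 := d19_4 D178660 (iv5 F359220) (iv4 F245623) D214077 F387332 (iv4 D192642) F312630 F302818 (iv5 D34765) (iv4 D16840) (iv3 D7852) (iv1 D3560) F2724 (iv4 F2869) (iv3 F5858) D8757 D18656 D39349 D85099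
theorem F473373 : act 0 n204940 = n214077 := d17_0 F473369 (iv1 D191951) (iv5 F333015) F316130 (iv5 F333018) F273781 (iv5 F458558) F458560 (iv4 F434265)
def n214078 : Q := act 3 n156310
theorem D214078 : act 3 n156310 = n214078 := rfl
theorem F473374 : act 4 n214078 = n178934 := d5_2 (iv4 F390754) D214078 (iv3 D178934) (iv4 F355516) (iv3 F390753)
theorem F473375 : act 5 n214078 = n208642 := d6_2 (iv5 F351306) D214078 (iv3 D208642)
theorem F473376 : act 7 n214078 = n210371 := d8_2 F390758 D214078 (iv3 D210371)
theorem F473377 : act 0 n214078 = n197631 := d20_10 F405107 F348485 (iv4 F366691) F366690 (iv1 F315250) D138508 (iv4 F404366) F404369 (iv4 F390754) D214078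
def n214079 : Q := act 3 n156311
theorem D214079 : act 3 n156311 = n214079 := rfl
theorem F473378 : act 4 n214079 = n179906 := d5_2 F390791 D214079 (iv3 F403774) F403773 (iv3 F390790)
theorem F473379 : act 5 n214079 = n179741 := d6_2 F364953 D214079 F366742
theorem F473380 : act 7 n214079 = n197404 := d8_2 (iv7 F390757) D214079 F404161
theorem F473381 : act 0 n214079 = n197293 := d19_4 (iv1 F420317) F420312 F390791 D214079 F403870 (iv4 D193381) D193380 (iv1 F403414) (iv5 D197179) (iv4 F215092) (iv3 D133671) (iv1 F97873) D119160 (iv4 F215047) (iv3 F448244) F448248 F419918 (iv4 F425819) F425818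
theorem F473382 : act 0 n156313 = n214079 := d20_4 (iv4 F313653) (iv1 D124738) F314347 D156313 (iv3 D214079) (iv4 F390791) F404370 F404366 (iv3 D138508) D138506
theorem F473383 : act 6 n211026 = n214079 := d21_9 F403870 (iv1 F434621) (iv5 F450284) (iv6 F466519) (iv1 D212578) D212581 (iv5 F466530) (iv1 F394639) (iv5 F459787) F473381
theorem F473384 : act 2 n214079 = n197401 := d16_9 (iv4 D197401) (iv5 F316477) (iv4 F201217) F314335 F222366 F315116 D205019 F434635 (iv7 F473380)
def n214080 : Q := act 6 n156311
theorem D214080 : act 6 n156311 = n214080 := rfl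
theorem F473385 : act 2 n214080 = n202455 := d3_1 D214080 F424077 (iv2 F390759)
theorem F473386 : act 3 n214080 = n211026 := d7_1 D214080 F473383 (iv3 D214079)
theorem F473387 : act 5 n214080 = n197857 := d12_1 D214080 (iv6 D197857) F400501 F400499 F364953
theorem F473388 : act 7 n214080 = n202456 := d14_2 (iv7 F390757) D214080 (iv6 F431955) (iv7 D193719) (iv6 F379511)
theorem F473389 : act 0 n214080 = n197637 := d21_4 F351255 (iv1 F351256) F364953 D214080 F405128 (iv5 F412007) (iv1 F412010) (iv5 F345336) (iv6 D134851) D134846
theorem F473390 : act 0 n202454 = n214080 := d21_4 F331556 F339984 F224977 D202454 (iv6 D214080) (iv5 F364953) (iv1 D134861) (iv5 D63378) (iv6 F84418) D116085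
def n214081 : Q := act 1 n156313
theorem D214081 : act 1 n156313 = n214081 := rfl
theorem F473391 : act 7 n214081 = n197401 := d15_2 (iv0 F473382) D214081 (iv2 F473384)
theorem F473392 : act 5 n214081 = n179737 := d17_7 (iv1 F404586) (iv5 D197501) (iv1 F217633) F312670 D193383 F389652 D214081 (iv0 F368321) F338891
theorem F473393 : act 4 n214081 = n179908 := d17_9 (iv1 F315146) (iv5 D108140) F101022 D139080 (iv4 F450255) F450259 (iv0 F389653) F389652 D214081
theorem F473394 : act 2 n197404 = n214081 := d1_3 F473393 (iv2 F366616) D197404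
theorem F473395 : act 0 n197293 = n214081 := d18_0 F473393 (iv1 F315146) (iv4 F216975) (iv5 F403460) (iv4 D197189) F312697 D205016 F434621 (iv5 F403870)
theorem F473396 : act 6 n214081 = n213684 := d21_3 (iv5 D192687) F368321 (iv5 F473392) (iv1 D213684) (iv6 D154703) D154702 D213680 F471609 (iv6 F372084) (iv1 F387488)
theorem F473397 : act 2 n213684 = n193717 := d3_1 F473396 F404164 F473394
def n214082 : Q := act 2 n156313
theorem D214082 : act 2 n156313 = n214082 := rfl
theorem F473398 : act 3 n214082 = n204940 := d0_2 D156313 D214082 (iv2 D204940) (iv3 D124794) (iv2 F312824)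
theorem F473399 : act 4 n214082 = n197217 := d1_2 (iv4 F245642) D214082 (iv2 F403590)
theorem F473400 : act 5 n214082 = n212723 := d2_2 F389652 D214082 F467270
theorem F473401 : act 7 n214082 = n197293 := d4_2 F312818 D214082 F403869
theorem F473402 : act 1 n214082 = n197404 := d15_0 F404162 F312818 D214082
theorem F473403 : act 1 n197401 = n214082 := d15_0 F473402 (iv7 F473380) F473384
theorem F473404 : act 6 n199215 = n214082 := d21_9 (iv5 F434631) F434632 (iv5 F387482) F325039 F224905 F396684 F396683 F393160 (iv5 F411189) (iv1 F473403)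
def n214083 : Q := act 6 n156313
theorem D214083 : act 6 n156313 = n214083 := rfl
theorem F473405 : act 2 n214083 = n199215 := d3_1 D214083 F473404 (iv2 D214082)
theorem F473406 : act 3 n214083 = n156316 := d7_1 D214083 (iv6 D156316) D156313
theorem F473407 : act 4 n214083 = n197295 := d10_1 D214083 (iv6 D197295) (iv4 F245642)
theorem F473408 : act 5 n214083 = n196676 := d12_1 D214083 (iv6 F401452) (iv5 F411258) (iv6 F411259) F389652
theorem F473409 : act 7 n214083 = n199192 := d14_2 F312818 D214083 F411107 (iv7 F434348) (iv6 D204958)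
theorem F473410 : act 0 n214083 = n196683 := d21_10 F401476 F455587 (iv5 F471702) (iv6 D213702) (iv1 F466520) F466519 F450284 F434620 F389652 D214083
theorem F473411 : act 0 n199213 = n214083 := d17_0 F473408 (iv1 D196676) D196678 F401461 F219364 F396673 (iv5 F404141) F458820 F458819
def n214084 : Q := act 0 n156316
theorem D214084 : act 0 n156316 = n214084 := rfl
theorem F473412 : act 4 n214084 = n156372 := d18_1 D214084 (iv1 F245763) (iv4 F410953) (iv5 D199162) (iv4 F225334) F373466 (iv4 F471740) F471743 F424728
theorem F473413 : act 6 n214084 = n212573 := d21_5 D65155 D138754 F245795 D156316 D214084 F466491 F388885 F338938 (iv6 D138751) (iv1 D65153)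
theorem F473414 : act 2 n202775 = n214084 := d15_3 (iv0 D214084) (iv0 F366695) (iv7 F425532)
theorem F473415 : act 1 n204946 = n214084 := d15_0 (iv0 D214084) (iv7 F363147) (iv2 F434290)
theorem F473416 : act 7 n214084 = n204944 := d15_2 F434294 F473415 (iv2 F434283)
theorem F473417 : act 3 n214084 = n200816 := d0_2 (iv3 F425530) F473414 (iv2 F458596) (iv3 D210726) F222781
def n214085 : Q := act 2 n156317
theorem D214085 : act 2 n156317 = n214085 := rfl
theorem F473418 : act 3 n214085 = n197293 := d0_2 D156317 D214085 F403869 (iv3 D124827) (iv2 F312815)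
theorem F473419 : act 6 n214085 = n211058 := d3_2 F363146 D214085 (iv2 D211058)
theorem F473420 : act 7 n214085 = n204940 := d4_2 F312827 D214085 (iv2 D204940)
theorem F473421 : act 1 n214085 = n192684 := d15_0 (iv0 F387463) F312827 D214085
theorem F473422 : act 1 n192681 = n214085 := d15_0 F473421 (iv7 F389364) F389363
def n214086 : Q := act 6 n156320
theorem D214086 : act 6 n156320 = n214086 := rfl
theorem F473423 : act 2 n214086 = n156325 := d3_1 D214086 (iv6 D156325) (iv2 F245653)
def n214087 : Q := act 0 n156325
theorem D214087 : act 0 n156325 = n214087 := rfl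
def n214088 : Q := act 1 n156325
theorem D214088 : act 1 n156325 = n214088 := rfl
theorem F473424 : act 4 n214088 = n199133 := d18_7 (iv1 F393951) (iv4 D194649) (iv1 D103912) (iv4 F159344) D194643 (iv4 F393925) D214088 F410821 (iv5 D199104)
theorem F473425 : act 6 n194550 = n214088 := d21_3 (iv5 D103767) D103764 D194550 (iv1 D214088) (iv6 D156325) (iv5 D74355) D74352 (iv5 F245795) F393685 (iv1 D194557)
theorem F473426 : act 3 n214088 = n198313 := d7_1 F473425 F469606 (iv3 F461515)
def n214089 : Q := act 7 n156325
theorem D214089 : act 7 n156325 = n214089 := rfl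
theorem F473427 : act 3 n214089 = n156333 := d8_1 D214089 (iv7 D156333) (iv3 F245665)
theorem F473428 : act 6 n214089 = n198296 := d14_1 D214089 F407517 F341395 (iv7 F111572) D156325
def n214090 : Q := act 3 n156331
theorem D214090 : act 3 n156331 = n214090 := rfl
theorem F473429 : act 2 n214090 = n198316 := d0_1 D214090 (iv3 D198316) (iv2 F363345) F404737 (iv2 F404735)
theorem F473430 : act 4 n214090 = n209021 := d5_2 F343833 D214090 F451882 F424980 (iv3 D202660)
theorem F473431 : act 6 n214090 = n196410 := d7_2 F432954 D214090 (iv3 F432951)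
theorem F473432 : act 0 n197809 = n214090 := d21_4 F169064 D197706 F405453 D197809 F473431 F400622 (iv1 F164842) D157177 (iv6 F405797) F405796
theorem F473433 : act 0 n214090 = n200932 := d21_4 F339918 (iv1 F164843) (iv5 F400622) (iv6 F473431) F418425 (iv5 F351306) (iv1 F245633) (iv5 F401666) (iv6 D196745) (iv1 F339917)
def n214091 : Q := act 3 n156336
theorem D214091 : act 3 n156336 = n214091 := rfl
theorem F473434 : act 4 n214091 = n198741 := d5_2 D156336 D214091 F409036 F369665 F315252
theorem F473435 : act 5 n214091 = n197584 := d6_2 F343178 D214091 F404918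
theorem F473436 : act 6 n214091 = n204751 := d7_2 (iv6 F343806) D214091 (iv3 F433468)
theorem F473437 : act 7 n214091 = n198574 := d8_2 (iv7 F343179) D214091 F455790
theorem F473438 : act 0 n214091 = n198532 := d19_4 (iv1 D74359) D74360 D156336 D214091 F453806 F453802 D209508 (iv1 F453963) (iv5 D136623) (iv4 F219739) F393540 (iv1 D194517) (iv5 D103701) (iv4 F340929) F340928 F259115 (iv5 F397751) F397750 (iv3 D156335)
theorem F473439 : act 1 n214091 = n174701 := d15_1 (iv0 F473438) (iv7 F365987) (iv2 F408246)
theorem F473440 : act 2 n198575 = n214091 := d1_3 F473434 F455796 F455795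
def n214092 : Q := act 2 n156338
theorem D214092 : act 2 n156338 = n214092 := rfl
theorem F473441 : act 4 n214092 = n192720 := d1_2 F410641 D214092 (iv2 F410645)
theorem F473442 : act 6 n214092 = n191984 := d3_2 (iv6 F245681) D214092 (iv2 F385095)
theorem F473443 : act 1 n214092 = n210362 := d15_0 (iv0 F457204) F404762 D214092
theorem F473444 : act 1 n210987 = n214092 := d15_0 F473443 (iv7 F457203) (iv2 F459640)
def n214093 : Q := act 5 n156338
theorem D214093 : act 5 n156338 = n214093 := rfl
theorem F473445 : act 3 n214093 = n156339 := d6_1 D214093 (iv5 D156339) D156338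
def n214094 : Q := act 2 n156340
theorem D214094 : act 2 n156340 = n214094 := rfl
theorem F473446 : act 6 n214094 = n205445 := d3_2 (iv6 F366416) D214094 (iv2 F436463)
def n214095 : Q := act 5 n156340
theorem D214095 : act 5 n156340 = n214095 := rfl
theorem F473447 : act 3 n214095 = n156341 := d6_1 D214095 (iv5 D156341) D156340
theorem F473448 : act 1 n214095 = n208563 := d17_6 F447333 (iv5 D207994) F364618 (iv5 F443506) F443505 D214095 (iv5 D208563) (iv0 F400455) (iv4 F438696)
def n214096 : Q := act 6 n156341
theorem D214096 : act 6 n156341 = n214096 := rfl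
def n214097 : Q := act 1 n156359
theorem D214097 : act 1 n156359 = n214097 := rfl
theorem F473449 : act 1 n214097 = n211143 := d15_1 D214097 (iv7 F467252) F467248
theorem F473450 : act 7 n214097 = n206151 := d15_2 (iv0 F362625) D214097 F439486
theorem F473451 : act 5 n214097 = n170360 := d17_7 (iv1 F251050) (iv5 F372855) F461002 (iv5 F461000) F460997 F424877 D214097 F337289 F184187
theorem F473452 : act 4 n214097 = n198644 := d17_9 (iv1 F408686) (iv5 F361857) (iv1 D112232) (iv5 F174117) D199929 (iv5 F440268) (iv0 F440269) F424877 D214097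
theorem F473453 : act 3 n212036 = n214097 := d20_3 (iv4 F360865) (iv1 F360888) (iv4 F464060) (iv1 D214097) F245726 (iv4 F245730) (iv1 F434301) (iv4 D204947) F243070 (iv1 F313726)
theorem F473454 : act 2 n214097 = n198645 := d0_1 F473453 F408688 F316354 (iv3 F228001) (iv2 F464059)
theorem F473455 : act 6 n202483 = n214097 := d3_0 F473454 (iv6 F408692) (iv2 F463263)
def n214098 : Q := act 3 n156448
theorem D214098 : act 3 n156448 = n214098 := rfl
theorem F473456 : act 2 n214098 = n208316 := d0_1 D214098 F448888 F441948 (iv3 F380836) (iv2 F354698)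
theorem F473457 : act 6 n214098 = n211572 := d7_2 F383757 D214098 (iv3 F462190)
theorem F473458 : act 7 n214098 = n207457 := d8_2 (iv7 F354696) D214098 (iv3 D207457)
theorem F473459 : act 4 n214098 = n201830 := d20_6 F329409 F48135 D34128 D74399 D156448 D214098 (iv1 D201830) F179204 (iv3 D62956) F329634
theorem F473460 : act 1 n208301 = n214098 := d17_8 (iv1 D201830) (iv5 F396545) F439892 F405310 (iv4 F434596) (iv5 D205012) F411697 (iv5 F448813) F473459
theorem F473461 : act 0 n210201 = n214098 := d18_0 F473459 (iv1 D201830) F179204 D134025 (iv4 F354745) F200966 (iv4 F250298) F434593 F456543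
def n214099 : Q := act 4 n156448
theorem D214099 : act 4 n156448 = n214099 := rfl
theorem F473462 : act 2 n214099 = n196117 := d1_1 D214099 F399498 (iv2 F354698)
theorem F473463 : act 6 n214099 = n200495 := d10_2 F383757 D214099 F416740
theorem F473464 : act 7 n214099 = n207458 := d11_2 (iv7 F354696) D214099 (iv4 D207458)
theorem F473465 : act 0 n214099 = n186976 := d18_2 D156448 D214099 (iv4 D186976) (iv5 D89431) (iv4 F137102) D186970 (iv4 F368714) F354722 (iv5 F111642)
theorem F473466 : act 1 n214099 = n207465 := d18_6 F355349 F355350 (iv1 F380521) (iv4 F445255) F445256 D214099 F445059 (iv0 F352507) (iv5 F352504)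
def n214100 : Q := act 6 n156454
theorem D214100 : act 6 n156454 = n214100 := rfl
theorem F473467 : act 2 n214100 = n202516 := d3_1 D214100 F424349 (iv2 F411592)
theorem F473468 : act 0 n214100 = n156498 := d21_4 D199297 (iv1 F411537) F396281 D214100 F246045 F391024 (iv1 F391017) (iv5 F352988) (iv6 D111172) D111167
theorem F473469 : act 0 n202513 = n214100 := d21_4 D133975 (iv1 F424338) (iv5 D202512) D202513 (iv6 D214100) (iv5 F396281) (iv1 D111182) (iv5 D51280) (iv6 F47891) D62936
theorem F473470 : act 7 n202517 = n214100 := d15_2 (iv0 D202516) D202517 F473467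
theorem F473471 : act 6 n189064 = n202517 := d14_5 F473470 (iv6 D214100) (iv7 F411594) D210321 (iv7 F457014)
theorem F473472 : act 3 n202517 = n189067 := d7_1 F473471 (iv6 D189067) D189064
def n214101 : Q := act 4 n156458
theorem D214101 : act 4 n156458 = n214101 := rfl
theorem F473473 : act 2 n214101 = n192550 := d1_1 D214101 F433558 (iv2 F447700)
theorem F473474 : act 3 n214101 = n186596 := d5_1 D214101 F367375 (iv3 F390592) D207146 (iv3 F443518)
theorem F473475 : act 7 n214101 = n210327 := d11_2 (iv7 F447698) D214101 (iv4 D210327)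
theorem F473476 : act 0 n214101 = n211582 := d18_2 D156458 D214101 (iv4 F471023) F471024 F242374 F332641 (iv4 F336373) (iv0 D123227) F329209
theorem F473477 : act 0 n208840 = n214101 := d20_10 (iv4 D214101) (iv1 F245973) (iv4 F445872) F445871 (iv1 F432884) F389341 (iv4 F389372) F405104 (iv4 F434903) (iv3 F451067)
theorem F473478 : act 5 n214101 = n188125 := d21_2 D208840 F473477 (iv6 D188125) F292011 D100442 (iv5 F372563) F372583 D211189 F460537 F450510
theorem F473479 : act 6 n214101 = n186595 := d21_5 F391791 F342364 D141181 (iv6 F451068) F473477 (iv5 D186595) F157695 (iv5 D102593) D102594 D194018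
def n214102 : Q := act 5 n156458
theorem D214102 : act 5 n156458 = n214102 := rfl
theorem F473480 : act 2 n214102 = n210329 := d2_1 D214102 (iv5 D210329) (iv2 F447700)
theorem F473481 : act 7 n214102 = n201708 := d13_2 (iv7 F447698) D214102 F421495
theorem F473482 : act 4 n214102 = n159741 := d17_4 (iv1 D123228) F329209 D156458 D214102 F251686 (iv0 D144867) F103982 D71455 (iv4 F332263)
theorem F473483 : act 1 n214102 = n156484 := d17_6 (iv1 F452617) (iv5 F450093) F450094 (iv5 F473478) (iv4 D214101) D214102 F246017 D156685 (iv4 F452616)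
theorem F473484 : act 0 n214102 = n202973 := d18_0 F426451 F422008 (iv4 F449592) (iv5 F450578) F450580 F445880 F445872 F245973 D214102
theorem F473485 : act 6 n214102 = n208294 := d21_3 F329209 D156458 D214102 (iv1 F448781) (iv6 D203907) D203906 F430334 F431674 (iv6 D204250) (iv1 D123228)
def n214103 : Q := act 6 n156458
theorem D214103 : act 6 n156458 = n214103 := rfl
theorem F473486 : act 2 n214103 = n192549 := d3_1 D214103 (iv6 F433559) (iv2 F447700)
theorem F473487 : act 3 n214103 = n192156 := d7_1 D214103 (iv6 F443515) (iv3 F443518)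
theorem F473488 : act 4 n214103 = n186595 := d10_1 D214103 (iv6 F473479) (iv4 D214101)
theorem F473489 : act 0 n214103 = n210340 := d21_4 (iv5 F246017) (iv1 F473483) (iv5 D214102) D214103 F457104 (iv5 F393056) F393058 (iv5 F386319) (iv6 F386317) (iv1 D156685)
theorem F473490 : act 5 n214103 = n197194 := d21_6 (iv5 D123239) (iv1 D57364) D57365 (iv6 F328881) D156458 D214103 (iv1 D197194) F366725 F366724 F348234
theorem F473491 : act 1 n214103 = n192953 := d15_1 (iv0 F473489) F388318 D210340
theorem F473492 : act 7 n187127 = n214103 := d11_0 F473488 F367368 D187127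
def n214104 : Q := act 6 n156459
theorem D214104 : act 6 n156459 = n214104 := rfl
theorem F473493 : act 2 n214104 = n202531 := d3_1 D214104 (iv6 F454843) F447699
theorem F473494 : act 3 n214104 = n214043 := d7_1 D214104 (iv6 D214043) F332254
theorem F473495 : act 0 n202530 = n214104 := d21_4 (iv5 F225853) (iv1 F224246) F224244 D202530 (iv6 D214104) (iv5 F468038) (iv1 F468040) F246017 F111872 D110813
theorem F473496 : act 7 n202532 = n214104 := d15_2 (iv0 D202531) D202532 F473493
def n214105 : Q := act 4 n156464
theorem D214105 : act 4 n156464 = n214105 := rfl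
theorem F473497 : act 2 n214105 = n210331 := d1_1 D214105 (iv4 D210331) (iv2 F358658)
theorem F473498 : act 3 n214105 = n197449 := d5_1 D214105 F416775 (iv3 F416776) (iv4 F362135) F358665
theorem F473499 : act 5 n214105 = n213134 := d9_2 (iv5 F358659) D214105 F469138 (iv5 F303121) (iv4 F305191) (iv5 F199958) D146659 (iv5 F358661) (iv4 F430285) (iv5 D203895) F193384 (iv5 F322714) F60334 D39411 D85300
theorem F473500 : act 7 n214105 = n210333 := d11_2 (iv7 F358660) D214105 (iv4 D210333)
theorem F473501 : act 0 n214105 = n197456 := d17_0 F404417 F389726 (iv5 F410258) (iv4 D198999) (iv5 F361437) (iv0 F345977) F221798 D156464 D214105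
theorem F473502 : act 1 n214105 = n198356 := d18_6 (iv1 F259429) F259424 F199949 D85300 (iv5 F358659) D214105 (iv4 F467171) F467175 F457001
def n214106 : Q := act 6 n156473
theorem D214106 : act 6 n156473 = n214106 := rfl
theorem F473503 : act 3 n214106 = n156474 := d7_1 D214106 (iv6 D156474) D156473
theorem F473504 : act 5 n195573 = n214106 := d6_0 F473503 (iv5 F363451) D195573
def n214107 : Q := act 5 n156480
theorem D214107 : act 5 n156480 = n214107 := rfl
theorem F473505 : act 2 n214107 = n209697 := d2_1 D214107 F454665 (iv2 F337211)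
theorem F473506 : act 3 n214107 = n156490 := d6_1 D214107 (iv5 D156490) (iv3 F246015)
theorem F473507 : act 6 n214107 = n156483 := d12_2 D156480 D214107 (iv5 D156483) (iv6 D74414) D74413
theorem F473508 : act 7 n214107 = n204132 := d13_2 F356493 D214107 (iv5 D204132)
theorem F473509 : act 4 n214107 = n209688 := d16_2 (iv4 F337210) D214107 (iv5 D209688) F220030 (iv5 F342565) (iv4 D139209) (iv5 F313495) (iv7 F241358) F241361
theorem F473510 : act 0 n214107 = n211612 := d17_2 (iv1 F353447) D214107 (iv5 D211612) F321933 (iv5 F234075) F237176 F237175 (iv0 D105977) D105979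
theorem F473511 : act 1 n214107 = n211652 := d17_6 (iv1 F103107) (iv5 F222361) (iv1 F222364) (iv5 F340102) (iv4 F337210) D214107 (iv5 D211652) (iv0 D143510) (iv4 D67216)
theorem F473512 : act 3 n203080 = n193395 := d20_5 F473509 (iv1 F456802) (iv4 D143502) (iv3 F184240) D203080 (iv4 D193395) F274661 D186878 (iv3 F462518) (iv1 F473511)
theorem F473513 : act 0 n211654 = n210687 := d21_4 (iv5 D211612) F321930 D143513 D211654 F458443 (iv5 D139504) F340952 D156483 (iv6 F473507) F473510
def n214108 : Q := act 2 n156484
theorem D214108 : act 2 n156484 = n214108 := rfl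
theorem F473514 : act 3 n214108 = n178895 := d0_2 D156484 D214108 (iv2 F338239) F171648 F111685
theorem F473515 : act 4 n214108 = n212020 := d1_2 F374120 D214108 F463974
theorem F473516 : act 5 n214108 = n156686 := d2_2 (iv5 F246017) D214108 (iv2 D156686)
theorem F473517 : act 6 n214108 = n159691 := d3_2 (iv6 F360941) D214108 (iv2 F251587)
theorem F473518 : act 7 n214108 = n202973 := d4_2 (iv7 F246018) D214108 F426449
theorem F473519 : act 1 n214108 = n201708 := d15_0 (iv0 F421496) (iv7 F246018) D214108
theorem F473520 : act 1 n210329 = n214108 := d15_0 F473519 (iv7 F473481) F473480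
def n214109 : Q := act 4 n156490
theorem D214109 : act 4 n156490 = n214109 := rfl
theorem F473521 : act 2 n214109 = n204131 := d1_1 D214109 (iv4 D204131) (iv2 F356527)
theorem F473522 : act 6 n214109 = n156496 := d10_2 (iv6 F246025) D214109 (iv4 D156496)
theorem F473523 : act 7 n214109 = n204133 := d11_2 (iv7 F356524) D214109 (iv4 D204133)
theorem F473524 : act 5 n214109 = n182204 := d16_1 D214109 (iv4 D182204) F133506 F74687 D47536 D102472 D193902 F391348 (iv2 F356527)
def n214110 : Q := act 0 n156492
theorem D214110 : act 0 n156492 = n214110 := rfl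
theorem F473525 : act 3 n214110 = n193704 := d20_5 F166265 D107653 F166269 D156492 D214110 F390724 F385935 (iv4 F180502) F180501 F166266
theorem F473526 : act 4 n214110 = n187128 := d20_8 F390656 (iv1 F385766) F157082 F329359 D64143 D136441 (iv4 F246028) D214110 F369191 D187129
theorem F473527 : act 1 n202530 = n214110 := d15_0 (iv0 D214110) F246030 (iv2 F424395)
theorem F473528 : act 7 n214110 = n202531 := d15_2 (iv0 F473495) F473527 (iv2 F473493)
theorem F473529 : act 2 n202532 = n214110 := d4_3 F473528 (iv2 F473493) (iv7 F473496)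
theorem F473530 : act 6 n187127 = n214110 := d14_5 F473528 (iv6 F454843) (iv7 F447698) D214103 (iv7 F473492)
theorem F473531 : act 1 n156492 = n214104 := d15_1 (iv0 D214110) (iv7 F473496) F473529
def n214111 : Q := act 2 n156492
theorem D214111 : act 2 n156492 = n214111 := rfl
theorem F473532 : act 3 n214111 = n210646 := d0_2 D156492 D214111 F458320 F222666 F111693
theorem F473533 : act 4 n214111 = n209408 := d1_2 (iv4 F246028) D214111 (iv2 D209408)
theorem F473534 : act 6 n214111 = n210614 := d3_2 (iv6 F246029) D214111 F458218
theorem F473535 : act 7 n214111 = n202530 := d4_2 (iv7 F246030) D214111 F424395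
theorem F473536 : act 1 n214111 = n202531 := d15_0 (iv0 D202531) (iv7 F246030) D214111
theorem F473537 : act 1 n202532 = n214111 := d15_0 F473536 (iv7 F473528) (iv2 F473529)
def n214112 : Q := act 5 n156492
theorem D214112 : act 5 n156492 = n214112 := rfl
theorem F473538 : act 3 n214112 = n156493 := d6_1 D214112 (iv5 D156493) D156492
theorem F473539 : act 7 n214112 = n202533 := d13_2 (iv7 F246030) D214112 (iv5 D202533)
theorem F473540 : act 0 n214112 = n211634 := d21_1 D214112 (iv5 F462467) (iv6 D211177) (iv1 F353375) F353373 (iv5 F426452) F468039 F468038 D214104 (iv1 F473531)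
def n214113 : Q := act 4 n156493
theorem D214113 : act 4 n156493 = n214113 := rfl
theorem F473541 : act 2 n214113 = n208444 := d1_1 D214113 F449380 (iv2 F246031)
theorem F473542 : act 5 n214113 = n207525 := d9_2 D156493 D214113 (iv4 D207525) (iv5 D131926) F96505 (iv5 F50022) F50021 D65457 D139482 (iv5 F449383) F449382 F216338 (iv4 F171530) F171531 F166269
theorem F473543 : act 7 n214113 = n202535 := d11_2 (iv7 F246032) D214113 (iv4 D202535)
theorem F473544 : act 0 n214113 = n210661 := d18_2 F356529 D214113 F458368 F424378 F411718 (iv0 F386344) F386342 F329710 (iv5 F356531)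
theorem F473545 : act 1 n214113 = n204027 := d18_6 F166266 F166265 D107653 F166269 D156493 D214113 F430851 F362323 (iv5 D115932)
def n214114 : Q := act 6 n156493
theorem D214114 : act 6 n156493 = n214114 := rfl
theorem F473546 : act 2 n214114 = n210663 := d3_1 D214114 (iv6 D210663) (iv2 F246031)
theorem F473547 : act 5 n214114 = n177981 := d12_1 D214114 (iv6 F406607) F222649 F111695 D156493
theorem F473548 : act 0 n214114 = n194088 := d21_4 (iv5 D74419) D74418 D156493 D214114 F392021 (iv5 D102666) (iv1 F289889) (iv5 F369205) (iv6 F369209) (iv1 D156495)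
def n214115 : Q := act 4 n156494
theorem D214115 : act 4 n156494 = n214115 := rfl
theorem F473549 : act 2 n214115 = n211241 := d1_1 D214115 (iv4 D211241) F246036
theorem F473550 : act 5 n214115 = n204016 := d16_1 D214115 F430825 (iv5 F304694) F328737 (iv5 F226998) F226997 (iv5 F246040) F246039 F246036
def n214116 : Q := act 3 n156495
theorem D214116 : act 3 n156495 = n214116 := rfl
theorem F473551 : act 5 n214116 = n211240 := d6_2 (iv5 F246040) D214116 F460766
theorem F473552 : act 6 n214116 = n182238 := d7_2 (iv6 F369209) D214116 F369208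
theorem F473553 : act 7 n214116 = n211239 := d8_2 (iv7 F246039) D214116 F460760
theorem F473554 : act 0 n210654 = n214116 := d17_0 F473551 (iv1 F460768) F455743 (iv4 D182266) (iv5 D87026) (iv0 F72597) (iv5 F151782) F383439 (iv4 F458350)
theorem F473555 : act 1 n185524 = n214116 := d17_6 D174583 F392151 F430277 (iv5 F458338) (iv4 D210651) F349147 F473551 F460769 F273333
def n214117 : Q := act 4 n156495
theorem D214117 : act 4 n156495 = n214117 := rfl
theorem F473556 : act 5 n214117 = n204141 := d9_2 (iv5 F246040) D214117 (iv4 F444204) (iv5 D207296) F217066 (iv5 F410190) F410189 (iv5 F246035) D214115 F473550 F430825 (iv5 F304694) F328737 (iv5 F226998) F226997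
theorem F473557 : act 7 n214117 = n211241 := d11_2 (iv7 F246039) D214117 (iv4 D211241)
theorem F473558 : act 3 n214117 = n204142 := d20_9 (iv4 D191479) (iv1 D98394) D98395 (iv3 F384374) F302108 (iv3 F458198) (iv4 D210608) (iv1 F246038) D214117 (iv1 F431182)
def n214118 : Q := act 0 n156496
theorem D214118 : act 0 n156496 = n214118 := rfl
theorem F473559 : act 5 n214118 = n204047 := d17_1 D214118 (iv1 F449185) F449184 F429592 F424399 F332936 (iv5 F246035) (iv0 D156494) D156496
theorem F473560 : act 4 n214118 = n208334 := d18_3 (iv1 D156495) D156496 D214118 F448953 F224148 F168236 (iv4 F103256) (iv0 F226495) (iv5 F246040)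
theorem F473561 : act 6 n214118 = n208383 := d21_5 (iv5 F430815) (iv1 F430816) (iv5 F473524) F473522 D214118 F449152 (iv1 F473545) F473542 F445296 (iv1 D204438)
theorem F473562 : act 2 n211253 = n214118 := d1_3 F473560 (iv2 F448956) D211253
theorem F473563 : act 1 n210608 = n214118 := d17_8 (iv1 F448955) (iv5 D139425) (iv1 D65437) D65438 D139428 (iv5 F449172) (iv0 F449173) (iv5 F458200) F473560
def n214119 : Q := act 1 n156496
theorem D214119 : act 1 n156496 = n214119 := rfl
theorem F473564 : act 1 n214119 = n210608 := d15_1 D214119 F458199 F411793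
theorem F473565 : act 7 n214119 = n211253 := d15_2 (iv0 D214118) D214119 F473562
theorem F473566 : act 4 n214119 = n208335 := d18_7 (iv1 D65437) F49134 F26147 (iv4 F53591) D74419 D156496 D214119 F448957 (iv5 D139425)
def n214120 : Q := act 3 n156496
theorem D214120 : act 3 n156496 = n214120 := rfl
theorem F473567 : act 2 n214120 = n208390 := d0_1 D214120 (iv3 F449166) F268104 (iv3 F411794) F411793
theorem F473568 : act 4 n214120 = n207524 := d5_2 D156496 D214120 (iv3 F445294) (iv4 F430645) F246016
theorem F473569 : act 0 n214120 = n208271 := d20_10 (iv4 D208271) F368876 (iv4 F449369) (iv3 F449371) (iv1 F431183) (iv3 F473558) (iv4 D214117) (iv1 D156495) D156496 D214120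
theorem F473570 : act 5 n156496 = n214120 := d18_9 F473569 (iv4 D208271) F368876 (iv4 F449369) (iv5 F458167) (iv4 D210598) F448955 (iv4 F473560) (iv0 D214118)
theorem F473571 : act 1 n214120 = n208393 := d15_1 (iv0 F473569) (iv7 D208393) (iv2 F448664)
theorem F473572 : act 7 n214120 = n208389 := d15_2 (iv0 F448665) (iv0 F473569) (iv2 F449163)
def n214121 : Q := act 7 n156496
theorem D214121 : act 7 n156496 = n214121 := rfl
theorem F473573 : act 2 n214121 = n210608 := d4_1 D214121 F458199 F411793
theorem F473574 : act 3 n214121 = n208389 := d8_1 D214121 (iv7 F473572) (iv3 D214120)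
theorem F473575 : act 4 n214121 = n156497 := d11_1 D214121 (iv7 D156497) D156496
theorem F473576 : act 5 n214121 = n208389 := d13_1 D214121 (iv7 F473572) (iv5 F473570)
theorem F473577 : act 0 n211253 = n214121 := d17_2 (iv1 F431038) (iv5 F460818) F473576 F449162 F216334 D134878 F365580 (iv0 F365581) (iv4 F431036)
def n214122 : Q := act 6 n156497
theorem D214122 : act 6 n156497 = n214122 := rfl
theorem F473578 : act 2 n214122 = n179811 := d3_1 D214122 (iv6 F356534) (iv2 F246041)
theorem F473579 : act 3 n214122 = n192606 := d7_1 D214122 (iv6 F463741) F463740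
theorem F473580 : act 5 n214122 = n192605 := d12_1 D214122 F387225 F221529 (iv6 F111699) (iv5 F246042)
theorem F473581 : act 7 n214122 = n179810 := d14_2 D156497 D214122 F366919 (iv7 F356524) F246025
theorem F473582 : act 0 n214122 = n179716 := d21_4 F222670 (iv1 F111701) (iv5 F246042) D214122 F279924 (iv5 D85838) (iv1 F301699) (iv5 F191767) (iv6 F424400) (iv1 F424402)
theorem F473583 : act 0 n179813 = n214122 := d21_4 F460668 (iv1 F431565) (iv5 F433122) F433123 (iv6 D214122) F246042 (iv1 F111700) D115937 (iv6 F224254) D211221
def n214123 : Q := act 0 n156498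
theorem D214123 : act 0 n156498 = n214123 := rfl
theorem F473584 : act 3 n214123 = n212074 := d20_5 F53591 D34137 D74421 D156498 D214123 (iv4 D212074) (iv1 D145299) F104278 F101161 F53625
theorem F473585 : act 2 n202517 = n214123 := d15_3 (iv0 D214123) (iv0 F473468) (iv7 F473470)
theorem F473586 : act 1 n202513 = n214123 := d15_0 (iv0 D214123) F246046 (iv2 F424341)
theorem F473587 : act 7 n214123 = n202516 := d15_2 (iv0 F473469) F473586 (iv2 F473467)
theorem F473588 : act 6 n210347 = n214123 := d14_5 F473587 F424349 (iv7 F411589) F411540 (iv7 F457137)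
def n214124 : Q := act 2 n156498
theorem D214124 : act 2 n156498 = n214124 := rfl
theorem F473589 : act 3 n214124 = n210578 := d0_2 D156498 D214124 F458106 F222628 (iv2 F111703)
theorem F473590 : act 4 n214124 = n193705 := d1_2 (iv4 F246044) D214124 (iv2 F390726)
theorem F473591 : act 6 n214124 = n210534 := d3_2 (iv6 F246045) D214124 F457957
theorem F473592 : act 7 n214124 = n202513 := d4_2 (iv7 F246046) D214124 F424341
theorem F473593 : act 1 n214124 = n202516 := d15_0 (iv0 D202516) (iv7 F246046) D214124
theorem F473594 : act 1 n202517 = n214124 := d15_0 F473593 (iv7 F473587) (iv2 F473585)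
theorem E104011 : n211837 = n210680 := ((c20_11 (iv4 D211837) (iv1 F390727) (iv4 F473590) F473589 (iv1 F458107) (iv3 F424554) (iv4 F424551) (iv1 F389548) F182984 (iv3 F222682) D210680)).symm
theorem F473595 : act 4 n210680 = n144151 := (sb E104011 (iv4 D211837))
theorem F473596 : act 6 n210680 = n207145 := (sb E104011 F463242)
def n214125 : Q := act 5 n156498
theorem D214125 : act 5 n156498 = n214125 := rfl
theorem F473597 : act 3 n214125 = n156499 := d6_1 D214125 (iv5 D156499) D156498
theorem F473598 : act 7 n214125 = n202518 := d13_2 (iv7 F246046) D214125 (iv5 D202518)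
def n214126 : Q := act 4 n156499
theorem D214126 : act 4 n156499 = n214126 := rfl
theorem F473599 : act 2 n214126 = n208392 := d1_1 D214126 F449168 (iv2 F246047)
theorem F473600 : act 5 n214126 = n208271 := d9_2 D156499 D214126 (iv4 D208271) (iv5 D134042) F98247 F47919 (iv4 F49134) D65438 D139428 (iv5 F449172) F449171 F216283 F98380 F53595 D74421
theorem F473601 : act 7 n214126 = n202526 := d11_2 (iv7 F246048) D214126 (iv4 D202526)
theorem F473602 : act 0 n214126 = n191375 := d17_0 (iv5 F431037) (iv1 F431038) (iv5 F460818) (iv4 D211253) (iv5 D141316) (iv0 F227001) F222630 (iv0 F246049) D214126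
theorem F473603 : act 1 n214126 = n204021 := d18_6 F53625 F53591 D34137 D74421 D156499 D214126 F430843 F356530 (iv5 D65457)
def n214127 : Q := act 6 n156499
theorem D214127 : act 6 n156499 = n214127 := rfl
theorem F473604 : act 2 n214127 = n210606 := d3_1 D214127 (iv6 D210606) (iv2 F246047)
theorem F473605 : act 5 n214127 = n185184 := d12_1 D214127 (iv6 F406626) F222596 (iv6 F111704) D156499
theorem F473606 : act 0 n214127 = n182205 := d21_4 (iv5 D134167) F111706 D156499 D214127 (iv6 D182205) F133506 D102381 (iv5 F368911) F448960 (iv1 D208335)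
def n214128 : Q := act 3 n156541
theorem D214128 : act 3 n156541 = n214128 := rfl
theorem F473607 : act 6 n214128 = n209998 := d7_2 F361515 D214128 F464470
theorem F473608 : act 7 n214128 = n202568 := d8_2 (iv7 F361513) D214128 F424546
theorem F473609 : act 0 n214128 = n212074 := d20_10 (iv4 D212074) (iv1 D145299) F104278 F101161 F53625 (iv3 F111681) F111682 D74438 D156541 D214128
def n214129 : Q := act 5 n156541
theorem D214129 : act 5 n156541 = n214129 := rfl
theorem F473610 : act 2 n214129 = n210865 := d2_1 D214129 F459058 F361514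
theorem F473611 : act 7 n214129 = n202571 := d13_2 (iv7 F361513) D214129 (iv5 D202571)
theorem F473612 : act 4 n214129 = n192444 := d16_2 D156541 D214129 F386732 (iv4 F459071) (iv5 D210868) (iv4 D140008) (iv5 D65725) D65726 F341099
theorem F473613 : act 0 n214129 = n210863 := d17_2 (iv1 F361517) D214129 (iv5 F460921) F460920 (iv5 F458794) F458798 F444450 (iv0 F363463) (iv4 F348290)
theorem F473614 : act 1 n214129 = n210862 := d17_6 (iv1 F342382) (iv5 F223132) F342386 (iv5 D156542) D156541 D214129 F461029 (iv0 D211300) F224585
theorem F473615 : act 3 n192433 = n214129 := d19_19 F473613 (iv5 F460921) F460920 F339085 F342577 F310062 F308050 (iv3 F187887) (iv1 F53006) (iv5 F53026) (iv4 F110179) (iv3 F314947) (iv1 F329753) F153556 F153555 (iv3 F135341) F285749 D100177 D192433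
theorem F473616 : act 5 n214128 = n192433 := d6_0 F473615 (iv5 D214129) D214128
theorem F473617 : act 6 n204107 = n214129 := d10_0 F473612 F386733 D204107
def n214130 : Q := act 6 n156579
theorem D214130 : act 6 n156579 = n214130 := rfl
theorem F473618 : act 2 n214130 = n156582 := d3_1 D214130 (iv6 D156582) (iv2 F246242)
theorem F473619 : act 4 n214130 = n199746 := d10_1 D214130 (iv6 F467825) F467822
theorem F473620 : act 0 n214130 = n198258 := d21_10 (iv5 D198258) (iv1 D109090) D109091 F365129 (iv1 F241646) (iv6 F345110) F245657 (iv1 F111759) D156579 D214130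
theorem F473621 : act 1 n214130 = n198256 := d15_0 (iv0 F435366) F435363 (iv2 F473618)
def n214131 : Q := act 6 n156581
theorem D214131 : act 6 n156581 = n214131 := rfl
theorem F473622 : act 2 n214131 = n199746 := d3_1 D214131 (iv6 F467825) (iv2 F467823)
theorem F473623 : act 3 n214131 = n208763 := d7_1 D214131 (iv6 D208763) (iv3 F246248)
theorem F473624 : act 4 n214131 = n156582 := d10_1 D214131 (iv6 D156582) D156581
theorem F473625 : act 7 n214131 = n199745 := d14_2 (iv7 F246249) D214131 (iv6 F430711) D204574 (iv6 F432912)
theorem F473626 : act 0 n214131 = n199735 := d21_4 F412331 (iv1 F434123) F434121 D214131 (iv6 D199735) (iv5 D111650) (iv1 F172756) D199429 (iv6 F457261) F457263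
theorem F473627 : act 1 n214131 = n199747 := d15_1 (iv0 F473626) (iv7 D199747) (iv2 F413301)
def n214132 : Q := act 0 n156582
theorem D214132 : act 0 n156582 = n214132 := rfl
theorem F473628 : act 5 n214132 = n198246 := d17_1 D214132 (iv1 D198246) (iv5 F372039) (iv4 F375256) (iv5 F379340) (iv0 F394379) F413303 (iv0 F473626) F473624
theorem F473629 : act 3 n214132 = n188252 := d20_5 (iv4 F343094) F343093 (iv4 F111766) (iv3 F246250) D214132 (iv4 D188252) F338444 D91209 (iv3 F295142) F327458
theorem F473630 : act 2 n198258 = n214132 := d0_5 F473629 F372850 F338453 (iv2 F280791) (iv3 F407368)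
theorem F473631 : act 7 n198256 = n214132 := d8_0 F473629 F372851 (iv3 F407367)
theorem F473632 : act 6 n198289 = n214132 := d12_0 F473628 F412171 F412170 (iv6 F407489) (iv5 F407488)
def n214133 : Q := act 1 n156582
theorem D214133 : act 1 n156582 = n214133 := rfl
theorem F473633 : act 7 n214133 = n198258 := d15_2 (iv0 D214132) D214133 F473630
theorem F473634 : act 5 n214133 = n180483 := d18_9 F365125 F365123 F435832 F435830 F430666 (iv4 F413302) (iv0 F473626) F473624 D214133
theorem F473635 : act 6 n199412 = n214133 := d21_3 (iv5 F459248) (iv1 D210910) (iv5 F412061) (iv1 D214133) (iv6 D156582) (iv5 D74454) (iv1 F314688) D124859 F350376 D210142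
theorem F473636 : act 3 n214133 = n180409 := d7_1 F473635 (iv6 F350366) (iv3 F412059)
theorem F473637 : act 4 n214133 = n199413 := d10_1 F473635 (iv6 D199413) D199412
theorem F473638 : act 2 n198256 = n214133 := d0_5 F473636 (iv2 F280786) (iv3 F372821) F372816 (iv3 F407367)
def n214134 : Q := act 1 n156593
theorem D214134 : act 1 n156593 = n214134 := rfl
theorem F473639 : act 1 n214134 = n178160 := d15_1 D214134 (iv7 F464603) F464600
theorem F473640 : act 7 n214134 = n208634 := d15_2 (iv0 F402160) D214134 F450267
theorem F473641 : act 4 n194339 = n214134 := d20_6 F82358 D52182 (iv4 F175748) D197473 (iv1 F416436) F416434 (iv1 D214134) (iv4 F415619) (iv3 D200228) F175770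
theorem F473642 : act 5 n178123 = n214134 := d21_0 (iv1 D214134) F402153 (iv6 D196884) F400616 (iv6 D108671) D108670 D197798 F405829 (iv6 D178127) D178123
theorem F473643 : act 2 n214134 = n194345 := d2_1 F473642 (iv5 F412355) F412351
theorem F473644 : act 6 n214134 = n194338 := d12_2 (iv6 F411954) F473642 F412358 (iv6 D199476) F411953
def n214135 : Q := act 5 n156598
theorem D214135 : act 5 n156598 = n214135 := rfl
theorem F473645 : act 3 n214135 = n156599 := d6_1 D214135 (iv5 D156599) D156598
theorem F473646 : act 6 n214135 = n199420 := d12_2 (iv6 F246278) D214135 F412112 F461182 (iv5 D211338)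
theorem F473647 : act 7 n214135 = n204848 := d13_2 F404809 D214135 F433833
theorem F473648 : act 4 n214135 = n178176 := d16_4 (iv4 F375133) F410694 F410691 D214135 F336010 D178364 F336013 D188643 F374292
def n214136 : Q := act 2 n156602
theorem D214136 : act 2 n156602 = n214136 := rfl
theorem F473649 : act 7 n214136 = n197670 := d4_2 (iv7 F246290) D214136 (iv2 F405314)
theorem F473650 : act 1 n214136 = n197671 := d15_0 F405321 (iv7 F246290) D214136
theorem F473651 : act 1 n197662 = n214136 := d15_0 F473650 (iv7 D197671) (iv2 F405274)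
def n214137 : Q := act 6 n156602
theorem D214137 : act 6 n156602 = n214137 := rfl
theorem F473652 : act 3 n214137 = n156604 := d7_1 D214137 (iv6 D156604) D156602
theorem F473653 : act 4 n214137 = n175111 := d10_1 D214137 (iv6 F466300) F466302
theorem F473654 : act 7 n214137 = n211107 := d14_2 (iv7 F246290) D214137 F460129 F224883 D141996
theorem F473655 : act 0 n214137 = n178496 := d21_4 D210998 (iv1 F459694) (iv5 F406972) D214137 F278129 D178522 (iv1 F341260) (iv5 F341262) (iv6 F459682) (iv1 F459683)
theorem F473656 : act 0 n161910 = n214137 := d21_4 F409569 F389193 F389192 (iv6 F351691) (iv6 D214137) F406972 F407675 (iv5 F406099) (iv6 F436381) F436383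
theorem F473657 : act 0 n212172 = n211377 := d20_4 F473653 (iv1 D175111) D175112 (iv3 F464612) F461327 F351590 (iv1 F350132) D211160 F460384 F473656
def n214138 : Q := act 3 n156637
theorem D214138 : act 3 n156637 = n214138 := rfl
theorem F473658 : act 4 n214138 = n194347 := d5_2 D156637 D214138 (iv3 F466467) F366536 (iv3 D156636)
theorem F473659 : act 6 n214138 = n211450 := d7_2 (iv6 F363748) D214138 (iv3 D211450)
theorem F473660 : act 7 n214138 = n212568 := d8_2 (iv7 F363745) D214138 (iv3 D212568)
theorem F473661 : act 0 n214138 = n213715 := d20_10 F471764 (iv1 F415658) F415619 (iv3 D156593) (iv1 D74458) (iv3 F111764) F111765 D74483 D156637 D214138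
theorem F473662 : act 0 n200239 = n214138 := d20_1 (iv4 F415668) F473658 (iv3 F466467) (iv1 D151278) (iv3 F319664) F167334 (iv1 F82347) D112861 D200228 F415657
def n214139 : Q := act 3 n156642
theorem D214139 : act 3 n156642 = n214139 := rfl
theorem F473663 : act 2 n214139 = n197652 := d0_1 D214139 (iv3 F464528) F466464 (iv3 D212568) (iv2 F363744)
theorem F473664 : act 4 n214139 = n193233 := d5_2 D156642 D214139 (iv3 F457634) F457631 F330043
theorem F473665 : act 7 n214139 = n193230 := d8_2 F363746 D214139 F389253
theorem F473666 : act 0 n214139 = n197649 := d20_10 F405204 (iv1 F405228) (iv4 F389275) F404805 (iv1 F404804) F375229 F206010 F316993 D156642 D214139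
theorem E104012 : n205122 = n197153 := ((c19_16 (iv1 F377031) (iv5 F389261) (iv4 F473664) (iv3 D214139) (iv1 F339601) D204972 F434392 (iv3 F415518) F415521 F392631 (iv4 F326906) F182895 F104297 F93418 D107762 D197153 (iv1 D205122) D205123 (iv4 F464330) (iv3 D189588))).symm
theorem F473667 : act 0 n197153 = n125503 := (sb E104012 (iv1 D205122))
theorem F473668 : act 0 n197654 = n214139 := d20_4 F171755 (iv1 F216801) F216797 (iv3 F405222) (iv3 D214139) (iv4 D156642) (iv1 D74484) (iv4 F111765) F111764 D74457
theorem E104013 : n205118 = n193909 := (c20_1 (iv4 F435049) (iv1 D193909) (iv4 F391361) (iv3 F393744) (iv1 D194578) (iv3 F362346) F171988 (iv1 F80705) D107762 D197153 F473667)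
theorem F473669 : act 2 n193909 = n136609 := (sb E104013 F435048)
theorem F473670 : act 4 n193909 = n125503 := (sb E104013 F435049)
theorem F473671 : act 6 n193909 = n125501 := (sb E104013 (iv6 D205118))
theorem F473672 : act 2 n196431 = n205121 := d15_3 (iv0 D205121) (iv0 F473667) F403296
theorem F473673 : act 3 n205121 = n199120 := d0_2 D196431 F473672 (iv2 F410758) (iv3 D197150) (iv2 F166501)
theorem F473674 : act 4 n205121 = n209455 := d1_2 (iv4 F400662) F473672 (iv2 D209455)
theorem F473675 : act 6 n205121 = n196739 := d3_2 (iv6 F400663) F473672 (iv2 D196739)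
def n214140 : Q := act 5 n156662
theorem D214140 : act 5 n156662 = n214140 := rfl
theorem F473676 : act 3 n214140 = n197344 := d6_1 D214140 (iv5 D197344) (iv3 F246390)
theorem F473677 : act 7 n214140 = n210428 := d13_2 (iv7 F246391) D214140 (iv5 D210428)
theorem F473678 : act 0 n214140 = n210807 := d17_2 F357855 D214140 (iv5 D210807) F364628 (iv5 D114755) (iv0 F192428) (iv5 F340737) (iv0 D153568) (iv4 F228090)
theorem F473679 : act 1 n214140 = n210809 := d17_6 (iv1 F223020) D139849 (iv1 F333645) F333647 D156662 D214140 (iv5 D210809) F458842 F458841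
def n214141 : Q := act 4 n156668
theorem D214141 : act 4 n156668 = n214141 := rfl
theorem F473680 : act 2 n214141 = n197930 := d1_1 D214141 (iv4 F406227) (iv2 F246401)
theorem F473681 : act 6 n214141 = n183029 := d10_2 (iv6 F337821) D214141 (iv4 D183029)
theorem F473682 : act 7 n214141 = n209475 := d11_2 (iv7 F246402) D214141 (iv4 D209475)
theorem F473683 : act 0 n214141 = n209687 := d18_2 (iv1 F246403) D214141 (iv4 D209687) (iv5 D136820) (iv4 D64323) F79931 (iv4 F169564) F169569 D136810
theorem F473684 : act 1 n214141 = n197584 := d18_6 (iv1 D135889) F99376 F161296 D74499 D156668 D214141 F404919 (iv0 F452486) (iv5 D209154)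
def n214142 : Q := act 6 n156684
theorem D214142 : act 6 n156684 = n214142 := rfl
theorem F473685 : act 2 n214142 = n210388 := d3_1 D214142 (iv6 D210388) F360938
theorem F473686 : act 3 n214142 = n193814 := d7_1 D214142 (iv6 F416248) F416246
theorem F473687 : act 5 n214142 = n193812 := d12_1 D214142 (iv6 D193812) D193811 F391064 (iv5 F360940)
theorem F473688 : act 7 n214142 = n210399 := d14_2 F360939 D214142 F458262 F457342 (iv6 D210387)
theorem F473689 : act 0 n199282 = n214142 := d21_4 (iv5 D197196) F351961 D192281 (iv6 F411462) (iv6 D214142) F360940 F347608 (iv5 F329207) F329208 (iv1 F403484)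
theorem F473690 : act 0 n200388 = n200219 := d20_7 F172406 D140423 F223576 D199282 F473689 F473686 (iv4 F416255) F415570 (iv3 D138642) (iv1 F172408)
theorem F473691 : act 1 n210400 = n214142 := d15_0 (iv0 F473689) F411463 D210400
def n214143 : Q := act 6 n156688
theorem D214143 : act 6 n156688 = n214143 := rfl
theorem F473692 : act 2 n214143 = n199000 := d3_1 D214143 (iv6 D199000) F361438
theorem F473693 : act 3 n214143 = n184980 := d7_1 D214143 (iv6 F393067) F393065
theorem F473694 : act 5 n214143 = n184979 := d12_1 D214143 F426623 (iv5 D203009) (iv6 F192179) (iv5 F338248)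
theorem F473695 : act 7 n214143 = n210404 := d14_2 F361442 D214143 (iv6 F457412) F386292 F343902
theorem F473696 : act 0 n210405 = n214143 := d21_4 F236295 (iv1 F232806) D149022 (iv6 F457413) (iv6 D214143) F338248 F345982 F329492 (iv6 F180577) F364470
theorem F473697 : act 0 n214143 = n199280 := d20_4 (iv4 F353739) (iv1 F242694) (iv4 F337996) (iv3 F473693) (iv3 D199280) F172374 F172409 (iv4 F172406) (iv3 F352343) (iv1 F353744)
def n214144 : Q := act 6 n156694
theorem D214144 : act 6 n156694 = n214144 := rfl
theorem F473698 : act 3 n214144 = n156695 := d7_1 D214144 (iv6 D156695) D156694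
theorem F473699 : act 4 n214144 = n193514 := d10_1 D214144 F390137 (iv4 F246468)
theorem F473700 : act 5 n214144 = n193424 := d12_1 D214144 F455458 (iv5 F460255) (iv6 F461020) F461019
theorem F473701 : act 7 n214144 = n202646 := d14_2 (iv7 F246469) D214144 (iv6 D202646) F181201 (iv6 F322121)
theorem F473702 : act 0 n211176 = n214144 := d17_0 F473700 (iv1 F389803) D193429 F389811 (iv5 F383643) F383645 F365323 (iv0 F385675) (iv4 F460468)
def n214145 : Q := act 5 n156714
theorem D214145 : act 5 n156714 = n214145 := rfl
theorem F473703 : act 2 n214145 = n208335 := d2_1 D214145 F448959 (iv2 F246506)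
theorem F473704 : act 6 n214145 = n182181 := d12_2 D156714 D214145 F356415 (iv6 D88046) (iv5 F329833)
theorem F473705 : act 7 n214145 = n208334 := d13_2 (iv7 F246508) D214145 F448953
theorem F473706 : act 0 n214145 = n197103 := d17_2 F342828 D214145 (iv5 D197103) F166265 (iv5 F95118) D128654 (iv5 F226998) (iv0 F410150) F410151
theorem F473707 : act 1 n214145 = n202524 := d17_6 (iv1 F53602) (iv5 F95815) (iv1 F98696) (iv5 F111913) (iv4 F246507) D214145 (iv5 D202524) F180505 F101153
def n214146 : Q := act 6 n156798
theorem D214146 : act 6 n156798 = n214146 := rfl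
theorem F473708 : act 2 n214146 = n198348 := d3_1 D214146 (iv6 D198348) F343561
theorem F473709 : act 3 n214146 = n204653 := d7_1 D214146 (iv6 F433143) F389727
theorem F473710 : act 4 n214146 = n207109 := d10_1 D214146 (iv6 D207109) F246738
theorem F473711 : act 7 n214146 = n204686 := d14_2 (iv7 F246735) D214146 F460210 F460207 (iv6 D207108)
theorem F473712 : act 0 n214146 = n198116 := d21_4 F207281 F167305 (iv5 F246736) D214146 (iv6 D198116) (iv5 F402072) F401543 F358702 F358703 F222198
theorem F473713 : act 1 n211001 = n198116 := d15_0 (iv0 F473712) F473711 (iv2 F459704)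
def n214147 : Q := act 4 n156803
theorem D214147 : act 4 n156803 = n214147 := rfl
theorem F473714 : act 2 n214147 = n196368 := d1_1 D214147 (iv4 F412624) F412622
theorem F473715 : act 5 n214147 = n193619 := d9_2 D156803 D214147 (iv4 D193619) F348024 F318904 F105013 (iv4 F109217) D153716 D213435 F470388 F393617 F391367 (iv4 D156826) (iv5 D74579) (iv4 F111981)
theorem F473716 : act 6 n214147 = n196367 := d10_2 (iv6 F412000) D214147 (iv4 F411997)
theorem F473717 : act 7 n214147 = n196774 := d11_2 F427620 D214147 (iv4 F427618)
theorem F473718 : act 1 n214147 = n213421 := d18_6 F350189 (iv4 D153719) F315361 (iv4 F111981) D156803 D214147 F470308 (iv0 F464751) (iv5 D206180)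
def n214148 : Q := act 3 n156826
theorem D214148 : act 3 n156826 = n214148 := rfl
theorem F473719 : act 2 n214148 = n187075 := d0_1 D214148 (iv3 D187075) F137231 D186917 (iv2 F368501)
theorem F473720 : act 4 n214148 = n156836 := d5_2 D156826 D214148 (iv3 D156836) (iv4 D74585) (iv3 F111985)
theorem F473721 : act 5 n214148 = n193614 := d6_2 F391367 D214148 (iv3 F391366)
theorem F473722 : act 7 n214148 = n190676 := d8_2 (iv7 F366428) D214148 F380540
theorem F473723 : act 0 n214148 = n212719 := d20_4 (iv4 F324928) F324925 D156826 D214148 (iv3 D212719) (iv4 D149061) F312693 (iv4 F162369) F162368 D127636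
theorem F473724 : act 0 n199966 = n214148 := d20_4 F244975 D199652 F413014 D199966 (iv3 D214148) (iv4 D156826) (iv1 F334483) F150022 (iv3 F150018) F346908
theorem F473725 : act 0 n194648 = n199939 := d21_4 (iv5 F414380) F473724 F473721 (iv6 F393946) (iv6 D199939) (iv5 F358515) F154962 D184192 F359405 D193652
def n214149 : Q := act 2 n156836
theorem D214149 : act 2 n156836 = n214149 := rfl
theorem F473726 : act 3 n214149 = n187073 := d0_2 D156836 D214149 F369035 (iv3 D121491) F321809
theorem F473727 : act 4 n214149 = n187075 := d1_2 F473720 D214149 (iv2 F473719)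
theorem F473728 : act 5 n214149 = n167343 := d2_2 (iv5 F321813) D214149 F263477
theorem F473729 : act 6 n214149 = n206788 := d3_2 F439665 D214149 F442187
theorem F473730 : act 7 n214149 = n203939 := d4_2 (iv7 F321814) D214149 (iv2 D203939)
theorem F473731 : act 1 n214149 = n203452 := d15_0 F428379 (iv7 F321814) D214149
theorem F473732 : act 1 n190336 = n214149 := d15_0 F473731 F428378 (iv2 F379448)
def n214150 : Q := act 5 n156840
theorem D214150 : act 5 n156840 = n214150 := rfl
theorem F473733 : act 2 n214150 = n207176 := d2_1 D214150 F443654 F411566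
theorem F473734 : act 3 n214150 = n156841 := d6_1 D214150 (iv5 D156841) D156840
theorem F473735 : act 7 n214150 = n209915 := d13_2 (iv7 F246813) D214150 F455345
theorem F473736 : act 0 n214150 = n200251 := d17_2 F388006 D214150 (iv5 F447708) F447711 (iv5 F411581) (iv0 D199307) (iv5 D111180) (iv0 F357627) (iv4 F388003)
def n214151 : Q := act 4 n156841
theorem D214151 : act 4 n156841 = n214151 := rfl
theorem F473737 : act 2 n214151 = n179101 := d1_1 D214151 (iv4 D179101) F316689
theorem F473738 : act 5 n214151 = n194982 := d9_2 D156841 D214151 F395291 (iv5 D161333) (iv4 F302908) (iv5 F87559) D58463 D125045 D204995 F434515 F395299 F345359 F311241 (iv5 D74589) D74588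
theorem F473739 : act 7 n214151 = n210441 := d11_2 (iv7 F246816) D214151 (iv4 D210441)
theorem F473740 : act 1 n214151 = n157231 := d18_6 (iv1 D74600) (iv4 D34204) D34201 D74588 D156841 D214151 (iv4 D157231) (iv0 F340017) F340019
theorem F473741 : act 3 n214151 = n199993 := d19_3 F222245 D156841 D214151 F414523 (iv5 D164107) F254712 (iv3 F298091) (iv1 D77944) F56241 (iv4 F119158) (iv3 F326653) F223779 (iv5 F330473) (iv4 F245449) (iv3 D156184) (iv1 F245081) (iv5 F245083) (iv4 D112987) D112986
theorem F473742 : act 6 n214151 = n189953 := d21_5 (iv5 D38883) D38880 D84320 (iv6 F356893) (iv1 F473740) F378360 (iv1 F364506) (iv5 F373627) (iv6 D176902) (iv1 D84328)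
def n214152 : Q := act 6 n156841
theorem D214152 : act 6 n156841 = n214152 := rfl
theorem F473743 : act 2 n214152 = n179102 := d3_1 D214152 (iv6 D179102) F316689
theorem F473744 : act 4 n214152 = n189953 := d10_1 D214152 (iv6 F473742) (iv4 D214151)
theorem F473745 : act 5 n214152 = n202703 := d12_1 D214152 (iv6 D202703) (iv5 D116457) (iv6 F321144) D156841
def n214153 : Q := act 5 n156869
theorem D214153 : act 5 n156869 = n214153 := rfl
theorem F473746 : act 2 n214153 = n193698 := d2_1 D214153 (iv5 F390717) F246878
theorem F473747 : act 3 n214153 = n156870 := d6_1 D214153 (iv5 D156870) D156869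
theorem F473748 : act 7 n214153 = n193697 := d13_2 (iv7 F246877) D214153 F390713
theorem F473749 : act 4 n214153 = n189298 := d16_2 (iv4 F246876) D214153 F413542 (iv4 D199797) D199798 F413547 F372478 F221981 (iv2 F221977)
theorem F473750 : act 0 n214153 = n192158 := d17_2 (iv1 F416305) D214153 (iv5 D192158) (iv4 F367375) F367376 D188127 (iv5 F386010) (iv0 F386011) (iv4 F416299)
theorem F473751 : act 1 n214153 = n193699 := d17_6 (iv1 F153627) (iv5 F157071) (iv1 F372483) F372485 (iv4 F246876) D214153 F390721 F362573 (iv4 F352817)
theorem F473752 : act 6 n214153 = n189297 := d21_9 F376411 (iv1 F377265) (iv5 D189652) D189653 (iv1 F377275) (iv6 F377497) (iv5 F416300) (iv1 F416305) D214153 F376363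
def n214154 : Q := act 4 n156870
theorem D214154 : act 4 n156870 = n214154 := rfl
theorem F473753 : act 2 n214154 = n198710 := d1_1 D214154 F408956 (iv2 F246879)
theorem F473754 : act 5 n214154 = n198708 := d9_2 D156870 D214154 (iv4 F409456) F409457 (iv4 F245839) (iv5 F245868) F112015 (iv5 F340019) (iv4 F414599) (iv5 D200008) (iv4 F175009) F345391 (iv4 F404575) (iv5 D197499) F167401
theorem F473755 : act 7 n214154 = n210443 := d11_2 (iv7 F246880) D214154 (iv4 D210443)
def n214155 : Q := act 6 n156870
theorem D214155 : act 6 n156870 = n214155 := rfl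
theorem F473756 : act 2 n214155 = n210445 := d3_1 D214155 (iv6 D210445) (iv2 F246879)
theorem F473757 : act 3 n214155 = n189297 := d7_1 D214155 (iv6 F473752) F473747
theorem F473758 : act 5 n214155 = n202712 := d12_1 D214155 (iv6 D202712) (iv5 D116487) (iv6 F324394) D156870
theorem F473759 : act 7 n214155 = n200357 := d14_2 (iv7 F246880) D214155 F416128 F382416 (iv6 F340028)
theorem F473760 : act 0 n189955 = n214155 := d17_0 F473758 (iv1 F425238) F420812 F410094 F373627 F364506 (iv5 F378360) (iv0 D189953) D189955
def n214156 : Q := act 4 n156875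
theorem D214156 : act 4 n156875 = n214156 := rfl
theorem F473761 : act 2 n214156 = n210448 := d1_1 D214156 (iv4 D210448) F246894
theorem F473762 : act 6 n214156 = n189726 := d10_2 (iv6 F353359) D214156 (iv4 D189726)
theorem F473763 : act 7 n214156 = n210446 := d11_2 F246895 D214156 (iv4 D210446)
theorem F473764 : act 0 n214156 = n213750 := d17_0 (iv5 D213750) F365887 D200008 F414599 F340019 F112014 D138923 F246892 D214156
def n214157 : Q := act 4 n156876
theorem D214157 : act 4 n156876 = n214157 := rfl
theorem F473765 : act 2 n214157 = n210446 := d1_1 D214157 (iv4 D210446) F246898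
theorem F473766 : act 7 n214157 = n210448 := d11_2 (iv7 F246897) D214157 (iv4 D210448)
theorem F473767 : act 5 n214157 = n199859 := d16_1 D214157 (iv4 F427631) (iv5 D203277) (iv4 F200276) D149071 F312128 (iv5 F246891) (iv7 F246895) F246898
theorem F473768 : act 1 n214157 = n213750 := d18_6 D85279 F316054 (iv1 D138501) F167264 F246899 D214157 F471918 (iv0 D178876) (iv5 D85282)
theorem F473769 : act 3 n214157 = n198815 := d19_3 F167265 F246899 D214157 (iv1 D198815) (iv5 D110322) (iv4 D50869) (iv3 D24738) (iv1 F19033) F8254 (iv4 F19030) (iv3 F38707) D50856 D110301 F326648 (iv3 F410609) (iv1 F410610) F207275 F201788 F175919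
def n214158 : Q := act 6 n156877
theorem D214158 : act 6 n156877 = n214158 := rfl
theorem F473770 : act 2 n214158 = n185638 := d3_1 D214158 (iv6 F468706) F468703
theorem F473771 : act 3 n214158 = n194984 := d7_1 D214158 F395304 F340338
theorem F473772 : act 4 n214158 = n156878 := d10_1 D214158 (iv6 D156878) D156877
theorem F473773 : act 5 n214158 = n194981 := d12_1 D214158 (iv6 D194981) (iv5 D104834) D104835 F352047
theorem F473774 : act 7 n214158 = n191191 := d14_2 (iv7 F246902) D214158 (iv6 F382542) F343065 (iv6 F348070)
theorem F473775 : act 0 n190487 = n214158 := d21_4 F380898 (iv1 F148701) D189951 (iv6 F379881) (iv6 D214158) (iv5 F352047) D194982 (iv5 F473738) F473742 F380901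
theorem F473776 : act 1 n191193 = n214158 := d15_0 (iv0 F473775) (iv7 F381231) F382547
def n214159 : Q := act 6 n156953
theorem D214159 : act 6 n156953 = n214159 := rfl
theorem F473777 : act 2 n214159 = n156954 := d3_1 D214159 (iv6 D156954) D156953
theorem F473778 : act 3 n214159 = n204599 := d7_1 D214159 (iv6 F432983) (iv3 F247026)
theorem F473779 : act 4 n214159 = n179244 := d10_1 D214159 (iv6 D179244) (iv4 F320437)
theorem F473780 : act 7 n214159 = n213802 := d14_2 (iv7 F320438) D214159 (iv6 D213802) F244845 F188676
theorem F473781 : act 0 n214159 = n202263 := d21_10 F423417 (iv1 D202081) (iv5 D115362) (iv6 D53217) D53215 D115357 F336199 D156112 F247036 D214159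
theorem F473782 : act 1 n214159 = n213809 := d15_1 (iv0 F473781) (iv7 F472187) (iv2 F455276)
theorem F473783 : act 5 n204598 = n214159 := d6_0 F473778 (iv5 D204599) D204598
def n214160 : Q := act 1 n156954
theorem D214160 : act 1 n156954 = n214160 := rfl
theorem F473784 : act 1 n214160 = n213802 := d15_1 D214160 (iv7 F473780) F473777
theorem F473785 : act 7 n214160 = n202263 := d15_2 (iv0 F455278) D214160 F455276
theorem F473786 : act 4 n214160 = n203547 := d18_7 F470519 F420956 F374136 (iv4 F233683) F233684 (iv4 F320440) D214160 F428827 F470520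
theorem F473787 : act 2 n213809 = n214160 := d1_3 F473786 F428822 (iv4 F472186)
theorem F473788 : act 6 n203546 = n214160 := d10_0 F473786 (iv6 D203547) (iv4 F428820)
def n214161 : Q := act 5 n156954
theorem D214161 : act 5 n156954 = n214161 := rfl
theorem F473789 : act 2 n214161 = n204598 := d2_1 D214161 F473783 F473777
theorem F473790 : act 3 n214161 = n156963 := d6_1 D214161 (iv5 D156963) (iv3 F247027)
theorem F473791 : act 7 n214161 = n213810 := d13_2 (iv7 F320441) D214161 (iv5 D213810)
theorem F473792 : act 0 n214161 = n202075 := d17_2 (iv1 D214160) D214161 (iv5 D202075) D202074 (iv5 F471484) (iv0 D213658) F403125 (iv0 F428826) (iv4 F473786)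
theorem F473793 : act 1 n214161 = n202078 := d17_6 (iv1 F415293) F360259 F347967 F233684 (iv4 F320440) D214161 (iv5 D202078) F400985 (iv4 F415290)
def n214162 : Q := act 6 n156957
theorem D214162 : act 6 n156957 = n214162 := rfl
theorem F473794 : act 2 n214162 = n178806 := d3_1 D214162 (iv6 D178806) (iv2 F317222)
theorem F473795 : act 3 n214162 = n213848 := d7_1 D214162 (iv6 D213848) F247055
theorem F473796 : act 4 n214162 = n199293 := d10_1 D214162 (iv6 D199293) F247056
theorem F473797 : act 5 n214162 = n201904 := d12_1 D214162 (iv6 D201904) (iv5 F409707) (iv6 F409709) (iv5 F247053)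
theorem F473798 : act 7 n214162 = n209884 := d14_2 F318413 D214162 F455248 F401338 F351551
theorem F473799 : act 0 n204789 = n214162 := d20_10 F473796 (iv1 F423527) (iv4 F245585) (iv3 D156290) (iv1 F111534) (iv3 F179545) F179546 (iv1 F325433) D124366 D204789
def n214163 : Q := act 5 n156959
theorem D214163 : act 5 n156959 = n214163 := rfl
theorem F473800 : act 6 n214163 = n156963 := d12_2 D156959 D214163 (iv5 D156963) (iv6 D74634) D74633
theorem F473801 : act 0 n214163 = n203619 := d17_2 F388814 D214163 F429104 (iv4 F339914) (iv5 F387797) (iv0 D192792) (iv5 F362388) F359970 D193118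
def n214164 : Q := act 4 n156963
theorem D214164 : act 4 n156963 = n214164 := rfl
theorem F473802 : act 2 n214164 = n185260 := d1_1 D214164 (iv4 F469389) F469387
theorem F473803 : act 7 n214164 = n185259 := d11_2 F426989 D214164 (iv4 F458685)
theorem F473804 : act 0 n214164 = n185261 := d18_2 (iv1 F469377) D214164 F458665 (iv5 D210740) F222806 D139682 (iv4 F349398) D202055 (iv5 F469376)
theorem F473805 : act 1 n214164 = n183881 := d15_1 (iv0 F473804) F285708 D185261
def n214165 : Q := act 6 n157008
theorem D214165 : act 6 n157008 = n214165 := rfl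
theorem F473806 : act 2 n214165 = n178811 := d3_1 D214165 (iv6 D178811) (iv2 F320448)
theorem F473807 : act 3 n214165 = n210388 := d7_1 D214165 (iv6 D210388) (iv3 F247118)
theorem F473808 : act 4 n214165 = n157009 := d10_1 D214165 (iv6 D157009) D157008
theorem F473809 : act 0 n214002 = n214165 := d21_4 F473231 (iv1 D191904) D191907 F473054 (iv6 D214165) F320449 (iv1 F332253) (iv5 D156244) D156245 D214044
def n214166 : Q := act 0 n157009
theorem D214166 : act 0 n157009 = n214166 := rfl
def n214167 : Q := act 1 n157009
theorem D214167 : act 1 n157009 = n214167 := rfl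
theorem F473810 : act 1 n214167 = n178814 := d15_1 D214167 (iv7 D178814) (iv2 F320451)
theorem F473811 : act 4 n210425 = n214167 := d20_0 (iv1 D214167) (iv4 F473808) F473807 F457344 (iv3 D138634) F172379 (iv1 F223466) F223467 (iv3 F411823) F457475
theorem F473812 : act 3 n203103 = n214167 := d20_3 F429035 (iv1 F393563) (iv4 F426977) (iv1 D214167) (iv3 F452618) F452619 F385974 (iv4 F469392) (iv3 D213193) F429037
theorem F473813 : act 0 n214165 = n213999 := d20_1 (iv4 F473808) (iv4 D213999) F472400 (iv1 F472500) F472497 F429035 (iv1 F393563) (iv4 F426977) F473812 (iv1 D214167)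
theorem F473814 : act 2 n214167 = n178813 := d0_1 F473812 F472916 (iv2 F472917) (iv3 D213186) F426979
theorem F473815 : act 7 n214167 = n178812 := d8_2 F426980 F473812 (iv3 F457385)
theorem F473816 : act 2 n178812 = n214166 := d15_3 (iv0 D214166) D214167 F473815
theorem F473817 : act 7 n178813 = n214166 := d4_2 (iv7 F473815) F473814 (iv2 F473816)
theorem F473818 : act 3 n214166 = n213849 := d8_1 F473817 (iv7 F472914) (iv3 F472916)
theorem F473819 : act 1 n178814 = n214166 := d15_1 F473810 (iv7 F473817) (iv2 F473814)
def n214168 : Q := act 7 n157009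
theorem D214168 : act 7 n157009 = n214168 := rfl
theorem F473820 : act 2 n214168 = n178814 := d4_1 D214168 (iv7 D178814) (iv2 F320451)
theorem F473821 : act 6 n214168 = n203604 := d14_1 D214168 F429074 F386633 F246973 D157009
theorem F473822 : act 1 n178813 = n214168 := d15_1 D178813 (iv7 D214168) F320451
theorem F473823 : act 1 n214168 = n178812 := d15_1 F473822 (iv7 F473815) F473814
def n214169 : Q := act 6 n157078
theorem D214169 : act 6 n157078 = n214169 := rfl
theorem F473824 : act 2 n214169 = n175392 := d3_1 D214169 (iv6 D175392) (iv2 F342237)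
theorem F473825 : act 3 n214169 = n207518 := d7_1 D214169 (iv6 F445261) F367400
theorem F473826 : act 4 n214169 = n157079 := d10_1 D214169 (iv6 D157079) D157078
theorem F473827 : act 7 n214169 = n173418 := d14_2 (iv7 F342238) D214169 (iv6 D173418) (iv7 F238163) F342218
theorem F473828 : act 5 n214169 = n214098 := d21_6 (iv5 D187058) (iv1 F137209) D98312 F335206 (iv1 F342236) D214169 (iv1 F473460) F448813 (iv6 D191412) (iv1 F368968)
theorem F473829 : act 0 n214169 = n208288 := d21_10 (iv5 D208288) F373075 (iv5 D158966) F113792 D148793 F403166 F332264 F411374 F411369 D214169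
def n214170 : Q := act 6 n157149
theorem D214170 : act 6 n157149 = n214170 := rfl
theorem F473830 : act 2 n214170 = n213492 := d3_1 D214170 F470655 (iv2 F404387)
theorem F473831 : act 3 n214170 = n198130 := d7_1 D214170 F406950 (iv3 F404389)
theorem F473832 : act 4 n214170 = n193339 := d10_1 D214170 (iv6 F420420) F420422
theorem F473833 : act 7 n214170 = n212118 := d14_2 (iv7 F404386) D214170 (iv6 D212118) (iv7 F365171) (iv6 F404382)
theorem F473834 : act 0 n214170 = n157168 := d21_4 D195892 (iv1 F398623) F404388 D214170 F247339 F363665 D192728 (iv5 F440474) F440476 (iv1 F398613)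
def n214171 : Q := act 6 n157150
theorem D214171 : act 6 n157150 = n214171 := rfl
theorem F473835 : act 2 n214171 = n157151 := d3_1 D214171 (iv6 D157151) D157150
theorem F473836 : act 7 n214171 = n212151 := d14_2 F404393 D214171 (iv6 D212151) (iv7 F401284) (iv6 F404392)
theorem F473837 : act 1 n200501 = n214171 := d15_1 (iv0 F416754) F473836 F464506
theorem F473838 : act 1 n214171 = n200504 := d15_0 (iv0 F416762) (iv7 F247326) (iv2 F473835)
def n214172 : Q := act 0 n157151
theorem D214172 : act 0 n157151 = n214172 := rfl
theorem F473839 : act 5 n214172 = n211169 := d17_1 D214172 F460433 (iv5 F400232) (iv4 F434818) (iv5 D205058) (iv0 D125373) (iv5 F199126) (iv0 F417950) (iv4 F417951)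
theorem F473840 : act 3 n214172 = n209288 := d20_5 F207058 (iv1 D106940) (iv4 F112134) (iv3 F247325) D214172 (iv4 D209288) (iv1 F442719) F442717 F228450 (iv1 F207057)
theorem F473841 : act 4 n214172 = n198869 := d20_0 F409666 D198875 F409696 (iv1 F400246) F400244 F207058 (iv1 D106940) (iv4 F112134) (iv3 F247325) D214172
theorem F473842 : act 2 n200501 = n214172 := d15_3 (iv0 D214172) (iv0 F417954) (iv7 F416752)
theorem F473843 : act 1 n212151 = n214172 := d15_0 (iv0 D214172) F247326 (iv2 F464506)
theorem F473844 : act 7 n214172 = n200504 := d15_2 (iv0 F464510) F473843 F416760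
def n214173 : Q := act 6 n157153
theorem D214173 : act 6 n157153 = n214173 := rfl
theorem F473845 : act 2 n214173 = n196553 := d3_1 D214173 F404401 (iv2 F404400)
theorem F473846 : act 3 n214173 = n212135 := d7_1 D214173 F464451 (iv3 F407710)
theorem F473847 : act 4 n214173 = n210908 := d10_1 D214173 (iv6 F473370) F473368
theorem F473848 : act 0 n214173 = n196425 := d21_4 F337620 (iv1 F337618) F342035 D214173 F400648 F421567 (iv1 F432654) (iv5 D196477) (iv6 D107019) D107014
theorem F473849 : act 0 n196552 = n214173 := d21_4 D49589 (iv1 F180530) (iv5 F165048) D196552 (iv6 D214173) (iv5 F342035) (iv1 D107029) (iv5 D49442) F37812 D24189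
theorem F473850 : act 7 n196554 = n214173 := d15_2 (iv0 D196553) D196554 F473845
def n214174 : Q := act 3 n157160
theorem D214174 : act 3 n157160 = n214174 := rfl
theorem F473851 : act 4 n214174 = n210125 := d5_2 (iv4 F361911) D214174 (iv3 F456276) (iv4 F239941) F234148
theorem F473852 : act 5 n214174 = n198770 := d6_2 F462007 D214174 F462008
theorem F473853 : act 6 n214174 = n196923 := d7_2 (iv6 F361912) D214174 (iv3 D196923)
theorem F473854 : act 7 n214174 = n198769 := d8_2 F361910 D214174 F409154
theorem F473855 : act 2 n210127 = n214174 := d2_3 F473852 F458579 F458576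
def n214175 : Q := act 4 n157162
theorem D214175 : act 4 n157162 = n214175 := rfl
theorem F473856 : act 2 n214175 = n194677 := d1_1 D214175 F394059 (iv2 F366687)
theorem F473857 : act 6 n214175 = n192231 := d10_2 F412655 D214175 (iv4 F412657)
theorem F473858 : act 7 n214175 = n204406 := d11_2 (iv7 F366543) D214175 (iv4 F432419)
theorem F473859 : act 5 n214175 = n193194 := d16_1 D214175 (iv4 D193194) (iv5 D101333) (iv4 F308438) F125763 D152937 (iv5 F462025) F462028 (iv2 F366687)
theorem F473860 : act 0 n214175 = n204407 := d17_0 F469632 (iv1 D213266) (iv5 F373389) F373388 (iv5 D153687) F322351 D142811 F361915 D214175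
theorem F473861 : act 1 n214175 = n192221 := d18_6 (iv1 F241036) F109215 F313655 (iv4 F112142) D157162 D214175 F386065 F459851 F459849
def n214176 : Q := act 5 n157164
theorem D214176 : act 5 n157164 = n214176 := rfl
theorem F473862 : act 1 n214176 = n212887 := d17_8 F439822 F284758 F420101 (iv5 D201351) D201350 F420097 F410640 D214176 F467964
theorem F473863 : act 4 n214176 = n212881 := d18_5 (iv1 F337386) (iv4 F201870) (iv1 F433273) F433275 D214176 (iv0 F467932) F407186 (iv0 F407187) F363803
theorem F473864 : act 6 n214176 = n212880 := d21_3 (iv5 D157166) D157164 D214176 F467928 (iv6 D151242) (iv5 F164448) F164450 F83394 D114361 F363664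
def n214177 : Q := act 5 n157165
theorem D214177 : act 5 n157165 = n214177 := rfl
theorem F473865 : act 3 n214177 = n192647 := d6_1 D214177 (iv5 F387344) F380705
theorem F473866 : act 4 n214177 = n212891 := d17_4 (iv1 F420099) F420097 (iv1 F410639) D214177 (iv5 F467980) (iv0 F467981) (iv5 D201448) F248619 (iv4 F401159)
theorem F473867 : act 6 n214177 = n192646 := d21_3 F420097 (iv1 F410639) D214177 F410883 (iv6 D199147) F172045 (iv1 F111261) D107105 D196586 (iv1 F420099)
theorem F473868 : act 0 n214177 = n212887 := d20_4 (iv4 F383940) F383941 (iv4 F387342) (iv3 F473865) F467963 F412664 F367094 (iv4 F461297) (iv3 F461300) F280780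
def n214178 : Q := act 6 n157165
theorem D214178 : act 6 n157165 = n214178 := rfl
theorem F473869 : act 3 n214178 = n197577 := d7_1 D214178 F404880 F380705
theorem F473870 : act 4 n214178 = n198052 := d10_1 D214178 F406598 (iv4 F380718)
theorem F473871 : act 5 n214178 = n197573 := d12_1 D214178 (iv6 D197573) (iv5 F387341) (iv6 F473867) (iv5 D214177)
def n214179 : Q := act 0 n157168
theorem D214179 : act 0 n157168 = n214179 := rfl
theorem F473872 : act 4 n214179 = n162606 := d18_1 D214179 (iv1 F428893) (iv4 F470321) (iv5 F470324) F407441 F387756 F401960 (iv0 F401959) F371758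
theorem F473873 : act 2 n212118 = n214179 := d15_3 (iv0 D214179) (iv0 F473834) F473833
theorem F473874 : act 6 n214179 = n162605 := d3_2 D212118 F473873 F365170
theorem F473875 : act 7 n214179 = n213492 := d4_2 F473833 F473873 (iv2 F473830)
def n214180 : Q := act 2 n157168
theorem D214180 : act 2 n157168 = n214180 := rfl
theorem F473876 : act 3 n214180 = n192720 := d0_2 D157168 D214180 (iv2 F410645) (iv3 D199096) (iv2 F171943)
theorem F473877 : act 4 n214180 = n176111 := d1_2 (iv4 F432154) D214180 F432151
theorem F473878 : act 5 n214180 = n188050 := d2_2 F371758 D214180 F372223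
theorem F473879 : act 6 n214180 = n193083 := d3_2 (iv6 F247339) D214180 F388698
theorem F473880 : act 1 n214180 = n213492 := d15_0 F470656 F410647 D214180
theorem F473881 : act 1 n212118 = n214180 := d15_0 F473880 (iv7 F473875) (iv2 F473873)
def n214181 : Q := act 1 n157169
theorem D214181 : act 1 n157169 = n214181 := rfl
def n214182 : Q := act 2 n157169
theorem D214182 : act 2 n157169 = n214182 := rfl
theorem F473882 : act 5 n214182 = n192721 := d2_2 F401758 D214182 (iv2 F401763)
theorem F473883 : act 7 n214182 = n192720 := d4_2 F410644 D214182 (iv2 F410645)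
theorem F473884 : act 1 n214181 = n192720 := d15_1 D214181 (iv7 F473883) (iv2 D214182)
def n214183 : Q := act 6 n157169
theorem D214183 : act 6 n157169 = n214183 := rfl
theorem F473885 : act 3 n214183 = n157170 := d7_1 D214183 (iv6 D157170) D157169
theorem F473886 : act 7 n214183 = n196585 := d14_2 F410644 D214183 (iv6 D196585) (iv7 F172025) (iv6 F410643)
theorem F473887 : act 0 n214183 = n212130 := d21_10 F464436 (iv1 F433731) (iv5 D196781) (iv6 D107317) (iv1 F78332) D49595 D107358 (iv1 F401764) F401758 D214183
def n214184 : Q := act 3 n157171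
theorem D214184 : act 3 n157171 = n214184 := rfl
theorem F473888 : act 5 n214184 = n194536 := d6_2 F350576 D214184 (iv3 D194536)
theorem F473889 : act 6 n214184 = n201347 := d7_2 (iv6 F350578) D214184 (iv3 D201347)
theorem F473890 : act 7 n214184 = n203429 := d8_2 F350581 D214184 F428264
theorem F473891 : act 0 n202880 = n214184 := d20_4 D201710 F452324 (iv4 F466625) F466624 (iv3 D214184) (iv4 D157171) (iv1 F172221) (iv4 F339969) (iv3 F420509) F420512
theorem F473892 : act 1 n212025 = n214184 := d15_0 (iv0 F473891) F426010 (iv2 F464000)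
theorem F473893 : act 2 n214184 = n203430 := d15_3 F428269 (iv0 F428265) (iv7 F473890)
def n214185 : Q := act 6 n157172
theorem D214185 : act 6 n157172 = n214185 := rfl
theorem F473894 : act 3 n214185 = n213270 := d7_1 D214185 (iv6 D213270) F366542
theorem F473895 : act 5 n214185 = n211959 := d12_1 D214185 (iv6 D211959) (iv5 D144490) (iv6 F112145) (iv5 F247344)
def n214186 : Q := act 0 n157173
theorem D214186 : act 0 n157173 = n214186 := rfl
theorem F473896 : act 4 n214186 = n209985 := d20_2 F411395 D214186 (iv3 F455631) (iv1 F374461) (iv3 F375595) F375596 (iv1 D153920) D153921 D213494 F470667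
theorem F473897 : act 3 n214186 = n213314 := d20_5 F53883 D34241 D74729 D157173 D214186 F469867 (iv1 F459643) F404761 (iv3 D157169) (iv1 D74725)
theorem F473898 : act 2 n212076 = n214186 := d15_3 (iv0 D214186) (iv0 F406875) (iv7 F464241)
theorem F473899 : act 1 n209992 = n214186 := d15_0 (iv0 D214186) (iv7 F400610) (iv2 F455663)
theorem F473900 : act 6 n214186 = n212068 := d3_2 D212076 F473898 (iv2 F464221)
def n214187 : Q := act 2 n157173
theorem D214187 : act 2 n157173 = n214187 := rfl
theorem F473901 : act 3 n214187 = n213422 := d0_2 D157173 D214187 (iv2 F470311) F389232 (iv2 F164836)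
theorem F473902 : act 4 n214187 = n192980 := d1_2 F411395 D214187 F411399
theorem F473903 : act 5 n214187 = n199233 := d2_2 F439809 D214187 (iv2 F439807)
theorem F473904 : act 6 n214187 = n192979 := d3_2 (iv6 F247347) D214187 F388413
theorem F473905 : act 7 n214187 = n209992 := d4_2 F400610 D214187 F455663
theorem F473906 : act 1 n212076 = n214187 := d15_1 (iv0 F464244) F473905 F455663
def n214188 : Q := act 5 n157176
theorem D214188 : act 5 n157176 = n214188 := rfl
theorem F473907 : act 3 n214188 = n157177 := d6_1 D214188 (iv5 D157177) D157176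
theorem F473908 : act 7 n214188 = n196744 := d13_2 F389234 D214188 F401663
theorem F473909 : act 4 n214188 = n206967 := d16_2 (iv4 F363854) D214188 (iv5 D206967) (iv4 F209518) (iv5 F363896) (iv4 F290170) (iv5 F388768) (iv7 D193106) F155893
theorem F473910 : act 1 n214188 = n198943 := d17_6 (iv1 F365615) (iv5 D101242) F290141 D87959 (iv4 F363854) D214188 (iv5 D198943) F401651 F401648
theorem F473911 : act 6 n207813 = n214188 := d10_0 F473909 F442769 D207813
def n214189 : Q := act 6 n157176
theorem D214189 : act 6 n157176 = n214189 := rfl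
theorem F473912 : act 2 n214189 = n209990 := d3_1 D214189 F455657 F388766
theorem F473913 : act 3 n214189 = n157178 := d7_1 D214189 (iv6 D157178) D157176
theorem F473914 : act 4 n214189 = n170755 := d10_1 D214189 F268344 (iv4 F363854)
theorem F473915 : act 5 n214189 = n160544 := d12_1 D214189 F405793 (iv5 F446566) F473911 (iv5 D214188)
theorem F473916 : act 7 n214189 = n196930 := d14_2 F389234 D214189 (iv6 D196930) F165783 (iv6 F389233)
theorem F473917 : act 0 n213460 = n214189 := d17_2 F353090 (iv5 F470501) F473915 (iv4 D160544) (iv5 F331728) (iv0 F331733) (iv5 F330282) F334112 D173935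
theorem F473918 : act 1 n212098 = n214189 := d15_0 (iv0 F473917) F470502 (iv2 F464305)
def n214190 : Q := act 6 n157183
theorem D214190 : act 6 n157183 = n214190 := rfl
theorem F473919 : act 3 n214190 = n157184 := d7_1 D214190 (iv6 D157184) D157183
theorem F473920 : act 4 n214190 = n204942 := d10_1 D214190 (iv6 D204942) F312826
theorem F473921 : act 7 n214190 = n212211 := d14_2 F404454 D214190 (iv6 D212211) (iv7 F459936) F459935
theorem F473922 : act 0 n214190 = n209971 := d20_4 (iv4 D203133) F314355 (iv4 F247377) (iv3 F473919) (iv3 D209971) (iv4 D137202) D137200 D209968 (iv3 F464486) (iv1 F464490)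
def n214191 : Q := act 5 n157184
theorem D214191 : act 5 n157184 = n214191 := rfl
theorem F473923 : act 4 n214191 = n213286 := d9_1 D214191 F469729 F240828 (iv5 F425151) (iv4 D202696) (iv5 F228592) (iv4 F460355) F460356 (iv4 D157589) (iv5 D75017) (iv4 F112549) D157575 (iv4 F355122) F318119 (iv4 F247377)
theorem F473924 : act 7 n214191 = n212213 := d13_2 (iv7 F366242) D214191 (iv5 D212213)
theorem F473925 : act 0 n214191 = n212511 := d17_2 (iv1 F456399) D214191 (iv5 D212511) F231300 (iv5 F280370) (iv0 F355131) (iv5 F355136) F355135 (iv4 F456397)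
theorem F473926 : act 1 n214191 = n212512 := d17_6 (iv1 D53662) D53663 D116431 F318119 (iv4 F247377) D214191 (iv5 D212512) F360683 (iv4 D116428)
def n214192 : Q := act 6 n157229
theorem D214192 : act 6 n157229 = n214192 := rfl
theorem F473927 : act 2 n214192 = n157232 := d3_1 D214192 (iv6 D157232) (iv2 F247443)
theorem F473928 : act 3 n214192 = n182862 := d7_1 D214192 (iv6 F382219) F382216
theorem F473929 : act 4 n214192 = n158900 := d10_1 D214192 (iv6 F445646) F445644
theorem F473930 : act 7 n214192 = n176889 := d14_2 F340431 D214192 F382170 F380980 F340430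
theorem F473931 : act 5 n214192 = n204743 := d21_6 F365093 F347193 (iv5 F226899) (iv6 F340028) (iv1 F247444) D214192 (iv1 F463160) (iv5 D211809) (iv6 D144125) D144122
def n214193 : Q := act 5 n157230
theorem D214193 : act 5 n157230 = n214193 := rfl
theorem F473932 : act 2 n214193 = n157235 := d2_1 D214193 (iv5 D157235) (iv2 F247446)
theorem F473933 : act 3 n214193 = n187331 := d6_1 D214193 (iv5 F393676) F393675
theorem F473934 : act 6 n214193 = n204743 := d12_2 D157230 D214193 (iv5 F473931) (iv6 D214192) (iv5 D157229)
theorem F473935 : act 7 n214193 = n211856 := d13_2 F340801 D214193 (iv5 D211856)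
theorem F473936 : act 0 n214193 = n211505 := d17_2 (iv1 F341115) D214193 (iv5 D211505) F344497 (iv5 D84382) D84381 D177048 (iv0 F344473) F223812
theorem F473937 : act 1 n214193 = n190994 := d17_6 F313662 (iv5 F189761) F189762 (iv5 F311910) (iv4 F247447) D214193 (iv5 F427592) (iv0 F447048) F447045
theorem F473938 : act 4 n204744 = n214193 := d18_7 F461729 F461726 F340823 (iv4 F225458) D211512 F461913 (iv0 F461546) F473937 (iv5 F427592)
def n214194 : Q := act 1 n157232
theorem D214194 : act 1 n157232 = n214194 := rfl
theorem F473939 : act 1 n214194 = n176889 := d15_1 D214194 (iv7 F473930) F473927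
theorem F473940 : act 6 n198361 = n214194 := d21_3 (iv5 D109250) D109248 D198361 (iv1 D214194) (iv6 D157232) (iv5 D74766) D74763 (iv5 F245801) F407775 (iv1 D198365)
def n214195 : Q := act 5 n157232
theorem D214195 : act 5 n157232 = n214195 := rfl
theorem F473941 : act 2 n214195 = n204743 := d2_1 D214195 (iv5 F473931) F473927
theorem F473942 : act 3 n214195 = n157239 := d6_1 D214195 (iv5 D157239) (iv3 F247449)
theorem F473943 : act 6 n214195 = n157235 := d12_2 D157232 D214195 (iv5 D157235) (iv6 D74767) D74766
theorem F473944 : act 4 n214195 = n160459 := d16_2 (iv4 F356904) D214195 (iv5 F254090) (iv4 F193375) (iv5 F254070) F116019 D84324 (iv7 F254238) (iv2 F254239)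
theorem F473945 : act 7 n204745 = n214195 := d11_0 F473944 F254246 D204745
def n214196 : Q := act 7 n157232
theorem D214196 : act 7 n157232 = n214196 := rfl
theorem F473946 : act 2 n214196 = n176889 := d4_1 D214196 (iv7 F473930) F473927
theorem F473947 : act 3 n214196 = n157240 := d8_1 D214196 (iv7 D157240) (iv3 F247449)
theorem F473948 : act 4 n214196 = n158896 := d11_1 D214196 (iv7 F254230) (iv4 F356904)
theorem F473949 : act 5 n214196 = n204745 := d13_1 D214196 F473945 (iv5 D214195)
def n214197 : Q := act 5 n157233
theorem D214197 : act 5 n157233 = n214197 := rfl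
theorem F473950 : act 2 n214197 = n211859 := d2_1 D214197 F463291 F340802
theorem F473951 : act 3 n214197 = n190887 := d6_1 D214197 F381454 (iv3 F365375)
theorem F473952 : act 4 n214197 = n190307 := d9_1 D214197 F379341 (iv4 F342312) F342305 (iv4 F324355) (iv5 D140722) (iv4 F103435) D144176 D211858 F463289 (iv4 F428956) F428954 D206946 (iv5 F457312) F457311
theorem F473953 : act 7 n214197 = n202835 := d13_2 (iv7 F340803) D214197 (iv5 D202835)
theorem F473954 : act 0 n214197 = n211857 := d17_2 D157233 D214197 F463286 F461726 (iv5 F340820) (iv0 F340822) (iv5 D157286) (iv0 D74783) (iv4 F112209)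
theorem F473955 : act 1 n214197 = n211848 := d17_6 D177050 (iv5 F444976) (iv1 F444978) (iv5 F457312) F457311 D214197 F463251 F447049 F344497
def n214198 : Q := act 0 n157235
theorem D214198 : act 0 n157235 = n214198 := rfl
theorem F473956 : act 5 n214198 = n211486 := d17_1 D214198 (iv1 F461773) (iv5 F429226) (iv4 F459175) (iv5 D210892) F366181 D141995 D211443 F461553
theorem F473957 : act 3 n214198 = n160847 := d20_5 D208097 F447855 (iv4 D157245) (iv3 F247450) D214198 (iv4 F365877) F159343 (iv4 F365781) F365374 (iv1 F226814)
theorem F473958 : act 4 n214198 = n190166 := d20_8 F290802 (iv1 F75125) D89904 D187328 (iv1 F439976) (iv3 F461552) F461553 D214198 (iv3 D190166) (iv1 F290801)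
theorem F473959 : act 2 n211505 = n214198 := d15_3 (iv0 D214198) (iv0 F467986) F467985
theorem F473960 : act 7 n214198 = n190994 := d4_2 F467985 F473959 (iv2 F467982)
theorem F473961 : act 6 n160845 = n214198 := d14_5 F473960 (iv6 D190994) (iv7 F381741) F381740 (iv7 F254009)
theorem F473962 : act 1 n211856 = n214198 := d15_1 F467987 F473960 (iv2 F467982)
def n214199 : Q := act 7 n157235
theorem D214199 : act 7 n157235 = n214199 := rfl
theorem F473963 : act 2 n214199 = n211856 := d4_1 D214199 (iv7 F473935) F473932
theorem F473964 : act 3 n214199 = n157246 := d8_1 D214199 (iv7 D157246) (iv3 F247450)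
theorem F473965 : act 5 n214199 = n157236 := d13_1 D214199 (iv7 D157236) D157235
theorem F473966 : act 1 n190994 = n214199 := d15_1 F473937 (iv7 D214199) (iv2 F473932)
theorem F473967 : act 1 n214199 = n211505 := d15_1 F473966 (iv7 F467985) F467982
def n214200 : Q := act 0 n157239
theorem D214200 : act 0 n157239 = n214200 := rfl
theorem F473968 : act 5 n214200 = n211498 := d17_3 F376519 D157239 D214200 F461828 (iv5 D144784) (iv0 D67851) F49860 D61295 D130634
theorem F473969 : act 3 n198508 = n214200 := d6_3 F473968 F461827 (iv5 F408169)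
theorem F473970 : act 7 n198506 = n214200 := d13_0 F473968 F461829 (iv5 F448304)
theorem F473971 : act 4 n163249 = n214200 := d16_2 F146893 D163249 F473968 F461828 (iv5 D144784) D144783 (iv5 F380458) F380460 (iv2 D189805)
def n214201 : Q := act 1 n157239
theorem D214201 : act 1 n157239 = n214201 := rfl
theorem F473972 : act 5 n212009 = n214201 := d21_6 (iv5 D25358) (iv1 F39945) (iv5 F78418) D107478 D196932 (iv6 F463911) (iv1 D214201) (iv5 D157239) (iv6 D74768) F53916
theorem F473973 : act 2 n214201 = n198506 := d2_1 F473972 F448304 (iv2 F463910)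
def n214202 : Q := act 4 n157239
theorem D214202 : act 4 n157239 = n214202 := rfl
theorem F473974 : act 6 n214202 = n157245 := d10_2 (iv6 F247453) D214202 (iv4 D157245)
theorem F473975 : act 3 n190168 = n214202 := d20_5 (iv4 F253751) F253753 F115970 (iv3 F326723) D190168 (iv4 D214202) D214200 (iv4 F473971) F257543 (iv1 F248952)
def n214203 : Q := act 7 n157239
theorem D214203 : act 7 n157239 = n214203 := rfl
theorem F473976 : act 3 n214203 = n204745 := d8_1 D214203 F473945 F473942
theorem F473977 : act 5 n214203 = n157240 := d13_1 D214203 (iv7 D157240) D157239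
theorem F473978 : act 1 n198506 = n214203 := d15_1 (iv0 F448305) (iv7 D214203) (iv2 F415943)
def n214204 : Q := act 0 n157241
theorem D214204 : act 0 n157241 = n214204 := rfl
theorem F473979 : act 3 n214204 = n193724 := d20_5 F82449 D52158 (iv4 F112212) D157241 D214204 F431954 (iv1 D202456) (iv4 F182845) F182844 F85017
theorem F473980 : act 2 n194305 = n214204 := d15_3 (iv0 D214204) (iv0 F443535) F443532
theorem F473981 : act 1 n202813 = n214204 := d15_0 (iv0 D214204) F247456 (iv2 F425700)
theorem F473982 : act 7 n214204 = n202814 := d15_2 (iv0 F443533) F473981 (iv2 F443530)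
theorem F473983 : act 6 n193714 = n214204 := d14_5 F473982 F425702 (iv7 F379508) F379507 D193714
def n214205 : Q := act 2 n157241
theorem D214205 : act 2 n157241 = n214205 := rfl
theorem F473984 : act 3 n214205 = n193705 := d0_2 D157241 D214205 (iv2 F390726) (iv3 D133384) F112211
theorem F473985 : act 6 n214205 = n199902 := d3_2 (iv6 F247455) D214205 (iv2 F414064)
theorem F473986 : act 7 n214205 = n202813 := d4_2 (iv7 F247456) D214205 F425700
theorem F473987 : act 1 n214205 = n202814 := d15_0 (iv0 D202814) (iv7 F247456) D214205
theorem F473988 : act 1 n194305 = n214205 := d15_0 F473987 (iv7 F473982) (iv2 F473980)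
def n214206 : Q := act 5 n157241
theorem D214206 : act 5 n157241 = n214206 := rfl
theorem F473989 : act 3 n214206 = n157242 := d6_1 D214206 (iv5 D157242) D157241
theorem F473990 : act 7 n214206 = n202815 := d13_2 (iv7 F247456) D214206 (iv5 D202815)
theorem F473991 : act 0 n190079 = n214206 := d19_0 (iv5 D214206) (iv4 F403907) (iv3 D197304) (iv1 F222611) D210568 F458068 (iv3 F364011) (iv1 F315867) D210357 F458475 F458477 F457936 F457935 (iv4 D190066) (iv3 D95603) (iv1 D44649) D44650 D95609 D190079
def n214207 : Q := act 4 n157242
theorem D214207 : act 4 n157242 = n214207 := rfl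
theorem F473992 : act 2 n214207 = n190954 := d1_1 D214207 (iv4 F381683) (iv2 F247457)
theorem F473993 : act 5 n214207 = n194274 := d9_2 D157242 D214207 F392608 (iv5 D128615) F95084 F82452 F82455 D67535 D144160 F394882 F394881 F207168 (iv4 F99159) F99160 (iv4 F112212)
theorem F473994 : act 7 n214207 = n190953 := d11_2 (iv7 F247458) D214207 F381680
theorem F473995 : act 0 n214207 = n190955 := d17_0 (iv5 F394558) (iv1 F394561) (iv5 F447857) F447858 F415946 (iv0 F397271) F226862 (iv0 F247459) D214207
theorem F473996 : act 1 n214207 = n187297 := d18_6 F85017 F82449 D52158 (iv4 F112212) D157242 D214207 (iv4 F425571) (iv0 D202786) (iv5 D116974)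
theorem F473997 : act 6 n214207 = n187319 := d21_5 F226849 F182893 D202809 F425679 (iv1 F473996) F369827 F178369 (iv5 F369884) F404504 (iv1 F404502)
def n214208 : Q := act 6 n157242
theorem D214208 : act 6 n157242 = n214208 := rfl
theorem F473998 : act 2 n214208 = n190837 := d3_1 D214208 F381686 (iv2 F247457)
theorem F473999 : act 4 n214208 = n187319 := d10_1 D214208 (iv6 F473997) (iv4 D214207)
theorem F474000 : act 5 n214208 = n211824 := d12_1 D214208 (iv6 D211824) F226849 F112214 D157242
theorem F474001 : act 0 n214208 = n190285 := d21_4 (iv5 D74770) D74769 D157242 D214208 (iv6 D190285) F147498 (iv1 F136447) D159808 F410895 (iv1 D157244)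
theorem F474002 : act 1 n214208 = n190840 := d15_1 (iv0 F474001) (iv7 D190840) (iv2 F379283)
theorem F474003 : act 7 n190836 = n214208 := d11_0 F473999 (iv7 F369830) (iv4 F381281)
def n214209 : Q := act 4 n157243
theorem D214209 : act 4 n157243 = n214209 := rfl
theorem F474004 : act 2 n214209 = n208098 := d1_1 D214209 F447858 (iv2 F415947)
theorem F474005 : act 5 n214209 = n194810 := d9_2 F410926 D214209 (iv4 F418482) F418483 F207411 (iv5 F176158) (iv4 F410891) F410894 (iv4 F418451) (iv5 D200944) F176827 D113662 F358165 D196107 (iv4 F410924)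
theorem F474006 : act 7 n214209 = n208099 := d11_2 (iv7 F410897) D214209 F447864
theorem F474007 : act 0 n214209 = n208100 := d17_0 F447869 F394884 (iv5 F394882) (iv4 D144160) (iv5 D67535) F103414 D144104 F247464 D214209
theorem F474008 : act 1 n214209 = n187268 := d18_6 F393028 F226650 (iv1 F399439) (iv4 F410924) F410926 D214209 (iv4 F369663) D200346 (iv5 F416083)
def n214210 : Q := act 6 n157243
theorem D214210 : act 6 n157243 = n214210 := rfl
theorem F474009 : act 3 n214210 = n199895 := d7_1 D214210 (iv6 F453112) F453111
theorem F474010 : act 5 n214210 = n199894 := d12_1 D214210 (iv6 D199894) (iv5 F336178) D199156 F410926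
def n214211 : Q := act 3 n157244
theorem D214211 : act 3 n157244 = n214211 := rfl
theorem F474011 : act 0 n193706 = n214211 := d20_4 F257579 (iv1 F390744) (iv4 D193709) (iv3 F390730) (iv3 D214211) (iv4 F418451) (iv1 F418452) (iv4 F369663) (iv3 F390662) (iv1 F390665)
def n214212 : Q := act 3 n157245
theorem D214212 : act 3 n157245 = n214212 := rfl
theorem F474012 : act 2 n214212 = n174707 := d0_1 D214212 (iv3 D174707) F271772 F415953 F415950
theorem F474013 : act 4 n214212 = n206263 := d5_2 D157245 D214212 (iv3 F461552) F461553 F247450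
theorem F474014 : act 6 n214212 = n190168 := d7_2 F473974 D214212 F473975
theorem F474015 : act 0 n214212 = n211381 := d20_10 (iv4 D211381) F353408 (iv4 F369665) (iv3 F409036) F409037 (iv3 F418450) F418451 (iv1 D157244) D157245 D214212
theorem F474016 : act 5 n189870 = n214212 := d18_9 F474015 (iv4 D211381) F353408 (iv4 F369665) (iv5 F369666) F340615 (iv0 F344676) F344667 D189870
theorem F474017 : act 1 n214212 = n190143 := d17_6 (iv1 F333980) F333981 F330132 F330128 (iv4 F378042) F474016 F378965 (iv0 F378019) (iv4 F302236)
def n214213 : Q := act 5 n157245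
theorem D214213 : act 5 n157245 = n214213 := rfl
theorem F474018 : act 2 n214213 = n186297 := d2_1 D214213 (iv5 F415952) F415950
theorem F474019 : act 3 n214213 = n189870 := d6_1 D214213 F474016 (iv3 D214212)
theorem F474020 : act 4 n214213 = n206441 := d9_1 D214213 F440817 F211184 F96412 D67518 D144104 (iv4 F366957) (iv5 F366956) (iv4 F341770) (iv5 D129183) F95333 F46455 (iv4 F53917) D74770 D157245
theorem F474021 : act 7 n214213 = n206563 := d16_8 (iv4 F341770) (iv5 D129183) F95333 F46455 (iv4 F53917) D74770 D157245 D214213 (iv2 F441348)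
theorem F474022 : act 0 n214213 = n189834 := d17_2 F447855 D214213 (iv5 F447841) (iv4 D208092) (iv5 D133379) (iv0 D62597) D62598 D133381 D208097
theorem F474023 : act 1 n214213 = n206564 := d17_6 (iv1 D144159) (iv5 D67535) F80755 D74770 D157245 D214213 F441352 D211793 F463088
def n214214 : Q := act 7 n157245
theorem D214214 : act 7 n157245 = n214214 := rfl
theorem F474024 : act 2 n214214 = n174705 := d4_1 D214214 (iv7 F415951) F415950
theorem F474025 : act 4 n214214 = n157246 := d11_1 D214214 (iv7 D157246) D157245
theorem F474026 : act 5 n214214 = n206563 := d13_1 D214214 (iv7 F474021) (iv5 D214213)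
def n214215 : Q := act 6 n157246
theorem D214215 : act 6 n157246 = n214215 := rfl
theorem F474027 : act 2 n214215 = n211795 := d3_1 D214215 (iv6 D211795) (iv2 F247462)
def n214216 : Q := act 5 n157259
theorem D214216 : act 5 n157259 = n214216 := rfl
theorem F474028 : act 2 n214216 = n207173 := d2_1 D214216 (iv5 D207173) (iv2 F247491)
theorem F474029 : act 3 n214216 = n157260 := d6_1 D214216 (iv5 D157260) D157259
theorem F474030 : act 0 n214216 = n199306 := d17_2 (iv1 F447739) D214216 (iv5 D199306) (iv4 D111175) D111176 (iv0 F347686) F356544 F245966 (iv4 F447737)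
theorem F474031 : act 1 n214216 = n199303 := d17_6 (iv1 F457351) (iv5 F416247) F396190 (iv5 F396191) (iv4 F247492) D214216 (iv5 D199303) D199302 (iv4 F457346)
def n214217 : Q := act 3 n157285
theorem D214217 : act 3 n157285 = n214217 := rfl
theorem F474032 : act 4 n214217 = n210682 := d5_2 D157285 D214217 F458432 (iv4 F363480) (iv3 D157284)
theorem F474033 : act 6 n214217 = n211964 := d7_2 F341157 D214217 F463761
theorem F474034 : act 7 n214217 = n202858 := d8_2 (iv7 F341155) D214217 F425901
def n214218 : Q := act 5 n157285
theorem D214218 : act 5 n157285 = n214218 := rfl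
theorem F474035 : act 2 n214218 = n211982 := d2_1 D214218 F463824 F341156
theorem F474036 : act 7 n214218 = n202861 := d13_2 (iv7 F341155) D214218 (iv5 D202861)
theorem F474037 : act 4 n214218 = n214095 := d16_2 D157285 D214218 (iv5 D214095) (iv4 F443505) F443506 (iv4 D144573) (iv5 D67751) D67752 (iv2 F322110)
theorem F474038 : act 0 n214218 = n211980 := d17_2 (iv1 F341158) D214218 F463821 (iv4 F472271) F472268 (iv0 F444867) F444865 F341118 (iv4 F361613)
theorem F474039 : act 1 n214218 = n211979 := d17_6 (iv1 F322333) (iv5 F222977) F361620 (iv5 D157286) D157285 D214218 F463817 (iv0 F414454) F225458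
def n214219 : Q := act 6 n157357
theorem D214219 : act 6 n157357 = n214219 := rfl
theorem F474040 : act 2 n214219 = n197043 := d3_1 D214219 (iv6 D197043) F319145
theorem F474041 : act 3 n214219 = n200350 := d7_1 D214219 (iv6 D200350) F396347
theorem F474042 : act 4 n214219 = n195596 := d10_1 D214219 (iv6 D195596) (iv4 F247670)
theorem F474043 : act 5 n214219 = n194045 := d12_1 D214219 F437181 (iv5 D105442) D105443 F355703
theorem F474044 : act 7 n214219 = n212965 := d14_2 (iv7 F340672) D214219 (iv6 F468347) F392291 (iv6 F377391)
theorem F474045 : act 0 n214219 = n212966 := d21_4 F355704 (iv1 F353421) F355703 D214219 F468353 (iv5 D188774) (iv1 F288420) F135603 D93954 F334839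
theorem F474046 : act 0 n201112 = n214219 := d21_4 F238501 F462208 F462209 F419135 (iv6 D214219) (iv5 F355703) (iv1 F396325) F396322 F334844 D151631
def n214220 : Q := act 3 n157358
theorem D214220 : act 3 n157358 = n214220 := rfl
theorem F474047 : act 2 n214220 = n200347 := d0_1 D214220 (iv3 D200347) F396351 (iv3 F350609) (iv2 F340671)
theorem F474048 : act 5 n214220 = n199309 := d6_2 F355702 D214220 F411597
theorem F474049 : act 6 n214220 = n188521 := d7_2 F367590 D214220 F377165
theorem F474050 : act 7 n214220 = n197042 := d8_2 F319147 D214220 (iv3 D197042)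
theorem F474051 : act 0 n214220 = n208133 := d20_4 F210442 (iv1 F162597) (iv4 F247675) D214220 (iv3 F448026) (iv4 D208072) F363717 (iv4 F210444) (iv3 D131304) D131302
theorem F474052 : act 1 n214220 = n208114 := d15_1 (iv0 F474051) F447935 (iv2 F448027)
def n214221 : Q := act 1 n157392
theorem D214221 : act 1 n157392 = n214221 := rfl
theorem F474053 : act 1 n214221 = n188042 := d15_1 D214221 F372197 F364639
theorem F474054 : act 7 n214221 = n196142 := d15_2 (iv0 F398989) D214221 F399588
theorem F474055 : act 5 n214221 = n159375 := d17_7 F333536 (iv5 D129427) D129424 (iv5 F396525) (iv4 F398412) F398413 D214221 (iv0 D159375) (iv4 F250918)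
theorem F474056 : act 4 n214221 = n205534 := d17_9 (iv1 F436879) F417750 (iv1 F399327) (iv5 F382367) F382366 (iv5 F372192) (iv0 F398415) F398413 D214221
theorem F474057 : act 2 n201819 = n214221 := d1_3 F474056 F436876 (iv4 F421902)
theorem F474058 : act 3 n186227 = n214221 := d20_5 F385126 (iv1 D176866) F129384 (iv3 F136050) D186227 F474056 (iv1 F436879) F417751 F258818 (iv1 F367208)
def n214222 : Q := act 4 n157396
theorem D214222 : act 4 n157396 = n214222 := rfl
theorem F474059 : act 2 n214222 = n212033 := d1_1 D214222 F464043 (iv2 F444356)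
theorem F474060 : act 3 n214222 = n212950 := d5_1 D214222 (iv4 F468281) F238928 (iv4 F448363) F448362
theorem F474061 : act 5 n214222 = n173516 := d9_2 F465218 D214222 (iv4 D173516) (iv5 D83012) D83011 D173514 F387820 F387821 (iv4 F227970) (iv5 F360268) (iv4 D173500) (iv5 D83007) D83006 D173495 (iv4 F465217)
theorem F474062 : act 6 n214222 = n207380 := d10_2 (iv6 F448360) D214222 (iv4 F448355)
theorem F474063 : act 7 n214222 = n201470 := d11_2 (iv7 F426001) D214222 (iv4 F425998)
theorem F474064 : act 0 n214222 = n203800 := d17_0 (iv5 D203800) (iv1 F192337) (iv5 F214510) F377615 (iv5 F387380) (iv0 F387383) (iv5 D157397) D157396 D214222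
theorem F474065 : act 1 n214222 = n203801 := d18_8 (iv1 D120660) (iv4 F108422) F327303 (iv4 F327299) D152442 F364636 D157396 D214222 (iv5 D203801)
def n214223 : Q := act 5 n157400
theorem D214223 : act 5 n157400 = n214223 := rfl
theorem F474066 : act 2 n214223 = n173514 := d2_1 D214223 (iv5 D173514) (iv2 F354636)
theorem F474067 : act 3 n214223 = n157401 := d6_1 D214223 (iv5 D157401) D157400
theorem F474068 : act 7 n214223 = n173495 := d13_2 (iv7 F354638) D214223 (iv5 D173495)
theorem F474069 : act 0 n214223 = n192650 := d17_2 F431548 D214223 (iv5 D192650) D192649 (iv5 F387353) (iv0 F431412) (iv5 D204188) (iv0 F357820) (iv4 F431545)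
theorem F474070 : act 1 n214223 = n192233 := d17_6 F154553 (iv5 F298372) (iv1 F338573) (iv5 D173453) (iv4 F354637) D214223 (iv5 D192233) F363115 D100490
def n214224 : Q := act 1 n157404
theorem D214224 : act 1 n157404 = n214224 := rfl
theorem F474071 : act 1 n214224 = n188098 := d15_1 D214224 F444359 F444357
theorem F474072 : act 7 n214224 = n188104 := d15_2 F406692 D214224 (iv2 F444362)
theorem F474073 : act 4 n214224 = n187911 := d18_7 (iv1 D149657) F106721 (iv1 F157759) F65950 D90328 (iv4 F364668) D214224 (iv0 F467537) (iv5 D212792)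
theorem F474074 : act 6 n209594 = n214224 := d21_3 (iv5 F454673) F454674 F454268 (iv1 D214224) (iv6 D157404) (iv5 D74855) D74854 D157401 (iv6 F452357) (iv1 F452358)
theorem F474075 : act 3 n214224 = n213104 := d7_1 F474074 (iv6 F469033) (iv3 F454269)
theorem F474076 : act 2 n188103 = n214224 := d0_5 F474075 (iv2 D213104) (iv3 D152534) (iv2 F187306) F372332
def n214225 : Q := act 5 n157409
theorem D214225 : act 5 n157409 = n214225 := rfl
theorem F474077 : act 2 n214225 = n181152 := d2_1 D214225 (iv5 D181152) (iv2 F305576)
theorem F474078 : act 3 n214225 = n186762 := d6_1 D214225 (iv5 D186762) (iv3 F305577)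
theorem F474079 : act 6 n214225 = n191985 := d12_2 (iv6 F305578) D214225 (iv5 D191985) (iv6 D99464) (iv5 F121997)
theorem F474080 : act 7 n214225 = n204314 := d13_2 F348255 D214225 (iv5 D204314)
theorem F474081 : act 0 n214225 = n204593 := d17_2 F348263 D214225 F432971 (iv4 F459015) F459016 F458980 F316713 (iv0 F228259) (iv4 F348267)
theorem F474082 : act 1 n214225 = n204592 := d17_6 F381143 (iv5 D115809) D115807 F313691 D157409 D214225 F432970 (iv0 D203757) (iv4 F381140)
theorem F474083 : act 4 n210767 = n214225 := d18_7 (iv1 F429721) F388028 F428406 (iv4 F467312) (iv5 D212740) D212739 F469539 F474082 F432970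
theorem F474084 : act 0 n213650 = n210767 := d18_2 F467281 D213650 F474083 (iv5 D214225) (iv4 D157409) (iv0 D74857) (iv4 F307078) (iv0 F312625) D212726
def n214226 : Q := act 5 n157412
theorem D214226 : act 5 n157412 = n214226 := rfl
theorem F474085 : act 2 n214226 = n203600 := d2_1 D214226 (iv5 D203600) (iv2 F247899)
theorem F474086 : act 3 n214226 = n213990 := d6_1 D214226 (iv5 D213990) (iv3 F366539)
def n214227 : Q := act 3 n157414
theorem D214227 : act 3 n157414 = n214227 := rfl
theorem F474087 : act 4 n214227 = n194232 := d5_2 (iv4 F247908) D214227 F392433 F189492 (iv3 F239363)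
theorem F474088 : act 5 n214227 = n213067 := d6_2 (iv5 F247907) D214227 (iv3 D213067)
theorem F474089 : act 6 n214227 = n214031 := d7_2 F366634 D214227 F473186
theorem F474090 : act 7 n214227 = n200331 := d8_2 (iv7 F247911) D214227 F416015
theorem F474091 : act 0 n214227 = n201996 := d20_4 (iv4 F166767) (iv1 F239366) (iv4 F247908) D214227 F422664 F347896 (iv1 D55248) (iv4 F87041) (iv3 D55044) D55042
theorem F474092 : act 1 n214227 = n194561 := d15_1 (iv0 F474091) (iv7 F423679) F423676
def n214228 : Q := act 4 n157429
theorem D214228 : act 4 n157429 = n214228 := rfl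
theorem F474093 : act 2 n214228 = n206354 := d1_1 D214228 F440381 F314522
theorem F474094 : act 5 n214228 = n190288 := d9_2 F247962 D214228 (iv4 D190288) (iv5 D95810) (iv4 F322039) F103942 (iv4 F205880) F315784 (iv4 F402058) F402059 (iv4 D190291) (iv5 D95815) (iv4 F324997) F103948 (iv4 F210852)
theorem F474095 : act 6 n214228 = n211146 := d10_2 (iv6 F434352) D214228 F460319
theorem F474096 : act 7 n214228 = n206353 := d11_2 (iv7 F247961) D214228 F440374
theorem F474097 : act 0 n214228 = n203273 := d17_0 F427607 (iv1 F381361) (iv5 F379004) F167317 F309113 F190823 D74882 D157429 D214228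
theorem F474098 : act 1 n214228 = n190160 := d18_6 D203799 F429865 (iv1 F205884) (iv4 F210852) F247962 D214228 F379007 F342571 (iv5 F311175)
def n214229 : Q := act 6 n157440
theorem D214229 : act 6 n157440 = n214229 := rfl
theorem F474099 : act 2 n214229 = n210849 := d3_1 D214229 (iv6 F459012) (iv2 F439882)
theorem F474100 : act 3 n214229 = n211119 := d7_1 D214229 (iv6 F460182) F351941
theorem F474101 : act 4 n214229 = n213006 := d10_1 D214229 (iv6 D213006) F247993
theorem F474102 : act 7 n214229 = n210848 := d14_2 F359869 D214229 F459004 F386535 (iv6 F351938)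
theorem F474103 : act 0 n214229 = n210843 := d21_4 (iv5 F341999) F312040 (iv5 F351932) D214229 F458983 F448447 (iv1 F361084) (iv5 F439660) F439661 (iv1 F342002)
theorem F474104 : act 1 n214229 = n210850 := d15_1 (iv0 F474103) (iv7 D210850) (iv2 F458981)
def n214230 : Q := act 5 n157456
theorem D214230 : act 5 n157456 = n214230 := rfl
theorem F474105 : act 2 n214230 = n192071 := d2_1 D214230 F385425 (iv2 F335226)
theorem F474106 : act 3 n214230 = n157457 := d6_1 D214230 (iv5 D157457) D157456
theorem F474107 : act 6 n214230 = n167806 := d12_2 F303431 D214230 (iv5 D167806) F188323 (iv5 F303430)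
theorem F474108 : act 7 n214230 = n201493 := d13_2 (iv7 F248071) D214230 F420709
theorem F474109 : act 0 n214230 = n203260 := d17_2 F386536 D214230 (iv5 F460904) F460903 F431600 F386610 (iv5 D150124) (iv0 F275042) D192349
theorem F474110 : act 4 n214230 = n192133 := d17_4 (iv1 F424836) F424837 F386536 D214230 F407905 (iv0 D198405) D198407 (iv0 F407920) F346677
theorem F474111 : act 0 n212798 = n214230 := d21_10 (iv5 D214230) F248072 (iv5 F404603) (iv6 F472269) (iv1 F472274) (iv6 F439064) F439063 (iv1 F337288) D206151 (iv6 F467568)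
def n214231 : Q := act 3 n157460
theorem D214231 : act 3 n157460 = n214231 := rfl
theorem F474112 : act 2 n214231 = n196388 := d0_1 D214231 (iv3 D196388) F164802 D116820 F344008
theorem F474113 : act 4 n214231 = n193945 := d5_2 D157460 D214231 F391479 F361960 (iv3 F321893)
theorem F474114 : act 5 n214231 = n193205 := d6_2 F360571 D214231 (iv3 D193205)
theorem F474115 : act 7 n214231 = n210900 := d8_2 F350159 D214231 F459209
theorem F474116 : act 0 n214231 = n197638 := d19_4 (iv1 D74907) D74908 D157460 D214231 F405133 F401814 F401617 F331099 (iv5 D108963) (iv4 D50307) F168273 (iv1 F81020) (iv5 F81170) (iv4 F328890) (iv3 F197971) F385214 (iv5 D192015) F335225 (iv3 D157456)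
theorem F474117 : act 0 n196282 = n214231 := d20_4 F461576 F242193 D157636 (iv3 F400191) (iv3 D214231) (iv4 D157460) F314714 (iv4 F314713) F351593 D211449
def n214232 : Q := act 5 n157475
theorem D214232 : act 5 n157475 = n214232 := rfl
theorem F474118 : act 2 n214232 = n202536 := d2_1 D214232 (iv5 F428410) F428407
theorem F474119 : act 3 n214232 = n184303 := d6_1 D214232 (iv5 F373287) F373286
theorem F474120 : act 4 n214232 = n195343 := d9_1 D214232 F396768 (iv4 D143055) (iv5 F340746) F86799 D54857 D119211 F362383 F396771 F396774 (iv4 D143050) F340738 (iv4 F315233) D203438 F428304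
theorem F474121 : act 6 n214232 = n157478 := d12_2 D157475 D214232 (iv5 D157478) (iv6 D74933) D74932
theorem F474122 : act 7 n214232 = n184259 := d13_2 F373277 D214232 (iv5 F373276)
theorem F474123 : act 0 n214232 = n210515 := d17_2 F405700 D214232 (iv5 F457881) (iv4 D201495) (iv5 D114635) (iv0 F316460) D67993 (iv0 F349968) F387681
theorem F474124 : act 1 n214232 = n199581 := d17_6 (iv1 D203462) (iv5 D119204) (iv1 F187358) D203438 F428304 D214232 F420476 F458328 F458326
def n214233 : Q := act 3 n157563
theorem D214233 : act 3 n157563 = n214233 := rfl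
theorem F474125 : act 7 n214233 = n182138 := d8_2 (iv7 F307555) D214233 (iv3 D182138)
def n214234 : Q := act 5 n157586
theorem D214234 : act 5 n157586 = n214234 := rfl
theorem F474126 : act 2 n214234 = n213564 := d2_1 D214234 F471065 (iv2 F449110)
theorem F474127 : act 6 n214234 = n187054 := d12_2 D157586 D214234 (iv5 F389125) F389124 F357287
theorem F474128 : act 7 n214234 = n213565 := d13_2 F449111 D214234 F471069
theorem F474129 : act 0 n214234 = n204376 := d17_2 F388922 D214234 (iv5 D204376) F343518 (iv5 F343515) D207431 (iv5 F444874) (iv0 F429119) F347343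
theorem F474130 : act 1 n214234 = n204375 := d17_6 (iv1 F348668) F348671 F466840 F466836 (iv4 F429184) D214234 (iv5 D204375) (iv0 D123698) (iv4 F198163)
def n214235 : Q := act 7 n157589
theorem D214235 : act 7 n157589 = n214235 := rfl
theorem F474131 : act 2 n214235 = n214191 := d4_1 D214235 F473924 F464771
theorem F474132 : act 3 n214235 = n204674 := d8_1 D214235 F433221 (iv3 F366308)
theorem F474133 : act 4 n214235 = n157590 := d11_1 D214235 (iv7 D157590) D157589
theorem F474134 : act 5 n214235 = n197470 := d13_1 D214235 (iv7 F460357) F460356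
theorem F474135 : act 6 n204673 = n214235 := d12_0 F474134 (iv6 D197470) D197469 (iv6 F404470) D204673
theorem F474136 : act 0 n211519 = n214235 := d17_0 F474134 (iv1 F464765) F464768 (iv4 D194736) F350768 (iv0 F314962) D202991 F426542 (iv4 F461951)
def n214236 : Q := act 6 n157590
theorem D214236 : act 6 n157590 = n214236 := rfl
theorem F474137 : act 2 n214236 = n189590 := d3_1 D214236 (iv6 F469730) F469727
theorem F474138 : act 4 n214236 = n204673 := d10_1 D214236 F474135 F474133
theorem F474139 : act 5 n214236 = n189577 := d12_1 D214236 (iv6 F429633) F429632 F191885 (iv5 F248347)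
theorem F474140 : act 7 n214236 = n157617 := d14_2 D157590 D214236 (iv6 D157617) (iv7 D75031) (iv6 F112550)
theorem F474141 : act 0 n214236 = n193208 := d21_4 F357254 F353680 (iv5 F248347) D214236 (iv6 F389177) F220885 (iv1 F349685) (iv5 F345466) F345467 (iv1 F357279)
theorem F474142 : act 1 n214236 = n193207 := d15_1 (iv0 F474141) (iv7 F460229) F460225
def n214237 : Q := act 6 n157616
theorem D214237 : act 6 n157616 = n214237 := rfl
theorem F474143 : act 2 n214237 = n193206 := d3_1 D214237 (iv6 D193206) (iv2 F360572)
theorem F474144 : act 3 n214237 = n178129 := d7_1 D214237 F349733 (iv3 F359319)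
theorem F474145 : act 4 n214237 = n157617 := d10_1 D214237 (iv6 D157617) (iv4 F248368)
theorem F474146 : act 5 n214237 = n203784 := d12_1 D214237 F429798 (iv5 F359314) F359315 F359318
theorem F474147 : act 7 n214237 = n204673 := d14_2 D157616 D214237 F474135 (iv7 D214235) F248346
def n214238 : Q := act 0 n157617
theorem D214238 : act 0 n157617 = n214238 := rfl
theorem F474148 : act 2 n193207 = n214238 := d15_3 (iv0 D214238) (iv0 F460230) F460229
theorem F474149 : act 1 n189590 = n214238 := d15_0 (iv0 D214238) (iv7 F474140) F474137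
theorem F474150 : act 7 n214238 = n193208 := d15_2 F460231 F474149 (iv2 F460225)
theorem F474151 : act 3 n192119 = n214238 := d8_3 F474150 F389178 (iv7 F385647)
theorem F474152 : act 6 n192153 = n214238 := d14_5 F474150 (iv6 F389177) F218714 (iv6 F360829) (iv7 F385787)
def n214239 : Q := act 4 n157664
theorem D214239 : act 4 n157664 = n214239 := rfl
theorem F474153 : act 2 n214239 = n211099 := d1_1 D214239 F460089 F429197
theorem F474154 : act 3 n214239 = n204341 := d5_1 D214239 F432109 F311805 (iv4 F307395) (iv3 F350969)
theorem F474155 : act 6 n214239 = n209633 := d10_2 (iv6 F350971) D214239 (iv4 D209633)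
theorem F474156 : act 5 n214239 = n191513 := d16_1 D214239 (iv4 D191513) (iv5 D98489) (iv4 F151896) F351944 F243952 D155132 (iv7 F429200) F429197
theorem F474157 : act 0 n214239 = n211258 := d18_2 D157664 D214239 F460840 (iv5 D152605) (iv4 F236154) (iv0 D150076) F107082 F155569 D75114
theorem F474158 : act 1 n214239 = n213136 := d18_6 (iv1 D101607) (iv4 F156074) F350955 (iv4 D161357) (iv5 F350970) D214239 (iv4 D213136) (iv0 F389748) (iv5 D193406)
def n214240 : Q := act 5 n157668
theorem D214240 : act 5 n157668 = n214240 := rfl
theorem F474159 : act 2 n214240 = n204596 := d2_1 D214240 (iv5 D204596) (iv2 F351870)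
theorem F474160 : act 3 n214240 = n177664 := d6_1 D214240 (iv5 F339177) F351869
theorem F474161 : act 6 n214240 = n203392 := d12_2 F351871 D214240 F469533 (iv6 F469534) (iv5 D204314)
theorem F474162 : act 7 n214240 = n192826 := d13_2 F303707 D214240 (iv5 D192826)
theorem F474163 : act 0 n214240 = n204081 := d17_2 F351868 D214240 (iv5 D204081) F351916 (iv5 F257302) (iv0 F350946) (iv5 F383619) F383621 F351873
theorem F474164 : act 1 n214240 = n192069 := d17_6 (iv1 F130754) F87520 (iv1 F344068) F344071 D157668 D214240 F385420 (iv0 D152619) (iv4 D71998)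
def n214241 : Q := act 5 n157669
theorem D214241 : act 5 n157669 = n214241 := rfl
theorem F474165 : act 2 n214241 = n191514 := d2_1 D214241 F383632 F366437
theorem F474166 : act 3 n214241 = n208941 := d6_1 D214241 F462576 (iv3 F462574)
theorem F474167 : act 7 n214241 = n191507 := d13_2 (iv7 F366436) D214241 (iv5 D191507)
theorem F474168 : act 0 n214241 = n191512 := d17_2 D157669 D214241 F383627 F308201 (iv5 F130760) (iv0 F344067) F344071 (iv0 D75116) D75118
theorem F474169 : act 1 n214241 = n191511 := d17_6 D131489 F339376 F350955 (iv5 F467100) F467101 D214241 F383624 (iv0 F210757) F210756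
def n214242 : Q := act 6 n157672
theorem D214242 : act 6 n157672 = n214242 := rfl
theorem F474170 : act 2 n214242 = n209293 := d3_1 D214242 (iv6 D209293) (iv2 F351834)
theorem F474171 : act 3 n214242 = n210144 := d7_1 D214242 (iv6 D210144) (iv3 F351835)
theorem F474172 : act 4 n214242 = n195499 := d10_1 D214242 (iv6 F464801) F464800
theorem F474173 : act 0 n214242 = n209277 := d21_4 (iv5 D98489) F317748 D157672 D214242 (iv6 D209277) (iv5 F360612) (iv1 F349459) D202996 F426575 (iv1 D191512)
theorem F474174 : act 1 n214242 = n209535 := d15_1 (iv0 F474173) F470001 F469996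
def n214243 : Q := act 0 n157698
theorem D214243 : act 0 n157698 = n214243 := rfl
theorem F474175 : act 5 n214243 = n191063 := d17_1 D214243 (iv1 D191063) (iv5 D97192) (iv4 F149943) (iv5 F347934) F347933 (iv5 F229430) F229432 D157698
theorem F474176 : act 4 n214243 = n202931 := d18_1 D214243 (iv1 F427725) F427721 F397355 (iv4 F173031) F173033 (iv4 F174964) D200046 (iv5 F414761)
theorem F474177 : act 3 n214243 = n193635 := d20_5 (iv4 F225134) (iv1 F419540) F419542 F417879 D214243 (iv4 D193635) (iv1 D102043) D102044 D193636 F390529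
theorem F474178 : act 2 n190220 = n214243 := d15_3 (iv0 D214243) (iv0 F472326) F472325
theorem F474179 : act 1 n157703 = n214243 := d15_0 (iv0 D214243) F368751 F368749
theorem F474180 : act 6 n214243 = n190213 := d3_2 D190220 F474178 (iv2 F379097)
def n214244 : Q := act 6 n157728
theorem D214244 : act 6 n157728 = n214244 := rfl
theorem F474181 : act 2 n214244 = n200938 := d3_1 D214244 F418442 (iv2 F248584)
theorem F474182 : act 4 n214244 = n157729 := d10_1 D214244 (iv6 D157729) D157728
theorem F474183 : act 7 n214244 = n196927 := d14_2 (iv7 F248585) D214244 (iv6 D196927) (iv7 F172040) (iv6 F340038)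
theorem F474184 : act 0 n195124 = n214244 := d21_4 (iv5 F94508) (iv1 F82837) (iv5 F161471) (iv6 F395871) (iv6 D214244) F331516 (iv1 D142013) (iv5 F340006) F94476 D60022
theorem F474185 : act 1 n200940 = n214244 := d15_1 F418446 F474183 (iv2 F410873)
def n214245 : Q := act 1 n157731
theorem D214245 : act 1 n157731 = n214245 := rfl
theorem F474186 : act 1 n214245 = n187957 := d15_1 D214245 F398945 (iv2 F248591)
theorem F474187 : act 7 n214245 = n187954 := d15_2 (iv0 F345185) D214245 F371931
theorem F474188 : act 5 n214245 = n197058 := d17_7 F399340 F399100 F417742 F417738 (iv4 F341616) (iv5 F248592) D214245 (iv0 F402854) F399552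
theorem F474189 : act 4 n214245 = n197805 := d17_9 F420021 (iv5 F453377) (iv1 D209356) F366020 F237970 F107776 D106693 (iv5 F248592) D214245
theorem F474190 : act 3 n204631 = n214245 := d19_19 (iv1 D214245) F248592 F341616 F341614 D132128 F363064 F177489 (iv3 F177488) F326350 (iv5 F217584) F209679 (iv3 D130736) (iv1 D61338) (iv5 F95486) (iv4 F317133) F317132 F313751 D124089 D204631
theorem F474191 : act 6 n197804 = n214245 := d21_3 (iv5 F104748) D146180 (iv5 F405842) (iv1 D214245) (iv6 D157731) F325420 (iv1 F325416) (iv5 F178915) F178988 (iv1 D71285)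
theorem F474192 : act 2 n214245 = n187958 := d3_1 F474191 F371948 (iv2 F405841)
def n214246 : Q := act 5 n157738
theorem D214246 : act 5 n157738 = n214246 := rfl
theorem F474193 : act 2 n214246 = n201447 := d2_1 D214246 (iv5 D201447) (iv2 F376983)
theorem F474194 : act 3 n214246 = n188006 := d6_1 D214246 (iv5 D188006) (iv3 F376984)
theorem F474195 : act 7 n214246 = n201448 := d13_2 (iv7 F376986) D214246 (iv5 D201448)
def n214247 : Q := act 5 n157745
theorem D214247 : act 5 n157745 = n214247 := rfl
theorem F474196 : act 2 n214247 = n189427 := d2_1 D214247 F376587 F388626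
theorem F474197 : act 3 n214247 = n194186 := d6_1 D214247 (iv5 F468099) (iv3 F468104)
theorem F474198 : act 4 n214247 = n206410 := d9_1 D214247 (iv5 D206410) (iv4 F365012) (iv5 F364954) D208065 F447721 F388623 (iv5 F443818) F443816 (iv5 D206413) (iv4 F340029) F351307 (iv4 F397743) (iv5 F420184) F420185
theorem F474199 : act 6 n214247 = n212006 := d12_2 (iv6 F396046) D214247 F463893 (iv6 D195164) D195163
theorem F474200 : act 7 n214247 = n189428 := d13_2 F388628 D214247 (iv5 F376588)
theorem F474201 : act 0 n214247 = n189429 := d17_2 D157745 D214247 (iv5 F420223) F420222 F401666 F245633 F351306 (iv0 D134860) (iv4 F331543)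
theorem F474202 : act 1 n214247 = n189424 := d17_6 F410883 F410882 (iv1 F402556) (iv5 F420184) F420185 D214247 (iv5 F457506) F457508 F447972
def n214248 : Q := act 6 n157746
theorem D214248 : act 6 n157746 = n214248 := rfl
theorem F474203 : act 2 n214248 = n197815 := d3_1 D214248 (iv6 F419088) (iv2 F388627)
theorem F474204 : act 3 n214248 = n209028 := d7_1 D214248 F451910 (iv3 F420663)
theorem F474205 : act 4 n214248 = n211883 := d10_1 D214248 F463395 F388623
theorem F474206 : act 5 n214248 = n209020 := d12_1 D214248 F451879 (iv5 D207211) D207212 F443818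
theorem F474207 : act 7 n214248 = n197814 := d14_2 (iv7 F388624) D214248 (iv6 F405874) F365727 (iv6 F178599)
theorem F474208 : act 0 n214248 = n197804 := d21_10 F405842 (iv1 F418716) F418713 (iv6 F205658) (iv1 F205659) D201371 F420223 F443819 F443818 D214248
theorem F474209 : act 0 n187540 = n214248 := d21_4 F157813 F345196 (iv5 F345187) D187540 (iv6 D214248) (iv5 F443818) (iv1 F443820) (iv5 F457506) F457504 F235272
def n214249 : Q := act 4 n157777
theorem D214249 : act 4 n157777 = n214249 := rfl
theorem F474210 : act 2 n214249 = n205673 := d1_1 D214249 F437419 F399320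
theorem F474211 : act 3 n214249 = n182060 := d5_1 D214249 (iv4 D182060) F133457 (iv4 F294526) (iv3 F248672)
theorem F474212 : act 5 n214249 = n205754 := d9_2 D157777 D214249 F437716 F251518 F165963 F343665 F202092 F343667 (iv4 F203419) F343669 F233570 F106098 F80544 (iv5 F99177) (iv4 F330371)
theorem F474213 : act 6 n214249 = n205756 := d10_2 (iv6 F362858) D214249 F437721
theorem F474214 : act 7 n214249 = n205670 := d11_2 F280631 D214249 F437414
theorem F474215 : act 0 n214249 = n205672 := d17_0 F443169 F453275 (iv5 D209332) F219389 (iv5 F362766) F327441 D190790 F381085 D214249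
theorem F474216 : act 1 n214249 = n205671 := d18_6 (iv1 F207316) (iv4 F362861) (iv1 D135696) (iv4 F330371) D157777 D214249 (iv4 F442835) F441773 F399982
def n214250 : Q := act 3 n157786
theorem D214250 : act 3 n157786 = n214250 := rfl
theorem F474217 : act 2 n214250 = n199743 := d0_1 D214250 F413336 F201959 (iv3 F341939) F363216
theorem F474218 : act 4 n214250 = n199739 := d5_2 F270248 D214250 F413322 (iv4 D172097) D172096
theorem F474219 : act 5 n214250 = n196229 := d6_2 (iv5 F400091) D214250 F422233
theorem F474220 : act 6 n214250 = n200695 := d7_2 F377861 D214250 F417532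
theorem F474221 : act 7 n214250 = n189816 := d8_2 (iv7 F363217) D214250 (iv3 D189816)
theorem F474222 : act 0 n214250 = n199742 := d20_10 (iv4 F413334) (iv1 F253424) (iv4 F267340) (iv3 F377831) (iv1 F377836) (iv3 F395231) F395232 F362563 F270248 D214250
theorem F474223 : act 0 n199741 = n214250 := d20_4 (iv4 F405642) (iv1 F460205) F460204 F413332 (iv3 D214250) (iv4 F270248) (iv1 F435911) (iv4 F464645) F464644 F417522
theorem F474224 : act 5 n200887 = n199741 := d21_0 F474223 F474219 (iv6 F441317) (iv1 F443394) F443392 (iv5 D130307) (iv1 F359788) (iv5 F364797) (iv6 F332785) D200887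
theorem F474225 : act 6 n205585 = n200887 := d21_5 (iv5 D207115) D207113 (iv5 F445078) F445079 F437108 F474224 F474223 F474219 (iv6 F441317) (iv1 F443394)
theorem F474226 : act 3 n200887 = n182766 := d7_1 F474225 (iv6 F358302) D205585
def n214251 : Q := act 5 n157809
theorem D214251 : act 5 n157809 = n214251 := rfl
theorem F474227 : act 3 n214251 = n194499 := d6_1 D214251 (iv5 F441345) (iv3 F441329)
def n214252 : Q := act 1 n157826
theorem D214252 : act 1 n157826 = n214252 := rfl
theorem F474228 : act 1 n214252 = n157844 := d15_1 D214252 (iv7 F384180) F384178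
theorem F474229 : act 7 n214252 = n186703 := d15_2 F354676 D214252 F367730
theorem F474230 : act 5 n214252 = n180364 := d17_7 (iv1 D39874) (iv5 F30119) D39900 (iv5 F248725) D75190 D157826 D214252 F280684 (iv4 D86149)
theorem F474231 : act 4 n214252 = n186706 := d17_9 (iv1 F367746) D191601 (iv1 F449418) (iv5 D208453) (iv4 F364569) (iv5 D180672) (iv0 F132261) D157826 D214252
theorem F474232 : act 2 n191597 = n214252 := d1_3 F474231 F367744 (iv4 F383922)
theorem F474233 : act 6 n191621 = n214252 := d10_0 F474231 F367745 (iv4 F383978)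
theorem F474234 : act 3 n206653 = n214252 := d20_5 (iv4 F332786) (iv1 F98286) (iv4 F206969) (iv3 F381090) (iv1 F441751) F474231 (iv1 F367746) F354671 F95153 (iv1 F332768)
def n214253 : Q := act 5 n157827
theorem D214253 : act 5 n157827 = n214253 := rfl
theorem F474235 : act 2 n214253 = n177333 := d2_1 D214253 (iv5 F346595) F355912
theorem F474236 : act 3 n214253 = n206619 := d6_1 D214253 F441607 F430124
theorem F474237 : act 4 n214253 = n177509 := d9_1 D214253 (iv5 F333801) (iv4 F456317) F456316 (iv4 D174768) (iv5 F333785) (iv4 F270723) F355907 (iv4 D162802) D162803 (iv4 F454256) F454257 (iv4 D174764) (iv5 F329144) (iv4 F248709)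
theorem F474238 : act 6 n214253 = n206618 := d12_2 D157827 D214253 F441602 (iv6 F418058) (iv5 D157826)
theorem F474239 : act 7 n214253 = n196642 := d13_2 (iv7 F355913) D214253 (iv5 F401305)
theorem F474240 : act 0 n214253 = n172506 := d17_2 F355890 D214253 (iv5 F435893) (iv4 F466203) F466202 F334398 F328022 D163698 F355888
theorem F474241 : act 1 n214253 = n196643 := d17_6 (iv1 D160493) F316549 D83496 (iv5 F329144) (iv4 F248709) D214253 (iv5 F440716) F440719 (iv4 F342117)
def n214254 : Q := act 6 n157840
theorem D214254 : act 6 n157840 = n214254 := rfl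
theorem F474242 : act 2 n214254 = n157842 := d3_1 D214254 (iv6 D157842) D157840
theorem F474243 : act 3 n214254 = n158444 := d7_1 D214254 F346953 F256611
theorem F474244 : act 4 n214254 = n205047 := d10_1 D214254 (iv6 F434856) F256579
theorem F474245 : act 5 n214254 = n173402 := d12_1 D214254 (iv6 D173402) (iv5 F333743) F358668 (iv5 F256538)
theorem F474246 : act 7 n214254 = n191392 := d14_2 F262231 D214254 (iv6 F430117) F430118 F428769
theorem F474247 : act 0 n214254 = n158142 := d21_4 F257781 (iv1 F254181) (iv5 F256538) D214254 F249095 (iv5 D101604) (iv1 F308154) F307033 F342068 (iv1 F258468)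
theorem F474248 : act 0 n172552 = n214254 := d21_4 F406376 (iv1 D119366) D119368 (iv6 F363229) (iv6 D214254) F256538 (iv1 D160971) F254070 (iv6 F352229) (iv1 F406374)
def n214255 : Q := act 5 n157841
theorem D214255 : act 5 n157841 = n214255 := rfl
theorem F474249 : act 2 n214255 = n205066 := d2_1 D214255 (iv5 D205066) (iv2 F256578)
theorem F474250 : act 3 n214255 = n199748 := d6_1 D214255 (iv5 D199748) (iv3 F364839)
theorem F474251 : act 7 n214255 = n205064 := d13_2 (iv7 F256575) D214255 (iv5 D205064)
theorem F474252 : act 0 n214255 = n180689 := d17_2 F248719 D214255 (iv5 D180689) (iv4 D86309) (iv5 D39933) F55017 F55013 F55910 D76982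
theorem F474253 : act 1 n214255 = n180648 := d17_6 (iv1 D163499) F250800 (iv1 F254228) (iv5 F248720) D157841 D214255 (iv5 D180648) D180646 F281179
def n214256 : Q := act 6 n157841
theorem D214256 : act 6 n157841 = n214256 := rfl
theorem F474254 : act 2 n214256 = n205047 := d3_1 D214256 (iv6 F434856) (iv2 F256578)
theorem F474255 : act 3 n214256 = n199749 := d7_1 D214256 (iv6 D199749) (iv3 F364839)
theorem F474256 : act 4 n214256 = n157842 := d10_1 D214256 (iv6 D157842) D157841
theorem F474257 : act 7 n214256 = n191393 := d14_2 (iv7 F256575) D214256 (iv6 F411325) F434851 (iv6 D205065)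
theorem F474258 : act 0 n214256 = n205041 := d21_4 D180648 (iv1 F474253) (iv5 D214255) D214256 F434744 (iv5 D144311) D144308 (iv5 F400831) (iv6 F400833) (iv1 D180646)
theorem F474259 : act 1 n214256 = n205039 := d15_1 (iv0 F474258) F434736 (iv2 F434743)
theorem F474260 : act 5 n212567 = n214256 := d13_3 F474257 F467794 F467793
def n214257 : Q := act 6 n157843
theorem D214257 : act 6 n157843 = n214257 := rfl
theorem F474261 : act 2 n214257 = n200628 := d3_1 D214257 F417277 (iv2 F377823)
theorem F474262 : act 3 n214257 = n157845 := d7_1 D214257 (iv6 D157845) D157843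
theorem F474263 : act 4 n214257 = n199749 := d10_1 D214257 (iv6 D199749) F364838
theorem F474264 : act 5 n214257 = n195041 := d12_1 D214257 (iv6 D195041) (iv5 F176589) D200736 (iv5 F417712)
theorem F474265 : act 7 n214257 = n172536 := d14_2 (iv7 F377817) D214257 F355914 F299623 F377816
theorem F474266 : act 0 n166082 = n214257 := d21_4 F459557 (iv1 F395419) F354342 (iv6 F261492) (iv6 D214257) F417712 F463892 F463890 F377797 F459558
def n214258 : Q := act 4 n157854
theorem D214258 : act 4 n157854 = n214258 := rfl
theorem F474267 : act 2 n214258 = n160894 := d1_1 D214258 F254054 F262395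
theorem F474268 : act 6 n214258 = n189919 := d10_2 F387535 D214258 (iv4 F387536)
theorem F474269 : act 7 n214258 = n170866 := d11_2 F262397 D214258 (iv4 D170866)
theorem F474270 : act 3 n214258 = n198705 := d20_3 F248763 D157854 D214258 F409000 (iv3 D109903) F169876 (iv1 F202923) (iv4 F244995) (iv3 F472312) (iv1 F472315)
theorem F474271 : act 0 n174237 = n214258 := d20_10 (iv4 D214258) (iv1 F248769) (iv4 F268327) (iv3 F395272) (iv1 F429953) (iv3 F429955) F394837 (iv1 F160678) (iv4 F362522) F362521
def n214259 : Q := act 6 n157855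
theorem D214259 : act 6 n157855 = n214259 := rfl
theorem F474272 : act 2 n214259 = n170868 := d3_1 D214259 (iv6 D170868) (iv2 F262396)
theorem F474273 : act 3 n214259 = n204847 := d7_1 D214259 (iv6 F433829) (iv3 F281433)
theorem F474274 : act 4 n214259 = n209924 := d10_1 D214259 F455376 F262393
theorem F474275 : act 7 n214259 = n204831 := d14_2 (iv7 F262394) D214259 F433751 F406741 (iv6 D170871)
theorem F474276 : act 0 n214259 = n178088 := d21_10 (iv5 F394591) (iv1 D107389) D107390 F165437 D195893 (iv6 F398625) F376981 F469082 F469081 D214259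
theorem F474277 : act 0 n196845 = n214259 := d21_4 (iv5 F433491) (iv1 F433497) F433495 F402032 (iv6 D214259) (iv5 F469081) F469083 (iv5 D157891) (iv6 F297994) D163938
def n214260 : Q := act 5 n157856
theorem D214260 : act 5 n157856 = n214260 := rfl
theorem F474278 : act 2 n214260 = n157857 := d2_1 D214260 (iv5 D157857) D157856
theorem F474279 : act 3 n214260 = n189103 := d6_1 D214260 F375760 F248782
theorem F474280 : act 6 n214260 = n197870 := d12_2 F430780 D214260 (iv5 D197870) (iv6 F365527) (iv5 F430779)
theorem F474281 : act 7 n214260 = n170872 := d13_2 (iv7 F248770) D214260 (iv5 D170872)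
theorem F474282 : act 4 n214260 = n191345 := d17_4 F401162 (iv5 D170867) (iv1 F248771) D214260 (iv5 F383137) F374346 F143193 F370801 F370800
theorem F474283 : act 0 n214260 = n170874 := d21_1 D214260 (iv5 F431914) (iv6 F412455) (iv1 F414263) F414260 D204826 F433733 F401156 (iv6 D170868) (iv1 F248771)
theorem F474284 : act 0 n170873 = n214260 := d21_7 F431798 F250002 (iv5 F346346) F304612 D178114 F378078 (iv5 F406487) (iv5 D214260) (iv6 F430780) (iv1 F431796)
def n214261 : Q := act 0 n157857
theorem D214261 : act 0 n157857 = n214261 := rfl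
theorem F474285 : act 3 n214261 = n214176 := d20_5 F112755 F341308 (iv4 F341316) (iv3 F248774) D214261 F473863 F467931 F421575 F224983 (iv1 F341309)
theorem F474286 : act 6 n214261 = n187889 := d21_5 (iv5 D197868) (iv1 D108740) D108742 F353303 D214261 (iv5 F375383) F468612 F468609 F450982 F450228
theorem F474287 : act 1 n170872 = n214261 := d15_0 (iv0 D214261) F248775 (iv2 F268481)
theorem F474288 : act 2 n170874 = n214261 := d3_3 F474286 (iv2 F376857) (iv6 F431915)
theorem F474289 : act 5 n180382 = n214261 := d21_2 (iv5 D180385) D180382 F474286 (iv1 D187889) (iv6 D90639) D90638 F293911 (iv5 F291187) F354717 F354683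
theorem F474290 : act 7 n214261 = n170873 := d13_2 (iv7 F280827) F474289 F406487
def n214262 : Q := act 1 n157857
theorem D214262 : act 1 n157857 = n214262 := rfl
theorem F474291 : act 1 n214262 = n170872 := d15_1 D214262 (iv7 F474281) F474278
theorem F474292 : act 7 n214262 = n170874 := d15_2 (iv0 D214261) D214262 F474288
theorem F474293 : act 5 n180383 = n214262 := d21_6 F430769 (iv1 F412967) (iv5 F431779) F431780 (iv1 F378275) F378073 (iv1 D214262) (iv5 D157857) (iv6 F195833) D203997
theorem F474294 : act 2 n214262 = n170873 := d2_1 F474293 F406487 (iv2 F280825)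
def n214263 : Q := act 3 n157859
theorem D214263 : act 3 n157859 = n214263 := rfl
theorem F474295 : act 4 n214263 = n164084 := d5_2 F417135 D214263 F455818 (iv4 F455816) F441196
theorem F474296 : act 6 n214263 = n205130 := d7_2 (iv6 F441616) D214263 F441615
theorem F474297 : act 7 n214263 = n194154 := d8_2 F399477 D214263 (iv3 F392199)
theorem F474298 : act 2 n194149 = n214263 := d3_3 F474296 F435083 (iv6 F435086)
def n214264 : Q := act 3 n157860
theorem D214264 : act 3 n157860 = n214264 := rfl
theorem F474299 : act 6 n214264 = n204703 := d7_2 (iv6 F433305) D214264 (iv3 D204703)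
theorem F474300 : act 0 n199007 = n214264 := d20_4 (iv4 D110454) F168003 (iv4 F171654) (iv3 F410295) (iv3 D214264) F399375 F399376 F176468 F172892 (iv1 F170839)
theorem F474301 : act 5 n214264 = n187996 := d21_0 (iv1 D187996) D187997 F372052 (iv1 F168592) F378714 D111610 F395002 (iv5 F171651) D199007 F474300
def n214265 : Q := act 5 n157860
theorem D214265 : act 5 n157860 = n214265 := rfl
theorem F474302 : act 2 n214265 = n194667 := d2_1 D214265 (iv5 F395379) F399471
theorem F474303 : act 3 n214265 = n187996 := d6_1 D214265 (iv5 F474301) (iv3 D214264)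
theorem F474304 : act 4 n214265 = n194719 := d9_1 D214265 (iv5 F449501) F449498 F436058 (iv4 F436057) (iv5 F436056) F417135 (iv5 F456894) (iv4 D210294) (iv5 D138156) D138155 F395402 (iv4 F399369) D196093 (iv4 F399375)
theorem F474305 : act 7 n214265 = n194668 := d13_2 (iv7 F399474) D214265 F394056
theorem F474306 : act 0 n214265 = n170838 := d17_2 (iv1 F268413) D214265 (iv5 D170838) (iv4 F148280) F148281 D182510 (iv5 F395389) F380704 F380700
theorem F474307 : act 1 n214265 = n192229 := d17_6 (iv1 F436038) F436035 (iv1 D196092) D196093 (iv4 F399375) D214265 (iv5 F386112) F281399 (iv4 F364837)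
def n214266 : Q := act 3 n157865
theorem D214266 : act 3 n157865 = n214266 := rfl
theorem F474308 : act 2 n214266 = n197760 := d0_1 D214266 F405659 F168548 (iv3 F169008) F327464
theorem F474309 : act 4 n214266 = n205351 := d5_2 F378140 D214266 F436034 F430017 (iv3 F378137)
theorem F474310 : act 6 n214266 = n198105 := d7_2 (iv6 F433743) D214266 F433741
theorem F474311 : act 7 n214266 = n197754 := d8_2 F327613 D214266 F405641
theorem F474312 : act 0 n214266 = n197758 := d20_10 F405652 (iv1 F380478) F380474 F268435 F132341 D180787 F281415 F378141 F378140 D214266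
theorem F474313 : act 5 n184584 = n214266 := d17_1 F394049 F474312 F412666 F412664 (iv5 D182777) (iv0 D87246) (iv5 F75625) D103987 D194675
theorem F474314 : act 1 n214266 = n197757 := d15_1 (iv0 F474312) F412914 F412912
def n214267 : Q := act 5 n157865
theorem D214267 : act 5 n157865 = n214267 := rfl
theorem F474315 : act 2 n214267 = n187586 := d2_1 D214267 F370905 F327464
theorem F474316 : act 3 n214267 = n184584 := d6_1 D214267 F474313 (iv3 D214266)
theorem F474317 : act 4 n214267 = n187583 := d9_1 D214267 (iv5 D187583) F328550 (iv5 D64780) (iv4 F93953) (iv5 F330503) F168978 (iv5 F327615) (iv4 D91127) (iv5 D42673) (iv4 F33435) D44565 D95420 D189893 F378140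
theorem F474318 : act 7 n214267 = n188254 := d13_2 F327613 D214267 F372857
theorem F474319 : act 0 n214267 = n163970 := d17_2 F327604 D214267 (iv5 D163970) F119941 F323610 (iv0 F336499) (iv5 F429915) F429913 (iv4 F327607)
theorem F474320 : act 1 n214267 = n188264 := d17_6 (iv1 D166749) (iv5 F344354) (iv1 F344352) D189893 F378140 D214267 F372889 (iv0 F301258) F301260
theorem F474321 : act 6 n214267 = n184582 := d21_3 (iv5 F333848) F327604 D214267 F459448 (iv6 D208833) (iv5 F451047) (iv1 F451048) F411975 (iv6 D188312) F363799
def n214268 : Q := act 2 n157869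
theorem D214268 : act 2 n157869 = n214268 := rfl
theorem F474322 : act 4 n214268 = n181701 := d1_2 (iv4 F248790) D214268 (iv2 D181701)
theorem F474323 : act 6 n214268 = n205220 := d3_2 F409185 D214268 F435488
theorem F474324 : act 1 n214268 = n205240 := d15_0 F435571 F254511 D214268
theorem F474325 : act 1 n205239 = n214268 := d15_0 F474324 F435570 (iv2 F435562)
def n214269 : Q := act 6 n157874
theorem D214269 : act 6 n157874 = n214269 := rfl
theorem F474326 : act 3 n214269 = n157876 := d7_1 D214269 (iv6 D157876) (iv3 F248793)
theorem F474327 : act 4 n214269 = n183019 := d10_1 D214269 (iv6 D183019) (iv4 F333854)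
theorem F474328 : act 0 n214269 = n198325 := d21_4 F375751 (iv1 D157872) D157874 D214269 (iv6 D198325) F404829 (iv1 F180086) D202443 F424019 (iv1 F375753)
theorem F474329 : act 1 n214269 = n208830 := d15_1 (iv0 F474328) F451036 F449923
def n214270 : Q := act 5 n157876
theorem D214270 : act 5 n157876 = n214270 := rfl
theorem F474330 : act 2 n214270 = n198130 := d2_1 D214270 F406951 F280717
theorem F474331 : act 6 n214270 = n157879 := d12_2 D157876 D214270 (iv5 D157879) (iv6 D75211) D75210
theorem F474332 : act 7 n214270 = n198131 := d13_2 F449970 D214270 (iv5 F449966)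
theorem F474333 : act 4 n214270 = n213346 := d16_2 F363341 D214270 (iv5 F470030) F463569 (iv5 F461398) (iv4 D211396) F363351 (iv7 F363346) (iv2 F363339)
theorem F474334 : act 0 n214270 = n198133 := d17_2 (iv1 F449980) D214270 F406955 (iv4 F400348) F406224 (iv0 D163974) (iv5 F343787) F405487 (iv4 F449978)
theorem F474335 : act 1 n214270 = n197745 := d17_6 (iv1 D66538) D66539 D141946 (iv5 F363342) F363341 D214270 (iv5 D197745) (iv0 F405619) (iv4 D141943)
def n214271 : Q := act 3 n157878
theorem D214271 : act 3 n157878 = n214271 := rfl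
theorem F474336 : act 4 n214271 = n203877 := d5_2 F326638 D214271 (iv3 D203877) (iv4 D121151) (iv3 F326637)
theorem F474337 : act 5 n214271 = n196469 := d6_2 F454547 D214271 (iv3 F454546)
theorem F474338 : act 6 n214271 = n204817 := d7_2 (iv6 F250607) D214271 (iv3 D204817)
theorem F474339 : act 7 n214271 = n203899 := d8_2 F300519 D214271 (iv3 D203899)
theorem F474340 : act 0 n214271 = n196483 := d19_4 (iv1 F80216) D110306 F326638 D214271 F400799 F389340 F156249 D101426 D193274 (iv4 F389375) F389368 (iv1 F384962) (iv5 F387503) (iv4 F400687) (iv3 D196442) (iv1 D106988) D106990 F330462 (iv3 F80199)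
theorem F474341 : act 0 n197943 = n214271 := d20_4 F412703 F222461 F176738 (iv3 F406255) (iv3 D214271) (iv4 F326638) F326634 (iv4 F132126) (iv3 F326776) D199569
theorem F474342 : act 0 n204733 = n197942 := d21_1 D204733 (iv5 D197942) D197943 F474341 F474338 F433692 F408874 F408809 (iv6 F408810) (iv1 F253438)
def n214272 : Q := act 4 n157879
theorem D214272 : act 4 n157879 = n214272 := rfl
theorem F474343 : act 3 n214272 = n197257 := d5_1 D214272 (iv4 F457055) (iv3 D210330) D210331 F457063
theorem F474344 : act 6 n214272 = n213346 := d10_2 F474331 D214272 (iv4 F474333)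
theorem F474345 : act 7 n214272 = n203900 := d11_2 (iv7 F366946) D214272 (iv4 D203900)
theorem F474346 : act 1 n214272 = n197292 := d18_6 (iv1 F299718) (iv4 D78876) F117434 (iv4 F112761) D157879 D214272 F403867 F398582 F358806
def n214273 : Q := act 0 n157882
theorem D214273 : act 0 n157882 = n214273 := rfl
theorem F474347 : act 3 n214273 = n194942 := d20_5 F56436 F54906 D75215 D157882 D214273 F395115 (iv1 D163423) (iv4 F193183) (iv3 D121135) F88431
theorem F474348 : act 6 n214273 = n194940 := d21_5 (iv5 F390834) (iv1 D188511) F142018 (iv6 F296211) D214273 F395103 F380926 F380924 F270226 (iv1 F248920)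
def n214274 : Q := act 2 n157882
theorem D214274 : act 2 n157882 = n214274 := rfl
theorem F474349 : act 3 n214274 = n188479 := d0_2 D157882 D214274 F373628 F141774 (iv2 F296006)
theorem F474350 : act 4 n214274 = n157890 := d1_2 (iv4 F248799) D214274 (iv2 D157890)
theorem F474351 : act 6 n214274 = n158033 := d3_2 (iv6 F296211) D214274 (iv2 D158033)
def n214275 : Q := act 5 n157882
theorem D214275 : act 5 n157882 = n214275 := rfl
theorem F474352 : act 3 n214275 = n157883 := d6_1 D214275 (iv5 D157883) D157882
def n214276 : Q := act 5 n157890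
theorem D214276 : act 5 n157890 = n214276 := rfl
theorem F474353 : act 2 n214276 = n157891 := d2_1 D214276 (iv5 D157891) D157890
theorem F474354 : act 3 n214276 = n183029 := d6_1 D214276 (iv5 F333851) F301269
theorem F474355 : act 7 n214276 = n188000 := d13_2 F280710 D214276 (iv5 F376981)
theorem F474356 : act 0 n170867 = n214276 := d21_1 D170867 (iv5 D214276) F366928 (iv1 F430248) (iv6 F459632) (iv5 D210986) (iv1 D140443) (iv5 F341279) F126228 D81913
theorem F474357 : act 4 n214276 = n187558 := d18_1 F474356 (iv1 D187558) (iv4 F370798) F370799 (iv4 F244991) (iv0 F433803) F433801 F248771 D170867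
theorem F474358 : act 1 n170870 = n214276 := d15_0 (iv0 F474356) F372141 F372137
def n214277 : Q := act 5 n157899
theorem D214277 : act 5 n157899 = n214277 := rfl
theorem F474359 : act 2 n214277 = n211389 := d2_1 D214277 (iv5 F461374) (iv2 F363806)
theorem F474360 : act 3 n214277 = n183049 := d6_1 D214277 (iv5 F348604) F304021
theorem F474361 : act 7 n214277 = n183047 := d13_2 (iv7 F363804) D214277 F363803
theorem F474362 : act 4 n214277 = n183162 := d17_4 F360112 (iv5 D157902) D157899 D214277 F284758 (iv0 F420094) (iv5 D201348) (iv0 D114350) (iv4 F178320)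
theorem F474363 : act 0 n214277 = n211388 := d21_1 D214277 F461371 (iv6 F463472) (iv1 D211895) (iv6 D144322) (iv5 D67620) (iv1 F77629) (iv5 F92853) (iv6 F337384) D157899
theorem F474364 : act 6 n214277 = n208806 := d21_3 (iv5 D157902) D157899 D214277 F450961 F398957 F163745 F107774 (iv5 F83363) D114349 F360112
theorem F474365 : act 0 n157931 = n214277 := d21_1 (iv5 F248827) (iv5 D214277) F410543 (iv1 D111361) (iv6 F351068) (iv5 F172332) (iv1 F247365) D196578 F401130 (iv1 D180781)
def n214278 : Q := act 3 n157900
theorem D214278 : act 3 n157900 = n214278 := rfl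
theorem F474366 : act 0 n194154 = n214278 := d20_4 (iv4 F82659) D113266 F334363 F392199 (iv3 D214278) F400823 (iv1 D196491) F164973 (iv3 F354463) (iv1 D111407)
theorem F474367 : act 1 n194149 = n214278 := d15_0 (iv0 F474366) (iv7 F474297) (iv2 F474298)
def n214279 : Q := act 1 n157918
theorem D214279 : act 1 n157918 = n214279 := rfl
theorem F474368 : act 7 n214279 = n205192 := d15_2 (iv0 F364551) D214279 F435355
theorem F474369 : act 4 n214279 = n205231 := d17_9 (iv1 F435537) F358326 F380445 F380444 (iv4 F365123) F365127 D213459 F470498 D214279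
theorem F474370 : act 6 n211038 = n214279 := d21_9 (iv5 F470498) (iv1 D213459) (iv5 F365127) (iv6 F365126) D213461 (iv6 F470509) (iv5 D212854) (iv1 F353409) (iv5 F459838) (iv1 D214279)
theorem F474371 : act 2 n214279 = n199568 := d3_1 F474370 F412699 (iv2 F459841)
theorem F474372 : act 5 n214279 = n214130 := d12_1 F474370 (iv6 D214130) (iv5 D156579) D156580 (iv5 F459838)
theorem F474373 : act 0 n205193 = n214279 := d21_1 F470488 F474372 (iv6 D214130) (iv1 F246245) (iv6 F345112) (iv5 D153513) (iv1 F109090) (iv5 F109236) D153789 D213458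
theorem F474374 : act 6 n214087 = n213458 := d21_5 F245792 (iv1 D74353) D74355 D156325 D214087 F470488 F474373 F474372 (iv6 D214130) (iv1 F246245)
theorem F474375 : act 3 n209457 = n214087 := d7_3 F474374 F470489 (iv6 F453779)
def n214280 : Q := act 2 n157918
theorem D214280 : act 2 n157918 = n214280 := rfl
theorem F474376 : act 4 n214280 = n161007 := d1_2 (iv4 F282832) D214280 (iv2 F282835)
theorem F474377 : act 5 n214280 = n198259 := d2_2 F470498 D214280 F470499
theorem F474378 : act 7 n214280 = n205193 := d4_2 F280773 D214280 (iv2 F435359)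
theorem F474379 : act 1 n214280 = n199568 := d15_0 (iv0 F412701) F280773 D214280
theorem F474380 : act 1 n205192 = n214280 := d15_0 F474379 F412700 (iv2 F435355)
def n214281 : Q := act 6 n157918
theorem D214281 : act 6 n157918 = n214281 := rfl
theorem F474381 : act 3 n214281 = n157921 := d7_1 D214281 (iv6 D157921) D157918
theorem F474382 : act 0 n214281 = n206460 := d21_4 (iv5 F372039) (iv1 F470494) F470498 D214281 F440927 F406043 (iv1 F345581) (iv5 F412170) (iv6 F412171) (iv1 D198246)
theorem F474383 : act 0 n206461 = n214281 := d21_4 F470503 (iv1 F347185) D202690 (iv6 F440930) (iv6 D214281) (iv5 F470498) (iv1 D213459) (iv5 F365127) (iv6 F365126) D213461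
def n214282 : Q := act 6 n157920
theorem D214282 : act 6 n157920 = n214282 := rfl
theorem F474384 : act 2 n214282 = n210922 := d3_1 D214282 (iv6 F459300) F262466
theorem F474385 : act 4 n214282 = n199080 := d10_1 D214282 F410567 (iv4 F354685)
theorem F474386 : act 5 n214282 = n213315 := d12_1 D214282 (iv6 F469875) F457200 (iv6 D157921) D157920
theorem F474387 : act 0 n214282 = n210917 := d21_4 (iv5 D75232) D75229 D157920 D214282 (iv6 D210917) (iv5 D140364) (iv1 F164689) F224847 (iv6 F350367) (iv1 D157928)
theorem F474388 : act 1 n214282 = n210924 := d15_1 (iv0 F474387) (iv7 D210924) (iv2 F459275)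
theorem F474389 : act 7 n210921 = n214282 := d13_0 F474386 F469872 (iv5 F461514)
def n214283 : Q := act 5 n157923
theorem D214283 : act 5 n157923 = n214283 := rfl
theorem F474390 : act 2 n214283 = n188263 := d2_1 D214283 (iv5 F451394) F451397
theorem F474391 : act 3 n214283 = n157924 := d6_1 D214283 (iv5 D157924) D157923
theorem F474392 : act 7 n214283 = n188260 := d13_2 F262465 D214283 F372884
theorem F474393 : act 4 n214283 = n187584 := d16_2 F258185 D214283 F370894 F294777 F344342 (iv4 F344346) (iv5 F347058) (iv7 F334666) (iv2 F362658)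
theorem F474394 : act 1 n214283 = n188464 := d17_8 (iv1 F333859) (iv5 D183004) (iv1 D87364) D87365 D183008 (iv5 F348605) F304019 D214283 (iv4 D188464)
def n214284 : Q := act 5 n157952
theorem D214284 : act 5 n157952 = n214284 := rfl
theorem F474395 : act 7 n214284 = n192647 := d13_2 (iv7 F280817) D214284 (iv5 F387344)
theorem F474396 : act 4 n214284 = n192648 := d16_6 (iv4 F389594) (iv5 F389596) (iv4 D159322) F250794 (iv4 F248847) D214284 F387346 (iv7 D191569) (iv2 F367714)
theorem F474397 : act 0 n214284 = n180806 := d17_2 D157952 D214284 (iv5 D180806) (iv4 D86357) (iv5 F248743) F92787 (iv5 F60689) F60691 D75239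
theorem F474398 : act 1 n214284 = n180798 := d17_6 (iv1 D121188) (iv5 F254373) F254370 F250794 (iv4 F248847) D214284 (iv5 D180798) D180796 F281431
def n214285 : Q := act 5 n157953
theorem D214285 : act 5 n157953 = n214285 := rfl
theorem F474399 : act 2 n214285 = n192647 := d2_1 D214285 (iv5 F387344) (iv2 F280816)
theorem F474400 : act 3 n214285 = n214262 := d6_1 D214285 (iv5 F474293) (iv3 F280707)
theorem F474401 : act 6 n214285 = n191945 := d12_2 F358932 D214285 F384943 D197572 F404876
theorem F474402 : act 4 n214285 = n191946 := d16_2 F256633 D214285 F384946 (iv4 F389594) (iv5 F389596) (iv4 D159322) F250794 (iv7 F254476) (iv2 F254304)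
theorem F474403 : act 0 n214285 = n180798 := d17_2 (iv1 F248848) D214285 (iv5 D180798) (iv4 D86352) (iv5 F248734) (iv0 D58715) F45084 D34449 D75244
theorem F474404 : act 1 n214285 = n180806 := d17_6 D125444 (iv5 F254403) (iv1 F254407) F254313 F256633 D214285 (iv5 D180806) F254414 (iv4 D125447)
def n214286 : Q := act 6 n157955
theorem D214286 : act 6 n157955 = n214286 := rfl
theorem F474405 : act 0 n214286 = n196747 := d21_4 (iv5 D214285) (iv1 D157953) D157955 D214286 F401673 F388743 (iv1 F388226) D210519 (iv6 F457897) (iv1 F474404)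
def n214287 : Q := act 5 n157974
theorem D214287 : act 5 n157974 = n214287 := rfl
theorem F474406 : act 3 n214287 = n157975 := d6_1 D214287 (iv5 D157975) D157974
theorem F474407 : act 0 n170852 = n214287 := d21_1 D170852 (iv5 D214287) F364309 (iv1 F406247) (iv6 F406245) (iv5 F394638) (iv1 F407151) (iv5 F407149) (iv6 D198188) F327461
def n214288 : Q := act 6 n157975
theorem D214288 : act 6 n157975 = n214288 := rfl
theorem F474408 : act 0 n192671 = n214288 := d21_4 (iv5 D138448) D138445 F357940 D192671 (iv6 D214288) (iv5 D157975) (iv1 F248848) D214285 F474401 F384944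
def n214289 : Q := act 0 n157976
theorem D214289 : act 0 n157976 = n214289 := rfl
theorem F474409 : act 4 n214289 = n165937 := d18_3 (iv1 D157980) (iv4 F248862) D214289 (iv5 F377699) (iv4 F218478) F351703 F342175 F208643 (iv5 F336086)
theorem F474410 : act 6 n214289 = n198035 := d21_5 (iv5 F388709) (iv1 F388711) (iv5 D157975) D157976 D214289 F459637 F459638 F406571 F328390 F253663
theorem F474411 : act 2 n197935 = n214289 := d15_3 (iv0 D214289) (iv0 F459452) (iv7 F459454)
theorem F474412 : act 1 n196485 = n214289 := d15_0 (iv0 D214289) (iv7 F444317) F444315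
theorem F474413 : act 7 n214289 = n197869 := d15_2 (iv0 F459453) F474412 (iv2 F459449)
theorem F474414 : act 3 n203887 = n214289 := d8_3 F474413 F433500 F430250
def n214290 : Q := act 5 n157976
theorem D214290 : act 5 n157976 = n214290 := rfl
theorem F474415 : act 2 n214290 = n197937 := d2_1 D214290 (iv5 D197937) F327947
def n214291 : Q := act 0 n158000
theorem D214291 : act 0 n158000 = n214291 := rfl
theorem F474416 : act 5 n214291 = n193492 := d17_3 F455477 F455475 D214291 (iv4 D193492) F346652 (iv0 D137186) (iv5 D64484) D64483 D137183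
theorem F474417 : act 4 n214291 = n198210 := d18_1 D214291 (iv1 F407236) D198224 F407270 F390875 F346632 D137178 (iv0 F455476) F455475
theorem F474418 : act 3 n214291 = n205576 := d20_5 F128174 F296957 D75263 D158000 D214291 (iv4 D205576) (iv1 F332906) F282126 (iv3 D162978) (iv1 F128176)
theorem F474419 : act 2 n198214 = n214291 := d15_3 (iv0 D214291) (iv0 F365964) D198214
theorem F474420 : act 1 n198213 = n214291 := d15_0 (iv0 D214291) (iv7 F366913) (iv2 F407248)
theorem F474421 : act 7 n214291 = n193611 := d15_2 D198213 F474420 F390450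
theorem F474422 : act 6 n170745 = n214291 := d14_5 F474421 F390451 (iv7 F244979) D213834 (iv7 F472305)
def n214292 : Q := act 2 n158000
theorem D214292 : act 2 n158000 = n214292 := rfl
theorem F474423 : act 3 n214292 = n158860 := d0_2 D158000 D214292 (iv2 D158860) (iv3 D75801) (iv2 F112830)
theorem F474424 : act 4 n214292 = n196845 := d1_2 F302230 D214292 F402030
theorem F474425 : act 6 n214292 = n158005 := d3_2 (iv6 F248907) D214292 (iv2 D158005)
theorem F474426 : act 7 n214292 = n198213 := d4_2 F366913 D214292 F407248
theorem F474427 : act 1 n214292 = n193611 := d15_0 (iv0 F394801) F366913 D214292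
theorem F474428 : act 1 n198214 = n214292 := d15_0 F474427 (iv7 F474421) (iv2 F474419)
def n214293 : Q := act 6 n158015
theorem D214293 : act 6 n158015 = n214293 := rfl
theorem F474429 : act 4 n214293 = n188487 := d10_1 D214293 F373658 F296206
def n214294 : Q := act 6 n158020
theorem D214294 : act 6 n158020 = n214294 := rfl
theorem F474430 : act 2 n214294 = n170749 := d3_1 D214294 (iv6 D170749) (iv2 F248950)
theorem F474431 : act 3 n214294 = n207024 := d7_1 D214294 (iv6 F454332) F454331
theorem F474432 : act 5 n214294 = n174620 := d12_1 D214294 (iv6 D174620) (iv5 D83444) F298026 D158020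
def n214295 : Q := act 3 n158024
theorem D214295 : act 3 n158024 = n214295 := rfl
theorem F474433 : act 5 n214295 = n214202 := d6_2 F379023 D214295 (iv3 F473975)
theorem F474434 : act 7 n214295 = n194973 := d8_2 (iv7 F361131) D214295 F395255
theorem F474435 : act 4 n214295 = n189812 := d20_6 (iv4 D75275) (iv1 D34464) D34465 D75277 D158024 D214295 (iv1 D189812) F146925 (iv3 D79998) (iv1 F112864)
theorem F474436 : act 0 n209933 = n214295 := d20_4 F248948 (iv1 F323887) D210291 F456878 (iv3 D214295) (iv4 F361140) (iv1 F160679) (iv4 F382077) (iv3 F439495) (iv1 F439499)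
def n214296 : Q := act 5 n158026
theorem D214296 : act 5 n158026 = n214296 := rfl
theorem F474437 : act 2 n214296 = n158027 := d2_1 D214296 (iv5 D158027) D158026
theorem F474438 : act 3 n214296 = n198700 := d6_1 D214296 F408929 F326915
theorem F474439 : act 4 n214296 = n204705 := d9_1 D214296 (iv5 D204705) D204704 F433317 F377462 F293604 (iv4 F122811) D166699 (iv4 F433295) (iv5 D204701) D204700 (iv5 F436868) F436869 (iv5 D158059) (iv4 F248969)
theorem F474440 : act 7 n214296 = n190156 := d13_2 F327099 D214296 F379002
def n214297 : Q := act 0 n158027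
theorem D214297 : act 0 n158027 = n214297 := rfl
theorem F474441 : act 4 n214297 = n204739 := d18_1 D214297 F433449 F406205 (iv5 F382078) F382077 F160679 F361140 (iv0 D158024) D158027
theorem F474442 : act 5 n214297 = n163264 := d21_2 D158027 D214297 (iv6 F358104) (iv1 F250127) (iv6 F326713) (iv5 F149735) F149736 F138063 D104651 F361129
theorem F474443 : act 1 n190156 = n214297 := d15_0 (iv0 D214297) (iv7 F262381) (iv2 F379000)
theorem F474444 : act 6 n190188 = n214297 := d12_0 F474442 (iv6 F358104) (iv5 F348783) (iv6 F462898) (iv5 F462900)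
theorem F474445 : act 4 n194756 = n190188 := d10_3 F474444 F474441 (iv6 F433451)
def n214298 : Q := act 1 n158027
theorem D214298 : act 1 n158027 = n214298 := rfl
theorem F474446 : act 1 n214298 = n190156 := d15_1 D214298 (iv7 F474440) F474437
theorem F474447 : act 5 n214298 = n163265 := d17_7 (iv1 F250131) F348777 (iv1 D158061) (iv5 D75289) (iv4 F112868) D158027 D214298 (iv0 F326718) F326721
theorem F474448 : act 4 n214298 = n204729 := d18_7 (iv1 D108773) (iv4 F168635) D197837 F405964 F429434 F429433 D214298 (iv0 F433409) (iv5 D197923)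
theorem F474449 : act 6 n204728 = n214298 := d10_0 F474448 (iv6 D204729) D204728
def n214299 : Q := act 0 n158028
theorem D214299 : act 0 n158028 = n214299 := rfl
theorem F474450 : act 5 n214299 = n193475 := d21_2 F272500 D214299 (iv6 D193475) D193473 (iv6 F389978) F380508 (iv1 F148298) D100798 D192848 F388009
theorem F474451 : act 6 n214299 = n190916 := d21_5 F115973 F57218 D75278 D158028 D214299 F381543 (iv1 F365780) F365777 (iv6 D160908) (iv1 F115975)
theorem F474452 : act 2 n190921 = n214299 := d3_3 F474451 F381542 (iv6 F381554)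
theorem F474453 : act 4 n190915 = n214299 := d10_3 F474451 (iv4 D190916) (iv6 F381540)
def n214300 : Q := act 1 n158028
theorem D214300 : act 1 n158028 = n214300 := rfl
theorem F474454 : act 7 n214300 = n190921 := d15_2 (iv0 D214299) D214300 F474452
theorem F474455 : act 4 n214300 = n190922 := d18_7 F369057 F289483 D186553 (iv4 F414763) F414764 F254036 D214300 F381558 F378992
theorem F474456 : act 3 n160869 = n190981 := d20_3 (iv4 F474455) (iv1 D214300) (iv4 F254036) (iv1 D190981) F149848 D97139 (iv1 F378994) (iv4 D190152) D190151 (iv1 F381558)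
theorem F474457 : act 6 n190981 = n160867 := d7_2 D160869 F474456 F254033
theorem F474458 : act 5 n210540 = n214300 := d9_0 F474455 F381556 (iv4 F368379) F426856 (iv4 F454956) F454957 (iv4 F393170) (iv5 F474450) (iv4 F474453) (iv5 D190915) F149703 F307501 (iv4 F390263) (iv5 F457952) D210540
def n214301 : Q := act 7 n158028
theorem D214301 : act 7 n158028 = n214301 := rfl
theorem F474459 : act 3 n214301 = n190153 := d8_1 D214301 (iv7 F393132) F393130
theorem F474460 : act 5 n214301 = n194639 := d13_1 D214301 F393914 F272500
theorem F474461 : act 6 n214301 = n190151 := d14_1 D214301 F378993 (iv6 D166701) F122815 D158028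
theorem F474462 : act 0 n190921 = n214301 := d17_0 F474460 (iv1 D194639) D194640 F393919 (iv5 D186924) D186923 (iv5 F381550) (iv0 D190920) D190921
def n214302 : Q := act 3 n158031
theorem D214302 : act 3 n158031 = n214302 := rfl
theorem F474463 : act 2 n214302 = n199865 := d0_1 D214302 (iv3 D199865) F413671 F413676 F413681
theorem F474464 : act 5 n214302 = n191178 := d6_2 F413687 D214302 (iv3 F415867)
theorem F474465 : act 6 n214302 = n194810 := d7_2 F414081 D214302 (iv3 F414080)
theorem F474466 : act 7 n214302 = n210024 := d8_2 (iv7 F413683) D214302 F455801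
theorem F474467 : act 4 n214302 = n180337 := d20_6 (iv4 D34665) F27554 D34467 D75280 D158031 D214302 (iv1 D180337) F132082 (iv3 D75301) (iv1 F54910)
theorem F474468 : act 5 n189473 = n194204 := d19_9 (iv1 F380846) (iv5 F380844) (iv4 F474467) (iv3 D214302) (iv1 F258572) (iv5 F367159) F145484 (iv3 F376245) (iv1 F376645) (iv4 F392373) (iv3 D190526) (iv1 F378612) F378602 F248995 (iv3 F122261) (iv1 F194397) F345638 (iv4 F380493) F380490
theorem F474469 : act 1 n210027 = n214302 := d17_8 (iv1 D180337) F295378 D183517 F359007 D189814 (iv5 F444614) F444617 (iv5 F455815) F474467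
theorem F474470 : act 0 n210026 = n214302 := d18_0 F474467 (iv1 D180337) F132082 (iv5 F249014) (iv4 F390840) (iv0 D130609) (iv4 F209108) D207149 (iv5 F455812)
def n214303 : Q := act 4 n158031
theorem D214303 : act 4 n158031 = n214303 := rfl
theorem F474471 : act 2 n214303 = n199878 := d1_1 D214303 F413933 F413681
theorem F474472 : act 0 n204703 = n214303 := d20_10 (iv4 D214303) (iv1 F258572) (iv4 F430245) F430244 (iv1 F193380) (iv3 F341839) F341840 F433321 (iv4 D204704) D204703
def n214304 : Q := act 5 n158042
theorem D214304 : act 5 n158042 = n214304 := rfl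
theorem F474473 : act 2 n214304 = n191717 := d2_1 D214304 (iv5 F384248) F364276
theorem F474474 : act 6 n214304 = n196174 := d12_2 (iv6 F364275) D214304 F399708 (iv6 D194925) F362525
theorem F474475 : act 7 n214304 = n191718 := d13_2 F364278 D214304 F384249
theorem F474476 : act 4 n214304 = n189682 := d16_6 F443993 F380124 (iv4 F438844) F438845 F429964 D214304 (iv5 F418883) (iv7 F448061) F448059
theorem F474477 : act 0 n214304 = n158066 := d17_2 (iv1 F261158) D214304 F249012 (iv4 F297201) F323647 (iv0 F336575) F336577 F122328 (iv4 F261154)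
theorem F474478 : act 1 n214304 = n191719 := d17_6 (iv1 F430612) (iv5 F442243) F442247 F438845 F429964 D214304 F384252 F276079 (iv4 F430609)
theorem F474479 : act 0 n190528 = n196159 := d21_4 F249012 D158100 (iv5 F378610) D190528 (iv6 D196159) D196158 (iv1 F399652) (iv5 F399708) (iv6 F474474) F474477
def n214305 : Q := act 3 n158047
theorem D214305 : act 3 n158047 = n214305 := rfl
theorem F474480 : act 2 n214305 = n209920 := d0_1 D214305 F455352 F358388 (iv3 D158048) D158047
theorem F474481 : act 5 n214305 = n191255 := d6_2 F358111 D214305 F382766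
theorem F474482 : act 6 n214305 = n209911 := d7_2 (iv6 F358100) D214305 F455334
theorem F474483 : act 7 n214305 = n158053 := d8_2 F249002 D214305 (iv3 D158053)
theorem F474484 : act 4 n214305 = n199446 := d20_6 (iv4 D51783) (iv1 F81752) (iv4 F174529) F326837 (iv1 F358444) D214305 (iv1 D199446) F365620 (iv3 F365619) F172747
def n214306 : Q := act 7 n158048
theorem D214306 : act 7 n158048 = n214306 := rfl
theorem F474485 : act 2 n214306 = n180634 := d4_1 D214306 F358389 F358388
theorem F474486 : act 3 n214306 = n158052 := d8_1 D214306 (iv7 D158052) D158048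
theorem F474487 : act 4 n214306 = n160997 := d11_1 D214306 (iv7 F360326) (iv4 F262091)
theorem F474488 : act 5 n214306 = n187395 := d13_1 D214306 F370159 F294702
theorem F474489 : act 6 n214306 = n185462 := d14_1 D214306 (iv7 F369701) (iv6 F417646) F417647 (iv6 F358387)
theorem F474490 : act 1 n180635 = n214306 := d15_1 F379232 (iv7 D214306) (iv2 F358388)
theorem F474491 : act 1 n214306 = n159306 := d15_1 F474490 F254473 D180635
def n214307 : Q := act 3 n158049
theorem D214307 : act 3 n158049 = n214307 := rfl
theorem F474492 : act 2 n214307 = n200779 := d0_1 D214307 (iv3 F429396) (iv2 F394876) F394874 F394867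
theorem F474493 : act 5 n214307 = n208189 := d6_2 F381509 D214307 F448289
theorem F474494 : act 6 n214307 = n209295 := d7_2 F394910 D214307 F453082
theorem F474495 : act 7 n214307 = n194878 := d8_2 (iv7 F358422) D214307 F394843
theorem F474496 : act 0 n214307 = n200776 := d20_10 F417871 F358160 (iv4 F122779) (iv3 D79994) F57218 D75277 F112868 D75286 D158049 D214307
theorem F474497 : act 0 n198738 = n214307 := d20_4 (iv4 F169867) F179349 (iv4 F169926) D198738 (iv3 D214307) (iv4 D158049) (iv1 F326840) F174520 F169854 D109866
def n214308 : Q := act 2 n158053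
theorem D214308 : act 2 n158053 = n214308 := rfl
theorem F474498 : act 3 n214308 = n180634 := d0_2 D158053 D214308 (iv2 F474485) F474486 F249003
theorem F474499 : act 5 n214308 = n191246 := d2_2 F358420 D214308 F382734
theorem F474500 : act 6 n214308 = n189872 := d3_2 (iv6 F358099) D214308 (iv2 F378054)
theorem F474501 : act 7 n214308 = n209920 := d4_2 F474483 D214308 (iv2 F474480)
theorem F474502 : act 4 n199445 = n214308 := d11_3 F474501 F455354 (iv7 F429420)
def n214309 : Q := act 4 n158053
theorem D214309 : act 4 n158053 = n214309 := rfl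
theorem F474503 : act 2 n214309 = n199445 := d1_1 D214309 F474502 (iv2 D214308)
theorem F474504 : act 3 n214309 = n205067 := d5_1 D214309 (iv4 F434858) (iv3 F358095) F358096 D158053
theorem F474505 : act 6 n214309 = n191257 := d10_2 (iv6 F358099) D214309 (iv4 D191257)
theorem F474506 : act 7 n214309 = n199446 := d11_2 F474483 D214309 (iv4 F474484)
theorem F474507 : act 1 n214309 = n199440 := d18_6 D102999 D194216 F392394 F382760 F358420 D214309 F412209 (iv0 D158003) F112838
theorem F474508 : act 0 n214309 = n199448 := d20_1 D214309 F412234 F365627 (iv1 F219335) (iv3 F394698) F394699 (iv1 F436501) F436499 (iv3 F430978) F436502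
theorem F474509 : act 0 n204066 = n196865 := d20_4 (iv4 D214309) F430961 (iv4 D204067) D204066 (iv3 F412087) (iv4 F417825) F417827 (iv4 F377864) (iv3 F412208) (iv1 F474507)
def n214310 : Q := act 3 n158061
theorem D214310 : act 3 n158061 = n214310 := rfl
theorem F474510 : act 0 n214310 = n189461 := d20_10 (iv4 D189461) D189458 F376626 F373774 (iv1 F276254) (iv3 F276258) (iv4 F382584) (iv1 F382588) F341830 D214310
def n214311 : Q := act 2 n158066
theorem D214311 : act 2 n158066 = n214311 := rfl
theorem F474511 : act 3 n214311 = n207162 := d0_2 D158066 D214311 F443585 F276097 F129325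
theorem F474512 : act 4 n214311 = n196187 := d1_2 F415825 D214311 F415827
theorem F474513 : act 5 n214311 = n158102 := d2_2 (iv5 F249012) D214311 (iv2 D158102)
theorem F474514 : act 7 n214311 = n191719 := d4_2 F292605 D214311 (iv2 D191719)
theorem F474515 : act 1 n214311 = n191717 := d15_0 (iv0 D191717) F292605 D214311
theorem F474516 : act 1 n191718 = n214311 := d15_0 F474515 (iv7 F447764) F447761
theorem F474517 : act 6 n191319 = n214311 := d21_3 (iv5 F149764) D190949 (iv5 F383031) (iv1 F474516) (iv6 F384250) (iv5 D130563) (iv1 F97605) D133364 F377130 (iv1 F377129)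
def n214312 : Q := act 6 n158066
theorem D214312 : act 6 n158066 = n214312 := rfl
theorem F474518 : act 2 n214312 = n191319 := d3_1 D214312 F474517 (iv2 D214311)
theorem F474519 : act 3 n214312 = n158067 := d7_1 D214312 (iv6 D158067) D158066
theorem F474520 : act 4 n214312 = n189226 := d10_1 D214312 (iv6 F415826) F415825
theorem F474521 : act 5 n214312 = n163281 := d12_1 D214312 (iv6 D163281) (iv5 D78474) (iv6 F296267) (iv5 F249012)
theorem F474522 : act 7 n214312 = n191318 := d14_2 F292605 D214312 (iv6 F383029) (iv7 F384241) F384240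
theorem F474523 : act 0 n214312 = n191317 := d21_4 (iv5 F363845) F363843 (iv5 F249012) D214312 F402449 (iv5 D196958) (iv1 F379945) F379943 (iv6 F378603) (iv1 F378605)
theorem F474524 : act 1 n214312 = n176905 := d15_1 (iv0 F474523) F276264 (iv2 F383024)
def n214313 : Q := act 6 n158070
theorem D214313 : act 6 n158070 = n214313 := rfl
theorem F474525 : act 3 n214313 = n190616 := d7_1 D214313 F380303 F355121
theorem F474526 : act 4 n214313 = n192804 := d10_1 D214313 F387838 (iv4 F355120)
theorem F474527 : act 5 n214313 = n199849 := d12_1 D214313 F439401 F439395 (iv6 F405776) F395313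
theorem F474528 : act 0 n186759 = n214313 := d17_0 F474527 (iv1 D199849) F326394 (iv4 F292787) (iv5 F138939) D187550 (iv5 F392345) (iv0 F392347) F377260
theorem F474529 : act 1 n198953 = n214313 := d17_6 F364976 (iv5 D111129) D111126 F380326 (iv4 F368641) F410039 F474527 F413810 F378768
def n214314 : Q := act 4 n158092
theorem D214314 : act 4 n158092 = n214314 := rfl
theorem F474530 : act 2 n214314 = n206648 := d1_1 D214314 F441730 (iv2 F276093)
theorem F474531 : act 3 n214314 = n180363 := d5_1 D214314 F280680 (iv3 D92195) D92196 (iv3 F249043)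
theorem F474532 : act 6 n214314 = n200587 := d10_2 F408279 D214314 F417077
theorem F474533 : act 0 n214314 = n200607 := d18_2 D158092 D214314 F417178 F443837 (iv4 D207198) F214465 (iv4 F383175) F415855 F249014
theorem F474534 : act 5 n191596 = n214314 := d21_0 F474533 F453348 (iv6 D209348) (iv1 F399220) (iv6 F396539) (iv5 F413892) F413894 F203116 D200855 F418171
def n214315 : Q := act 4 n158093
theorem D214315 : act 4 n158093 = n214315 := rfl
theorem F474535 : act 3 n214315 = n180328 := d5_1 D214315 F358300 (iv3 F435612) (iv4 F455394) F455393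
theorem F474536 : act 6 n214315 = n206557 := d10_2 F435775 D214315 F441321
theorem F474537 : act 7 n214315 = n206648 := d11_2 (iv7 F276094) D214315 F441730
theorem F474538 : act 1 n214315 = n200607 := d18_6 (iv1 F392396) (iv4 F415874) (iv1 F416199) (iv4 F455386) (iv5 F455390) D214315 F417178 (iv0 F455804) F455803
def n214316 : Q := act 4 n158098
theorem D214316 : act 4 n158098 = n214316 := rfl
theorem F474539 : act 5 n214316 = n203876 := d16_1 D214316 (iv4 D203876) (iv5 D121148) F88443 F43513 (iv4 F88443) D121148 F366959 F276087
def n214317 : Q := act 3 n158100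
theorem D214317 : act 3 n158100 = n214317 := rfl
theorem F474540 : act 4 n214317 = n203887 := d5_2 F430609 D214317 F474414 F474409 (iv3 F430614)
theorem F474541 : act 5 n214317 = n190526 := d6_2 F378610 D214317 (iv3 D190526)
theorem F474542 : act 6 n214317 = n194496 := d7_2 (iv6 F378021) D214317 (iv3 F393441)
def n214318 : Q := act 1 n158107
theorem D214318 : act 1 n158107 = n214318 := rfl
theorem F474543 : act 7 n214318 = n199842 := d15_2 (iv0 F408251) D214318 F413766
theorem F474544 : act 4 n214278 = n214318 := d20_0 (iv1 D214318) (iv4 F365858) (iv3 D111419) (iv1 D51383) (iv3 F81104) (iv4 F82659) D113266 F334363 F392199 F474366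
theorem F474545 : act 0 n199855 = n214318 := d20_10 (iv4 F474544) (iv1 F474367) (iv4 D194149) D194148 (iv1 F392196) (iv3 D188477) (iv4 F193227) F257783 D157971 (iv3 F413830)
theorem F474546 : act 2 n199853 = n214318 := d15_3 (iv0 F474545) F413833 F413829
theorem F474547 : act 6 n214318 = n199919 := d3_2 (iv6 F414151) F474546 (iv2 F414154)
theorem E104014 : n199854 = n199842 := (c15_2 (iv0 D199853) D199854 (iv7 F474543) (iv2 F474546))
theorem F474548 : act 0 n199842 = n111852 := (sb E104014 (iv1 D199854))
theorem F474549 : act 0 n199856 = n178879 := d21_1 D199856 (iv5 F408587) (iv6 D198623) (iv1 F174562) F174560 (iv5 F397355) (iv1 F397359) F248414 D199842 F474548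
theorem E104015 : n198483 = n198432 := ((c21_4 (iv5 F361869) (iv1 F361871) (iv5 F347155) D198432 (iv1 D198483) (iv6 F173705) D199856 F474549 (iv5 F408587) (iv6 D198623) (iv1 F174562))).symm
theorem F474550 : act 0 n198432 = n109351 := (sb E104015 (iv1 D198483))
def n214319 : Q := act 2 n158107
theorem D214319 : act 2 n158107 = n214319 := rfl
theorem F474551 : act 3 n214319 = n180446 := d0_2 D158107 D214319 (iv2 F327410) (iv3 D111854) (iv2 F326928)
theorem F474552 : act 4 n214319 = n180448 := d1_2 F365858 D214319 F365756
theorem F474553 : act 7 n214319 = n199855 := d4_2 F327737 D214319 (iv2 D199855)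
theorem F474554 : act 1 n214319 = n199853 := d15_0 (iv0 D199853) F327737 D214319
theorem F474555 : act 1 n199842 = n214319 := d15_0 F474554 (iv7 F413829) (iv2 F413766)
def n214320 : Q := act 6 n158116
theorem D214320 : act 6 n158116 = n214320 := rfl
theorem F474556 : act 2 n214320 = n158120 := d3_1 D214320 (iv6 D158120) (iv2 F249055)
theorem F474557 : act 4 n214320 = n191847 := d10_1 D214320 (iv6 F448260) F448258
theorem F474558 : act 7 n214320 = n194166 := d14_2 F327736 D214320 F392235 (iv7 F215057) F360278
theorem F474559 : act 1 n186053 = n214320 := d15_1 (iv0 F468379) F474558 (iv2 F468375)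
theorem F474560 : act 0 n194163 = n214320 := d18_2 F362336 D194163 F474557 (iv5 D191847) (iv4 D99007) (iv0 F293935) F136082 F293481 D90241
def n214321 : Q := act 3 n158117
theorem D214321 : act 3 n158117 = n214321 := rfl
theorem F474561 : act 2 n214321 = n211773 := d0_1 D214321 F463041 (iv2 F413848) (iv3 D199862) F365719
theorem F474562 : act 4 n214321 = n211767 := d5_2 F416108 D214321 F463022 (iv4 F409411) D200352
theorem F474563 : act 5 n214321 = n199972 := d6_2 (iv5 F365718) D214321 F414416
theorem F474564 : act 6 n214321 = n211468 := d7_2 F365720 D214321 (iv3 D211468)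
theorem F474565 : act 7 n214321 = n199861 := d8_2 F365721 D214321 (iv3 D199861)
theorem F474566 : act 0 n214321 = n190529 := d20_4 F413866 F416109 F416108 D214321 (iv3 D190529) D190530 (iv1 F380004) F378488 F346840 (iv1 F413868)
def n214322 : Q := act 4 n158118
theorem D214322 : act 4 n158118 = n214322 := rfl
theorem F474567 : act 2 n214322 = n196935 := d1_1 D214322 (iv4 F402359) F365722
theorem F474568 : act 5 n214322 = n189555 := d9_2 (iv5 F365723) D214322 F376872 F327569 (iv4 F203490) F203487 F202245 (iv5 F365718) (iv4 F416108) F416106 (iv4 F379827) (iv5 D135763) (iv4 F99240) F95542 (iv4 F174523)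
theorem F474569 : act 6 n214322 = n208979 := d10_2 F382608 D214322 F451674
theorem F474570 : act 7 n214322 = n199863 := d11_2 (iv7 F365724) D214322 (iv4 D199863)
theorem F474571 : act 0 n214322 = n186370 := d17_0 (iv5 F345004) (iv1 F428318) (iv5 F428321) (iv4 D200029) F327527 (iv0 D75305) D75308 D158118 D214322
theorem F474572 : act 1 n214322 = n200273 := d18_6 (iv1 F169229) F99661 F173090 (iv4 F174523) (iv5 F365723) D214322 F415781 F413716 (iv5 D112271)
theorem F474573 : act 3 n214322 = n186249 := d20_3 F333567 F327734 D214322 (iv1 D186249) (iv3 F344968) (iv4 D135809) F329183 (iv4 F333578) D208177 F448254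
def n214323 : Q := act 0 n158120
theorem D214323 : act 0 n158120 = n214323 := rfl
theorem F474574 : act 4 n214323 = n186050 := d18_3 (iv1 F468387) F468383 D214323 (iv5 D186050) (iv4 F142560) F142562 D187471 F370472 (iv5 F376159)
theorem F474575 : act 2 n186053 = n214323 := d15_3 (iv0 D214323) F468388 (iv7 F288665)
theorem F474576 : act 1 n194166 = n214323 := d15_0 (iv0 D214323) (iv7 F468378) F468375
theorem F474577 : act 7 n214323 = n194163 := d15_2 D194166 F474576 F392230
def n214324 : Q := act 3 n158125
theorem D214324 : act 3 n158125 = n214324 := rfl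
theorem F474578 : act 4 n214324 = n207279 := d5_2 (iv4 F354339) D214324 (iv3 D207279) (iv4 D130708) (iv3 F365938)
theorem F474579 : act 7 n214324 = n200344 := d8_2 F369278 D214324 F416076
theorem F474580 : act 0 n214324 = n208127 := d20_10 F448000 (iv1 D190011) (iv4 F378382) (iv3 D189972) (iv1 F445705) F276271 F291652 D94453 (iv4 F354339) D214324
theorem F474581 : act 1 n200262 = n208127 := d15_0 (iv0 F474580) F474579 F416075
def n214325 : Q := act 5 n158125
theorem D214325 : act 5 n158125 = n214325 := rfl
theorem F474582 : act 2 n214325 = n204719 := d2_1 D214325 F433391 (iv2 F369279)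
theorem F474583 : act 4 n214325 = n204718 := d16_2 (iv4 F354339) D214325 (iv5 D204718) (iv4 F261042) (iv5 F342148) (iv4 F366056) F176983 F369270 (iv2 F369269)
def n214326 : Q := act 6 n158125
theorem D214326 : act 6 n158125 = n214326 := rfl
theorem F474584 : act 4 n214326 = n175980 := d10_1 D214326 (iv6 F365937) (iv4 F354339)
theorem F474585 : act 7 n214326 = n200361 := d14_2 F369278 D214326 (iv6 D200361) (iv7 F399534) (iv6 F399538)
theorem F474586 : act 5 n214326 = n174275 := d21_6 F112885 (iv1 D34479) D34481 D75311 D158125 D214326 (iv1 D174275) F128372 (iv6 D75293) D75291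
theorem F474587 : act 1 n188218 = n214326 := d17_6 D195893 (iv5 F404378) (iv1 F404379) (iv5 F463479) F463478 F378056 F474586 F398639 (iv4 D195895)
def n214327 : Q := act 3 n158126
theorem D214327 : act 3 n158126 = n214327 := rfl
theorem F474588 : act 6 n214327 = n200358 := d7_2 F369284 D214327 (iv3 D200358)
theorem F474589 : act 0 n214327 = n190528 := d19_4 (iv1 F366055) F176983 (iv4 F369281) D214327 F394346 (iv4 F418210) (iv3 F474250) F474252 (iv5 D180689) (iv4 D86309) (iv3 F132262) (iv1 F258215) (iv5 F194347) (iv4 F258237) D180350 F415209 F415207 (iv4 F365045) (iv3 F365046)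
def n214328 : Q := act 5 n158126
theorem D214328 : act 5 n158126 = n214328 := rfl
theorem F474590 : act 4 n214328 = n160266 := d9_1 D214328 (iv5 D160266) F320279 (iv5 D61366) (iv4 F95802) (iv5 F365939) (iv4 F354339) D214325 F474583 (iv5 D204718) (iv4 F261042) (iv5 F342148) (iv4 F366056) F176983 (iv4 F369281)
theorem F474591 : act 7 n214328 = n204719 := d13_2 (iv7 F369282) D214328 F433391
def n214329 : Q := act 6 n158138
theorem D214329 : act 6 n158138 = n214329 := rfl
theorem F474592 : act 2 n214329 = n202924 := d3_1 D214329 F426211 (iv2 F249088)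
theorem F474593 : act 3 n214329 = n187066 := d7_1 D214329 F369006 (iv3 F249089)
theorem F474594 : act 4 n214329 = n198920 := d10_1 D214329 F409892 (iv4 F249090)
theorem F474595 : act 7 n214329 = n187062 := d14_2 F304322 D214329 (iv6 D187062) F137211 (iv6 F151726)
theorem F474596 : act 0 n214329 = n212899 := d21_4 F178055 F127172 D158138 D214329 (iv6 F468027) (iv5 F332250) (iv1 D156242) D156244 F335202 F178057
theorem F474597 : act 0 n198913 = n214329 := d21_4 D146784 F412525 F412524 (iv6 F409866) (iv6 D214329) (iv5 D158138) F112929 (iv5 F186695) (iv6 F391590) (iv1 D146782)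
def n214330 : Q := act 7 n158157
theorem D214330 : act 7 n158157 = n214330 := rfl
theorem F474598 : act 2 n214330 = n207454 := d4_1 D214330 (iv7 D207454) F366446
theorem F474599 : act 3 n214330 = n211983 := d8_1 D214330 F463829 F447315
theorem F474600 : act 4 n214330 = n213011 := d11_1 D214330 (iv7 D213011) (iv4 F366445)
theorem F474601 : act 5 n214330 = n172028 := d13_1 D214330 (iv7 F428548) (iv5 F428549)
theorem F474602 : act 6 n214330 = n193107 := d14_1 D214330 F388773 F386450 F319886 D158157
theorem F474603 : act 1 n207453 = n214330 := d15_1 D207453 (iv7 D214330) (iv2 F366446)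
theorem F474604 : act 1 n214330 = n158346 := d15_1 F474603 (iv7 F447405) F447403
def n214331 : Q := act 5 n158220
theorem D214331 : act 5 n158220 = n214331 := rfl
theorem F474605 : act 2 n214331 = n158797 := d2_1 D214331 (iv5 D158797) (iv2 F249249)
theorem F474606 : act 3 n214331 = n203810 := d6_1 D214331 F429915 F365901
theorem F474607 : act 6 n214331 = n158221 := d12_2 D158220 D214331 (iv5 D158221) (iv6 D75369) D75368
theorem F474608 : act 7 n214331 = n203821 := d13_2 (iv7 F365898) D214331 F429970
theorem F474609 : act 0 n214331 = n203822 := d17_2 F377380 D214331 F429974 F369294 (iv5 F369292) F369291 F365939 D130692 (iv4 F366058)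
theorem F474610 : act 1 n214331 = n180588 := d17_6 (iv1 D185888) F135586 D94330 D189680 (iv4 F377379) D214331 (iv5 F366463) F451355 F451353
def n214332 : Q := act 6 n158325
theorem D214332 : act 6 n158325 = n214332 := rfl
theorem F474611 : act 3 n214332 = n162790 := d7_1 D214332 F359983 (iv3 F325401)
theorem F474612 : act 0 n214332 = n212830 := d21_4 (iv5 F347489) (iv1 F249442) D158325 D214332 (iv6 D212830) (iv5 F236450) F191056 D149944 (iv6 F347497) F347495
theorem F474613 : act 0 n177525 = n214332 := d21_4 (iv5 D174034) (iv1 F317094) (iv5 F434442) F434443 (iv6 D214332) (iv5 D158325) (iv1 D75483) D75484 (iv6 F318046) (iv1 F358868)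
def n214333 : Q := act 6 n158330
theorem D214333 : act 6 n158330 = n214333 := rfl
theorem F474614 : act 2 n214333 = n204894 := d3_1 D214333 F434048 F347501
theorem F474615 : act 3 n214333 = n158342 := d7_1 D214333 (iv6 D158342) (iv3 F249452)
theorem F474616 : act 4 n214333 = n203942 := d10_1 D214333 (iv6 F441534) F441532
theorem F474617 : act 5 n214333 = n160713 := d12_1 D214333 (iv6 D160713) (iv5 D77109) (iv6 F297039) (iv5 F249453)
theorem F474618 : act 7 n214333 = n212560 := d14_2 D158330 D214333 (iv6 F466421) F440791 F318046
theorem F474619 : act 1 n212457 = n214333 := d15_1 (iv0 F465877) F474618 (iv2 F466419)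
theorem F474620 : act 1 n214333 = n212458 := d15_1 F474619 F465881 (iv2 F465874)
def n214334 : Q := act 6 n158334
theorem D214334 : act 6 n158334 = n214334 := rfl
theorem F474621 : act 2 n214334 = n172173 := d3_1 D214334 F303453 (iv2 F249458)
theorem F474622 : act 3 n214334 = n212560 := d7_1 D214334 (iv6 F466421) F440789
theorem F474623 : act 4 n214334 = n186699 := d10_1 D214334 F367721 F332677
theorem F474624 : act 5 n214334 = n160720 := d12_1 D214334 F298398 F127511 (iv6 F113300) (iv5 F249459)
theorem F474625 : act 7 n214334 = n158342 := d14_2 D158334 D214334 (iv6 D158342) (iv7 D75503) (iv6 F113297)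
theorem F474626 : act 0 n214334 = n163127 := d21_4 (iv5 D82561) (iv1 F113303) (iv5 F249459) D214334 (iv6 D163127) D163126 F354779 (iv5 F354776) F354787 F354789
theorem F474627 : act 0 n172170 = n214334 := d21_4 (iv5 D185902) D185900 (iv5 F436518) (iv6 F436522) (iv6 D214334) F249459 (iv1 F113302) D82566 (iv6 F334338) F362994
def n214335 : Q := act 4 n158345
theorem D214335 : act 4 n158345 = n214335 := rfl
theorem F474628 : act 2 n214335 = n178149 := d1_1 D214335 (iv4 F412737) (iv2 F412740)
theorem F474629 : act 7 n214335 = n172563 := d11_2 (iv7 F249484) D214335 (iv4 D172563)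
theorem F474630 : act 0 n214335 = n208915 := d18_2 (iv1 F409623) D214335 (iv4 D208915) (iv5 D135368) (iv4 F217608) F357880 F304301 (iv0 F357796) D173520
theorem F474631 : act 3 n214335 = n210960 := d19_3 F344415 D158345 D214335 (iv1 F459836) F459838 F246247 F111797 (iv1 F319541) (iv5 F393532) F393531 D195213 (iv1 F420357) (iv5 F447133) F447134 (iv3 F445663) F445662 (iv5 D172245) (iv4 F270505) F270504
def n214336 : Q := act 6 n158345
theorem D214336 : act 6 n158345 = n214336 := rfl
theorem F474632 : act 3 n214336 = n158348 := d7_1 D214336 (iv6 D158348) (iv3 F249483)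
theorem F474633 : act 7 n214336 = n197980 := d14_2 (iv7 F249484) D214336 (iv6 D197980) F344747 F332389
theorem F474634 : act 0 n214336 = n200171 := d21_4 F278246 F344415 D158345 D214336 F415373 F409868 (iv1 F259370) (iv5 F430116) F430117 (iv1 F383314)
theorem F474635 : act 0 n162948 = n214336 := d21_4 (iv5 D131508) (iv1 F314755) (iv5 F259400) F363107 (iv6 D214336) (iv5 D158345) (iv1 F319727) (iv5 F433258) F433256 F339359
def n214337 : Q := act 3 n158347
theorem D214337 : act 3 n158347 = n214337 := rfl
theorem F474636 : act 2 n214337 = n181228 := d0_1 D214337 F416868 (iv2 F416859) F355917 (iv2 F249486)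
theorem F474637 : act 4 n214337 = n210960 := d5_2 D158347 D214337 (iv3 F474631) (iv4 D214335) F249483
theorem F474638 : act 5 n214337 = n205517 := d6_2 (iv5 F249487) D214337 F436796
theorem F474639 : act 7 n214337 = n172568 := d8_2 (iv7 F249488) D214337 (iv3 D172568)
theorem F474640 : act 0 n214337 = n181229 := d19_4 F118889 D75520 D158347 D214337 (iv5 F356068) F257792 (iv3 F327416) (iv1 D110601) D110602 D198913 F409865 F397810 F368859 (iv4 D186881) D186880 (iv1 F368403) (iv5 D120415) F300578 F72506
theorem F474641 : act 0 n181231 = n214337 := d20_4 (iv4 D79861) (iv1 F118832) (iv4 F132772) (iv3 F282287) (iv3 D214337) (iv4 D158347) F322044 (iv4 F201537) (iv3 D125304) (iv1 F297615)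
def n214338 : Q := act 6 n158347
theorem D214338 : act 6 n158347 = n214338 := rfl
theorem F474642 : act 2 n214338 = n170683 := d3_1 D214338 (iv6 D170683) (iv2 F249486)
theorem F474643 : act 4 n214338 = n158348 := d10_1 D214338 (iv6 D158348) D158347
theorem F474644 : act 5 n214338 = n174850 := d12_1 D214338 F401303 (iv5 F401305) F333790 (iv5 F249487)
theorem F474645 : act 7 n214338 = n174849 := d14_2 (iv7 F249488) D214338 (iv6 F417282) F417279 (iv6 D172569)
theorem F474646 : act 0 n214338 = n200720 := d21_4 F300707 D158339 (iv5 F249487) D214338 F417625 (iv5 F363868) F401304 (iv5 F401305) F333790 F302490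
theorem F474647 : act 0 n200803 = n214338 := d21_4 (iv5 F352473) (iv1 F206829) D128719 (iv6 F417972) (iv6 D214338) F249487 F302490 F300707 F323562 D128838
def n214339 : Q := act 5 n158447
theorem D214339 : act 5 n158447 = n214339 := rfl
theorem F474648 : act 2 n214339 = n158469 := d2_1 D214339 (iv5 D158469) (iv2 F344397)
theorem F474649 : act 3 n214339 = n206814 := d6_1 D214339 F442283 (iv3 F344398)
theorem F474650 : act 7 n214339 = n158464 := d13_2 (iv7 F344400) D214339 (iv5 D158464)
theorem F474651 : act 0 n214339 = n213147 := d17_2 (iv1 F249647) D214339 F469202 F444770 (iv5 F252622) (iv0 F337085) (iv5 D167345) (iv0 F301226) F249673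
theorem F474652 : act 1 n214339 = n212064 := d17_6 F318798 F96213 D70064 (iv5 F210841) (iv4 F344399) D214339 (iv5 D212064) F344088 (iv4 F344087)
theorem F474653 : act 6 n214339 = n207305 := d21_3 F321680 (iv1 F249647) D214339 (iv1 F444258) (iv6 D205875) (iv5 D126714) D126711 D205870 (iv6 F444790) F444792
def n214340 : Q := act 4 n158464
theorem D214340 : act 4 n158464 = n214340 := rfl
theorem F474654 : act 2 n214340 = n213148 := d1_1 D214340 (iv4 D213148) F366829
theorem F474655 : act 6 n214340 = n207783 := d10_2 F447590 D214340 (iv4 F447588)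
theorem F474656 : act 0 n214340 = n207415 := d18_2 F420358 D214340 (iv4 D207415) (iv5 D131389) F96247 F318851 (iv4 F344033) D203539 F428795
def n214341 : Q := act 4 n158469
theorem D214341 : act 4 n158469 = n214341 := rfl
theorem F474657 : act 7 n214341 = n213148 := d11_2 (iv7 F366831) D214341 (iv4 D213148)
theorem F474658 : act 1 n214341 = n207415 := d18_6 F312089 (iv4 F306999) F307873 F307280 D158469 D214341 (iv4 D207415) F443487 F443483
theorem F474659 : act 6 n207848 = n214341 := d14_5 F474657 F469206 F447597 F447598 F446709
def n214342 : Q := act 6 n158469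
theorem D214342 : act 6 n158469 = n214342 := rfl
theorem F474660 : act 2 n214342 = n207305 := d3_1 D214342 (iv6 F474653) F474648
theorem F474661 : act 3 n214342 = n164289 := d7_1 D214342 F347110 F366832
theorem F474662 : act 4 n214342 = n207848 := d10_1 D214342 F474659 (iv4 D214341)
theorem F474663 : act 7 n214342 = n207306 := d14_2 (iv7 F366831) D214342 (iv6 F447605) F447601 (iv6 F371525)
theorem F474664 : act 0 n214342 = n207307 := d21_4 F446846 (iv1 F249652) D158469 D214342 F444257 (iv5 F362000) (iv1 F219939) (iv5 F447393) (iv6 D208004) (iv1 F446849)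
theorem F474665 : act 0 n206712 = n214342 := d21_4 D61149 D130292 F208830 D206712 (iv6 D214342) (iv5 D158469) (iv1 D75597) D75598 F113456 F315440
def n214343 : Q := act 7 n158497
theorem D214343 : act 7 n158497 = n214343 := rfl
theorem F474666 : act 2 n214343 = n207011 := d4_1 D214343 F442956 F315346
theorem F474667 : act 3 n214343 = n207102 := d8_1 D214343 (iv7 D207102) (iv3 F366568)
theorem F474668 : act 4 n214343 = n205692 := d11_1 D214343 (iv7 F442877) F442875
theorem F474669 : act 5 n214343 = n204178 := d13_1 D214343 F431360 F274136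
theorem F474670 : act 6 n214343 = n166744 := d14_1 D214343 F334303 (iv6 D130288) F315470 D158497
theorem F474671 : act 1 n185791 = n214343 := d15_1 (iv0 F354309) (iv7 D214343) (iv2 F315346)
theorem F474672 : act 1 n214343 = n205466 := d15_1 F474671 (iv7 F447248) F447244
def n214344 : Q := act 4 n158549
theorem D214344 : act 4 n158549 = n214344 := rfl
theorem F474673 : act 2 n214344 = n203075 := d1_1 D214344 F426887 F370421
theorem F474674 : act 5 n214344 = n186873 := d9_2 D158549 D214344 (iv4 D186873) (iv5 D89337) (iv4 F112947) F322822 (iv4 F208633) (iv5 F369519) (iv4 F388130) (iv5 D192895) (iv4 D100908) (iv5 D47034) F35156 D34587 D75626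
theorem F474675 : act 6 n214344 = n212631 := d10_2 (iv6 F430379) D214344 F466787
theorem F474676 : act 7 n214344 = n186888 := d11_2 (iv7 F370416) D214344 F370417
theorem F474677 : act 0 n214344 = n187436 := d18_2 (iv1 F370425) D214344 F370317 (iv5 F139299) F340914 D158517 (iv4 F374871) F374870 F371524
theorem F474678 : act 1 n214344 = n201297 := d18_6 (iv1 F344111) (iv4 D133160) (iv1 F310732) D75626 D158549 D214344 F419903 F370321 F370319
def n214345 : Q := act 1 n158578
theorem D214345 : act 1 n158578 = n214345 := rfl
theorem F474679 : act 1 n214345 = n207128 := d15_1 D214345 (iv7 D207128) (iv2 F358457)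
theorem F474680 : act 7 n214345 = n191369 := d15_2 (iv0 F427444) D214345 (iv2 F427441)
theorem F474681 : act 5 n214345 = n193344 := d17_7 (iv1 F374737) (iv5 F387793) (iv1 F387795) (iv5 F374722) (iv4 F389498) (iv5 F389496) D214345 F389520 (iv4 F374727)
theorem F474682 : act 4 n214345 = n194313 := d17_9 F451416 F451414 F401945 F343419 F130108 D101461 D193335 (iv5 F389496) D214345
theorem F474683 : act 3 n192008 = n214345 := d20_3 (iv4 F272839) (iv1 F387323) F387326 (iv1 D214345) F304271 F301449 F298997 (iv4 F299283) (iv3 F306708) F249712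
theorem F474684 : act 6 n192855 = n214345 := d21_3 D186762 F368372 (iv5 F388030) (iv1 D214345) (iv6 D158578) (iv5 F304265) (iv1 F431487) (iv5 D204206) F303635 (iv1 F154835)
theorem F474685 : act 2 n214345 = n204354 := d0_1 F474683 F432180 F427454 (iv3 F388453) (iv2 F385184)
def n214346 : Q := act 5 n158788
theorem D214346 : act 5 n158788 = n214346 := rfl
theorem F474686 : act 2 n214346 = n203819 := d2_1 D214346 (iv5 F438845) F438842
theorem F474687 : act 3 n214346 = n158797 := d6_1 D214346 (iv5 D158797) (iv3 F249995)
theorem F474688 : act 6 n214346 = n158791 := d12_2 D158788 D214346 (iv5 D158791) (iv6 D75757) D75756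
theorem F474689 : act 7 n214346 = n205453 := d13_2 F438808 D214346 (iv5 F438807)
theorem F474690 : act 0 n214346 = n205458 := d17_2 (iv1 F438841) D214346 F436532 F418080 (iv5 F364797) (iv0 F445065) F445064 (iv0 F442249) (iv4 D206802)
theorem F474691 : act 4 n214346 = n165765 := d17_4 (iv1 F351679) (iv5 F366070) (iv1 F438841) D214346 F384248 (iv0 D191717) F292604 D176711 (iv4 F304018)
theorem F474692 : act 0 n194840 = n214346 := d21_10 (iv5 D214346) (iv1 F438838) F438839 (iv6 D203962) F258228 (iv6 F330288) (iv5 F369437) F369440 F368155 D194840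
def n214347 : Q := act 7 n158797
theorem D214347 : act 7 n158797 = n214347 := rfl
theorem F474693 : act 2 n214347 = n203821 := d4_1 D214347 (iv7 F474608) F474605
theorem F474694 : act 3 n214347 = n205453 := d8_1 D214347 (iv7 F474689) F474687
theorem F474695 : act 4 n214347 = n204070 := d11_1 D214347 (iv7 F430990) F430993
theorem F474696 : act 5 n214347 = n158798 := d13_1 D214347 (iv7 D158798) D158797
theorem F474697 : act 6 n214347 = n205452 := d14_1 D214347 F436495 F390372 (iv7 D158801) (iv6 F250000)
theorem F474698 : act 1 n180588 = n214347 := d15_1 F474610 (iv7 D214347) (iv2 F474605)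
theorem F474699 : act 1 n214347 = n203822 := d15_1 F474698 (iv7 F433384) F433382
def n214348 : Q := act 6 n158830
theorem D214348 : act 6 n158830 = n214348 := rfl
theorem F474700 : act 3 n214348 = n208074 := d7_1 D214348 F447769 F443644
theorem F474701 : act 7 n214348 = n208071 := d14_2 (iv7 F302220) D214348 (iv6 D208071) (iv7 F366277) F348122
theorem F474702 : act 0 n193488 = n214348 := d21_4 (iv5 F361827) (iv1 F156646) D101829 D193488 (iv6 D214348) (iv5 D158830) (iv1 F300441) D121055 (iv6 F385656) F385658
def n214349 : Q := act 5 n158841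
theorem D214349 : act 5 n158841 = n214349 := rfl
theorem F474703 : act 2 n214349 = n164121 := d2_1 D214349 (iv5 D164121) (iv2 F250091)
theorem F474704 : act 3 n214349 = n198632 := d6_1 D214349 F408631 (iv3 F348125)
theorem F474705 : act 6 n214349 = n214216 := d12_2 D158841 D214349 (iv5 D214216) (iv6 F348120) (iv5 D158840)
theorem F474706 : act 7 n214349 = n164126 := d13_2 (iv7 F250093) D214349 (iv5 D164126)
theorem F474707 : act 0 n214349 = n198636 := d17_2 F250094 D214349 (iv5 D198636) (iv4 F373746) F373747 (iv0 D162655) F298092 (iv0 D88662) (iv4 F129323)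
theorem F474708 : act 1 n214349 = n198712 := d17_6 F326182 (iv5 F326183) F326426 (iv5 F326193) (iv4 F250092) D214349 (iv5 D198712) F362599 (iv4 D164123)
def n214350 : Q := act 5 n158852
theorem D214350 : act 5 n158852 = n214350 := rfl
theorem F474709 : act 3 n214350 = n158853 := d6_1 D214350 (iv5 D158853) D158852
theorem F474710 : act 7 n214350 = n209305 := d13_2 (iv7 F298040) D214350 F453127
def n214351 : Q := act 6 n158853
theorem D214351 : act 6 n158853 = n214351 := rfl
theorem F474711 : act 2 n214351 = n197475 := d3_1 D214351 (iv6 F404489) (iv2 F298041)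
theorem F474712 : act 4 n214351 = n192854 := d10_1 D214351 (iv6 D192854) (iv4 F356160)
theorem F474713 : act 5 n214351 = n166676 := d12_1 D214351 (iv6 D166676) (iv5 D79996) (iv6 F296599) D158853
theorem F474714 : act 7 n214351 = n194054 := d14_2 (iv7 F298042) D214351 (iv6 D194054) F385937 (iv6 F385933)
theorem F474715 : act 0 n214351 = n200388 := d21_4 (iv5 D75802) D75799 D158853 D214351 (iv6 D200388) D200387 F416252 F210022 (iv6 F176567) F356136
theorem F474716 : act 0 n192869 = n214351 := d21_4 (iv5 F295948) F154946 D100864 D192869 (iv6 D214351) (iv5 D158853) (iv1 F298035) D173838 (iv6 F365278) (iv1 D144251)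
def n214352 : Q := act 5 n158858
theorem D214352 : act 5 n158858 = n214352 := rfl
theorem F474717 : act 7 n214352 = n193951 := d13_2 F397369 D214352 (iv5 F397368)
def n214353 : Q := act 5 n158859
theorem D214353 : act 5 n158859 = n214353 := rfl
theorem F474718 : act 2 n214353 = n193951 := d2_1 D214353 (iv5 F397368) F397366
theorem F474719 : act 3 n214353 = n194294 := d6_1 D214353 F392708 (iv3 F379385)
theorem F474720 : act 6 n214353 = n192206 := d12_2 F379384 D214353 F385992 (iv6 F290461) D190321
def n214354 : Q := act 3 n158868
theorem D214354 : act 3 n158868 = n214354 := rfl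
theorem F474721 : act 5 n214354 = n187399 := d6_2 F348783 D214354 F370182
theorem F474722 : act 7 n214354 = n176724 := d8_2 (iv7 F348780) D214354 (iv3 D176724)
theorem F474723 : act 4 n214354 = n181695 := d20_6 (iv4 D17376) (iv1 F27555) D34665 D75804 D158868 D214354 (iv1 D181695) F133001 (iv3 D41440) F31251
theorem F474724 : act 0 n214354 = n209928 := d20_10 F455394 (iv1 F435614) (iv4 D194161) D194160 (iv1 F392214) F382098 (iv4 F392640) (iv1 F392643) (iv4 F370048) D214354
theorem F474725 : act 0 n164130 = n214354 := d20_4 F56552 D35894 D78850 D164130 (iv3 D214354) F370048 (iv1 D187373) F340623 (iv3 D164092) (iv1 D78833)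
def n214355 : Q := act 3 n158869
theorem D214355 : act 3 n158869 = n214355 := rfl
theorem F474726 : act 5 n214355 = n214310 := d6_2 (iv5 F348777) D214355 (iv3 D214310)
theorem F474727 : act 6 n214355 = n174274 := d7_2 F399678 D214355 (iv3 F399676)
theorem F474728 : act 7 n214355 = n176729 := d8_2 (iv7 F348778) D214355 (iv3 D176729)
theorem F474729 : act 0 n214317 = n214355 := d20_4 (iv4 F363505) D203963 F430609 D214317 (iv3 D214355) (iv4 F370039) (iv1 F392644) F392640 (iv3 F382098) (iv1 F382102)
theorem F474730 : act 0 n189466 = n214310 := d21_1 F430977 (iv5 F474726) F474727 (iv1 F398640) (iv6 F402033) (iv5 F402034) (iv1 D137089) D137090 (iv6 F455353) F455355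
def n214356 : Q := act 4 n158878
theorem D214356 : act 4 n158878 = n214356 := rfl
theorem F474731 : act 2 n214356 = n176821 := d1_1 D214356 (iv4 D176821) (iv2 F362550)
theorem F474732 : act 3 n214356 = n180777 := d5_1 D214356 (iv4 F417519) (iv3 F464644) F464645 (iv3 F435915)
theorem F474733 : act 7 n214356 = n176826 := d11_2 (iv7 F362551) D214356 (iv4 D176826)
def n214357 : Q := act 5 n158890
theorem D214357 : act 5 n158890 = n214357 := rfl
theorem F474734 : act 2 n214357 = n194947 := d2_1 D214357 (iv5 F453145) F453142
theorem F474735 : act 3 n214357 = n158892 := d6_1 D214357 (iv5 D158892) (iv3 F250180)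
theorem F474736 : act 7 n214357 = n194946 := d13_2 F300938 D214357 (iv5 F395132)
theorem F474737 : act 1 n214357 = n194948 := d17_6 F435231 (iv5 D205161) (iv1 F358242) (iv5 D181142) (iv4 F250181) D214357 F395139 (iv0 F425849) F425847
theorem F474738 : act 0 n214357 = n194939 := d21_7 (iv5 F350456) (iv1 D96005) D96006 F360307 (iv1 D158887) D158890 D214357 F395099 (iv6 F393447) (iv1 F393448)
def n214358 : Q := act 5 n158894
theorem D214358 : act 5 n158894 = n214358 := rfl
theorem F474739 : act 2 n214358 = n190443 := d2_1 D214358 F379781 F359857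
theorem F474740 : act 3 n214358 = n158896 := d6_1 D214358 (iv5 D158896) D158894
theorem F474741 : act 6 n214358 = n190006 := d12_2 F351985 D214358 (iv5 F443500) F443501 (iv5 D198360)
theorem F474742 : act 7 n214358 = n176875 := d13_2 F254229 D214358 (iv5 D176875)
theorem F474743 : act 0 n214358 = n190481 := d17_2 (iv1 F394702) D214358 F392216 (iv4 F414925) (iv5 F442243) F442245 F438807 F436501 (iv4 F394699)
theorem F474744 : act 1 n214358 = n199867 := d17_6 F302189 (iv5 F323646) (iv1 F212387) F336567 (iv4 F250187) D214358 (iv5 D199867) F382102 F382099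
theorem F474745 : act 4 n214358 = n200288 := d18_5 (iv1 F261152) F248995 (iv1 F122327) (iv4 F250187) D214358 F415840 (iv4 F474512) F474515 (iv5 F384248)
def n214359 : Q := act 6 n158896
theorem D214359 : act 6 n158896 = n214359 := rfl
theorem F474746 : act 2 n214359 = n176890 := d3_1 D214359 (iv6 D176890) F254235
theorem F474747 : act 3 n214359 = n190006 := d7_1 D214359 (iv6 F474741) F474740
theorem F474748 : act 5 n214359 = n193693 := d12_1 D214359 (iv6 F390707) (iv5 F349843) (iv6 D158897) D158896
theorem F474749 : act 7 n214359 = n190444 := d14_2 F254230 D214359 (iv6 F399693) F399694 F356893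
theorem F474750 : act 0 n189969 = n214359 := d21_4 (iv5 D87292) D87289 (iv5 F343046) D189969 (iv6 D214359) (iv5 D158896) (iv1 F113709) D84326 (iv6 F335323) F343049
theorem F474751 : act 1 n200389 = n214359 := d15_1 (iv0 F416258) F474749 (iv2 F382162)
def n214360 : Q := act 4 n158902
theorem D214360 : act 4 n158902 = n214360 := rfl
theorem F474752 : act 2 n214360 = n158905 := d1_1 D214360 (iv4 D158905) (iv2 F250190)
theorem F474753 : act 5 n214360 = n160460 := d9_2 D158902 D214360 (iv4 D160460) (iv5 D76913) F55848 F28014 (iv4 F29656) D38883 D84329 D176906 F276266 (iv5 D124300) F91664 (iv5 F55013) (iv4 F113710)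
theorem F474754 : act 7 n214360 = n176895 := d11_2 (iv7 F250192) D214360 (iv4 D176895)
theorem F474755 : act 0 n214360 = n176904 := d18_2 (iv1 F250194) D214360 F373702 (iv5 D188495) (iv4 D92196) F67488 (iv4 F120003) F141766 F250808
theorem F474756 : act 1 n214360 = n176903 := d18_6 (iv1 D86285) (iv4 D39927) (iv1 F55015) (iv4 F113710) D158902 D214360 (iv4 F373677) F373676 (iv5 D180632)
theorem F474757 : act 6 n209905 = n214360 := d14_5 F474754 (iv6 F380935) F380936 F440645 (iv7 F455315)
theorem F474758 : act 3 n214360 = n209908 := d7_1 F474757 (iv6 D209908) (iv3 F455314)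
theorem F474759 : act 5 n209908 = n204077 := d6_2 (iv5 F474753) F474758 F431003
theorem F474760 : act 0 n209908 = n211733 := d20_4 (iv4 D176898) (iv1 F250194) D214360 F474758 (iv3 D211733) (iv4 F415682) (iv1 F415685) (iv4 F226846) (iv3 F463162) (iv1 F463163)
theorem F474761 : act 6 n204077 = n209909 := d12_2 D209908 F474759 (iv5 D209909) (iv6 D137081) D137080
theorem F474762 : act 4 n209909 = n204078 := d10_1 F474761 (iv6 D204078) D204077
def n214361 : Q := act 6 n158902
theorem D214361 : act 6 n158902 = n214361 := rfl
theorem F474763 : act 2 n214361 = n158906 := d3_1 D214361 (iv6 D158906) (iv2 F250190)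
theorem F474764 : act 3 n214361 = n194223 := d7_1 D214361 (iv6 D194223) (iv3 F250191)
theorem F474765 : act 4 n214361 = n209905 := d10_1 D214361 F474757 (iv4 D214360)
theorem F474766 : act 5 n214361 = n202004 := d12_1 D214361 F423792 F423790 F250113 D158902
theorem F474767 : act 7 n214361 = n189963 := d14_2 (iv7 F250192) D214361 (iv6 D189963) F270456 F335323
theorem F474768 : act 0 n190390 = n214361 := d17_2 F416219 F401744 F474766 (iv4 D202004) F404258 (iv0 F404259) F179635 D115442 (iv4 F416218)
def n214362 : Q := act 6 n158904
theorem D214362 : act 6 n158904 = n214362 := rfl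
theorem F474769 : act 2 n214362 = n176899 := d3_1 D214362 (iv6 D176899) F257973
theorem F474770 : act 4 n214362 = n176831 := d10_1 D214362 F463153 F463152
def n214363 : Q := act 0 n158905
theorem D214363 : act 0 n158905 = n214363 := rfl
theorem F474771 : act 4 n214363 = n164131 := d18_3 (iv1 D158904) D158905 D214363 (iv5 D164131) (iv4 D78850) (iv0 D35894) (iv4 F56552) D78833 F254079
theorem F474772 : act 5 n214363 = n205078 := d19_1 D214363 (iv4 D205078) (iv3 F412314) (iv1 F435106) (iv5 D205138) F201870 F337388 F172624 D125578 F336671 (iv3 F368115) (iv1 F375765) F375767 F372830 (iv3 D98034) (iv1 D45755) D45757 D98041 (iv3 F250197)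
theorem F474773 : act 1 n176895 = n214363 := d15_0 (iv0 D214363) F250198 (iv2 F276260)
theorem F474774 : act 3 n191146 = n214363 := d19_19 (iv1 F474773) F276261 (iv4 D124303) F91665 D57947 F91666 F56525 F44557 F33399 F28514 (iv4 D8973) D8972 (iv1 F17587) D19479 F31158 D41280 D88427 (iv5 F357386) D191146
theorem F474775 : act 2 n176904 = n214363 := d1_3 F474771 (iv2 F373698) (iv4 F373702)
theorem F474776 : act 7 n176903 = n214363 := d11_0 F474771 (iv7 F373674) F373677
def n214364 : Q := act 1 n158905
theorem D214364 : act 1 n158905 = n214364 := rfl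
theorem F474777 : act 1 n214364 = n176895 := d15_1 D214364 (iv7 F474754) F474752
theorem F474778 : act 7 n214364 = n176904 := d15_2 (iv0 D214363) D214364 F474775
theorem F474779 : act 3 n199858 = n214364 := d20_3 F408165 F359557 F413837 (iv1 D214364) F250197 (iv4 D98041) (iv1 F295140) D189606 F451265 (iv1 F451268)
theorem F474780 : act 4 n164140 = n214364 := d20_6 (iv4 D41452) D41450 (iv4 F72389) (iv3 F151336) D191357 (iv3 F415859) (iv1 D214364) (iv4 D158905) F113715 (iv1 F63902)
theorem F474781 : act 2 n214364 = n176903 := d1_1 F474780 (iv4 F373677) F373673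
theorem F474782 : act 5 n214364 = n205073 := d9_2 D164140 F474780 (iv4 D205073) (iv5 D125431) (iv4 D58726) F254073 D78850 D164131 (iv4 F474771) F474772 (iv4 D205078) (iv5 D125451) (iv4 D58731) F254077 D78855
theorem F474783 : act 6 n199856 = n214364 := d12_0 F474782 F434873 (iv5 D198485) (iv6 F173705) D199856
def n214365 : Q := act 5 n158905
theorem D214365 : act 5 n158905 = n214365 := rfl
theorem F474784 : act 2 n214365 = n160460 := d2_1 D214365 (iv5 F474753) F474752
theorem F474785 : act 3 n214365 = n191320 := d6_1 D214365 (iv5 D191320) (iv3 F250197)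
theorem F474786 : act 4 n214365 = n160457 := d9_1 D214365 (iv5 D160457) F115547 F55912 (iv4 F59908) D84326 D176895 F276261 (iv4 D124303) (iv5 D57946) F44572 (iv5 F27600) (iv4 F54921) D75819 D158905
theorem F474787 : act 7 n214365 = n176906 := d13_2 (iv7 F250198) D214365 (iv5 D176906)
theorem F474788 : act 1 n214365 = n204747 := d17_8 (iv1 F434846) (iv5 D205064) (iv1 F201720) D125451 D205078 (iv5 F474772) (iv0 D214363) D214365 F433463
theorem F474789 : act 3 n198499 = n204747 := d19_19 (iv1 F474788) (iv5 D214365) (iv4 D158905) F113715 (iv1 F63902) F63900 F56548 F56221 (iv1 D35548) (iv5 D17220) (iv4 F21531) F28176 (iv1 F28262) (iv5 F325275) (iv4 F325576) F325575 D50684 (iv5 F173734) D198499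
theorem F474790 : act 1 n204748 = n214365 := d15_1 D204748 F474787 F276265
def n214366 : Q := act 6 n158938
theorem D214366 : act 6 n158938 = n214366 := rfl
theorem F474791 : act 2 n214366 = n211605 := d3_1 D214366 F462348 (iv2 F347364)
theorem F474792 : act 3 n214366 = n158940 := d7_1 D214366 (iv6 D158940) D158938
theorem F474793 : act 4 n214366 = n203928 := d10_1 D214366 (iv6 D203928) (iv4 F347365)
theorem F474794 : act 7 n214366 = n211637 := d14_2 (iv7 F347366) D214366 (iv6 F462477) (iv7 F427179) F427178
theorem F474795 : act 0 n214366 = n211618 := d21_4 (iv5 F449085) (iv1 F449088) F410152 D214366 (iv6 D211618) F335447 (iv1 D142997) D142998 (iv6 F462089) F462090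
theorem F474796 : act 5 n214366 = n212939 := d21_6 F107953 (iv1 F90808) F90806 D76395 (iv1 F347363) D214366 (iv1 D212939) (iv5 D151518) (iv6 D71431) D71429
theorem F474797 : act 0 n211636 = n214366 := d21_4 (iv5 F431644) (iv1 F470630) F470627 F462473 (iv6 D214366) (iv5 F410152) F410154 F406337 (iv6 D154386) (iv1 F354931)
def n214367 : Q := act 2 n158948
theorem D214367 : act 2 n158948 = n214367 := rfl
theorem F474798 : act 3 n214367 = n159679 := d0_2 D158948 D214367 F253050 F347360 F250218
theorem F474799 : act 4 n214367 = n160202 := d1_2 (iv4 F250286) D214367 (iv2 F310967)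
theorem F474800 : act 5 n214367 = n208405 := d2_2 (iv5 F359676) D214367 (iv2 F449217)
theorem F474801 : act 6 n214367 = n203154 := d3_2 (iv6 F250287) D214367 (iv2 D203154)
theorem F474802 : act 7 n214367 = n202955 := d4_2 F359678 D214367 (iv2 F426368)
theorem F474803 : act 1 n214367 = n202956 := d15_0 (iv0 F426373) F359678 D214367
theorem F474804 : act 1 n160045 = n214367 := d15_0 F474803 (iv7 D202956) (iv2 F252544)
def n214368 : Q := act 6 n158951
theorem D214368 : act 6 n158951 = n214368 := rfl
theorem F474805 : act 2 n214368 = n206965 := d3_1 D214368 (iv6 D206965) F361794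
theorem F474806 : act 3 n214368 = n182318 := d7_1 D214368 (iv6 F335420) F361799
theorem F474807 : act 4 n214368 = n206961 := d10_1 D214368 (iv6 D206961) F361792
theorem F474808 : act 5 n214368 = n182316 := d12_1 D214368 (iv6 F385465) F385464 (iv6 D158952) D158951
theorem F474809 : act 7 n214368 = n191678 := d14_2 F336979 D214368 F384112 F345910 (iv6 F347284)
theorem F474810 : act 0 n214368 = n208313 := d21_4 D110796 F336965 D158951 D214368 (iv6 F450443) F450442 F427210 F427209 (iv6 D198982) (iv1 D110794)
theorem F474811 : act 1 n214368 = n198196 := d15_1 (iv0 F474810) F407190 D208313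
def n214369 : Q := act 4 n158964
theorem D214369 : act 4 n158964 = n214369 := rfl
theorem F474812 : act 2 n214369 = n197089 := d1_1 D214369 (iv4 F434590) (iv2 F434592)
theorem F474813 : act 5 n214369 = n197088 := d9_2 F411692 D214369 F403000 D208353 (iv4 F453379) F453380 (iv4 F442534) F391593 (iv4 F403150) F403147 F209085 D139626 D210727 F458600 (iv4 F442553)
theorem F474814 : act 6 n214369 = n175351 := d10_2 F411693 D214369 F354815
theorem F474815 : act 7 n214369 = n212481 := d11_2 (iv7 F391594) D214369 F466007
theorem F474816 : act 0 n214369 = n212455 := d18_2 (iv1 F391637) D214369 F465863 F448635 (iv4 F216015) D207025 (iv4 F443018) F445235 F445232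
theorem F474817 : act 1 n214369 = n212482 := d18_6 D134022 (iv4 F446056) (iv1 F446061) (iv4 F442553) F411692 D214369 F466014 (iv0 D208261) (iv5 D134025)
theorem F474818 : act 3 n214369 = n175938 := d20_3 (iv4 F391636) (iv1 F391637) D214369 F353634 F236573 (iv4 F465904) F465906 F348515 (iv3 D159051) (iv1 F200964)
def n214370 : Q := act 0 n158966
theorem D214370 : act 0 n158966 = n214370 := rfl
theorem F474819 : act 4 n214370 = n207022 := d18_1 D214370 (iv1 F446838) F446836 (iv5 F448628) (iv4 F466014) F466017 F403150 (iv0 D158963) D158966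
theorem F474820 : act 3 n214370 = n188741 := d20_5 (iv4 F171536) D132406 F336985 (iv3 F250300) D214370 F374658 F332260 (iv4 F394445) F394446 (iv1 F216257)
theorem F474821 : act 2 n208281 = n214370 := d15_3 (iv0 D214370) (iv0 F373075) (iv7 F448720)
theorem F474822 : act 1 n207514 = n214370 := d15_0 (iv0 D214370) (iv7 F434597) (iv2 F445231)
theorem F474823 : act 7 n214370 = n208287 := d15_2 F445235 F474822 (iv2 D208287)
theorem F474824 : act 6 n188740 = n214370 := d7_0 F474820 (iv6 D188741) D188740
def n214371 : Q := act 6 n158971
theorem D214371 : act 6 n158971 = n214371 := rfl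
theorem F474825 : act 2 n214371 = n208446 := d3_1 D214371 (iv6 D208446) F336982
theorem F474826 : act 3 n214371 = n210226 := d7_1 D214371 F456649 F434595
theorem F474827 : act 4 n214371 = n206722 := d10_1 D214371 (iv6 D206722) (iv4 F336981)
theorem F474828 : act 7 n214371 = n209282 := d14_2 D158971 D214371 (iv6 F467066) F450901 F363953
theorem F474829 : act 0 n209281 = n214371 := d21_4 (iv5 F386031) (iv1 F396711) F396709 D209281 (iv6 D214371) F250302 (iv1 F230301) (iv5 F347314) (iv6 D136104) D136101
theorem F474830 : act 0 n205735 = n205704 := d20_4 (iv4 F453035) F474829 F474827 F441970 (iv3 D205704) (iv4 D126539) (iv1 F93643) (iv4 F95383) (iv3 F207593) D206822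
theorem F474831 : act 1 n207858 = n205704 := d15_0 (iv0 F474830) (iv7 F442961) (iv2 F446753)
theorem F474832 : act 1 n208481 = n214371 := d15_1 (iv0 F450910) F474828 F467067
def n214372 : Q := act 4 n159053
theorem D214372 : act 4 n159053 = n214372 := rfl
theorem F474833 : act 2 n214372 = n197535 := d1_1 D214372 F434431 F434434
theorem F474834 : act 3 n214372 = n193271 := d5_1 D214372 (iv4 F448160) (iv3 F453403) (iv4 D209364) F348499
theorem F474835 : act 6 n214372 = n212706 := d10_2 (iv6 F348498) D214372 F467177
theorem F474836 : act 5 n214372 = n208323 := d16_1 D214372 (iv4 D208323) (iv5 D134158) F98332 D63036 F331622 D159058 (iv7 F434429) F434434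
theorem F474837 : act 0 n214372 = n214078 := d17_0 F473375 F450296 (iv5 D205008) (iv4 D125089) D125090 F434560 F434558 (iv0 F428964) D214372
def n214373 : Q := act 3 n159159
theorem D214373 : act 3 n159159 = n214373 := rfl
theorem F474838 : act 2 n214373 = n208781 := d0_1 D214373 (iv3 F450842) F452645 (iv3 D209189) (iv2 F386309)
theorem F474839 : act 5 n214373 = n209366 := d6_2 (iv5 F359222) D214373 (iv3 D209366)
theorem F474840 : act 6 n214373 = n210657 := d7_2 F359223 D214373 (iv3 D210657)
theorem F474841 : act 7 n214373 = n208782 := d8_2 (iv7 F386308) D214373 (iv3 F450836)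
theorem F474842 : act 4 n214373 = n208694 := d20_6 F48612 (iv1 F48596) (iv4 F99416) (iv3 F322825) D159159 D214373 (iv1 F453561) (iv4 D209396) (iv3 D136402) (iv1 D64124)
theorem F474843 : act 0 n208776 = n214373 := d18_2 (iv1 F450080) D208776 F474842 (iv5 D208694) (iv4 F362913) (iv0 D144867) (iv4 F227810) F404645 (iv5 F450079)
theorem F474844 : act 0 n214373 = n208601 := d20_7 (iv4 F100939) (iv1 D65158) (iv4 F98598) (iv3 F216858) (iv1 F365159) (iv3 F450477) (iv4 F474842) (iv4 D208601) F216888 (iv1 F98691)
def n214374 : Q := act 4 n159159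
theorem D214374 : act 4 n159159 = n214374 := rfl
theorem F474845 : act 2 n214374 = n204561 := d1_1 D214374 F449000 (iv2 F386309)
theorem F474846 : act 3 n214374 = n204557 := d5_1 D214374 F450742 (iv3 F450477) (iv4 F474842) (iv3 D214373)
theorem F474847 : act 5 n214374 = n196366 := d9_2 (iv5 F359222) D214374 F400486 (iv5 F406551) (iv4 F472345) F472344 (iv4 D209368) F343267 (iv4 F449947) (iv5 D208571) F216777 D197732 F405564 (iv5 F453415) (iv4 D209367)
theorem F474848 : act 6 n214374 = n199517 := d10_2 F359223 D214374 F412958
theorem F474849 : act 7 n214374 = n196365 := d11_2 (iv7 F386308) D214374 (iv4 F400481)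
theorem F474850 : act 0 n214374 = n204563 := d17_0 (iv5 F457498) F457501 (iv5 F448463) F448462 (iv5 F410580) F410579 D135922 (iv0 F359225) D214374
theorem F474851 : act 1 n214374 = n204218 := d18_6 F432666 F432665 (iv1 F453416) (iv4 D209367) (iv5 F359222) D214374 F431528 (iv0 F373203) (iv5 F388949)
def n214375 : Q := act 5 n159184
theorem D214375 : act 5 n159184 = n214375 := rfl
theorem F474852 : act 3 n214375 = n159185 := d6_1 D214375 (iv5 D159185) D159184
theorem F474853 : act 1 n214375 = n199245 := d17_6 (iv1 F199116) (iv5 F336028) F336027 F320976 (iv4 F250664) D214375 F411305 F407435 F407433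
theorem F474854 : act 4 n214375 = n174592 := d18_5 D196486 F400855 (iv1 D159201) (iv4 F250664) D214375 (iv0 D174592) (iv4 F401999) (iv0 D107385) (iv5 F164967)
theorem F474855 : act 6 n214375 = n199815 := d21_3 F433847 F431989 D214375 F413616 F206484 D128391 F386107 F386105 (iv6 F353010) F433850
theorem F474856 : act 0 n214375 = n204833 := d21_7 (iv5 F459809) F459814 (iv5 D178150) (iv6 F358888) (iv1 F318834) F253489 D214375 (iv5 D204833) D204834 F466428
def n214376 : Q := act 4 n159185
theorem D214376 : act 4 n159185 = n214376 := rfl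
theorem F474857 : act 2 n214376 = n201950 := d1_1 D214376 F422488 F345408
theorem F474858 : act 3 n214376 = n202326 := d5_1 D214376 F423634 F423638 (iv4 F474854) F474852
theorem F474859 : act 5 n214376 = n201930 := d9_2 D159185 D214376 F422414 F325437 (iv4 D76821) D76822 D160286 F345403 (iv4 F401421) F401422 F324311 (iv5 D76093) F54984 D34772 D76121
theorem F474860 : act 6 n214376 = n199816 := d10_2 F363573 D214376 (iv4 D199816)
theorem F474861 : act 0 n214376 = n204807 := d17_0 (iv5 D204807) (iv1 D124385) D124387 (iv4 F407414) (iv5 D198270) F324494 (iv5 F351085) F351083 D214376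
theorem F474862 : act 1 n214376 = n204804 := d18_6 (iv1 F351533) F197899 (iv1 F301551) D76121 D159185 D214376 F433647 F351530 F351528
def n214377 : Q := act 5 n159276
theorem D214377 : act 5 n159276 = n214377 := rfl
theorem F474863 : act 3 n214377 = n197487 := d6_1 D214377 (iv5 F404525) F407250
theorem F474864 : act 7 n214377 = n210092 := d13_2 (iv7 F414327) D214377 F456120
theorem F474865 : act 1 n214377 = n199926 := d17_6 F359069 (iv5 F315533) F351950 (iv5 F330171) D159276 D214377 (iv5 D199926) D199925 F414181
theorem F474866 : act 6 n214377 = n197485 := d21_3 F414279 F414278 D214377 F439047 (iv6 D112984) D112983 D200324 F415999 (iv6 F425875) (iv1 F425878)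
def n214378 : Q := act 5 n159281
theorem D214378 : act 5 n159281 = n214378 := rfl
theorem F474867 : act 2 n214378 = n210092 := d2_1 D214378 F456120 F414323
theorem F474868 : act 3 n214378 = n212158 := d6_1 D214378 F464546 F435889
theorem F474869 : act 6 n214378 = n210091 := d12_2 (iv6 F381053) D214378 (iv5 F462101) (iv6 D211553) F225888
theorem F474870 : act 0 n214378 = n199926 := d17_2 (iv1 F414428) D214378 (iv5 D199926) (iv4 F175084) (iv5 F340647) D193107 (iv5 F409445) (iv0 F409446) F414429
def n214379 : Q := act 5 n159287
theorem D214379 : act 5 n159287 = n214379 := rfl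
theorem F474871 : act 2 n214379 = n192331 := d2_1 D214379 F386458 (iv2 F342348)
theorem F474872 : act 3 n214379 = n204247 := d6_1 D214379 (iv5 D204247) F342344
theorem F474873 : act 7 n214379 = n192330 := d13_2 (iv7 F342345) D214379 F386456
theorem F474874 : act 0 n214379 = n192329 := d17_2 (iv1 F342351) D214379 (iv5 D192329) D192328 (iv5 F386452) (iv0 D174173) (iv5 D83256) F318963 (iv4 F270069)
theorem F474875 : act 1 n214379 = n191907 := d17_6 (iv1 F239257) F330174 (iv1 D76202) D76204 D159287 D214379 (iv5 D191907) D191904 (iv4 F384778)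
theorem F474876 : act 4 n214379 = n211683 := d20_2 F473057 (iv1 F474875) (iv3 D211683) F391297 F391295 (iv4 D119491) D119489 D203541 (iv3 F470936) (iv1 F473059)
def n214380 : Q := act 5 n159304
theorem D214380 : act 5 n159304 = n214380 := rfl
theorem F474877 : act 2 n214380 = n180632 := d2_1 D214380 (iv5 D180632) (iv2 F256564)
theorem F474878 : act 6 n214380 = n189964 := d12_2 (iv6 F348562) D214380 (iv5 D189964) (iv6 F348572) F348560
theorem F474879 : act 7 n214380 = n180630 := d13_2 F256563 D214380 (iv5 D180630)
theorem F474880 : act 0 n214380 = n164140 := d17_2 D159304 D214380 (iv5 D164140) (iv4 D78855) (iv5 F254077) F55916 F55912 F55012 D76209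
theorem F474881 : act 1 n214380 = n164131 := d17_6 (iv1 F280845) F250809 (iv1 F257782) (iv5 F248744) (iv4 F250781) D214380 (iv5 D164131) (iv0 F327408) F327411
theorem F474882 : act 4 n214380 = n211810 := d18_5 (iv1 F113714) (iv4 F116019) (iv1 F254411) (iv4 F250781) D214380 F463164 (iv4 D176901) F250193 (iv5 D158902)
def n214381 : Q := act 0 n159307
theorem D214381 : act 0 n159307 = n214381 := rfl
theorem F474883 : act 5 n214381 = n180446 := d17_3 F326843 D159307 D214381 (iv4 D180446) (iv5 F201643) F258467 (iv5 F254070) D160971 (iv4 F326846)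
theorem F474884 : act 4 n214381 = n214194 := d18_1 D214381 (iv1 D214194) F356904 (iv5 D84320) D84319 (iv0 F254410) (iv4 F250781) (iv0 D159304) D159307
theorem F474885 : act 2 n180639 = n214381 := d15_3 (iv0 D214381) F414691 F414687
theorem F474886 : act 1 n159324 = n214381 := d15_0 (iv0 D214381) F254474 (iv2 F254475)
theorem F474887 : act 7 n214381 = n180638 := d15_2 F414690 F474886 (iv2 F414692)
def n214382 : Q := act 4 n159307
theorem D214382 : act 4 n159307 = n214382 := rfl
theorem F474888 : act 2 n214382 = n180682 := d1_1 D214382 (iv4 D180682) (iv2 F254481)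
theorem F474889 : act 3 n214382 = n191141 := d5_1 D214382 (iv4 D191141) F150052 D190393 (iv3 F379657)
theorem F474890 : act 7 n214382 = n180640 := d11_2 (iv7 F254474) D214382 (iv4 D180640)
theorem F474891 : act 5 n214382 = n204748 := d16_1 D214382 (iv4 F434847) (iv5 D164011) (iv4 D78796) F250795 D76214 D159324 (iv7 F254480) (iv2 F254481)
theorem F474892 : act 0 n214382 = n198817 := d18_2 (iv1 F414691) D214382 F409379 (iv5 D164094) F120003 F67483 D92191 (iv0 F258622) (iv5 F414686)
theorem F474893 : act 1 n214382 = n188480 := d18_6 (iv1 D75817) F54921 D34808 D76209 D159307 D214382 (iv4 D188480) (iv0 F250821) (iv5 D158900)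
def n214383 : Q := act 6 n159322
theorem D214383 : act 6 n159322 = n214383 := rfl
theorem F474894 : act 2 n214383 = n177613 := d3_1 D214383 (iv6 F358039) (iv2 F254271)
theorem F474895 : act 4 n214383 = n159323 := d10_1 D214383 (iv6 D159323) D159322
theorem F474896 : act 7 n214383 = n177612 := d14_2 F254272 D214383 (iv6 F416540) F416541 (iv6 D180673)
theorem F474897 : act 0 n214383 = n177602 := d21_4 D180366 (iv1 F389598) (iv5 F389596) D214383 (iv6 F383878) F383876 (iv1 F383694) (iv5 F434090) F434093 (iv1 D180364)
theorem F474898 : act 1 n214383 = n177617 := d15_1 (iv0 F474897) (iv7 D177617) (iv2 F277068)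
def n214384 : Q := act 4 n159324
theorem D214384 : act 4 n159324 = n214384 := rfl
theorem F474899 : act 2 n214384 = n180640 := d1_1 D214384 (iv4 D180640) (iv2 F254475)
theorem F474900 : act 3 n214384 = n208030 := d5_1 D214384 (iv4 D208030) (iv3 F362778) (iv4 F383175) F383173
theorem F474901 : act 5 n214384 = n204747 := d9_2 D159324 D214384 F433463 (iv5 D164003) (iv4 D78791) (iv5 F250799) D76209 D159307 D214382 F474891 (iv4 F434847) (iv5 D164011) (iv4 D78796) F250795 D76214
theorem F474902 : act 7 n214384 = n180682 := d11_2 F254480 D214384 (iv4 D180682)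
theorem F474903 : act 0 n214384 = n188480 := d18_2 (iv1 F474886) D214384 (iv4 D188480) (iv5 D92177) F67475 D43107 D92196 (iv0 F280849) (iv5 F474883)
theorem F474904 : act 1 n214384 = n198817 := d18_6 (iv1 F113709) F59908 (iv1 F55016) D76214 D159324 D214384 F409379 F258627 (iv5 D158896)
theorem F474905 : act 6 n214384 = n179100 := d21_5 (iv5 D112238) (iv1 F166189) D110322 D198817 (iv1 F474904) F279038 (iv1 D124995) D124997 (iv6 F414322) (iv1 F414319)
def n214385 : Q := act 6 n159324
theorem D214385 : act 6 n159324 = n214385 := rfl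
theorem F474906 : act 2 n214385 = n180641 := d3_1 D214385 (iv6 D180641) (iv2 F254475)
theorem F474907 : act 3 n214385 = n207170 := d7_1 D214385 F443631 F383173
theorem F474908 : act 4 n214385 = n179100 := d10_1 D214385 (iv6 F474905) (iv4 D214384)
theorem F474909 : act 5 n214385 = n204983 := d12_1 D214385 F434449 (iv5 F338791) (iv6 D159325) D159324
theorem F474910 : act 7 n214385 = n207168 := d14_2 F254480 D214385 (iv6 D207168) (iv7 F210035) F359171
theorem F474911 : act 0 n200008 = n214385 := d21_4 (iv5 D60473) D60470 D128569 (iv6 F414597) (iv6 D214385) (iv5 D159324) (iv1 F326844) (iv5 F413846) (iv6 F413849) (iv1 D128575)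
theorem F474912 : act 1 n214154 = n214385 := d15_0 (iv0 F474911) F414598 (iv2 F473753)
def n214386 : Q := act 3 n159332
theorem D214386 : act 3 n159332 = n214386 := rfl
theorem F474913 : act 7 n214386 = n197502 := d8_2 F371581 D214386 F404587
def n214387 : Q := act 3 n159335
theorem D214387 : act 3 n159335 = n214387 := rfl
theorem F474914 : act 2 n214387 = n188359 := d0_1 D214387 (iv3 F373180) (iv2 F471308) F471309 (iv2 F428007)
theorem F474915 : act 6 n214387 = n193399 := d7_2 (iv6 F391800) D214387 (iv3 F391798)
theorem F474916 : act 7 n214387 = n186788 := d8_2 (iv7 F362843) D214387 F368020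
theorem F474917 : act 5 n188239 = n214387 := d13_3 F474916 F368021 F372790
theorem F474918 : act 1 n188361 = n214387 := d15_1 F373183 F474916 F368019
theorem F474919 : act 0 n187633 = n214387 := d21_10 (iv5 F474917) (iv1 F372795) (iv5 F370925) F370926 (iv1 F370967) (iv6 F389692) F389691 (iv1 F373141) (iv5 D187632) D187633
def n214388 : Q := act 5 n159335
theorem D214388 : act 5 n159335 = n214388 := rfl
theorem F474920 : act 2 n214388 = n213611 := d2_1 D214388 F471289 (iv2 F428007)
theorem F474921 : act 3 n214388 = n188239 := d6_1 D214388 F474917 (iv3 D214387)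
theorem F474922 : act 4 n214388 = n159411 := d9_1 D214388 (iv5 D159411) (iv4 D76255) F55715 D70200 (iv5 F186919) (iv4 F250830) (iv5 F362838) (iv4 F362836) (iv5 D159416) (iv4 D76258) (iv5 F93556) D70201 (iv5 F186923) (iv4 F250833)
theorem F474923 : act 7 n214388 = n193791 := d13_2 (iv7 F362843) D214388 F391012
theorem F474924 : act 0 n214388 = n203362 := d17_2 (iv1 F250832) D214388 (iv5 D203362) (iv4 D118769) (iv5 F86493) (iv0 F94172) F114182 F114181 D152771
theorem F474925 : act 1 n214388 = n191277 := d17_6 F178131 F178129 (iv1 F106663) (iv5 F186923) (iv4 F250833) D214388 F382857 (iv0 F205914) (iv4 D127957)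
def n214389 : Q := act 2 n159336
theorem D214389 : act 2 n159336 = n214389 := rfl
theorem F474926 : act 4 n214389 = n159366 := d1_2 (iv4 F250834) D214389 (iv2 D159366)
theorem F474927 : act 1 n214389 = n212449 := d15_0 (iv0 F465836) F421865 D214389
theorem F474928 : act 1 n203756 = n214389 := d15_0 F474927 F465835 F442581
def n214390 : Q := act 5 n159336
theorem D214390 : act 5 n159336 = n214390 := rfl
theorem F474929 : act 3 n214390 = n159337 := d6_1 D214390 (iv5 D159337) D159336
theorem F474930 : act 0 n212440 = n214390 := d19_0 (iv5 D214390) F250834 (iv3 D76232) D76230 (iv5 F114212) (iv4 D60448) F46287 D54860 (iv5 F179187) F179188 (iv3 F166761) (iv1 F166759) (iv5 F185670) (iv4 F185673) D119631 F366540 D156148 (iv4 F432732) (iv3 F465801)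
def n214391 : Q := act 0 n159337
theorem D214391 : act 0 n159337 = n214391 := rfl
theorem F474931 : act 5 n214391 = n159396 := d17_1 D214391 (iv1 F251705) (iv5 F467689) (iv4 D212834) (iv5 D150577) F107523 D118734 D203329 (iv4 F427909)
theorem F474932 : act 4 n214391 = n159406 := d18_1 D214391 F251015 (iv4 F428064) F428063 (iv4 D118868) F186920 (iv4 F250830) (iv0 D159334) D159337
theorem F474933 : act 1 n159427 = n214391 := d15_0 (iv0 D214391) (iv7 F428015) F428013
theorem F474934 : act 2 n206255 = n214391 := d1_3 F474932 F251014 D206255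
theorem F474935 : act 6 n191287 = n214391 := d10_0 F474932 (iv6 F352728) (iv4 F382879)
theorem F474936 : act 7 n206254 = n214391 := d11_0 F474932 (iv7 F457742) F457739
def n214392 : Q := act 1 n159337
theorem D214392 : act 1 n159337 = n214392 := rfl
theorem F474937 : act 1 n214392 = n159427 := d15_1 D214392 (iv7 F428011) F428009
theorem F474938 : act 7 n214392 = n206255 := d15_2 (iv0 D214391) D214392 F474934
theorem F474939 : act 5 n214392 = n159403 := d17_7 F114573 (iv5 D54654) F42250 D34811 D76219 D159337 D214392 (iv0 F251704) (iv4 D159754)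
theorem F474940 : act 4 n214392 = n159399 := d17_9 F250995 (iv5 D118871) (iv1 F114301) D159416 F362836 F362838 (iv0 D159334) D159337 D214392
theorem F474941 : act 6 n213483 = n214392 := d21_3 F431644 (iv1 F430328) (iv5 F470612) (iv1 D214392) (iv6 F427876) (iv5 D203323) (iv1 F314665) (iv5 F428136) (iv6 F428139) (iv1 F431645)
theorem F474942 : act 2 n214392 = n206254 := d3_1 F474941 F439941 (iv2 F470611)
def n214393 : Q := act 0 n159338
theorem D214393 : act 0 n159338 = n214393 := rfl
theorem F474943 : act 4 n214393 = n199786 := d18_3 F439933 F375021 D214393 F413505 (iv4 F331287) (iv0 F373251) F373250 F365477 D206251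
theorem F474944 : act 5 n214393 = n188712 := d19_1 D214393 (iv4 D188712) F142853 D127818 (iv5 F345177) F226957 (iv3 F322245) (iv1 F324609) F324610 F114297 (iv3 D76257) (iv1 D34834) (iv5 D16885) (iv4 F27611) F27610 D16868 D34813 D76221 D159338
theorem F474945 : act 3 n214393 = n183992 := d20_5 F206679 (iv1 D76220) D76221 D159338 D214393 (iv4 D183992) (iv1 F335362) (iv4 F206683) (iv3 D128516) D128515
theorem F474946 : act 6 n214393 = n201759 := d21_5 (iv5 D64099) D64096 D136332 (iv6 F343650) D214393 F421711 (iv1 F374299) (iv5 F250866) (iv6 F341587) (iv1 D136341)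
theorem F474947 : act 1 n201760 = n214393 := d15_0 (iv0 D214393) F250835 D201760
theorem F474948 : act 2 n201759 = n214393 := d0_5 F474945 F285876 D193032 F388561 F441482
theorem F474949 : act 7 n193035 = n214393 := d8_0 F474945 F285874 D193035
def n214394 : Q := act 1 n159338
theorem D214394 : act 1 n159338 = n214394 := rfl
theorem F474950 : act 1 n214394 = n201760 := d15_1 D214394 F421716 F375122
theorem F474951 : act 7 n214394 = n201759 := d15_2 (iv0 D214393) D214394 F474948
theorem F474952 : act 5 n214394 = n201746 := d17_7 (iv1 F251923) F251921 (iv1 F177350) D92871 (iv4 F360964) F250877 D214394 F421654 (iv4 D188644)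
theorem F474953 : act 3 n207864 = n214394 := d19_19 (iv1 D214394) (iv5 F250877) F360964 (iv3 F360957) (iv1 D151350) (iv5 F360969) (iv4 F374435) (iv3 D188681) (iv1 D92649) D92651 (iv4 F356751) (iv3 F381530) F424277 (iv5 F471278) F471277 (iv3 F366811) F454090 (iv5 D209543) F446789
theorem F474954 : act 2 n214394 = n193035 := d0_1 F474953 (iv3 D193035) (iv2 F285880) F388379 F446788
def n214395 : Q := act 7 n159339
theorem D214395 : act 7 n159339 = n214395 := rfl
theorem F474955 : act 2 n214395 = n201750 := d4_1 D214395 (iv7 D201750) (iv2 F250836)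
theorem F474956 : act 3 n214395 = n206882 := d8_1 D214395 F442508 F343649
theorem F474957 : act 4 n214395 = n159342 := d11_1 D214395 (iv7 D159342) (iv4 F250837)
theorem F474958 : act 5 n214395 = n205711 := d13_1 D214395 F437525 (iv5 F343648)
theorem F474959 : act 6 n214395 = n201764 := d14_1 D214395 (iv7 D201764) (iv6 D115047) (iv7 F114189) D159339
theorem F474960 : act 1 n201748 = n214395 := d15_1 D201748 (iv7 D214395) F250836
theorem F474961 : act 1 n214395 = n201033 := d15_1 F474960 (iv7 F421911) F421909
def n214396 : Q := act 6 n159341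
theorem D214396 : act 6 n159341 = n214396 := rfl
theorem F474962 : act 2 n214396 = n201150 := d3_1 D214396 (iv6 F419277) F398913
theorem F474963 : act 3 n214396 = n187934 := d7_1 D214396 (iv6 F452074) F428066
theorem F474964 : act 7 n214396 = n201149 := d14_2 F398915 D214396 F421175 F421538 (iv6 F421539)
theorem F474965 : act 0 n214396 = n195187 := d21_4 (iv5 F189733) (iv1 F377477) F377480 D214396 F396158 F375208 D207242 F443936 (iv6 F396528) (iv1 F396530)
theorem F474966 : act 0 n195188 = n214396 := d21_4 F374248 (iv1 F386904) F386901 (iv6 F396162) (iv6 D214396) (iv5 F377480) (iv1 D189707) (iv5 F374263) (iv6 D188633) D188630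
def n214397 : Q := act 6 n159343
theorem D214397 : act 6 n159343 = n214397 := rfl
theorem F474967 : act 2 n214397 = n201153 := d3_1 D214397 F419284 F374297
theorem F474968 : act 3 n214397 = n159344 := d7_1 D214397 (iv6 D159344) D159343
theorem F474969 : act 4 n214397 = n195188 := d10_1 D214397 F396162 (iv4 F365412)
theorem F474970 : act 5 n214397 = n206880 := d12_1 D214397 (iv6 D206880) F358293 F341587 F250866
theorem F474971 : act 7 n201151 = n214397 := d13_0 F474970 (iv7 F446552) (iv5 F446555)
theorem F474972 : act 1 n206926 = n214397 := d18_6 D201027 F418800 D205413 F436295 (iv5 F421915) (iv4 F442629) F474969 (iv0 F418805) (iv5 D201028)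
def n214398 : Q := act 7 n159344
theorem D214398 : act 7 n159344 = n214398 := rfl
theorem F474973 : act 2 n214398 = n201764 := d4_1 D214398 (iv7 D201764) (iv2 F250846)
theorem F474974 : act 3 n214398 = n201151 := d8_1 D214398 F474971 F474968
theorem F474975 : act 4 n214398 = n159347 := d11_1 D214398 (iv7 D159347) (iv4 F250847)
theorem F474976 : act 5 n214398 = n200785 := d13_1 D214398 (iv7 F418462) F418463
theorem F474977 : act 6 n214398 = n201750 := d14_1 D214398 (iv7 D201750) (iv6 D115040) (iv7 F114193) D159344
theorem F474978 : act 1 n201763 = n214398 := d15_1 D201763 (iv7 D214398) F250846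
theorem F474979 : act 1 n214398 = n201762 := d15_1 F474978 (iv7 F421948) F421946
def n214399 : Q := act 3 n159346
theorem D214399 : act 3 n159346 = n214399 := rfl
theorem F474980 : act 2 n214399 = n201485 := d0_1 D214399 F427827 F427829 F421193 (iv2 F250851)
theorem F474981 : act 4 n214399 = n209450 := d5_2 F440499 D214399 (iv3 D209450) D209451 F453768
theorem F474982 : act 5 n214399 = n201512 := d6_2 F250850 D214399 F420789
theorem F474983 : act 6 n214399 = n201531 := d7_2 F250849 D214399 (iv3 F420879)
theorem F474984 : act 7 n214399 = n201484 := d8_2 F250859 D214399 (iv3 F420679)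
theorem F474985 : act 0 n214399 = n164500 := d19_4 (iv1 F439258) (iv5 F440498) F440499 D214399 (iv5 D164500) F321306 (iv3 D69493) (iv1 F105782) (iv5 F330674) (iv4 F330679) D200006 F414587 (iv5 D128566) F95035 F82536 (iv1 F102179) D107212 D196687 F418096
theorem F474986 : act 0 n201487 = n214399 := d20_4 F363999 (iv1 F406663) F406661 (iv3 F420684) (iv3 D214399) (iv4 F440499) (iv1 D206378) F206686 F94987 D119209
def n214400 : Q := act 3 n159348
theorem D214400 : act 3 n159348 = n214400 := rfl
theorem F474987 : act 2 n214400 = n188635 := d0_1 D214400 (iv3 D188635) F142639 (iv3 F365302) (iv2 F250861)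
theorem F474988 : act 4 n214400 = n159350 := d5_2 D159348 D214400 (iv3 D159350) (iv4 D76226) D76225
theorem F474989 : act 5 n214400 = n190497 := d6_2 F363561 D214400 F379910
theorem F474990 : act 7 n214400 = n188818 := d8_2 (iv7 F250862) D214400 (iv3 D188818)
theorem F474991 : act 0 n214400 = n188881 := d19_4 D42403 (iv5 F114196) D159348 D214400 F375128 (iv4 F372089) (iv3 F453891) F453889 (iv5 D191994) (iv4 D99485) D99484 F177440 D194260 F392544 F370586 (iv1 D187497) (iv5 D90278) (iv4 F65490) F65489
theorem F474992 : act 0 n188880 = n214400 := d20_4 F185980 (iv1 F240278) F240281 (iv3 F375126) (iv3 D214400) (iv4 D159348) (iv1 F178539) (iv4 F242889) F242888 (iv1 F185982)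
theorem F474993 : act 6 n214400 = n209354 := d21_5 F401038 (iv1 F165039) D145326 (iv6 F401029) F474992 F453368 F463404 (iv5 F464445) (iv6 D212132) (iv1 F401040)
def n214401 : Q := act 6 n159348
theorem D214401 : act 6 n159348 = n214401 := rfl
theorem F474994 : act 2 n214401 = n188812 := d3_1 D214401 (iv6 D188812) (iv2 F250861)
theorem F474995 : act 3 n214401 = n209354 := d7_1 D214401 (iv6 F474993) (iv3 D214400)
theorem F474996 : act 4 n214401 = n159349 := d10_1 D214401 (iv6 D159349) D159348
theorem F474997 : act 5 n214401 = n196355 := d12_1 D214401 (iv6 D196355) F225650 D140431 F363561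
theorem F474998 : act 0 n214401 = n187890 := d21_10 (iv5 D187890) D187888 F375380 (iv6 D188651) (iv1 F142850) (iv6 F178142) (iv5 F349169) F363560 F363561 D214401
def n214402 : Q := act 7 n159349
theorem D214402 : act 7 n159349 = n214402 := rfl
theorem F474999 : act 2 n214402 = n188816 := d4_1 D214402 (iv7 D188816) (iv2 F250863)
theorem F475000 : act 3 n214402 = n159354 := d8_1 D214402 (iv7 D159354) (iv3 F250864)
theorem F475001 : act 5 n214402 = n189324 := d13_1 D214402 (iv7 D189324) (iv5 F250865)
theorem F475002 : act 6 n214402 = n188822 := d14_1 D214402 (iv7 D188822) (iv6 D92821) (iv7 F114197) D159349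
theorem F475003 : act 1 n188814 = n214402 := d15_1 D188814 (iv7 D214402) F250863
theorem F475004 : act 1 n214402 = n188813 := d15_1 F475003 (iv7 F376952) F376954
def n214403 : Q := act 1 n159350
theorem D214403 : act 1 n159350 = n214403 := rfl
def n214404 : Q := act 2 n159350
theorem D214404 : act 2 n159350 = n214404 := rfl
theorem F475005 : act 3 n214404 = n188632 := d0_2 D159350 D214404 F374260 (iv3 D115053) (iv2 F114198)
theorem F475006 : act 4 n214404 = n188635 := d1_2 F474988 D214404 (iv2 F474987)
theorem F475007 : act 5 n214404 = n188644 := d2_2 (iv5 F250866) D214404 F374297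
theorem F475008 : act 6 n214404 = n207684 := d3_2 F341587 D214404 F445998
theorem F475009 : act 7 n214404 = n188878 := d4_2 (iv7 F250867) D214404 F375119
theorem F475010 : act 1 n214404 = n201783 := d15_0 (iv0 D201783) (iv7 F250867) D214404
theorem F475011 : act 1 n214403 = n188878 := d15_1 D214403 (iv7 F475009) (iv2 D214404)
theorem F475012 : act 2 n201783 = n214403 := d15_3 F475011 (iv0 F442600) F442599
theorem F475013 : act 3 n214403 = n207722 := d20_5 (iv4 D188876) (iv1 D92875) D92876 D188878 (iv1 F475011) (iv4 F460704) (iv1 F460707) F454387 (iv3 F419299) (iv1 F375113)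
theorem F475014 : act 6 n207719 = n214403 := d7_0 F475013 (iv6 D207722) D207719
theorem F475015 : act 7 n201784 = n214403 := d8_0 F475013 (iv7 F460693) F460691
theorem F475016 : act 2 n206916 = n201784 := d4_3 F475015 (iv2 F475012) (iv7 F442599)
theorem F475017 : act 1 n201784 = n214404 := d15_0 F475010 (iv7 F442599) F475016
def n214405 : Q := act 0 n159351
theorem D214405 : act 0 n159351 = n214405 := rfl
theorem F475018 : act 5 n214405 = n206444 := d17_3 F445814 F442485 D214405 (iv4 D206444) D206445 (iv0 F440843) F206938 F400026 (iv4 F445810)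
theorem F475019 : act 4 n214405 = n159483 := d20_2 (iv4 F250869) D214405 (iv3 F379603) (iv1 F450643) F450639 (iv4 D193396) F320823 (iv4 F402791) F403396 (iv1 D159353)
theorem F475020 : act 6 n214405 = n207706 := d21_5 F177684 F114684 (iv5 F114200) D159351 D214405 F446091 (iv1 F421667) (iv5 D201749) (iv6 D115040) (iv1 F177686)
theorem F475021 : act 3 n207707 = n214405 := d7_3 F475020 (iv3 D207706) D207707
theorem F475022 : act 2 n214405 = n201772 := d0_1 F475021 (iv3 F442353) F445836 (iv3 F445834) (iv2 F446094)
theorem F475023 : act 0 n214405 = n201775 := d20_4 F396570 F450929 F450927 F475021 F421760 F421220 (iv1 F398901) (iv4 F445782) F445781 (iv1 F442304)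
theorem F475024 : act 7 n201773 = n214405 := d15_2 (iv0 D201772) D201773 F475022
def n214406 : Q := act 1 n159351
theorem D214406 : act 1 n159351 = n214406 := rfl
theorem F475025 : act 1 n214406 = n201775 := d15_1 D214406 (iv7 D201775) (iv2 F250868)
theorem F475026 : act 7 n214406 = n201772 := d15_2 (iv0 D214405) D214406 (iv2 F475022)
theorem F475027 : act 4 n214406 = n159484 := d18_7 (iv1 F214484) D207192 (iv1 F443731) F210025 (iv5 F114203) (iv4 F250869) D214406 F398557 F398555
theorem F475028 : act 5 n214406 = n206446 := d18_9 F441357 F441356 (iv1 D206565) (iv4 F347621) (iv5 F396533) F396532 (iv0 D159352) (iv4 F250869) D214406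
theorem F475029 : act 2 n201773 = n214406 := d2_3 F475028 F440845 F421756
theorem F475030 : act 3 n207646 = n214406 := d6_3 F475028 F440847 (iv5 F445827)
def n214407 : Q := act 7 n159351
theorem D214407 : act 7 n159351 = n214407 := rfl
theorem F475031 : act 2 n214407 = n201775 := d4_1 D214407 (iv7 D201775) (iv2 F250868)
theorem F475032 : act 3 n214407 = n207688 := d8_1 D214407 F446017 (iv3 F341586)
theorem F475033 : act 4 n214407 = n159354 := d11_1 D214407 (iv7 D159354) (iv4 F250869)
theorem F475034 : act 5 n214407 = n207686 := d13_1 D214407 F446007 F442485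
theorem F475035 : act 6 n214407 = n201789 := d14_1 D214407 (iv7 D201789) (iv6 D115059) (iv7 F114199) D159351
theorem F475036 : act 1 n201773 = n214407 := d15_1 D201773 (iv7 D214407) F250868
theorem F475037 : act 1 n214407 = n201772 := d15_1 F475036 (iv7 F475026) (iv2 F475029)
def n214408 : Q := act 6 n159353
theorem D214408 : act 6 n159353 = n214408 := rfl
theorem F475038 : act 2 n214408 = n201782 := d3_1 D214408 (iv6 D201782) F399567
theorem F475039 : act 3 n214408 = n186444 := d7_1 D214408 F402793 F403396
theorem F475040 : act 0 n201156 = n214408 := d21_4 (iv5 D201028) D201027 F418799 D201156 (iv6 D214408) F403395 F421546 (iv5 F375208) (iv6 F396158) (iv1 F418804)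
theorem F475041 : act 1 n214246 = n214408 := d15_0 (iv0 F475040) (iv7 F420539) (iv2 F474193)
def n214409 : Q := act 0 n159355
theorem D214409 : act 0 n159355 = n214409 := rfl
theorem F475042 : act 5 n214409 = n206916 := d17_1 D214409 F442600 (iv5 F375121) (iv4 D92906) D92907 D188916 (iv5 F375194) F374255 (iv4 F360964)
theorem F475043 : act 4 n214409 = n187567 := d18_3 (iv1 F374250) (iv4 F360964) D214409 F372401 F372395 F373244 (iv4 F386900) F386904 (iv5 F374248)
theorem F475044 : act 3 n214409 = n206917 := d20_5 (iv4 D52620) (iv1 F55029) D76228 D159355 D214409 F442604 F436715 F385041 (iv3 D159360) (iv1 F114211)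
theorem F475045 : act 1 n188632 = n214409 := d15_0 (iv0 D214409) F250878 (iv2 F374260)
theorem F475046 : act 6 n201787 = n214409 := d7_0 F475044 F446910 (iv3 F446909)
theorem F475047 : act 7 n188031 = n214409 := d8_0 F475044 F442603 (iv3 F388580)
theorem F475048 : act 2 n214409 = n188033 := d15_3 (iv0 F373238) (iv0 F372183) F475047
def n214410 : Q := act 1 n159355
theorem D214410 : act 1 n159355 = n214410 := rfl
theorem F475049 : act 1 n214410 = n188632 := d15_1 D214410 F374261 (iv2 F360963)
theorem F475050 : act 7 n214410 = n188033 := d15_2 (iv0 D214409) D214410 (iv2 F475048)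
theorem F475051 : act 5 n214410 = n214403 := d17_7 D188880 F375125 (iv1 F372092) F375022 F375021 (iv5 F250877) D214410 F475011 F375120
theorem F475052 : act 4 n214410 = n187568 := d17_9 (iv1 D187568) (iv5 D90343) F176025 D92688 D188712 (iv5 F474944) (iv0 D214393) (iv5 F250877) D214410
theorem F475053 : act 2 n188031 = n214410 := d1_3 F475052 (iv2 F370832) D188031
def n214411 : Q := act 0 n159356
theorem D214411 : act 0 n159356 = n214411 := rfl
theorem F475054 : act 5 n214411 = n207816 := d17_3 F453322 F453321 D214411 F446578 F233502 D201624 (iv5 F421174) (iv0 D148738) (iv4 F233509)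
theorem F475055 : act 4 n214411 = n159488 := d20_8 (iv4 F418445) (iv1 F418446) F410875 (iv3 F427779) F427781 F238407 (iv4 F250880) D214411 (iv3 F251166) (iv1 F375321)
theorem F475056 : act 1 n201789 = n214411 := d15_0 (iv0 D214411) (iv7 F421219) (iv2 F421806)
theorem F475057 : act 2 n201786 = n214411 := d1_3 F475055 F398560 F460301
theorem F475058 : act 6 n206209 = n214411 := d10_0 F475055 F251165 D206209
theorem F475059 : act 7 n201787 = n214411 := d11_0 F475055 (iv7 F398563) (iv4 F421801)
theorem F475060 : act 3 n207818 = n214411 := d20_5 (iv4 F420898) (iv1 F420901) (iv4 F445849) (iv3 F446870) F446871 F475055 (iv1 F398574) (iv4 F453265) F453264 F421856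
def n214412 : Q := act 1 n159356
theorem D214412 : act 1 n159356 = n214412 := rfl
theorem F475061 : act 1 n214412 = n201789 := d15_1 D214412 (iv7 D201789) (iv2 F250879)
theorem F475062 : act 7 n214412 = n201786 := d15_2 (iv0 D214411) D214412 F475057
theorem F475063 : act 4 n214412 = n159489 := d18_7 F328381 F466914 (iv1 D212657) F233509 (iv5 F114209) (iv4 F250880) D214412 F398573 F398571
theorem F475064 : act 6 n188033 = n214412 := d21_3 (iv5 F475007) (iv1 F475017) F421793 (iv1 D214412) (iv6 D159356) F114205 (iv1 F114685) (iv5 F177684) (iv6 F374521) F374523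
theorem F475065 : act 2 n214412 = n201787 := d3_1 F475064 F475046 F475048
def n214413 : Q := act 5 n159357
theorem D214413 : act 5 n159357 = n214413 := rfl
theorem F475066 : act 2 n214413 = n201792 := d2_1 D214413 (iv5 D201792) F375203
theorem F475067 : act 3 n214413 = n187748 := d6_1 D214413 (iv5 F427983) F427982
theorem F475068 : act 7 n214413 = n201795 := d13_2 (iv7 F375202) D214413 (iv5 D201795)
theorem F475069 : act 4 n214413 = n206678 := d18_5 (iv1 D195874) (iv4 F250894) F441854 (iv4 F441852) D214413 (iv0 D206678) (iv4 F214627) (iv0 F374649) F398565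
theorem F475070 : act 0 n214413 = n212653 := d21_1 D214413 F466896 F421176 (iv1 D201450) F178585 F83782 F53341 (iv5 F55031) D76229 D159357
theorem F475071 : act 0 n159647 = n214413 := d21_10 (iv5 D214413) (iv1 F250885) (iv5 F251346) F251347 (iv1 F251356) (iv6 F327787) F327786 F161792 F114490 D159647
def n214414 : Q := act 3 n159358
theorem D214414 : act 3 n159358 = n214414 := rfl
theorem F475072 : act 2 n214414 = n201562 := d0_1 D214414 (iv3 F431374) (iv2 F419065) F419066 (iv2 F375200)
theorem F475073 : act 6 n214414 = n188873 := d7_2 F371471 D214414 (iv3 D188873)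
theorem F475074 : act 7 n214414 = n201561 := d8_2 F375201 D214414 F431379
theorem F475075 : act 4 n193011 = n214414 := d20_2 (iv4 F431326) F431328 (iv3 D214414) (iv1 D159358) (iv3 F238407) (iv4 F360959) F238460 (iv4 F335936) F366500 (iv1 F418398)
theorem F475076 : act 0 n214414 = n201083 := d17_0 F419031 (iv1 D135649) D135650 D209053 F452040 F431317 (iv5 F431390) F431392 F475075
theorem F475077 : act 1 n214414 = n201563 := d18_8 F363815 (iv4 F437478) (iv1 F437479) F418326 D200899 (iv4 F431389) F431392 F475075 F420947
def n214415 : Q := act 4 n159358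
theorem D214415 : act 4 n159358 = n214415 := rfl
theorem F475078 : act 2 n214415 = n201794 := d1_1 D214415 (iv4 D201794) (iv2 F375200)
theorem F475079 : act 3 n214415 = n193013 := d5_1 D214415 F388519 (iv3 F388516) F475075 (iv3 D214414)
theorem F475080 : act 6 n214415 = n188874 := d10_2 F371471 D214415 (iv4 D188874)
theorem F475081 : act 7 n214415 = n201791 := d11_2 F375201 D214415 (iv4 D201791)
theorem F475082 : act 0 n214415 = n159363 := d17_0 (iv5 F445777) F445779 D207913 F446973 (iv5 F421174) (iv0 D148738) (iv5 F114209) D159358 D214415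
theorem F475083 : act 1 n214415 = n201801 := d18_8 (iv1 F446963) F252006 D159855 (iv4 F453320) F453321 F250880 D159358 D214415 (iv5 F446961)
def n214416 : Q := act 3 n159364
theorem D214416 : act 3 n159364 = n214416 := rfl
theorem F475084 : act 6 n214416 = n195283 := d7_2 (iv6 F446388) D214416 (iv3 F396569)
theorem F475085 : act 2 n212401 = n214416 := d3_3 F475084 F442315 F465671
theorem F475086 : act 0 n212403 = n214416 := d21_4 (iv5 D207802) (iv1 F212421) (iv5 F441869) (iv6 F465677) F475084 F396571 (iv1 D132209) D132211 (iv6 F347257) (iv1 F446509)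
theorem F475087 : act 0 n214416 = n193003 := d21_4 (iv5 D206862) (iv1 F211820) (iv5 F396571) (iv6 F475084) (iv6 F388496) F183493 (iv1 F176918) (iv5 F231950) (iv6 F442287) (iv1 F442445)
def n214417 : Q := act 5 n159364
theorem D214417 : act 5 n159364 = n214417 := rfl
theorem F475088 : act 2 n214417 = n209340 := d2_1 D214417 F453314 (iv2 F421863)
theorem F475089 : act 6 n214417 = n208404 := d12_2 (iv6 F446388) D214417 F449213 F442193 F384542
theorem F475090 : act 7 n214417 = n195255 := d13_2 (iv7 F421860) D214417 (iv5 F421855)
theorem F475091 : act 4 n214417 = n209179 := d19_2 D159364 D214417 F452605 (iv1 F394228) (iv5 F471184) F471183 (iv3 F428141) (iv1 F428138) (iv5 D118885) (iv4 D54716) (iv3 F55652) F55653 (iv5 D26684) D26683 F42759 (iv1 D16869) D16870 D34817 D76232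
theorem F475092 : act 0 n159830 = n214417 := d21_1 F421640 (iv5 D214417) F446388 (iv1 F384541) (iv6 F366065) (iv5 D105493) D105490 D195278 (iv6 F421847) F458922
theorem F475093 : act 1 n209339 = n214417 := d15_0 (iv0 F475092) (iv7 F421642) (iv2 F453312)
def n214418 : Q := act 3 n159365
theorem D214418 : act 3 n159365 = n214418 := rfl
theorem F475094 : act 5 n214418 = n206593 := d6_2 (iv5 F421852) D214418 F441473
theorem F475095 : act 6 n214418 = n206594 := d7_2 F421853 D214418 F441483
theorem F475096 : act 0 n213717 = n214418 := d17_2 (iv1 F375105) (iv5 F471772) F475094 F441474 (iv5 F251985) F372398 (iv5 F372401) (iv0 D187567) D187569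
def n214419 : Q := act 4 n159365
theorem D214419 : act 4 n159365 = n214419 := rfl
theorem F475097 : act 6 n214419 = n209341 := d10_2 F421853 D214419 (iv4 D209341)
theorem F475098 : act 5 n185488 = n214419 := d21_2 (iv5 D185490) D185488 F475097 F453317 F446570 (iv5 D148788) (iv1 F106109) D117245 (iv6 F370528) F370531
def n214420 : Q := act 3 n159367
theorem D214420 : act 3 n159367 = n214420 := rfl
theorem F475099 : act 7 n214420 = n201157 := d8_2 (iv7 F418780) D214420 (iv3 D201157)
def n214421 : Q := act 4 n159367
theorem D214421 : act 4 n159367 = n214421 := rfl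
theorem F475100 : act 2 n214421 = n201155 := d1_1 D214421 (iv4 D201155) (iv2 F418782)
theorem F475101 : act 7 n214421 = n201158 := d11_2 (iv7 F418780) D214421 (iv4 D201158)
def n214422 : Q := act 5 n159367
theorem D214422 : act 5 n159367 = n214422 := rfl
theorem F475102 : act 2 n214422 = n201027 := d2_1 D214422 F418799 (iv2 F418782)
theorem F475103 : act 6 n214422 = n201045 := d12_2 F420541 D214422 (iv5 F420542) (iv6 D201449) D201448
theorem F475104 : act 7 n214422 = n201023 := d13_2 (iv7 F418780) D214422 F418778
theorem F475105 : act 4 n214422 = n205189 := d17_4 (iv1 D105369) (iv5 F114220) D159367 D214422 (iv5 D205189) (iv0 D125570) F92939 D106226 F383821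
theorem F475106 : act 1 n214422 = n195132 := d17_8 F417004 (iv5 D200570) (iv1 F395520) F395506 F161218 D114002 F250896 D214422 F395900
theorem F475107 : act 0 n159497 = n214421 := d18_2 (iv1 D159499) (iv4 F251174) (iv4 D214421) D214422 F475105 F435344 F418673 (iv0 F418641) F418642
theorem F475108 : act 0 n214422 = n201029 := d18_0 F418807 F391984 (iv4 F418317) F418319 (iv4 F421873) F421871 (iv4 D201146) F250896 D214422
theorem F475109 : act 0 n214420 = n188888 := d20_4 (iv4 F251174) F475107 (iv4 D214421) D214420 F375134 (iv4 F401834) (iv1 F459803) F459801 F448138 (iv1 D159499)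
theorem F475110 : act 1 n214420 = n188809 := d15_1 (iv0 F475109) (iv7 F413215) F413214
def n214423 : Q := act 4 n159368
theorem D214423 : act 4 n159368 = n214423 := rfl
theorem F475111 : act 2 n214423 = n201158 := d1_1 D214423 (iv4 D201158) F418779
theorem F475112 : act 7 n214423 = n201155 := d11_2 F418781 D214423 (iv4 D201155)
theorem F475113 : act 0 n214423 = n159497 := d18_2 (iv1 F250897) D214423 F251174 F114347 (iv4 F77471) D106226 F383821 F161585 D114002
def n214424 : Q := act 6 n159370
theorem D214424 : act 6 n159370 = n214424 := rfl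
theorem F475114 : act 2 n214424 = n159372 := d3_1 D214424 (iv6 D159372) (iv2 F250903)
theorem F475115 : act 3 n214424 = n194709 := d7_1 D214424 F394180 F335357
theorem F475116 : act 4 n214424 = n187848 := d10_1 D214424 (iv6 D187848) F250908
theorem F475117 : act 5 n214424 = n189633 := d12_1 D214424 (iv6 D189633) (iv5 D94263) (iv6 F114229) D159370
theorem F475118 : act 7 n214424 = n203445 := d14_2 (iv7 F250905) D214424 (iv6 F466613) F466614 (iv6 D201271)
theorem F475119 : act 0 n214424 = n213132 := d21_10 (iv5 F469133) (iv1 F376919) F372236 F251147 (iv1 F251148) (iv6 F161705) (iv5 D105381) (iv1 F114231) D159370 D214424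
def n214425 : Q := act 6 n159371
theorem D214425 : act 6 n159371 = n214425 := rfl
theorem F475120 : act 2 n214425 = n187848 := d3_1 D214425 (iv6 D187848) (iv2 F250909)
theorem F475121 : act 4 n214425 = n159372 := d10_1 D214425 (iv6 D159372) D159371
theorem F475122 : act 7 n214425 = n203773 := d14_2 (iv7 F250910) D214425 (iv6 F429761) F407427 (iv6 D187846)
theorem F475123 : act 0 n214425 = n179784 := d21_10 (iv5 F366887) D204221 (iv5 F470674) F470675 (iv1 F420449) (iv6 D201420) (iv5 F241266) D212861 F467840 D214425
theorem F475124 : act 5 n199784 = n214425 := d17_1 (iv1 F413499) F475123 (iv5 F366887) (iv4 F431441) (iv5 F468156) (iv0 D212926) (iv5 F376861) (iv0 D189548) (iv4 F374323)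
def n214426 : Q := act 1 n159372
theorem D214426 : act 1 n159372 = n214426 := rfl
theorem F475125 : act 1 n214426 = n203445 := d15_1 D214426 (iv7 F475118) F475114
theorem F475126 : act 7 n214426 = n213132 := d15_2 (iv0 F466665) D214426 F469132
theorem F475127 : act 5 n188069 = n214426 := d21_0 (iv1 D214426) F250914 (iv6 D106526) F83233 (iv6 F177698) (iv5 D114100) D114099 (iv5 F395451) F395452 (iv1 F376920)
theorem F475128 : act 6 n192806 = n214426 := d21_3 F461277 (iv1 F444056) (iv5 F387845) (iv1 D214426) (iv6 D159372) (iv5 D76236) D76234 D159369 F400391 (iv1 F461280)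
theorem F475129 : act 3 n214426 = n203583 := d7_1 F475128 (iv6 F428986) (iv3 F387848)
def n214427 : Q := act 7 n159372
theorem D214427 : act 7 n159372 = n214427 := rfl
theorem F475130 : act 2 n214427 = n203445 := d4_1 D214427 (iv7 F475118) F475114
theorem F475131 : act 3 n214427 = n159377 := d8_1 D214427 (iv7 D159377) (iv3 F250913)
theorem F475132 : act 4 n214427 = n203773 := d11_1 D214427 (iv7 F475122) F475121
theorem F475133 : act 5 n214427 = n196014 := d13_1 D214427 (iv7 D196014) (iv5 F250914)
theorem F475134 : act 6 n214427 = n201824 := d14_1 D214427 (iv7 D201824) (iv6 D115082) (iv7 F114234) D159372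
theorem F475135 : act 0 n213132 = n214427 := d21_1 F469133 F475133 (iv6 F399815) (iv1 F399816) F373945 F144626 (iv1 F69087) D43970 D94061 D189568
def n214428 : Q := act 0 n159373
theorem D214428 : act 0 n159373 = n214428 := rfl
theorem F475136 : act 5 n214428 = n192967 := d17_3 (iv1 F362782) (iv5 F250915) D214428 (iv4 D192967) (iv5 F375545) F375547 F368030 (iv0 D101086) D101088
theorem F475137 : act 4 n214428 = n193090 := d18_1 D214428 F420156 (iv4 F442384) (iv5 D206845) (iv4 F344184) F344238 D101097 (iv0 F343921) (iv5 F250915)
theorem F475138 : act 3 n214428 = n213740 := d20_5 F179154 (iv1 F94982) D76237 D159373 D214428 (iv4 D213740) F421689 F421686 (iv3 D115046) (iv1 F179151)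
theorem F475139 : act 1 n201825 = n214428 := d15_0 (iv0 D214428) F250916 D201825
theorem F475140 : act 6 n193088 = n214428 := d10_0 F475137 (iv6 D193090) D193088
theorem F475141 : act 2 n193020 = n214428 := d2_3 F475136 F388368 D193020
theorem F475142 : act 7 n193027 = n214428 := d13_0 F475136 F388370 D193027
def n214429 : Q := act 1 n159373
theorem D214429 : act 1 n159373 = n214429 := rfl
theorem F475143 : act 1 n214429 = n201825 := d15_1 D214429 F421933 F360999
theorem F475144 : act 7 n214429 = n193020 := d15_2 (iv0 D214428) D214429 F475141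
theorem F475145 : act 5 n214429 = n192969 := d17_7 (iv1 F285837) (iv5 F285838) F343917 (iv5 F343915) F343919 (iv5 F250915) D214429 F388386 F285886
theorem F475146 : act 3 n193092 = n214429 := d19_19 (iv1 D214429) F250915 (iv4 F343919) (iv3 F383477) F383480 (iv5 D99378) (iv4 F75372) (iv3 D47989) (iv1 D23151) D23152 D47992 D103621 (iv1 F365890) (iv5 F373412) (iv4 F405665) F405667 (iv1 F409204) (iv5 D193093) D193092
theorem F475147 : act 2 n193027 = n214429 := d2_3 F475145 F388383 D193027
def n214430 : Q := act 6 n159373
theorem D214430 : act 6 n159373 = n214430 := rfl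
theorem F475148 : act 2 n214430 = n212827 := d3_1 D214430 F467652 F360999
theorem F475149 : act 3 n214430 = n159374 := d7_1 D214430 (iv6 D159374) D159373
theorem F475150 : act 5 n205689 = n214430 := d6_0 F475149 F333529 (iv3 F437466)
def n214431 : Q := act 6 n159376
theorem D214431 : act 6 n159376 = n214431 := rfl
theorem F475151 : act 2 n214431 = n201822 := d3_1 D214431 (iv6 D201822) F399593
theorem F475152 : act 3 n214431 = n213508 := d7_1 D214431 F470751 (iv3 F460306)
theorem F475153 : act 0 n214431 = n195800 := d21_10 (iv5 D195800) (iv1 F163319) (iv5 F251160) (iv6 D159482) (iv1 F163406) D195842 F398413 F398989 F398988 D214431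
theorem F475154 : act 0 n195803 = n214431 := d21_4 (iv5 F251137) (iv1 F372404) (iv5 F374517) (iv6 F398254) (iv6 D214431) (iv5 F398988) (iv1 F398990) (iv5 D188042) (iv6 D90752) D90749
def n214432 : Q := act 6 n159382
theorem D214432 : act 6 n159382 = n214432 := rfl
theorem F475155 : act 2 n214432 = n195600 := d3_1 D214432 (iv6 D195600) F250938
theorem F475156 : act 3 n214432 = n188023 := d7_1 D214432 F372151 F250941
theorem F475157 : act 4 n214432 = n188838 := d10_1 D214432 (iv6 D188838) F329845
theorem F475158 : act 5 n214432 = n189109 := d12_1 D214432 (iv6 F375776) F178129 (iv6 F114978) (iv5 F250936)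
theorem F475159 : act 7 n214432 = n188019 := d14_2 (iv7 F250940) D214432 (iv6 D188019) (iv7 F142825) F142824
theorem F475160 : act 0 n214432 = n183172 := d21_4 (iv5 F115156) F115157 (iv5 F250936) D214432 (iv6 F356761) (iv5 D151341) (iv1 D71324) D71325 F107831 D71327
def n214433 : Q := act 6 n159389
theorem D214433 : act 6 n159389 = n214433 := rfl
theorem F475161 : act 2 n214433 = n159397 := d3_1 D214433 (iv6 D159397) (iv2 F250958)
theorem F475162 : act 3 n214433 = n184721 := d7_1 D214433 F356685 (iv3 F250959)
theorem F475163 : act 5 n214433 = n190372 := d12_1 D214433 F379596 (iv5 D131335) (iv6 F114252) D159389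
theorem F475164 : act 1 n207393 = n214433 := d18_8 F429900 (iv4 F430297) (iv1 F466693) F466689 (iv5 F450173) (iv4 D208615) D208614 F450168 F475163
def n214434 : Q := act 0 n159393
theorem D214434 : act 0 n159393 = n214434 := rfl
theorem F475165 : act 3 n214434 = n209521 := d20_5 F314668 (iv1 D76245) D76246 D159393 D214434 F464128 (iv1 D212048) (iv4 F427873) (iv3 D203322) (iv1 F314665)
theorem F475166 : act 7 n209536 = n214434 := d8_0 F475165 (iv7 F454014) D209536
def n214435 : Q := act 1 n159393
theorem D214435 : act 1 n159393 = n214435 := rfl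
theorem F475167 : act 3 n192197 = n214435 := d20_3 F352876 (iv1 F335339) (iv4 F385957) (iv1 D214435) (iv3 D159393) (iv4 D76246) D76244 (iv4 F314663) (iv3 F453860) (iv1 F453863)
theorem F475168 : act 4 n194625 = n214435 := d20_6 (iv4 D71240) (iv1 F52145) D33550 D72725 (iv1 F325474) D194625 (iv1 D214435) (iv4 F366757) F366756 (iv1 F107733)
theorem F475169 : act 6 n214435 = n192196 := d10_2 (iv6 F401804) F475168 (iv4 F401798)
theorem F475170 : act 2 n209536 = n214435 := d3_3 F475169 F385955 (iv6 F454073)
def n214436 : Q := act 2 n159393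
theorem D214436 : act 2 n159393 = n214436 := rfl
theorem F475171 : act 3 n214436 = n159425 := d0_2 D159393 D214436 (iv2 D159425) (iv3 D76261) (iv2 F114266)
theorem F475172 : act 4 n214436 = n205125 := d1_2 F366757 D214436 F435062
theorem F475173 : act 6 n214436 = n205119 := d3_2 F312158 D214436 F435050
theorem F475174 : act 1 n214436 = n209536 := d15_0 (iv0 F467861) F467860 D214436
def n214437 : Q := act 6 n159396
theorem D214437 : act 6 n159396 = n214437 := rfl
theorem F475175 : act 3 n214437 = n199573 := d7_1 D214437 F412725 (iv3 F370639)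
theorem F475176 : act 4 n214437 = n159397 := d10_1 D214437 (iv6 D159397) D159396
theorem F475177 : act 5 n214437 = n199572 := d12_1 D214437 F456693 (iv5 F456694) F474935 F474931
theorem F475178 : act 7 n214437 = n208676 := d14_2 (iv7 F250989) D214437 (iv6 F466589) F466586 F439937
def n214438 : Q := act 1 n159421
theorem D214438 : act 1 n159421 = n214438 := rfl
theorem F475179 : act 1 n214438 = n202115 := d15_1 D214438 F422930 F353568
theorem F475180 : act 7 n214438 = n209186 := d15_2 (iv0 F357723) D214438 F452625
theorem F475181 : act 3 n192491 = n214438 := d20_3 F453903 (iv1 F460731) (iv4 F460734) (iv1 D214438) (iv3 D159421) F114302 F312296 (iv4 F101040) (iv3 F222338) (iv1 F453905)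
theorem F475182 : act 6 n193874 = n214438 := d21_3 (iv5 F365138) D208041 (iv5 F450886) (iv1 D214438) (iv6 F349499) (iv5 F301782) (iv1 F197539) (iv5 F431734) F431738 (iv1 D136802)
theorem F475183 : act 5 n214438 = n177998 := d21_6 (iv5 F335699) F335697 F295315 D102445 D193874 F475182 (iv1 F391252) F391249 (iv6 F357232) F289742
theorem F475184 : act 2 n209188 = n214438 := d2_3 F475183 F452632 (iv5 F452637)
def n214439 : Q := act 5 n159421
theorem D214439 : act 5 n159421 = n214439 := rfl
theorem F475185 : act 2 n214439 = n209496 := d2_1 D214439 (iv5 D209496) F353568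
theorem F475186 : act 3 n214439 = n159422 := d6_1 D214439 (iv5 D159422) D159421
theorem F475187 : act 6 n214439 = n204122 := d12_2 F349499 D214439 (iv5 F431122) (iv6 F411446) F301782
theorem F475188 : act 0 n214439 = n208498 := d21_1 D214439 F449626 (iv6 D136794) (iv1 D64311) D64314 (iv5 F365138) D208041 (iv5 F450886) F475182 (iv1 D214438)
theorem F475189 : act 0 n209850 = n214439 := d21_10 (iv5 D214439) F357723 F341523 (iv6 F460721) (iv1 D211231) F224272 (iv5 D115942) F168882 D198056 (iv6 F455130)
def n214440 : Q := act 5 n159423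
theorem D214440 : act 5 n159423 = n214440 := rfl
theorem F475190 : act 2 n214440 = n213781 := d2_1 D214440 (iv5 D213781) (iv2 F353003)
theorem F475191 : act 7 n214440 = n193072 := d13_2 F440487 D214440 (iv5 F440483)
theorem F475192 : act 4 n214440 = n193073 := d16_2 F353002 D214440 F388664 F345218 F353007 (iv4 F393016) F393017 F353025 (iv2 F349918)
theorem F475193 : act 1 n214440 = n203412 := d17_6 (iv1 D136716) (iv5 F365292) (iv1 D103279) D103281 F353002 D214440 (iv5 D203412) D203410 F428179
def n214441 : Q := act 6 n159423
theorem D214441 : act 6 n159423 = n214441 := rfl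
theorem F475194 : act 2 n214441 = n213782 := d3_1 D214441 (iv6 D213782) (iv2 F353003)
theorem F475195 : act 4 n214441 = n174447 := d10_1 D214441 F358744 F353002
def n214442 : Q := act 5 n159424
theorem D214442 : act 5 n159424 = n214442 := rfl
theorem F475196 : act 2 n214442 = n193072 := d2_1 D214442 (iv5 F440483) (iv2 F440485)
theorem F475197 : act 3 n214442 = n210157 := d6_1 D214442 (iv5 D210157) F386854
theorem F475198 : act 4 n214442 = n187460 := d9_1 D214442 F370433 (iv4 F351156) (iv5 D103843) F75521 D103281 F353002 D214440 F475192 F388664 F345218 F353007 (iv4 F393016) F393017 F251056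
theorem F475199 : act 6 n214442 = n187212 := d12_2 (iv6 F386860) D214442 (iv5 D187212) D187213 (iv5 F369534)
theorem F475200 : act 7 n214442 = n213781 := d13_2 (iv7 F353023) D214442 (iv5 D213781)
theorem F475201 : act 0 n214442 = n203412 := d17_2 F440480 D214442 (iv5 D203412) F186945 (iv5 F107533) (iv0 F346524) F346526 F206671 D206373
def n214443 : Q := act 4 n159426
theorem D214443 : act 4 n159426 = n214443 := rfl
theorem F475202 : act 2 n214443 = n192732 := d1_1 D214443 F471442 (iv2 F471441)
theorem F475203 : act 7 n214443 = n192735 := d11_2 F428194 D214443 F428195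
theorem F475204 : act 5 n214443 = n191959 := d16_3 (iv4 F114304) D159426 D214443 (iv4 F393777) F393776 F206508 D128510 F206670 (iv2 D76267)
theorem F475205 : act 0 n214443 = n209786 := d18_2 F391169 D214443 (iv4 D209786) (iv5 D136941) D136940 F362164 (iv4 F237091) F394252 F394251
theorem F475206 : act 1 n214443 = n209783 := d18_6 (iv1 F422979) F360743 (iv1 D76266) (iv4 F114304) D159426 D214443 (iv4 D209783) D209782 F454938
def n214444 : Q := act 6 n159426
theorem D214444 : act 6 n159426 = n214444 := rfl
theorem F475207 : act 3 n214444 = n159428 := d7_1 D214444 (iv6 D159428) (iv3 F251059)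
theorem F475208 : act 5 n214444 = n192047 := d12_1 D214444 F385337 (iv5 D136630) (iv6 F314606) D159426
def n214445 : Q := act 3 n159427
theorem D214445 : act 3 n159427 = n214445 := rfl
theorem F475209 : act 5 n214445 = n211206 := d6_2 (iv5 F251060) D214445 F460605
def n214446 : Q := act 6 n159427
theorem D214446 : act 6 n159427 = n214446 := rfl
theorem F475210 : act 4 n214446 = n159428 := d10_1 D214446 (iv6 D159428) D159427
theorem F475211 : act 7 n214446 = n210484 := d14_2 F428011 D214446 F457732 F366682 (iv6 F428010)
theorem F475212 : act 5 n210485 = n214446 := d21_8 F474939 F374811 F370995 (iv6 D183770) (iv1 F160578) D193838 F391152 (iv1 F457737) (iv6 D214446) (iv1 F474937)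
def n214447 : Q := act 0 n159428
theorem D214447 : act 0 n159428 = n214447 := rfl
theorem F475213 : act 6 n214447 = n210613 := d21_5 (iv5 D159422) (iv1 D76260) D76262 D159428 D214447 (iv5 D210613) D210611 F458206 (iv6 D203407) (iv1 F251055)
theorem F475214 : act 5 n214447 = n210610 := d21_8 (iv5 D141166) (iv1 D66216) (iv5 F81284) D111742 F337456 (iv6 F359930) F359929 D214447 (iv6 D210610) (iv1 F224247)
theorem F475215 : act 2 n210620 = n214447 := d2_3 F475214 F458202 D210620
theorem F475216 : act 3 n209544 = n214447 := d6_3 F475214 (iv3 F460687) (iv5 F460689)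
def n214448 : Q := act 1 n159428
theorem D214448 : act 1 n159428 = n214448 := rfl
theorem F475217 : act 7 n214448 = n210620 := d15_2 (iv0 D214447) D214448 F475215
theorem F475218 : act 5 n214448 = n210621 := d17_7 (iv1 F370849) (iv5 D91350) F177417 D46538 D99567 F359929 D214448 F458243 F420940
theorem F475219 : act 3 n210638 = n214448 := d6_3 F475218 F458240 (iv5 F458286)
theorem F475220 : act 4 n210620 = n214448 := d16_4 F285825 D192038 (iv4 F385316) D210620 F475218 F458241 (iv5 D191936) (iv7 F177412) (iv2 F285824)
theorem F475221 : act 6 n214448 = n210630 := d10_2 (iv6 F458238) F475220 (iv4 D210630)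
def n214449 : Q := act 7 n159428
theorem D214449 : act 7 n159428 = n214449 := rfl
theorem F475222 : act 4 n214449 = n210484 := d11_1 D214449 (iv7 F475211) F475210
theorem F475223 : act 5 n214449 = n192048 := d13_1 D214449 (iv7 D192048) F359929
theorem F475224 : act 6 n214449 = n210487 := d14_1 D214449 F457746 (iv6 F428061) F186951 D159428
theorem F475225 : act 0 n210620 = n214449 := d17_2 F387691 D210620 F475223 F385338 F153303 (iv0 F177418) D87822 F154735 D192762
def n214450 : Q := act 3 n159434
theorem D214450 : act 3 n159434 = n214450 := rfl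
theorem F475226 : act 4 n214450 = n213804 := d5_2 D159434 D214450 (iv3 D213804) (iv4 F251063) (iv3 D159433)
theorem F475227 : act 6 n214450 = n204814 := d7_2 F455958 D214450 (iv3 F455956)
theorem F475228 : act 0 n213876 = n214450 := d20_1 (iv4 F472534) F475226 (iv3 D213804) (iv1 D155877) F110855 (iv4 D54209) D54208 D117681 D203106 F433190
def n214451 : Q := act 6 n159451
theorem D214451 : act 6 n159451 = n214451 := rfl
theorem F475229 : act 2 n214451 = n200924 := d3_1 D214451 (iv6 F419620) F419618
theorem F475230 : act 3 n214451 = n209085 := d7_1 D214451 F452176 F428264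
theorem F475231 : act 4 n214451 = n214185 := d10_1 D214451 (iv6 D214185) F350562
theorem F475232 : act 5 n214451 = n200989 := d12_1 D214451 (iv6 D200989) (iv5 F251089) (iv6 D159452) D159451
theorem F475233 : act 7 n214451 = n200925 := d14_2 (iv7 F350581) D214451 F420107 F350585 (iv6 F350578)
theorem F475234 : act 0 n214451 = n195122 := d21_4 F83357 D76272 D159451 D214451 F395864 D206239 F439866 (iv5 F375328) F375329 (iv1 D114337)
theorem F475235 : act 1 n214451 = n195119 := d15_1 (iv0 F475234) (iv7 F395855) (iv2 F395862)
theorem F475236 : act 0 n209022 = n214185 := d18_2 F420544 D209022 (iv4 F475231) F475232 (iv4 F440687) (iv0 F440690) F417844 D201045 (iv5 F420542)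
def n214452 : Q := act 5 n159454
theorem D214452 : act 5 n159454 = n214452 := rfl
theorem F475237 : act 3 n214452 = n159456 := d6_1 D214452 (iv5 D159456) D159454
theorem F475238 : act 6 n214452 = n188978 := d21_3 D189020 F375435 D214452 (iv1 D188978) (iv6 D92953) (iv5 D43488) (iv1 F32663) D20587 D43523 D93021
def n214453 : Q := act 6 n159466
theorem D214453 : act 6 n159466 = n214453 := rfl
theorem F475239 : act 2 n214453 = n201675 := d3_1 D214453 (iv6 D201675) (iv2 F251113)
theorem F475240 : act 4 n214453 = n159467 := d10_1 D214453 (iv6 D159467) D159466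
theorem F475241 : act 0 n214453 = n212675 := d21_4 D115035 D201739 F421627 D214453 F467000 F421676 (iv1 F211784) F421618 (iv6 D201734) (iv1 D115033)
theorem F475242 : act 5 n206679 = n214453 := d21_6 F176965 (iv1 F114712) F114710 (iv6 F139170) D187648 (iv6 F446966) F475241 (iv5 D212675) (iv6 D148772) (iv1 F176967)
def n214454 : Q := act 1 n159467
theorem D214454 : act 1 n159467 = n214454 := rfl
theorem F475243 : act 1 n214454 = n201677 := d15_1 D214454 (iv7 D201677) (iv2 F251115)
theorem F475244 : act 7 n214454 = n200929 := d15_2 (iv0 F421907) D214454 (iv2 F421905)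
theorem F475245 : act 5 n214454 = n159855 := d17_7 F445778 F445777 F441854 (iv5 D206680) (iv4 F214627) (iv5 F352123) D214454 (iv0 D159855) (iv4 F252006)
theorem F475246 : act 6 n200999 = n214454 := d21_3 (iv5 F418642) F418641 D200999 (iv1 D214454) (iv6 D159467) (iv5 D76278) (iv1 F77608) (iv5 F163410) (iv6 F398228) (iv1 F398230)
theorem F475247 : act 2 n201676 = n214454 := d2_3 F475245 F364678 F421342
theorem F475248 : act 3 n195119 = n214454 := d6_3 F475245 F395841 D195119
def n214455 : Q := act 6 n159471
theorem D214455 : act 6 n159471 = n214455 := rfl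
theorem F475249 : act 2 n214455 = n211580 := d3_1 D214455 (iv6 F462238) F355680
theorem F475250 : act 3 n214455 = n195245 := d7_1 D214455 (iv6 D195245) (iv3 F251122)
theorem F475251 : act 4 n214455 = n159473 := d10_1 D214455 (iv6 D159473) D159471
theorem F475252 : act 5 n214455 = n210070 := d12_1 D214455 F456050 F331215 D183923 F356338
theorem F475253 : act 0 n214455 = n211133 := d21_4 (iv5 D189889) F367064 F356338 D214455 (iv6 F461020) F461019 F416283 F416281 F378908 F378906
theorem F475254 : act 7 n210199 = n214455 := d13_0 F475252 F456051 D210199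
theorem F475255 : act 0 n202979 = n214455 := d19_0 F475252 F456049 (iv3 F345510) (iv1 F189604) (iv5 F316264) (iv4 D36459) D36458 F121379 F324441 D51897 D112487 (iv1 F413165) F413164 (iv4 D157703) D157702 (iv1 F464977) F464974 (iv4 D202980) D202979
def n214456 : Q := act 4 n159472
theorem D214456 : act 4 n159472 = n214456 := rfl
theorem F475256 : act 7 n214456 = n201670 := d11_2 (iv7 F251125) D214456 (iv4 D201670)
theorem F475257 : act 0 n214456 = n198301 := d18_2 (iv1 F387832) D214456 (iv4 F420444) (iv5 F462627) F462626 F391989 F378888 F370846 (iv5 F387831)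
def n214457 : Q := act 3 n159474
theorem D214457 : act 3 n159474 = n214457 := rfl
theorem F475258 : act 5 n214457 = n206784 := d6_2 F421634 D214457 F442778
theorem F475259 : act 7 n214457 = n201674 := d8_2 (iv7 F251128) D214457 (iv3 D201674)
def n214458 : Q := act 6 n159474
theorem D214458 : act 6 n159474 = n214458 := rfl
theorem F475260 : act 2 n214458 = n201700 := d3_1 D214458 (iv6 D201700) (iv2 F251127)
theorem F475261 : act 4 n214458 = n159475 := d10_1 D214458 (iv6 D159475) D159474
theorem F475262 : act 0 n206377 = n214458 := d21_4 (iv5 F83812) (iv1 F179150) (iv5 F206678) D206377 (iv6 D214458) (iv5 F421634) (iv1 D201740) (iv5 D115035) F83776 D53093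
def n214459 : Q := act 4 n159477
theorem D214459 : act 4 n159477 = n214459 := rfl
theorem F475263 : act 2 n214459 = n188115 := d1_1 D214459 F372348 F251146
theorem F475264 : act 6 n214459 = n188058 := d10_2 F251147 D214459 F372230
theorem F475265 : act 7 n214459 = n187571 := d11_2 (iv7 F251145) D214459 F370841
theorem F475266 : act 0 n214459 = n187924 := d18_2 (iv1 F251149) D214459 (iv4 D187924) F368688 F368684 (iv0 F357337) (iv4 D159471) (iv0 F356463) F251152
theorem F475267 : act 0 n187921 = n214459 := d20_1 D187921 (iv4 D214459) (iv3 D159477) (iv1 D76286) (iv3 F83356) (iv4 F339921) (iv1 D107265) (iv4 F335534) F139577 D90673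
def n214460 : Q := act 1 n159479
theorem D214460 : act 1 n159479 = n214460 := rfl
theorem F475268 : act 1 n214460 = n206708 := d15_1 D214460 (iv7 F446952) F446949
theorem F475269 : act 4 n214460 = n193228 := d18_7 (iv1 D193257) (iv4 D101420) (iv1 F364411) D193222 (iv5 F401663) F401662 D214460 (iv0 F406881) (iv5 F406879)
theorem F475270 : act 3 n209358 = n214460 := d19_19 (iv1 D214460) (iv5 F442774) F442773 F233464 (iv1 F335791) F143127 F142298 (iv3 D92475) (iv1 F69443) F69441 D88486 D185791 F354309 F315347 (iv4 F362110) D204180 (iv1 F431368) (iv5 F394102) (iv4 F453383)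
theorem F475271 : act 6 n214460 = n209357 := d7_2 D209358 F475270 (iv3 D209357)
def n214461 : Q := act 6 n159484
theorem D214461 : act 6 n159484 = n214461 := rfl
theorem F475272 : act 2 n214461 = n183161 := d3_1 D214461 F398550 (iv2 F398552)
theorem F475273 : act 5 n214461 = n183160 := d12_1 D214461 F416210 (iv5 D200379) F377584 F377583
theorem F475274 : act 0 n214461 = n201348 := d21_4 (iv5 D189741) D189739 F377583 D214461 F420093 F419981 F393634 F366043 D206380 F440510
theorem F475275 : act 1 n214461 = n201351 := d15_1 (iv0 F475274) (iv7 F439825) F439823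
def n214462 : Q := act 6 n159486
theorem D214462 : act 6 n159486 = n214462 := rfl
theorem F475276 : act 3 n214462 = n199241 := d7_1 D214462 F421832 F421828
theorem F475277 : act 4 n214462 = n159487 := d10_1 D214462 (iv6 D159487) D159486
theorem F475278 : act 5 n214462 = n199239 := d12_1 D214462 (iv6 D199239) (iv5 F228312) D212065 (iv5 F464209)
theorem F475279 : act 0 n214462 = n198276 := d21_4 F237827 F464208 (iv5 F464209) D214462 (iv6 D198276) (iv5 D109113) (iv1 F358832) D198241 F407323 (iv1 F370667)
theorem F475280 : act 0 n187878 = n214462 := d21_4 F291891 D99385 (iv5 F293726) D187878 (iv6 D214462) F464209 F464207 F241278 F138889 D90319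
def n214463 : Q := act 5 n159488
theorem D214463 : act 5 n159488 = n214463 := rfl
theorem F475281 : act 2 n214463 = n208151 := d2_1 D214463 F448130 (iv2 F398560)
theorem F475282 : act 3 n214463 = n195855 := d6_1 D214463 F398476 F251166
theorem F475283 : act 6 n214463 = n195854 := d12_2 (iv6 F251165) D214463 F398469 (iv6 D127782) D127781
theorem F475284 : act 7 n214463 = n187643 := d13_2 F398563 D214463 F398565
theorem F475285 : act 0 n214463 = n208152 := d21_1 D214463 (iv5 F451211) F451212 (iv1 F421470) F205630 F94980 (iv1 F55323) F55110 D76291 D159488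
theorem F475286 : act 0 n159552 = n214463 := d19_0 (iv5 D214463) (iv4 F475055) (iv3 F475060) F446917 F446915 F212777 F96980 (iv1 F47205) D60950 F319211 (iv3 F114097) (iv1 F130844) F184583 D60402 F184580 (iv1 F156284) D101479 (iv4 F374727) (iv3 F374726)
def n214464 : Q := act 3 n159489
theorem D214464 : act 3 n159489 = n214464 := rfl
theorem F475287 : act 6 n214464 = n188032 := d7_2 (iv6 F374519) D214464 (iv3 D188032)
theorem F475288 : act 7 n214464 = n211141 := d8_2 (iv7 F398561) D214464 F460298
theorem F475289 : act 0 n214464 = n206218 := d20_4 (iv4 F421807) (iv1 F475061) F475063 D214464 F439768 F428087 (iv1 F465510) F465508 F427982 (iv1 F250885)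
def n214465 : Q := act 5 n159489
theorem D214465 : act 5 n159489 = n214465 := rfl
theorem F475290 : act 2 n214465 = n187643 := d2_1 D214465 F398565 F398567
theorem F475291 : act 6 n214465 = n159559 := d12_2 (iv6 F374519) D214465 (iv5 F369983) F369984 (iv5 F369985)
theorem F475292 : act 7 n214465 = n208151 := d13_2 (iv7 F398561) D214465 F448130
theorem F475293 : act 0 n214465 = n159552 := d21_1 D214465 F251289 (iv6 D114950) (iv1 F178036) (iv6 F419776) (iv5 D201269) (iv1 F214481) (iv5 F251162) (iv6 F398572) (iv1 F398573)
theorem F475294 : act 0 n208152 = n214465 := d21_10 (iv5 D214465) (iv1 D159489) (iv5 F114708) (iv6 D76524) (iv1 F77432) D106105 F163133 D127808 (iv5 F354429) (iv6 F448133)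
def n214466 : Q := act 0 n159491
theorem D214466 : act 0 n159491 = n214466 := rfl
theorem F475295 : act 5 n214466 = n195878 := d21_2 F446893 D214466 F398576 (iv1 D132562) (iv6 F212779) (iv5 D132555) D132553 D207896 (iv6 F446919) F446895
theorem F475296 : act 6 n214466 = n206710 := d21_5 F442975 (iv1 F211734) D206835 (iv6 F442348) D214466 F441937 (iv1 F207378) (iv5 F207637) F361163 D207016
theorem F475297 : act 2 n159495 = n214466 := d15_3 (iv0 D214466) (iv0 D159491) D159495
theorem F475298 : act 1 n159492 = n214466 := d15_0 (iv0 D214466) (iv7 F446891) F446886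
theorem F475299 : act 7 n214466 = n159493 := d15_2 D159492 F475298 (iv2 D159493)
theorem F475300 : act 4 n214466 = n188053 := d17_9 (iv1 F420050) (iv5 F439801) (iv1 D206225) F205593 (iv4 F388571) (iv5 F388573) (iv0 F446920) F446874 F475298
def n214467 : Q := act 5 n159493
theorem D214467 : act 5 n159493 = n214467 := rfl
theorem F475301 : act 2 n214467 = n159494 := d2_1 D214467 (iv5 D159494) D159493
theorem F475302 : act 3 n214467 = n214466 := d6_1 D214467 F475295 F398575
theorem F475303 : act 6 n214467 = n201054 := d12_2 F446951 D214467 (iv5 D201054) D201055 (iv5 F446950)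
theorem F475304 : act 7 n214467 = n195878 := d13_2 F475299 D214467 (iv5 F475295)
theorem F475305 : act 0 n214467 = n193041 := d21_1 D214467 (iv5 D193041) (iv6 F388470) (iv1 F448978) F448976 (iv5 D207892) (iv1 D132550) D132551 (iv6 F446888) (iv1 F446890)
theorem F475306 : act 4 n212345 = n214467 := d10_3 F475303 F418908 D212345
theorem F475307 : act 1 n214467 = n195876 := d15_0 (iv0 D195876) F251168 (iv2 F475301)
def n214468 : Q := act 0 n159494
theorem D214468 : act 0 n159494 = n214468 := rfl
theorem F475308 : act 5 n214468 = n193040 := d19_1 D214468 F388575 F364312 D108589 D197698 (iv4 F440365) F440362 F237669 F237667 (iv4 D72211) (iv3 F86585) (iv1 F86589) F42507 (iv4 F40672) (iv3 D25754) (iv1 F37420) D49111 (iv4 F114337) (iv3 F251167)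
theorem F475309 : act 1 n195878 = n214468 := d15_0 (iv0 D214468) (iv7 F251168) D195878
theorem F475310 : act 2 n193041 = n214468 := d2_3 F475308 (iv2 D193040) D193041
theorem F475311 : act 7 n195876 = n214468 := d15_2 (iv0 F475305) F475307 (iv2 F475310)
def n214469 : Q := act 1 n159494
theorem D214469 : act 1 n159494 = n214469 := rfl
theorem F475312 : act 1 n214469 = n195878 := d15_1 D214469 (iv7 F475304) F475301
theorem F475313 : act 7 n214469 = n193041 := d15_2 (iv0 D214468) D214469 F475310
theorem F475314 : act 3 n193047 = n214469 := d19_19 (iv1 D214469) (iv5 D159494) (iv4 F178308) (iv3 D114334) (iv1 F107775) (iv5 F163745) (iv4 D106497) F114179 (iv1 F114178) (iv5 D72089) (iv4 F55070) F55069 F50826 D28578 D60131 D127983 (iv1 F388353) (iv5 F458606) F458605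
theorem F475315 : act 6 n208654 = n214469 := d21_3 F450986 F450332 (iv5 F450343) (iv1 D214469) F465564 F465562 (iv1 D146859) D146861 D212383 (iv1 F465611)
theorem F475316 : act 2 n214469 = n195876 := d3_1 F475315 F453390 (iv2 F453389)
theorem F475317 : act 4 n214469 = n208655 := d10_1 F475315 (iv6 D208655) D208654
theorem F475318 : act 5 n214469 = n193042 := d6_2 (iv5 F388583) F475314 F388578
def n214470 : Q := act 7 n159496
theorem D214470 : act 7 n159496 = n214470 := rfl
theorem F475319 : act 2 n214470 = n207812 := d4_1 D214470 F446559 F251173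
theorem F475320 : act 3 n214470 = n201053 := d8_1 D214470 (iv7 F465561) F465565
theorem F475321 : act 4 n214470 = n195798 := d11_1 D214470 F398229 (iv4 F251172)
theorem F475322 : act 5 n214470 = n201052 := d13_1 D214470 (iv7 F442628) F442626
theorem F475323 : act 6 n214470 = n195845 := d14_1 D214470 (iv7 D195845) F163408 (iv7 F114338) D159496
theorem F475324 : act 1 n214423 = n214470 := d15_1 (iv0 F475113) (iv7 D214470) (iv2 F251173)
theorem F475325 : act 1 n214470 = n214421 := d15_1 F475324 F475101 (iv2 F475111)
def n214471 : Q := act 3 n159503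
theorem D214471 : act 3 n159503 = n214471 := rfl
theorem F475326 : act 4 n214471 = n199954 := d5_2 D159503 D214471 (iv3 F414321) F398293 (iv3 F178635)
theorem F475327 : act 5 n214471 = n198816 := d6_2 F377280 D214471 (iv3 F409375)
theorem F475328 : act 6 n214471 = n204991 := d7_2 F420426 D214471 F434491
theorem F475329 : act 7 n214471 = n200364 := d8_2 (iv7 F251187) D214471 (iv3 D200364)
theorem F475330 : act 0 n214471 = n199887 := d19_4 (iv1 F114355) D76302 D159503 D214471 F413986 (iv4 D199826) F363588 D191119 F382297 (iv4 D133070) F97309 (iv1 F210685) F210687 F104234 F96239 (iv1 F55570) (iv5 D35015) F55249 (iv3 F82991)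
theorem F475331 : act 0 n199826 = n214471 := d17_2 F475330 F413986 F475327 (iv4 D198816) (iv5 D110322) F166189 D112238 F414319 (iv4 F475326)
def n214472 : Q := act 4 n159505
theorem D214472 : act 4 n159505 = n214472 := rfl
theorem F475332 : act 2 n214472 = n188889 := d1_1 D214472 (iv4 D188889) (iv2 F251197)
theorem F475333 : act 3 n214472 = n212575 := d5_1 D214472 (iv4 F467856) F467855 F420446 (iv3 F251198)
theorem F475334 : act 6 n214472 = n188810 := d10_2 (iv6 F251199) D214472 (iv4 D188810)
theorem F475335 : act 7 n214472 = n188887 := d11_2 (iv7 F364519) D214472 (iv4 D188887)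
theorem F475336 : act 0 n214472 = n188673 := d18_2 (iv1 F251201) D214472 F374393 (iv5 F288221) (iv4 F354322) (iv0 F466034) (iv4 F468126) F468130 F258808
theorem F475337 : act 1 n214472 = n189017 := d18_6 (iv1 F419341) F440151 (iv1 D206302) F206340 D159505 D214472 F375417 F374405 F374394
def n214473 : Q := act 6 n159520
theorem D214473 : act 6 n159520 = n214473 := rfl
theorem F475338 : act 2 n214473 = n206178 := d3_1 D214473 F439594 (iv2 F336922)
theorem F475339 : act 4 n214473 = n164628 := d10_1 D214473 (iv6 D164628) (iv4 F336923)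
theorem F475340 : act 5 n214473 = n193309 := d12_1 D214473 (iv6 F397742) (iv5 F351307) D200252 (iv5 F415713)
theorem F475341 : act 0 n214473 = n189829 := d21_4 F448003 F448004 (iv5 F415713) D214473 (iv6 D189829) D189828 F377905 (iv5 D127488) D127489 D206145
theorem F475342 : act 1 n214473 = n210093 := d15_1 (iv0 F475341) F456123 F439032
def n214474 : Q := act 5 n159521
theorem D214474 : act 5 n159521 = n214474 := rfl
theorem F475343 : act 2 n214474 = n212797 := d2_1 D214474 (iv5 D212797) (iv2 F336917)
theorem F475344 : act 3 n214474 = n170428 := d6_1 D214474 (iv5 D170428) F261862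
theorem F475345 : act 7 n214474 = n200377 := d13_2 (iv7 F336919) D214474 (iv5 F416198)
theorem F475346 : act 0 n214474 = n208128 := d17_2 (iv1 F380245) D214474 (iv5 F448003) F439454 F419381 (iv0 F259069) F163312 F177945 (iv4 F380243)
def n214475 : Q := act 6 n159543
theorem D214475 : act 6 n159543 = n214475 := rfl
theorem F475347 : act 2 n214475 = n213500 := d3_1 D214475 (iv6 D213500) F336957
theorem F475348 : act 3 n214475 = n212951 := d7_1 D214475 (iv6 D212951) (iv3 F251273)
theorem F475349 : act 4 n214475 = n159545 := d10_1 D214475 (iv6 D159545) D159543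
def n214476 : Q := act 7 n159545
theorem D214476 : act 7 n159545 = n214476 := rfl
theorem F475350 : act 3 n214476 = n159548 := d8_1 D214476 (iv7 D159548) (iv3 F251277)
theorem F475351 : act 5 n214476 = n175972 := d13_1 D214476 F347628 F259022
theorem F475352 : act 6 n214476 = n187438 := d14_1 D214476 F374056 F374053 (iv7 F177877) D159545
theorem F475353 : act 1 n195198 = n214476 := d15_1 (iv0 F419412) (iv7 D214476) (iv2 F419408)
theorem F475354 : act 1 n214476 = n164302 := d15_1 F475353 (iv7 F419521) F419519
def n214477 : Q := act 7 n159552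
theorem D214477 : act 7 n159552 = n214477 := rfl
theorem F475355 : act 2 n214477 = n208152 := d4_1 D214477 (iv7 D208152) F352124
theorem F475356 : act 3 n214477 = n187678 := d8_1 D214477 F374728 (iv3 F374726)
theorem F475357 : act 5 n214477 = n201677 := d13_1 D214477 (iv7 D201677) (iv5 F251289)
theorem F475358 : act 6 n214477 = n201340 := d14_1 D214477 F420073 (iv6 D201171) F177860 D159552
theorem F475359 : act 1 n187643 = n214477 := d15_1 (iv0 F374649) (iv7 D214477) (iv2 F352124)
theorem F475360 : act 1 n214477 = n208151 := d15_1 F475359 (iv7 F475292) F475290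
def n214478 : Q := act 6 n159554
theorem D214478 : act 6 n159554 = n214478 := rfl
theorem F475361 : act 2 n214478 = n207816 := d3_1 D214478 (iv6 D207816) F326565
theorem F475362 : act 4 n214478 = n159647 := d10_1 D214478 (iv6 D159647) (iv4 F251294)
theorem F475363 : act 5 n201786 = n214478 := d21_2 (iv5 D201788) D201786 (iv6 D214478) (iv1 D159554) F114424 D76341 F114441 (iv5 F114454) D159577 F421805
def n214479 : Q := act 6 n159557
theorem D214479 : act 6 n159557 = n214479 := rfl
theorem F475364 : act 3 n214479 = n207809 := d7_1 D214479 (iv6 D207809) (iv3 F362909)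
theorem F475365 : act 4 n214479 = n159558 := d10_1 D214479 (iv6 D159558) (iv4 F251297)
theorem F475366 : act 5 n214479 = n206646 := d12_1 D214479 F441724 F440993 (iv6 F399851) F399852
theorem F475367 : act 7 n214479 = n159572 := d14_2 D159557 D214479 (iv6 D159572) (iv7 D76342) (iv6 F114424)
theorem F475368 : act 0 n214479 = n212674 := d21_4 F341593 (iv1 F399853) F399852 D214479 F466995 (iv5 D206738) D206735 (iv5 F467012) F467010 (iv1 F447073)
theorem F475369 : act 0 n212673 = n214479 := d18_2 D148769 D212673 F475365 F251301 (iv4 F164277) F164281 (iv4 F341789) (iv0 D110785) (iv5 F106098)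
def n214480 : Q := act 5 n159566
theorem D214480 : act 5 n159566 = n214480 := rfl
theorem F475370 : act 2 n214480 = n207833 := d2_1 D214480 (iv5 D207833) F365648
theorem F475371 : act 3 n214480 = n207939 := d6_1 D214480 (iv5 D207939) (iv3 F347278)
theorem F475372 : act 1 n214480 = n195710 := d17_6 F417783 (iv5 D200753) F201970 D205172 F435288 D214480 (iv5 D195710) D195709 (iv4 F397911)
def n214481 : Q := act 6 n159566
theorem D214481 : act 6 n159566 = n214481 := rfl
theorem F475373 : act 2 n214481 = n207693 := d3_1 D214481 F446034 F365648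
theorem F475374 : act 3 n214481 = n207940 := d7_1 D214481 (iv6 D207940) (iv3 F347278)
theorem F475375 : act 7 n214481 = n207690 := d14_2 F442499 D214481 (iv6 D207690) F211834 D206881
theorem F475376 : act 0 n214481 = n207692 := d21_4 D195710 (iv1 F475372) (iv5 D214480) D214481 F446031 F419207 D201620 (iv5 F445434) F445432 (iv1 D195709)
theorem F475377 : act 5 n214481 = n185883 := d21_6 (iv5 F99344) (iv1 F99346) (iv5 F217904) F362911 D159566 D214481 (iv1 F371083) F442727 (iv6 D206953) (iv1 D129640)
theorem F475378 : act 0 n207691 = n214481 := d17_0 F475377 (iv1 F371083) F442727 F442726 (iv5 F418156) (iv0 F394712) F394715 (iv0 F417552) (iv4 F446026)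
def n214482 : Q := act 5 n159568
theorem D214482 : act 5 n159568 = n214482 := rfl
theorem F475379 : act 2 n214482 = n159569 := d2_1 D214482 (iv5 D159569) D159568
theorem F475380 : act 3 n214482 = n206885 := d6_1 D214482 F442518 F419334
theorem F475381 : act 7 n214482 = n201176 := d13_2 F442515 D214482 (iv5 F442518)
theorem F475382 : act 0 n214482 = n201175 := d17_2 F442497 D214482 F419332 (iv4 F397911) (iv5 F415203) (iv0 F415205) (iv5 F437036) (iv0 F445095) F445093
theorem F475383 : act 1 n214482 = n201174 := d17_6 D106220 (iv5 F377922) (iv1 F176437) D197011 (iv4 F402681) D214482 F445765 (iv0 D195708) (iv4 D106222)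
def n214483 : Q := act 0 n159569
theorem D214483 : act 0 n159569 = n214483 := rfl
theorem F475384 : act 5 n214483 = n195619 := d17_3 F365647 D159569 D214483 (iv4 F419145) (iv5 F435401) (iv0 F435402) (iv5 F417805) (iv0 F417807) F211241
theorem F475385 : act 4 n214483 = n196124 := d18_1 D214483 (iv1 D196124) (iv4 F217851) D208952 F451537 F435290 F435288 (iv0 D159566) D159569
theorem F475386 : act 3 n214483 = n206831 := d20_5 F106086 (iv1 F78012) (iv4 F114439) (iv3 F251329) D214483 (iv4 F466874) (iv1 D212649) F233469 (iv3 D69720) D69718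
theorem F475387 : act 1 n201176 = n214483 := d15_0 (iv0 D214483) (iv7 F251330) D201176
theorem F475388 : act 2 n201175 = n214483 := d0_5 F475386 F442981 (iv3 F437618) (iv2 F437601) F419333
theorem F475389 : act 6 n206478 = n214483 := d7_0 F475386 (iv6 D206831) (iv3 F441013)
theorem F475390 : act 7 n201174 = n214483 := d8_0 F475386 (iv7 F442982) F445768
def n214484 : Q := act 1 n159569
theorem D214484 : act 1 n159569 = n214484 := rfl
theorem F475391 : act 1 n214484 = n201176 := d15_1 D214484 (iv7 F475381) F475379
theorem F475392 : act 7 n214484 = n201175 := d15_2 (iv0 D214483) D214484 F475388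
theorem F475393 : act 5 n214484 = n195620 := d17_7 (iv1 F163223) (iv5 F395220) (iv1 D107529) D107531 (iv4 F165903) D159569 D214484 (iv0 F397894) (iv4 D195702)
theorem F475394 : act 3 n205730 = n214484 := d19_19 (iv1 D214484) (iv5 D159569) F165903 F165902 F78473 (iv5 D25409) (iv4 D12082) (iv3 F19280) (iv1 F19278) F19275 (iv4 F19161) (iv3 F22618) (iv1 F22620) D13488 D28252 D59495 D126781 F386031 (iv4 F437606)
theorem F475395 : act 6 n206673 = n214484 := d21_3 (iv5 F399434) (iv1 F441817) (iv5 F441826) (iv1 D214484) (iv6 F451576) (iv5 D208961) F384038 (iv5 F446186) F446187 (iv1 D206670)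
theorem F475396 : act 2 n214484 = n201174 := d3_1 F475395 (iv6 F445766) F445756
theorem F475397 : act 4 n214484 = n196123 := d10_1 F475395 F399514 D206673
def n214485 : Q := act 4 n159569
theorem D214485 : act 4 n159569 = n214485 := rfl
theorem F475398 : act 3 n214485 = n196189 := d5_1 D214485 (iv4 D196189) F164520 (iv4 F114439) (iv3 F251329)
theorem F475399 : act 7 n214485 = n201169 := d11_2 F251330 D214485 F419317
theorem F475400 : act 5 n214485 = n205341 := d16_1 D214485 F435988 F435303 F405912 (iv5 F397870) (iv4 F442516) F442518 (iv7 F475381) F475379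
theorem F475401 : act 1 n214485 = n206665 := d18_8 (iv1 F436181) (iv4 D205181) (iv1 F202401) (iv4 F435584) F435585 (iv4 F475385) (iv0 D214483) D214485 F441797
def n214486 : Q := act 7 n159571
theorem D214486 : act 7 n159571 = n214486 := rfl
theorem F475402 : act 2 n214486 = n214479 := d4_1 D214486 F475367 F251335
theorem F475403 : act 4 n214486 = n196213 := d11_1 D214486 F399920 (iv4 F251334)
theorem F475404 : act 5 n214486 = n206659 := d13_1 D214486 (iv7 F451568) F451567
theorem F475405 : act 6 n214486 = n201173 := d14_1 D214486 (iv7 D201173) F177518 (iv7 F114440) D159571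
theorem F475406 : act 0 n206731 = n214486 := d19_0 F475404 (iv4 D206659) F395384 (iv1 D195006) F160971 (iv4 F132332) (iv3 D86342) F60814 D77347 F116161 (iv3 F195612) F363991 (iv5 F301261) F301260 (iv3 F343104) (iv1 F175203) D112614 F351674 D206731
def n214487 : Q := act 1 n159572
theorem D214487 : act 1 n159572 = n214487 := rfl
theorem F475407 : act 1 n214487 = n214486 := d15_1 D214487 (iv7 D214486) (iv2 F251335)
theorem F475408 : act 7 n214487 = n212673 := d15_2 (iv0 F444286) D214487 F466992
theorem F475409 : act 4 n214487 = n159658 := d18_7 (iv1 F171495) (iv4 F358288) (iv1 D106652) F77874 (iv5 F114449) (iv4 F251336) D214487 F251524 F233507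
theorem F475410 : act 2 n212674 = n214487 := d1_3 F475409 (iv2 F444289) D212674
def n214488 : Q := act 5 n159572
theorem D214488 : act 5 n159572 = n214488 := rfl
theorem F475411 : act 2 n214488 = n208959 := d2_1 D214488 F451567 (iv2 F251335)
theorem F475412 : act 3 n214488 = n212677 := d6_1 D214488 F467012 F442004
theorem F475413 : act 4 n214488 = n196227 := d9_1 D214488 F399982 F207306 (iv5 F96583) (iv4 F164570) D196213 (iv4 F475403) F475404 (iv4 D206659) (iv5 D129082) F95275 F95108 F77874 (iv5 F114449) (iv4 F251336)
theorem F475414 : act 6 n214488 = n196226 := d12_2 D159572 D214488 F399977 F177518 (iv5 F114445)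
theorem F475415 : act 7 n214488 = n206646 := d13_2 F475367 D214488 (iv5 F475366)
def n214489 : Q := act 5 n159574
theorem D214489 : act 5 n159574 = n214489 := rfl
theorem F475416 : act 2 n214489 = n208525 := d2_1 D214489 F449731 (iv2 F399936)
theorem F475417 : act 6 n214489 = n195000 := d12_2 F451680 D214489 F395350 F416202 (iv5 F451679)
theorem F475418 : act 4 n214489 = n209077 := d16_2 F442038 D214489 (iv5 D209077) F362861 D206657 (iv4 F446460) F446461 F409752 D206747
theorem F475419 : act 0 n214489 = n195992 := d21_1 D214489 (iv5 F437530) (iv6 D205712) (iv1 D126548) F93656 F332573 (iv1 F83145) (iv5 F177520) (iv6 F399919) (iv1 F399921)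
def n214490 : Q := act 1 n159575
theorem D214490 : act 1 n159575 = n214490 := rfl
theorem F475420 : act 1 n214490 = n185907 := d15_1 D214490 (iv7 F342156) F342161
theorem F475421 : act 7 n214490 = n207953 := d15_2 (iv0 F443240) D214490 F447126
theorem F475422 : act 4 n180739 = n214490 := d20_0 (iv1 D214490) F330898 (iv3 F446902) F446905 F213502 (iv4 F213508) (iv1 F439153) (iv4 F445581) F445582 (iv1 F442921)
theorem F475423 : act 6 n185888 = n214490 := d21_3 D207318 F444314 F392312 (iv1 D214490) (iv6 D159575) (iv5 D76344) (iv1 F114390) (iv5 F139397) D187788 (iv1 F371502)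
theorem F475424 : act 2 n214490 = n206030 := d3_1 F475423 F438914 F362720
theorem F475425 : act 3 n214490 = n201061 := d7_1 F475423 (iv6 F418949) F362721
def n214491 : Q := act 1 n159576
theorem D214491 : act 1 n159576 = n214491 := rfl
theorem F475426 : act 1 n214491 = n206746 := d15_1 D214491 (iv7 F442035) F438338
theorem F475427 : act 7 n214491 = n212661 := d15_2 (iv0 F438969) D214491 (iv2 F466934)
theorem F475428 : act 5 n214491 = n212655 := d17_7 F452855 (iv5 F457019) F457022 F423849 F366221 (iv5 F251339) D214491 F466905 (iv4 F452852)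
theorem F475429 : act 4 n214491 = n206024 := d17_9 (iv1 F438889) (iv5 F350852) (iv1 D126006) F324974 (iv4 F212483) (iv5 F418826) (iv0 D201035) (iv5 F251339) D214491
theorem F475430 : act 2 n206025 = n214491 := d1_3 F475429 (iv2 D206024) D206025
theorem F475431 : act 6 n207878 = n214491 := d10_0 F475429 F438887 (iv4 F446850)
def n214492 : Q := act 5 n159577
theorem D214492 : act 5 n159577 = n214492 := rfl
theorem F475432 : act 2 n214492 = n212658 := d2_1 D214492 (iv5 D212658) (iv2 F251341)
theorem F475433 : act 3 n214492 = n207892 := d6_1 D214492 (iv5 D207892) F423591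
theorem F475434 : act 6 n214492 = n201033 := d12_2 D159577 D214492 (iv5 D201033) F177016 (iv5 F114454)
theorem F475435 : act 4 n214492 = n200929 := d16_2 (iv4 F251342) D214492 (iv5 D200929) D200928 (iv5 F421218) F421217 F250883 (iv7 D148740) (iv2 F114456)
theorem F475436 : act 1 n214492 = n201716 := d17_8 D201718 F421535 (iv1 D159579) F114457 (iv4 F179169) D201788 (iv0 F421805) D214492 (iv4 F421524)
def n214493 : Q := act 7 n159577
theorem D214493 : act 7 n159577 = n214493 := rfl
theorem F475437 : act 2 n214493 = n212659 := d4_1 D214493 (iv7 D212659) (iv2 F251341)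
theorem F475438 : act 3 n214493 = n206744 := d8_1 D214493 F442026 F423591
theorem F475439 : act 4 n214493 = n159580 := d11_1 D214493 (iv7 D159580) (iv4 F251342)
theorem F475440 : act 6 n214493 = n206743 := d14_1 D214493 F442021 (iv6 D148743) (iv7 F114453) D159577
theorem F475441 : act 1 n212657 = n214493 := d15_1 D212657 (iv7 D214493) F251341
theorem F475442 : act 1 n214493 = n209342 := d15_1 F475441 (iv7 F453323) (iv2 F466915)
def n214494 : Q := act 6 n159579
theorem D214494 : act 6 n159579 = n214494 := rfl
theorem F475443 : act 2 n214494 = n209049 := d3_1 D214494 F452019 F364723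
theorem F475444 : act 3 n214494 = n201092 := d7_1 D214494 (iv6 D201092) (iv3 F419052)
theorem F475445 : act 4 n214494 = n207064 := d10_1 D214494 (iv6 F453260) F446962
theorem F475446 : act 7 n214494 = n201026 := d14_2 (iv7 F364722) D214494 (iv6 D201026) F326366 (iv6 F364691)
theorem F475447 : act 0 n214494 = n185884 := d21_4 F251501 D201718 F421535 D214494 (iv6 D185884) F135579 D94324 (iv5 F353200) D187780 F371469
theorem F475448 : act 0 n197057 = n214494 := d21_4 (iv5 F474206) F474208 F405842 F402850 (iv6 D214494) (iv5 F421535) (iv1 F421547) (iv5 F466896) F466897 (iv1 F451881)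
def n214495 : Q := act 1 n159581
theorem D214495 : act 1 n159581 = n214495 := rfl
theorem F475449 : act 1 n214495 = n206902 := d15_1 D214495 (iv7 F446618) F446615
theorem F475450 : act 7 n214495 = n212655 := d15_2 F456734 D214495 F466907
theorem F475451 : act 5 n214495 = n212661 := d17_7 (iv1 D126738) (iv5 D59465) D59462 D126729 (iv4 F251327) (iv5 F251351) D214495 F466932 (iv4 D205897)
theorem F475452 : act 6 n200901 = n214495 := d21_3 (iv5 F446167) (iv1 F446169) F418342 (iv1 D214495) (iv6 F450763) F450760 F442002 F439245 F454764 (iv1 D209724)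
theorem F475453 : act 2 n214495 = n212654 := d3_1 F475452 (iv6 F466902) F456625
theorem F475454 : act 3 n214495 = n200903 := d7_1 F475452 (iv6 D200903) D200901
def n214496 : Q := act 7 n159582
theorem D214496 : act 7 n159582 = n214496 := rfl
theorem F475455 : act 2 n214496 = n206743 := d4_1 D214496 F442021 (iv2 F251353)
theorem F475456 : act 3 n214496 = n206971 := d8_1 D214496 (iv7 F450759) F450758
theorem F475457 : act 4 n214496 = n159585 := d11_1 D214496 (iv7 D159585) (iv4 F251354)
theorem F475458 : act 5 n214496 = n207057 := d13_1 D214496 (iv7 F453352) F453357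
theorem F475459 : act 6 n214496 = n212659 := d14_1 D214496 (iv7 D212659) (iv6 D148737) (iv7 F114460) D159582
theorem F475460 : act 1 n206119 = n214496 := d15_1 (iv0 F439332) (iv7 D214496) F251353
theorem F475461 : act 1 n214496 = n212662 := d15_1 F475460 (iv7 F467011) F467009
def n214497 : Q := act 6 n159595
theorem D214497 : act 6 n159595 = n214497 := rfl
theorem F475462 : act 2 n214497 = n190116 := d3_1 D214497 (iv6 F378908) F360779
theorem F475463 : act 3 n214497 = n204249 := d7_1 D214497 (iv6 D204249) F336372
theorem F475464 : act 4 n214497 = n159597 := d10_1 D214497 (iv6 D159597) D159595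
theorem F475465 : act 5 n214497 = n186669 := d12_1 D214497 (iv6 F374432) (iv5 F388049) F388050 (iv5 F352978)
theorem F475466 : act 7 n214497 = n190114 := d14_2 (iv7 F391068) D214497 F378889 F369118 D193813
theorem F475467 : act 0 n187191 = n214497 := d21_4 D201201 F421011 F421010 F421008 (iv6 D214497) F352978 F385123 (iv5 F457081) F457082 (iv1 D201200)
theorem F475468 : act 1 n187118 = n214497 := d15_0 (iv0 F475467) (iv7 F378119) F378117
def n214498 : Q := act 6 n159623
theorem D214498 : act 6 n159623 = n214498 := rfl
theorem F475469 : act 2 n214498 = n201579 := d3_1 D214498 (iv6 F421007) F364187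
theorem F475470 : act 3 n214498 = n159626 := d7_1 D214498 (iv6 D159626) D159623
theorem F475471 : act 4 n214498 = n208535 := d10_1 D214498 (iv6 D208535) (iv4 F355306)
theorem F475472 : act 5 n214498 = n175684 := d12_1 D214498 (iv6 D175684) (iv5 F275061) F355336 F355334
theorem F475473 : act 7 n214498 = n176083 := d14_2 (iv7 F364189) D214498 (iv6 F370422) F370419 (iv6 F369521)
theorem F475474 : act 0 n214498 = n201572 := d21_4 F145319 D104367 F355334 D214498 (iv6 F462628) F462627 F420464 (iv5 D186964) D186965 F368698
theorem F475475 : act 0 n201573 = n214498 := d21_4 D194143 F392185 (iv5 F396229) (iv6 F420975) (iv6 D214498) (iv5 F355334) (iv1 F371225) F371222 (iv6 F377177) (iv1 F377178)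
def n214499 : Q := act 6 n159624
theorem D214499 : act 6 n159624 = n214499 := rfl
theorem F475476 : act 2 n214499 = n170427 := d3_1 D214499 (iv6 D170427) (iv2 F336854)
theorem F475477 : act 3 n214499 = n208536 := d7_1 D214499 (iv6 D208536) F335031
theorem F475478 : act 4 n214499 = n159626 := d10_1 D214499 (iv6 D159626) D159624
theorem F475479 : act 5 n214499 = n170024 := d12_1 D214499 (iv6 D170024) (iv5 F334133) F333351 (iv5 F333168)
theorem F475480 : act 7 n214499 = n197203 := d14_2 (iv7 F333231) D214499 F403509 F359205 (iv6 F224532)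
theorem F475481 : act 0 n214499 = n202883 := d21_4 F422050 (iv1 F224537) (iv5 F333168) D214499 (iv6 D202883) (iv5 D117164) F243194 F332535 (iv6 F358878) (iv1 F422052)
theorem F475482 : act 0 n204656 = n214499 := d21_4 (iv5 D181743) (iv1 F282915) (iv5 F380352) (iv6 F433155) (iv6 D214499) F333168 (iv1 F334137) F321568 (iv6 F321281) F340691
def n214500 : Q := act 6 n159643
theorem D214500 : act 6 n159643 = n214500 := rfl
theorem F475483 : act 2 n214500 = n195623 := d3_1 D214500 (iv6 F397659) F327789
theorem F475484 : act 4 n214500 = n159644 := d10_1 D214500 (iv6 D159644) D159643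
theorem F475485 : act 7 n214500 = n195624 := d14_2 (iv7 F251494) D214500 F443024 (iv7 F446859) F446858
theorem F475486 : act 0 n164475 = n214500 := d21_4 (iv5 F114459) F114461 (iv5 F163122) (iv6 F259206) (iv6 D214500) (iv5 F399315) F399317 F362915 F114424 D76339
theorem F475487 : act 1 n195626 = n214500 := d15_1 F443030 F475485 (iv2 F443025)
def n214501 : Q := act 6 n159646
theorem D214501 : act 6 n159646 = n214501 := rfl
theorem F475488 : act 2 n214501 = n208164 := d3_1 D214501 (iv6 D208164) F343526
theorem F475489 : act 3 n214501 = n159647 := d7_1 D214501 (iv6 D159647) D159646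
theorem F475490 : act 5 n214501 = n201710 := d12_1 D214501 F421528 (iv5 D115013) D115014 (iv5 F251498)
theorem F475491 : act 0 n214501 = n208145 := d21_4 F347574 (iv1 F364735) (iv5 F251498) D214501 F448095 F396353 D202935 F426260 F395929 (iv1 F179370)
theorem F475492 : act 0 n188776 = n214501 := d21_4 (iv5 F292140) D188508 F373768 D188776 (iv6 D214501) F251498 F364734 (iv5 D115187) D115188 F332650
def n214502 : Q := act 3 n159654
theorem D214502 : act 3 n159654 = n214502 := rfl
theorem F475493 : act 2 n214502 = n208950 := d0_1 D214502 F451526 (iv2 F438609) F437815 (iv2 F437812)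
theorem F475494 : act 4 n214502 = n206665 := d5_2 (iv4 F437666) D214502 F441796 F418676 F418677
theorem F475495 : act 5 n214502 = n195637 := d6_2 F465461 D214502 (iv3 F464984)
theorem F475496 : act 7 n214502 = n208951 := d8_2 (iv7 F437811) D214502 (iv3 F451530)
theorem F475497 : act 0 n214502 = n206856 := d20_4 (iv4 F99100) D135557 (iv4 F437666) D214502 (iv3 D206856) F207608 (iv1 F99037) (iv4 F96666) (iv3 F211849) F347625
theorem F475498 : act 0 n205683 = n214502 := d20_4 (iv4 F366221) F366218 (iv4 F450464) F450463 (iv3 D214502) F437666 (iv1 F217985) (iv4 F437661) F437660 (iv1 D201036)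
theorem F475499 : act 6 n214502 = n206664 := d21_5 F203589 (iv1 F203424) D126521 D205683 F475498 F441795 F437724 (iv5 D205756) (iv6 D126579) D126576
def n214503 : Q := act 6 n159654
theorem D214503 : act 6 n159654 = n214503 := rfl
theorem F475500 : act 2 n214503 = n207000 := d3_1 D214503 F442922 (iv2 F437812)
theorem F475501 : act 3 n214503 = n206664 := d7_1 D214503 (iv6 F475499) (iv3 D214502)
theorem F475502 : act 4 n214503 = n208999 := d10_1 D214503 (iv6 D208999) (iv4 F437666)
theorem F475503 : act 5 n214503 = n206994 := d12_1 D214503 F442890 D207077 F465462 F465461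
theorem F475504 : act 7 n214503 = n207004 := d14_2 (iv7 F437811) D214503 (iv6 F446413) F446409 F442649
theorem F475505 : act 0 n214503 = n212406 := d21_10 F465680 (iv1 D207784) (iv5 F418327) (iv6 D200898) F176784 D146797 F335969 D212252 F465461 D214503
def n214504 : Q := act 5 n159657
theorem D214504 : act 5 n159657 = n214504 := rfl
theorem F475506 : act 2 n214504 = n206651 := d2_1 D214504 F441741 (iv2 F444288)
theorem F475507 : act 7 n214504 = n206654 := d13_2 F444287 D214504 F441754
theorem F475508 : act 4 n214504 = n206470 := d17_4 (iv1 D107577) (iv5 F114504) D159657 D214504 (iv5 D206470) (iv0 D128648) F95108 D106652 F358288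
theorem F475509 : act 0 n195977 = n214504 := d21_10 (iv5 D214504) (iv1 F251523) F233507 (iv6 D110784) (iv1 F80541) D107575 F165962 F177014 F177013 D195977
def n214505 : Q := act 3 n159658
theorem D214505 : act 3 n159658 = n214505 := rfl
theorem F475510 : act 2 n214505 = n200142 := d0_1 D214505 (iv3 F444279) F444275 F365181 F444289
theorem F475511 : act 5 n214505 = n189345 := d6_2 F448315 D214505 (iv3 F448312)
theorem F475512 : act 7 n214505 = n200141 := d8_2 (iv7 F444290) D214505 (iv3 F430419)
theorem F475513 : act 0 n214505 = n159677 := d20_4 (iv4 F475403) (iv1 F475407) F475409 D214505 (iv3 F327580) F220677 (iv1 F170822) F170823 D130703 F399922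
theorem F475514 : act 0 n200143 = n214505 := d20_4 F396124 (iv1 F415234) F415230 (iv3 F415220) (iv3 D214505) (iv4 F475409) (iv1 D214487) F251336 F114448 F163446
def n214506 : Q := act 6 n159673
theorem D214506 : act 6 n159673 = n214506 := rfl
theorem F475515 : act 2 n214506 = n195140 := d3_1 D214506 (iv6 D195140) (iv2 F251537)
theorem F475516 : act 3 n214506 = n194779 := d7_1 D214506 F394441 F350299
theorem F475517 : act 4 n214506 = n159674 := d10_1 D214506 (iv6 D159674) D159673
theorem F475518 : act 7 n214506 = n208528 := d14_2 (iv7 F251538) D214506 F449743 F395955 (iv6 D195143)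
def n214507 : Q := act 6 n159679
theorem D214507 : act 6 n159679 = n214507 := rfl
theorem F475519 : act 2 n214507 = n203150 := d3_1 D214507 F427178 (iv2 F253050)
theorem F475520 : act 3 n214507 = n203154 := d7_1 D214507 (iv6 F474801) F474798
theorem F475521 : act 4 n214507 = n188583 := d10_1 D214507 F374086 F261874
theorem F475522 : act 7 n214507 = n211639 := d14_2 (iv7 F253048) D214507 (iv6 D211639) (iv7 F462349) F462348
theorem F475523 : act 0 n214507 = n186911 := d21_4 (iv5 F406337) (iv1 F450128) F450126 D214507 (iv6 D186911) F137056 (iv1 F284794) (iv5 F289275) (iv6 F347292) F421250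
theorem F475524 : act 0 n189287 = n214507 := d21_4 D146824 (iv1 F427958) (iv5 D203341) (iv6 F376333) (iv6 D214507) (iv5 F450126) (iv1 F450127) F449085 (iv6 F421310) (iv1 D146823)
def n214508 : Q := act 4 n159685
theorem D214508 : act 4 n159685 = n214508 := rfl
theorem F475525 : act 2 n214508 = n197054 := d1_1 D214508 (iv4 D197054) F258987
theorem F475526 : act 7 n214508 = n212952 := d11_2 F259153 D214508 (iv4 D212952)
theorem F475527 : act 5 n214508 = n203369 := d17_5 (iv1 F468278) F468280 (iv1 D201653) (iv5 F258988) D214508 (iv0 D203369) F186827 D151710 (iv4 F363066)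
theorem F475528 : act 0 n214508 = n159990 := d18_2 (iv1 F251568) D214508 (iv4 D159990) (iv5 D76599) (iv4 F114871) (iv0 F355342) F355345 F114532 (iv5 F238466)
theorem F475529 : act 1 n214508 = n212976 := d18_6 F464914 (iv4 D208292) (iv1 F411694) F411690 (iv5 F258988) D214508 F468413 F430465 (iv5 F464912)
def n214509 : Q := act 6 n159685
theorem D214509 : act 6 n159685 = n214509 := rfl
theorem F475530 : act 2 n214509 = n197055 := d3_1 D214509 (iv6 D197055) F258987
theorem F475531 : act 3 n214509 = n176934 := d7_1 D214509 (iv6 F410121) F410119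
theorem F475532 : act 5 n214509 = n201652 := d12_1 D214509 (iv6 D201652) (iv5 D114929) D114930 (iv5 F258988)
theorem F475533 : act 0 n214509 = n189662 := d21_4 F468280 (iv1 D201653) (iv5 F258988) D214509 (iv6 D189662) F293769 (iv1 F137480) F292542 F238439 (iv1 F468278)
theorem F475534 : act 0 n212241 = n214509 := d21_4 (iv5 F361626) (iv1 D145950) D145952 D212241 (iv6 D214509) F258988 F411695 (iv5 F420248) (iv6 D201378) (iv1 F341583)
theorem F475535 : act 7 n187185 = n214509 := d13_0 F475532 (iv7 F451959) F451956
def n214510 : Q := act 5 n159686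
theorem D214510 : act 5 n159686 = n214510 := rfl
theorem F475536 : act 2 n214510 = n212956 := d2_1 D214510 (iv5 D212956) (iv2 F251569)
theorem F475537 : act 3 n214510 = n183112 := d6_1 D214510 (iv5 F443670) F443668
theorem F475538 : act 6 n214510 = n203376 := d12_2 (iv6 F251570) D214510 (iv5 F428094) (iv6 F307830) F312177
theorem F475539 : act 7 n214510 = n192531 := d13_2 F468466 D214510 (iv5 F468465)
theorem F475540 : act 4 n214510 = n188315 := d16_2 D159686 D214510 F373067 (iv4 F352546) F336395 F238435 (iv5 F238466) (iv7 D151574) (iv2 F114533)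
theorem F475541 : act 0 n214510 = n207331 := d17_2 F399769 D214510 F444382 (iv4 F430297) F430298 (iv0 D121359) D121361 (iv0 F399768) F399765
theorem F475542 : act 1 n214510 = n189003 := d17_8 (iv1 F444697) F217302 D206473 F447183 (iv4 F448333) F448334 (iv0 F430456) D214510 (iv4 F444693)
def n214511 : Q := act 5 n159689
theorem D214511 : act 5 n159689 = n214511 := rfl
theorem F475543 : act 2 n214511 = n192715 := d2_1 D214511 (iv5 F419416) F419413
theorem F475544 : act 3 n214511 = n159692 := d6_1 D214511 (iv5 D159692) (iv3 F251579)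
theorem F475545 : act 6 n214511 = n192655 := d12_2 D159689 D214511 F387377 (iv6 D123218) (iv5 F114541)
theorem F475546 : act 7 n214511 = n192714 := d13_2 F442941 D214511 (iv5 F442944)
theorem F475547 : act 4 n214511 = n201563 := d16_4 (iv4 F214102) F319156 (iv4 F251580) D214511 F420947 (iv4 F437222) (iv5 F446077) (iv7 D207703) F211860
theorem F475548 : act 0 n214511 = n192710 := d17_2 F442916 D214511 (iv5 F427174) (iv4 F430497) F430498 F363457 (iv5 F319160) (iv0 F366248) D206998
theorem F475549 : act 0 n192716 = n214511 := d21_7 F242417 (iv1 F196526) D153329 (iv6 F426087) (iv1 F426088) D212338 (iv5 F465387) (iv5 D214511) (iv6 D159689) (iv1 F242419)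
def n214512 : Q := act 5 n159690
theorem D214512 : act 5 n159690 = n214512 := rfl
theorem F475550 : act 2 n214512 = n159709 := d2_1 D214512 (iv5 D159709) (iv2 F251584)
theorem F475551 : act 3 n214512 = n198995 := d6_1 D214512 F410233 (iv3 F354945)
theorem F475552 : act 6 n214512 = n178614 := d12_2 F354834 D214512 (iv5 D178614) (iv6 F353551) (iv5 F354836)
theorem F475553 : act 7 n214512 = n159712 := d13_2 F251582 D214512 (iv5 D159712)
theorem F475554 : act 0 n214512 = n210264 := d17_2 D159690 D214512 (iv5 F468286) F468285 (iv5 F288144) (iv0 F288148) (iv5 D159697) (iv0 D76403) (iv4 F114543)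
theorem F475555 : act 4 n204226 = n214512 := d10_3 F475552 F337463 D204226
def n214513 : Q := act 5 n159691
theorem D214513 : act 5 n159691 = n214513 := rfl
theorem F475556 : act 2 n214513 = n159712 := d2_1 D214513 (iv5 D159712) F251587
theorem F475557 : act 3 n214513 = n199063 := d6_1 D214513 (iv5 F463918) F463920
theorem F475558 : act 6 n214513 = n198990 := d12_2 F473517 D214513 (iv5 D198990) (iv6 F246446) (iv5 F473516)
theorem F475559 : act 7 n214513 = n159709 := d13_2 (iv7 F251586) D214513 (iv5 D159709)
theorem F475560 : act 1 n214513 = n210264 := d17_6 D188583 F374082 (iv1 F372623) (iv5 F374115) F374114 D214513 (iv5 F468286) (iv0 F468287) (iv4 D188585)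
def n214514 : Q := act 0 n159692
theorem D214514 : act 0 n159692 = n214514 := rfl
theorem F475561 : act 5 n214514 = n187433 := d17_3 (iv1 D159691) D159692 D214514 (iv4 D187433) (iv5 D90129) (iv0 F337229) (iv5 F186609) F374118 F374114
theorem F475562 : act 6 n214514 = n191936 := d21_5 (iv5 D204225) F316731 D123221 (iv6 F251589) D214514 (iv5 D191936) (iv1 F177396) D191263 F382803 (iv1 F431555)
theorem F475563 : act 2 n159714 = n214514 := d3_3 F475562 F384902 (iv6 F363122)
theorem F475564 : act 3 n191938 = n214514 := d7_3 F475562 F384903 D191938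
theorem F475565 : act 4 n211220 = n214514 := d10_3 F475562 (iv4 F458241) (iv6 F460665)
theorem F475566 : act 7 n159715 = n214514 := d14_0 F475562 (iv7 F385315) (iv6 F385317) (iv7 F224250) (iv6 F449431)
theorem F475567 : act 0 n214514 = n159717 := d21_10 F251638 (iv1 F251585) D214513 F475558 (iv1 F410208) F410210 F385323 F177414 D191936 (iv6 F475562)
def n214515 : Q := act 1 n159692
theorem D214515 : act 1 n159692 = n214515 := rfl
theorem F475568 : act 1 n214515 = n159717 := d15_1 D214515 (iv7 D159717) (iv2 F251588)
theorem F475569 : act 7 n214515 = n159714 := d15_2 (iv0 D214514) D214515 F475563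
theorem F475570 : act 5 n203335 = n214515 := d21_6 (iv5 D27342) D27339 F44240 D54672 D118746 D203335 (iv1 D214515) (iv5 D159692) (iv6 D76402) F55254
theorem F475571 : act 2 n214515 = n159715 := d2_1 F475570 (iv5 F419901) (iv2 F427931)
theorem F475572 : act 4 n211216 = n214515 := d1_0 F475571 (iv4 F449430) (iv2 F460644)
theorem F475573 : act 6 n211215 = n214515 := d3_0 F475571 F449431 (iv2 F460639)
def n214516 : Q := act 4 n159692
theorem D214516 : act 4 n159692 = n214516 := rfl
theorem F475574 : act 2 n214516 = n159716 := d1_1 D214516 (iv4 D159716) (iv2 F251588)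
theorem F475575 : act 3 n214516 = n208879 := d5_1 D214516 (iv4 D208879) (iv3 F420946) (iv4 F475547) F475544
theorem F475576 : act 5 n214516 = n191737 := d9_2 D159692 D214516 F384298 F152413 (iv4 F114567) F114568 (iv4 F114560) (iv5 F251638) F387699 F387698 (iv4 D186673) (iv5 D89025) F64177 (iv5 F55257) (iv4 F114543)
theorem F475577 : act 6 n214516 = n204246 := d10_2 (iv6 F251589) D214516 (iv4 D204246)
theorem F475578 : act 0 n214516 = n192769 := d18_2 (iv1 D214515) D214516 F387707 (iv5 F368492) F368491 F283584 (iv4 F448762) (iv0 F448764) F475570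
theorem F475579 : act 7 n214516 = n191736 := d15_2 F387709 (iv0 F475578) (iv2 F387697)
def n214517 : Q := act 7 n159692
theorem D214517 : act 7 n159692 = n214517 := rfl
theorem F475580 : act 2 n214517 = n159717 := d4_1 D214517 (iv7 D159717) (iv2 F251588)
theorem F475581 : act 3 n214517 = n192714 := d8_1 D214517 (iv7 F475546) F475544
theorem F475582 : act 4 n214517 = n191736 := d11_1 D214517 (iv7 F475579) (iv4 D214516)
theorem F475583 : act 5 n214517 = n159693 := d13_1 D214517 (iv7 D159693) D159692
theorem F475584 : act 6 n214517 = n201559 := d14_1 D214517 F420941 F387690 F337496 (iv6 F251589)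
theorem F475585 : act 1 n159715 = n214517 := d15_1 D159715 (iv7 D214517) F251588
theorem F475586 : act 1 n214517 = n159714 := d15_1 F475585 (iv7 F475569) F475571
theorem F475587 : act 0 n209581 = n191456 := d18_0 (iv4 D191456) F151789 D98860 D191736 (iv4 F475582) F475586 (iv4 F454219) (iv0 D209580) D209581
def n214518 : Q := act 4 n159697
theorem D214518 : act 4 n159697 = n214518 := rfl
theorem F475588 : act 2 n214518 = n159730 := d1_1 D214518 (iv4 D159730) (iv2 F251614)
theorem F475589 : act 3 n214518 = n192865 := d5_1 D214518 F388059 F370213 (iv4 F369335) F369334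
theorem F475590 : act 6 n214518 = n187607 := d10_2 F288410 D214518 F371003
theorem F475591 : act 7 n214518 = n159740 := d11_2 F251621 D214518 (iv4 D159740)
theorem F475592 : act 1 n214518 = n193120 := d18_6 F354957 (iv4 F238044) (iv1 F354956) (iv4 D159696) D159697 D214518 F388816 (iv0 D187664) (iv5 F142430)
theorem F475593 : act 0 n214518 = n188269 := d20_1 D214518 F372911 F372619 (iv1 D102581) (iv3 D47579) (iv4 D22876) D22874 (iv4 F63625) D88497 (iv1 F288149)
def n214519 : Q := act 0 n159709
theorem D214519 : act 0 n159709 = n214519 := rfl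
theorem F475594 : act 5 n214519 = n208290 := d17_3 D76408 D159709 D214519 F448762 F251566 (iv0 F251567) (iv5 D76415) (iv0 D34915) (iv4 F55270)
theorem F475595 : act 6 n214519 = n208291 := d21_5 (iv5 F314593) F314590 D133506 (iv6 F341533) D214519 (iv5 D208291) F357342 (iv5 F219791) (iv6 D136643) D136640
theorem F475596 : act 1 n159712 = n214519 := d15_0 (iv0 D214519) (iv7 F475559) F475556
theorem F475597 : act 2 n210264 = n214519 := d3_3 F475595 F448765 D210264
def n214520 : Q := act 1 n159709
theorem D214520 : act 1 n159709 = n214520 := rfl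
theorem F475598 : act 1 n214520 = n159712 := d15_1 D214520 (iv7 F475553) F475550
theorem F475599 : act 7 n214520 = n210264 := d15_2 (iv0 D214519) D214520 F475597
def n214521 : Q := act 4 n159709
theorem D214521 : act 4 n159709 = n214521 := rfl
theorem F475600 : act 2 n214521 = n204226 := d1_1 D214521 F475555 F475550
theorem F475601 : act 3 n214521 = n204632 := d5_1 D214521 (iv4 F443111) F443110 (iv4 F214695) F341534
theorem F475602 : act 6 n214521 = n204225 := d10_2 (iv6 F341533) D214521 F431552
theorem F475603 : act 5 n214521 = n191456 := d16_1 D214521 (iv4 D191456) (iv5 F290615) F290614 (iv5 F142430) F142432 D159712 (iv7 F475553) F475550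
theorem F475604 : act 0 n214521 = n210260 := d21_4 (iv5 D124074) (iv1 F197401) D204225 (iv6 F475602) (iv6 D210260) (iv5 D138036) (iv1 F356303) F357733 (iv6 F357734) F342611
def n214522 : Q := act 4 n159712
theorem D214522 : act 4 n159712 = n214522 := rfl
theorem F475605 : act 3 n214522 = n198803 := d5_1 D214522 F409319 F170523 (iv4 F171626) F360943
theorem F475606 : act 5 n214522 = n191731 := d9_2 D159712 D214522 (iv4 D191731) (iv5 F290951) (iv4 F372612) F372613 F317464 D159709 D214521 F475603 (iv4 D191456) (iv5 F290615) F290614 (iv5 F142430) F142432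
theorem F475607 : act 6 n214522 = n198802 := d10_2 (iv6 F360942) D214522 F409316
theorem F475608 : act 7 n214522 = n204226 := d11_2 F475553 D214522 F475555
theorem F475609 : act 0 n210260 = n214522 := d19_0 F475606 (iv4 D191731) (iv3 F290088) (iv1 F195857) F151815 F72613 (iv3 F107133) (iv1 F134118) D182995 (iv4 F339710) F233276 F229896 (iv5 D68711) D68710 (iv3 F319421) (iv1 F178609) D114797 D201536 (iv3 F456772)
theorem F475610 : act 0 n204544 = n212031 := d20_10 (iv4 D212031) F349972 D201536 (iv3 F456772) F475609 F475605 F409319 F401232 (iv4 F401234) D204544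
def n214523 : Q := act 5 n159714
theorem D214523 : act 5 n159714 = n214523 := rfl
theorem F475611 : act 2 n214523 = n187433 := d2_1 D214523 (iv5 F475561) (iv2 F475563)
theorem F475612 : act 4 n214523 = n187431 := d9_1 D214523 (iv5 D187431) F138572 D98858 D191729 F449432 F449430 (iv5 F419901) (iv4 D188585) (iv5 D92501) F67874 D89611 D187151 (iv5 F454283) F454219
theorem F475613 : act 7 n214523 = n203335 := d13_2 F475569 D214523 F475570
theorem F475614 : act 1 n214523 = n212951 := d17_8 (iv1 F283739) (iv5 D159748) (iv1 F114569) (iv5 F114547) (iv4 F251591) (iv5 F475583) F475586 D214523 F468285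
def n214524 : Q := act 0 n159716
theorem D214524 : act 0 n159716 = n214524 := rfl
theorem F475615 : act 4 n214524 = n188398 := d20_2 D159716 D214524 F373294 (iv1 F366879) F198208 (iv4 F198328) (iv1 F364124) (iv4 F449427) F449424 (iv1 D159715)
theorem F475616 : act 2 n192769 = n214524 := d15_3 (iv0 D214524) (iv0 F470290) F470294
theorem F475617 : act 1 n191736 = n214524 := d15_0 (iv0 D214524) (iv7 F387701) F387697
theorem F475618 : act 3 n214524 = n194681 := d0_2 (iv3 F387706) F475616 (iv2 F446150) F446148 (iv2 F373373)
theorem F475619 : act 6 n214524 = n188397 := d3_2 D192769 F475616 F373291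
def n214525 : Q := act 3 n159716
theorem D214525 : act 3 n159716 = n214525 := rfl
theorem F475620 : act 2 n214525 = n210855 := d0_1 D214525 (iv3 F459038) F451830 (iv3 F475575) F475574
theorem F475621 : act 7 n214525 = n210856 := d8_2 F387701 D214525 F459042
theorem F475622 : act 0 n214525 = n210858 := d20_4 F449430 (iv1 D159715) D159716 D214525 F459045 (iv4 D201461) D201459 (iv4 F469058) (iv3 F469061) (iv1 D211219)
theorem F475623 : act 0 n202569 = n214525 := d20_4 F453289 (iv1 F453287) (iv4 F453286) F446133 (iv3 D214525) (iv4 D159716) D159714 (iv4 F454219) (iv3 F454220) (iv1 F393980)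
def n214526 : Q := act 5 n159716
theorem D214526 : act 5 n159716 = n214526 := rfl
theorem F475624 : act 2 n214526 = n191737 := d2_1 D214526 (iv5 F475576) F475574
theorem F475625 : act 4 n214526 = n185412 := d9_1 D214526 F287635 F136685 (iv5 F114547) (iv4 F251591) (iv5 F475583) F475582 (iv5 D191736) (iv4 D98860) (iv5 D46265) F55274 (iv5 D34917) (iv4 F55270) D76410 D159716
theorem F475626 : act 7 n214526 = n186673 := d13_2 F387701 D214526 (iv5 F387698)
theorem F475627 : act 1 n191734 = n214526 := d15_1 D191734 F475626 F367622
theorem F475628 : act 0 n191733 = n214526 := d20_10 F475625 F287637 D191456 (iv3 F454291) F454294 F368607 (iv4 D153667) (iv1 F241542) (iv4 F469631) (iv3 F469634)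
def n214527 : Q := act 5 n159721
theorem D214527 : act 5 n159721 = n214527 := rfl
theorem F475629 : act 2 n214527 = n201183 := d2_1 D214527 (iv5 D201183) (iv2 F251642)
theorem F475630 : act 3 n214527 = n179121 := d6_1 D214527 (iv5 F432245) F432241
theorem F475631 : act 6 n214527 = n179118 := d12_2 (iv6 F342989) D214527 (iv5 F354245) (iv6 D142521) D142520
theorem F475632 : act 7 n214527 = n197130 := d13_2 F335484 D214527 (iv5 D197130)
theorem F475633 : act 1 n214527 = n213138 := d17_6 F466757 F466753 (iv1 F370623) (iv5 D159722) D159721 D214527 F469162 F468912 F468909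
theorem F475634 : act 4 n197235 = n214527 := d10_3 F475631 (iv4 F354251) D197235
theorem F475635 : act 0 n213950 = n197235 := d18_2 F453630 (iv4 F472857) F475634 (iv5 D214527) (iv4 D159721) (iv0 F342992) (iv4 F239268) (iv0 F353776) F353774
theorem F475636 : act 1 n213814 = n197235 := d18_6 F466225 F466222 F376335 (iv4 F429192) F429193 D213814 F475634 F475633 F469162
def n214528 : Q := act 0 n159722
theorem D214528 : act 0 n159722 = n214528 := rfl
theorem F475637 : act 5 n214528 = n164515 := d17_3 F342992 D159722 D214528 (iv4 F429192) F429193 F403215 F355108 (iv0 F335780) F239268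
theorem F475638 : act 4 n214528 = n182409 := d18_1 D214528 F344322 (iv4 F142962) F142963 D114074 F419370 F419367 (iv0 D159718) D159722
theorem F475639 : act 3 n214528 = n159792 := d20_5 (iv4 F467785) F467787 (iv4 D159730) (iv3 F251648) D214528 (iv4 F372842) F372839 F156173 (iv3 F371131) (iv1 F372626)
theorem F475640 : act 6 n214528 = n182407 := d21_5 D189608 F377102 F376447 (iv6 F370473) D214528 (iv5 F420642) (iv1 F420645) (iv5 F251929) F251930 F152533
theorem F475641 : act 2 n185052 = n214528 := d15_3 (iv0 D214528) F370623 F370622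
theorem F475642 : act 1 n188790 = n214528 := d15_0 (iv0 D214528) (iv7 F386175) F386171
theorem F475643 : act 7 n214528 = n185047 := d15_2 F374901 F475642 (iv2 F370619)
def n214529 : Q := act 5 n159724
theorem D214529 : act 5 n159724 = n214529 := rfl
theorem F475644 : act 2 n214529 = n192770 := d2_1 D214529 (iv5 F426121) F355772
theorem F475645 : act 3 n214529 = n213759 := d6_1 D214529 (iv5 D213759) F355773
theorem F475646 : act 7 n214529 = n192771 := d13_2 (iv7 F355769) D214529 F387708
theorem F475647 : act 4 n214529 = n209582 := d18_5 D159690 F251581 F355775 F355774 D214529 F460666 F475565 (iv0 D214514) (iv5 D159692)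
theorem F475648 : act 0 n214529 = n192772 := d18_0 F470293 F470290 (iv4 D159716) (iv5 D76410) F55270 D34916 D76419 F251650 D214529
theorem F475649 : act 0 n188398 = n214529 := d21_10 (iv5 D214529) (iv1 F251650) D159738 (iv6 F388750) F420733 F420732 (iv5 F335403) F293970 D91350 D188398
def n214530 : Q := act 0 n159727
theorem D214530 : act 0 n159727 = n214530 := rfl
theorem F475650 : act 5 n214530 = n214507 := d17_3 F355767 D159727 D214530 F475521 F374082 (iv0 D188187) (iv5 F355733) (iv0 F355738) (iv4 F238386)
theorem F475651 : act 6 n214530 = n191770 := d21_5 (iv5 D192086) F341557 D181739 (iv6 F355766) D214530 (iv5 F456751) F456752 (iv5 F457656) (iv6 D210466) (iv1 F385487)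
theorem F475652 : act 1 n159738 = n214530 := d15_0 (iv0 D214530) (iv7 F432375) F432373
theorem F475653 : act 3 n191772 = n214530 := d7_3 F475651 (iv3 D191770) D191772
def n214531 : Q := act 4 n159727
theorem D214531 : act 4 n159727 = n214531 := rfl
theorem F475654 : act 2 n214531 = n204402 := d1_1 D214531 (iv4 F457700) F457698
theorem F475655 : act 6 n214531 = n192010 := d10_2 (iv6 F355766) D214531 (iv4 F385193)
theorem F475656 : act 5 n214531 = n191734 := d17_5 (iv1 F468213) (iv5 D212935) F355767 D159727 D214531 F475627 (iv5 D214526) (iv0 F470290) (iv4 F470293)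
theorem F475657 : act 3 n192011 = n214531 := d6_3 F475656 F471039 (iv5 F385196)
def n214532 : Q := act 5 n159730
theorem D214532 : act 5 n159730 = n214532 := rfl
theorem F475658 : act 3 n214532 = n181948 := d6_1 D214532 (iv5 F295167) F295166
theorem F475659 : act 1 n214532 = n213326 := d17_6 (iv1 D76423) (iv5 D34917) D34915 D76415 D159730 D214532 (iv5 D213326) (iv0 F355770) (iv4 D159751)
theorem F475660 : act 4 n214532 = n191733 := d18_5 F290611 F287675 (iv1 D159729) D159730 D214532 (iv0 D191733) (iv4 D98860) (iv0 F151789) (iv5 F290615)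
def n214533 : Q := act 3 n159734
theorem D214533 : act 3 n159734 = n214533 := rfl
theorem F475661 : act 2 n214533 = n190221 := d0_1 D214533 (iv3 D190221) (iv2 F379099) (iv3 F379095) (iv2 F251682)
theorem F475662 : act 4 n214533 = n159737 := d5_2 D159734 D214533 (iv3 D159737) (iv4 D76419) D76418
theorem F475663 : act 7 n214533 = n190266 := d8_2 (iv7 F251658) D214533 (iv3 D190266)
theorem F475664 : act 0 n214533 = n186753 := d20_4 (iv4 F193566) (iv1 F251647) D159734 D214533 F367886 F147124 (iv1 F334999) (iv4 F362060) (iv3 F362062) (iv1 F251960)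
def n214534 : Q := act 5 n159734
theorem D214534 : act 5 n159734 = n214534 := rfl
theorem F475665 : act 2 n214534 = n190268 := d2_1 D214534 (iv5 D190268) (iv2 F251682)
theorem F475666 : act 7 n214534 = n190267 := d13_2 (iv7 F251658) D214534 (iv5 D190267)
theorem F475667 : act 1 n214534 = n191106 := d17_6 (iv1 F369499) (iv5 F371813) (iv1 F371815) F367165 D159734 D214534 (iv5 D191106) D191105 F382246
theorem F475668 : act 1 n214215 = n214534 := d15_0 F475667 F463095 (iv2 F474027)
def n214535 : Q := act 6 n159734
theorem D214535 : act 6 n159734 = n214535 := rfl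
theorem F475669 : act 2 n214535 = n190269 := d3_1 D214535 (iv6 D190269) (iv2 F251682)
theorem F475670 : act 4 n214535 = n159736 := d10_1 D214535 (iv6 D159736) D159734
theorem F475671 : act 7 n214535 = n206051 := d14_2 (iv7 F251658) D214535 (iv6 F439011) (iv7 F364563) (iv6 F364564)
theorem F475672 : act 0 n214535 = n206052 := d21_4 D191106 (iv1 F475667) (iv5 D214534) D214535 F439019 (iv5 D200778) (iv1 D113454) D113455 F382248 (iv1 D191105)
theorem F475673 : act 1 n214535 = n190371 := d15_1 (iv0 F475672) (iv7 F429833) (iv2 F439016)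
def n214536 : Q := act 6 n159737
theorem D214536 : act 6 n159737 = n214536 := rfl
theorem F475674 : act 3 n214536 = n159739 := d7_1 D214536 (iv6 D159739) D159737
theorem F475675 : act 5 n214536 = n189037 := d12_1 D214536 F375523 F372452 D193101 F388748
theorem F475676 : act 7 n214536 = n193634 := d14_2 (iv7 F368347) D214536 (iv6 D193634) (iv7 F359237) (iv6 F368344)
theorem F475677 : act 1 n212322 = n214536 := d15_1 (iv0 F465310) F475676 F390517
theorem F475678 : act 0 n199311 = n214536 := d17_0 F475675 (iv1 F375533) F368664 (iv4 F368651) F368652 F447993 F447989 F413799 F413796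
def n214537 : Q := act 4 n159738
theorem D214537 : act 4 n159738 = n214537 := rfl
theorem F475679 : act 3 n214537 = n204407 := d5_1 D214537 F432421 (iv3 F459276) F459277 (iv3 F388749)
theorem F475680 : act 6 n214537 = n210478 := d10_2 F388750 D214537 F457703
theorem F475681 : act 7 n214537 = n204402 := d11_2 (iv7 F457702) D214537 (iv4 F457700)
theorem F475682 : act 5 n214537 = n191733 := d16_1 D214537 (iv4 F475660) (iv5 D214532) (iv4 D159730) (iv5 D76415) D76414 D159727 (iv7 F432375) F432373
def n214538 : Q := act 5 n159740
theorem D214538 : act 5 n159740 = n214538 := rfl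
theorem F475683 : act 4 n214538 = n191734 := d9_1 D214538 (iv5 F475656) (iv4 D214531) (iv5 D159727) (iv4 D76414) D76415 D159730 D214532 F475660 (iv5 F475682) (iv4 D214537) (iv5 D159738) (iv4 D76419) D76420 D159740
theorem F475684 : act 0 n214538 = n213326 := d17_2 F372525 D214538 (iv5 D213326) F241322 (iv5 F186609) F374118 F374115 F372623 F372621
def n214539 : Q := act 6 n159746
theorem D214539 : act 6 n159746 = n214539 := rfl
theorem F475685 : act 2 n214539 = n189289 := d3_1 D214539 (iv6 D189289) (iv2 F251692)
theorem F475686 : act 3 n214539 = n159749 := d7_1 D214539 (iv6 D159749) D159746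
theorem F475687 : act 4 n214539 = n186609 := d10_1 D214539 (iv6 D186609) F251693
theorem F475688 : act 5 n214539 = n187747 := d12_1 D214539 (iv6 F422158) (iv5 D201872) D201873 F422162
theorem F475689 : act 7 n214539 = n191863 := d14_2 (iv7 F283529) D214539 F384609 F377301 (iv6 D189284)
theorem F475690 : act 0 n214539 = n208519 := d21_4 (iv5 F429883) F429884 F422162 D214539 F449709 (iv5 F379704) (iv1 F379705) F377349 (iv6 F371829) F371831
def n214540 : Q := act 4 n159748
theorem D214540 : act 4 n159748 = n214540 := rfl
theorem F475691 : act 2 n214540 = n186911 := d1_1 D214540 F368491 F283583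
theorem F475692 : act 6 n214540 = n186489 := d10_2 (iv6 F336808) D214540 (iv4 F336807)
theorem F475693 : act 7 n214540 = n189287 := d11_2 (iv7 F283582) D214540 (iv4 D189287)
theorem F475694 : act 5 n214540 = n188398 := d16_7 F470293 (iv5 D213416) (iv4 F470160) F470161 (iv4 D159747) D159748 D214540 (iv7 F432380) F432379
theorem F475695 : act 0 n214540 = n211639 := d18_2 (iv1 F283739) D214540 F462483 F371141 (iv4 F388816) (iv0 F388818) F285527 F288153 F288144
theorem F475696 : act 1 n214540 = n203150 := d18_6 (iv1 F337230) (iv4 F241322) (iv1 F355771) (iv4 D159747) D159748 D214540 F427177 (iv0 F374077) (iv5 D188582)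
theorem F475697 : act 3 n214540 = n186837 := d20_3 F468285 (iv1 F283739) D214540 (iv1 F470985) F470981 (iv4 F411834) (iv1 F411837) F374108 (iv3 F374109) F468287
def n214541 : Q := act 5 n159751
theorem D214541 : act 5 n159751 = n214541 := rfl
theorem F475698 : act 2 n214541 = n189285 := d2_1 D214541 (iv5 D189285) F283564
theorem F475699 : act 7 n214541 = n189280 := d13_2 F283563 D214541 (iv5 D189280)
def n214542 : Q := act 4 n159752
theorem D214542 : act 4 n159752 = n214542 := rfl
theorem F475700 : act 2 n214542 = n189287 := d1_1 D214542 (iv4 D189287) F283565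
theorem F475701 : act 6 n214542 = n203113 := d10_2 (iv6 F251698) D214542 (iv4 F427024)
theorem F475702 : act 7 n214542 = n186911 := d11_2 (iv7 F283552) D214542 F368491
theorem F475703 : act 5 n214542 = n192772 := d16_1 D214542 F470293 (iv5 D213416) (iv4 F470160) F470161 (iv4 D159747) D159748 F283582 F283565
theorem F475704 : act 0 n214542 = n203150 := d18_2 (iv1 F283737) D214542 F427177 F372618 (iv4 F372911) (iv0 F475593) (iv4 D214518) F288149 (iv5 F283734)
theorem F475705 : act 1 n214542 = n211639 := d18_6 D90126 D187430 F370300 (iv4 D159751) D159752 D214542 F462483 (iv0 D187432) (iv5 D90129)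
theorem F475706 : act 3 n186916 = n214542 := d6_3 F475703 F387714 (iv5 F368494)
def n214543 : Q := act 5 n159797
theorem D214543 : act 5 n159797 = n214543 := rfl
theorem F475707 : act 2 n214543 = n190238 := d2_1 D214543 F387932 F387927
theorem F475708 : act 3 n214543 = n159798 := d6_1 D214543 (iv5 D159798) D159797
theorem F475709 : act 6 n214543 = n162658 := d12_2 (iv6 F331191) D214543 (iv5 D162658) F300463 D84237
theorem F475710 : act 7 n214543 = n190279 := d13_2 F390382 D214543 F390384
theorem F475711 : act 0 n214543 = n186755 := d17_2 F380676 D214543 (iv5 D186755) F136808 D89095 F289946 (iv5 D101968) (iv0 F357545) (iv4 F372682)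
theorem F475712 : act 1 n214543 = n186889 := d17_6 F367326 (iv5 F421251) (iv1 F421255) (iv5 F380672) (iv4 F380674) D214543 (iv5 D186889) F367890 F367888
theorem F475713 : act 4 n190133 = n214543 := d18_7 F251837 F251834 (iv1 D95635) F70214 D44680 D95656 D190133 F475712 (iv5 D186889)
theorem F475714 : act 5 n201670 = n190133 := d16_1 D201670 F475713 (iv5 D214543) F380674 F380672 (iv4 F355679) D201206 (iv7 F421314) F421312
def n214544 : Q := act 6 n159798
theorem D214544 : act 6 n159798 = n214544 := rfl
theorem F475715 : act 2 n214544 = n190281 := d3_1 D214544 (iv6 D190281) (iv2 F251807)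
theorem F475716 : act 3 n214544 = n162658 := d7_1 D214544 (iv6 F475709) F475708
theorem F475717 : act 4 n214544 = n197474 := d10_1 D214544 (iv6 F419606) F419605
theorem F475718 : act 5 n214544 = n162657 := d12_1 D214544 F303302 F331196 (iv6 F135566) D159798
theorem F475719 : act 0 n214544 = n211748 := d21_4 F369612 F290544 D159798 D214544 (iv6 F462940) F226861 (iv1 F393734) F393732 (iv6 D190278) F369614
theorem F475720 : act 0 n211743 = n214544 := d17_0 F475718 (iv1 F435763) (iv5 F463192) F463193 F415970 F175944 D200226 F415610 D211743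
def n214545 : Q := act 1 n159801
theorem D214545 : act 1 n159801 = n214545 := rfl
theorem F475721 : act 1 n214545 = n159808 := d15_1 D214545 F251839 (iv2 F251813)
theorem F475722 : act 7 n214545 = n190276 := d15_2 (iv0 F251816) D214545 (iv2 F379261)
theorem F475723 : act 5 n214545 = n194132 := d17_7 (iv1 F293793) F293796 (iv1 F177470) (iv5 D76473) D76472 D159801 D214545 F392142 F158486
theorem F475724 : act 2 n187246 = n214545 := d2_3 F475723 (iv2 D194132) (iv5 F369612)
theorem F475725 : act 3 n194753 = n214545 := d6_3 F475723 F392138 D194753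
def n214546 : Q := act 6 n159801
theorem D214546 : act 6 n159801 = n214546 := rfl
theorem F475726 : act 2 n214546 = n190277 := d3_1 D214546 (iv6 D190277) (iv2 F251813)
theorem F475727 : act 3 n214546 = n190230 := d7_1 D214546 (iv6 D190230) (iv3 F251814)
theorem F475728 : act 5 n214546 = n194276 := d12_1 D214546 (iv6 D194276) (iv5 F283805) F283806 D159801
theorem F475729 : act 7 n214546 = n214210 := d14_2 (iv7 F251815) D214546 (iv6 D214210) F410897 (iv6 D190278)
theorem F475730 : act 0 n214546 = n208189 := d21_4 (iv5 D95789) F114612 D159801 D214546 F448290 F415631 F394750 (iv5 F475718) (iv6 D214544) F251809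
def n214547 : Q := act 1 n159806
theorem D214547 : act 1 n159806 = n214547 := rfl
theorem F475731 : act 1 n214547 = n189355 := d15_1 D214547 F377156 F377153
theorem F475732 : act 4 n214547 = n186819 := d17_9 (iv1 F368125) (iv5 F362388) F349187 (iv5 D101200) (iv4 F138871) D187504 (iv0 F420481) F420480 D214547
theorem F475733 : act 5 n214547 = n212061 := d18_9 (iv1 D212061) F361013 D192725 F387601 F154815 (iv4 F143503) (iv0 F345184) (iv4 F251832) D214547
theorem F475734 : act 2 n189219 = n214547 := d2_3 F475733 F464181 F376138
theorem F475735 : act 6 n186817 = n214547 := d21_5 F83051 F83053 (iv5 F68960) D93834 F368122 F475733 (iv1 D212061) F228240 (iv6 D70285) (iv1 F62303)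
def n214548 : Q := act 5 n159807
theorem D214548 : act 5 n159807 = n214548 := rfl
theorem F475736 : act 2 n214548 = n190231 := d2_1 D214548 (iv5 D190231) (iv2 F251833)
theorem F475737 : act 3 n214548 = n159808 := d6_1 D214548 (iv5 D159808) D159807
theorem F475738 : act 7 n214548 = n190274 := d13_2 (iv7 F251835) D214548 (iv5 D190274)
theorem F475739 : act 0 n214548 = n193592 := d17_2 F251837 D214548 (iv5 D193592) (iv4 D102001) (iv5 F347749) F289505 (iv5 D186565) F136251 D89353
theorem F475740 : act 1 n214548 = n193591 := d17_6 F285787 D194076 F391990 (iv5 D190116) (iv4 F251834) D214548 (iv5 D193591) F387931 F387929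
theorem F475741 : act 6 n214211 = n214548 := d7_0 F475737 F410895 D214211
def n214549 : Q := act 5 n159813
theorem D214549 : act 5 n159813 = n214549 := rfl
theorem F475742 : act 3 n214549 = n159814 := d6_1 D214549 (iv5 D159814) D159813
theorem F475743 : act 7 n214549 = n190041 := d13_2 (iv7 F251846) D214549 (iv5 D190041)
def n214550 : Q := act 6 n159813
theorem D214550 : act 6 n159813 = n214550 := rfl
theorem F475744 : act 3 n214550 = n159815 := d7_1 D214550 (iv6 D159815) D159813
theorem F475745 : act 5 n214550 = n189839 := d21_6 (iv5 F106457) (iv1 F106458) (iv5 F70961) D96525 F353224 D214550 (iv1 F377939) F348563 (iv6 D103017) F75022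
theorem F475746 : act 6 n214549 = n208541 := d12_2 (iv6 D214550) D214549 (iv5 D208541) F377938 (iv5 F475745)
theorem F475747 : act 1 n190755 = n214550 := d17_6 (iv1 F393480) F393478 F348585 (iv5 F395048) F395049 F380932 F475745 (iv0 F394579) F394576
def n214551 : Q := act 6 n159814
theorem D214551 : act 6 n159814 = n214551 := rfl
theorem F475748 : act 2 n214551 = n190040 := d3_1 D214551 (iv6 D190040) (iv2 F251847)
theorem F475749 : act 3 n214551 = n208541 := d7_1 D214551 (iv6 F475746) F475742
theorem F475750 : act 5 n214551 = n163235 := d12_1 D214551 (iv6 F377940) (iv5 F251852) (iv6 D159815) D159814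
theorem F475751 : act 0 n160911 = n214551 := d21_1 (iv5 F254107) F475750 (iv6 F377940) (iv1 D95323) (iv6 F146958) (iv5 D95313) D95311 D189827 F397886 (iv1 D166669)
def n214552 : Q := act 3 n159818
theorem D214552 : act 3 n159818 = n214552 := rfl
theorem F475752 : act 5 n214552 = n194897 := d6_2 (iv5 F251859) D214552 (iv3 D194897)
theorem F475753 : act 7 n214552 = n190045 := d8_2 F251880 D214552 (iv3 D190045)
def n214553 : Q := act 6 n159819
theorem D214553 : act 6 n159819 = n214553 := rfl
theorem F475754 : act 2 n214553 = n190046 := d3_1 D214553 (iv6 D190046) F251885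
theorem F475755 : act 3 n214553 = n208092 := d7_1 D214553 F447842 F377928
theorem F475756 : act 4 n214553 = n197482 := d10_1 D214553 F404514 F379271
theorem F475757 : act 5 n214553 = n190600 := d12_1 D214553 (iv6 D190600) (iv5 D96231) D96232 (iv5 F251884)
theorem F475758 : act 7 n214553 = n190258 := d14_2 (iv7 F251883) D214553 (iv6 F443908) F443909 (iv6 D190044)
theorem F475759 : act 0 n214553 = n190260 := d21_4 (iv5 D104704) (iv1 F161614) (iv5 F251884) D214553 (iv6 F425574) F425569 F417622 F401177 F378635 (iv1 F177781)
theorem F475760 : act 1 n214553 = n187238 := d15_1 (iv0 F475759) F369600 D190260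
def n214554 : Q := act 6 n159820
theorem D214554 : act 6 n159820 = n214554 := rfl
theorem F475761 : act 2 n214554 = n190037 := d3_1 D214554 F378626 (iv2 F251886)
theorem F475762 : act 3 n214554 = n187327 := d7_1 D214554 F369843 F251888
theorem F475763 : act 4 n214554 = n159821 := d10_1 D214554 (iv6 D159821) D159820
theorem F475764 : act 7 n214554 = n187322 := d14_2 F251889 D214554 (iv6 D187322) F138037 (iv6 F120149)
def n214555 : Q := act 0 n159821
theorem D214555 : act 0 n159821 = n214555 := rfl
theorem F475765 : act 5 n214555 = n206174 := d17_3 F177603 (iv5 F251891) D214555 F439578 (iv5 D188534) (iv0 D92427) F67731 (iv0 F142196) D114084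
theorem F475766 : act 2 n190035 = n214555 := d2_3 F475765 (iv2 F439579) (iv5 F378624)
theorem F475767 : act 3 n212771 = n214555 := d6_3 F475765 (iv3 F467387) (iv5 F467445)
theorem F475768 : act 7 n190036 = n214555 := d13_0 F475765 F439577 (iv5 F378625)
def n214556 : Q := act 1 n159821
theorem D214556 : act 1 n159821 = n214556 := rfl
theorem F475769 : act 1 n214556 = n190038 := d15_1 D214556 (iv7 D190038) (iv2 F251890)
theorem F475770 : act 7 n214556 = n190035 := d15_2 (iv0 D214555) D214556 F475766
theorem F475771 : act 5 n214556 = n164412 := d17_7 F371806 (iv5 D93857) (iv1 D43872) D43873 (iv4 F114670) (iv5 F251891) D214556 (iv0 F346185) (iv4 F371808)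
theorem F475772 : act 3 n164413 = n214556 := d19_19 (iv1 D214556) F251891 F114670 F68975 F291097 (iv5 D22945) (iv4 D10830) F7353 D5061 (iv5 F16082) (iv4 D9293) (iv3 F14476) D19776 F63313 D23556 D48419 D104716 (iv5 F161631) (iv4 F259051)
theorem F475773 : act 2 n190036 = n214556 := d2_3 F475771 (iv2 F373884) (iv5 F378625)
theorem F475774 : act 1 n190038 = n214555 := d15_1 F475769 (iv7 F475768) F475773
def n214557 : Q := act 7 n159821
theorem D214557 : act 7 n159821 = n214557 := rfl
theorem F475775 : act 2 n214557 = n190038 := d4_1 D214557 (iv7 D190038) (iv2 F251890)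
theorem F475776 : act 4 n214557 = n187322 := d11_1 D214557 (iv7 F475764) F475763
theorem F475777 : act 5 n214557 = n159836 := d13_1 D214557 (iv7 D159836) (iv5 F251891)
theorem F475778 : act 6 n214557 = n187321 := d14_1 D214557 F369835 F251897 (iv7 D159822) D159821
theorem F475779 : act 1 n190036 = n214557 := d15_1 D190036 (iv7 D214557) F251890
theorem F475780 : act 1 n214557 = n190035 := d15_1 F475779 (iv7 F475770) (iv2 F475773)
def n214558 : Q := act 0 n159828
theorem D214558 : act 0 n159828 = n214558 := rfl
theorem F475781 : act 4 n214558 = n188711 := d18_3 (iv1 F157675) D159828 D214558 F374517 (iv4 F376050) F376053 F369815 (iv0 F371817) (iv5 D92907)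
theorem F475782 : act 3 n214558 = n209340 := d20_5 (iv4 D101045) D101043 D192967 F388369 D214558 F453313 (iv1 F446925) (iv4 D207897) (iv3 F388379) F285882
theorem F475783 : act 1 n188867 = n214558 := d15_0 (iv0 D214558) (iv7 F388547) (iv2 F388548)
theorem F475784 : act 7 n214558 = n206593 := d15_2 (iv0 F377598) F475783 F441472
def n214559 : Q := act 6 n159833
theorem D214559 : act 6 n159833 = n214559 := rfl
theorem F475785 : act 2 n214559 = n188919 := d3_1 D214559 F375205 (iv2 F251932)
theorem F475786 : act 3 n214559 = n189344 := d7_1 D214559 (iv6 D189344) (iv3 F251933)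
theorem F475787 : act 4 n214559 = n191177 := d10_1 D214559 (iv6 D191177) (iv4 F331389)
theorem F475788 : act 5 n214559 = n188914 := d12_1 D214559 (iv6 D188914) (iv5 F251955) (iv6 D159834) D159833
theorem F475789 : act 7 n214559 = n200268 := d14_2 (iv7 F251934) D214559 (iv6 D200268) F175837 F157671
theorem F475790 : act 0 n214559 = n197172 := d21_4 (iv5 F55310) D76501 D159833 D214559 F403393 D201397 F420337 F370683 (iv6 D93966) F157805
theorem F475791 : act 0 n207242 = n214559 := d21_4 (iv5 F165960) F398917 F444114 F444112 (iv6 D214559) (iv5 D159833) F157575 D93927 (iv6 F170575) (iv1 F170577)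
def n214560 : Q := act 5 n159835
theorem D214560 : act 5 n159835 = n214560 := rfl
theorem F475792 : act 2 n214560 = n190030 := d2_1 D214560 (iv5 D190030) F251957
theorem F475793 : act 3 n214560 = n212769 := d6_1 D214560 (iv5 D212769) (iv3 F362062)
theorem F475794 : act 7 n214560 = n190033 := d13_2 (iv7 F251959) D214560 (iv5 D190033)
theorem F475795 : act 1 n214560 = n211792 := d17_6 D188537 F373857 (iv1 F288215) (iv5 D164484) (iv4 F251958) D214560 F463083 (iv0 F373865) (iv4 D188538)
def n214561 : Q := act 6 n159838
theorem D214561 : act 6 n159838 = n214561 := rfl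
theorem F475796 : act 2 n214561 = n189291 := d3_1 D214561 (iv6 D189291) F283551
theorem F475797 : act 3 n214561 = n186910 := d7_1 D214561 (iv6 F368489) (iv3 F251967)
theorem F475798 : act 4 n214561 = n186912 := d10_1 D214561 (iv6 F382244) F382239
theorem F475799 : act 5 n214561 = n187781 := d12_1 D214561 (iv6 D187781) (iv5 F350454) F350455 D159838
theorem F475800 : act 7 n214561 = n203345 := d14_2 (iv7 F283550) D214561 (iv6 D203345) F283572 F259546
theorem F475801 : act 0 n214561 = n164628 := d21_4 F88602 D76505 D159838 D214561 (iv6 D164628) (iv5 F333511) (iv1 D115121) D115123 F333518 (iv1 D121358)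
theorem F475802 : act 0 n201586 = n214561 := d21_4 (iv5 F161740) (iv1 F178265) (iv5 F178910) D201586 (iv6 D214561) (iv5 D159838) (iv1 F114671) (iv5 F144680) F144681 (iv1 F88590)
def n214562 : Q := act 6 n159841
theorem D214562 : act 6 n159841 = n214562 := rfl
theorem F475803 : act 2 n214562 = n189284 := d3_1 D214562 (iv6 D189284) (iv2 F251974)
theorem F475804 : act 3 n214562 = n159843 := d7_1 D214562 (iv6 D159843) D159841
theorem F475805 : act 4 n214562 = n186611 := d10_1 D214562 (iv6 D186611) (iv4 F251975)
theorem F475806 : act 5 n214562 = n184498 := d12_1 D214562 (iv6 F420671) (iv5 D201481) D201482 F420676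
theorem F475807 : act 7 n214562 = n191591 := d14_2 (iv7 F283530) D214562 F383909 F377373 (iv6 D189289)
theorem F475808 : act 0 n214562 = n208522 := d21_4 (iv5 F429188) F429189 F420676 D214562 (iv6 D208522) (iv5 D134483) F167620 (iv5 F335802) D192241 (iv1 F386177)
def n214563 : Q := act 3 n159846
theorem D214563 : act 3 n159846 = n214563 := rfl
theorem F475809 : act 4 n214563 = n159851 := d5_2 D159846 D214563 (iv3 D159851) (iv4 D76519) (iv3 F114676)
theorem F475810 : act 6 n214563 = n212430 := d7_2 F356700 D214563 (iv3 F465775)
theorem F475811 : act 7 n214563 = n188474 := d8_2 (iv7 F356702) D214563 F373610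
theorem F475812 : act 0 n188196 = n214563 := d20_4 F139098 D92569 F367223 D188196 (iv3 D214563) (iv4 D159846) F114677 D106302 F370970 (iv1 D187598)
def n214564 : Q := act 4 n159847
theorem D214564 : act 4 n159847 = n214564 := rfl
theorem F475813 : act 2 n214564 = n214558 := d1_1 D214564 F475781 (iv2 F374514)
theorem F475814 : act 3 n214564 = n187973 := d5_1 D214564 (iv4 D187973) (iv3 D90705) (iv4 F139146) F251994
theorem F475815 : act 7 n214564 = n189744 := d11_2 (iv7 F251993) D214564 (iv4 D189744)
theorem F475816 : act 0 n214564 = n193026 := d18_2 D159847 D214564 F388546 F251921 (iv4 F177341) (iv0 D90722) F65623 F205428 D76517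
theorem F475817 : act 1 n214564 = n187776 := d18_6 F251956 (iv4 F149911) F367217 (iv4 F292051) F251995 D214564 (iv4 D187776) F251917 (iv5 F251955)
def n214565 : Q := act 3 n159856
theorem D214565 : act 3 n159856 = n214565 := rfl
theorem F475818 : act 2 n214565 = n195121 := d0_1 D214565 (iv3 D195121) F395845 D113633 F395853
theorem F475819 : act 5 n214565 = n189585 := d6_2 F421906 D214565 (iv3 F429822)
theorem F475820 : act 6 n214565 = n207119 := d7_2 (iv6 F452290) D214565 (iv3 F452286)
theorem F475821 : act 7 n214565 = n195751 := d8_2 (iv7 F364680) D214565 F406148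
theorem F475822 : act 0 n214565 = n195735 := d20_4 (iv4 F475439) (iv1 F475441) (iv4 F466914) D214565 F397988 (iv4 F394456) (iv1 F394461) (iv4 F419045) (iv3 F419049) (iv1 F251350)
theorem F475823 : act 4 n214565 = n207115 := d20_6 (iv4 F93600) F168315 F99107 D135561 F328381 D214565 F443393 F418941 F177127 (iv1 F327988)
theorem F475824 : act 0 n195754 = n214565 := d20_4 F99301 D134317 D208431 F449333 (iv3 D214565) F466914 (iv1 D212657) F233509 (iv3 F161514) F363820
def n214566 : Q := act 5 n159869
theorem D214566 : act 5 n159869 = n214566 := rfl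
theorem F475825 : act 2 n214566 = n203374 := d2_1 D214566 F428088 F349102
theorem F475826 : act 3 n214566 = n203308 := d6_1 D214566 F427795 (iv3 F252050)
theorem F475827 : act 6 n214566 = n159870 := d12_2 D159869 D214566 (iv5 D159870) (iv6 D76532) D76531
theorem F475828 : act 7 n214566 = n208995 := d13_2 F349133 D214566 (iv5 D208995)
theorem F475829 : act 4 n214566 = n213004 := d16_2 (iv4 F335959) D214566 F468551 (iv4 D192173) F153688 D187124 (iv5 F371382) (iv7 F394459) (iv2 D194782)
def n214567 : Q := act 3 n159885
theorem D214567 : act 3 n159885 = n214567 := rfl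
theorem F475830 : act 2 n214567 = n201634 := d0_1 D214567 F421195 F178989 (iv3 F335161) (iv2 F352415)
theorem F475831 : act 4 n214567 = n212421 := d5_2 D159885 D214567 (iv3 D212421) (iv4 F252117) (iv3 D159884)
theorem F475832 : act 6 n214567 = n201877 := d7_2 F352414 D214567 F422175
theorem F475833 : act 7 n214567 = n201627 := d8_2 F420371 D214567 F421182
theorem F475834 : act 0 n214567 = n201633 := d19_4 (iv1 F325856) (iv5 F326660) D159885 D214567 F421192 (iv4 F427030) F427028 F184295 F105687 (iv4 F85266) F49913 (iv1 F50474) (iv5 D14987) F11446 F26602 D7138 (iv5 F26893) D31803 D68342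
theorem F475835 : act 0 n201632 = n214567 := d20_4 D212296 F465200 (iv4 F448054) (iv3 F448055) (iv3 D214567) (iv4 D159885) (iv1 F229414) (iv4 F229857) F353808 (iv1 F353820)
def n214568 : Q := act 6 n159921
theorem D214568 : act 6 n159921 = n214568 := rfl
theorem F475836 : act 5 n214568 = n212906 := d12_1 D214568 F468054 (iv5 D203301) D203302 F427766
theorem F475837 : act 0 n214568 = n212307 := d21_4 (iv5 F457100) F457101 F427766 D214568 F465249 (iv5 D147959) (iv1 F339600) D212265 F465038 F451228
theorem F475838 : act 0 n187675 = n214568 := d17_2 (iv1 F465245) (iv5 F371166) F475836 (iv4 D212906) (iv5 D151336) (iv0 D71323) D71325 D151344 (iv4 F465244)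
def n214569 : Q := act 6 n159923
theorem D214569 : act 6 n159923 = n214569 := rfl
theorem F475839 : act 3 n214569 = n200980 := d7_1 D214569 F418608 (iv3 F252183)
theorem F475840 : act 5 n214569 = n212975 := d12_1 D214569 F468410 F430463 F193588 (iv5 F252184)
theorem F475841 : act 7 n214569 = n159928 := d14_2 D159923 D214569 (iv6 D159928) (iv7 D76560) (iv6 F114796)
def n214570 : Q := act 0 n159928
theorem D214570 : act 0 n159928 = n214570 := rfl
theorem F475842 : act 5 n214570 = n189348 := d17_3 F349265 (iv5 F252196) D214570 F376450 F289196 F140083 (iv5 F355754) (iv0 D98700) D98702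
theorem F475843 : act 4 n214570 = n188605 := d18_1 D214570 (iv1 F384456) (iv4 F402960) F402961 (iv4 D191710) F238937 (iv4 F468458) F468462 (iv5 F252196)
theorem F475844 : act 3 n214570 = n206064 := d20_5 (iv4 F444123) F444127 F418598 (iv3 F252195) D214570 (iv4 F439076) F451934 F451931 (iv3 F439337) (iv1 F439340)
theorem F475845 : act 6 n214570 = n212595 := d21_5 F163279 F82324 (iv5 F114807) D159928 D214570 F466605 (iv1 D151386) (iv5 F229694) (iv6 D146363) F163281
def n214571 : Q := act 1 n159928
theorem D214571 : act 1 n159928 = n214571 := rfl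
theorem F475846 : act 5 n214571 = n186141 := d17_7 D93903 F251609 F293716 F293382 F349251 (iv5 F252196) D214571 (iv0 F349248) (iv4 D93905)
theorem F475847 : act 4 n214571 = n183467 := d17_9 F383929 (iv5 F383927) (iv1 D98924) D98926 D191795 (iv5 F468459) F468462 (iv5 F252196) D214571
theorem F475848 : act 6 n183466 = n214571 := d21_3 F374694 F379798 (iv5 F379797) (iv1 D214571) (iv6 D159928) F114807 (iv1 F78801) D107900 (iv6 F403351) F403356
theorem F475849 : act 3 n214571 = n190524 := d7_1 F475848 F379991 F379799
def n214572 : Q := act 6 n159981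
theorem D214572 : act 6 n159981 = n214572 := rfl
theorem F475850 : act 2 n214572 = n212955 := d3_1 D214572 F468303 (iv2 F430301)
theorem F475851 : act 4 n214572 = n189746 := d10_1 D214572 (iv6 F468439) F468437
theorem F475852 : act 5 n214572 = n212910 := d12_1 D214572 (iv6 D212910) (iv5 F252359) (iv6 D159982) D159981
theorem F475853 : act 0 n214572 = n212606 := d21_10 (iv5 D212606) (iv1 F350246) F237313 (iv6 D133694) F97906 (iv6 F114872) (iv5 D76599) D76597 D159981 D214572
theorem F475854 : act 0 n189351 = n214572 := d21_4 (iv5 F451621) F451626 (iv5 D189350) D189351 (iv6 D214572) (iv5 D159981) (iv1 F193591) (iv5 F430463) (iv6 F468410) F468408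
def n214573 : Q := act 6 n159989
theorem D214573 : act 6 n159989 = n214573 := rfl
theorem F475855 : act 2 n214573 = n208975 := d3_1 D214573 F451653 F399764
theorem F475856 : act 3 n214573 = n207401 := d7_1 D214573 (iv6 D207401) F365582
theorem F475857 : act 4 n214573 = n209106 := d10_1 D214573 (iv6 F452285) F448239
theorem F475858 : act 5 n214573 = n208966 := d12_1 D214573 (iv6 F451607) (iv5 D203298) D203299 F427753
theorem F475859 : act 0 n214573 = n189520 := d21_4 (iv5 F448771) F448772 F427753 D214573 (iv6 D189520) F144844 D102570 (iv5 F367586) (iv6 F430447) F430449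
theorem F475860 : act 0 n201876 = n214573 := d21_4 (iv5 F355732) F422173 (iv5 F448387) F448390 (iv6 D214573) (iv5 F427753) (iv1 F427754) (iv5 F466690) (iv6 D212612) (iv1 F355690)
theorem F475861 : act 7 n208973 = n214573 := d13_0 F475858 F451604 D208973
def n214574 : Q := act 3 n160044
theorem D214574 : act 3 n160044 = n214574 := rfl
theorem F475862 : act 2 n214574 = n191998 := d0_1 D214574 (iv3 F471830) F471829 (iv3 D203364) (iv2 F252540)
theorem F475863 : act 4 n214574 = n188137 := d5_2 D160044 D214574 (iv3 F372442) (iv4 D119217) (iv3 F114952)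
theorem F475864 : act 7 n214574 = n192000 := d8_2 (iv7 F252541) D214574 F385149
theorem F475865 : act 0 n214574 = n193756 := d19_4 F106661 D76639 D160044 D214574 (iv5 D193756) (iv4 D102290) F74646 D88284 D185296 (iv4 F375240) (iv3 F419970) (iv1 F419974) F374969 (iv4 D188808) D188807 (iv1 F374966) F237950 (iv4 F164493) F164492
def n214575 : Q := act 5 n160044
theorem D214575 : act 5 n160044 = n214575 := rfl
theorem F475866 : act 2 n214575 = n203365 := d2_1 D214575 (iv5 D203365) (iv2 F252540)
theorem F475867 : act 7 n214575 = n203363 := d13_2 (iv7 F252541) D214575 (iv5 D203363)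
theorem F475868 : act 4 n214575 = n203324 := d16_2 D160044 D214575 (iv5 D203324) (iv4 D118730) F86462 D59816 (iv5 F178129) F178130 F154336
theorem F475869 : act 0 n214575 = n206066 := d17_2 (iv1 F252543) D214575 F439083 (iv4 D187810) (iv5 D90589) F82997 D76425 F114574 (iv4 F186825)
theorem F475870 : act 1 n214575 = n206063 := d17_6 (iv1 F186922) F186923 F106661 D76639 D160044 D214575 (iv5 D206063) F204586 (iv4 D118868)
def n214576 : Q := act 1 n160058
theorem D214576 : act 1 n160058 = n214576 := rfl
theorem F475871 : act 7 n214576 = n203393 := d15_2 (iv0 F362178) D214576 F454932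
theorem F475872 : act 6 n204596 = n214576 := d21_3 F455888 (iv1 F385407) D204596 (iv1 D214576) (iv6 F366346) D209763 F454864 F220109 D137345 D210042
theorem F475873 : act 2 n214576 = n203392 := d3_1 F475872 (iv6 F474161) F474159
theorem F475874 : act 3 n214576 = n204603 := d7_1 F475872 F432988 (iv3 F432973)
theorem F475875 : act 5 n214576 = n204595 := d12_1 F475872 (iv6 D204595) (iv5 D124029) D124030 D204596
theorem F475876 : act 1 n214576 = n192026 := d15_0 F385265 F428132 (iv2 F475873)
def n214577 : Q := act 2 n160058
theorem D214577 : act 2 n160058 = n214577 := rfl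
theorem F475877 : act 3 n214577 = n192028 := d0_2 D160058 D214577 F385267 (iv3 D118884) (iv2 F114971)
theorem F475878 : act 4 n214577 = n203248 := d1_2 (iv4 F252591) D214577 (iv2 D203248)
theorem F475879 : act 6 n214577 = n206040 := d3_2 F366346 D214577 F438961
theorem F475880 : act 7 n214577 = n192026 := d4_2 (iv7 F252592) D214577 F385264
theorem F475881 : act 1 n214577 = n203392 := d15_0 (iv0 D203392) (iv7 F252592) D214577
theorem F475882 : act 1 n203393 = n214577 := d15_0 F475881 (iv7 F428132) (iv2 F454932)
def n214578 : Q := act 5 n160058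
theorem D214578 : act 5 n160058 = n214578 := rfl
theorem F475883 : act 3 n214578 = n160059 := d6_1 D214578 (iv5 D160059) D160058
theorem F475884 : act 7 n214578 = n203394 := d13_2 (iv7 F252592) D214578 (iv5 D203394)
theorem F475885 : act 0 n214578 = n209787 := d18_0 (iv4 F454947) D213225 F469489 (iv5 D209846) (iv4 F396822) (iv0 F454930) (iv4 D209780) (iv0 F362178) D214578
def n214579 : Q := act 4 n160059
theorem D214579 : act 4 n160059 = n214579 := rfl
theorem F475886 : act 2 n214579 = n203363 := d1_1 D214579 F428052 (iv2 F252593)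
theorem F475887 : act 5 n214579 = n201302 := d9_2 D160059 D214579 (iv4 D201302) F178129 (iv4 D59816) (iv5 F86462) D118730 D203324 (iv4 F475868) (iv5 D214575) (iv4 D160044) (iv5 D76639) F55634 D35034 D76649
theorem F475888 : act 7 n214579 = n203365 := d11_2 (iv7 F252594) D214579 F428056
theorem F475889 : act 0 n214579 = n206063 := d17_0 (iv5 D206063) F204585 (iv5 F428058) F428059 (iv5 D118871) (iv0 F114291) D159411 (iv0 F252595) D214579
theorem F475890 : act 1 n214579 = n206066 := d18_6 F107522 F86528 F55643 D76649 D160059 D214579 (iv4 D206066) (iv0 F237095) (iv5 D150577)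
theorem F475891 : act 6 n214579 = n191275 := d21_5 F403503 (iv1 D197200) D197201 (iv6 F439084) (iv1 F475890) (iv5 D191275) F289758 D177721 F277175 D177733
def n214580 : Q := act 6 n160059
theorem D214580 : act 6 n160059 = n214580 := rfl
theorem F475892 : act 2 n214580 = n203402 := d3_1 D214580 (iv6 D203402) (iv2 F252593)
theorem F475893 : act 4 n214580 = n191275 := d10_1 D214580 (iv6 F475891) (iv4 D214579)
theorem F475894 : act 5 n214580 = n210239 := d12_1 D214580 F456701 F221270 F319248 D160059
theorem F475895 : act 7 n214580 = n210238 := d14_2 (iv7 F252594) D214580 F471320 F471319 (iv6 D203398)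
theorem F475896 : act 0 n185057 = n214580 := d21_4 (iv5 F289295) (iv1 F289297) (iv5 F157123) (iv6 F358603) (iv6 D214580) (iv5 D160059) F114973 D127973 F352727 (iv1 F150986)
def n214581 : Q := act 1 n160075
theorem D214581 : act 1 n160075 = n214581 := rfl
theorem F475897 : act 1 n214581 = n213757 := d15_1 D214581 F471954 F255566
theorem F475898 : act 7 n214581 = n190123 := d15_2 (iv0 F366470) D214581 F378934
theorem F475899 : act 5 n214581 = n192761 := d17_7 F474387 (iv5 F459278) D211547 F462066 (iv4 F411222) (iv5 F384990) D214581 (iv0 F410569) (iv4 F474385)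
theorem F475900 : act 4 n214581 = n190065 := d17_9 (iv1 F378760) D190118 (iv1 F381603) F381600 F368503 F157501 D191957 (iv5 F384990) D214581
theorem F475901 : act 3 n206998 = n214581 := d20_3 (iv4 F442913) (iv1 D206997) D206998 (iv1 D214581) F252623 F114991 F314021 (iv4 F225977) (iv3 F431137) (iv1 F431334)
theorem F475902 : act 6 n199344 = n214581 := d21_3 F335713 D111214 (iv5 F411791) (iv1 D214581) (iv6 D160075) F114990 (iv1 F90531) (iv5 F136817) F367406 (iv1 D186600)
theorem F475903 : act 2 n214581 = n190066 := d3_1 F475902 (iv6 F378763) F411788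
def n214582 : Q := act 0 n160088
theorem D214582 : act 0 n160088 = n214582 := rfl
theorem F475904 : act 5 n214582 = n210392 := d17_3 F346087 D160088 D214582 F457365 F234773 (iv0 F313747) F313750 (iv0 F336876) F346088
theorem F475905 : act 3 n214582 = n189786 := d20_5 D204458 F432602 F277495 (iv3 F366936) D214582 (iv4 D189786) (iv1 F358587) F242464 (iv3 F198331) (iv1 F198333)
theorem F475906 : act 6 n214582 = n189787 := d21_5 F349320 F303327 D84695 (iv6 F366937) D214582 (iv5 F431102) (iv1 F431104) (iv5 D185272) D185273 F421385
theorem F475907 : act 2 n190570 = n214582 := d15_3 (iv0 D214582) (iv0 F390958) F390957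
def n214583 : Q := act 4 n160088
theorem D214583 : act 4 n160088 = n214583 := rfl
theorem F475908 : act 6 n214583 = n177913 := d10_2 (iv6 F366937) D214583 (iv4 D177913)
def n214584 : Q := act 7 n160088
theorem D214584 : act 7 n160088 = n214584 := rfl
theorem F475909 : act 3 n214584 = n177931 := d8_1 D214584 (iv7 D177931) (iv3 F366936)
theorem F475910 : act 5 n214584 = n160089 := d13_1 D214584 (iv7 D160089) D160088
theorem F475911 : act 0 n190570 = n214584 := d17_2 (iv1 F370406) (iv5 F380154) F475910 F252658 (iv5 F316799) F316796 (iv5 F313502) F184493 D117806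
def n214585 : Q := act 5 n160093
theorem D214585 : act 5 n160093 = n214585 := rfl
theorem F475912 : act 3 n214585 = n213464 := d6_1 D214585 (iv5 D213464) F360536
theorem F475913 : act 0 n214585 = n203058 := d17_2 F460979 D214585 (iv5 D203058) F360539 F314086 (iv0 F301159) (iv5 F334133) F333349 D211288
theorem F475914 : act 1 n214585 = n203056 := d17_6 D54264 (iv5 F332502) F337181 F332483 D160093 D214585 (iv5 D203056) (iv0 D117618) F85515
def n214586 : Q := act 5 n160099
theorem D214586 : act 5 n160099 = n214586 := rfl
theorem F475915 : act 2 n214586 = n191307 := d2_1 D214586 (iv5 F382980) (iv2 F252680)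
theorem F475916 : act 3 n214586 = n204159 := d6_1 D214586 (iv5 D204159) (iv3 F252681)
theorem F475917 : act 4 n214586 = n177856 := d9_1 D214586 (iv5 D177856) (iv4 F289802) D187658 (iv4 F471510) (iv5 D213662) (iv4 F348239) F348236 (iv4 D102700) (iv5 D47635) (iv4 F68169) D92743 D188747 (iv5 F374689) (iv4 F252682)
theorem F475918 : act 6 n214586 = n160100 := d12_2 D160099 D214586 (iv5 D160100) (iv6 D76673) D76672
theorem F475919 : act 7 n214586 = n192554 := d13_2 F434163 D214586 F434168
theorem F475920 : act 0 n214586 = n194116 := d17_2 (iv1 F361522) D214586 F467371 F467150 (iv5 F349511) (iv0 F301616) (iv5 D123428) (iv0 F268332) (iv4 F304378)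
theorem F475921 : act 0 n194115 = n214586 := d21_7 (iv5 F85373) (iv1 F115136) (iv5 F154449) F342639 (iv1 F338837) D192583 (iv5 F392100) (iv5 D214586) (iv6 D160099) F115013
def n214587 : Q := act 4 n160100
theorem D214587 : act 4 n160100 = n214587 := rfl
theorem F475922 : act 2 n214587 = n191308 := d1_1 D214587 (iv4 F426830) (iv2 F426828)
theorem F475923 : act 6 n214587 = n177856 := d10_2 F475918 D214587 (iv4 F475917)
theorem F475924 : act 0 n214587 = n189787 := d17_0 (iv5 F431102) (iv1 F431104) (iv5 D185272) D185271 (iv5 F426780) F426776 (iv5 F426835) (iv0 F426836) D214587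
theorem F475925 : act 3 n177867 = n214587 := d7_3 F475923 F277435 D177867
def n214588 : Q := act 0 n160201
theorem D214588 : act 0 n160201 = n214588 := rfl
theorem F475926 : act 5 n214588 = n191075 := d17_1 D214588 (iv1 D191075) F352587 (iv4 D84083) (iv5 D38740) (iv0 F315502) D83167 (iv0 F334096) F330254
theorem F475927 : act 4 n214588 = n202986 := d18_1 D214588 F426513 F331617 F235305 F331613 (iv0 D63131) D63133 D134392 F331674
theorem F475928 : act 3 n214588 = n206282 := d20_5 F359684 (iv1 F336886) F199531 (iv3 F252885) D214588 F440053 F449806 F449803 (iv3 F252552) (iv1 F252554)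
theorem F475929 : act 6 n214588 = n206281 := d21_5 (iv5 F85217) F97971 (iv5 F115144) D160201 D214588 (iv5 D206281) F206146 D148977 F234122 F106275
theorem F475930 : act 2 n212718 = n214588 := d15_3 (iv0 D214588) (iv0 F426069) (iv7 F467241)
theorem F475931 : act 7 n214588 = n204283 := d4_2 (iv7 F467241) F475930 F431847
theorem F475932 : act 1 n191078 = n214588 := d15_1 F426070 F475931 F431847
def n214589 : Q := act 7 n160201
theorem D214589 : act 7 n160201 = n214589 := rfl
theorem F475933 : act 2 n214589 = n191078 := d4_1 D214589 F382132 (iv2 F252884)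
theorem F475934 : act 3 n214589 = n160203 := d8_1 D214589 (iv7 D160203) (iv3 F252885)
theorem F475935 : act 4 n214589 = n203295 := d11_1 D214589 F427730 F330254
theorem F475936 : act 5 n214589 = n208473 := d13_1 D214589 F449516 F331674
theorem F475937 : act 6 n214589 = n212761 := d14_1 D214589 F467400 (iv6 D149241) (iv7 F115145) D160201
theorem F475938 : act 1 n204283 = n214589 := d15_1 (iv0 F431850) (iv7 D214589) F252884
theorem F475939 : act 1 n214589 = n212718 := d15_1 F475938 F467241 (iv2 F431847)
def n214590 : Q := act 7 n160239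
theorem D214590 : act 7 n160239 = n214590 := rfl
theorem F475940 : act 2 n214590 = n212761 := d4_1 D214590 F467400 (iv2 F253027)
theorem F475941 : act 3 n214590 = n160241 := d8_1 D214590 (iv7 D160241) (iv3 F253028)
theorem F475942 : act 4 n214590 = n179952 := d11_1 D214590 (iv7 F350986) (iv4 F253029)
theorem F475943 : act 5 n214590 = n208475 := d13_1 D214590 F449528 (iv5 F253030)
theorem F475944 : act 6 n214590 = n191078 := d14_1 D214590 F382132 (iv6 D149242) (iv7 F115236) D160239
theorem F475945 : act 1 n212454 = n214590 := d15_1 (iv0 F465860) (iv7 D214590) F253027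
theorem F475946 : act 1 n214590 = n206282 := d15_1 F475945 (iv7 F440056) (iv2 F465856)
def n214591 : Q := act 1 n160261
theorem D214591 : act 1 n160261 = n214591 := rfl
theorem F475947 : act 1 n214591 = n199422 := d15_1 D214591 F412120 (iv2 F360128)
theorem F475948 : act 7 n214591 = n199463 := d15_2 F349857 D214591 F412298
theorem F475949 : act 4 n170865 = n214591 := d20_6 (iv4 D37505) (iv1 D18003) D18004 D37509 D81913 D170865 (iv1 D214591) F253099 (iv3 D86343) (iv1 F60818)
theorem F475950 : act 6 n199462 = n214591 := d21_3 F351074 D204275 F431805 (iv1 D214591) (iv6 F351071) (iv5 D107412) F165539 (iv5 F172010) (iv6 F400868) (iv1 F400869)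
theorem F475951 : act 2 n214591 = n160583 := d3_1 F475950 F431811 (iv2 F431808)
theorem F475952 : act 3 n205068 = n214591 := d0_0 F475951 (iv3 D160583) (iv2 F254332) D125430 D205068
def n214592 : Q := act 6 n160264
theorem D214592 : act 6 n160264 = n214592 := rfl
theorem F475953 : act 2 n214592 = n204675 := d3_1 D214592 (iv6 F433225) (iv2 F262238)
theorem F475954 : act 3 n214592 = n205047 := d7_1 D214592 (iv6 F434856) F256581
theorem F475955 : act 7 n214592 = n204676 := d14_2 (iv7 F262236) D214592 (iv6 F433227) F411307 (iv6 F413343)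
theorem F475956 : act 0 n214592 = n166155 := d21_4 D204711 (iv1 F433354) F429442 D214592 (iv6 F358802) (iv5 F400633) (iv1 F458560) F458558 F365183 (iv1 F198744)
theorem F475957 : act 1 n214592 = n204677 := d15_0 (iv0 F466428) F433763 (iv2 F475953)
def n214593 : Q := act 5 n160265
theorem D214593 : act 5 n160265 = n214593 := rfl
theorem F475958 : act 2 n214593 = n160266 := d2_1 D214593 (iv5 D160266) D160265
theorem F475959 : act 3 n214593 = n203689 := d6_1 D214593 (iv5 D203689) (iv3 F253106)
theorem F475960 : act 7 n214593 = n204718 := d13_2 (iv7 F253107) D214593 (iv5 D204718)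
theorem F475961 : act 0 n214593 = n203694 := d17_2 (iv1 F253108) D214593 (iv5 D203694) F330794 (iv5 F362642) F362641 D158797 (iv0 F433387) (iv4 D204717)
theorem F475962 : act 1 n214593 = n203693 := d17_6 (iv1 F334379) F336091 (iv1 D130809) D130810 F320277 D214593 (iv5 D203693) (iv0 D120291) F324072
def n214594 : Q := act 6 n160266
theorem D214594 : act 6 n160266 = n214594 := rfl
theorem F475963 : act 3 n214594 = n160267 := d7_1 D214594 (iv6 D160267) (iv3 F253111)
theorem F475964 : act 5 n214594 = n199448 := d12_1 D214594 F412235 (iv5 F358917) F197115 D160266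
theorem F475965 : act 7 n199447 = n214594 := d13_0 F475964 (iv7 D199448) D199447
def n214595 : Q := act 5 n160268
theorem D214595 : act 5 n160268 = n214595 := rfl
theorem F475966 : act 2 n214595 = n203701 := d2_1 D214595 (iv5 D203701) (iv2 F253114)
theorem F475967 : act 3 n214595 = n191728 := d6_1 D214595 (iv5 D191728) (iv3 F253115)
theorem F475968 : act 6 n214595 = n204176 := d12_2 D160268 D214595 (iv5 D204176) (iv6 D123099) F115309
theorem F475969 : act 7 n214595 = n184476 := d13_2 (iv7 F301833) D214595 (iv5 D184476)
theorem F475970 : act 0 n214595 = n193184 := d17_2 F299267 D214595 (iv5 D193184) (iv4 F351630) (iv5 F383313) (iv0 F433259) F433258 F319727 (iv4 F191774)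
theorem F475971 : act 1 n214595 = n203733 := d17_6 F345831 (iv5 D125357) (iv1 F201459) F345820 F306770 D214595 F429589 (iv0 F389091) F389087
def n214596 : Q := act 3 n160293
theorem D214596 : act 3 n160293 = n214596 := rfl
theorem F475972 : act 2 n214596 = n197803 := d0_1 D214596 (iv3 F412844) F430988 (iv3 D204070) (iv2 F430997)
theorem F475973 : act 6 n214596 = n196455 := d7_2 F430999 D214596 F413028
theorem F475974 : act 7 n214596 = n204066 := d8_2 (iv7 F430998) D214596 (iv3 D204066)
theorem F475975 : act 4 n214596 = n180481 := d20_6 (iv4 D26747) F27974 D35115 D76827 D160293 D214596 (iv1 D180481) (iv4 F191498) (iv3 D120267) (iv1 D55347)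
theorem F475976 : act 0 n196857 = n214596 := d20_10 F475975 (iv1 D180481) (iv4 F191498) (iv3 D120267) (iv1 D55347) D55348 (iv4 F122732) D166591 (iv4 F412072) F412076
def n214597 : Q := act 4 n160293
theorem D214597 : act 4 n160293 = n214597 := rfl
theorem F475977 : act 2 n214597 = n204071 := d1_1 D214597 (iv4 D204071) (iv2 F430997)
theorem F475978 : act 6 n214597 = n200004 := d10_2 F430999 D214597 F414576
theorem F475979 : act 7 n214597 = n204067 := d11_2 (iv7 F430998) D214597 (iv4 D204067)
theorem F475980 : act 0 n214597 = n214308 := d17_0 F474499 F382737 (iv5 F474541) F474540 (iv5 F433489) F433493 (iv5 D204074) F253198 D214597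
theorem F475981 : act 3 n214597 = n200005 := d20_3 (iv4 F115364) D160293 D214597 F414582 (iv3 D112257) (iv4 F174552) (iv1 F202252) (iv4 F219334) (iv3 F365627) (iv1 D158004)
theorem F475982 : act 0 n214305 = n214597 := d20_10 (iv4 D214597) (iv1 F253198) F196332 F126983 (iv1 F113713) (iv3 F361134) F361135 (iv1 F394872) F394868 D214305
theorem F475983 : act 0 n214596 = n204722 := d20_4 (iv4 F474484) F475982 (iv4 D214597) D214596 (iv3 D204722) (iv4 F413331) F474223 F474218 F413322 (iv1 F412230)
def n214598 : Q := act 5 n160293
theorem D214598 : act 5 n160293 = n214598 := rfl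
theorem F475984 : act 2 n214598 = n204072 := d2_1 D214598 (iv5 D204072) (iv2 F430997)
theorem F475985 : act 7 n214598 = n204068 := d13_2 (iv7 F430998) D214598 (iv5 D204068)
theorem F475986 : act 0 n163941 = n214598 := d21_7 (iv5 F412796) F412797 F412457 F412455 (iv1 D157889) (iv6 F297994) D163941 (iv5 D214598) (iv6 F430999) (iv1 D199656)
def n214599 : Q := act 4 n160294
theorem D214599 : act 4 n160294 = n214599 := rfl
theorem F475987 : act 2 n214599 = n204067 := d1_1 D214599 (iv4 D204067) (iv2 F430994)
theorem F475988 : act 3 n214599 = n165765 := d5_1 D214599 (iv4 F474691) F474687 (iv4 F430993) (iv3 F430995)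
theorem F475989 : act 6 n214599 = n160837 := d10_2 F431801 D214599 (iv4 F431799)
theorem F475990 : act 7 n214599 = n204071 := d11_2 (iv7 F430996) D214599 (iv4 D204071)
theorem F475991 : act 1 n214599 = n214308 := d18_8 F382737 F392373 (iv1 D194204) F158255 (iv5 F112838) (iv4 F115364) D160294 D214599 F474499
theorem F475992 : act 1 n214305 = n214599 := d15_0 F475991 F474501 (iv2 F474480)
def n214600 : Q := act 5 n160294
theorem D214600 : act 5 n160294 = n214600 := rfl
theorem F475993 : act 2 n214600 = n204068 := d2_1 D214600 (iv5 D204068) (iv2 F430994)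
theorem F475994 : act 7 n214600 = n204072 := d13_2 (iv7 F430996) D214600 (iv5 D204072)
theorem F475995 : act 0 n214600 = n163941 := d17_2 (iv1 F253203) D214600 (iv5 D163941) F119921 (iv5 F142018) D188511 F390834 F248920 (iv4 F196332)
def n214601 : Q := act 6 n160297
theorem D214601 : act 6 n160297 = n214601 := rfl
theorem F475996 : act 2 n214601 = n187441 := d3_1 D214601 F370330 F350747
theorem F475997 : act 3 n214601 = n160300 := d7_1 D214601 (iv6 D160300) D160297
theorem F475998 : act 7 n214601 = n212637 := d14_2 (iv7 F350749) D214601 (iv6 D212637) F427068 (iv6 D203127)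
theorem F475999 : act 0 n214601 = n199375 := d21_4 (iv5 F347286) (iv1 F455924) F455922 D214601 (iv6 D199375) (iv5 D111244) D111240 (iv5 F216395) D208490 F449599
theorem F476000 : act 5 n214601 = n204457 := d21_6 F177737 (iv1 F90021) F309443 (iv6 F321909) F350746 D214601 (iv1 F432742) (iv5 D204313) (iv6 D123508) F177740
theorem F476001 : act 0 n203057 = n214601 := d21_4 (iv5 D186752) F289523 F356586 (iv6 F426819) (iv6 D214601) (iv5 F455922) (iv1 F455925) (iv5 F432631) F432634 F385457
def n214602 : Q := act 6 n160299
theorem D214602 : act 6 n160299 = n214602 := rfl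
theorem F476002 : act 3 n214602 = n203382 := d7_1 D214602 (iv6 F457680) F455921
theorem F476003 : act 4 n214602 = n209870 := d10_1 D214602 F455209 F422729
theorem F476004 : act 5 n214602 = n204459 := d12_1 D214602 (iv6 D204459) (iv5 F253206) (iv6 D160300) D160299
theorem F476005 : act 0 n214602 = n213876 := d21_4 (iv5 D76830) D76828 D160299 D214602 (iv6 D213876) F332959 (iv1 F362244) (iv5 F390550) (iv6 F390552) (iv1 D160307)
def n214603 : Q := act 0 n160308
theorem D214603 : act 0 n160308 = n214603 := rfl
theorem F476006 : act 5 n214603 = n201933 := d17_1 D214603 (iv1 D201933) (iv5 F422426) F422425 (iv5 D134190) F342818 D134428 F342819 D160308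
theorem F476007 : act 4 n214603 = n204095 := d18_3 (iv1 D160307) D160308 D214603 F431068 F341446 F341458 F342816 F342802 F253208
theorem F476008 : act 3 n214603 = n178671 := d20_5 D202148 (iv1 F423058) (iv4 F462725) F462724 D214603 F278478 (iv1 F313719) F349430 (iv3 F400934) (iv1 F400937)
theorem F476009 : act 6 n214603 = n202183 := d21_5 D201950 F422489 (iv5 D160336) (iv6 F253209) D214603 (iv5 D202183) F422582 (iv5 F433713) (iv6 D204822) F351830
theorem F476010 : act 2 n202291 = n214603 := d15_3 (iv0 D214603) (iv0 F422827) (iv7 F423507)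
theorem F476011 : act 1 n201944 = n214603 := d15_0 (iv0 D214603) (iv7 F459726) F459724
theorem F476012 : act 7 n214603 = n178664 := d15_2 F429664 F476011 F366514
def n214604 : Q := act 6 n160309
theorem D214604 : act 6 n160309 = n214604 := rfl
theorem F476013 : act 3 n214604 = n214236 := d7_1 D214604 (iv6 D214236) (iv3 F253210)
theorem F476014 : act 5 n214604 = n203751 := d12_1 D214604 (iv6 D203751) F191914 (iv6 F115369) (iv5 F253211)
theorem F476015 : act 7 n214604 = n160338 := d14_2 D160309 D214604 (iv6 D160338) (iv7 D76844) (iv6 F115367)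
theorem F476016 : act 0 n214604 = n208343 := d21_4 F422736 (iv1 F191908) (iv5 F253211) D214604 (iv6 D208343) (iv5 D134196) (iv1 D63040) D63041 (iv6 F216226) (iv1 F422738)
def n214605 : Q := act 4 n160327
theorem D214605 : act 4 n160327 = n214605 := rfl
theorem F476017 : act 5 n214605 = n193409 := d16_1 D214605 (iv4 D193409) (iv5 D101613) D101612 F344071 D157668 D214240 F474162 F387917
theorem F476018 : act 1 n214605 = n212000 := d18_6 (iv1 F319953) F319955 F120205 (iv4 F305741) (iv5 F304173) D214605 F463867 (iv0 F474168) (iv5 D214241)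
def n214606 : Q := act 5 n160328
theorem D214606 : act 5 n160328 = n214606 := rfl
theorem F476019 : act 2 n214606 = n198772 := d2_1 D214606 F409165 (iv2 F304176)
theorem F476020 : act 4 n214606 = n160390 := d16_2 D160328 D214606 (iv5 D160390) F326974 F326124 (iv4 F135899) (iv5 F301965) F301966 (iv2 F301396)
theorem F476021 : act 0 n214606 = n204790 := d17_2 (iv1 F304175) D214606 (iv5 D204790) (iv4 D124366) (iv5 D57978) (iv0 D27661) D27663 D57984 D124382
theorem F476022 : act 1 n214606 = n204795 := d17_6 (iv1 F310313) (iv5 D101340) (iv1 F310308) (iv5 F301397) D160328 D214606 (iv5 D204795) (iv0 F423378) F423377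
theorem F476023 : act 6 n214606 = n210129 := d21_3 (iv5 F351086) (iv1 F304175) D214606 (iv1 F456283) (iv6 F245035) (iv5 F245039) D155983 F245367 D156143 F351462
def n214607 : Q := act 5 n160331
theorem D214607 : act 5 n160331 = n214607 := rfl
theorem F476024 : act 3 n214607 = n177255 := d6_1 D214607 (iv5 F409712) (iv3 F409713)
theorem F476025 : act 4 n214607 = n160387 := d9_1 D214607 (iv5 D160387) F326985 (iv5 F326991) F60896 (iv5 F301397) D160328 D214606 F476020 (iv5 D160390) F326974 F326124 (iv4 F135899) (iv5 F301965) D160331
theorem F476026 : act 7 n214607 = n198772 := d13_2 (iv7 F366897) D214607 F409165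
theorem F476027 : act 0 n214607 = n204795 := d17_2 F356081 D214607 (iv5 D204795) (iv4 D124373) (iv5 D57981) F301570 D124184 F301973 D124379
theorem F476028 : act 1 n214607 = n204790 := d17_6 (iv1 F366002) (iv5 D124326) (iv1 F135902) (iv5 F301965) D160331 D214607 (iv5 D204790) D204788 F433589
theorem F476029 : act 6 n214607 = n196524 := d21_3 (iv5 D204800) F356081 D214607 (iv1 D196524) (iv6 D107050) D107049 D196519 F400943 D196652 (iv1 F433634)
def n214608 : Q := act 0 n160336
theorem D214608 : act 0 n160336 = n214608 := rfl
theorem F476030 : act 5 n214608 = n160352 := d17_1 D214608 F366894 (iv5 F433654) F433652 (iv5 D124410) D124408 F302251 F359941 F366916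
theorem F476031 : act 4 n214608 = n160373 := d18_1 D214608 (iv1 F351091) (iv4 F245614) (iv5 F433518) (iv4 D204772) (iv0 D124322) D124323 (iv0 F303364) D160336
theorem F476032 : act 3 n214608 = n201913 := d20_5 (iv4 F345296) D202602 (iv4 F462720) F462718 D214608 (iv4 F429979) F429982 (iv4 F469596) F469595 (iv1 D209883)
theorem F476033 : act 2 n196668 = n214608 := d15_3 (iv0 D214608) (iv0 F422489) F422487
theorem F476034 : act 1 n160399 = n214608 := d15_0 (iv0 D214608) (iv7 F433646) F433645
theorem F476035 : act 7 n214608 = n214376 := d15_2 (iv0 F422490) F476034 F474857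
theorem F476036 : act 6 n195908 = n214608 := d14_5 F476035 F474860 F413619 (iv6 F351320) (iv7 F398692)
def n214609 : Q := act 6 n160336
theorem D214609 : act 6 n160336 = n214609 := rfl
def n214610 : Q := act 0 n160338
theorem D214610 : act 0 n160338 = n214610 := rfl
def n214611 : Q := act 1 n160359
theorem D214611 : act 1 n160359 = n214611 := rfl
theorem F476037 : act 4 n214611 = n212184 := d18_7 D163018 F357782 F466440 F466438 F436770 (iv4 F364151) D214611 F464657 (iv5 D163021)
theorem F476038 : act 6 n190785 = n214611 := d21_3 F347417 (iv1 F360578) D190785 (iv1 D214611) (iv6 F306132) (iv5 F406043) F431826 (iv5 D204278) D204279 (iv1 F431832)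
theorem F476039 : act 3 n214611 = n211108 := d7_1 F476038 (iv6 F460134) F459237
theorem F476040 : act 5 n214611 = n194594 := d12_1 F476038 F424727 (iv5 D202608) (iv6 F350002) D190785
theorem F476041 : act 0 n210457 = n214611 := d21_4 (iv5 D205126) (iv1 F219751) D138995 D210457 (iv6 F476038) (iv5 D190785) (iv1 F360579) (iv5 F430648) F430649 (iv1 F435071)
def n214612 : Q := act 2 n160359
theorem D214612 : act 2 n160359 = n214612 := rfl
theorem F476042 : act 3 n214612 = n174910 := d0_2 D160359 D214612 (iv2 F366382) (iv3 D159184) F304315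
theorem F476043 : act 4 n214612 = n205516 := d1_2 (iv4 F364151) D214612 F436792
theorem F476044 : act 6 n214612 = n174905 := d3_2 F306132 D214612 (iv2 F345579)
theorem F476045 : act 7 n214612 = n210457 := d4_2 F441620 D214612 F457617
theorem F476046 : act 5 n211523 = n214612 := d13_3 F476045 F457619 D211523
def n214613 : Q := act 5 n160359
theorem D214613 : act 5 n160359 = n214613 := rfl
theorem F476047 : act 2 n214613 = n211523 := d2_1 D214613 F476046 (iv2 D214612)
theorem F476048 : act 3 n214613 = n160360 := d6_1 D214613 (iv5 D160360) D160359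
theorem F476049 : act 4 n214613 = n199151 := d9_1 D214613 (iv5 F438787) F438786 (iv5 F355482) D203857 (iv5 F441607) (iv4 F457618) F457619 (iv4 F410907) F410908 (iv4 F471387) F471386 F466438 F436770 (iv4 F364151)
theorem F476050 : act 6 n214613 = n196427 := d12_2 F306132 D214613 (iv5 F440928) F440927 F406043
theorem F476051 : act 7 n214613 = n196664 := d13_2 F441620 D214613 (iv5 F441619)
theorem F476052 : act 0 n211522 = n214613 := d21_7 (iv5 F412170) F431839 (iv5 D204280) F197649 (iv1 F253403) F412240 (iv5 F461963) (iv5 D214613) (iv6 F306132) (iv1 F345581)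
theorem F476053 : act 1 n199255 = n214613 := d15_1 (iv0 F457620) F476051 F401406
def n214614 : Q := act 1 n160372
theorem D214614 : act 1 n160372 = n214614 := rfl
theorem F476054 : act 7 n214614 = n204309 := d15_2 F433865 D214614 (iv2 F433862)
theorem F476055 : act 2 n177286 = n214614 := d4_3 F476054 (iv2 F433862) F433864
theorem F476056 : act 5 n177285 = n214614 := d13_3 F476054 (iv5 F433847) F433848
theorem F476057 : act 6 n211117 = n214614 := d14_5 F476054 (iv6 D204309) F386930 F386928 (iv7 F460169)
theorem F476058 : act 0 n174910 = n214614 := d21_4 D174093 (iv1 F273814) F273812 D174910 (iv6 F476057) F460170 (iv1 D199716) F343751 (iv6 F343723) F343719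
def n214615 : Q := act 2 n160372
theorem D214615 : act 2 n160372 = n214615 := rfl
theorem F476059 : act 3 n214615 = n210457 := d0_2 D160372 D214615 F457617 F441617 F253164
theorem F476060 : act 4 n214615 = n162807 := d1_2 (iv4 F305000) D214615 (iv2 D162807)
theorem F476061 : act 6 n214615 = n174880 := d3_2 (iv6 F305001) D214615 F337364
theorem F476062 : act 7 n214615 = n174910 := d4_2 (iv7 F305002) D214615 (iv2 F366382)
theorem F476063 : act 1 n214615 = n177286 := d15_0 (iv0 F351539) (iv7 F305002) D214615
theorem F476064 : act 1 n204309 = n214615 := d15_0 F476063 (iv7 F433864) F433862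
theorem F476065 : act 5 n214615 = n211521 := d21_2 D177286 (iv1 F476063) (iv6 D211521) F225614 D199239 (iv5 F475278) F475279 F470324 (iv6 F470323) (iv1 D177284)
def n214616 : Q := act 5 n160372
theorem D214616 : act 5 n160372 = n214616 := rfl
theorem F476066 : act 2 n214616 = n211521 := d2_1 D214616 (iv5 F476065) (iv2 D214615)
theorem F476067 : act 3 n214616 = n160373 := d6_1 D214616 (iv5 D160373) D160372
theorem F476068 : act 6 n214616 = n195907 := d12_2 (iv6 F305001) D214616 F398687 (iv6 F387498) F387497
theorem F476069 : act 7 n214616 = n214375 := d13_2 (iv7 F305002) D214616 (iv5 D214375)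
theorem F476070 : act 0 n214616 = n175036 := d21_7 D204718 F433390 (iv5 D204710) F365184 F337363 (iv6 F305001) D214616 (iv5 F407443) F413344 (iv1 F253105)
def n214617 : Q := act 6 n160390
theorem D214617 : act 6 n160390 = n214617 := rfl
theorem F476071 : act 2 n214617 = n198769 := d3_1 D214617 F409155 F365855
theorem F476072 : act 4 n214617 = n210129 := d10_1 D214617 (iv6 F476023) F476020
theorem F476073 : act 5 n214617 = n198752 := d12_1 D214617 (iv6 D198752) (iv5 D110123) (iv6 F326975) D160390
theorem F476074 : act 7 n210127 = n214617 := d13_0 F476073 (iv7 F458581) F458576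
def n214618 : Q := act 5 n160392
theorem D214618 : act 5 n160392 = n214618 := rfl
theorem F476075 : act 3 n214618 = n197752 := d6_1 D214618 F405632 (iv3 F365973)
theorem F476076 : act 7 n214618 = n197742 := d13_2 F365975 D214618 (iv5 D197742)
theorem F476077 : act 4 n214618 = n208941 := d16_2 F437057 D214618 F462576 F462570 F335265 (iv4 F353097) D208544 F449810 (iv2 F437056)
theorem F476078 : act 0 n214618 = n213284 := d17_2 D160392 D214618 F469719 F406542 F330282 (iv0 D134646) (iv5 F331722) (iv0 D76972) (iv4 F115501)
theorem F476079 : act 1 n214618 = n199591 := d17_6 F440282 (iv5 D152470) (iv1 F334177) (iv5 F437058) F437057 D214618 (iv5 D199591) D199590 (iv4 F440284)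
def n214619 : Q := act 5 n160393
theorem D214619 : act 5 n160393 = n214619 := rfl
theorem F476080 : act 2 n214619 = n197742 := d2_1 D214619 (iv5 D197742) F365976
theorem F476081 : act 3 n214619 = n198104 := d6_1 D214619 (iv5 D198104) (iv3 F365977)
theorem F476082 : act 4 n214619 = n186626 := d9_1 D214619 (iv5 D186626) (iv4 F268250) F340241 F334176 (iv5 F437058) F437057 D214618 F476077 F462576 F462570 F335265 (iv4 F353097) D208544 F449813
theorem F476083 : act 0 n214619 = n199591 := d17_2 (iv1 F351616) D214619 (iv5 D199591) F353077 F353081 F353088 F331728 F319510 D173967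
theorem F476084 : act 1 n214619 = n213284 := d17_6 (iv1 F361532) (iv5 D134673) D134671 D208544 F449813 D214619 F469719 (iv0 F412395) F412392
theorem F476085 : act 6 n187715 = n214619 := d10_0 F476082 F367483 D187715
def n214620 : Q := act 6 n160395
theorem D214620 : act 6 n160395 = n214620 := rfl
theorem F476086 : act 3 n214620 = n160400 := d7_1 D214620 (iv6 D160400) (iv3 F253342)
theorem F476087 : act 4 n214620 = n210036 := d10_1 D214620 (iv6 D210036) F351463
theorem F476088 : act 5 n214620 = n160461 := d12_1 D214620 (iv6 D160461) (iv5 D76913) (iv6 F115502) D160395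
def n214621 : Q := act 6 n160399
theorem D214621 : act 6 n160399 = n214621 := rfl
theorem F476089 : act 4 n214621 = n160400 := d10_1 D214621 (iv6 D160400) D160399
def n214622 : Q := act 0 n160400
theorem D214622 : act 0 n160400 = n214622 := rfl
theorem F476090 : act 6 n214622 = n208350 := d21_5 (iv5 D160390) (iv1 D76888) D76890 D160400 D214622 F449031 (iv1 F216747) D196298 (iv6 F431936) F431939
theorem F476091 : act 5 n214622 = n190159 := d21_8 (iv5 D156339) (iv1 F216981) (iv5 F225014) F343804 (iv1 D76915) D76916 (iv5 F253346) D214622 F379006 F365368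
theorem F476092 : act 3 n190160 = n214622 := d6_3 F476091 (iv3 D190159) D190160
theorem F476093 : act 7 n214622 = n206351 := d8_2 F379008 F476092 F440368
def n214623 : Q := act 1 n160400
theorem D214623 : act 1 n160400 = n214623 := rfl
theorem F476094 : act 6 n206349 = n214623 := d21_3 F440337 F400308 F440360 (iv1 D214623) (iv6 D160400) (iv5 D76890) D76887 D160387 (iv6 F358861) D206342
theorem F476095 : act 2 n214623 = n206351 := d3_1 F476094 (iv6 D206351) D206349
theorem F476096 : act 3 n214623 = n191003 := d7_1 F476094 F427610 (iv3 F440356)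
theorem F476097 : act 4 n214623 = n213969 := d10_1 F476094 (iv6 D213969) (iv4 F440357)
theorem F476098 : act 5 n191002 = n214623 := d6_0 F476096 (iv5 D191003) D191002
def n214624 : Q := act 7 n160400
theorem D214624 : act 7 n160400 = n214624 := rfl
theorem F476099 : act 5 n214624 = n160468 := d13_1 D214624 (iv7 D160468) (iv5 F253346)
theorem F476100 : act 1 n206351 = n214624 := d15_1 (iv0 F440369) (iv7 D214624) (iv2 F433503)
def n214625 : Q := act 3 n160404
theorem D214625 : act 3 n160404 = n214625 := rfl
theorem F476101 : act 6 n214625 = n194154 := d7_2 F431246 D214625 (iv3 F392199)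
theorem F476102 : act 7 n214625 = n204699 := d8_2 F433301 D214625 (iv3 D204699)
theorem F476103 : act 4 n214625 = n160617 := d20_6 (iv4 D26979) (iv1 F27990) D35136 D76893 D160404 D214625 (iv1 D160617) (iv4 F191540) (iv3 D120286) F87610
theorem F476104 : act 0 n180647 = n214625 := d20_4 F88531 F254087 D86292 D180647 (iv3 D214625) (iv4 F405964) (iv1 F405965) (iv4 F406180) F406179 (iv1 D121270)
def n214626 : Q := act 3 n160405
theorem D214626 : act 3 n160405 = n214626 := rfl
theorem F476105 : act 7 n214626 = n204703 := d8_2 (iv7 F433299) D214626 (iv3 D204703)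
theorem F476106 : act 0 n199878 = n214626 := d20_4 (iv4 F168448) (iv1 F164683) (iv4 F173936) D199878 (iv3 D214626) (iv4 F405967) (iv1 D197838) F168635 F79573 D50224
def n214627 : Q := act 5 n160406
theorem D214627 : act 5 n160406 = n214627 := rfl
theorem F476107 : act 2 n214627 = n160407 := d2_1 D214627 (iv5 D160407) D160406
theorem F476108 : act 3 n214627 = n204711 := d6_1 D214627 (iv5 D204711) (iv3 F253361)
theorem F476109 : act 4 n214627 = n187253 := d9_1 D214627 (iv5 F369636) (iv4 F358091) F358092 (iv4 F354386) (iv5 D163449) F119733 D124236 (iv4 F381513) (iv5 F394869) F394868 (iv5 F358111) (iv4 F382713) F382714 F287861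
theorem F476110 : act 7 n214627 = n204706 := d13_2 (iv7 F253362) D214627 (iv5 D204706)
theorem F476111 : act 1 n214627 = n203684 := d17_8 (iv1 F381402) F381404 F362515 D214296 F474439 (iv5 D204705) F253365 D214627 F429404
theorem F476112 : act 0 n214627 = n190869 := d18_0 F381395 D190870 (iv4 F406209) F406210 (iv4 F382526) (iv0 F433318) (iv4 D204704) F253365 D214627
def n214628 : Q := act 6 n160406
theorem D214628 : act 6 n160406 = n214628 := rfl
theorem F476113 : act 2 n214628 = n160408 := d3_1 D214628 (iv6 D160408) D160406
theorem F476114 : act 3 n214628 = n200061 := d7_1 D214628 F414845 (iv3 F253361)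
theorem F476115 : act 4 n214628 = n197885 := d10_1 D214628 (iv6 F406117) F287861
theorem F476116 : act 5 n214628 = n199731 := d21_6 (iv5 D197469) (iv1 F404444) (iv5 F433308) (iv6 D204702) (iv1 F253363) D214628 F413289 F355977 F355975 (iv1 F404469)
theorem F476117 : act 0 n205261 = n214628 := d17_0 F476116 F413289 F355977 F169043 D125829 (iv0 F405948) (iv5 D197832) F202147 D205261
theorem F476118 : act 1 n205264 = n214628 := d18_8 F413289 (iv4 F409178) F409180 (iv4 D197729) (iv5 D108619) (iv4 F93048) D125667 D205264 F476116
def n214629 : Q := act 1 n160407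
theorem D214629 : act 1 n160407 = n214629 := rfl
theorem F476119 : act 1 n214629 = n204706 := d15_1 D214629 (iv7 F476110) F476107
theorem F476120 : act 7 n214629 = n190869 := d15_2 F381520 D214629 F381394
theorem F476121 : act 5 n214629 = n160416 := d17_7 (iv1 F262176) F382533 F382590 F294067 F135380 D160407 D214629 F253403 (iv4 F262172)
theorem F476122 : act 4 n214629 = n190872 := d17_9 (iv1 F381410) F379024 F361129 D158027 (iv4 F429433) (iv5 F429434) (iv0 D160404) D160407 D214629
theorem F476123 : act 2 n203684 = n214629 := d1_3 F476122 F381406 (iv4 F429404)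
def n214630 : Q := act 6 n160407
theorem D214630 : act 6 n160407 = n214630 := rfl
theorem F476124 : act 3 n214630 = n160409 := d7_1 D214630 (iv6 D160409) (iv3 F253366)
theorem F476125 : act 5 n214630 = n214089 := d12_1 D214630 F473428 F407516 (iv6 D160408) D160407
theorem F476126 : act 7 n214630 = n212845 := d14_2 (iv7 F253367) D214630 (iv6 D212845) (iv7 F427555) F427554
def n214631 : Q := act 3 n160415
theorem D214631 : act 3 n160415 = n214631 := rfl
theorem F476127 : act 2 n214631 = n205067 := d0_1 D214631 (iv3 F474504) F474503 F429419 F412090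
theorem F476128 : act 7 n214631 = n203682 := d8_2 F412092 D214631 (iv3 D203682)
theorem F476129 : act 4 n214631 = n166672 := d20_6 (iv4 D17060) D17059 D35138 D76899 D160415 D214631 (iv1 D166672) F122781 (iv3 D76907) (iv1 D35141)
theorem F476130 : act 0 n160569 = n214631 := d20_4 F55848 D35168 D76982 D160569 (iv3 D214631) (iv4 F358047) F358048 F257990 (iv3 D160454) (iv1 D76911)
theorem F476131 : act 1 n205068 = n214631 := d15_0 (iv0 F476130) F254442 D205068
def n214632 : Q := act 6 n160415
theorem D214632 : act 6 n160415 = n214632 := rfl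
theorem F476132 : act 2 n214632 = n203688 := d3_1 D214632 (iv6 D203688) F412090
theorem F476133 : act 4 n214632 = n205530 := d10_1 D214632 (iv6 D205530) F358047
theorem F476134 : act 5 n214632 = n194728 := d12_1 D214632 (iv6 D194728) (iv5 F360813) D190167 (iv5 F379022)
theorem F476135 : act 7 n214632 = n204670 := d14_2 F412092 D214632 F457622 (iv7 F433542) (iv6 D203685)
theorem F476136 : act 0 n214632 = n204672 := d21_4 D160407 (iv1 F381520) (iv5 F379022) D214632 F433219 (iv5 F208766) (iv1 F314350) D205033 F434707 (iv1 D160405)
theorem F476137 : act 0 n203784 = n214632 := d21_4 (iv5 D154717) D154715 F359314 (iv6 F429798) (iv6 D214632) F379022 (iv1 F433329) (iv5 D204706) (iv6 F431242) (iv1 F431245)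
def n214633 : Q := act 5 n160417
theorem D214633 : act 5 n160417 = n214633 := rfl
theorem F476138 : act 2 n214633 = n160418 := d2_1 D214633 (iv5 D160418) D160417
theorem F476139 : act 3 n214633 = n204718 := d6_1 D214633 (iv5 D204718) (iv3 F253400)
theorem F476140 : act 7 n214633 = n203689 := d13_2 (iv7 F253401) D214633 (iv5 D203689)
theorem F476141 : act 0 n214633 = n203691 := d17_2 (iv1 F253402) D214633 F429427 (iv4 F405967) (iv5 F405968) (iv0 F436854) (iv5 D205528) (iv0 F429401) (iv4 D203683)
theorem F476142 : act 1 n214633 = n203690 := d17_6 D185557 (iv5 F382583) (iv1 F382588) (iv5 F348769) F327277 D214633 (iv5 F429434) (iv0 D160404) (iv4 F135380)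
def n214634 : Q := act 4 n160432
theorem D214634 : act 4 n160432 = n214634 := rfl
theorem F476143 : act 2 n214634 = n199741 := d1_1 D214634 F413331 (iv2 F412085)
theorem F476144 : act 7 n214634 = n199742 := d11_2 (iv7 F412082) D214634 (iv4 F413334)
theorem F476145 : act 0 n214634 = n199743 := d20_1 D214634 F413337 F173225 F171524 (iv3 F326757) F87594 (iv1 F56519) F56520 D76904 D160432
theorem F476146 : act 0 n189816 = n214634 := d20_1 F377864 (iv4 D214634) F412070 (iv1 F412083) (iv3 D160454) (iv4 F119798) (iv1 F257782) (iv4 F201715) F413311 (iv1 D199737)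
def n214635 : Q := act 5 n160433
theorem D214635 : act 5 n160433 = n214635 := rfl
theorem F476147 : act 2 n214635 = n204721 := d2_1 D214635 (iv5 D204721) F412084
theorem F476148 : act 3 n214635 = n212119 := d6_1 D214635 F464384 (iv3 F412087)
theorem F476149 : act 6 n214635 = n190291 := d12_2 (iv6 F412088) D214635 (iv5 F402059) (iv6 D196861) D196860
theorem F476150 : act 7 n214635 = n204723 := d13_2 F412086 D214635 (iv5 D204723)
theorem F476151 : act 4 n214635 = n190292 := d18_5 (iv1 F413317) (iv4 F413337) (iv1 F417828) F417825 D214635 (iv0 F379306) D190432 (iv0 F461348) F461349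
theorem F476152 : act 0 n214635 = n160462 := d21_1 D214635 F253465 (iv6 F406105) (iv1 D197882) D197884 (iv5 F412910) (iv1 F412889) F433403 (iv6 D204725) (iv1 F253425)
theorem F476153 : act 0 n193303 = n214635 := d21_10 (iv5 D214635) (iv1 D160433) D160435 (iv6 F394369) (iv1 D194757) (iv6 D104351) (iv5 F156006) (iv1 F156007) D101444 D193303
def n214636 : Q := act 5 n160434
theorem D214636 : act 5 n160434 = n214636 := rfl
theorem F476154 : act 2 n214636 = n160435 := d2_1 D214636 (iv5 D160435) D160434
theorem F476155 : act 3 n214636 = n204733 := d6_1 D214636 (iv5 D204733) (iv3 F253422)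
theorem F476156 : act 7 n214636 = n204724 := d13_2 (iv7 F253423) D214636 (iv5 D204724)
theorem F476157 : act 0 n214636 = n204727 := d17_2 (iv1 F253424) D214636 (iv5 F434981) (iv4 F418278) (iv5 F439325) F439328 F398079 D199742 (iv4 F413334)
theorem F476158 : act 0 n204726 = n214636 := d21_7 D200044 (iv1 F414755) (iv5 F409184) F409185 F412648 F412647 (iv5 F433443) (iv5 D214636) (iv6 F409225) (iv1 F409228)
def n214637 : Q := act 0 n160435
theorem D214637 : act 0 n160435 = n214637 := rfl
theorem F476159 : act 5 n214637 = n163949 := d19_1 D214637 (iv4 F341836) F341835 D129065 D206643 F442043 F442041 (iv1 F216292) (iv5 D134266) F98389 F48000 D29839 (iv5 F79597) D51467 (iv3 F326021) F56251 D76807 (iv4 F115536) (iv3 F253427)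
theorem F476160 : act 3 n214637 = n206626 := d20_5 F191508 F119156 (iv4 F115536) (iv3 F253427) D214637 F441642 F429432 (iv4 D203692) F191506 D120274
theorem F476161 : act 1 n204724 = n214637 := d15_0 (iv0 D214637) F253428 (iv2 F433399)
theorem F476162 : act 2 n204727 = n214637 := d0_5 F476160 F441639 F406203 F404431 (iv3 F434982)
theorem F476163 : act 7 n204726 = n214637 := d8_0 F476160 F441641 F433444
def n214638 : Q := act 1 n160435
theorem D214638 : act 1 n160435 = n214638 := rfl
theorem F476164 : act 1 n214638 = n204724 := d15_1 D214638 (iv7 F476156) F476154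
theorem F476165 : act 7 n214638 = n204727 := d15_2 (iv0 D214637) D214638 F476162
theorem F476166 : act 5 n214638 = n163950 := d17_7 (iv1 F380472) (iv5 F422227) F422228 (iv5 D169919) F125357 D160435 D214638 F430263 F430259
theorem F476167 : act 2 n204726 = n214638 := d2_3 F476166 (iv2 F406197) (iv5 F433443)
def n214639 : Q := act 4 n160435
theorem D214639 : act 4 n160435 = n214639 := rfl
theorem F476168 : act 3 n214639 = n214328 := d5_1 D214639 F474590 F253111 (iv4 F115536) (iv3 F253427)
theorem F476169 : act 6 n214639 = n190189 := d10_2 F394369 D214639 (iv4 F394363)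
theorem F476170 : act 7 n214639 = n204728 := d11_2 (iv7 F253428) D214639 (iv4 D204728)
theorem F476171 : act 5 n214327 = n214639 := d6_0 F476168 (iv5 D214328) D214327
def n214640 : Q := act 5 n160441
theorem D214640 : act 5 n160441 = n214640 := rfl
theorem F476172 : act 2 n214640 = n197949 := d2_1 D214640 F406263 F365919
theorem F476173 : act 6 n214640 = n190088 := d12_2 (iv6 F408810) D214640 (iv5 F378818) (iv6 F402013) F408809
theorem F476174 : act 7 n214640 = n204732 := d13_2 (iv7 F365920) D214640 (iv5 D204732)
theorem F476175 : act 4 n214640 = n190089 := d19_2 D160441 D214640 F378819 F344656 (iv5 D77211) F55979 (iv3 D17117) (iv1 F22123) F22120 (iv4 D7795) (iv3 F12258) D16705 F28188 F31199 (iv3 F31200) F30569 D35107 (iv4 F55843) D76907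
theorem F476176 : act 0 n214640 = n204755 := d21_1 D214640 F433471 F362622 (iv1 D140397) D140399 F341307 (iv1 F353984) (iv5 F353987) (iv6 D160445) D160441
theorem F476177 : act 0 n160464 = n214640 := d21_7 (iv5 F452918) F452921 F406981 (iv6 D198029) F393423 F393421 (iv5 F253469) (iv5 D214640) F408810 F408807
def n214641 : Q := act 5 n160443
theorem D214641 : act 5 n160443 = n214641 := rfl
theorem F476178 : act 2 n214641 = n160444 := d2_1 D214641 (iv5 D160444) D160443
theorem F476179 : act 3 n214641 = n204724 := d6_1 D214641 (iv5 D204724) (iv3 F253439)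
theorem F476180 : act 6 n214641 = n160455 := d12_2 F412979 D214641 (iv5 D160455) D160456 (iv5 F412976)
theorem F476181 : act 7 n214641 = n204733 := d13_2 (iv7 F253440) D214641 (iv5 D204733)
theorem F476182 : act 0 n214641 = n204735 := d21_1 D214641 (iv5 F433427) F405491 (iv1 D194145) (iv6 F277634) (iv5 F363362) D197670 (iv5 F433248) F433250 (iv1 F253441)
theorem F476183 : act 0 n204734 = n214641 := d21_1 (iv5 F433430) (iv5 D214641) (iv6 F412979) (iv1 D199646) D199648 (iv5 F412987) F424046 F424043 F393421 (iv1 F406249)
def n214642 : Q := act 0 n160444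
theorem D214642 : act 0 n160444 = n214642 := rfl
theorem F476184 : act 5 n214642 = n163954 := d21_2 D160444 D214642 (iv6 F364309) (iv1 F392192) F406098 (iv5 F406096) F405279 (iv5 F413074) (iv6 D199672) F358384
theorem F476185 : act 2 n204735 = n214642 := d15_3 (iv0 D214642) (iv0 F412109) (iv7 F433428)
theorem F476186 : act 1 n204733 = n214642 := d15_0 (iv0 D214642) F253445 (iv2 F433425)
theorem F476187 : act 7 n214642 = n204734 := d15_2 (iv0 F474342) F476186 (iv2 F433429)
theorem F476188 : act 3 n214642 = n214290 := d0_2 F433426 F476185 F474415 F406239 (iv2 F405495)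
def n214643 : Q := act 4 n160444
theorem D214643 : act 4 n160444 = n214643 := rfl
theorem F476189 : act 3 n214643 = n194763 := d5_1 D214643 F394375 F253405 (iv4 F115541) (iv3 F253444)
theorem F476190 : act 6 n214643 = n194760 := d10_2 F353992 D214643 (iv4 F394371)
theorem F476191 : act 7 n214643 = n204736 := d11_2 (iv7 F253445) D214643 (iv4 D204736)
theorem F476192 : act 5 n160842 = n214643 := d19_1 D160842 (iv4 D214643) F253444 F115543 (iv5 D35865) (iv4 D17367) F12902 F5688 (iv5 D3536) F2716 F2603 F2909 F2907 F2906 (iv3 F5656) D8000 D17099 D35235 D77186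
theorem F476193 : act 0 n166674 = n214643 := d21_7 (iv5 F276269) (iv1 F289216) F362553 (iv6 F463111) (iv1 F463114) F298039 D166674 (iv5 F476192) (iv6 F414785) (iv1 F258600)
def n214644 : Q := act 5 n160454
theorem D214644 : act 5 n160454 = n214644 := rfl
theorem F476194 : act 2 n214644 = n204729 := d2_1 D214644 F433408 F412095
theorem F476195 : act 3 n214644 = n160455 := d6_1 D214644 (iv5 D160455) D160454
theorem F476196 : act 6 n214644 = n204724 := d12_2 F412881 D214644 (iv5 D204724) D204725 (iv5 F433403)
theorem F476197 : act 7 n214644 = n204739 := d13_2 F257962 D214644 (iv5 D204739)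
theorem F476198 : act 1 n214644 = n206626 := d17_8 F429432 F429431 (iv1 F392644) F392641 (iv4 F406207) (iv5 F412073) F412071 D214644 F441642
def n214645 : Q := act 4 n160455
theorem D214645 : act 4 n160455 = n214645 := rfl
theorem F476199 : act 2 n214645 = n194760 := d1_1 D214645 (iv4 F394371) (iv2 F257960)
theorem F476200 : act 5 n214645 = n176898 := d9_2 D160455 D214645 (iv4 D176898) (iv5 F250808) (iv4 F248858) (iv5 F327515) F173079 D111576 D199666 F413057 (iv4 D176901) (iv5 F250817) (iv4 F193227) F250809 F119798
theorem F476201 : act 7 n214645 = n204740 := d11_2 F257963 D214645 (iv4 D204740)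
theorem F476202 : act 1 n214645 = n190996 := d18_6 (iv1 F201716) F256579 (iv1 F256588) F119798 D160455 D214645 (iv4 F434870) F434866 (iv5 D125451)
def n214646 : Q := act 6 n160457
theorem D214646 : act 6 n160457 = n214646 := rfl
theorem F476203 : act 2 n214646 = n160461 := d3_1 D214646 (iv6 D160461) (iv2 F253456)
def n214647 : Q := act 4 n160458
theorem D214647 : act 4 n160458 = n214647 := rfl
theorem F476204 : act 2 n214647 = n204745 := d1_1 D214647 (iv4 D204745) (iv2 F254249)
theorem F476205 : act 5 n214647 = n176889 := d9_2 F341847 D214647 (iv4 D176889) (iv5 D84324) (iv4 F116019) F254070 F193375 F254090 (iv4 F473944) (iv5 D214195) F356904 (iv5 D84320) D84319 (iv5 F257781) (iv4 F341846)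
theorem F476206 : act 7 n214647 = n204743 := d11_2 F254251 D214647 (iv4 D204743)
theorem F476207 : act 3 n185734 = n214647 := d6_3 F476205 F382169 D185734
def n214648 : Q := act 6 n160458
theorem D214648 : act 6 n160458 = n214648 := rfl
theorem F476208 : act 2 n214648 = n204746 := d3_1 D214648 (iv6 D204746) (iv2 F254249)
theorem F476209 : act 3 n214648 = n197714 := d7_1 D214648 F405483 (iv3 F363244)
theorem F476210 : act 5 n214648 = n197713 := d12_1 D214648 (iv6 D197713) (iv5 D108607) D108608 F341847
def n214649 : Q := act 3 n160459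
theorem D214649 : act 3 n160459 = n214649 := rfl
theorem F476211 : act 2 n214649 = n197925 := d0_1 D214649 F406208 (iv2 F405504) F405505 (iv2 F254252)
theorem F476212 : act 4 n214649 = n190168 := d5_2 F473944 D214649 F473975 (iv4 D214202) (iv3 F473942)
theorem F476213 : act 5 n214649 = n197910 := d6_2 F254090 D214649 F406179
theorem F476214 : act 6 n214649 = n206263 := d7_2 (iv6 F461550) D214649 (iv3 F461552)
theorem F476215 : act 7 n214649 = n197909 := d8_2 (iv7 F254246) D214649 F406176
theorem F476216 : act 1 n197924 = n214649 := d15_1 D197924 F476215 F406175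
theorem F476217 : act 0 n187251 = n214649 := d21_4 (iv5 F293013) (iv1 F156181) F360803 D187251 F476214 (iv5 D206263) (iv1 F264247) (iv5 F366554) (iv6 D101454) (iv1 F291904)
def n214650 : Q := act 0 n160460
theorem D214650 : act 0 n160460 = n214650 := rfl
theorem F476218 : act 5 n214650 = n180682 := d17_3 (iv1 F474756) F474753 D214650 (iv4 D180682) (iv5 D86307) F132255 D180630 (iv0 F373675) F373677
theorem F476219 : act 4 n214650 = n180648 := d18_3 (iv1 D160459) D160460 D214650 (iv5 D180648) (iv4 D86292) (iv0 F254087) (iv4 F88531) D121270 F254090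
theorem F476220 : act 1 n176906 = n214650 := d15_0 (iv0 D214650) F253463 (iv2 F276265)
theorem F476221 : act 2 n204748 = n214650 := d1_3 F476219 F281184 F434847
theorem F476222 : act 7 n204747 = n214650 := d11_0 F476219 F281185 (iv4 F433463)
theorem F476223 : act 6 n198555 = n214650 := d12_0 F476218 (iv6 F444653) (iv5 F444656) F427673 (iv5 F427674)
def n214651 : Q := act 1 n160460
theorem D214651 : act 1 n160460 = n214651 := rfl
theorem F476224 : act 1 n214651 = n176906 := d15_1 D214651 (iv7 F474787) F474784
theorem F476225 : act 7 n214651 = n204748 := d15_2 (iv0 D214650) D214651 F476221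
theorem F476226 : act 5 n214651 = n180640 := d17_7 (iv1 F254241) (iv5 D84320) (iv1 F113712) D158902 D214360 F474753 D214651 F281175 (iv4 D164096)
theorem F476227 : act 4 n214651 = n180689 := d18_7 (iv1 F253656) (iv4 D76987) (iv1 D35169) (iv4 F55848) D76913 D160460 D214651 (iv0 F474252) (iv5 D214255)
theorem F476228 : act 2 n204747 = n214651 := d1_3 F476227 F281220 (iv4 F433463)
theorem F476229 : act 6 n211976 = n214651 := d12_0 F476226 F362312 (iv5 D178867) (iv6 F361614) D211976
def n214652 : Q := act 6 n160460
theorem D214652 : act 6 n160460 = n214652 := rfl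
theorem F476230 : act 3 n214652 = n209909 := d7_1 D214652 (iv6 F474761) F431003
theorem F476231 : act 4 n214652 = n160461 := d10_1 D214652 (iv6 D160461) D160460
theorem F476232 : act 5 n214652 = n198456 := d12_1 D214652 F455318 D209905 F474757 F474753
def n214653 : Q := act 0 n160461
theorem D214653 : act 0 n160461 = n214653 := rfl
def n214654 : Q := act 1 n160461
theorem D214654 : act 1 n160461 = n214654 := rfl
theorem F476233 : act 4 n200438 = n214654 := d20_0 (iv1 D214654) (iv4 F476231) F476230 F462951 (iv3 D211750) D211751 (iv1 F463204) F463201 (iv3 F463179) (iv1 F463181)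
def n214655 : Q := act 7 n160461
theorem D214655 : act 7 n160461 = n214655 := rfl
theorem F476234 : act 3 n214655 = n160468 := d8_1 D214655 (iv7 D160468) (iv3 F253464)
theorem F476235 : act 6 n214655 = n204752 := d14_1 D214655 (iv7 D204752) (iv6 D124304) (iv7 F115553) D160461
def n214656 : Q := act 2 n160462
theorem D214656 : act 2 n160462 = n214656 := rfl
theorem F476236 : act 3 n214656 = n204755 := d0_2 D160462 D214656 (iv2 D204755) (iv3 D124307) (iv2 F115557)
theorem F476237 : act 5 n214656 = n203890 := d2_2 (iv5 F253465) D214656 (iv2 D203890)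
theorem F476238 : act 7 n214656 = n193303 := d4_2 (iv7 F253466) D214656 F389422
theorem F476239 : act 1 n214656 = n204721 := d15_0 (iv0 F433395) (iv7 F253466) D214656
theorem F476240 : act 4 n214656 = n194751 := d16_0 F394347 F379955 (iv5 F398359) F398358 (iv5 D189801) F146887 (iv5 F198785) (iv7 F253466) D214656
theorem F476241 : act 1 n204723 = n214656 := d15_0 F476239 (iv7 F461630) F461627
def n214657 : Q := act 4 n160462
theorem D214657 : act 4 n160462 = n214657 := rfl
theorem F476242 : act 2 n214657 = n194751 := d1_1 D214657 (iv4 F476240) (iv2 D214656)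
theorem F476243 : act 3 n214657 = n174712 := d5_1 D214657 (iv4 F413102) F191548 F115556 D160462
theorem F476244 : act 7 n214657 = n190165 := d11_2 (iv7 F253466) D214657 F379019
theorem F476245 : act 0 n214657 = n194750 := d18_2 F476152 D214657 (iv4 F418210) (iv5 D199748) F364838 (iv0 F248748) F125357 D160433 D214635
theorem F476246 : act 0 n190148 = n214657 := d20_7 F89954 D76914 (iv4 F115556) (iv3 F191548) D203696 (iv3 F429439) (iv4 F413357) (iv4 D214657) (iv3 D160462) (iv1 F115555)
theorem F476247 : act 6 n214657 = n194422 := d21_5 F149584 (iv1 F71442) D95666 D190148 F476246 F393133 F390484 F390482 (iv6 D190153) (iv1 F149587)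
def n214658 : Q := act 6 n160462
theorem D214658 : act 6 n160462 = n214658 := rfl
theorem F476248 : act 3 n214658 = n160463 := d7_1 D214658 (iv6 D160463) D160462
theorem F476249 : act 4 n214658 = n194422 := d10_1 D214658 (iv6 F476247) (iv4 D214657)
theorem F476250 : act 7 n214658 = n193296 := d14_2 (iv7 F253466) D214658 (iv6 D193296) (iv7 F369629) (iv6 F369634)
theorem F476251 : act 5 n202662 = n214658 := d13_3 F476250 (iv5 F405365) (iv7 F424981)
theorem F476252 : act 0 n214658 = n204399 := d19_4 (iv1 F167661) (iv5 F341378) (iv4 F253468) (iv3 F476248) (iv5 D204399) (iv4 D123727) F90862 D57722 D123883 (iv4 F411439) F426618 (iv1 F426616) (iv5 F423427) (iv4 D202268) (iv3 F423409) (iv1 F456248) (iv5 D210120) (iv4 F245673) (iv3 D156334)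
def n214659 : Q := act 2 n160464
theorem D214659 : act 2 n160464 = n214659 := rfl
theorem F476253 : act 3 n214659 = n193303 := d0_2 D160464 D214659 F389422 (iv3 D124305) (iv2 F115563)
theorem F476254 : act 5 n214659 = n197939 := d2_2 (iv5 F253469) D214659 (iv2 F406243)
theorem F476255 : act 6 n214659 = n193301 := d3_2 F461526 D214659 (iv2 F461524)
theorem F476256 : act 7 n214659 = n204755 := d4_2 (iv7 F253470) D214659 (iv2 D204755)
theorem F476257 : act 1 n214659 = n204732 := d15_0 F449454 (iv7 F253470) D214659
theorem F476258 : act 1 n197949 = n214659 := d15_0 F476257 (iv7 F476174) F476172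
def n214660 : Q := act 4 n160464
theorem D214660 : act 4 n160464 = n214660 := rfl
theorem F476259 : act 3 n214660 = n190909 := d5_1 D214660 (iv4 F381519) F253366 F115562 D160464
theorem F476260 : act 7 n214660 = n204756 := d11_2 (iv7 F253470) D214660 (iv4 D204756)
theorem F476261 : act 5 n160864 = n214660 := d19_1 D160864 (iv4 D214660) (iv3 D160464) (iv1 D76915) (iv5 D35143) (iv4 D17060) F12750 (iv1 F5872) F5873 F5682 F2915 (iv1 F2952) (iv5 F2953) (iv4 F2995) D3654 D8111 (iv5 F28049) D35240 D77199
theorem F476262 : act 0 n160845 = n214660 := d20_10 (iv4 D214660) F476177 F476175 F378819 F344656 F115966 D77214 F115974 (iv4 F115970) (iv3 F254008)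
theorem F476263 : act 1 n190988 = n214660 := d15_0 (iv0 F476262) F254009 (iv2 F381808)
def n214661 : Q := act 4 n160466
theorem D214661 : act 4 n160466 = n214661 := rfl
theorem F476264 : act 2 n214661 = n211406 := d1_1 D214661 (iv4 F461435) (iv2 F433506)
theorem F476265 : act 6 n214661 = n198320 := d10_2 F461539 D214661 (iv4 F461536)
theorem F476266 : act 7 n214661 = n211405 := d11_2 F433507 D214661 F461424
theorem F476267 : act 5 n214661 = n210369 := d17_5 F461507 F464452 (iv1 D212136) (iv5 F401351) D214661 (iv0 F457233) (iv5 F389402) (iv0 F381932) (iv4 F461506)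
theorem F476268 : act 1 n214661 = n162293 := d18_6 (iv1 F415041) (iv4 F472745) (iv1 F472747) (iv4 F366109) (iv5 F401351) D214661 (iv4 F429384) F436691 F436690
theorem F476269 : act 0 n214661 = n211403 := d20_7 (iv4 F445444) (iv1 F464280) F464281 F401261 F380998 F401352 D214661 (iv4 F464263) (iv3 D212082) (iv1 F402265)
def n214662 : Q := act 6 n160467
theorem D214662 : act 6 n160467 = n214662 := rfl
theorem F476270 : act 2 n214662 = n208459 := d3_1 D214662 F449452 F433509
theorem F476271 : act 4 n214662 = n197959 := d10_1 D214662 F406284 F461429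
theorem F476272 : act 5 n208279 = n214662 := d21_2 (iv5 F424156) (iv1 F448712) (iv6 D214662) (iv1 D160467) (iv6 D76916) (iv5 D35143) D35140 D76905 D160437 (iv1 F413063)
theorem F476273 : act 0 n199673 = n214662 := d21_4 (iv5 D210345) (iv1 F425003) F425001 (iv6 F413077) (iv6 D214662) (iv5 F472752) (iv1 F472754) (iv5 F464452) (iv6 D211424) (iv1 F457128)
theorem F476274 : act 1 n199676 = n214662 := d15_0 (iv0 F476273) F413078 (iv2 F413083)
theorem F476275 : act 7 n200867 = n214662 := d11_0 F476271 F406285 D200867
def n214663 : Q := act 0 n160490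
theorem D214663 : act 0 n160490 = n214663 := rfl
theorem F476276 : act 5 n214663 = n214383 := d17_1 D214663 F474897 F345504 F345503 (iv5 F342109) F342110 F347444 (iv0 D160492) (iv4 F253518)
theorem F476277 : act 4 n214663 = n212517 := d18_1 D214663 (iv1 F466211) F389861 (iv5 F363868) F264148 D167780 (iv4 F417971) F417973 (iv5 F417291)
theorem F476278 : act 6 n214663 = n193365 := d21_5 D113527 D200821 F418053 F320978 D214663 (iv5 D193365) (iv1 D101534) D101536 (iv6 F361237) (iv1 D113526)
theorem F476279 : act 2 n174846 = n214663 := d15_3 (iv0 D214663) F414901 F414899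
theorem F476280 : act 1 n174850 = n214663 := d15_0 (iv0 D214663) F253519 (iv2 F339195)
theorem F476281 : act 7 n214663 = n174847 := d15_2 (iv0 F414900) F476280 (iv2 F414896)
def n214664 : Q := act 4 n160537
theorem D214664 : act 4 n160537 = n214664 := rfl
theorem F476282 : act 2 n214664 = n160539 := d1_1 D214664 (iv4 D160539) D160537
theorem F476283 : act 7 n214664 = n160544 := d11_2 F253623 D214664 (iv4 D160544)
theorem F476284 : act 5 n214664 = n196930 := d16_1 D214664 F402339 (iv5 D193178) F351743 (iv5 D134678) (iv4 F330200) (iv5 F331731) (iv7 D160542) D160537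
theorem F476285 : act 1 n214664 = n205065 := d18_6 F348190 F108433 (iv1 F308710) (iv4 F330183) (iv5 F331726) D214664 F434850 (iv0 F449811) (iv5 D208544)
theorem F476286 : act 3 n214664 = n196877 := d20_3 F253340 (iv1 F331724) D214664 (iv1 F402123) (iv3 F351081) (iv4 D108636) (iv1 D50162) (iv4 F79478) (iv3 F168512) F362470
def n214665 : Q := act 3 n160539
theorem D214665 : act 3 n160539 = n214665 := rfl
theorem F476287 : act 2 n214665 = n209993 := d0_1 D214665 F455666 F402122 (iv3 F476286) F476282
theorem F476288 : act 4 n214665 = n198663 := d5_2 D160539 D214665 F408767 (iv4 F364965) (iv3 D160538)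
theorem F476289 : act 0 n214665 = n199256 := d19_4 F353089 (iv5 F331722) D160539 D214665 (iv5 D199256) (iv4 F361572) (iv3 F411640) (iv1 F411642) F389801 (iv4 D193423) F346472 F362742 (iv5 D101613) D101612 F344070 (iv1 F308897) (iv5 D61504) D61503 D131099
theorem F476290 : act 5 n209257 = n214665 := d17_1 (iv1 F452929) F476289 (iv5 D199256) (iv4 F361572) F220370 (iv0 F220372) F218861 F218860 (iv4 F220376)
theorem F476291 : act 1 n214665 = n199253 := d15_1 (iv0 F476289) F411332 (iv2 F411341)
theorem F476292 : act 7 n214665 = n209991 := d15_2 F411344 (iv0 F476289) F455658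
def n214666 : Q := act 5 n160539
theorem D214666 : act 5 n160539 = n214666 := rfl
theorem F476293 : act 2 n214666 = n196930 := d2_1 D214666 (iv5 F476284) F476282
theorem F476294 : act 3 n214666 = n209257 := d6_1 D214666 F476290 (iv3 D214665)
theorem F476295 : act 4 n214666 = n213283 := d9_1 D214666 F469714 F388757 F363369 F151518 F331728 D160544 (iv5 F473915) F473914 (iv5 D170755) F125888 (iv5 F341213) F341212 (iv5 F331722) D160539
theorem F476296 : act 7 n214666 = n209990 := d16_8 F473914 (iv5 D170755) F125888 (iv5 F341213) F341212 (iv5 F331722) D160539 D214666 (iv2 F473912)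
theorem F476297 : act 0 n214666 = n213460 := d17_2 (iv1 F428774) D214666 F470501 (iv4 F346372) F342133 (iv0 F346374) (iv5 F365220) (iv0 F428771) F428770
theorem F476298 : act 6 n214666 = n196928 := d21_3 D199247 (iv1 F428774) D214666 (iv1 F402332) (iv6 D111087) (iv5 D51234) (iv1 D24918) D24920 D51241 D111109
theorem F476299 : act 0 n212098 = n214666 := d19_0 (iv5 D214666) (iv4 D160539) D160538 F364968 F320703 (iv4 F243855) (iv3 D155065) (iv1 D73597) D73598 (iv4 F321021) (iv3 F175510) F175513 (iv5 D58994) D58993 (iv3 F326937) D124480 D204844 (iv4 F433812) (iv3 F464306)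
def n214667 : Q := act 7 n160539
theorem D214667 : act 7 n160539 = n214667 := rfl
theorem F476300 : act 2 n214667 = n160544 := d4_1 D214667 (iv7 F476283) F476282
theorem F476301 : act 3 n214667 = n209991 := d8_1 D214667 (iv7 F476292) (iv3 D214665)
theorem F476302 : act 4 n214667 = n160542 := d11_1 D214667 (iv7 D160542) D160539
theorem F476303 : act 5 n214667 = n209990 := d13_1 D214667 (iv7 F476296) (iv5 D214666)
theorem F476304 : act 6 n214667 = n206020 := d14_1 D214667 (iv7 D206020) (iv6 F438856) F438857 F429967
theorem F476305 : act 1 n205065 = n214667 := d15_1 F476285 (iv7 D214667) (iv2 F476282)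
def n214668 : Q := act 5 n160568
theorem D214668 : act 5 n160568 = n214668 := rfl
theorem F476306 : act 2 n214668 = n205064 := d2_1 D214668 (iv5 D205064) F256577
theorem F476307 : act 3 n214668 = n204713 := d6_1 D214668 F433361 F262235
theorem F476308 : act 6 n214668 = n211815 := d12_2 F413342 D214668 (iv5 F463178) (iv6 D199248) D199247
theorem F476309 : act 7 n214668 = n205066 := d13_2 F256580 D214668 (iv5 D205066)
theorem F476310 : act 4 n214668 = n211809 := d16_2 F262234 D214668 (iv5 D211809) (iv4 F365096) (iv5 D180630) F132250 (iv5 F248720) (iv7 F256545) (iv2 F262233)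
theorem F476311 : act 0 n214668 = n180648 := d17_2 (iv1 F253652) D214668 (iv5 D180648) (iv4 D86292) (iv5 D39928) (iv0 D18882) (iv5 F28014) D35169 D76987
theorem F476312 : act 1 n214668 = n180689 := d17_6 (iv1 F258423) F258422 (iv1 F326798) F326801 F262234 D214668 (iv5 D180689) (iv0 F280700) (iv4 D180373)
def n214669 : Q := act 1 n160569
theorem D214669 : act 1 n160569 = n214669 := rfl
theorem F476313 : act 7 n214669 = n205067 := d15_2 (iv0 F476130) D214669 (iv2 F476127)
theorem F476314 : act 4 n166671 = n214669 := d20_0 (iv1 D214669) (iv4 F262404) (iv3 D166707) (iv1 D80011) (iv3 D36443) (iv4 D17596) D17594 D36437 D79995 D166671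
theorem F476315 : act 3 n199446 = n214669 := d20_3 D214599 (iv1 F475992) F474484 (iv1 D214669) (iv3 D160569) (iv4 D76982) (iv1 F55910) (iv4 F91664) (iv3 F196331) (iv1 F253203)
theorem F476316 : act 2 n214669 = n203682 := d0_1 F476315 (iv3 D203682) (iv2 F412093) (iv3 F412238) F429423
theorem F476317 : act 6 n214669 = n199253 := d7_2 (iv6 F429424) F476315 (iv3 F411336)
theorem F476318 : act 1 n214669 = n205068 := d15_0 F476131 F476128 (iv2 F476316)
def n214670 : Q := act 2 n160569
theorem D214670 : act 2 n160569 = n214670 := rfl
theorem F476319 : act 3 n214670 = n199463 := d0_2 D160569 D214670 F412298 F349858 (iv2 F254326)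
theorem F476320 : act 4 n214670 = n198705 := d1_2 F262404 D214670 F408942
theorem F476321 : act 6 n214670 = n198704 := d3_2 F414294 D214670 (iv2 F414292)
theorem F476322 : act 7 n214670 = n205068 := d4_2 (iv7 F254442) D214670 (iv2 D205068)
theorem F476323 : act 1 n214670 = n203682 := d15_0 (iv0 F429395) (iv7 F254442) D214670
theorem F476324 : act 1 n205067 = n214670 := d15_0 F476323 (iv7 F476128) F476127
def n214671 : Q := act 5 n160569
theorem D214671 : act 5 n160569 = n214671 := rfl
theorem F476325 : act 3 n214671 = n160570 := d6_1 D214671 (iv5 D160570) D160569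
theorem F476326 : act 7 n214671 = n205069 := d13_2 (iv7 F254442) D214671 (iv5 D205069)
theorem F476327 : act 4 n214671 = n198730 := d19_2 (iv1 D214669) D214671 (iv3 D198730) (iv1 F408931) F408929 F169862 (iv3 F81747) (iv1 F81749) F81750 D63199 D134509 F364361 (iv5 F379996) (iv4 D190527) D190526 (iv1 F382769) (iv5 F474481) F474484 F476315
def n214672 : Q := act 0 n160570
theorem D214672 : act 0 n160570 = n214672 := rfl
theorem F476328 : act 5 n214672 = n164000 := d17_3 (iv1 D160568) D160570 D214672 F258465 F201643 F258469 F254081 D166630 F262234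
theorem F476329 : act 1 n160584 = n214672 := d15_0 (iv0 D214672) F254443 (iv2 F254444)
theorem F476330 : act 2 n205072 = n214672 := d2_3 F476328 F281180 (iv5 F434867)
theorem F476331 : act 7 n205071 = n214672 := d13_0 F476328 (iv7 F280699) (iv5 F434864)
def n214673 : Q := act 1 n160570
theorem D214673 : act 1 n160570 = n214673 := rfl
theorem F476332 : act 1 n214673 = n160584 := d15_1 D214673 (iv7 F254450) (iv2 F254451)
theorem F476333 : act 7 n214673 = n205072 := d15_2 (iv0 D214672) D214673 F476330
theorem F476334 : act 5 n214673 = n164001 := d17_7 (iv1 D35871) (iv5 F32271) D43106 (iv5 F250805) D76982 D160570 D214673 F258470 (iv4 D78796)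
theorem F476335 : act 2 n205071 = n214673 := d2_3 F476334 (iv2 F280698) (iv5 F434864)
theorem F476336 : act 3 n203694 = n214673 := d6_3 F476334 F280697 D203694
def n214674 : Q := act 4 n160570
theorem D214674 : act 4 n160570 = n214674 := rfl
theorem F476337 : act 2 n214674 = n205078 := d1_1 D214674 (iv4 D205078) (iv2 F254451)
theorem F476338 : act 3 n214674 = n198731 := d5_1 D214674 (iv4 D198731) D198730 (iv4 F476327) F476325
theorem F476339 : act 7 n214674 = n205073 := d11_2 (iv7 F254443) D214674 (iv4 D205073)
theorem F476340 : act 5 n214674 = n176904 := d16_1 D214674 F373702 (iv5 D188495) (iv4 D92196) (iv5 F250815) D76987 D160584 (iv7 F254450) (iv2 F254451)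
theorem F476341 : act 0 n214674 = n190104 := d17_0 F378861 (iv1 F474893) F474891 (iv4 F434847) (iv5 D164011) F258466 (iv5 F476328) (iv0 D214672) D214674
theorem F476342 : act 1 n214674 = n163966 := d18_6 (iv1 D76911) F55848 D35168 D76982 D160570 D214674 (iv4 D163966) (iv0 F253455) (iv5 D160455)
def n214675 : Q := act 3 n160581
theorem D214675 : act 3 n160581 = n214675 := rfl
theorem F476343 : act 2 n214675 = n170865 := d0_1 D214675 (iv3 D170865) (iv2 F262396) F281433 (iv2 F281432)
theorem F476344 : act 4 n214675 = n160583 := d5_2 D160581 D214675 (iv3 D160583) (iv4 D76987) D76986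
theorem F476345 : act 5 n214675 = n199144 := d6_2 F388709 D214675 F410869
theorem F476346 : act 6 n214675 = n196862 := d7_2 (iv6 F406958) D214675 (iv3 F410866)
theorem F476347 : act 7 n214675 = n199466 := d8_2 F254462 D214675 F412310
def n214676 : Q := act 5 n160583
theorem D214676 : act 5 n160583 = n214676 := rfl
theorem F476348 : act 3 n214676 = n160584 := d6_1 D214676 (iv5 D160584) D160583
theorem F476349 : act 7 n214676 = n199469 := d13_2 F349859 D214676 (iv5 D199469)
theorem F476350 : act 0 n214676 = n197960 := d17_2 F253665 D214676 (iv5 D197960) (iv4 F172915) (iv5 F407388) (iv0 F407390) F402344 (iv0 D180480) (iv4 F191498)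
theorem F476351 : act 1 n214676 = n196421 := d17_6 (iv1 D199093) D199094 F410872 (iv5 F476345) F476344 D214676 (iv5 D196421) D196420 F410629
def n214677 : Q := act 4 n160584
theorem D214677 : act 4 n160584 = n214677 := rfl
theorem F476352 : act 2 n214677 = n205073 := d1_1 D214677 (iv4 D205073) (iv2 F254444)
theorem F476353 : act 5 n214677 = n176903 := d9_2 D160584 D214677 (iv4 F373677) (iv5 D188491) (iv4 D92191) (iv5 F250805) D76982 D160570 D214674 F476340 F373702 (iv5 D188495) (iv4 D92196) (iv5 F250815) D76987
theorem F476354 : act 7 n214677 = n205078 := d11_2 F254450 D214677 (iv4 D205078)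
theorem F476355 : act 0 n214677 = n163966 := d17_0 F409380 (iv1 F474904) F474901 F433463 (iv5 D164003) D164001 (iv5 F476334) F476332 D214677
theorem F476356 : act 1 n214677 = n190104 := d18_6 (iv1 F327521) F91664 (iv1 F55915) D76987 D160584 D214677 (iv4 F413054) (iv0 D199665) (iv5 D111576)
def n214678 : Q := act 6 n160584
theorem D214678 : act 6 n160584 = n214678 := rfl
theorem F476357 : act 2 n214678 = n205069 := d3_1 D214678 (iv6 F434876) (iv2 F254444)
theorem F476358 : act 5 n205068 = n214678 := d2_0 F476357 (iv5 D205069) D205068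
def n214679 : Q := act 5 n160585
theorem D214679 : act 5 n160585 = n214679 := rfl
theorem F476359 : act 2 n214679 = n205070 := d2_1 D214679 F434877 (iv2 F254432)
theorem F476360 : act 3 n214679 = n199462 := d6_1 D214679 (iv5 F431805) F431807
theorem F476361 : act 6 n214679 = n205068 := d12_2 D160585 D214679 F476358 (iv6 D214678) (iv5 D160584)
theorem F476362 : act 7 n214679 = n199457 := d13_2 F430087 D214679 F430089
theorem F476363 : act 0 n214679 = n194965 := d20_4 (iv4 D196856) (iv1 F401167) (iv4 F412294) (iv3 F476360) F395204 F343707 (iv1 F300945) (iv4 F431790) F431791 (iv1 F405821)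
def n214680 : Q := act 4 n160588
theorem D214680 : act 4 n160588 = n214680 := rfl
theorem F476364 : act 2 n214680 = n205076 := d1_1 D214680 (iv4 D205076) (iv2 F254433)
theorem F476365 : act 6 n214680 = n195552 := d10_2 F373711 D214680 F397323
theorem F476366 : act 7 n214680 = n213828 := d11_2 F351012 D214680 (iv4 D213828)
theorem F476367 : act 3 n214680 = n198237 := d19_3 (iv1 F339260) D160588 D214680 (iv1 D198237) (iv5 F364958) F165113 F78250 (iv1 F82147) D68178 D145428 D212171 F464609 F392936 (iv4 F394782) F394781 (iv1 F353269) (iv5 F353268) (iv4 D163095) (iv3 F193106)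
def n214681 : Q := act 4 n160596
theorem D214681 : act 4 n160596 = n214681 := rfl
theorem F476368 : act 2 n214681 = n176154 := d1_1 D214681 F275400 (iv2 F300996)
theorem F476369 : act 3 n214681 = n193856 := d5_1 D214681 F441215 D211893 F463459 F327869
theorem F476370 : act 6 n214681 = n160605 := d10_2 (iv6 F253682) D214681 (iv4 D160605)
def n214682 : Q := act 3 n160603
theorem D214682 : act 3 n160603 = n214682 := rfl
theorem F476371 : act 2 n214682 = n205911 := d0_1 D214682 F438383 F428581 F233268 (iv2 F302328)
theorem F476372 : act 5 n214682 = n208006 := d6_2 F316628 D214682 (iv3 D208006)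
theorem F476373 : act 6 n214682 = n197131 := d7_2 F362175 D214682 F403182
theorem F476374 : act 7 n214682 = n176117 := d8_2 (iv7 F302330) D214682 (iv3 D176117)
theorem F476375 : act 0 n172026 = n214682 := d20_4 F158448 (iv1 F147580) D190352 (iv3 F379528) (iv3 D214682) (iv4 F356191) F157052 (iv4 F328305) (iv3 F270145) (iv1 F337148)
theorem F476376 : act 1 n172021 = n214682 := d15_0 (iv0 F476375) (iv7 F392766) (iv2 F392768)
theorem F476377 : act 1 n205990 = n197278 := d18_6 (iv1 F447407) F366445 D213009 F468573 (iv5 F453406) F453405 F403818 F476376 F476372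
def n214683 : Q := act 5 n160605
theorem D214683 : act 5 n160605 = n214683 := rfl
theorem F476378 : act 2 n214683 = n176153 := d2_1 D214683 (iv5 D176153) (iv2 F302342)
theorem F476379 : act 3 n214683 = n187102 := d6_1 D214683 (iv5 F369091) (iv3 F363857)
theorem F476380 : act 4 n214683 = n166199 := d9_1 D214683 (iv5 D166199) (iv4 D79798) (iv5 D36350) D36349 D79797 D166196 F353215 (iv4 F353214) (iv5 D160609) (iv4 D77013) (iv5 D35178) (iv4 F55928) D76999 D160605
theorem F476381 : act 7 n214683 = n176123 := d13_2 (iv7 F302343) D214683 (iv5 D176123)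
theorem F476382 : act 0 n214683 = n166261 := d17_2 F328700 D214683 F331230 (iv4 D98120) (iv5 D45824) (iv0 F121803) D38835 (iv0 F301021) (iv4 F328702)
theorem F476383 : act 1 n214683 = n166232 := d17_6 (iv1 F126923) (iv5 D38690) F298926 D76999 D160605 D214683 (iv5 D166232) (iv0 F325117) F325120
theorem F476384 : act 6 n214683 = n184229 := d21_3 D100383 F328700 D214683 (iv1 D184229) F134884 (iv5 F147039) (iv1 F356273) F350435 (iv6 F350436) (iv1 D100382)
def n214684 : Q := act 0 n160610
theorem D214684 : act 0 n160610 = n214684 := rfl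
theorem F476385 : act 1 n214274 = n214684 := d15_0 (iv0 D214684) F253702 D214274
theorem F476386 : act 6 n195329 = n214684 := d21_3 F385942 F397261 (iv5 F397262) (iv1 F476385) F474351 (iv5 F373775) (iv1 F373779) F377568 (iv6 F365621) F169779
theorem F476387 : act 2 n214684 = n195330 := d3_1 F476386 (iv6 D195330) D195329
theorem F476388 : act 7 n214684 = n214273 := d14_2 F414038 F476386 F474348 F395104 (iv6 F414037)
def n214685 : Q := act 1 n160610
theorem D214685 : act 1 n160610 = n214685 := rfl
theorem F476389 : act 7 n214685 = n195330 := d15_2 (iv0 D214684) D214685 (iv2 F476387)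
theorem F476390 : act 3 n194269 = n214685 := d20_3 D109352 (iv1 F170698) (iv4 F392588) (iv1 D214685) (iv3 D160610) F115749 F326966 (iv4 F79827) F79826 D50457
theorem F476391 : act 4 n198526 = n214685 := d20_6 (iv4 D77908) (iv1 D35548) F54647 F326831 D109497 D198526 (iv1 D214685) F253701 (iv3 D86152) (iv1 F119133)
theorem F476392 : act 6 n214685 = n192813 := d10_2 (iv6 F408234) F476391 (iv4 F394990)
theorem F476393 : act 1 n214685 = n214274 := d18_6 (iv1 F474287) (iv4 F375260) F377003 (iv4 F404801) (iv5 F408233) F476391 F474350 F280706 F474289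
theorem F476394 : act 2 n214273 = n214685 := d15_3 F476393 F476385 F476388
def n214686 : Q := act 2 n160610
theorem D214686 : act 2 n160610 = n214686 := rfl
theorem F476395 : act 3 n214686 = n165877 := d0_2 D160610 D214686 F261248 F122359 F115751
theorem F476396 : act 4 n214686 = n180384 := d1_2 (iv4 F253701) D214686 (iv2 D180384)
theorem F476397 : act 7 n214686 = n214274 := d4_2 (iv7 F253702) D214686 (iv2 D214274)
theorem F476398 : act 1 n214686 = n214273 := d15_0 (iv0 D214273) (iv7 F253702) D214686
theorem F476399 : act 1 n195330 = n214686 := d15_0 F476398 (iv7 F476388) F476387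
def n214687 : Q := act 5 n160610
theorem D214687 : act 5 n160610 = n214687 := rfl
theorem F476400 : act 3 n214687 = n160611 := d6_1 D214687 (iv5 D160611) D160610
theorem F476401 : act 7 n214687 = n214275 := d13_2 (iv7 F253702) D214687 (iv5 D214275)
theorem F476402 : act 1 n214687 = n213836 := d17_6 (iv1 F248773) D170870 F354683 (iv5 D180385) (iv4 F253701) D214687 (iv5 D213836) (iv0 F433803) F433801
def n214688 : Q := act 6 n160610
theorem D214688 : act 6 n160610 = n214688 := rfl
theorem F476403 : act 3 n214688 = n160612 := d7_1 D214688 (iv6 D160612) D160610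
theorem F476404 : act 4 n214688 = n180386 := d10_1 D214688 (iv6 D180386) (iv4 F253701)
theorem F476405 : act 7 n214688 = n164077 := d14_2 (iv7 F253702) D214688 (iv6 D164077) F119986 (iv6 F296211)
theorem F476406 : act 0 n214688 = n189721 := d21_4 D213836 (iv1 F476402) (iv5 D214687) D214688 F377524 (iv5 D158892) F118558 D124479 D204843 F433803
def n214689 : Q := act 6 n160611
theorem D214689 : act 6 n160611 = n214689 := rfl
theorem F476407 : act 2 n214689 = n214293 := d3_1 D214689 (iv6 D214293) (iv2 F253703)
theorem F476408 : act 4 n214689 = n188516 := d10_1 D214689 F373793 (iv4 F253705)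
def n214690 : Q := act 5 n160612
theorem D214690 : act 5 n160612 = n214690 := rfl
theorem F476409 : act 2 n214690 = n164114 := d2_1 D214690 F258641 (iv2 F296969)
theorem F476410 : act 7 n214690 = n164079 := d13_2 (iv7 F296971) D214690 (iv5 D164079)
theorem F476411 : act 0 n214690 = n164112 := d17_2 (iv1 F296968) D214690 (iv5 F300516) F261752 F122553 (iv0 F115929) F88435 (iv0 F296612) (iv4 F254712)
theorem F476412 : act 1 n214690 = n164111 := d17_6 (iv1 F324516) (iv5 D78844) (iv1 F119998) F119995 (iv4 F296970) D214690 (iv5 F300520) F344526 F169768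
def n214691 : Q := act 4 n160616
theorem D214691 : act 4 n160616 = n214691 := rfl
theorem F476413 : act 2 n214691 = n204699 := d1_1 D214691 F433289 (iv2 F370044)
theorem F476414 : act 0 n214691 = n180647 := d20_1 D214691 F281182 (iv3 D163275) (iv1 D78472) (iv3 D35757) (iv4 D17329) F28027 D35180 D77017 D160616
theorem F476415 : act 6 n205131 = n214691 := d21_3 (iv5 D128808) D128805 F435089 F476414 (iv6 F414141) (iv5 F426682) (iv1 F461873) (iv5 D211506) F395312 F414314
def n214692 : Q := act 6 n160616
theorem D214692 : act 6 n160616 = n214692 := rfl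
theorem F476416 : act 2 n214692 = n205134 := d3_1 D214692 F435094 (iv2 F370044)
theorem F476417 : act 3 n214692 = n196180 := d7_1 D214692 (iv6 F399743) (iv3 F370042)
theorem F476418 : act 4 n214692 = n205131 := d10_1 D214692 F476415 (iv4 D214691)
theorem F476419 : act 7 n214692 = n194151 := d14_2 F370043 D214692 (iv6 D194151) (iv7 F443833) F414785
theorem F476420 : act 0 n164106 = n214692 := d20_10 F476418 (iv1 D205131) D205132 (iv3 F469179) F469183 F276083 F129323 D88662 (iv4 F254712) D164106
def n214693 : Q := act 3 n160617
theorem D214693 : act 3 n160617 = n214693 := rfl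
theorem F476421 : act 6 n214693 = n194153 := d7_2 (iv6 F443836) D214693 (iv3 D194153)
theorem F476422 : act 0 n214693 = n194276 := d20_4 (iv4 F281182) F476104 F476103 D214693 F392615 (iv4 F175194) (iv1 F175196) F169225 (iv3 F406251) F406253
def n214694 : Q := act 5 n160617
theorem D214694 : act 5 n160617 = n214694 := rfl
theorem F476423 : act 2 n214694 = n214643 := d2_1 D214694 (iv5 F476192) F370045
theorem F476424 : act 6 n214694 = n214645 := d12_2 (iv6 F443836) D214694 F476200 (iv6 F463123) F443835
theorem F476425 : act 0 n214694 = n160867 := d17_2 (iv1 F254007) D214694 (iv5 D160867) F115958 D124284 D204735 (iv5 F433427) (iv0 F405494) F258413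
theorem F476426 : act 4 n214694 = n214641 := d19_2 (iv1 F254007) D214694 F476179 (iv1 F476164) F476166 (iv4 F365833) (iv3 F380693) (iv1 F380695) (iv5 F377705) (iv4 F380129) F380128 (iv1 F384161) F384162 F417200 (iv3 F417199) (iv1 F415240) (iv5 F415241) F377803 F257538
def n214695 : Q := act 1 n160619
theorem D214695 : act 1 n160619 = n214695 := rfl
theorem F476427 : act 5 n214695 = n166672 := d17_7 (iv1 F358385) D199671 F413070 F253469 F191540 D160619 D214695 F262313 F254032
theorem F476428 : act 4 n214695 = n214659 := d17_9 (iv1 F476258) F406263 (iv1 D124282) D124284 D204736 (iv5 F433432) (iv0 D160616) D160619 D214695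
theorem F476429 : act 2 n214660 = n214695 := d1_3 F476428 (iv2 D214659) D214660
def n214696 : Q := act 4 n160619
theorem D214696 : act 4 n160619 = n214696 := rfl
theorem F476430 : act 3 n214696 = n203684 := d5_1 D214696 F429404 F257574 F119669 (iv3 F253720)
theorem F476431 : act 6 n214696 = n212078 := d10_2 F381740 D214696 F464250
theorem F476432 : act 5 n214696 = n203682 := d16_7 (iv4 F434858) F476261 (iv4 D214660) F253469 F191540 D160619 D214696 (iv7 F476128) F476127
def n214697 : Q := act 1 n160620
theorem D214697 : act 1 n160620 = n214697 := rfl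
theorem F476433 : act 7 n214697 = n192871 := d15_2 F390744 D214697 (iv2 F390742)
theorem F476434 : act 5 n214697 = n192872 := d17_7 (iv1 D185420) D185422 F353219 (iv5 D182925) D182924 F353205 D214697 (iv0 F393740) F393736
theorem F476435 : act 3 n187224 = n214697 := d6_3 F476434 F388073 F369557
def n214698 : Q := act 6 n160640
theorem D214698 : act 6 n160640 = n214698 := rfl
theorem F476436 : act 2 n214698 = n174649 := d3_1 D214698 (iv6 F353318) (iv2 F253750)
theorem F476437 : act 3 n214698 = n194882 := d7_1 D214698 (iv6 F429959) F429958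
theorem F476438 : act 4 n214698 = n214294 := d10_1 D214698 (iv6 D214294) (iv4 F253751)
theorem F476439 : act 5 n214698 = n174227 := d12_1 D214698 (iv6 D174227) (iv5 D83282) F297012 D160640
def n214699 : Q := act 5 n160643
theorem D214699 : act 5 n160643 = n214699 := rfl
theorem F476440 : act 2 n214699 = n160644 := d2_1 D214699 (iv5 D160644) D160643
theorem F476441 : act 4 n214699 = n207240 := d9_1 D214699 (iv5 D207240) (iv4 D130634) D130635 F364708 (iv5 F364714) F146925 D166681 (iv4 F443929) (iv5 D207238) (iv4 D130632) D130633 (iv4 F437015) F437016 F267335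
theorem F476442 : act 6 n214699 = n200222 := d12_2 F346887 D214699 (iv5 D200222) D200223 F415595
theorem F476443 : act 1 n214699 = n198511 := d17_6 D190652 (iv5 F417377) F437017 F437016 F267335 D214699 (iv5 D198511) F365805 (iv4 F148259)
def n214700 : Q := act 0 n160644
theorem D214700 : act 0 n160644 = n214700 := rfl
theorem F476444 : act 5 n214700 = n163246 := d17_3 (iv1 D160642) D160644 D214700 F365834 F332802 D131987 (iv5 F435943) F435941 (iv4 F415227)
theorem F476445 : act 3 n214700 = n198380 := d20_5 (iv4 D78476) (iv1 F115963) F115962 (iv3 F253755) D214700 F408184 (iv1 F409024) (iv4 D109911) (iv3 F326402) (iv1 F119682)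
theorem F476446 : act 6 n214700 = n211817 := d21_5 (iv5 F295868) F295864 D197476 F404486 D214700 (iv5 D211817) (iv1 D144131) D144132 F226845 D144134
theorem F476447 : act 0 n211817 = n211846 := d21_4 (iv5 D163249) D163246 (iv5 F476444) F476446 F463248 F394882 (iv1 D194890) (iv5 F369662) (iv6 F443912) (iv1 F443915)
theorem F476448 : act 7 n198511 = n214700 := d8_0 F476445 F407822 (iv3 F408176)
def n214701 : Q := act 1 n160644
theorem D214701 : act 1 n160644 = n214701 := rfl
theorem F476449 : act 5 n214701 = n163247 := d17_7 (iv1 F380463) (iv5 F418422) (iv1 F418423) (iv5 D169913) F125354 D160644 D214701 F257541 (iv4 F380457)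
theorem F476450 : act 2 n198511 = n214701 := d2_3 F476449 (iv2 F365840) D198511
theorem F476451 : act 3 n206162 = n214701 := d6_3 F476449 F393486 (iv5 F439525)
def n214702 : Q := act 0 n160645
theorem D214702 : act 0 n160645 = n214702 := rfl
theorem F476452 : act 4 n214702 = n212775 := d18_3 (iv1 F381557) F254050 D214702 (iv5 D212775) (iv4 F386444) (iv0 F391648) F391647 F381323 (iv5 F381556)
theorem F476453 : act 5 n214702 = n193544 := d21_8 F385716 (iv1 F153538) D101874 D193537 (iv1 F390190) F404489 F404488 D214702 (iv6 D193544) (iv1 F385719)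
def n214703 : Q := act 1 n160645
theorem D214703 : act 1 n160645 = n214703 := rfl
theorem F476454 : act 5 n214703 = n202826 := d18_9 (iv1 D202826) F182922 D139371 (iv4 F393170) (iv5 F474450) (iv4 F474453) (iv0 F381541) F254050 D214703
def n214704 : Q := act 7 n160645
theorem D214704 : act 7 n160645 = n214704 := rfl
theorem F476455 : act 3 n214704 = n200220 := d8_1 D214704 F415580 (iv3 F404487)
theorem F476456 : act 4 n214704 = n190920 := d11_1 D214704 F381551 F254050
theorem F476457 : act 5 n214704 = n200219 := d13_1 D214704 F415572 F404488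
def n214705 : Q := act 4 n160675
theorem D214705 : act 4 n160675 = n214705 := rfl
theorem F476458 : act 2 n214705 = n195697 := d1_1 D214705 (iv4 F397885) (iv2 F414343)
theorem F476459 : act 6 n214705 = n195695 := d10_2 F414341 D214705 F414333
theorem F476460 : act 5 n214705 = n196208 := d18_4 (iv1 D166554) F122676 D160675 D214705 F399880 F359020 (iv4 F294889) D188450 (iv5 F373515)
theorem F476461 : act 0 n214705 = n205529 := d21_7 (iv5 D49253) (iv1 F37734) (iv5 F37992) D49695 (iv1 F177832) D196208 (iv5 F476460) F436855 (iv6 D131819) F96424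
def n214706 : Q := act 5 n160675
theorem D214706 : act 5 n160675 = n214706 := rfl
theorem F476462 : act 6 n214706 = n190036 := d12_2 F414341 D214706 F378625 (iv6 F377880) (iv5 F414329)
theorem F476463 : act 4 n214706 = n208184 := d16_2 (iv4 D214705) D214706 (iv5 D208184) F409408 (iv5 F379816) (iv4 F399992) (iv5 F435885) F435886 (iv2 F476458)
theorem F476464 : act 0 n163238 = n214706 := d21_1 D163238 (iv5 D214706) (iv6 F414341) F414331 F358196 F344588 (iv1 F206797) (iv5 F408088) F408091 (iv1 D163236)
def n214707 : Q := act 3 n160676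
theorem D214707 : act 3 n160676 = n214707 := rfl
theorem F476465 : act 2 n214707 = n209933 := d0_1 D214707 (iv3 F456878) F456877 (iv3 F409005) F414344
theorem F476466 : act 4 n214707 = n212003 := d5_2 (iv4 F435887) D214707 F463879 F417589 (iv3 F435884)
theorem F476467 : act 6 n214707 = n209900 := d7_2 F435888 D214707 F455294
theorem F476468 : act 0 n194973 = n214707 := d21_4 (iv5 F425669) F425670 F369648 D194973 F476467 F455292 F409786 D200718 (iv6 F417618) (iv1 F395157)
def n214708 : Q := act 5 n160676
theorem D214708 : act 5 n160676 = n214708 := rfl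
theorem F476469 : act 4 n214708 = n208186 := d9_1 D214708 (iv5 D208186) (iv4 F364663) (iv5 F165812) (iv4 F399880) (iv5 F476460) (iv4 D214705) D214706 F476463 (iv5 D208184) F409408 (iv5 F379816) (iv4 F399992) (iv5 F435885) (iv4 F435887)
theorem F476470 : act 0 n214708 = n163238 := d17_2 (iv1 F262307) D214708 (iv5 D163238) (iv4 F140912) (iv5 F141242) D188450 (iv5 F373515) (iv0 F358149) F358152
def n214709 : Q := act 5 n160677
theorem D214709 : act 5 n160677 = n214709 := rfl
theorem F476471 : act 2 n214709 = n160678 := d2_1 D214709 (iv5 D160678) D160677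
theorem F476472 : act 3 n214709 = n160902 := d6_1 D214709 (iv5 D160902) (iv3 F253816)
theorem F476473 : act 4 n214709 = n197471 := d9_1 D214709 (iv5 D197471) F167331 (iv5 F348091) F348090 F138384 (iv4 F122779) (iv5 F254107) (iv4 F369655) F369656 (iv4 F361221) (iv5 F376733) F376732 F288005 F262066
theorem F476474 : act 6 n214709 = n187336 := d12_2 (iv6 F358243) D214709 F369870 (iv6 F362849) F358246
theorem F476475 : act 1 n214709 = n214551 := d17_6 D188437 (iv5 F373472) (iv1 F370265) F288005 F262066 D214709 F475750 (iv0 D163235) (iv4 F140912)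
theorem F476476 : act 0 n214709 = n208095 := d19_4 (iv1 D97376) (iv5 F138059) (iv4 F348736) (iv3 F476472) F447849 (iv4 F452127) (iv3 D209074) (iv1 F362864) (iv5 F343665) (iv4 F165963) F343664 (iv1 F349259) (iv5 F419271) F419270 F252085 F374542 (iv5 F399899) (iv4 D190429) (iv3 F399895)
def n214710 : Q := act 0 n160678
theorem D214710 : act 0 n160678 = n214710 := rfl
theorem F476477 : act 5 n214710 = n203860 := d21_2 D160678 D214710 (iv6 F430146) (iv1 F408097) F408095 F406733 D212157 F464539 F435888 (iv1 D160676)
theorem F476478 : act 6 n214710 = n200345 := d21_5 F395244 (iv1 F395241) (iv5 F415600) F415601 D214710 F416077 (iv1 F452088) F452086 F425578 D190258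
theorem F476479 : act 2 n208095 = n214710 := d15_3 (iv0 D214710) (iv0 F415602) (iv7 F447850)
theorem F476480 : act 7 n214710 = n214551 := d4_2 (iv7 F447850) F476479 F475748
def n214711 : Q := act 0 n160679
theorem D214711 : act 0 n160679 = n214711 := rfl
theorem F476481 : act 5 n214711 = n194496 := d17_3 (iv1 F394766) (iv5 F348747) D214711 F459634 (iv5 D210986) F457290 F457286 F431921 F431910
theorem F476482 : act 2 n160913 = n214711 := d2_3 F476481 F394654 F459628
theorem F476483 : act 7 n160914 = n214711 := d13_0 F476481 (iv7 F394652) F394650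
def n214712 : Q := act 1 n160679
theorem D214712 : act 1 n160679 = n214712 := rfl
theorem F476484 : act 1 n214712 = n160915 := d15_1 D214712 (iv7 D160915) (iv2 F253818)
theorem F476485 : act 7 n214712 = n160913 := d15_2 (iv0 D214711) D214712 F476482
theorem F476486 : act 6 n190918 = n214712 := d21_3 (iv5 D97049) D97047 D190918 (iv1 D214712) (iv6 D160679) (iv5 D77066) (iv1 F57232) D80008 D166701 F365879
theorem F476487 : act 5 n194495 = n214712 := d21_6 F273033 F199062 (iv5 F271626) (iv6 F378268) F408257 (iv6 F408261) (iv1 D214712) F348747 (iv6 D174245) (iv1 F273031)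
theorem F476488 : act 2 n214712 = n160914 := d2_1 F476487 (iv5 F394650) F394655
theorem F476489 : act 1 n160915 = n214711 := d15_1 F476484 (iv7 F476483) (iv2 F476488)
def n214713 : Q := act 7 n160679
theorem D214713 : act 7 n160679 = n214713 := rfl
theorem F476490 : act 2 n214713 = n160915 := d4_1 D214713 (iv7 D160915) (iv2 F253818)
theorem F476491 : act 3 n214713 = n211752 := d8_1 D214713 F462959 F415599
theorem F476492 : act 4 n214713 = n166715 := d11_1 D214713 (iv7 D166715) (iv4 F253819)
theorem F476493 : act 5 n214713 = n194858 := d13_1 D214713 F394770 (iv5 F348747)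
theorem F476494 : act 1 n160914 = n214713 := d15_1 D160914 (iv7 D214713) F253818
theorem F476495 : act 1 n214713 = n160913 := d15_1 F476494 (iv7 F476485) F476488
def n214714 : Q := act 6 n160737
theorem D214714 : act 6 n160737 = n214714 := rfl
theorem F476496 : act 2 n214714 = n203845 := d3_1 D214714 (iv6 F434893) F434889
theorem F476497 : act 3 n214714 = n205434 := d7_1 D214714 (iv6 D205434) (iv3 F359846)
theorem F476498 : act 4 n214714 = n198090 := d10_1 D214714 (iv6 D198090) F359844
theorem F476499 : act 7 n214714 = n203849 := d14_2 (iv7 F359845) D214714 (iv6 F430095) F254352 (iv6 F358635)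
theorem F476500 : act 0 n214714 = n203823 := d21_4 (iv5 D77122) D77120 D160737 D214714 (iv6 D203823) (iv5 F326012) (iv1 F366376) (iv5 F363808) F353658 (iv1 D160745)
theorem F476501 : act 0 n203850 = n214714 := d21_4 (iv5 F466189) (iv1 F466191) D212561 (iv6 F466426) (iv6 D214714) (iv5 D160737) (iv1 F253767) (iv5 F350703) (iv6 D166469) (iv1 F358935)
def n214715 : Q := act 7 n160743
theorem D214715 : act 7 n160743 = n214715 := rfl
theorem F476502 : act 2 n214715 = n212502 := d4_1 D214715 (iv7 D212502) (iv2 F347981)
theorem F476503 : act 3 n214715 = n197143 := d8_1 D214715 F403240 (iv3 F347982)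
theorem F476504 : act 4 n214715 = n173586 := d11_1 D214715 (iv7 F273752) (iv4 F347983)
theorem F476505 : act 5 n214715 = n198866 := d13_1 D214715 F409650 F347986
theorem F476506 : act 6 n214715 = n212553 := d14_1 D214715 F468944 (iv6 D213086) F347990 D160743
theorem F476507 : act 1 n191553 = n214715 := d15_1 (iv0 F383787) (iv7 D214715) F347981
theorem F476508 : act 1 n214715 = n191533 := d15_1 F476507 F383685 (iv2 F383783)
def n214716 : Q := act 3 n160763
theorem D214716 : act 3 n160763 = n214716 := rfl
theorem F476509 : act 2 n214716 = n197797 := d0_1 D214716 (iv3 F431791) F431794 (iv3 F430774) F412854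
theorem F476510 : act 4 n214716 = n197789 := d5_2 D160763 D214716 F405801 (iv4 D160544) (iv3 F331727)
theorem F476511 : act 5 n214716 = n197797 := d6_2 F431789 D214716 (iv3 F431791)
theorem F476512 : act 6 n214716 = n196456 := d7_2 F360745 D214716 F400741
theorem F476513 : act 0 n214716 = n196864 := d20_4 (iv4 D83234) F300896 D160763 D214716 F412884 (iv4 F417817) (iv1 F431588) F431585 F364318 F300918
theorem F476514 : act 0 n196868 = n214716 := d20_4 F362846 F417491 F417492 F417494 (iv3 D214716) (iv4 D160763) (iv1 F300897) D83225 D174092 F362035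
def n214717 : Q := act 5 n160810
theorem D214717 : act 5 n160810 = n214717 := rfl
theorem F476515 : act 2 n214717 = n198676 := d2_1 D214717 (iv5 F408838) (iv2 F365886)
theorem F476516 : act 3 n214717 = n160811 := d6_1 D214717 (iv5 D160811) D160810
theorem F476517 : act 6 n214717 = n172096 := d12_2 F366955 D214717 (iv5 F377574) (iv6 F444638) F444637
theorem F476518 : act 7 n214717 = n209294 := d13_2 (iv7 F365885) D214717 F453078
theorem F476519 : act 1 n214717 = n209295 := d17_6 (iv1 F436890) F436896 F395831 (iv5 F395830) (iv4 F366962) D214717 F453081 F453147 F453144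
theorem F476520 : act 4 n214717 = n177422 := d19_2 F357680 D214717 (iv3 F417532) (iv1 D200695) (iv5 D113349) F82696 F81202 D51435 D111530 F360042 F121071 (iv1 F117708) F117710 (iv4 F113619) (iv3 F249997) F338815 (iv5 F306845) (iv4 F205071) (iv3 F220402)
theorem F476521 : act 0 n214717 = n209296 := d21_1 D214717 (iv5 F453087) F408552 F358145 (iv6 F346890) F347760 (iv1 D127594) F100457 (iv6 F220403) F357680
def n214718 : Q := act 4 n160842
theorem D214718 : act 4 n160842 = n214718 := rfl
theorem F476522 : act 2 n214718 = n214625 := d1_1 D214718 F476103 (iv2 F370045)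
theorem F476523 : act 7 n214718 = n214691 := d11_2 (iv7 F370043) D214718 (iv4 D214691)
theorem F476524 : act 0 n214718 = n164002 := d18_2 D160842 D214718 (iv4 F380647) F380648 (iv4 F476175) (iv0 F476177) D214660 (iv0 F476262) (iv5 D160845)
def n214719 : Q := act 3 n160843
theorem D214719 : act 3 n160843 = n214719 := rfl
theorem F476525 : act 7 n214719 = n214693 := d8_2 F370046 D214719 (iv3 D214693)
theorem F476526 : act 0 n214719 = n199894 := d20_4 F380647 F433290 F433289 D214719 F414021 F174000 (iv1 F170674) (iv4 D109352) D109351 F380650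
def n214720 : Q := act 5 n160843
theorem D214720 : act 5 n160843 = n214720 := rfl
theorem F476527 : act 2 n214720 = n204736 := d2_1 D214720 (iv5 F433432) F370044
theorem F476528 : act 7 n214720 = n214694 := d13_2 F370046 D214720 (iv5 D214694)
theorem F476529 : act 0 n214720 = n166674 := d17_2 (iv1 F254006) D214720 (iv5 D166674) F122781 D160444 (iv0 F412109) (iv5 D197942) D197939 (iv4 F406244)
theorem F476530 : act 4 n214720 = n204733 := d17_4 (iv1 F476263) F381809 (iv1 F254006) D214720 (iv5 D204733) F253438 D214640 (iv0 F476177) D214660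
def n214721 : Q := act 5 n160844
theorem D214721 : act 5 n160844 = n214721 := rfl
theorem F476531 : act 2 n214721 = n160845 := d2_1 D214721 (iv5 D160845) D160844
theorem F476532 : act 6 n214721 = n211505 := d12_2 F362620 D214721 (iv5 D211505) (iv6 D142503) D142502
theorem F476533 : act 7 n214721 = n190988 := d13_2 (iv7 F254004) D214721 F381809
theorem F476534 : act 1 n214721 = n204756 := d17_6 D160441 D214640 F476176 F433471 F258413 D214721 (iv5 F433473) (iv0 D166671) F122781
theorem F476535 : act 1 n214695 = n214721 := d15_0 F476534 (iv7 F476260) F476429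
def n214722 : Q := act 1 n160845
theorem D214722 : act 1 n160845 = n214722 := rfl
theorem F476536 : act 1 n214722 = n190988 := d15_1 D214722 (iv7 F476533) F476531
theorem F476537 : act 7 n214722 = n214695 := d15_2 (iv0 F476262) D214722 (iv2 F476429)
theorem F476538 : act 5 n214722 = n160865 := d17_7 (iv1 F253443) (iv5 F406263) F449453 F198787 F119935 D160845 D214722 F262314 F262310
theorem F476539 : act 4 n214722 = n204755 := d17_9 F459675 (iv5 D199671) F358384 D160444 D214643 (iv5 F476192) (iv0 D160842) D160845 D214722
theorem F476540 : act 6 n198684 = n214722 := d21_3 F407982 (iv1 F407765) D198684 (iv1 D214722) F473961 F473956 (iv1 F461773) (iv5 F429226) (iv6 D198579) (iv1 F407981)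
theorem F476541 : act 2 n214722 = n204756 := d3_1 F476540 F455787 (iv2 F455785)
def n214723 : Q := act 4 n160845
theorem D214723 : act 4 n160845 = n214723 := rfl
theorem F476542 : act 3 n214723 = n190167 := d5_1 D214723 F379021 F326723 (iv4 F115970) (iv3 F254008)
theorem F476543 : act 6 n214723 = n190166 := d10_2 (iv6 F473961) D214723 (iv4 F473958)
theorem F476544 : act 7 n214723 = n214696 := d11_2 (iv7 F254009) D214723 (iv4 D214696)
theorem F476545 : act 5 n214723 = n214631 := d16_1 D214723 F476129 (iv5 F476427) F476428 F476254 (iv4 F406244) (iv5 F381809) (iv7 F476533) F476531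
def n214724 : Q := act 0 n160846
theorem D214724 : act 0 n160846 = n214724 := rfl
theorem F476546 : act 4 n214724 = n210905 := d18_1 D214724 F459230 (iv4 D198429) F347158 F110830 F319190 (iv4 F102647) D142439 F344505
theorem F476547 : act 3 n214724 = n189938 := d20_5 F324442 F121379 (iv4 F115941) (iv3 F254010) D214724 F378311 (iv1 F148059) F340724 F326729 (iv1 F81563)
theorem F476548 : act 2 n205258 = n214724 := d15_3 (iv0 D214724) (iv0 F466704) F466703
theorem F476549 : act 1 n194488 = n214724 := d15_0 (iv0 D214724) F344502 (iv2 F393415)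
theorem F476550 : act 7 n214724 = n189936 := d15_2 F466705 F476549 (iv2 F466700)
def n214725 : Q := act 1 n160847
theorem D214725 : act 1 n160847 = n214725 := rfl
theorem F476551 : act 1 n214725 = n193708 := d15_1 D214725 F390741 F257546
theorem F476552 : act 7 n214725 = n192162 := d15_2 (iv0 F369053) D214725 F385814
theorem F476553 : act 5 n214725 = n192163 := d17_7 (iv1 F153646) (iv5 F368824) (iv1 F368826) (iv5 F157086) D193478 F389993 D214725 F385819 (iv4 D102223)
theorem F476554 : act 4 n214697 = n214725 := d20_6 (iv4 F369624) (iv1 F369625) (iv4 D95699) (iv3 F147386) (iv1 F369556) F476435 (iv1 D214725) (iv4 F365877) F147360 D95674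
theorem F476555 : act 2 n193710 = n214725 := d16_9 (iv4 F476554) F476434 F388074 F368798 F368802 F288579 F137347 D102251 D193710
def n214726 : Q := act 5 n160854
theorem D214726 : act 5 n160854 = n214726 := rfl
theorem F476556 : act 2 n214726 = n214700 := d2_1 D214726 F476444 F365837
theorem F476557 : act 7 n214726 = n214701 := d13_2 F365839 D214726 F476449
theorem F476558 : act 1 n214726 = n214699 := d17_6 D212003 F463878 (iv1 D207568) (iv5 F395362) F395361 D214726 (iv5 D214699) F262323 F364820
theorem F476559 : act 0 n214726 = n166681 := d21_1 D214726 (iv5 D166681) F326164 (iv1 D74182) F53385 D64079 D136300 (iv5 F362623) (iv6 F362621) (iv1 F257542)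
def n214727 : Q := act 5 n160855
theorem D214727 : act 5 n160855 = n214727 := rfl
theorem F476560 : act 2 n214727 = n160856 := d2_1 D214727 (iv5 D160856) D160855
theorem F476561 : act 3 n214727 = n190988 := d6_1 D214727 F381809 (iv3 F254017)
theorem F476562 : act 4 n214727 = n214201 := d9_1 D214727 (iv5 F473972) (iv4 D212009) (iv5 D144787) D144786 (iv5 F364802) F146893 D163249 F473971 F473968 F461828 (iv5 D144784) D144783 (iv5 F380458) F380457
theorem F476563 : act 6 n214727 = n187317 := d12_2 F353177 D214727 (iv5 D187317) (iv6 F350450) F350456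
theorem F476564 : act 0 n214727 = n207235 := d17_2 (iv1 F257537) D214727 F443913 (iv4 F262325) (iv5 F415231) F415234 (iv5 F417224) (iv0 D200615) (iv4 F365834)
def n214728 : Q := act 1 n160858
theorem D214728 : act 1 n160858 = n214728 := rfl
theorem F476565 : act 1 n214728 = n190989 := d15_1 D214728 F381811 (iv2 F254020)
theorem F476566 : act 7 n214728 = n193709 := d15_2 F388071 D214728 F390742
theorem F476567 : act 2 n214697 = n214728 := d4_3 F476566 F390742 (iv7 F476433)
theorem F476568 : act 4 n193710 = n214728 := d11_3 F476566 (iv4 D193709) D193710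
def n214729 : Q := act 7 n160858
theorem D214729 : act 7 n160858 = n214729 := rfl
theorem F476569 : act 2 n214729 = n190989 := d4_1 D214729 F381811 (iv2 F254020)
theorem F476570 : act 3 n214729 = n187315 := d8_1 D214729 F369811 F353203
theorem F476571 : act 5 n214729 = n182927 := d13_1 D214729 F284522 (iv5 F353204)
theorem F476572 : act 6 n214729 = n193708 := d14_1 D214729 F390741 (iv6 D163251) F119652 D160858
theorem F476573 : act 1 n214697 = n214729 := d15_1 D214697 (iv7 D214729) F254020
theorem F476574 : act 1 n214729 = n193709 := d15_1 F476573 (iv7 F476566) (iv2 F476567)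
def n214730 : Q := act 5 n160866
theorem D214730 : act 5 n160866 = n214730 := rfl
theorem F476575 : act 2 n214730 = n160867 := d2_1 D214730 (iv5 D160867) D160866
theorem F476576 : act 1 n214730 = n214643 := d17_6 D163954 (iv5 F476184) (iv1 F476186) (iv5 D204733) (iv4 F254032) D214730 (iv5 F476192) (iv0 D160842) (iv4 F119935)
theorem F476577 : act 0 n214730 = n214720 := d21_1 D214730 (iv5 D214720) (iv6 F435094) F435095 F430194 F220406 (iv1 F219355) D198620 F408574 (iv1 F262308)
def n214731 : Q := act 4 n160867
theorem D214731 : act 4 n160867 = n214731 := rfl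
theorem F476578 : act 3 n214731 = n203690 := d5_1 D214731 F429433 F248970 (iv4 F115959) (iv3 F254033)
theorem F476579 : act 5 n214731 = n214625 := d16_3 (iv4 F115958) D160867 D214731 F476103 D214694 F476426 (iv5 D214641) F253440 (iv2 D124283)
theorem F476580 : act 1 n214731 = n205069 := d18_8 F429395 F429393 (iv1 D160865) F115958 D124284 D204736 (iv0 F433433) D214731 (iv5 D205069)
def n214732 : Q := act 0 n160869
theorem D214732 : act 0 n160869 = n214732 := rfl
theorem F476581 : act 5 n214732 = n186745 := d21_2 F414764 D214732 (iv6 D186745) F136799 (iv6 F307503) F63942 (iv1 F73618) (iv5 F136317) D186588 F414767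
theorem F476582 : act 6 n214732 = n186746 := d21_5 (iv5 D160640) (iv1 F115770) D77200 D160869 D214732 (iv5 D186746) F353209 (iv5 F353204) (iv6 D160858) (iv1 F253754)
theorem F476583 : act 2 n212775 = n214732 := d3_3 F476582 (iv2 F380876) (iv6 F467452)
def n214733 : Q := act 1 n160869
theorem D214733 : act 1 n160869 = n214733 := rfl
theorem F476584 : act 7 n214733 = n212775 := d15_2 (iv0 D214732) D214733 F476583
theorem F476585 : act 5 n214733 = n212776 := d17_7 (iv1 F368381) F426856 (iv1 F426858) F390269 (iv4 F414763) F414764 D214733 F467456 (iv4 F361979)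
theorem F476586 : act 3 n206160 = n214733 := d6_3 F476585 F467454 (iv5 F439524)
def n214734 : Q := act 7 n160869
theorem D214734 : act 7 n160869 = n214734 := rfl
theorem F476587 : act 4 n214734 = n214301 := d11_1 D214734 (iv7 D214301) (iv4 F254036)
theorem F476588 : act 5 n214734 = n186929 := d13_1 D214734 (iv7 F414765) F414764
theorem F476589 : act 0 n212775 = n214734 := d17_2 F419591 D212775 F476588 (iv4 D186929) F368299 (iv0 F368300) F274765 D186868 (iv4 F419589)
def n214735 : Q := act 1 n160894
theorem D214735 : act 1 n160894 = n214735 := rfl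
theorem F476590 : act 1 n214735 = n170866 := d15_1 D214735 (iv7 F474269) F474267
theorem F476591 : act 4 n199718 = n214735 := d20_0 (iv1 D214735) F254054 D170869 (iv1 F268479) (iv3 F327422) F327423 (iv1 F327055) F216958 (iv3 F405788) (iv1 F413239)
theorem F476592 : act 6 n173255 = n214735 := d21_3 (iv5 D82914) D82911 D173255 (iv1 D214735) F380528 (iv5 D190673) F366430 (iv5 F378267) F378268 (iv1 D173265)
theorem F476593 : act 2 n214735 = n174237 := d3_1 F476592 (iv6 D174237) (iv2 F271603)
def n214736 : Q := act 5 n160894
theorem D214736 : act 5 n160894 = n214736 := rfl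
theorem F476594 : act 3 n214736 = n160896 := d6_1 D214736 (iv5 D160896) D160894
theorem F476595 : act 6 n214736 = n190075 := d12_2 (iv6 F380528) D214736 (iv5 F380532) (iv6 D190674) D190673
def n214737 : Q := act 4 n160896
theorem D214737 : act 4 n160896 = n214737 := rfl
theorem F476596 : act 6 n214737 = n190076 := d10_2 (iv6 F348741) D214737 (iv4 D190076)
theorem F476597 : act 5 n214737 = n187401 := d16_1 D214737 F370189 F257876 (iv4 F140955) F254071 F115964 D160900 (iv7 F262407) F262406
theorem F476598 : act 0 n214737 = n203869 := d17_0 (iv5 F445638) (iv1 F445703) F445702 F378772 (iv5 D163276) F193203 D203866 F430173 D214737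
theorem F476599 : act 3 n211975 = n214737 := d6_3 F476597 (iv3 F370191) D211975
def n214738 : Q := act 2 n160899
theorem D214738 : act 2 n160899 = n214738 := rfl
theorem F476600 : act 3 n214738 = n170866 := d0_2 D160899 D214738 F268476 (iv3 D166704) F254347
theorem F476601 : act 4 n214738 = n205068 := d1_2 (iv4 F254097) D214738 (iv2 D205068)
theorem F476602 : act 7 n214738 = n198705 := d4_2 F262405 D214738 F408942
theorem F476603 : act 1 n214738 = n198726 := d15_0 F408999 F262405 D214738
theorem F476604 : act 1 n198664 = n214738 := d15_0 F476603 F408998 F408811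
def n214739 : Q := act 5 n160899
theorem D214739 : act 5 n160899 = n214739 := rfl
theorem F476605 : act 3 n214739 = n160900 := d6_1 D214739 (iv5 D160900) D160899
theorem F476606 : act 4 n214739 = n204734 := d16_6 F405490 D198485 (iv4 F434875) (iv5 D205069) (iv4 F254097) D214739 F433430 F406248 (iv2 F405489)
theorem F476607 : act 0 n198730 = n214739 := d18_0 F476606 F476183 (iv4 F476426) (iv5 D214694) (iv4 F476103) (iv0 F476104) F281182 (iv0 F406253) (iv5 F409008)
def n214740 : Q := act 4 n160900
theorem D214740 : act 4 n160900 = n214740 := rfl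
theorem F476608 : act 5 n214740 = n187402 := d9_2 D160900 D214740 F370197 F257872 (iv4 F140954) (iv5 F344727) F344726 D160896 D214737 F476597 F370189 F257876 (iv4 F140955) F254071 F115964
theorem F476609 : act 1 n214740 = n203869 := d18_6 D127621 F333999 F254415 F115964 D160900 D214740 F439528 (iv0 D206162) (iv5 D127623)
theorem F476610 : act 6 n187299 = n214740 := d21_5 (iv5 D44653) (iv1 F63201) D41999 D89886 D187299 F476608 (iv1 D187402) (iv5 F358962) (iv6 D104705) F76084
def n214741 : Q := act 6 n160900
theorem D214741 : act 6 n160900 = n214741 := rfl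
theorem F476611 : act 2 n214741 = n194646 := d3_1 D214741 F393934 F262398
theorem F476612 : act 4 n214741 = n187299 := d10_1 D214741 F476610 (iv4 D214740)
theorem F476613 : act 7 n214741 = n190074 := d14_2 F262407 D214741 (iv6 D190074) F361125 (iv6 F361123)
theorem F476614 : act 0 n187239 = n214741 := d21_4 F326715 (iv1 F326709) (iv5 F137900) D187239 (iv6 D214741) (iv5 D160900) (iv1 D77209) D77211 (iv6 F348740) (iv1 F147285)
theorem F476615 : act 5 n194478 = n214741 := d21_8 (iv5 D78474) D78471 (iv5 F344661) (iv6 D97070) (iv1 F76137) D104720 F160417 D194478 (iv6 D214741) F254098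
def n214742 : Q := act 5 n160901
theorem D214742 : act 5 n160901 = n214742 := rfl
theorem F476616 : act 2 n214742 = n194647 := d2_1 D214742 F393943 F262402
theorem F476617 : act 6 n214742 = n194478 := d12_2 D160901 D214742 F476615 (iv6 D214741) (iv5 D160900)
theorem F476618 : act 0 n214742 = n162759 := d17_2 (iv1 F353255) D214742 (iv5 D162759) F119413 D78268 (iv0 F336617) (iv5 D160993) (iv0 F334032) D147711
theorem F476619 : act 1 n214742 = n212159 := d17_6 F466218 F415413 F434844 (iv5 D205063) (iv4 F254099) D214742 F464551 F430062 (iv4 F466215)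
def n214743 : Q := act 3 n160903
theorem D214743 : act 3 n160903 = n214743 := rfl
theorem F476620 : act 5 n214743 = n203865 := d6_2 (iv5 F257591) D214743 (iv3 D203865)
theorem F476621 : act 7 n214743 = n186898 := d8_2 F344662 D214743 F368451
def n214744 : Q := act 1 n160908
theorem D214744 : act 1 n160908 = n214744 := rfl
theorem F476622 : act 1 n214744 = n190875 := d15_1 D214744 F381421 F257578
theorem F476623 : act 7 n214744 = n192149 := d15_2 (iv0 F365779) D214744 F385767
theorem F476624 : act 5 n214744 = n192150 := d17_7 F390657 (iv5 F388086) F388087 (iv5 F385952) F385951 F365777 D214744 F385775 D193674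
theorem F476625 : act 4 n214744 = n190163 := d17_9 (iv1 D190163) (iv5 D95672) F70260 D89884 D187295 (iv5 F408104) (iv0 D198465) F365777 D214744
theorem F476626 : act 2 n193677 = n214744 := d1_3 F476625 (iv2 F379015) (iv4 F390663)
theorem F476627 : act 3 n190365 = n214744 := d5_5 F476625 (iv3 F394925) F394927 F379542 D190365
def n214745 : Q := act 7 n160908
theorem D214745 : act 7 n160908 = n214745 := rfl
theorem F476628 : act 2 n214745 = n190875 := d4_1 D214745 F381421 F257578
theorem F476629 : act 3 n214745 = n198482 := d8_1 D214745 (iv7 D198482) (iv3 F365778)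
theorem F476630 : act 4 n214745 = n214729 := d11_1 D214745 (iv7 D214729) (iv4 F254104)
theorem F476631 : act 5 n214745 = n198466 := d13_1 D214745 (iv7 D198466) F365777
theorem F476632 : act 6 n214745 = n187292 := d14_1 D214745 F369734 F365876 F119662 D160908
theorem F476633 : act 1 n193677 = n214745 := d15_1 F390665 (iv7 D214745) (iv2 F257578)
theorem F476634 : act 1 n214745 = n192149 := d15_1 F476633 (iv7 F476623) (iv2 F476626)
def n214746 : Q := act 2 n160911
theorem D214746 : act 2 n160911 = n214746 := rfl
theorem F476635 : act 3 n214746 = n166710 := d0_2 D160911 D214746 F262412 F122828 (iv2 F115971)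
theorem F476636 : act 5 n214746 = n166670 := d2_2 (iv5 F254107) D214746 (iv2 D166670)
theorem F476637 : act 7 n214746 = n214709 := d4_2 (iv7 F254108) D214746 F476471
theorem F476638 : act 1 n214746 = n214710 := d15_0 (iv0 D214710) (iv7 F254108) D214746
theorem F476639 : act 1 n190040 = n214746 := d15_0 F476638 F476480 F475748
theorem F476640 : act 4 n214710 = n208187 := d17_9 (iv1 F448295) F394344 F379952 D208186 (iv4 F476469) (iv5 D214708) F262307 (iv5 F476636) F476638
def n214747 : Q := act 0 n160912
theorem D214747 : act 0 n160912 = n214747 := rfl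
def n214748 : Q := act 1 n160912
theorem D214748 : act 1 n160912 = n214748 := rfl
theorem F476641 : act 1 n214748 = n166715 := d15_1 D214748 (iv7 D166715) (iv2 F254109)
def n214749 : Q := act 7 n160912
theorem D214749 : act 7 n160912 = n214749 := rfl
theorem F476642 : act 2 n214749 = n166715 := d4_1 D214749 (iv7 D166715) (iv2 F254109)
theorem F476643 : act 3 n214749 = n187340 := d8_1 D214749 F369888 F369652
theorem F476644 : act 4 n214749 = n160915 := d11_1 D214749 (iv7 D160915) (iv4 F254110)
theorem F476645 : act 6 n214749 = n214713 := d14_1 D214749 (iv7 D214713) (iv6 D160679) (iv7 F115972) D160912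
theorem F476646 : act 1 n166715 = n214747 := d15_0 (iv0 D214747) D214749 F476642
theorem F476647 : act 1 n166714 = n214749 := d15_1 D166714 (iv7 D214749) F254109
theorem F476648 : act 1 n214749 = n166713 := d15_0 (iv0 D166713) D166715 (iv2 F476642)
def n214750 : Q := act 3 n160913
theorem D214750 : act 3 n160913 = n214750 := rfl
theorem F476649 : act 5 n214750 = n199919 := d6_2 F459628 D214750 (iv3 F414155)
def n214751 : Q := act 4 n160913
theorem D214751 : act 4 n160913 = n214751 := rfl
theorem F476650 : act 1 n214751 = n170749 := d18_6 F365989 (iv4 F197896) D204295 F431923 F459628 D214751 (iv4 F353319) (iv0 F455779) (iv5 D210019)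
def n214752 : Q := act 6 n160913
theorem D214752 : act 6 n160913 = n214752 := rfl
def n214753 : Q := act 4 n160914
theorem D214753 : act 4 n160914 = n214753 := rfl
theorem F476651 : act 0 n214753 = n170749 := d18_2 (iv1 F476494) D214753 (iv4 F353319) (iv5 D174649) (iv4 F197885) D204293 (iv4 F431907) F395210 (iv5 F476493)
def n214754 : Q := act 5 n160962
theorem D214754 : act 5 n160962 = n214754 := rfl
theorem F476652 : act 2 n214754 = n194375 := d2_1 D214754 F392977 (iv2 F318083)
theorem F476653 : act 3 n214754 = n209641 := d6_1 D214754 F454442 (iv3 F344046)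
theorem F476654 : act 4 n214754 = n194254 := d9_1 D214754 F392516 F361143 (iv5 F362530) F362529 F341916 (iv4 F334220) (iv5 F331981) F158502 (iv5 F76221) (iv4 F160651) F343699 F115935 D77245 D160962
theorem F476655 : act 6 n214754 = n194384 := d12_2 F346990 D214754 (iv5 F393008) (iv6 D133093) D133092
theorem F476656 : act 7 n214754 = n193136 := d13_2 (iv7 F318084) D214754 F388872
theorem F476657 : act 0 n214754 = n161987 := d17_2 (iv1 F318082) D214754 F303671 F300894 D158791 (iv0 F344721) (iv5 F344717) (iv0 F271474) (iv4 F271473)
theorem F476658 : act 1 n214754 = n194374 := d17_6 (iv1 F217743) F336544 (iv1 D77243) D77245 D160962 D214754 F392973 F254846 (iv4 F351973)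
def n214755 : Q := act 0 n160977
theorem D214755 : act 0 n160977 = n214755 := rfl
theorem F476659 : act 5 n214755 = n163324 := d17_3 (iv1 D160975) D160977 D214755 (iv4 F325699) F325700 F258183 F250804 D160564 (iv4 F254409)
theorem F476660 : act 1 n160989 = n214755 := d15_0 (iv0 D214755) (iv7 F262430) F262429
theorem F476661 : act 3 n198381 = n214755 := d19_19 (iv1 F476660) (iv5 D160989) (iv4 D77256) D77255 F254200 F326803 (iv4 D59260) D59259 (iv1 F174624) (iv5 F202274) (iv4 F328039) F103894 D67851 D144784 (iv4 F461828) F461827 (iv1 F447565) F447563 F409021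
theorem F476662 : act 2 n214755 = n206162 := d0_1 F476661 F476451 (iv2 F476450) F408176 (iv2 F407824)
theorem F476663 : act 7 n214755 = n194904 := d8_2 (iv7 F407825) F476661 (iv3 F394948)
def n214756 : Q := act 1 n160977
theorem D214756 : act 1 n160977 = n214756 := rfl
theorem F476664 : act 1 n214756 = n160989 := d15_1 D214756 (iv7 F334008) F334007
theorem F476665 : act 7 n214756 = n206162 := d15_2 (iv0 D214755) D214756 (iv2 F476662)
theorem F476666 : act 5 n214756 = n163325 := d17_7 (iv1 D35764) (iv5 F43494) D55884 F254069 D77251 D160977 D214756 F257634 (iv4 D78498)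
theorem F476667 : act 2 n194904 = n214756 := d2_3 F476666 (iv2 F363501) (iv5 F394947)
theorem F476668 : act 3 n214726 = n214756 := d6_3 F476666 F281152 D214726
theorem F476669 : act 6 n190255 = n214756 := d21_5 F64760 (iv1 F36651) (iv5 F70303) D95775 D190255 F476666 (iv1 D163325) (iv5 F340624) (iv6 D41974) D41971
def n214757 : Q := act 4 n160977
theorem D214757 : act 4 n160977 = n214757 := rfl
theorem F476670 : act 2 n214757 = n191198 := d1_1 D214757 F382556 F334007
theorem F476671 : act 6 n214757 = n190078 := d10_2 (iv6 F364600) D214757 F378792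
theorem F476672 : act 7 n214757 = n191202 := d11_2 F262430 D214757 F382561
theorem F476673 : act 5 n214757 = n185665 := d16_1 D214757 (iv4 F430143) (iv5 D203859) (iv4 D121122) F254065 D77256 D160989 (iv7 F334008) F334007
theorem F476674 : act 1 n214757 = n163280 := d18_6 (iv1 D77209) F55979 D35266 D77251 D160977 D214757 (iv4 D163280) (iv0 F254098) (iv5 D160900)
def n214758 : Q := act 3 n160986
theorem D214758 : act 3 n160986 = n214758 := rfl
theorem F476675 : act 2 n214758 = n165768 := d0_1 D214758 (iv3 D165768) (iv2 F254232) F254183 (iv2 F254202)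
theorem F476676 : act 4 n214758 = n160988 := d5_2 D160986 D214758 (iv3 D160988) (iv4 D77256) D77255
theorem F476677 : act 5 n214758 = n207308 := d6_2 F262494 D214758 F444259
theorem F476678 : act 7 n214758 = n197067 := d8_2 F254204 D214758 F402896
theorem F476679 : act 0 n214758 = n198164 := d19_4 (iv1 F170828) (iv5 F327437) D160986 D214758 F407059 F203971 (iv3 F409983) F409985 (iv5 F449288) F449287 (iv3 F471642) (iv1 F419931) F374349 F370807 F354678 (iv1 F354679) (iv5 D157955) (iv4 D75239) F327254
theorem F476680 : act 0 n205464 = n214758 := d20_4 F429969 F433422 F433420 (iv3 F436557) (iv3 D214758) (iv4 D160986) F254200 (iv4 D120985) D120984 F429972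
theorem F476681 : act 6 n214758 = n174173 := d21_5 F353493 D213082 F468914 (iv6 F436558) F476680 F386452 (iv1 F388782) F388779 F358672 F340636
def n214759 : Q := act 6 n160986
theorem D214759 : act 6 n160986 = n214759 := rfl
theorem F476682 : act 2 n214759 = n203853 := d3_1 D214759 F430114 (iv2 F254202)
theorem F476683 : act 3 n214759 = n174173 := d7_1 D214759 (iv6 F476681) (iv3 D214758)
theorem F476684 : act 4 n214759 = n160987 := d10_1 D214759 (iv6 D160987) D160986
theorem F476685 : act 5 n214759 = n207456 := d12_1 D214759 (iv6 D207456) (iv5 F217650) F351663 F262494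
theorem F476686 : act 7 n214759 = n203852 := d14_2 F254204 D214759 F430108 (iv7 F402893) (iv6 F402894)
theorem F476687 : act 0 n214759 = n174825 := d21_4 D80041 D166753 F262494 D214759 F333789 F249619 (iv1 F315315) F315317 F354803 (iv1 D80039)
theorem F476688 : act 0 n202749 = n214759 := d21_4 (iv5 D113377) (iv1 F173087) (iv5 F326803) (iv6 F425410) (iv6 D214759) (iv5 F262494) (iv1 F262495) (iv5 D80061) (iv6 F330779) (iv1 F327433)
def n214760 : Q := act 5 n160988
theorem D214760 : act 5 n160988 = n214760 := rfl
theorem F476689 : act 3 n214760 = n160989 := d6_1 D214760 (iv5 D160989) D160988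
theorem F476690 : act 7 n214760 = n206156 := d13_2 F334006 D214760 (iv5 D206156)
theorem F476691 : act 4 n214760 = n209616 := d16_2 F476676 D214760 (iv5 D209616) (iv4 D136687) D136688 (iv4 F442275) F442274 (iv7 F261159) (iv2 F476675)
theorem F476692 : act 1 n214760 = n165881 := d17_6 F444305 (iv5 D207316) (iv1 F444262) (iv5 F476677) F476676 D214760 (iv5 D165881) D165880 (iv4 F302179)
def n214761 : Q := act 4 n160989
theorem D214761 : act 4 n160989 = n214761 := rfl
theorem F476693 : act 2 n214761 = n191202 := d1_1 D214761 F382561 F262429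
theorem F476694 : act 5 n214761 = n185666 := d9_2 D160989 D214761 (iv4 F430137) (iv5 D203858) (iv4 D121117) F254069 D77251 D160977 D214757 F476673 (iv4 F430143) (iv5 D203859) (iv4 D121122) F254065 D77256
theorem F476695 : act 7 n214761 = n191198 := d11_2 F334008 D214761 F382556
theorem F476696 : act 0 n214761 = n163280 := d18_2 (iv1 F476660) D214761 (iv4 D163280) (iv5 D78474) F56437 D35764 D78498 F257638 (iv5 F476659)
theorem F476697 : act 6 n187240 = n214761 := d14_5 F476695 F382557 F378785 (iv6 F378786) (iv7 F378789)
def n214762 : Q := act 6 n160989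
theorem D214762 : act 6 n160989 = n214762 := rfl
theorem F476698 : act 2 n214762 = n194581 := d3_1 D214762 F393750 F262429
theorem F476699 : act 4 n214762 = n187240 := d10_1 D214762 F476697 (iv4 D214761)
theorem F476700 : act 7 n214762 = n190247 := d14_2 F334008 D214762 (iv6 D190247) F317112 (iv6 F205190)
theorem F476701 : act 0 n214762 = n211754 := d21_4 (iv5 D163753) (iv1 F254199) D160989 D214762 F462964 (iv5 F392838) (iv1 F392842) F358006 F138085 (iv1 F340635)
theorem F476702 : act 0 n187217 = n214762 := d21_4 D89852 F137918 (iv5 F137858) D187217 (iv6 D214762) (iv5 D160989) (iv1 F254191) (iv5 F369564) F369565 (iv1 D89850)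
theorem F476703 : act 5 n194463 = n214762 := d21_8 F476666 (iv1 D163325) (iv5 F340624) (iv6 D41974) D41971 D89845 (iv5 F158977) D194463 (iv6 D214762) (iv1 F476664)
def n214763 : Q := act 5 n160990
theorem D214763 : act 5 n160990 = n214763 := rfl
theorem F476704 : act 2 n214763 = n194582 := d2_1 D214763 F393754 F334023
theorem F476705 : act 3 n214763 = n214352 := d6_1 D214763 (iv5 D214352) F364270
theorem F476706 : act 6 n214763 = n194463 := d12_2 D160990 D214763 F476703 (iv6 D214762) (iv5 D160989)
theorem F476707 : act 7 n214763 = n194532 := d13_2 (iv7 F364598) D214763 F393614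
theorem F476708 : act 1 n214763 = n198403 := d17_6 (iv1 F193076) (iv5 F336608) (iv1 F336618) (iv5 D160993) (iv4 F254495) D214763 (iv5 D198403) F354192 (iv4 D162813)
theorem F476709 : act 1 n205501 = n214763 := d15_1 (iv0 F436728) F476707 F393612
def n214764 : Q := act 2 n161003
theorem D214764 : act 2 n161003 = n214764 := rfl
theorem F476710 : act 3 n214764 = n194146 := d0_2 D161003 D214764 (iv2 D194146) (iv3 D102780) (iv2 F116026)
theorem F476711 : act 4 n214764 = n161009 := d1_2 (iv4 F254510) D214764 (iv2 D161009)
theorem F476712 : act 5 n214764 = n204971 := d2_2 F430684 D214764 F434388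
theorem F476713 : act 6 n214764 = n204972 := d3_2 F282171 D214764 F434390
theorem F476714 : act 7 n214764 = n214268 := d4_2 (iv7 F254511) D214764 (iv2 D214268)
theorem F476715 : act 1 n214764 = n199554 := d15_0 (iv0 F412648) (iv7 F254511) D214764
theorem F476716 : act 1 n199091 = n214764 := d15_0 F476715 (iv7 F435570) F435567
def n214765 : Q := act 5 n161009
theorem D214765 : act 5 n161009 = n214765 := rfl
theorem F476717 : act 2 n214765 = n161010 := d2_1 D214765 (iv5 D161010) D161009
theorem F476718 : act 3 n214765 = n191183 := d6_1 D214765 F382506 F282820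
theorem F476719 : act 6 n214765 = n163514 := d12_2 F282285 D214765 (iv5 D163514) D163515 F356068
theorem F476720 : act 7 n214765 = n191163 := d13_2 F282839 D214765 F382451
theorem F476721 : act 0 n214765 = n191162 := d17_2 (iv1 F282830) D214765 F382447 (iv4 F346872) D198258 (iv0 F473620) (iv5 F474372) (iv0 F474373) F435358
theorem F476722 : act 1 n214765 = n191161 := d17_6 D170857 F456350 F456349 (iv5 F476712) F476711 D214765 (iv5 F435367) (iv0 D163410) (iv4 F126257)
theorem F476723 : act 4 n191203 = n214765 := d17_9 F476721 F382447 (iv1 D163411) D163413 F327190 (iv5 F381902) F381906 D194762 (iv0 F430181)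
theorem F476724 : act 0 n194767 = n191203 := d18_0 F476723 F476721 (iv4 F462897) (iv5 F462900) (iv4 F474445) (iv0 D194756) F159970 D104353 D194767
theorem F476725 : act 0 n189222 = n190431 := d20_4 (iv4 F103422) D144154 (iv4 F416401) F376144 F399901 F476723 F476721 (iv4 F462897) (iv3 D211735) (iv1 D144056)
theorem F476726 : act 1 n189228 = n190431 := d15_0 (iv0 F476725) (iv7 F377114) F377113
theorem F476727 : act 0 n205230 = n207583 := d18_0 F445553 F476724 F476723 (iv5 D214765) (iv4 F476711) F476715 F435522 (iv0 D205228) D205230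
def n214766 : Q := act 0 n161010
theorem D214766 : act 0 n161010 = n214766 := rfl
theorem F476728 : act 5 n214766 = n166575 := d17_3 (iv1 D161008) D161010 D214766 (iv4 F407336) (iv5 F473628) (iv0 D214132) (iv5 F412698) (iv0 F412701) F280772
theorem F476729 : act 6 n214766 = n191209 := d21_5 F445609 F262505 D203858 F430133 D214766 F382592 (iv1 F262176) F382533 F382531 F445612
theorem F476730 : act 1 n191163 = n214766 := d15_0 (iv0 D214766) (iv7 F294052) D191163
theorem F476731 : act 2 n191162 = n214766 := d3_3 F476729 (iv2 D191209) (iv6 F382448)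
theorem F476732 : act 7 n191161 = n214766 := d14_0 F476729 F382593 (iv6 F373537) F373534 (iv6 F435369)
def n214767 : Q := act 1 n161010
theorem D214767 : act 1 n161010 = n214767 := rfl
theorem F476733 : act 1 n214767 = n191163 := d15_1 D214767 (iv7 F476720) F476717
theorem F476734 : act 7 n214767 = n191162 := d15_2 (iv0 D214766) D214767 F476731
theorem F476735 : act 3 n191210 = n214767 := d20_3 (iv4 F370194) (iv1 F370203) (iv4 F382596) (iv1 D214767) F254518 F116036 (iv1 F64995) F61665 (iv3 F122746) (iv1 F257741)
theorem F476736 : act 5 n166576 = n214767 := d21_0 (iv1 D214767) (iv5 D161010) (iv6 F132770) (iv1 F366175) F359818 F438959 (iv1 D206039) (iv5 F358839) F358840 (iv1 F262135)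
theorem F476737 : act 6 n188452 = n214767 := d21_3 (iv5 F447893) (iv1 F447895) (iv5 F373530) (iv1 D214767) (iv6 F430133) (iv5 D203858) (iv1 F258259) (iv5 F445640) (iv6 F450628) F450631
theorem F476738 : act 2 n214767 = n191161 := d3_1 F476737 F435369 F373531
def n214768 : Q := act 4 n161010
theorem D214768 : act 4 n161010 = n214768 := rfl
theorem F476739 : act 2 n214768 = n191203 := d1_1 D214768 F476723 F476717
theorem F476740 : act 3 n214768 = n187410 := d5_1 D214768 (iv4 D187410) (iv3 D90052) (iv4 F116036) (iv3 F254518)
theorem F476741 : act 6 n214768 = n185666 := d10_2 F430133 D214768 (iv4 F430137)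
theorem F476742 : act 7 n214768 = n191151 := d11_2 F294052 D214768 F382413
theorem F476743 : act 1 n214768 = n188459 := d18_6 D125627 D205239 F435566 F254510 D161010 D214768 F435574 (iv0 D205241) (iv5 D125629)
def n214769 : Q := act 7 n161012
theorem D214769 : act 7 n161012 = n214769 := rfl
theorem F476744 : act 2 n214769 = n191188 := d4_1 D214769 (iv7 D191188) F294065
theorem F476745 : act 3 n214769 = n163504 := d8_1 D214769 (iv7 F430134) F430132
theorem F476746 : act 4 n214769 = n187413 := d11_1 D214769 (iv7 D187413) (iv4 F254524)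
theorem F476747 : act 5 n214769 = n163503 := d13_1 D214769 F356038 F282296
theorem F476748 : act 6 n214769 = n191168 := d14_1 D214769 (iv7 D191168) (iv6 D97338) F293061 D161012
theorem F476749 : act 1 n191186 = n214769 := d15_1 D191186 (iv7 D214769) (iv2 F294065)
theorem F476750 : act 1 n214769 = n191185 := d15_1 F476749 (iv7 F382790) F382788
def n214770 : Q := act 4 n161177
theorem D214770 : act 4 n161177 = n214770 := rfl
theorem F476751 : act 2 n214770 = n173854 := d1_1 D214770 F440320 (iv2 F440322)
theorem F476752 : act 3 n214770 = n198442 := d5_1 D214770 F408020 F180847 (iv4 F323535) D161177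
theorem F476753 : act 6 n214770 = n194258 := d10_2 F392913 D214770 (iv4 F392916)
theorem F476754 : act 7 n214770 = n193627 := d11_2 F324976 D214770 F390491
theorem F476755 : act 5 n214770 = n173853 := d16_1 D214770 F272489 D174261 (iv4 F354480) F308691 (iv4 F271473) (iv5 F460402) F460404 (iv2 F440322)
theorem F476756 : act 0 n214770 = n194836 := d17_0 (iv5 D194836) F358407 (iv5 F443646) F443645 F438530 F314736 D152598 F345793 D214770
theorem F476757 : act 1 n214770 = n200722 := d18_6 F321094 (iv4 F188055) F188059 F127679 (iv5 F303249) D214770 F417635 (iv0 F440219) F440214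
def n214771 : Q := act 4 n161353
theorem D214771 : act 4 n161353 = n214771 := rfl
theorem F476758 : act 2 n214771 = n196719 := d1_1 D214771 (iv4 F438034) F438033
theorem F476759 : act 3 n214771 = n179892 := d5_1 D214771 (iv4 D179892) F311462 F324265 (iv3 F255173)
theorem F476760 : act 6 n214771 = n161367 := d10_2 (iv6 F255174) D214771 (iv4 D161367)
theorem F476761 : act 7 n214771 = n211262 := d11_2 F438104 D214771 F460854
theorem F476762 : act 5 n214771 = n197277 := d16_1 D214771 F422786 D202045 (iv4 F422795) (iv5 D191498) D191497 (iv5 F383587) (iv7 F438037) F438033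
theorem F476763 : act 0 n214771 = n211260 := d18_2 F353997 D214771 F460848 (iv5 F474601) F474600 F468586 F386368 F339289 D135408
theorem F476764 : act 1 n214771 = n211264 := d18_6 (iv1 F187750) (iv4 F315046) D98463 F340200 D161353 D214771 F460863 F428557 F428556
def n214772 : Q := act 4 n161365
theorem D214772 : act 4 n161365 = n214772 := rfl
theorem F476765 : act 2 n214772 = n193416 := d1_1 D214772 F389782 F364283
theorem F476766 : act 3 n214772 = n213533 := d5_1 D214772 (iv4 D213533) F242190 D154122 (iv3 F364282)
theorem F476767 : act 7 n214772 = n193417 := d11_2 F364285 D214772 F389784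
theorem F476768 : act 0 n214772 = n193420 := d18_2 D161365 D214772 F389787 F156541 (iv4 F156078) (iv0 F350954) (iv4 D161357) (iv0 D77463) D77465
theorem F476769 : act 1 n214772 = n193407 := d18_6 D79011 (iv4 F155530) (iv1 F236163) F236160 F364284 D214772 (iv4 D193407) F339373 (iv5 D79013)
def n214773 : Q := act 5 n161589
theorem D214773 : act 5 n161589 = n214773 := rfl
theorem F476770 : act 2 n214773 = n197466 := d2_1 D214773 (iv5 F404455) F274488
theorem F476771 : act 3 n214773 = n195880 := d6_1 D214773 F398584 F358712
theorem F476772 : act 6 n214773 = n196624 := d12_2 (iv6 F358715) D214773 F401239 F434770 (iv5 D205045)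
theorem F476773 : act 7 n214773 = n196414 := d13_2 (iv7 F358800) D214773 F400633
theorem F476774 : act 0 n214773 = n210361 := d17_2 (iv1 F337636) D214773 F457200 (iv4 F262463) F330844 (iv0 F311735) F311737 F272783 D174050
theorem F476775 : act 1 n214773 = n210364 := d17_6 D83534 F310668 (iv1 D77611) D77612 D161589 D214773 F457208 (iv0 D174876) (iv4 D83536)
theorem F476776 : act 4 n214773 = n214085 := d18_5 F400731 F337617 (iv1 D161588) D161589 D214773 F473421 (iv4 F404397) (iv0 D197452) (iv5 F400729)
def n214774 : Q := act 4 n161636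
theorem D214774 : act 4 n161636 = n214774 := rfl
theorem F476777 : act 2 n214774 = n212166 := d1_1 D214774 F464581 (iv2 F362744)
theorem F476778 : act 3 n214774 = n191973 := d5_1 D214774 (iv4 D191973) F155503 D184664 F343438
theorem F476779 : act 7 n214774 = n192900 := d11_2 (iv7 F343982) D214774 F388148
theorem F476780 : act 0 n214774 = n212165 := d17_0 (iv5 D212165) F388404 D212706 F467177 (iv5 D178492) F130192 (iv5 F303198) (iv0 F348503) D214774
theorem F476781 : act 1 n214774 = n196994 := d18_6 F343506 (iv4 D150096) F107165 (iv4 F307994) D161636 D214774 F402605 D203529 F428738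
def n214775 : Q := act 4 n161832
theorem D214775 : act 4 n161832 = n214775 := rfl
theorem F476782 : act 2 n214775 = n192900 := d1_1 D214775 F388148 (iv2 F343981)
theorem F476783 : act 6 n214775 = n212645 := d10_2 (iv6 F408980) D214775 (iv4 D212645)
theorem F476784 : act 7 n214775 = n212166 := d11_2 (iv7 F362747) D214775 F464581
theorem F476785 : act 5 n214775 = n199257 := d16_1 D214775 F411346 (iv5 D193483) F321067 (iv5 F107162) (iv4 F307994) D161636 F343982 (iv2 F343981)
theorem F476786 : act 0 n214775 = n196994 := d17_0 (iv5 D196994) F402176 (iv5 F402175) F386619 (iv5 D149029) F312050 D84941 (iv0 F337581) D214775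
theorem F476787 : act 1 n214775 = n212165 := d18_6 (iv1 F389718) F344064 (iv1 F236204) F337583 D161832 D214775 F464578 F428735 F428731
def n214776 : Q := act 4 n161879
theorem D214776 : act 4 n161879 = n214776 := rfl
theorem F476788 : act 2 n214776 = n214067 := d1_1 D214776 F473315 F472195
theorem F476789 : act 6 n214776 = n213860 := d10_2 F357007 D214776 F472440
theorem F476790 : act 7 n214776 = n214068 := d11_2 F428373 D214776 F473323
theorem F476791 : act 5 n214776 = n202403 := d17_5 F357025 (iv5 F350924) (iv1 F255199) D161879 D214776 F423882 (iv5 D115705) F179556 F357023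
theorem F476792 : act 0 n214776 = n203543 := d17_0 F428815 (iv1 D156032) F111045 (iv4 F170800) F350645 (iv0 F155518) (iv5 F300211) (iv0 F333718) D214776
theorem F476793 : act 1 n214776 = n203541 := d18_6 D54974 F344031 D141371 F333729 D161879 D214776 (iv4 D203541) (iv0 D119489) (iv5 D54976)
def n214777 : Q := act 4 n161909
theorem D214777 : act 4 n161909 = n214777 := rfl
theorem F476794 : act 2 n214777 = n161910 := d1_1 D214777 (iv4 D161910) D161909
theorem F476795 : act 5 n214777 = n212820 := d9_2 (iv5 F305463) D214777 (iv4 D212820) (iv5 F350960) F350959 (iv5 D96685) F71178 D80279 D167235 (iv5 F350962) (iv4 F331766) F351783 (iv4 F351782) F241790 (iv4 F314261)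
theorem F476796 : act 6 n214777 = n197683 := d10_2 (iv6 F359734) D214777 F405342
theorem F476797 : act 7 n214777 = n178496 := d11_2 (iv7 F305464) D214777 (iv4 D178496)
theorem F476798 : act 1 n214777 = n211107 := d18_6 D119418 F312052 D149010 (iv4 F314261) (iv5 F305463) D214777 F460128 (iv0 D203528) (iv5 D119420)
def n214778 : Q := act 1 n161910
theorem D214778 : act 1 n161910 = n214778 := rfl
theorem F476799 : act 1 n214778 = n178496 := d15_1 D214778 (iv7 F476797) F476794
theorem F476800 : act 5 n214778 = n174501 := d17_7 (iv1 F390025) F390023 F321080 F241764 (iv4 F460102) (iv5 F460104) D214778 (iv0 F467610) (iv4 D212818)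
theorem F476801 : act 4 n214778 = n174995 := d17_9 (iv1 F428746) F428743 (iv1 F188182) (iv5 F357113) F204058 D140677 D211102 (iv5 F460104) D214778
theorem F476802 : act 2 n211107 = n214778 := d1_3 F476801 F428732 (iv4 F460128)
theorem F476803 : act 3 n174502 = n214778 := d20_5 D212169 F464598 (iv4 D196639) (iv3 F401287) F401290 F476801 (iv1 F428746) F428742 F228449 D145426
theorem F476804 : act 6 n214778 = n210891 := d7_2 (iv6 F348948) F476803 F459170
def n214779 : Q := act 6 n161958
theorem D214779 : act 6 n161958 = n214779 := rfl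
theorem F476805 : act 2 n214779 = n204791 := d3_1 D214779 (iv6 D204791) (iv2 F255953)
theorem F476806 : act 4 n214779 = n161959 := d10_1 D214779 (iv6 D161959) D161958
def n214780 : Q := act 4 n161962
theorem D214780 : act 4 n161962 = n214780 := rfl
theorem F476807 : act 2 n214780 = n204795 := d1_1 D214780 F433612 (iv2 F255962)
theorem F476808 : act 5 n214780 = n204266 := d9_2 D161962 D214780 (iv4 D204266) (iv5 D123285) F299212 F325844 (iv4 F223782) (iv5 F407467) (iv4 F423961) F423962 (iv4 D161958) (iv5 D77786) (iv4 D35497) D35498 D77789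
theorem F476809 : act 7 n214780 = n204790 := d11_2 (iv7 F255963) D214780 F433598
theorem F476810 : act 0 n214780 = n198772 := d17_0 F409165 (iv1 F433521) F433518 F245614 F351079 (iv0 D109127) D109129 F324504 D214780
def n214781 : Q := act 2 n162162
theorem D214781 : act 2 n162162 = n214781 := rfl
theorem F476811 : act 3 n214781 = n214268 := d0_2 D162162 D214781 (iv2 D214268) (iv3 D157869) (iv2 F119130)
theorem F476812 : act 4 n214781 = n164085 := d1_2 (iv4 F256258) D214781 (iv2 D164085)
theorem F476813 : act 6 n214781 = n198001 := d3_2 F365921 D214781 (iv2 F406463)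
theorem F476814 : act 7 n214781 = n194146 := d4_2 (iv7 F256259) D214781 (iv2 D194146)
theorem F476815 : act 1 n214781 = n180448 := d15_0 (iv0 F280853) (iv7 F256259) D214781
theorem F476816 : act 1 n194145 = n214781 := d15_0 F476815 F280852 (iv2 F392190)
def n214782 : Q := act 0 n162235
theorem D214782 : act 0 n162235 = n214782 := rfl
theorem F476817 : act 5 n214782 = n211086 := d17_1 D214782 (iv1 D211086) D211087 (iv4 F460057) (iv5 D141944) F224859 (iv5 F461123) F461125 F362692
theorem F476818 : act 4 n214782 = n163974 := d18_3 D141946 F362692 D214782 (iv5 F406224) F400348 (iv0 F406932) (iv4 D141938) (iv0 D66537) D66539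
theorem F476819 : act 6 n214782 = n191027 := d21_5 (iv5 D57923) (iv1 F56239) D77941 D162235 D214782 (iv5 F381929) (iv1 F360084) (iv5 F429392) (iv6 D203681) F191500
theorem F476820 : act 2 n191014 = n214782 := d3_3 F476819 (iv2 D191027) (iv6 F381876)
theorem F476821 : act 0 n214782 = n211396 := d21_10 F461398 F340815 D196614 (iv6 F415038) (iv1 F461438) (iv6 F461439) (iv5 D141953) D141950 F381929 (iv6 F476819)
def n214783 : Q := act 1 n162235
theorem D214783 : act 1 n162235 = n214783 := rfl
theorem F476822 : act 1 n214783 = n211396 := d15_1 D214783 F461397 F400637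
theorem F476823 : act 7 n214783 = n191014 := d15_2 (iv0 D214782) D214783 F476820
theorem F476824 : act 5 n214783 = n206363 := d17_7 (iv1 F470040) (iv5 D213348) D213345 F470034 F404187 F400635 D214783 (iv0 F440428) (iv4 F460049)
theorem F476825 : act 4 n214783 = n163975 := d17_9 (iv1 D163975) (iv5 F343787) (iv1 D108781) D108782 D197933 (iv5 F436693) F436696 F400635 D214783
theorem F476826 : act 6 n208560 = n214783 := d10_0 F476825 F343790 D208560
theorem F476827 : act 3 n214783 = n191016 := d19_3 F406882 F343789 (iv4 F476825) (iv1 F381887) (iv5 F425470) F425471 F397588 F390672 (iv5 F390671) (iv4 F334081) F237174 (iv1 F206210) F206212 D149290 F368465 (iv1 D186903) F347696 (iv4 F139594) (iv3 F371833)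
def n214784 : Q := act 7 n162235
theorem D214784 : act 7 n162235 = n214784 := rfl
theorem F476828 : act 2 n214784 = n211396 := d4_1 D214784 F461397 F400637
theorem F476829 : act 3 n214784 = n211417 := d8_1 D214784 F461473 F406296
theorem F476830 : act 4 n214784 = n211065 := d11_1 D214784 F459969 F362692
theorem F476831 : act 5 n214784 = n205491 := d13_1 D214784 F436673 F400635
theorem F476832 : act 6 n214784 = n211065 := d14_1 D214784 F459969 (iv6 F362691) (iv7 F191510) D162235
theorem F476833 : act 0 n191014 = n214784 := d21_4 (iv5 D211403) (iv1 F381926) (iv5 D191028) (iv6 F381876) F476832 (iv5 D211065) (iv1 F363338) (iv5 F407589) (iv6 F476265) F476269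
def n214785 : Q := act 4 n162242
theorem D214785 : act 4 n162242 = n214785 := rfl
theorem F476834 : act 2 n214785 = n164028 := d1_1 D214785 (iv4 D164028) (iv2 F348598)
theorem F476835 : act 6 n214785 = n212466 := d10_2 (iv6 F339242) D214785 (iv4 D212466)
theorem F476836 : act 7 n214785 = n164023 := d11_2 (iv7 F348599) D214785 (iv4 D164023)
theorem F476837 : act 0 n214785 = n208916 := d17_0 F451394 F387678 (iv5 F405838) F405837 F338715 (iv0 F338459) F323628 (iv0 F302616) D214785
theorem F476838 : act 1 n214785 = n166736 := d18_6 F447203 (iv4 D186801) (iv1 D89174) D89175 (iv5 F338418) D214785 F262464 D166749 (iv5 F447202)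
def n214786 : Q := act 5 n162537
theorem D214786 : act 5 n162537 = n214786 := rfl
theorem F476839 : act 2 n214786 = n162577 := d2_1 D214786 (iv5 D162577) (iv2 F354963)
theorem F476840 : act 3 n214786 = n179229 := d6_1 D214786 F355108 F354962
theorem F476841 : act 6 n214786 = n179226 := d12_2 F355107 D214786 F461902 (iv6 D211510) (iv5 F229440)
theorem F476842 : act 7 n214786 = n162582 := d13_2 (iv7 F354965) D214786 (iv5 D162582)
theorem F476843 : act 1 n214786 = n213811 := d17_6 F446341 (iv5 D132802) (iv1 F321694) (iv5 F336064) (iv4 F354964) D214786 F472190 (iv0 F415440) (iv4 F446340)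
def n214787 : Q := act 0 n162577
theorem D214787 : act 0 n162577 = n214787 := rfl
theorem F476844 : act 5 n214787 = n173794 := d17_3 D78071 D162577 D214787 F433963 F433965 (iv0 F395834) (iv5 F355085) (iv0 D162570) F119267
theorem F476845 : act 6 n214787 = n203561 := d21_5 (iv5 D147278) D147276 F398597 F415050 D214787 (iv5 D203561) (iv1 F188542) D193339 (iv6 F420420) F420423
theorem F476846 : act 1 n162582 = n214787 := d15_0 (iv0 D214787) (iv7 F447198) F447195
theorem F476847 : act 7 n214787 = n213811 := d15_2 (iv0 F383691) F476846 (iv2 F472191)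
theorem F476848 : act 3 n179317 = n214787 := d8_3 F476847 (iv3 D213811) (iv7 F415436)
def n214788 : Q := act 4 n162582
theorem D214788 : act 4 n162582 = n214788 := rfl
theorem F476849 : act 6 n214788 = n206371 := d10_2 (iv6 F353017) D214788 F440469
theorem F476850 : act 0 n214788 = n199108 := d18_2 (iv1 F476846) D214788 F410704 (iv5 F466263) F466266 (iv0 F447152) (iv4 F466393) F466395 (iv5 F476844)
def n214789 : Q := act 4 n162584
theorem D214789 : act 4 n162584 = n214789 := rfl
theorem F476851 : act 2 n214789 = n196538 := d1_1 D214789 F401005 (iv2 F409642)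
theorem F476852 : act 3 n214789 = n212141 := d5_1 D214789 (iv4 F464466) (iv3 F424414) F337992 F409647
theorem F476853 : act 6 n214789 = n200504 := d10_2 (iv6 F352469) D214789 (iv4 D200504)
theorem F476854 : act 7 n214789 = n196537 := d11_2 F409643 D214789 F401015
theorem F476855 : act 5 n214789 = n188852 := d16_1 D214789 F375057 F372319 (iv4 F334642) (iv5 F373934) (iv4 F468940) F468942 F409644 (iv2 F409642)
theorem F476856 : act 0 n214789 = n196536 := d18_2 D162584 D214789 F401002 (iv5 F464890) F464889 F330964 F342203 (iv0 D78071) D78073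
theorem F476857 : act 0 n196540 = n214789 := d20_10 (iv4 D214789) (iv1 F366954) (iv4 F415054) F415053 F402193 (iv3 D196894) F165710 (iv1 F82129) (iv4 F165037) (iv3 F401011)
def n214790 : Q := act 4 n162585
theorem D214790 : act 4 n162585 = n214790 := rfl
theorem F476858 : act 2 n214790 = n196537 := d1_1 D214790 F401015 F409645
theorem F476859 : act 5 n214790 = n199514 := d9_2 F468942 D214790 F412479 F375359 F371338 D207768 F446340 (iv5 F409646) D214789 F476855 F375057 F372319 (iv4 F334642) (iv5 F373934) (iv4 F468940)
theorem F476860 : act 6 n214790 = n198143 := d10_2 F472256 D214790 (iv4 F472258)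
theorem F476861 : act 7 n214790 = n196538 := d11_2 (iv7 F409644) D214790 F401005
theorem F476862 : act 0 n214790 = n196540 := d18_2 (iv1 F366951) D214790 F401012 (iv5 D170734) (iv4 F195631) F330899 F344838 F256747 F366952
theorem F476863 : act 1 n214790 = n196536 := d18_6 F427254 (iv4 F364316) F373937 (iv4 F468940) F468942 D214790 F401002 (iv0 F463530) F463527
theorem F476864 : act 3 n198145 = n214790 := d7_3 F476860 (iv3 D198143) D198145
def n214791 : Q := act 0 n162586
theorem D214791 : act 0 n162586 = n214791 := rfl
theorem F476865 : act 4 n214791 = n174601 := d20_8 F220079 (iv1 F345508) (iv4 F390109) (iv3 F422848) (iv1 D128217) (iv3 F119268) D162586 D214791 (iv3 F434078) (iv1 F364025)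
theorem F476866 : act 6 n214791 = n194427 := d21_5 D83589 (iv1 F303398) (iv5 D162613) (iv6 F256823) D214791 (iv5 D194427) D194425 F393141 (iv6 D175026) (iv1 D83587)
theorem F476867 : act 2 n212205 = n214791 := d15_3 (iv0 D214791) (iv0 F346563) (iv7 F464739)
theorem F476868 : act 3 n214791 = n212092 := d0_2 D212205 F476867 (iv2 F464293) (iv3 F393596) F393590
theorem F476869 : act 5 n214791 = n194424 := d2_2 (iv5 F464737) F476867 F393139
theorem F476870 : act 7 n214791 = n212095 := d4_2 (iv7 F464739) F476867 F464300
theorem F476871 : act 1 n174524 = n212095 := d15_1 (iv0 F464740) (iv7 F476870) (iv2 F476867)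
theorem F476872 : act 1 n200110 = n214791 := d15_1 F415056 F476870 F464300
def n214792 : Q := act 3 n162586
theorem D214792 : act 3 n162586 = n214792 := rfl
theorem F476873 : act 2 n214792 = n212204 := d0_1 D214792 F464734 (iv2 F415071) F415072 F366932
theorem F476874 : act 4 n214792 = n206313 := d5_2 D162586 D214792 (iv3 D206313) (iv4 D128218) (iv3 F119268)
theorem F476875 : act 6 n214792 = n162612 := d7_2 (iv6 F256823) D214792 (iv3 D162612)
theorem F476876 : act 0 n214792 = n212202 := d20_10 F464730 F462881 F410806 (iv3 F410788) F412403 F476864 (iv4 D214790) (iv1 D162585) D162586 D214792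
theorem F476877 : act 1 n214792 = n212201 := d15_1 (iv0 F476876) (iv7 F471737) F471727
theorem F476878 : act 7 n214792 = n202758 := d15_2 D212202 (iv0 F476876) F425449
def n214793 : Q := act 5 n162586
theorem D214793 : act 5 n162586 = n214793 := rfl
theorem F476879 : act 6 n188960 = n214793 := d21_5 F291999 (iv1 F292940) F142787 D92930 D188960 (iv5 D214793) D214791 F476869 (iv6 D194424) (iv1 F291998)
def n214794 : Q := act 7 n162586
theorem D214794 : act 7 n162586 = n214794 := rfl
theorem F476880 : act 2 n214794 = n200110 := d4_1 D214794 F415055 F366932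
theorem F476881 : act 3 n214794 = n202758 := d8_1 D214794 (iv7 F476878) (iv3 D214792)
theorem F476882 : act 4 n214794 = n162587 := d11_1 D214794 (iv7 D162587) D162586
theorem F476883 : act 6 n214794 = n199193 := d14_1 D214794 F411109 F343454 F303402 (iv6 F256823)
theorem F476884 : act 1 n212095 = n214794 := d15_1 F476871 (iv7 D214794) (iv2 F366932)
theorem F476885 : act 1 n214794 = n212205 := d15_1 F476884 F464739 (iv2 F464300)
def n214795 : Q := act 5 n162605
theorem D214795 : act 5 n162605 = n214795 := rfl
theorem F476886 : act 2 n214795 = n212117 := d2_1 D214795 (iv5 D212117) (iv2 F365170)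
theorem F476887 : act 3 n214795 = n190952 := d6_1 D214795 (iv5 F458341) (iv3 F458342)
theorem F476888 : act 7 n214795 = n212115 := d13_2 F365174 D214795 (iv5 D212115)
theorem F476889 : act 4 n214795 = n162663 := d16_2 D162605 D214795 (iv5 D162663) F298768 (iv5 F298216) (iv4 F113563) F119273 F300609 (iv2 F300604)
theorem F476890 : act 0 n214795 = n174578 := d17_2 F330952 D214795 (iv5 D174578) (iv4 F128564) (iv5 F128563) (iv0 F128565) (iv5 F199342) F298756 (iv4 F330955)
theorem F476891 : act 1 n214795 = n174581 := d17_6 (iv1 F127808) (iv5 F59279) (iv1 F128532) (iv5 F300605) D162605 D214795 (iv5 D174581) F271729 F271727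
theorem F476892 : act 6 n190107 = n214795 := d10_0 F476889 F348937 D190107
def n214796 : Q := act 3 n162608
theorem D214796 : act 3 n162608 = n214796 := rfl
theorem F476893 : act 2 n214796 = n203897 := d0_1 D214796 F458339 F464373 (iv3 D212114) (iv2 F365173)
theorem F476894 : act 6 n214796 = n203889 := d7_2 F404382 D214796 F430254
theorem F476895 : act 7 n214796 = n212116 := d8_2 (iv7 F365171) D214796 (iv3 D212116)
theorem F476896 : act 5 n163973 = n214796 := d13_3 F476895 F464381 F461402
theorem F476897 : act 0 n196947 = n214796 := d21_1 (iv5 F461537) (iv5 F476896) (iv6 D163973) F119945 (iv6 F343784) F173130 (iv1 F172730) (iv5 F172731) D197951 (iv1 F461534)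
def n214797 : Q := act 5 n162608
theorem D214797 : act 5 n162608 = n214797 := rfl
theorem F476898 : act 2 n214797 = n212115 := d2_1 D214797 (iv5 D212115) (iv2 F365173)
theorem F476899 : act 3 n214797 = n163973 := d6_1 D214797 F476896 (iv3 D214796)
theorem F476900 : act 4 n214797 = n162660 := d9_1 D214797 (iv5 D162660) F298764 F117899 (iv4 F113653) (iv5 F300605) D162605 D214795 F476889 (iv5 D162663) F298768 (iv5 F298216) (iv4 F113563) F119273 D162608
theorem F476901 : act 6 n214797 = n163972 := d12_2 F404382 D214797 F258442 (iv6 F398635) F404384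
theorem F476902 : act 7 n214797 = n212117 := d13_2 (iv7 F365171) D214797 (iv5 D212117)
theorem F476903 : act 0 n214797 = n174581 := d17_2 F360152 D214797 (iv5 D174581) F128537 (iv5 F118929) (iv0 F300630) F300631 (iv0 D124631) D124633
theorem F476904 : act 1 n214797 = n174578 := d17_6 D38428 D83421 F300964 F119273 D162608 D214797 (iv5 D174578) (iv0 D83426) (iv4 D38430)
def n214798 : Q := act 3 n162610
theorem D214798 : act 3 n162610 = n214798 := rfl
theorem F476905 : act 2 n214798 = n196906 := d0_1 D214798 (iv3 F424527) F425481 (iv3 F425480) (iv2 F303390)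
theorem F476906 : act 6 n214798 = n213423 := d7_2 F364933 D214798 F470314
theorem F476907 : act 7 n214798 = n196905 := d8_2 (iv7 F303392) D214798 F402240
theorem F476908 : act 0 n214798 = n196904 := d20_4 (iv4 D83434) D83432 (iv4 F303391) D214798 F402239 F228328 F457073 (iv4 F464372) (iv3 D212114) F330943
theorem F476909 : act 0 n196908 = n214798 := d20_4 F92821 (iv1 F78395) (iv4 F165761) (iv3 F402244) (iv3 D214798) F303391 (iv1 F128539) (iv4 F330932) F104298 F92822
def n214799 : Q := act 5 n162610
theorem D214799 : act 5 n162610 = n214799 := rfl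
theorem F476910 : act 4 n214799 = n162658 := d16_2 (iv4 F303391) D214799 (iv5 D162658) (iv4 D78137) (iv5 F121385) D121959 F298350 (iv7 F199341) (iv2 F199343)
theorem F476911 : act 0 n214799 = n174560 := d17_2 D162610 D214799 (iv5 D174560) (iv4 D83420) D83421 F128530 (iv5 F300605) (iv0 D78084) D78086
theorem F476912 : act 1 n214799 = n174572 := d17_6 (iv1 F127879) (iv5 F127881) (iv1 F301152) F301154 (iv4 F303391) D214799 (iv5 D174572) F128668 F128667
theorem F476913 : act 6 n214799 = n190133 := d21_3 (iv5 D162613) D162610 D214799 (iv1 D190133) (iv6 F378938) F388940 (iv1 F389287) F459287 (iv6 D175034) (iv1 F303398)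
def n214800 : Q := act 5 n162611
theorem D214800 : act 5 n162611 = n214800 := rfl
theorem F476914 : act 3 n214800 = n190155 := d6_1 D214800 F378998 (iv3 F341148)
theorem F476915 : act 4 n214800 = n162653 := d9_1 D214800 (iv5 D162653) (iv4 D78132) (iv5 F121394) D121958 F301154 (iv4 F303391) D214799 F476910 (iv5 D162658) (iv4 D78137) (iv5 F121385) D121959 F298350 (iv4 F303395)
theorem F476916 : act 0 n214800 = n174572 := d17_2 (iv1 F303393) D214800 (iv5 D174572) (iv4 D83424) (iv5 F59279) F298882 F119273 F300607 D173300
theorem F476917 : act 1 n214800 = n174560 := d17_6 D82968 F127876 (iv1 F298349) F298350 (iv4 F303395) D214800 (iv5 D174560) F128666 (iv4 D82970)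
def n214801 : Q := act 1 n162612
theorem D214801 : act 1 n162612 = n214801 := rfl
theorem F476918 : act 7 n214801 = n212073 := d15_2 (iv0 F464702) D214801 (iv2 F464245)
theorem F476919 : act 2 n212194 = n214801 := d4_3 F476918 (iv2 F464245) F464710
theorem F476920 : act 3 n212067 = n214801 := d8_3 F476918 (iv3 D212073) F464218
theorem E104016 : n212195 = n212073 := (c15_2 (iv0 D212194) D212195 (iv7 F476918) (iv2 F476919))
theorem F476921 : act 0 n212073 = n145476 := (sb E104016 (iv1 D212195))
theorem F476922 : act 5 n191438 = n212074 := d19_17 F476921 D212196 (iv4 F464713) F369859 (iv1 F247461) (iv5 F410894) F410891 F176157 F111915 F101083 (iv4 F211393) D207522 F445283 F336948 (iv4 F383488) (iv3 D191440) D191438 (iv4 D212074) D212073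
theorem F476923 : act 1 n214801 = n200100 := d15_0 (iv0 F464701) F464710 F476919
def n214802 : Q := act 2 n162612
theorem D214802 : act 2 n162612 = n214802 := rfl
theorem F476924 : act 3 n214802 = n200108 := d0_2 D162612 D214802 F415039 (iv3 D174522) (iv2 F300610)
theorem F476925 : act 4 n214802 = n206324 := d1_2 (iv4 F256840) D214802 (iv2 D206324)
theorem F476926 : act 6 n214802 = n212204 := d3_2 F476875 D214802 (iv2 F476873)
theorem F476927 : act 7 n214802 = n200100 := d4_2 (iv7 F362968) D214802 F415005
theorem F476928 : act 1 n214802 = n212194 := d15_0 (iv0 D212194) (iv7 F362968) D214802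
theorem F476929 : act 1 n212073 = n214802 := d15_0 F476928 (iv7 F464710) F464245
def n214803 : Q := act 5 n162612
theorem D214803 : act 5 n162612 = n214803 := rfl
theorem F476930 : act 3 n214803 = n162613 := d6_1 D214803 (iv5 D162613) D162612
theorem F476931 : act 7 n214803 = n212196 := d13_2 (iv7 F362968) D214803 (iv5 D212196)
theorem F476932 : act 4 n214803 = n190205 := d16_2 (iv4 F256840) D214803 F379070 (iv4 F201794) D205102 (iv4 F462797) (iv5 D211711) (iv7 F440248) (iv2 D206324)
theorem F476933 : act 0 n190877 = n214803 := d19_0 (iv5 D214803) F256840 (iv3 D128260) (iv1 F369798) F369797 F369795 (iv3 F439580) F439582 (iv5 D190030) F147237 F142186 (iv1 F76695) (iv5 F83212) (iv4 F147479) (iv3 F149818) (iv1 F149821) D97121 D190993 F381828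
def n214804 : Q := act 6 n162613
theorem D214804 : act 6 n162613 = n214804 := rfl
theorem F476934 : act 5 n214804 = n188960 := d12_1 D214804 F476879 (iv5 D214793) F256823 D162613
theorem F476935 : act 0 n204720 = n188962 := d21_10 (iv5 D188962) D188960 (iv5 F476934) (iv6 D214804) F303397 F433363 F433361 (iv1 D124256) D124258 D204720
def n214805 : Q := act 4 n162624
theorem D214805 : act 4 n162624 = n214805 := rfl
theorem F476936 : act 2 n214805 = n213775 := d1_1 D214805 (iv4 D213775) (iv2 F366506)
theorem F476937 : act 7 n214805 = n173365 := d11_2 (iv7 F303410) D214805 (iv4 D173365)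
theorem F476938 : act 1 n214805 = n214441 := d18_6 (iv1 F307640) (iv4 F311721) (iv1 F310886) F302305 D162624 D214805 F475195 (iv0 F440209) (iv5 D206316)
theorem F476939 : act 6 n214805 = n174813 := d21_5 D203412 (iv1 F475193) (iv5 D214440) D214441 (iv1 F476938) (iv5 D174813) F339166 D154577 F428180 (iv1 D203410)
def n214806 : Q := act 6 n162624
theorem D214806 : act 6 n162624 = n214806 := rfl
theorem F476940 : act 2 n214806 = n162803 := d3_1 D214806 F366508 (iv2 F366506)
theorem F476941 : act 3 n214806 = n162629 := d7_1 D214806 (iv6 D162629) (iv3 F256856)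
theorem F476942 : act 4 n214806 = n174813 := d10_1 D214806 (iv6 F476939) (iv4 D214805)
theorem F476943 : act 5 n214806 = n162801 := d12_1 D214806 F320350 F128625 F302234 D162624
theorem F476944 : act 7 n214806 = n175717 := d14_2 (iv7 F303410) D214806 (iv6 D175717) F286953 (iv6 F306790)
theorem F476945 : act 0 n214806 = n177603 := d21_4 (iv5 F337515) F337511 D162624 D214806 F345849 (iv5 F346570) (iv1 F311542) F250318 D179602 (iv1 F344773)
theorem F476946 : act 0 n177622 = n214806 := d21_4 F223088 (iv1 F324723) F324727 (iv6 F344778) (iv6 D214806) (iv5 D162624) (iv1 F337523) F337526 F337530 F325512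
def n214807 : Q := act 5 n162635
theorem D214807 : act 5 n162635 = n214807 := rfl
theorem F476947 : act 3 n214807 = n162636 := d6_1 D214807 (iv5 D162636) D162635
theorem F476948 : act 7 n214807 = n194159 := d13_2 (iv7 F302204) D214807 (iv5 D194159)
theorem F476949 : act 4 n214807 = n190844 := d16_2 F406090 D214807 (iv5 D190844) (iv4 F347828) F229436 (iv4 F405276) F406096 (iv7 F412507) F412501
theorem F476950 : act 0 n214807 = n187345 := d21_1 D214807 F369902 (iv6 F354535) F220401 (iv6 F349712) (iv5 F411023) F411026 D212614 F466702 (iv1 F392205)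
def n214808 : Q := act 6 n162636
theorem D214808 : act 6 n162636 = n214808 := rfl
theorem F476951 : act 4 n214808 = n175034 := d10_1 D214808 (iv6 D175034) (iv4 F302208)
theorem F476952 : act 5 n214808 = n204386 := d12_1 D214808 F432338 F390522 F323918 D162636
def n214809 : Q := act 5 n162652
theorem D214809 : act 5 n162652 = n214809 := rfl
theorem F476953 : act 2 n214809 = n190109 := d2_1 D214809 (iv5 F394856) (iv2 F394857)
theorem F476954 : act 3 n214809 = n162653 := d6_1 D214809 (iv5 D162653) D162652
theorem F476955 : act 7 n214809 = n190110 := d13_2 (iv7 F394626) D214809 (iv5 F394625)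
theorem F476956 : act 4 n214809 = n190154 := d16_2 F430928 D214809 F378996 F169856 D125969 D205438 (iv5 F436426) (iv7 F459692) F459689
theorem F476957 : act 1 n214809 = n190111 := d17_6 (iv1 F412506) (iv5 F360138) (iv1 F459670) (iv5 F459673) F430928 D214809 F392209 F392206 (iv4 F412503)
theorem F476958 : act 0 n214809 = n187216 := d21_1 D214809 F369543 (iv6 F378303) F378304 F362620 D214721 (iv1 F476535) F476427 F394878 (iv1 F394864)
theorem F476959 : act 6 n198699 = n214809 := d21_5 (iv5 D199895) F174002 D198380 (iv6 F408186) (iv1 F408927) (iv5 D214809) F365703 (iv5 F369902) F369903 (iv1 F414027)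
def n214810 : Q := act 6 n162653
theorem D214810 : act 6 n162653 = n214810 := rfl
theorem F476960 : act 3 n214810 = n198699 := d7_1 D214810 F476959 F476954
def n214811 : Q := act 2 n162657
theorem D214811 : act 2 n162657 = n214811 := rfl
theorem F476961 : act 3 n214811 = n194485 := d0_2 D162657 D214811 (iv2 F394622) F394623 (iv2 F300462)
theorem F476962 : act 4 n214811 = n200210 := d1_2 F377758 D214811 (iv2 F415524)
theorem F476963 : act 5 n214811 = n190281 := d2_2 F475718 D214811 (iv2 F475715)
theorem F476964 : act 6 n214811 = n176679 := d3_2 (iv6 F303302) D214811 (iv2 D176679)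
theorem F476965 : act 1 n214811 = n198681 := d15_0 (iv0 F434037) F434036 D214811
theorem F476966 : act 1 n200579 = n214811 := d15_0 F476965 (iv7 F435762) F435759
def n214812 : Q := act 6 n162660
theorem D214812 : act 6 n162660 = n214812 := rfl
theorem F476967 : act 3 n214812 = n163966 := d7_1 D214812 (iv6 F409383) F409382
theorem F476968 : act 4 n214812 = n163972 := d10_1 D214812 (iv6 F476901) F476900
theorem F476969 : act 7 n214812 = n190131 := d14_2 (iv7 F301426) D214812 (iv6 D190131) (iv7 F378866) F378865
def n214813 : Q := act 5 n162666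
theorem D214813 : act 5 n162666 = n214813 := rfl
theorem F476970 : act 2 n214813 = n162667 := d2_1 D214813 (iv5 D162667) D162666
theorem F476971 : act 3 n214813 = n214214 := d6_1 D214813 F474026 F441347
theorem F476972 : act 4 n214813 = n211457 := d9_1 D214813 F461625 (iv4 D153616) (iv5 F109547) (iv4 F206279) F317564 (iv4 F256908) F303296 (iv4 F461617) F461616 (iv4 D153613) D153614 F340261 (iv5 D162692) (iv4 F256904)
theorem F476973 : act 7 n214813 = n214212 := d13_2 F378041 D214813 (iv5 F474016)
theorem F476974 : act 0 n214813 = n190847 := d17_2 F358723 D214813 F381313 F362491 F344689 (iv0 D167794) (iv5 F241418) (iv0 D153594) (iv4 F358725)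
def n214814 : Q := act 6 n162667
theorem D214814 : act 6 n162667 = n214814 := rfl
theorem F476975 : act 3 n214814 = n162672 := d7_1 D214814 (iv6 D162672) (iv3 F256906)
theorem F476976 : act 5 n214814 = n166712 := d12_1 D214814 (iv6 D166712) (iv5 D80013) (iv6 F119315) D162667
def n214815 : Q := act 6 n162671
theorem D214815 : act 6 n162671 = n214815 := rfl
theorem F476977 : act 2 n214815 = n212192 := d3_1 D214815 F464704 (iv2 F302244)
theorem F476978 : act 3 n214815 = n205492 := d7_1 D214815 F436678 F401112
theorem F476979 : act 4 n214815 = n162672 := d10_1 D214815 (iv6 D162672) D162671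
theorem F476980 : act 5 n214815 = n205488 := d12_1 D214815 (iv6 D205488) F202852 (iv6 F343460) (iv5 F302245)
def n214816 : Q := act 0 n162672
theorem D214816 : act 0 n162672 = n214816 := rfl
def n214817 : Q := act 1 n162672
theorem D214817 : act 1 n162672 = n214817 := rfl
def n214818 : Q := act 7 n162672
theorem D214818 : act 7 n162672 = n214818 := rfl
theorem F476981 : act 5 n214818 = n166715 := d13_1 D214818 (iv7 D166715) (iv5 F256910)
def n214819 : Q := act 2 n162711
theorem D214819 : act 2 n162711 = n214819 := rfl
theorem F476982 : act 3 n214819 = n162758 := d0_2 D162711 D214819 (iv2 D162758) (iv3 D78217) (iv2 F119395)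
theorem F476983 : act 4 n214819 = n196636 := d1_2 F330151 D214819 F401277
theorem F476984 : act 5 n214819 = n196639 := d2_2 (iv5 F365218) D214819 F401292
theorem F476985 : act 6 n214819 = n200956 := d3_2 F356158 D214819 F418491
theorem F476986 : act 7 n214819 = n198086 := d4_2 (iv7 F356157) D214819 F406732
theorem F476987 : act 1 n214819 = n196644 := d15_0 F401310 (iv7 F356157) D214819
theorem F476988 : act 1 n196629 = n214819 := d15_0 F476987 F415156 F415151
def n214820 : Q := act 6 n162712
theorem D214820 : act 6 n162712 = n214820 := rfl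
theorem F476989 : act 2 n214820 = n162763 := d3_1 D214820 (iv6 D162763) (iv2 F256944)
theorem F476990 : act 3 n214820 = n212160 := d7_1 D214820 (iv6 D212160) F365219
theorem F476991 : act 0 n214820 = n194636 := d21_4 (iv5 D158840) F299498 D162712 D214820 (iv6 D194636) F294884 (iv1 F295352) F357428 F357425 (iv1 F302222)
def n214821 : Q := act 0 n162745
theorem D214821 : act 0 n162745 = n214821 := rfl
theorem F476992 : act 3 n214821 = n194924 := d20_5 (iv4 D35654) D35652 D78207 D162745 D214821 F395022 (iv1 F160488) F358397 (iv3 D162753) (iv1 D78216)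
theorem F476993 : act 1 n207153 = n214821 := d15_0 (iv0 D214821) (iv7 F430043) (iv2 F443543)
theorem F476994 : act 2 n205313 = n214821 := d0_5 F476992 F395021 (iv3 F435253) F435252 D205313
theorem F476995 : act 6 n214724 = n214821 := d7_0 F476992 F395023 (iv3 F476547)
theorem F476996 : act 7 n194921 = n214821 := d8_0 F476992 (iv7 D194924) (iv3 F395009)
def n214822 : Q := act 1 n162745
theorem D214822 : act 1 n162745 = n214822 := rfl
theorem F476997 : act 1 n214822 = n207153 := d15_1 D214822 F443545 F425841
theorem F476998 : act 7 n214822 = n205313 := d15_2 (iv0 D214821) D214822 F476994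
theorem F476999 : act 3 n205314 = n214822 := d19_19 (iv1 D214822) F359250 F219350 (iv3 F396998) (iv1 F432113) (iv5 F463560) F463559 F393809 D194612 F393834 (iv4 F471394) F471393 (iv1 F385571) (iv5 F352336) F325664 (iv3 F341722) (iv1 F201940) (iv5 F202238) (iv4 F435903)
theorem F477000 : act 5 n212177 = n214822 := d21_6 (iv5 D51643) D51640 (iv5 F99664) D136285 D209301 (iv6 F464632) (iv1 D214822) F359250 (iv6 D136291) F99673
theorem F477001 : act 6 n194158 = n214822 := d21_5 F466307 F464966 (iv5 F379117) F378316 (iv1 F392206) (iv5 F477000) F464627 F453127 F382044 F466311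
theorem F477002 : act 2 n214822 = n194921 := d3_1 F477001 (iv6 D194921) F392208
def n214823 : Q := act 6 n162751
theorem D214823 : act 6 n162751 = n214823 := rfl
theorem F477003 : act 2 n214823 = n214348 := d3_1 D214823 (iv6 D214348) F302219
theorem F477004 : act 3 n214823 = n198625 := d7_1 D214823 (iv6 F408596) F348126
theorem F477005 : act 5 n214823 = n198624 := d12_1 D214823 F408591 (iv5 D158810) (iv6 F301561) D162751
def n214824 : Q := act 5 n162757
theorem D214824 : act 5 n162757 = n214824 := rfl
theorem F477006 : act 2 n214824 = n196973 := d2_1 D214824 (iv5 F430047) (iv2 F430056)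
theorem F477007 : act 3 n214824 = n198612 := d6_1 D214824 (iv5 F408742) F430057
theorem F477008 : act 6 n214824 = n205099 := d12_2 (iv6 F445013) D214824 F434972 F445651 F445648
theorem F477009 : act 7 n214824 = n196969 := d13_2 (iv7 F430054) D214824 (iv5 F430053)
theorem F477010 : act 0 n214824 = n177583 := d17_2 (iv1 F430063) D214824 (iv5 D177583) (iv4 D84588) D84589 (iv0 F336594) (iv5 D162819) F193078 (iv4 F430059)
theorem F477011 : act 4 n214824 = n196965 := d18_5 F430082 (iv4 F415412) F433787 F433785 D214824 F402460 F359499 D194467 (iv5 F430081)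
theorem F477012 : act 0 n188388 = n214824 := d21_1 (iv5 F373256) (iv5 D214824) F445013 (iv1 D203870) (iv6 D121144) D121143 (iv1 F262401) (iv5 D166705) D166706 F353260
def n214825 : Q := act 5 n162758
theorem D214825 : act 5 n162758 = n214825 := rfl
theorem F477013 : act 2 n214825 = n162759 := d2_1 D214825 (iv5 D162759) D162758
theorem F477014 : act 3 n214825 = n196639 := d6_1 D214825 (iv5 F476984) F476982
theorem F477015 : act 7 n214825 = n212159 := d13_2 F430061 D214825 F464551
theorem F477016 : act 1 n214825 = n194647 := d17_6 (iv1 F333960) (iv5 F231458) F333976 (iv5 D162821) (iv4 F256985) D214825 F393943 F353261 (iv4 D84588)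
theorem F477017 : act 6 n214825 = n194623 := d21_3 (iv5 F430047) (iv1 F430045) D214825 (iv1 D194623) (iv6 D103874) F75555 (iv1 F292165) (iv5 F293229) (iv6 F357426) F402492
def n214826 : Q := act 4 n162759
theorem D214826 : act 4 n162759 = n214826 := rfl
theorem F477018 : act 5 n214826 = n193238 := d16_1 D214826 F389277 F381535 (iv4 F336607) F336608 (iv4 F430059) (iv5 F464551) (iv7 F477015) F477013
theorem F477019 : act 0 n214826 = n212535 := d18_2 F476618 D214826 (iv4 D212535) (iv5 D147707) F105504 (iv0 F336338) (iv4 F119584) (iv0 F353254) D214742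
def n214827 : Q := act 6 n162759
theorem D214827 : act 6 n162759 = n214827 := rfl
theorem F477020 : act 2 n214827 = n194623 := d3_1 D214827 (iv6 F477017) F477013
theorem F477021 : act 3 n214827 = n162763 := d7_1 D214827 (iv6 D162763) (iv3 F256986)
theorem F477022 : act 0 n214827 = n190880 := d21_4 (iv5 D214824) (iv1 D162757) D162759 D214827 F381429 (iv5 D97006) (iv1 F292247) D91287 D188388 F477012
theorem F477023 : act 0 n194624 = n214827 := d21_4 (iv5 D190326) F354595 D109257 (iv6 F393859) (iv6 D214827) (iv5 D162759) D162756 (iv5 F455358) F455359 F408506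
theorem F477024 : act 7 n194622 = n214827 := d8_0 F477021 (iv7 F390144) F393856
def n214828 : Q := act 0 n162763
theorem D214828 : act 0 n162763 = n214828 := rfl
theorem F477025 : act 4 n214828 = n212916 := d20_2 F388078 D214828 F468106 (iv1 F362321) F226492 F103256 (iv1 F168236) (iv4 F224148) (iv3 F460435) (iv1 F460438)
theorem F477026 : act 6 n214828 = n192846 := d21_5 (iv5 D162754) (iv1 D78216) D78218 D162763 D214828 F387995 (iv1 F367118) (iv5 D100885) (iv6 F154928) F356140
theorem F477027 : act 2 n194636 = n214828 := d3_3 F477026 (iv2 F387998) D194636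
theorem F477028 : act 3 n203268 = n214828 := d7_3 F477026 F387997 D203268
def n214829 : Q := act 1 n162763
theorem D214829 : act 1 n162763 = n214829 := rfl
theorem F477029 : act 7 n214829 = n194636 := d15_2 (iv0 D214828) D214829 F477027
theorem F477030 : act 3 n206333 = n214829 := d20_9 (iv4 F388078) (iv1 D192875) (iv4 F388076) (iv3 F453193) (iv1 F453196) (iv3 D206335) (iv4 D128290) D128288 D206333 (iv1 D214829)
def n214830 : Q := act 3 n162789
theorem D214830 : act 3 n162789 = n214830 := rfl
theorem F477031 : act 5 n214830 = n204836 := d6_2 F409507 D214830 F433765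
theorem F477032 : act 6 n214830 = n163841 := d7_2 (iv6 F359358) D214830 (iv3 D163841)
theorem F477033 : act 7 n214830 = n174160 := d8_2 F409734 D214830 (iv3 F409738)
theorem F477034 : act 0 n214830 = n174065 := d19_4 F444972 F444835 F444833 D214830 (iv5 F402019) (iv4 D196843) D196842 (iv1 F412400) (iv5 D199497) (iv4 D111369) F170917 (iv1 F168834) F168831 (iv4 F183126) (iv3 F364899) (iv1 F389910) F389914 (iv4 F358071) (iv3 F444969)
theorem F477035 : act 4 n214830 = n214614 := d20_6 (iv4 D17289) D17287 D35668 D78257 D162789 D214830 (iv1 D214614) F305000 (iv3 D78263) (iv1 D35672)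
theorem F477036 : act 0 n173242 = n214830 := d20_4 (iv4 F119413) D162756 (iv4 F466215) F466214 (iv3 D214830) (iv4 F444833) (iv1 D207424) (iv4 F210805) F336596 (iv1 D78266)
theorem F477037 : act 2 n174159 = n214830 := d1_3 F477035 (iv2 F476055) (iv4 F393025)
def n214831 : Q := act 6 n162812
theorem D214831 : act 6 n162812 = n214831 := rfl
theorem F477038 : act 2 n214831 = n173411 := d3_1 D214831 F353247 (iv2 F349867)
theorem F477039 : act 3 n214831 = n162815 := d7_1 D214831 (iv6 D162815) D162812
theorem F477040 : act 4 n214831 = n202370 := d10_1 D214831 F423796 (iv4 F272998)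
theorem F477041 : act 5 n214831 = n172017 := d12_1 D214831 F270073 (iv5 F332367) F207868 F349866
theorem F477042 : act 7 n214831 = n172016 := d14_2 (iv7 F349868) D214831 (iv6 F368271) (iv7 F438947) (iv6 D206035)
theorem F477043 : act 0 n214831 = n173338 := d21_4 F351045 F171830 F349866 D214831 F340651 F175075 (iv1 F84780) D69203 D147664 (iv1 F351042)
theorem F477044 : act 0 n173408 = n214831 := d21_4 (iv5 D152191) D152189 (iv5 F353489) (iv6 F358672) (iv6 D214831) (iv5 F349866) (iv1 F176276) D200460 F416524 (iv1 F395180)
def n214832 : Q := act 1 n162813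
theorem D214832 : act 1 n162813 = n214832 := rfl
theorem F477045 : act 1 n214832 = n162818 := d15_1 D214832 (iv7 F430080) F430078
theorem F477046 : act 7 n214832 = n198402 := d15_2 F354192 D214832 F407896
theorem F477047 : act 3 n205502 = n214832 := d19_19 (iv1 D214832) (iv5 F392988) D194589 F393769 (iv1 F389810) (iv5 F459931) F459932 (iv3 D196624) (iv1 D107147) F331789 (iv4 F101679) F101678 (iv1 F78433) (iv5 F92976) (iv4 F176522) F402647 F417633 (iv5 F435766) (iv4 F436730)
theorem F477048 : act 4 n167765 = n214832 := d20_6 F409532 (iv1 F408287) (iv4 F345350) F354777 (iv1 D167780) (iv3 F264128) (iv1 D214832) (iv4 D162813) D162812 (iv1 F409535)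
theorem F477049 : act 6 n167764 = n214832 := d21_3 (iv5 F147505) D190303 F379328 (iv1 D214832) (iv6 F393490) (iv5 F394897) (iv1 F394900) (iv5 F408566) F408562 (iv1 D189885)
theorem F477050 : act 5 n205501 = n214832 := d21_6 (iv5 D189937) D189935 (iv5 F410916) (iv6 F410917) (iv1 F393704) (iv6 F436727) (iv1 D214832) (iv5 F392988) D194590 (iv1 F393773)
theorem F477051 : act 2 n214832 = n198404 := d3_1 F477049 F407902 F344635
def n214833 : Q := act 0 n162894
theorem D214833 : act 0 n162894 = n214833 := rfl
theorem F477052 : act 5 n214833 = n177422 := d17_1 D214833 (iv1 D177422) D177424 F358234 F349714 (iv0 F395101) F395099 (iv0 F365841) F366962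
theorem F477053 : act 4 n214833 = n194799 := d20_2 F366962 D214833 F394517 (iv1 F271623) (iv3 F273060) F357678 (iv1 D147562) (iv4 F205071) (iv3 F220402) F357680
theorem F477054 : act 2 n194806 = n214833 := d15_3 (iv0 D214833) (iv0 F435230) F435228
theorem F477055 : act 1 n177456 = n214833 := d15_0 (iv0 D214833) (iv7 F429996) F429993
theorem F477056 : act 6 n214833 = n194798 := d3_2 D194806 F477054 F394512
def n214834 : Q := act 5 n162904
theorem D214834 : act 5 n162904 = n214834 := rfl
theorem F477057 : act 3 n214834 = n162905 := d6_1 D214834 (iv5 D162905) D162904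
theorem F477058 : act 4 n214834 = n174129 := d9_1 D214834 F417528 (iv4 D200694) F362140 F333030 (iv5 D174904) (iv4 F333027) D206623 F441628 F418198 (iv4 D200692) F406044 (iv4 F406042) F406043 F306131
theorem F477059 : act 6 n214834 = n181228 := d12_2 F364150 D214834 (iv5 F466431) F466435 F436770
theorem F477060 : act 7 n214834 = n210962 := d13_2 (iv7 F345580) D214834 F459508
theorem F477061 : act 0 n214834 = n212186 := d18_0 F464671 F412414 F406113 (iv5 F435442) F435441 (iv0 F413930) (iv4 F435481) F435484 D214834
def n214835 : Q := act 1 n162909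
theorem D214835 : act 1 n162909 = n214835 := rfl
theorem F477062 : act 1 n214835 = n196635 := d15_1 D214835 F401276 F365214
theorem F477063 : act 7 n214835 = n198084 := d15_2 (iv0 F436865) D214835 (iv2 F436860)
theorem F477064 : act 5 n214835 = n163019 := d17_7 (iv1 F129748) (iv5 F341867) (iv1 D162960) (iv5 D78352) (iv4 F119523) D162909 D214835 F276997 (iv4 D177556)
theorem F477065 : act 4 n214835 = n204777 := d18_7 F471399 F452934 (iv1 F393830) F406819 (iv5 D198104) F365215 D214835 (iv0 D204777) (iv5 F393353)
theorem F477066 : act 6 n207113 = n214835 := d21_3 D195052 F445080 F445078 (iv1 D214835) F365213 D198080 F406714 (iv5 F386117) F405937 (iv1 D195051)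
theorem F477067 : act 2 n198085 = n214835 := d2_3 F477064 (iv2 F357786) (iv5 F406731)
def n214836 : Q := act 5 n162910
theorem D214836 : act 5 n162910 = n214836 := rfl
theorem F477068 : act 2 n214836 = n198083 := d2_1 D214836 (iv5 F435115) F435113
theorem F477069 : act 3 n214836 = n162916 := d6_1 D214836 (iv5 D162916) (iv3 F257226)
theorem F477070 : act 4 n214836 = n205223 := d9_1 D214836 (iv5 F435499) (iv4 F377852) (iv5 F394152) F416573 (iv5 D200467) (iv4 F202157) D205268 F435683 F366009 F267344 F293587 (iv4 F329733) F318577 (iv4 F257227)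
theorem F477071 : act 6 n214836 = n198080 := d12_2 D162910 D214836 (iv5 D198080) (iv6 F365213) (iv5 D162909)
theorem F477072 : act 7 n214836 = n205471 := d13_2 F280898 D214836 F436596
theorem F477073 : act 0 n214836 = n198891 := d17_2 F373497 D214836 F409769 (iv4 F416640) F416641 (iv0 D189179) D189181 (iv0 F375976) (iv4 F373495)
def n214837 : Q := act 0 n162949
theorem D214837 : act 0 n162949 = n214837 := rfl
theorem F477074 : act 5 n214837 = n177015 := d17_1 D214837 F406811 (iv5 D126210) F328589 (iv5 F341867) F277122 F277118 F193010 D162949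
theorem F477075 : act 4 n214837 = n214332 := d18_1 D214837 F474612 F467668 (iv5 F464659) (iv4 F476037) (iv0 F476041) F457618 (iv0 F441608) (iv5 F418217)
theorem F477076 : act 3 n214837 = n177449 := d20_5 F406122 D197890 (iv4 F418243) F418241 D214837 (iv4 F342119) F318838 (iv4 F273710) (iv3 F441630) (iv1 F441633)
theorem F477077 : act 2 n177016 = n214837 := d15_3 (iv0 D214837) F435395 F435393
theorem F477078 : act 1 n162954 = n214837 := d15_0 (iv0 D214837) (iv7 F430028) F430026
theorem F477079 : act 7 n214837 = n200519 := d15_2 (iv0 F435394) F477078 (iv2 F435389)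
theorem F477080 : act 6 n200635 = n214837 := d14_5 F477079 (iv6 D200519) F375975 F363257 (iv7 F417308)
def n214838 : Q := act 5 n162954
theorem D214838 : act 5 n162954 = n214838 := rfl
theorem F477081 : act 2 n214838 = n203946 := d2_1 D214838 F430526 F430026
theorem F477082 : act 3 n214838 = n200704 := d6_1 D214838 F417563 F348408
theorem F477083 : act 4 n214838 = n199538 := d9_1 D214838 F412578 (iv4 D194599) D194600 F393787 (iv5 D162950) D162949 F418217 F418216 (iv5 F406834) (iv4 D194604) D194605 F393792 (iv5 D162955) D162954
theorem F477084 : act 6 n214838 = n180033 := d12_2 (iv6 F357896) D214838 F280416 F297532 D181133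
theorem F477085 : act 7 n214838 = n199536 := d13_2 F409777 D214838 F412569
theorem F477086 : act 0 n214838 = n177331 := d17_2 (iv1 F477078) D214838 (iv5 F436770) (iv4 F466438) (iv5 F471386) (iv0 D213634) (iv5 F467669) (iv0 F474612) (iv4 F477075)
theorem F477087 : act 1 n214838 = n206619 := d17_6 (iv1 F129743) D163043 (iv1 F348424) (iv5 D162955) D162954 D214838 F441607 (iv0 F430128) F338326
def n214839 : Q := act 6 n162960
theorem D214839 : act 6 n162960 = n214839 := rfl
theorem F477088 : act 2 n214839 = n212520 := d3_1 D214839 F466227 (iv2 F341866)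
theorem F477089 : act 4 n214839 = n194392 := d10_1 D214839 (iv6 D194392) (iv4 F390202)
theorem F477090 : act 5 n214839 = n205511 := d12_1 D214839 (iv6 D205511) (iv5 D126203) (iv6 F329021) (iv5 F341867)
theorem F477091 : act 7 n214839 = n212539 := d14_2 (iv7 F341868) D214839 F466335 F352004 (iv6 F262275)
theorem F477092 : act 0 n214839 = n203161 := d21_4 (iv5 D177557) (iv1 F129748) (iv5 F341867) D214839 F427237 (iv5 D128096) F131196 D60309 D128291 F341635
theorem F477093 : act 0 n212497 = n214839 := d21_4 F392724 (iv1 F212648) (iv5 F437960) (iv6 F466094) (iv6 D214839) F341867 (iv1 D78397) D78399 (iv6 F321550) (iv1 F392726)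
def n214840 : Q := act 4 n163046
theorem D214840 : act 4 n163046 = n214840 := rfl
theorem F477094 : act 2 n214840 = n194600 := d1_1 D214840 F393787 (iv2 F348422)
theorem F477095 : act 3 n214840 = n200417 := d5_1 D214840 F416345 (iv3 F464584) F464585 F415367
theorem F477096 : act 5 n214840 = n194472 := d9_2 F348414 D214840 (iv4 F406905) (iv5 F406906) (iv4 F430525) F430526 (iv4 D203834) (iv5 F341634) (iv4 F440310) F440311 (iv4 F406898) F406897 (iv4 F412568) F412569 F409775
theorem F477097 : act 6 n214840 = n212171 := d10_2 F440325 D214840 F464606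
theorem F477098 : act 7 n214840 = n194605 := d11_2 (iv7 F348418) D214840 F393792
theorem F477099 : act 0 n202418 = n214840 := d20_10 (iv4 D214840) (iv1 D163046) D163047 (iv3 F366320) D202708 (iv3 F425222) F416051 (iv1 D115718) D115719 D202418
def n214841 : Q := act 5 n163047
theorem D214841 : act 5 n163047 = n214841 := rfl
theorem F477100 : act 2 n214841 = n194635 := d2_1 D214841 (iv5 F440526) F440523
theorem F477101 : act 3 n214841 = n202709 := d6_1 D214841 (iv5 D202709) F366320
theorem F477102 : act 4 n214841 = n196851 := d9_1 D214841 (iv5 F412409) F412405 (iv5 F332896) (iv4 D177556) D177557 (iv4 F389963) (iv5 F389966) (iv4 F389955) D196770 F401739 (iv5 D163021) F119595 D78399 D163047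
theorem F477103 : act 6 n214841 = n194475 := d12_2 (iv6 F366319) D214841 (iv5 F393367) (iv6 D191243) F355424
theorem F477104 : act 7 n214841 = n199161 := d13_2 F277011 D214841 F410949
theorem F477105 : act 1 n214841 = n211704 := d17_6 (iv1 F277122) F341867 (iv1 D78397) D78399 D163047 D214841 F462772 F443679 F443675
def n214842 : Q := act 3 n163061
theorem D214842 : act 3 n163061 = n214842 := rfl
theorem F477106 : act 2 n214842 = n199457 := d0_1 D214842 F412273 (iv2 F412263) (iv3 F430088) F430085
theorem F477107 : act 4 n214842 = n198703 := d5_2 D163061 D214842 F408935 (iv4 F336520) F336519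
theorem F477108 : act 6 n214842 = n198702 := d7_2 F465934 D214842 (iv3 F465933)
theorem F477109 : act 7 n214842 = n205070 := d8_2 (iv7 F339263) D214842 F434861
theorem F477110 : act 0 n194965 = n214842 := d20_4 F431799 (iv1 D160837) (iv4 F343707) (iv3 F395204) (iv3 D214842) (iv4 D163061) (iv1 F193108) (iv4 F353963) (iv3 F430777) (iv1 F431796)
theorem F477111 : act 5 n214842 = n163061 := d17_3 F400884 F395206 F477110 (iv4 D163061) D163062 F339266 F119633 D84566 D177517
def n214843 : Q := act 4 n163062
theorem D214843 : act 4 n163062 = n214843 := rfl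
theorem F477112 : act 2 n214843 = n213828 := d1_1 D214843 (iv4 D213828) F353967
theorem F477113 : act 7 n214843 = n205076 := d11_2 (iv7 F339264) D214843 (iv4 D205076)
def n214844 : Q := act 1 n163073
theorem D214844 : act 1 n163073 = n214844 := rfl
theorem F477114 : act 1 n214844 = n210955 := d15_1 D214844 F459471 (iv2 F351057)
theorem F477115 : act 7 n214844 = n210956 := d15_2 (iv0 F431771) D214844 F459477
theorem F477116 : act 5 n214844 = n198011 := d17_7 (iv1 F199104) F353880 (iv1 D163075) (iv5 D78410) D78409 D163073 D214844 F406502 F276950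
theorem F477117 : act 4 n214844 = n207153 := d17_9 (iv1 F476997) (iv5 F477000) F464627 F453127 (iv4 F363325) F363323 F353988 D163073 D214844
theorem F477118 : act 2 n177496 = n214844 := d1_3 F477117 F443543 F430041
def n214845 : Q := act 4 n163074
theorem D214845 : act 4 n163074 = n214845 := rfl
theorem F477119 : act 6 n214845 = n214772 := d10_2 (iv6 F364287) D214845 (iv4 D214772)
theorem F477120 : act 7 n214845 = n195491 := d11_2 F341246 D214845 (iv4 F397132)
theorem F477121 : act 5 n214845 = n195492 := d16_1 D214845 F397133 (iv5 F408763) F408762 (iv5 F433797) (iv4 D204842) F353880 F353972 F341245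
theorem F477122 : act 0 n214845 = n210173 := d18_2 D163074 D214845 F456463 (iv5 D177632) D177631 (iv0 F277091) (iv4 D163061) (iv0 D78406) D78410
def n214846 : Q := act 0 n163076
theorem D214846 : act 0 n163076 = n214846 := rfl
theorem F477123 : act 4 n214846 = n193415 := d18_3 (iv1 D163075) D163076 D214846 F409549 F409547 (iv0 F406048) F366060 D124475 F353880
theorem F477124 : act 5 n214846 = n197262 := d19_1 D214846 F403778 F209131 F95724 D107487 D196945 (iv3 F402415) F341723 D177449 (iv4 F342119) F444830 (iv1 F444829) F342338 (iv4 D177188) (iv3 F333728) F333662 (iv5 F315121) (iv4 F404107) F404106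
theorem F477125 : act 6 n214846 = n193414 := d21_5 (iv5 F434685) (iv1 F403701) F366393 (iv6 F316252) D214846 F403956 (iv1 F456456) F456454 F396921 (iv1 F434680)
theorem F477126 : act 1 n195320 = n214846 := d15_0 (iv0 D214846) (iv7 F430093) F430090
theorem F477127 : act 3 n197264 = n214846 := d6_3 F477124 F403777 D197264
def n214847 : Q := act 5 n163076
theorem D214847 : act 5 n163076 = n214847 := rfl
theorem F477128 : act 3 n214847 = n202407 := d6_1 D214847 F423888 F404106
theorem F477129 : act 1 n214847 = n211930 := d17_6 (iv1 F339261) (iv5 D160588) F339259 D78410 D163076 D214847 (iv5 D211930) D211929 F463622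
def n214848 : Q := act 3 n163092
theorem D214848 : act 3 n163092 = n214848 := rfl
theorem F477130 : act 5 n214848 = n209931 := d6_2 F433780 D214848 F455406
theorem F477131 : act 6 n214848 = n200006 := d7_2 F351036 D214848 (iv3 D200006)
theorem F477132 : act 7 n214848 = n174238 := d8_2 (iv7 F351037) D214848 F364248
theorem F477133 : act 0 n214848 = n174240 := d20_4 F351055 (iv1 F338768) D163092 D214848 F358245 F253992 (iv1 F334241) F336541 F276248 (iv1 F353251)
theorem F477134 : act 0 n173254 = n214848 := d20_4 F59905 D41391 (iv4 F127738) D173254 (iv3 D214848) (iv4 D163092) (iv1 D78415) D78417 F119616 (iv1 F119073)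
theorem F477135 : act 2 n174239 = n214848 := d3_3 F477131 F414584 (iv6 F395702)
def n214849 : Q := act 1 n163137
theorem D214849 : act 1 n163137 = n214849 := rfl
theorem F477136 : act 1 n214849 = n163154 := d15_1 D214849 (iv7 F434583) F434580
theorem F477137 : act 4 n214849 = n175126 := d18_7 D125981 F202660 F327216 (iv4 D78425) D78426 D163137 D214849 (iv0 F366441) (iv5 D125983)
theorem F477138 : act 2 n211346 = n214849 := d1_3 F477137 (iv2 F409555) (iv4 F461218)
theorem F477139 : act 6 n175125 = n214849 := d10_0 F477137 (iv6 D175126) (iv4 F274105)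
def n214850 : Q := act 5 n163145
theorem D214850 : act 5 n163145 = n214850 := rfl
theorem F477140 : act 2 n214850 = n205063 := d2_1 D214850 (iv5 D205063) (iv2 F353262)
theorem F477141 : act 0 n214850 = n206299 := d17_2 D163145 D214850 F440139 F477048 (iv5 F477050) F476709 (iv5 D214763) F359602 F359601
theorem F477142 : act 4 n214850 = n184337 := d17_4 F470909 (iv5 D163149) D163145 D214850 F406421 (iv0 F460506) (iv5 D211184) (iv0 F373284) (iv4 F470907)
theorem F477143 : act 1 n214850 = n163180 := d17_6 (iv1 D203839) D203841 F430066 F393943 (iv4 F353263) D214850 (iv5 F354190) F415415 F430048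
def n214851 : Q := act 0 n163176
theorem D214851 : act 0 n163176 = n214851 := rfl
theorem F477144 : act 4 n214851 = n195059 := d18_3 D78436 D163176 D214851 (iv5 D195059) F161144 F327217 (iv4 D78425) (iv0 D35739) D35742
theorem F477145 : act 3 n214851 = n211017 := d20_5 F388897 (iv1 F308104) (iv4 F310133) (iv3 F342322) D214851 F459766 (iv1 F357169) (iv4 F389204) F389203 (iv1 F388895)
theorem F477146 : act 1 n163181 = n214851 := d15_0 (iv0 D214851) (iv7 F409670) F409668
theorem F477147 : act 6 n211015 = n214851 := d7_0 F477145 (iv6 D211017) D211015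
def n214852 : Q := act 1 n163176
theorem D214852 : act 1 n163176 = n214852 := rfl
theorem F477148 : act 1 n214852 = n163181 := d15_1 D214852 (iv7 F436452) F436451
theorem F477149 : act 4 n214852 = n198850 := d18_7 D110375 F170727 F169190 (iv4 F170766) F342299 D163176 D214852 (iv0 D198850) (iv5 D110377)
def n214853 : Q := act 6 n163187
theorem D214853 : act 6 n163187 = n214853 := rfl
theorem F477150 : act 2 n214853 = n210897 := d3_1 D214853 (iv6 D210897) (iv2 F351859)
def n214854 : Q := act 5 n163188
theorem D214854 : act 5 n163188 = n214854 := rfl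
def n214855 : Q := act 4 n163191
theorem D214855 : act 4 n163191 = n214855 := rfl
theorem F477151 : act 3 n214855 = n197632 := d5_1 D214855 F405109 (iv3 F448798) F448799 F435948
theorem F477152 : act 5 n214855 = n196671 := d9_2 F348489 D214855 F401430 F391205 F383404 F354848 F352286 F352282 (iv4 F411296) (iv5 D199243) F172313 D137891 (iv4 F354815) F354816 (iv4 F231093)
theorem F477153 : act 6 n214855 = n197631 := d10_2 (iv6 F348490) D214855 F405107
theorem F477154 : act 7 n214855 = n198942 := d11_2 (iv7 F409490) D214855 (iv4 F410006)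
theorem F477155 : act 0 n196680 = n214855 := d20_10 (iv4 D214855) (iv1 D163191) (iv4 F257476) F366770 (iv1 F378709) F172181 D111034 (iv1 F401470) (iv4 D196681) D196680
def n214856 : Q := act 4 n163199
theorem D214856 : act 4 n163199 = n214856 := rfl
theorem F477156 : act 2 n214856 = n163200 := d1_1 D214856 (iv4 D163200) D163199
theorem F477157 : act 3 n214856 = n205991 := d5_1 D214856 F438725 F204311 (iv4 F338783) F338782
theorem F477158 : act 6 n214856 = n205990 := d10_2 F453407 D214856 (iv4 F453405)
theorem F477159 : act 7 n214856 = n211929 := d11_2 F353966 D214856 F463622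
theorem F477160 : act 5 n214856 = n195445 := d16_1 D214856 F408518 F408520 F406510 (iv5 D198012) F366060 F311449 F309233 D163199
theorem F477161 : act 0 n211926 = n214856 := d21_10 F477160 (iv1 D195445) D195446 F397007 D195453 F397035 (iv5 D139822) (iv1 F103710) D144425 D211926
theorem F477162 : act 1 n211931 = n214856 := d15_1 F463632 F477159 (iv2 F463623)
def n214857 : Q := act 0 n163200
theorem D214857 : act 0 n163200 = n214857 := rfl
theorem F477163 : act 2 n211931 = n214857 := d15_3 (iv0 D214857) (iv0 F463621) D211931
theorem F477164 : act 1 n211929 = n214857 := d15_0 (iv0 D214857) F366794 F463623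
theorem F477165 : act 7 n214857 = n211926 := d15_2 D211929 F477164 F463609
def n214858 : Q := act 6 n163200
theorem D214858 : act 6 n163200 = n214858 := rfl
theorem F477166 : act 2 n214858 = n205990 := d3_1 D214858 (iv6 F477158) F477156
theorem F477167 : act 3 n214858 = n203182 := d7_1 D214858 F427342 F366795
theorem F477168 : act 4 n214858 = n163201 := d10_1 D214858 (iv6 D163201) D163200
theorem F477169 : act 7 n214858 = n203180 := d14_2 (iv7 F366794) D214858 F427337 F185726 D155891
theorem F477170 : act 0 n206000 = n214858 := d18_0 F477168 F339293 D206296 F440124 (iv4 F462995) (iv0 F463006) D213930 (iv0 F472769) (iv5 F438778)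
def n214859 : Q := act 1 n163201
theorem D214859 : act 1 n163201 = n214859 := rfl
theorem F477171 : act 1 n214859 = n197101 := d15_1 D214859 (iv7 F453408) F453404
theorem F477172 : act 7 n214859 = n203657 := d15_2 (iv0 F339293) D214859 F429267
theorem F477173 : act 3 n174516 = n214859 := d20_3 (iv4 F473877) (iv1 F473881) F464382 (iv1 D214859) F257486 F307245 (iv1 F87458) D70970 D150560 F346542
theorem F477174 : act 4 n197416 = n214859 := d20_6 (iv4 F190931) (iv1 D72611) D72612 D153564 D213345 (iv3 F470035) (iv1 D214859) (iv4 F477168) F477167 (iv1 F427343)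
theorem F477175 : act 5 n204049 = n214859 := d21_0 (iv1 D214859) F339292 F339291 (iv1 F353899) F353903 F151494 (iv1 F88661) D73593 (iv6 F319369) F430897
theorem F477176 : act 6 n174514 = n214859 := d21_3 (iv5 F303502) F383272 F383271 (iv1 D214859) (iv6 D163201) F119633 D84565 D177513 F339275 F331741
theorem F477177 : act 2 n214859 = n203656 := d3_1 F477176 (iv6 F449822) F449820
def n214860 : Q := act 4 n163235
theorem D214860 : act 4 n163235 = n214860 := rfl
theorem F477178 : act 3 n214860 = n208534 := d5_1 D214860 (iv4 D208534) F216576 D134624 F338710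
theorem F477179 : act 6 n214860 = n189840 := d10_2 F377940 D214860 (iv4 D189840)
theorem F477180 : act 5 n214860 = n207545 := d17_5 (iv1 D166669) (iv5 F254107) F475751 F475750 D214860 (iv0 D207545) D207547 (iv0 F445397) (iv4 F397885)
def n214861 : Q := act 3 n163236
theorem D214861 : act 3 n163236 = n214861 := rfl
theorem F477181 : act 4 n214861 = n206068 := d5_2 F452127 D214861 F439092 (iv4 F354466) D209074
theorem F477182 : act 6 n214861 = n206067 := d7_2 F408091 D214861 F439087
theorem F477183 : act 7 n214861 = n194800 := d8_2 F430149 D214861 F430150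
def n214862 : Q := act 5 n163237
theorem D214862 : act 5 n163237 = n214862 := rfl
theorem F477184 : act 2 n214862 = n163238 := d2_1 D214862 (iv5 D163238) D163237
theorem F477185 : act 3 n214862 = n163278 := d6_1 D214862 (iv5 D163278) (iv3 F257515)
def n214863 : Q := act 4 n163238
theorem D214863 : act 4 n163238 = n214863 := rfl
theorem F477186 : act 3 n214863 = n203868 := d5_1 D214863 (iv4 D203868) F193204 (iv4 F119642) (iv3 F257516)
theorem F477187 : act 6 n214701 = n214863 := d7_0 F477186 (iv6 F439526) F476451
def n214864 : Q := act 6 n163238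
theorem D214864 : act 6 n163238 = n214864 := rfl
theorem F477188 : act 3 n214864 = n163240 := d7_1 D214864 (iv6 D163240) (iv3 F257516)
theorem F477189 : act 4 n214864 = n214701 := d10_1 D214864 F477187 (iv4 D214863)
theorem F477190 : act 5 n214864 = n209123 := d12_1 D214864 F452365 (iv5 D176719) (iv6 F296125) D163238
theorem F477191 : act 0 n214864 = n208084 := d21_10 (iv5 D208084) (iv1 D133375) D133376 F214430 D133380 D208095 F447849 (iv1 D163236) D163238 D214864
theorem F477192 : act 0 n190044 = n214864 := d21_4 (iv5 D104719) D104716 (iv5 F161631) D190044 (iv6 D214864) (iv5 D163238) D163235 (iv5 F475750) (iv6 D214551) F251849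
def n214865 : Q := act 0 n163240
theorem D214865 : act 0 n163240 = n214865 := rfl
theorem F477193 : act 2 n163288 = n214865 := d15_3 (iv0 D214865) (iv0 F381564) (iv7 F443893)
theorem F477194 : act 3 n214865 = n190190 := d0_2 (iv3 F436747) F477193 (iv2 F381447) (iv3 F472321) F472317
theorem F477195 : act 7 n214865 = n163289 := d4_2 (iv7 F443893) F477193 (iv2 F381562)
theorem F477196 : act 1 n163291 = n214865 := d15_1 F381565 F477195 (iv2 F381562)
def n214866 : Q := act 7 n163240
theorem D214866 : act 7 n163240 = n214866 := rfl
theorem F477197 : act 2 n214866 = n163291 := d4_1 D214866 (iv7 D163291) (iv2 F257518)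
theorem F477198 : act 4 n214866 = n203874 := d11_1 D214866 (iv7 D203874) (iv4 F257519)
theorem F477199 : act 5 n214866 = n200355 := d13_1 D214866 F416118 (iv5 F366960)
theorem F477200 : act 1 n163289 = n214866 := d15_1 D163289 (iv7 D214866) F257518
theorem F477201 : act 1 n214866 = n163288 := d15_1 F477200 F443893 F381562
def n214867 : Q := act 5 n163248
theorem D214867 : act 5 n163248 = n214867 := rfl
theorem F477202 : act 2 n214867 = n163249 := d2_1 D214867 (iv5 D163249) D163248
theorem F477203 : act 3 n214867 = n214721 := d6_1 D214867 (iv5 D214721) (iv3 F257538)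
theorem F477204 : act 7 n214867 = n214727 := d13_2 (iv7 F257539) D214867 (iv5 D214727)
theorem F477205 : act 0 n214867 = n187277 := d17_2 F365804 D214867 F369686 F415227 (iv5 D200144) (iv0 F402724) (iv5 F439093) F439096 F395553
theorem F477206 : act 1 n214867 = n198742 := d17_6 D169910 (iv5 F402718) (iv1 F415240) (iv5 F415241) F377803 D214867 (iv5 D198742) F358146 (iv4 F125354)
def n214868 : Q := act 0 n163249
theorem D214868 : act 0 n163249 = n214868 := rfl
theorem F477207 : act 5 n214868 = n166678 := d17_3 (iv1 D163247) D163249 D214868 F364820 (iv5 D144780) D144779 (iv5 F415207) (iv0 F415209) F280665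
theorem F477208 : act 4 n214868 = n208088 := d18_1 D214868 (iv1 F447828) F462830 (iv5 F394521) F418166 (iv0 D200615) (iv4 F365834) (iv0 D163246) D163249
theorem F477209 : act 2 n187277 = n214868 := d15_3 (iv0 D214868) F443915 (iv7 F443914)
theorem F477210 : act 1 n214727 = n214868 := d15_0 (iv0 D214868) F257544 (iv2 F476560)
theorem F477211 : act 7 n214868 = n198742 := d15_2 (iv0 F476564) F477210 (iv2 F443910)
theorem F477212 : act 3 n198701 = n214868 := d8_3 F477211 F409038 (iv7 F408933)
def n214869 : Q := act 6 n163249
theorem D214869 : act 6 n163249 = n214869 := rfl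
theorem F477213 : act 3 n214869 = n163251 := d7_1 D214869 (iv6 D163251) (iv3 F257543)
def n214870 : Q := act 5 n163251
theorem D214870 : act 5 n163251 = n214870 := rfl
theorem F477214 : act 2 n214870 = n193478 := d2_1 D214870 F389993 (iv2 F257546)
theorem F477215 : act 6 n214870 = n163254 := d12_2 D163251 D214870 (iv5 D163254) (iv6 D78461) D78460
theorem F477216 : act 7 n214870 = n193479 := d13_2 F390741 D214870 (iv5 F390738)
theorem F477217 : act 4 n214870 = n192101 := d16_2 F365875 D214870 F385547 (iv4 F368820) (iv5 D185997) F135757 D97002 F149605 (iv2 F149718)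
def n214871 : Q := act 3 n163264
theorem D214871 : act 3 n163264 = n214871 := rfl
theorem F477218 : act 6 n214871 = n214354 := d7_2 F358104 D214871 (iv3 D214354)
theorem F477219 : act 4 n214871 = n190653 := d20_6 (iv4 D75273) (iv1 F54905) (iv4 F56436) D78468 D163264 D214871 (iv1 D190653) F148259 (iv3 D77192) (iv1 F112860)
theorem F477220 : act 1 n194800 = n214871 := d18_6 F415239 F176447 F163446 F396124 (iv5 F417224) (iv4 F418166) F477219 F380462 F415241
def n214872 : Q := act 4 n163264
theorem D214872 : act 4 n163264 = n214872 := rfl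
theorem F477221 : act 6 n214872 = n187373 := d10_2 F358104 D214872 (iv4 F370048)
theorem F477222 : act 0 n214872 = n187274 := d17_0 (iv5 F369677) (iv1 F370256) F370253 (iv4 F362522) (iv5 F381396) (iv0 D190870) F149603 F326719 D214872
theorem F477223 : act 1 n214872 = n188477 := d18_8 (iv1 D97363) (iv4 F150107) D191185 F382518 (iv5 D176733) (iv4 F326721) F326719 D214872 F373619
theorem F477224 : act 3 n214872 = n210026 := d19_3 D214297 F474442 D214872 F474470 F474464 (iv4 F448042) F448041 F376472 F288408 (iv4 F327295) F98485 F333830 F322422 D120973 F192936 (iv1 F115770) D77200 F115959 (iv3 F248970)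
def n214873 : Q := act 3 n163265
theorem D214873 : act 3 n163265 = n214873 := rfl
theorem F477225 : act 0 n163272 = n214873 := d20_4 F363502 D121779 F194340 D163272 (iv3 D214873) (iv4 F392195) (iv1 F392196) F373618 F370050 (iv1 F363500)
def n214874 : Q := act 6 n163265
theorem D214874 : act 6 n163265 = n214874 := rfl
theorem F477226 : act 2 n214874 = n196158 := d3_1 D214874 F399650 F358414
theorem F477227 : act 4 n214874 = n194994 := d10_1 D214874 F395333 F392195
theorem F477228 : act 7 n214874 = n196166 := d14_2 (iv7 F358413) D214874 F399678 F348778 (iv6 F354479)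
theorem F477229 : act 0 n214874 = n194816 := d21_4 (iv5 F379002) (iv1 F474446) F474447 D214874 (iv6 D194816) (iv5 F358415) (iv1 F362538) F362530 F361141 (iv1 F327097)
theorem F477230 : act 5 n214874 = n196153 := d21_6 (iv5 D89864) F71451 F71449 D95488 F326718 D214874 F399637 F378572 (iv6 D96280) (iv1 F137941)
def n214875 : Q := act 1 n163272
theorem D214875 : act 1 n163272 = n214875 := rfl
theorem F477231 : act 4 n214264 = n214875 := d20_0 (iv1 D214875) F280708 (iv3 F280707) (iv1 D157953) (iv3 F327419) (iv4 D110454) F168003 (iv4 F171654) (iv3 F410295) F474300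
def n214876 : Q := act 5 n163275
theorem D214876 : act 5 n163275 = n214876 := rfl
theorem F477232 : act 3 n214876 = n163276 := d6_1 D214876 (iv5 D163276) D163275
theorem F477233 : act 6 n214876 = n211512 := d12_2 (iv6 F344709) D214876 (iv5 D211512) (iv6 D142587) (iv5 F347156)
theorem F477234 : act 7 n214876 = n190089 := d13_2 F380649 D214876 (iv5 F380648)
theorem F477235 : act 4 n214876 = n204732 := d18_5 D160616 D214691 F476414 F281182 D214876 F449454 D204756 (iv0 F433474) (iv5 D160619)
theorem F477236 : act 0 n198569 = n214876 := d21_7 (iv5 F347159) (iv1 F408597) (iv5 D198625) D198626 (iv1 F408604) D198664 F408773 (iv5 D214876) F344709 (iv1 F174060)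
def n214877 : Q := act 4 n163278
theorem D214877 : act 4 n163278 = n214877 := rfl
theorem F477237 : act 2 n214877 = n163280 := d1_1 D214877 (iv4 D163280) (iv2 F257593)
theorem F477238 : act 5 n214877 = n163464 := d9_2 D163278 D214877 (iv4 D163464) (iv5 D78554) F56455 (iv5 F43514) (iv4 F88440) D121143 D203868 F430178 F370275 (iv5 F347521) F140956 F88404 (iv4 F119674)
theorem F477239 : act 6 n214877 = n190256 := d10_2 F381662 D214877 (iv4 F381664)
theorem F477240 : act 0 n214877 = n191198 := d17_0 (iv5 D191198) (iv1 F348735) (iv5 F348737) (iv4 D166711) (iv5 D80013) D80011 D166708 F262409 D214877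
theorem F477241 : act 1 n214877 = n191202 := d18_6 (iv1 F393484) (iv4 D121158) (iv1 F88447) (iv4 F119674) D163278 D214877 F382561 F439527 F439525
theorem F477242 : act 3 n190765 = n214877 := d7_3 F477239 (iv3 F408182) F414788
def n214878 : Q := act 3 n163280
theorem D214878 : act 3 n163280 = n214878 := rfl
theorem F477243 : act 4 n214878 = n163286 := d5_2 D163280 D214878 (iv3 D163286) (iv4 D78476) (iv3 F119675)
theorem F477244 : act 6 n214878 = n194905 := d7_2 F381668 D214878 (iv3 D194905)
theorem F477245 : act 7 n214878 = n214863 := d8_2 F430177 D214878 F477186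
theorem F477246 : act 5 n200415 = n214878 := d12_5 F477244 F394952 F416338 (iv5 D200414) D200415
theorem F477247 : act 0 n214878 = n208197 := d21_10 (iv5 D208197) F376680 D197471 F404475 F167333 (iv6 F226845) (iv5 D144132) D144130 (iv5 F394952) (iv6 F477244)
theorem F477248 : act 1 n214878 = n208193 := d17_6 D113014 F376735 D190459 F379812 (iv4 F416340) F477246 (iv5 D208193) (iv0 F376743) F167331
def n214879 : Q := act 5 n163280
theorem D214879 : act 5 n163280 = n214879 := rfl
theorem F477249 : act 2 n214879 = n163464 := d2_1 D214879 (iv5 F477238) F477237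
theorem F477250 : act 3 n214879 = n200415 := d6_1 D214879 F477246 (iv3 D214878)
theorem F477251 : act 6 n214879 = n200413 := d12_2 F381668 D214879 (iv5 F416334) F379211 F379210
theorem F477252 : act 7 n214879 = n187424 := d13_2 F430177 D214879 (iv5 F430178)
theorem F477253 : act 4 n214879 = n163460 := d16_2 D163280 D214879 (iv5 D163460) F119738 (iv5 F88449) (iv4 F193199) D203866 F430171 F257593
theorem F477254 : act 0 n214879 = n187275 := d17_2 F476696 D214879 (iv5 D187275) F137920 F340624 D163325 (iv5 F476666) F476664 D214761
theorem F477255 : act 1 n214879 = n191093 := d17_6 (iv1 F257589) (iv5 D163276) (iv1 D78472) D78474 D163280 D214879 F382195 (iv0 D187337) (iv4 F348736)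
def n214880 : Q := act 0 n163286
theorem D214880 : act 0 n163286 = n214880 := rfl
theorem F477256 : act 5 n214880 = n166668 := d17_1 D214880 (iv1 F262301) D214709 F476473 (iv5 D197471) (iv0 F376680) D208197 (iv0 F477247) F477243
theorem F477257 : act 1 n214862 = n214880 := d15_0 (iv0 D214880) F257601 (iv2 F477184)
theorem F477258 : act 2 n214708 = n214880 := d2_3 F477256 F414344 D214708
theorem F477259 : act 7 n214706 = n214880 := d13_0 F477256 F414342 D214706
def n214881 : Q := act 1 n163286
theorem D214881 : act 1 n163286 = n214881 := rfl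
theorem F477260 : act 7 n214881 = n214708 := d15_2 (iv0 D214880) D214881 F477258
theorem F477261 : act 5 n214881 = n166669 := d17_7 (iv1 F358161) F373522 (iv1 D97396) (iv5 F294907) (iv4 F193183) (iv5 F257600) D214881 F262306 (iv4 F262066)
theorem F477262 : act 6 n214556 = n214881 := d21_9 F257600 D203860 (iv5 F476477) F476478 (iv1 F416078) (iv6 F439581) (iv5 D206175) F346185 (iv5 F475771) (iv1 D214881)
theorem F477263 : act 2 n214881 = n214706 := d3_1 F477262 F476462 F475773
theorem F477264 : act 1 n214881 = n214862 := d15_0 F477257 (iv7 F477259) (iv2 F477263)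
def n214882 : Q := act 2 n163286
theorem D214882 : act 2 n163286 = n214882 := rfl
theorem F477265 : act 3 n214882 = n203866 := d0_2 D163286 D214882 F430170 F193204 (iv2 F119678)
theorem F477266 : act 5 n214882 = n203862 := d2_2 (iv5 F257600) D214882 (iv2 D203862)
theorem F477267 : act 7 n214882 = n214862 := d4_2 (iv7 F257601) D214882 F477184
theorem F477268 : act 1 n214882 = n214706 := d15_0 (iv0 F476464) (iv7 F257601) D214882
theorem F477269 : act 1 n214708 = n214882 := d15_0 F477268 F477259 (iv2 F477258)
theorem F477270 : act 6 n211788 = n214882 := d21_5 (iv5 D144098) (iv1 D67515) D67516 (iv6 F226809) D211788 F477266 (iv1 F430159) (iv5 F447849) (iv6 D208095) (iv1 F226815)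
def n214883 : Q := act 6 n163286
theorem D214883 : act 6 n163286 = n214883 := rfl
theorem F477271 : act 2 n214883 = n211788 := d3_1 D214883 F477270 (iv2 D214882)
theorem F477272 : act 3 n214883 = n163287 := d7_1 D214883 (iv6 D163287) D163286
theorem F477273 : act 4 n214883 = n194905 := d10_1 D214883 (iv6 F477244) F477243
theorem F477274 : act 0 n214883 = n211791 := d21_10 F463079 (iv1 F370188) (iv5 F394935) (iv6 D194900) F251424 D190040 (iv5 F430152) (iv1 D203861) (iv5 F257600) D214883
theorem F477275 : act 0 n202784 = n214883 := d21_4 F214439 (iv1 F97615) D116974 (iv6 F425563) (iv6 D214883) F257600 D203860 (iv5 F476477) F476478 (iv1 F416078)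
theorem F477276 : act 7 n211789 = n214883 := d15_2 (iv0 D211788) D211789 F477271
def n214884 : Q := act 0 n163287
theorem D214884 : act 0 n163287 = n214884 := rfl
def n214885 : Q := act 1 n163287
theorem D214885 : act 1 n163287 = n214885 := rfl
theorem F477277 : act 1 n214885 = n203874 := d15_1 D214885 (iv7 D203874) (iv2 F257602)
def n214886 : Q := act 5 n163287
theorem D214886 : act 5 n163287 = n214886 := rfl
theorem F477278 : act 2 n214886 = n203873 := d2_1 D214886 (iv5 D203873) (iv2 F257602)
theorem F477279 : act 6 n214886 = n203864 := d12_2 D163287 D214886 (iv5 D203864) (iv6 D121136) (iv5 F119680)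
theorem F477280 : act 5 n210081 = n214885 := d21_0 (iv1 D214885) D214886 F477279 F430166 (iv6 F365996) F294696 (iv1 D88409) D88411 D185604 F456087
theorem F477281 : act 2 n214885 = n203872 := d2_1 F477280 (iv5 F455312) (iv2 F456085)
def n214887 : Q := act 7 n163287
theorem D214887 : act 7 n163287 = n214887 := rfl
theorem F477282 : act 2 n214887 = n203874 := d4_1 D214887 (iv7 D203874) (iv2 F257602)
theorem F477283 : act 3 n214887 = n211789 := d8_1 D214887 F477276 F477272
theorem F477284 : act 4 n214887 = n163291 := d11_1 D214887 (iv7 D163291) (iv4 F257603)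
theorem F477285 : act 6 n214887 = n214866 := d14_1 D214887 (iv7 D214866) (iv6 D163240) (iv7 F119679) D163287
theorem F477286 : act 1 n203874 = n214884 := d15_0 (iv0 D214884) D214887 F477282
theorem F477287 : act 1 n203872 = n214887 := d15_1 D203872 (iv7 D214887) F257602
theorem F477288 : act 7 n214884 = n203872 := d15_2 F477277 F477286 (iv2 F477281)
theorem F477289 : act 2 n214884 = n203871 := d15_3 (iv0 D203871) D203872 (iv7 F477288)
theorem F477290 : act 7 n203871 = n214885 := d4_2 (iv7 F477288) F477289 F477281
theorem F477291 : act 1 n214887 = n203871 := d15_1 F477287 F477290 F477281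
def n214888 : Q := act 4 n163288
theorem D214888 : act 4 n163288 = n214888 := rfl
def n214889 : Q := act 4 n163289
theorem D214889 : act 4 n163289 = n214889 := rfl
theorem F477292 : act 6 n214889 = n190184 := d10_2 (iv6 F381418) D214889 (iv4 D190184)
theorem F477293 : act 5 n214889 = n211496 := d16_1 D214889 F461824 F376808 F376480 D189484 F443891 F443892 F443893 F381562
theorem F477294 : act 0 n214889 = n214689 := d18_2 (iv1 F477200) D214889 F476408 (iv5 D188516) F142021 D92348 D188525 F416120 (iv5 F477199)
theorem F477295 : act 3 n211497 = n214889 := d6_3 F477293 F461823 D211497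
def n214890 : Q := act 5 n163337
theorem D214890 : act 5 n163337 = n214890 := rfl
theorem F477296 : act 3 n214890 = n163343 := d6_1 D214890 (iv5 D163343) (iv3 F257645)
theorem F477297 : act 6 n214890 = n200172 := d12_2 D163337 D214890 F415375 (iv6 D166640) (iv5 F254094)
theorem F477298 : act 0 n214890 = n209941 := d17_2 F409823 D214890 F455462 (iv4 D205579) F352278 F348477 (iv5 D163838) (iv0 F325155) D198904
def n214891 : Q := act 7 n163337
theorem D214891 : act 7 n163337 = n214891 := rfl
theorem F477299 : act 2 n214891 = n200159 := d4_1 D214891 F415300 F409526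
theorem F477300 : act 3 n214891 = n163344 := d8_1 D214891 (iv7 D163344) (iv3 F257645)
theorem F477301 : act 4 n214891 = n175353 := d11_1 D214891 F354804 F262477
theorem F477302 : act 6 n214891 = n166381 := d14_1 D214891 F360227 F360225 F327436 D163337
theorem F477303 : act 1 n166475 = n214891 := d15_1 (iv0 F409529) (iv7 D214891) (iv2 F409526)
theorem F477304 : act 1 n214891 = n200057 := d15_1 F477303 F414826 F409820
def n214892 : Q := act 5 n163338
theorem D214892 : act 5 n163338 = n214892 := rfl
theorem F477305 : act 3 n214892 = n163339 := d6_1 D214892 (iv5 D163339) D163338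
theorem F477306 : act 7 n214892 = n187226 := d13_2 (iv7 F373645) D214892 F373644
theorem F477307 : act 1 n214892 = n203818 := d17_6 F433839 F433837 (iv1 F362716) F359627 F262473 D214892 (iv5 D203818) D203817 (iv4 F429954)
def n214893 : Q := act 6 n163410
theorem D214893 : act 6 n163410 = n214893 := rfl
theorem F477308 : act 3 n214893 = n206554 := d7_1 D214893 (iv6 F447227) F447226
theorem F477309 : act 4 n214893 = n198257 := d10_1 D214893 (iv6 D198257) F346875
theorem F477310 : act 5 n214893 = n207478 := d12_1 D214893 (iv6 D207478) (iv5 F373502) (iv6 F435369) (iv5 F435367)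
theorem F477311 : act 0 n214893 = n214251 := d21_10 (iv5 D214251) (iv1 F395420) (iv5 F459557) F459554 F416817 (iv6 D181703) (iv5 F294051) D191161 (iv5 F435367) D214893
theorem F477312 : act 0 n163636 = n214893 := d21_7 F445089 F445606 F445604 (iv6 F354706) (iv1 D130231) D130234 F354342 F477310 (iv6 D207478) F445090
def n214894 : Q := act 4 n163430
theorem D214894 : act 4 n163430 = n214894 := rfl
theorem F477313 : act 2 n214894 = n214354 := d1_1 D214894 F474723 (iv2 F367214)
theorem F477314 : act 0 n214894 = n188490 := d17_0 (iv5 F382654) (iv1 D191227) F294702 F262091 (iv5 F341786) F382509 F382506 F282823 D214894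
theorem F477315 : act 1 n214894 = n206647 := d18_6 (iv1 F445373) (iv4 F343676) F177449 D94349 (iv5 F367210) D214894 (iv4 D206647) F364568 (iv5 F445369)
def n214895 : Q := act 7 n163435
theorem D214895 : act 7 n163435 = n214895 := rfl
theorem F477316 : act 2 n214895 = n191168 := d4_1 D214895 (iv7 D191168) F294054
theorem F477317 : act 3 n214895 = n196101 := d8_1 D214895 (iv7 F399411) F367033
theorem F477318 : act 4 n214895 = n187416 := d11_1 D214895 (iv7 D187416) (iv4 F257726)
theorem F477319 : act 5 n214895 = n197836 := d13_1 D214895 F405963 (iv5 F366006)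
theorem F477320 : act 6 n214895 = n191188 := d14_1 D214895 (iv7 D191188) (iv6 D97361) F293068 D163435
theorem F477321 : act 1 n191166 = n214895 := d15_1 D191166 (iv7 D214895) (iv2 F294054)
theorem F477322 : act 1 n214895 = n191165 := d15_1 F477321 (iv7 F382456) (iv2 F382459)
def n214896 : Q := act 5 n163441
theorem D214896 : act 5 n163441 = n214896 := rfl
theorem F477323 : act 2 n214896 = n163442 := d2_1 D214896 (iv5 D163442) D163441
theorem F477324 : act 3 n214896 = n191239 := d6_1 D214896 F382714 F287860
theorem F477325 : act 7 n214896 = n191260 := d13_2 F287814 D214896 F382785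
theorem F477326 : act 0 n214896 = n191259 := d17_2 (iv1 F287811) D214896 F382780 (iv4 F202702) F363988 F334341 (iv5 F414886) (iv0 F414889) F384525
theorem F477327 : act 1 n214896 = n191258 := d17_6 (iv1 F337540) (iv5 D132882) F323386 F334633 F334377 D214896 F382778 F327272 F320967
def n214897 : Q := act 4 n163442
theorem D214897 : act 4 n163442 = n214897 := rfl
theorem F477328 : act 3 n214897 = n181930 := d5_1 D214897 (iv4 D181930) F133319 (iv4 F119729) (iv3 F257729)
theorem F477329 : act 7 n214897 = n191251 := d11_2 F294072 D214897 F382758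
def n214898 : Q := act 6 n163442
theorem D214898 : act 6 n163442 = n214898 := rfl
theorem F477330 : act 3 n214898 = n163444 := d7_1 D214898 (iv6 D163444) (iv3 F257729)
theorem F477331 : act 5 n214898 = n200551 := d12_1 D214898 (iv6 D200551) (iv5 F356086) F325537 D163442
theorem F477332 : act 0 n214898 = n196039 := d21_4 F417915 F334369 D163442 D214898 (iv6 D196039) (iv5 D106572) D106569 (iv5 F362894) (iv6 F362895) (iv1 F417993)
theorem F477333 : act 0 n196039 = n214898 := d21_4 (iv5 F362887) (iv1 D106570) D106572 D196039 (iv6 D214898) (iv5 D163442) D163439 (iv5 F417987) (iv6 F417989) F399271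
def n214899 : Q := act 0 n163444
theorem D214899 : act 0 n163444 = n214899 := rfl
theorem F477334 : act 4 n214899 = n187414 := d18_3 F331294 (iv4 F257731) D214899 (iv5 F392734) F392737 F203809 D126929 F204184 D142405
theorem F477335 : act 0 n205598 = n205397 := d18_0 F436240 F436017 (iv4 F435553) (iv5 F435554) F382462 F370262 (iv4 F477334) (iv0 D214899) (iv5 F437159)
theorem F477336 : act 2 n191170 = n214899 := d1_3 F477334 F379936 D191170
theorem F477337 : act 7 n191171 = n214899 := d11_0 F477334 (iv7 F379935) D191171
theorem F477338 : act 1 n191240 = n214899 := d18_6 D103269 F367013 (iv1 D135993) (iv4 F100356) (iv5 F331279) (iv4 F382717) F477334 (iv0 D187414) F291961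
def n214900 : Q := act 1 n163444
theorem D214900 : act 1 n163444 = n214900 := rfl
theorem F477339 : act 1 n214900 = n191240 := d15_1 D214900 F382718 F294070
theorem F477340 : act 7 n214900 = n191170 := d15_2 (iv0 D214899) D214900 F477336
theorem F477341 : act 4 n214900 = n187415 := d18_7 (iv1 F382477) (iv4 F367017) (iv1 F218786) F331266 F134944 (iv4 F257731) D214900 F370257 (iv5 F382475)
theorem F477342 : act 6 n207592 = n214900 := d21_3 F373530 F442153 (iv5 F445600) (iv1 D214900) (iv6 D163444) (iv5 D78546) (iv1 F67161) (iv5 F67302) D91872 D188452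
theorem F477343 : act 2 n214900 = n191171 := d3_1 F477342 F400106 F445601
def n214901 : Q := act 7 n163444
theorem D214901 : act 7 n163444 = n214901 := rfl
theorem F477344 : act 2 n214901 = n191240 := d4_1 D214901 F382718 F294070
theorem F477345 : act 4 n214901 = n181935 := d11_1 D214901 (iv7 D181935) (iv4 F257731)
theorem F477346 : act 5 n214901 = n205395 := d13_1 D214901 F437161 F437159
theorem F477347 : act 6 n214901 = n191239 := d14_1 D214901 F382715 (iv6 D97479) (iv7 F294038) D163444
theorem F477348 : act 1 n191171 = n214901 := d15_1 (iv0 F382467) (iv7 D214901) (iv2 F294070)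
theorem F477349 : act 1 n214901 = n191170 := d15_1 F477348 (iv7 F477340) F477343
def n214902 : Q := act 0 n163449
theorem D214902 : act 0 n163449 = n214902 := rfl
theorem F477350 : act 5 n214902 = n166591 := d17_1 D214902 (iv1 F327275) F348769 F341830 (iv5 F348777) F250131 D176733 (iv0 F354478) (iv4 F354386)
theorem F477351 : act 4 n214902 = n187411 := d18_1 D214902 (iv1 F370250) (iv4 F382528) F382529 F168635 D108773 (iv4 F354392) F354389 D163449
theorem F477352 : act 6 n214902 = n163649 := d21_5 F67302 F67160 D78549 (iv6 F354387) D214902 (iv5 D163649) (iv1 F328090) F358959 (iv6 D163471) (iv1 F119744)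
theorem F477353 : act 1 n191239 = n214902 := d15_0 (iv0 D214902) (iv7 F294068) D191239
theorem F477354 : act 2 n191189 = n214902 := d3_3 F477352 (iv2 F262269) (iv6 F382531)
theorem F477355 : act 7 n191190 = n214902 := d15_2 F382532 (iv0 F382535) (iv2 F477354)
def n214903 : Q := act 1 n163449
theorem D214903 : act 1 n163449 = n214903 := rfl
theorem F477356 : act 1 n214903 = n191239 := d15_1 D214903 F382715 (iv2 F354385)
theorem F477357 : act 7 n214903 = n191189 := d15_2 (iv0 D214902) D214903 F477354
theorem F477358 : act 5 n214903 = n166592 := d17_7 (iv1 F253404) (iv5 F412089) (iv1 F394873) (iv5 D124236) (iv4 F119733) D163449 D214903 (iv0 F327274) F327277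
theorem F477359 : act 4 n214903 = n187412 := d17_9 (iv1 D187412) F291965 D104652 D194860 F394779 F211641 F354389 D163449 D214903
theorem F477360 : act 6 n191094 = n214903 := d21_3 (iv5 F443987) F443989 F417721 (iv1 D214903) F354387 (iv5 D78549) (iv1 D35785) D35787 D78558 D163474
theorem F477361 : act 2 n191190 = n214903 := d1_3 F477359 (iv2 F370249) D191190
def n214904 : Q := act 6 n163455
theorem D214904 : act 6 n163455 = n214904 := rfl
theorem F477362 : act 2 n214904 = n207509 := d3_1 D214904 F445208 (iv2 F257877)
theorem F477363 : act 3 n214904 = n205399 := d7_1 D214904 (iv6 F440981) F440980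
theorem F477364 : act 4 n214904 = n206386 := d10_1 D214904 (iv6 F440541) F370194
theorem F477365 : act 0 n214904 = n191125 := d21_4 (iv5 D78554) D78551 D163455 D214904 (iv6 D191125) D191124 F382323 (iv5 F211424) F343688 (iv1 D163463)
theorem F477366 : act 5 n214904 = n205378 := d21_6 (iv5 D96653) F71120 F293098 F326271 (iv1 F257741) D214904 (iv1 D205378) (iv5 F366006) (iv6 D163435) (iv1 F148945)
def n214905 : Q := act 5 n163456
theorem D214905 : act 5 n163456 = n214905 := rfl
theorem F477367 : act 3 n214905 = n205400 := d6_1 D214905 (iv5 F436249) F417042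
theorem F477368 : act 6 n214905 = n205378 := d12_2 D163456 D214905 (iv5 F477366) (iv6 D214904) (iv5 D163455)
theorem F477369 : act 0 n214905 = n205418 := d17_2 F409657 D214905 (iv5 F436322) F435211 (iv5 F438538) (iv0 F438539) (iv5 D163508) (iv0 F329023) D180475
theorem F477370 : act 4 n214905 = n205407 := d18_5 (iv1 F202010) F363243 F409656 (iv4 F409655) D214905 (iv0 F456153) (iv4 D205331) (iv0 F416841) (iv5 D200520)
def n214906 : Q := act 4 n163463
theorem D214906 : act 4 n163463 = n214906 := rfl
theorem F477371 : act 2 n214906 = n207619 := d1_1 D214906 (iv4 D207619) F341798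
theorem F477372 : act 3 n214906 = n194166 := d5_1 D214906 (iv4 F392234) F186437 (iv4 F211427) (iv3 F343679)
theorem F477373 : act 5 n214906 = n190932 := d9_2 (iv5 F257746) D214906 F381592 F257591 (iv4 F281149) (iv5 D180621) F254292 (iv5 F262194) (iv4 F341802) (iv5 F378826) F378825 (iv5 F148381) F344653 F250798 F119778
theorem F477374 : act 6 n214906 = n190933 := d10_2 F343688 D214906 F381597
def n214907 : Q := act 0 n163464
theorem D214907 : act 0 n163464 = n214907 := rfl
theorem F477375 : act 5 n214907 = n187228 := d17_1 D214907 F369563 F293336 (iv4 F254509) F324248 F122744 (iv5 F262194) (iv0 D163462) D163464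
theorem F477376 : act 4 n214907 = n163649 := d18_1 D214907 (iv1 F358968) (iv4 F445637) F445638 F439528 (iv0 D206162) (iv4 F382556) (iv0 F477240) F477238
theorem F477377 : act 2 n187275 = n214907 := d15_3 (iv0 D214907) (iv0 F417736) F417734
theorem F477378 : act 1 n187424 = n214907 := d15_0 (iv0 D214907) (iv7 F373500) F373498
theorem F477379 : act 7 n214907 = n191093 := d15_2 F417737 F477378 (iv2 F417732)
theorem F477380 : act 3 n214362 = n214907 := d19_19 (iv1 F477378) (iv5 F430178) (iv4 D203868) F193204 (iv1 F122806) (iv5 D80005) F57228 F324982 (iv1 F324952) (iv5 D17442) F12982 (iv3 F12978) (iv1 F14446) D19711 (iv4 F56548) D78830 D164083 (iv5 F414784) (iv4 F474770)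
theorem F477381 : act 6 n214907 = n187411 := d7_2 D214362 F477380 (iv3 F370242)
def n214908 : Q := act 4 n163470
theorem D214908 : act 4 n163470 = n214908 := rfl
theorem F477382 : act 3 n214908 = n185603 := d5_1 D214908 (iv4 D185603) F135403 (iv4 F119743) D163470
theorem F477383 : act 7 n214908 = n191212 := d11_2 F294897 D214908 (iv4 D191212)
def n214909 : Q := act 6 n163470
theorem D214909 : act 6 n163470 = n214909 := rfl
theorem F477384 : act 3 n214909 = n163471 := d7_1 D214909 (iv6 D163471) D163470
theorem F477385 : act 5 n214909 = n200740 := d12_1 D214909 F417728 F341713 F327211 (iv5 F257751)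
theorem F477386 : act 7 n214909 = n207535 := d14_2 F294897 D214909 (iv6 D207535) F362889 F352533
def n214910 : Q := act 7 n163473
theorem D214910 : act 7 n163473 = n214910 := rfl
theorem F477387 : act 2 n214910 = n191213 := d4_1 D214910 (iv7 D191213) F294899
theorem F477388 : act 3 n214910 = n188452 := d8_1 D214910 (iv7 F373532) (iv3 F373539)
theorem F477389 : act 4 n214910 = n181907 := d11_1 D214910 (iv7 D181907) (iv4 F257754)
theorem F477390 : act 5 n214910 = n208668 := d13_1 D214910 F450389 F436616
theorem F477391 : act 6 n214910 = n191210 := d14_1 D214910 (iv7 D191210) (iv6 D97391) F294090 D163473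
theorem F477392 : act 1 n191096 = n214910 := d15_1 (iv0 F382209) (iv7 D214910) (iv2 F294899)
theorem F477393 : act 1 n214910 = n191206 := d15_1 F477392 F382575 (iv2 F382205)
def n214911 : Q := act 3 n163474
theorem D214911 : act 3 n163474 = n214911 := rfl
theorem F477394 : act 2 n214911 = n196197 := d0_1 D214911 (iv3 D196197) F216664 (iv3 F361094) F361096
theorem F477395 : act 5 n214911 = n186976 := d6_2 F443987 D214911 (iv3 F443986)
theorem F477396 : act 6 n214911 = n196197 := d7_2 F363608 D214911 (iv3 D196197)
theorem F477397 : act 7 n214911 = n191131 := d8_2 F361099 D214911 (iv3 D191131)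
theorem F477398 : act 0 n214911 = n207531 := d19_4 F320364 (iv5 F332547) (iv4 F332552) D214911 (iv5 F445323) F211508 D134336 (iv1 F337001) (iv5 F434199) F434198 F236233 (iv1 F250528) F250525 F303513 F151351 (iv1 F309685) (iv5 F327269) (iv4 F381586) F381585
theorem F477399 : act 0 n207539 = n214911 := d20_4 F364644 (iv1 F164444) (iv4 F211433) (iv3 F445346) (iv3 D214911) F332552 (iv1 F380351) F380347 (iv3 F325495) F325492
def n214912 : Q := act 4 n163476
theorem D214912 : act 4 n163476 = n214912 := rfl
theorem F477400 : act 2 n214912 = n191138 := d1_1 D214912 (iv4 D191138) (iv2 F356957)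
theorem F477401 : act 3 n214912 = n203933 := d5_1 D214912 F430469 F363961 F363958 (iv3 F349642)
theorem F477402 : act 5 n214912 = n191081 := d9_2 D163476 D214912 F382147 F150005 F71699 (iv5 F71708) (iv4 F150046) (iv5 F382384) F382383 (iv5 D170448) (iv4 D81714) (iv5 D37345) (iv4 F33858) D45084 (iv4 F294346)
theorem F477403 : act 6 n214912 = n163484 := d10_2 (iv6 F257755) D214912 (iv4 D163484)
theorem F477404 : act 7 n214912 = n191080 := d11_2 F359039 D214912 F382142
theorem F477405 : act 0 n214912 = n196218 := d17_0 F399948 (iv1 F396185) (iv5 F335879) F229795 D200737 (iv0 F422212) (iv5 D201884) (iv0 F363962) D214912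
theorem F477406 : act 1 n214912 = n196222 := d18_6 D110770 F335830 (iv1 D96560) (iv4 F294346) D163476 D214912 F399963 F358355 (iv5 F80532)
def n214913 : Q := act 2 n163489
theorem D214913 : act 2 n163489 = n214913 := rfl
theorem F477407 : act 4 n214913 = n207154 := d1_2 F417660 D214913 F443546
theorem F477408 : act 6 n214913 = n206638 := d3_2 (iv6 F417658) D214913 (iv2 F441694)
def n214914 : Q := act 1 n163495
theorem D214914 : act 1 n163495 = n214914 := rfl
theorem F477409 : act 5 n214914 = n196079 := d17_7 D106628 F164248 (iv1 F164261) (iv5 F399128) (iv4 F441091) F441092 D214914 (iv0 D196079) (iv4 D106631)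
theorem F477410 : act 3 n208364 = n214914 := d20_3 D206464 F440952 (iv4 F449082) (iv1 D214914) (iv3 D163495) (iv4 D78567) (iv1 D35790) (iv4 F56456) (iv3 F119740) (iv1 F349821)
theorem F477411 : act 6 n214914 = n190655 := d7_2 (iv6 F449080) F477410 (iv3 F447310)
def n214915 : Q := act 2 n163495
theorem D214915 : act 2 n163495 = n214915 := rfl
theorem F477412 : act 4 n214915 = n199090 := d1_2 F400750 D214915 (iv2 F410616)
theorem F477413 : act 5 n214915 = n205588 := d2_2 F441092 D214915 (iv2 F441090)
theorem F477414 : act 6 n214915 = n177019 := d3_2 (iv6 F363254) D214915 F276598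
def n214916 : Q := act 6 n163504
theorem D214916 : act 6 n163504 = n214916 := rfl
theorem F477415 : act 2 n214916 = n205396 := d3_1 D214916 F436237 F430138
theorem F477416 : act 3 n214916 = n191168 := d7_1 D214916 (iv6 F476748) F476745
theorem F477417 : act 4 n214916 = n191127 := d10_1 D214916 F392782 F358965
theorem F477418 : act 5 n214916 = n205392 := d12_1 D214916 (iv6 D205392) F202387 F329025 D163504
theorem F477419 : act 7 n214916 = n191164 := d14_2 F430134 D214916 (iv6 D191164) F294052 (iv6 F430133)
theorem F477420 : act 0 n214916 = n191133 := d21_4 F417729 (iv1 D163502) D163504 D214916 (iv6 D191133) D191132 (iv1 F382349) D200737 F417716 D200741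
theorem F477421 : act 0 n196196 = n214916 := d21_4 F340294 D129175 F211044 D196196 (iv6 D214916) (iv5 D163504) F122857 (iv5 F358969) (iv6 D132098) (iv1 F340292)
def n214917 : Q := act 3 n163590
theorem D214917 : act 3 n163590 = n214917 := rfl
theorem F477422 : act 2 n214917 = n214251 := d0_1 D214917 F474227 F393450 (iv3 D163632) (iv2 F257858)
theorem F477423 : act 4 n214917 = n203972 := d5_2 D163590 D214917 (iv3 D203972) F195574 F195509
theorem F477424 : act 5 n214917 = n195009 := d6_2 F341974 D214917 (iv3 F395404)
theorem F477425 : act 6 n214917 = n196090 := d7_2 F327890 D214917 F399371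
theorem F477426 : act 7 n214917 = n163636 := d8_2 (iv7 F257860) D214917 (iv3 D163636)
def n214918 : Q := act 6 n163606
theorem D214918 : act 6 n163606 = n214918 := rfl
theorem F477427 : act 2 n214918 = n205244 := d3_1 D214918 (iv6 F435581) F257873
theorem F477428 : act 3 n214918 = n185724 := d7_1 D214918 (iv6 F358222) F341817
theorem F477429 : act 5 n214918 = n205231 := d12_1 D214918 F435536 F418270 (iv6 F362482) (iv5 F257872)
theorem F477430 : act 0 n214918 = n205242 := d21_4 (iv5 D91691) D91688 (iv5 F257872) D214918 F436874 F436873 F429402 F429400 F382516 F262192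
theorem F477431 : act 0 n205241 = n214918 := d21_4 (iv5 F399389) (iv1 F164298) (iv5 F373552) (iv6 F435573) (iv6 D214918) F257872 (iv1 F140953) D163460 F339678 F399390
theorem F477432 : act 7 n214918 = n205230 := d15_2 D205242 (iv0 F477430) F435532
def n214919 : Q := act 0 n163632
theorem D214919 : act 0 n163632 = n214919 := rfl
theorem F477433 : act 4 n214919 = n194792 := d18_3 F350447 F302348 D214919 F394488 (iv4 F377343) F377347 F353198 (iv0 D96004) D96006
theorem F477434 : act 2 n206562 = n214919 := d15_3 (iv0 D214919) F447891 F447889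
theorem F477435 : act 6 n214919 = n209935 := d3_2 (iv6 F441342) F477434 F455425
def n214920 : Q := act 5 n163632
theorem D214920 : act 5 n163632 = n214920 := rfl
theorem F477436 : act 2 n214920 = n206559 := d2_1 D214920 F441345 F393450
theorem F477437 : act 3 n214920 = n163633 := d6_1 D214920 (iv5 D163633) D163632
theorem F477438 : act 6 n214920 = n206571 := d12_2 F436209 D214920 F452110 (iv6 D209070) (iv5 F436208)
theorem F477439 : act 7 n214920 = n196246 := d13_2 F276056 D214920 F400038
theorem F477440 : act 4 n214920 = n205679 := d16_2 F302348 D214920 (iv5 D205679) F363814 (iv5 D185868) (iv4 F159055) (iv5 F360320) (iv7 F360318) (iv2 F331170)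
theorem F477441 : act 0 n214920 = n206560 := d17_2 (iv1 F447891) D214920 F441331 (iv4 D190587) (iv5 D96222) F76027 D104582 F287726 (iv4 F447890)
theorem F477442 : act 1 n214920 = n194805 := d17_6 (iv1 F393410) F159115 (iv1 F159095) F331169 F302348 D214920 (iv5 D194805) D194803 F394532
def n214921 : Q := act 1 n163636
theorem D214921 : act 1 n163636 = n214921 := rfl
theorem F477443 : act 3 n205591 = n214921 := d19_19 (iv1 D214921) (iv5 F354342) (iv4 F380779) F380778 F337778 (iv5 F431034) (iv4 D204088) F196443 (iv1 F301692) (iv5 D85915) (iv4 D39744) F298887 F29611 (iv5 D18447) (iv4 F29606) (iv3 F59683) D84156 (iv5 F347496) (iv4 F437131)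
theorem F477444 : act 5 n205583 = n214921 := d21_6 (iv5 F441130) F441132 (iv5 F380861) F380862 (iv1 F220882) D205583 (iv1 D214921) (iv5 F354342) (iv6 D130234) F207096
theorem F477445 : act 6 n205584 = n214921 := d21_9 (iv5 F354342) F358873 (iv5 F129714) (iv6 D84546) D84543 D177457 F417601 F417600 D205584 (iv1 D214921)
theorem F477446 : act 0 n214251 = n214921 := d19_0 (iv5 F477444) (iv4 F450398) F450397 F374929 (iv5 F386951) F386950 (iv3 D189199) (iv1 F338032) F338035 (iv4 F147066) D189913 F378222 F340587 (iv4 F158377) (iv3 F159103) (iv1 F159106) D103675 D194499 (iv3 F474227)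
def n214922 : Q := act 2 n163636
theorem D214922 : act 2 n163636 = n214922 := rfl
theorem F477447 : act 5 n214922 = n195010 := d2_2 F354342 D214922 F395415
theorem F477448 : act 7 n214922 = n214251 := d4_2 F477426 D214922 (iv2 F477422)
def n214923 : Q := act 5 n163648
theorem D214923 : act 5 n163648 = n214923 := rfl
theorem F477449 : act 2 n214923 = n205533 := d2_1 D214923 F436873 F358049
theorem F477450 : act 3 n214923 = n163649 := d6_1 D214923 (iv5 D163649) D163648
theorem F477451 : act 7 n214923 = n205528 := d13_2 F328513 D214923 (iv5 D205528)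
theorem F477452 : act 0 n214923 = n189704 := d17_2 F358048 D214923 (iv5 F433317) (iv4 D204704) D204705 (iv0 F433325) (iv5 D203689) F253399 (iv4 F358047)
theorem F477453 : act 1 n214923 = n205532 := d17_6 F341831 D206626 (iv1 F476198) (iv5 D214644) (iv4 F257990) D214923 F436868 F433292 F382526
theorem F477454 : act 4 n214923 = n207608 := d18_5 F327274 (iv4 F412069) (iv1 F412083) (iv4 F257990) D214923 (iv0 D207608) F211646 D132119 (iv5 F348769)
def n214924 : Q := act 4 n163663
theorem D214924 : act 4 n163663 = n214924 := rfl
theorem F477455 : act 2 n214924 = n163673 := d1_1 D214924 (iv4 D163673) (iv2 F341664)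
theorem F477456 : act 3 n214924 = n209069 := d5_1 D214924 F452098 (iv3 D204686) (iv4 F360091) (iv3 F341665)
theorem F477457 : act 6 n214924 = n203947 := d10_2 (iv6 F341667) D214924 (iv4 D203947)
theorem F477458 : act 7 n214924 = n163668 := d11_2 (iv7 F341668) D214924 (iv4 D163668)
theorem F477459 : act 5 n214924 = n209068 := d16_1 D214924 F452091 F399331 F213556 F320708 (iv4 F306580) (iv5 F334242) F363240 (iv2 F341664)
theorem F477460 : act 0 n214924 = n203884 := d17_0 F430233 F389568 (iv5 D113313) (iv4 F176506) (iv5 F341892) F341890 (iv5 D163664) D163663 D214924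
theorem F477461 : act 1 n214924 = n205591 := d18_6 D75482 (iv4 F239874) F344395 (iv4 F270505) (iv5 F341666) D214924 F437131 (iv0 D158327) (iv5 D75484)
def n214925 : Q := act 5 n163668
theorem D214925 : act 5 n163668 = n214925 := rfl
theorem F477462 : act 3 n214925 = n206555 := d6_1 D214925 (iv5 F443370) F443369
theorem F477463 : act 4 n214925 = n200653 := d9_1 D214925 (iv5 F417369) F208749 F354037 (iv4 F341656) (iv5 D163674) D163673 F399347 F399346 (iv5 F396114) F339477 (iv5 D174404) (iv4 F249087) F341884 D163668
theorem F477464 : act 7 n214925 = n209068 := d13_2 F477458 D214925 (iv5 F477459)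
theorem F477465 : act 0 n214925 = n200648 := d17_2 (iv1 F417725) D214925 (iv5 D200648) F363256 (iv5 F275812) (iv0 F249406) F324622 D180253 (iv4 F417723)
theorem F477466 : act 1 n214925 = n195008 := d17_6 F341641 (iv5 F318580) (iv1 F315281) F341884 D163668 D214925 F395398 (iv0 D113311) (iv4 F176506)
def n214926 : Q := act 6 n163753
theorem D214926 : act 6 n163753 = n214926 := rfl
theorem F477467 : act 2 n214926 = n187279 := d3_1 D214926 (iv6 D187279) (iv2 F358135)
theorem F477468 : act 3 n214926 = n198740 := d7_1 D214926 (iv6 D198740) F365831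
theorem F477469 : act 4 n214926 = n194911 := d10_1 D214926 F394969 F394937
theorem F477470 : act 7 n214926 = n187267 := d14_2 (iv7 F358129) D214926 (iv6 D187267) F138071 F358128
def n214927 : Q := act 0 n163830
theorem D214927 : act 0 n163830 = n214927 := rfl
theorem F477471 : act 5 n214927 = n213572 := d17_1 D214927 F471097 F445631 F429985 (iv5 F446463) (iv0 D207793) (iv5 F334353) (iv0 F334352) F280687
theorem F477472 : act 4 n214927 = n165783 := d18_1 D214927 (iv1 F358991) F358994 F358986 (iv4 F446470) F446474 F441061 (iv0 F440265) F366150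
theorem F477473 : act 6 n214927 = n200067 := d21_5 (iv5 D176472) F315823 D131380 F355020 D214927 F414878 (iv1 F436752) (iv5 D205506) (iv6 F358829) F348447
theorem F477474 : act 2 n165868 = n214927 := d15_3 (iv0 D214927) (iv0 F407806) F373722
theorem F477475 : act 1 n165950 = n214927 := d15_0 (iv0 D214927) F261320 D165950
theorem F477476 : act 7 n214927 = n165948 := d15_2 (iv0 F433342) F477475 (iv2 F373720)
theorem F477477 : act 3 n200069 = n214927 := d8_3 F477476 F334347 (iv7 F414887)
def n214928 : Q := act 2 n163830
theorem D214928 : act 2 n163830 = n214928 := rfl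
theorem F477478 : act 3 n214928 = n165938 := d0_2 D163830 D214928 (iv2 D165938) (iv3 D79680) F261319
theorem F477479 : act 4 n214928 = n207991 := d1_2 F280687 D214928 (iv2 F447311)
theorem F477480 : act 5 n214928 = n207791 := d2_2 F366150 D214928 (iv2 D207791)
theorem F477481 : act 6 n214928 = n174054 := d3_2 F355020 D214928 (iv2 F364110)
theorem F477482 : act 7 n214928 = n165950 := d4_2 (iv7 F261320) D214928 (iv2 D165950)
theorem F477483 : act 1 n214928 = n165948 := d15_0 (iv0 D165948) (iv7 F261320) D214928
theorem F477484 : act 1 n165868 = n214928 := d15_0 F477483 (iv7 F477476) (iv2 F477474)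
def n214929 : Q := act 1 n163846
theorem D214929 : act 1 n163846 = n214929 := rfl
theorem F477485 : act 1 n214929 = n205197 := d15_1 D214929 F435385 F416818
theorem F477486 : act 7 n214929 = n164128 := d15_2 (iv0 F409656) D214929 (iv2 F409653)
theorem F477487 : act 3 n163863 = n214929 := d19_19 (iv1 D214929) F358757 F358753 (iv3 F158763) (iv1 F158766) (iv5 F380045) (iv4 F417702) (iv3 D200734) (iv1 D113393) (iv5 D52343) (iv4 F82715) (iv3 D52334) F40197 D49884 F79918 (iv3 F162316) (iv1 F225731) F225729 (iv4 F360148)
theorem F477488 : act 6 n166399 = n214929 := d21_3 (iv5 D212457) (iv1 F460280) F460276 (iv1 D214929) F330809 (iv5 F275812) F187611 (iv5 F249453) D214333 (iv1 F474619)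
theorem F477489 : act 2 n214929 = n200174 := d3_1 F477488 (iv6 F466132) F466128
def n214930 : Q := act 4 n163871
theorem D214930 : act 4 n163871 = n214930 := rfl
theorem F477490 : act 2 n214930 = n210957 := d1_1 D214930 F459480 (iv2 F338759)
theorem F477491 : act 3 n214930 = n197707 := d5_1 D214930 (iv4 F412441) (iv3 D199505) D199506 F412449
theorem F477492 : act 5 n214930 = n197811 := d9_2 (iv5 F338760) D214930 (iv4 F405849) F437306 F437304 F217896 (iv4 F214316) F338764 (iv4 F281187) (iv5 F442633) (iv4 D206928) (iv5 F418966) F418962 F326874 F214326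
theorem F477493 : act 6 n214930 = n166436 := d10_2 (iv6 F338761) D214930 (iv4 D166436)
theorem F477494 : act 7 n214930 = n164012 := d11_2 (iv7 F338762) D214930 F258475
theorem F477495 : act 0 n214930 = n197978 := d18_2 (iv1 F338758) D214930 (iv4 D197978) (iv5 F344738) (iv4 D116119) F102185 (iv4 F100487) (iv0 F102080) D126864
theorem F477496 : act 1 n214930 = n197979 := d18_6 F402994 F204057 (iv1 F214321) F214326 (iv5 F338760) D214930 (iv4 D197979) F341854 (iv5 F402993)
def n214931 : Q := act 4 n163938
theorem D214931 : act 4 n163938 = n214931 := rfl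
theorem F477497 : act 2 n214931 = n214317 := d1_1 D214931 F474540 (iv2 F430249)
theorem F477498 : act 3 n214931 = n214318 := d5_1 D214931 (iv4 F474544) (iv3 D214278) F400823 (iv3 F400824)
theorem F477499 : act 6 n214931 = n194831 := d10_2 (iv6 F459633) D214931 (iv4 F431923)
theorem F477500 : act 5 n214931 = n191253 := d17_5 (iv1 D122588) D122590 D204075 F433491 D214931 (iv0 D191253) F358420 (iv0 F436502) (iv4 D204071)
theorem F477501 : act 0 n176729 = n214931 := d20_10 (iv4 D214931) (iv1 F430247) F430245 F258570 (iv1 F141770) D188477 F373618 F370053 (iv4 D176730) D176729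
def n214932 : Q := act 4 n163939
theorem D214932 : act 4 n163939 = n214932 := rfl
theorem F477502 : act 3 n214932 = n176710 := d5_1 D214932 F348602 (iv3 F466150) F466151 F433500
theorem F477503 : act 6 n214932 = n190678 := d10_2 (iv6 F433499) D214932 (iv4 F406063)
theorem F477504 : act 7 n214932 = n214317 := d11_2 (iv7 F430250) D214932 F474540
theorem F477505 : act 5 n214932 = n191254 := d17_5 (iv1 F253202) (iv5 F433495) (iv1 F433498) F431002 D214932 F382761 D209920 (iv0 F455356) (iv4 D204067)
theorem F477506 : act 1 n176729 = n214932 := d15_1 (iv0 F477501) F477504 (iv2 F477497)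
def n214933 : Q := act 5 n163940
theorem D214933 : act 5 n163940 = n214933 := rfl
theorem F477507 : act 2 n214933 = n163941 := d2_1 D214933 (iv5 D163941) D163940
theorem F477508 : act 3 n214933 = n163964 := d6_1 D214933 (iv5 D163964) (iv3 F258390)
theorem F477509 : act 4 n214933 = n190948 := d16_2 (iv4 F258391) D214933 F381661 (iv4 D189474) (iv5 D93979) (iv4 F69444) (iv5 F293691) F119986 D158033
theorem F477510 : act 1 n214933 = n204068 := d17_6 D82420 F377571 (iv1 F373777) F373775 (iv4 F258391) D214933 (iv5 D204068) (iv0 D122587) F89952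
theorem F477511 : act 1 n204072 = n214933 := d15_0 F477510 (iv7 F475985) F475984
theorem F477512 : act 6 n190947 = n214933 := d10_0 F477509 (iv6 D190948) D190947
def n214934 : Q := act 0 n163943
theorem D214934 : act 0 n163943 = n214934 := rfl
theorem F477513 : act 4 n214934 = n191014 := d18_1 D214934 F476833 F476830 (iv5 D211065) (iv4 F449969) (iv0 D208576) F216781 (iv0 F360117) (iv5 F360116)
theorem F477514 : act 5 n214934 = n208559 := d21_2 (iv5 F360116) D214934 F449891 (iv1 F449863) (iv6 F472557) (iv5 D213881) (iv1 F457302) F457298 (iv6 F400519) (iv1 F360118)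
theorem F477515 : act 6 n214934 = n191002 := d21_5 F115554 (iv1 F88529) D78761 D163943 D214934 F476098 (iv1 D214623) F253346 (iv6 D76916) D76914
theorem F477516 : act 2 n163974 = n214934 := d15_3 (iv0 D214934) (iv0 F400343) (iv7 F406223)
theorem F477517 : act 1 n163977 = n214934 := d15_0 (iv0 D214934) (iv7 F406217) F406216
theorem F477518 : act 7 n214934 = n163975 := d15_2 (iv0 F400345) F477517 (iv2 F400340)
theorem F477519 : act 3 n190982 = n214934 := d7_3 F477515 (iv3 D191002) (iv6 F381798)
def n214935 : Q := act 4 n163964
theorem D214935 : act 4 n163964 = n214935 := rfl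
theorem F477520 : act 2 n214935 = n163966 := d1_1 D214935 (iv4 D163966) (iv2 F258433)
theorem F477521 : act 3 n214935 = n189619 := d5_1 D214935 F377140 (iv3 F381660) (iv4 F477509) F477508
theorem F477522 : act 7 n214935 = n190104 := d11_2 F413053 D214935 (iv4 F413054)
theorem F477523 : act 5 n214935 = n164096 := d16_1 D214935 (iv4 D164096) (iv5 D78835) F56552 (iv5 F43547) (iv4 F88531) D121272 F193382 (iv2 F258433)
theorem F477524 : act 0 n214935 = n205078 := d17_0 (iv5 F474772) (iv1 F474773) F276261 (iv4 D124303) (iv5 D57946) D57944 D124298 F258435 D214935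
theorem F477525 : act 1 n214935 = n205073 := d18_6 (iv1 D180646) (iv4 D86292) (iv1 F254086) (iv4 F119938) D163964 D214935 (iv4 D205073) D205072 F434867
theorem F477526 : act 6 n190257 = n214935 := d21_3 F365860 (iv1 F363543) (iv5 F379223) F477524 F434900 (iv5 D194167) (iv1 F468388) (iv5 F273550) (iv6 D174702) D174699
def n214936 : Q := act 6 n163964
theorem D214936 : act 6 n163964 = n214936 := rfl
theorem F477527 : act 2 n214936 = n163967 := d3_1 D214936 (iv6 D163967) (iv2 F258433)
theorem F477528 : act 3 n214936 = n190947 := d7_1 D214936 F477512 F477508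
theorem F477529 : act 4 n214936 = n190257 := d10_1 D214936 F477526 (iv4 D214935)
theorem F477530 : act 5 n214936 = n214141 := d12_1 D214936 F473681 (iv5 F333851) (iv6 D163965) D163964
theorem F477531 : act 7 n214936 = n211426 := d14_2 F413053 D214936 (iv6 F461489) F381679 F413055
theorem F477532 : act 0 n198578 = n214936 := d21_4 (iv5 D141995) (iv1 F366181) D210892 F459174 (iv6 D214936) (iv5 D163964) F193376 F254090 F461550 (iv1 D211443)
theorem F477533 : act 1 n198427 = n214936 := d15_0 (iv0 F477532) F408378 (iv2 F407984)
theorem F477534 : act 0 n198557 = n214648 := d21_4 (iv5 F453820) (iv1 F453822) (iv5 D198576) (iv6 F408342) (iv6 D214648) (iv5 F341847) F341843 D163964 D214936 (iv1 F477533)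
def n214937 : Q := act 7 n163967
theorem D214937 : act 7 n163967 = n214937 := rfl
theorem F477535 : act 2 n214937 = n211426 := d4_1 D214937 (iv7 F477531) F477527
theorem F477536 : act 3 n214937 = n163977 := d8_1 D214937 (iv7 D163977) (iv3 F258438)
theorem F477537 : act 4 n214937 = n198460 := d11_1 D214937 (iv7 F409384) F409385
theorem F477538 : act 5 n214937 = n211063 := d13_1 D214937 F459962 F406225
theorem F477539 : act 6 n214937 = n191001 := d14_1 D214937 F430275 (iv6 D203893) F193382 D163967
theorem F477540 : act 1 n198578 = n214937 := d15_1 (iv0 F477532) (iv7 D214937) (iv2 F477527)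
theorem F477541 : act 1 n214937 = n198427 := d15_1 F477540 (iv7 F453816) F453813
def n214938 : Q := act 2 n163972
theorem D214938 : act 2 n163972 = n214938 := rfl
theorem F477542 : act 3 n214938 = n199665 := d0_2 D163972 D214938 (iv2 F413051) F193381 (iv2 F119942)
theorem F477543 : act 5 n214938 = n203888 := d2_2 (iv5 F258442) D214938 (iv2 D203888)
theorem F477544 : act 6 n214938 = n212115 := d3_2 F476901 D214938 (iv2 F476898)
theorem F477545 : act 7 n214938 = n214933 := d4_2 (iv7 F258443) D214938 F477507
theorem F477546 : act 1 n214938 = n214598 := d15_0 (iv0 F475986) (iv7 F258443) D214938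
theorem F477547 : act 1 n214600 = n214938 := d15_0 F477546 F475985 (iv2 F475993)
def n214939 : Q := act 3 n163974
theorem D214939 : act 3 n163974 = n214939 := rfl
theorem F477548 : act 5 n214939 = n206352 := d6_2 F406224 D214939 F440370
theorem F477549 : act 7 n214939 = n190198 := d8_2 (iv7 F406223) D214939 (iv3 F400341)
theorem F477550 : act 4 n190162 = n214939 := d11_3 F477549 F379063 (iv7 F379012)
theorem F477551 : act 6 n190161 = n214939 := d14_5 F477549 (iv6 D190198) (iv7 D95695) (iv6 F147358) D190161
def n214940 : Q := act 6 n163974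
theorem D214940 : act 6 n163974 = n214940 := rfl
theorem F477552 : act 2 n214940 = n191002 := d3_1 D214940 (iv6 F477515) (iv2 F477516)
theorem F477553 : act 3 n214940 = n190161 := d7_1 D214940 F477551 (iv3 D214939)
theorem F477554 : act 4 n214940 = n191027 := d10_1 D214940 (iv6 F476819) F476818
theorem F477555 : act 5 n214940 = n206351 := d12_1 D214940 (iv6 D206351) D206350 (iv6 F440366) F406224
theorem F477556 : act 7 n214940 = n190159 := d14_2 (iv7 F406223) D214940 F379006 F365370 (iv6 F400342)
theorem F477557 : act 0 n211424 = n214940 := d21_10 F477555 F440369 (iv5 D204766) (iv6 D124310) F91673 D124308 (iv5 F404926) (iv1 F405373) F405375 D211424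
def n214941 : Q := act 3 n163975
theorem D214941 : act 3 n163975 = n214941 := rfl
theorem F477558 : act 4 n214941 = n190983 := d5_2 F476825 D214941 F381799 (iv4 F381885) (iv3 F476827)
theorem F477559 : act 5 n214941 = n208555 := d6_2 F343789 D214941 F449873
theorem F477560 : act 6 n214941 = n208557 := d7_2 (iv6 F343790) D214941 F449880
theorem F477561 : act 7 n214941 = n190982 := d8_2 F477518 D214941 F477519
theorem F477562 : act 0 n211423 = n214941 := d20_4 (iv4 D196332) D196330 (iv4 F400353) D211423 (iv3 D214941) (iv4 F476825) (iv1 D214783) (iv4 F362692) (iv3 F413946) (iv1 F413950)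
def n214942 : Q := act 3 n164000
theorem D214942 : act 3 n164000 = n214942 := rfl
theorem F477563 : act 2 n214942 = n200865 := d0_1 D214942 (iv3 F418205) (iv2 F261329) F281181 (iv2 F281180)
theorem F477564 : act 4 n214942 = n189798 := d5_2 (iv4 F258465) D214942 F377794 (iv4 D125370) D125369
theorem F477565 : act 6 n214942 = n199125 := d7_2 (iv6 F364753) D214942 (iv3 D199125)
theorem F477566 : act 7 n214942 = n200864 := d8_2 F280699 D214942 F418203
theorem F477567 : act 0 n214942 = n200863 := d20_10 F418201 (iv1 F418280) (iv4 F406198) (iv3 D197921) (iv1 F406183) F406179 (iv4 F193375) (iv1 F258467) (iv4 F258465) D214942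
theorem F477568 : act 0 n197958 = n214942 := d20_4 F170696 (iv1 F164681) (iv4 F168716) D197958 (iv3 D214942) F258465 (iv1 F258468) (iv4 F341846) F167989 D108610
theorem F477569 : act 5 n199752 = n214942 := d21_2 D111661 D199752 F477565 F440932 F440930 (iv5 D202690) (iv1 F360015) F413353 (iv6 D199751) (iv1 D111660)
theorem F477570 : act 3 n214672 = n199752 := d6_3 F477569 (iv3 D214942) (iv5 F476328)
def n214943 : Q := act 2 n164002
theorem D214943 : act 2 n164002 = n214943 := rfl
theorem F477571 : act 3 n214943 = n196420 := d0_2 D164002 D214943 (iv2 F400642) (iv3 D180688) (iv2 F254478)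
theorem F477572 : act 6 n214943 = n194490 := d3_2 (iv6 F380645) D214943 (iv2 F393425)
theorem F477573 : act 1 n214943 = n214625 := d15_0 (iv0 F476104) F281183 D214943
theorem F477574 : act 1 n214691 = n214943 := d15_0 F477573 F476102 (iv2 F476413)
def n214944 : Q := act 5 n164002
theorem D214944 : act 5 n164002 = n214944 := rfl
theorem F477575 : act 3 n214944 = n164003 := d6_1 D214944 (iv5 D164003) D164002
theorem F477576 : act 4 n214944 = n198498 := d16_4 F476175 (iv5 F380648) F380647 D214944 F408159 (iv4 F173121) D199671 F413069 (iv2 F476172)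
theorem F477577 : act 0 n214944 = n214696 := d17_2 F476524 D214944 F476432 F429393 (iv5 F476538) F476536 F381809 F254003 D214718
def n214945 : Q := act 6 n164003
theorem D214945 : act 6 n164003 = n214945 := rfl
theorem F477578 : act 0 n214945 = n190166 := d21_4 F476334 (iv1 D164001) D164003 D214945 (iv6 F476543) F476545 (iv1 F476131) F476358 (iv6 D214678) (iv1 F476332)
def n214946 : Q := act 5 n164004
theorem D214946 : act 5 n164004 = n214946 := rfl
theorem F477579 : act 2 n214946 = n213745 := d2_1 D214946 F471892 F281222
theorem F477580 : act 3 n214946 = n211027 := d6_1 D214946 F459790 F380642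
theorem F477581 : act 7 n214946 = n213747 := d13_2 F430542 D214946 F471901
theorem F477582 : act 4 n214946 = n203517 := d16_2 (iv4 F258471) D214946 F428662 (iv4 F234272) (iv5 F278141) (iv4 F334090) (iv5 D166437) F330290 F254489
theorem F477583 : act 1 n214946 = n178502 := d17_8 D178500 (iv5 F359349) (iv1 F353048) (iv5 D155846) (iv4 F244830) D213793 F472118 D214946 (iv4 D178502)
theorem F477584 : act 0 n214946 = n178507 := d18_0 (iv4 D178507) (iv1 F353056) (iv4 F352230) (iv5 D108872) (iv4 F168811) D197982 (iv4 F472115) F472118 D214946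
def n214947 : Q := act 5 n164009
theorem D214947 : act 5 n164009 = n214947 := rfl
theorem F477585 : act 3 n214947 = n164015 := d6_1 D214947 (iv5 D164015) (iv3 F258473)
theorem F477586 : act 4 n214947 = n202998 := d9_1 D214947 (iv5 D202998) (iv4 F314507) F161809 (iv4 F375015) F409600 (iv4 F415405) (iv5 F423862) (iv4 F426718) (iv5 D203034) (iv4 F374145) (iv5 F421707) (iv4 F448452) F448451 F409595
theorem F477587 : act 6 n214947 = n210316 := d12_2 D164009 D214947 F456983 (iv6 D159323) F250794
theorem F477588 : act 7 n214947 = n203035 := d13_2 F412448 D214947 F426725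
theorem F477589 : act 0 n214947 = n209940 := d17_2 F409485 D214947 F455453 F387409 D199728 (iv0 F413275) F326447 D180414 (iv4 F409484)
def n214948 : Q := act 5 n164010
theorem D214948 : act 5 n164010 = n214948 := rfl
theorem F477590 : act 3 n214948 = n164011 := d6_1 D214948 (iv5 D164011) D164010
theorem F477591 : act 0 n214948 = n211415 := d17_2 F337390 D214948 F461468 F412119 (iv5 F461371) (iv0 F474363) (iv5 D214277) (iv0 D157899) (iv4 F337392)
theorem F477592 : act 0 n203699 = n214948 := d21_1 (iv5 F429448) (iv5 D214948) F345343 (iv1 D108719) D108722 F351074 D204275 F431805 F475950 (iv1 D214591)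
def n214949 : Q := act 6 n164011
theorem D214949 : act 6 n164011 = n214949 := rfl
def n214950 : Q := act 5 n164012
theorem D214950 : act 5 n164012 = n214950 := rfl
theorem F477593 : act 2 n214950 = n206928 := d2_1 D214950 F442633 F281186
theorem F477594 : act 3 n214950 = n196373 := d6_1 D214950 (iv5 F400502) F345342
theorem F477595 : act 7 n214950 = n197811 := d13_2 F477494 D214950 (iv5 F477492)
theorem F477596 : act 4 n214950 = n206847 := d16_2 (iv4 F258475) D214950 F442391 (iv4 F216294) F216295 (iv4 F402980) F402979 (iv7 D180653) (iv2 F254472)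
theorem F477597 : act 1 n214950 = n198239 := d17_6 (iv1 F325251) F325252 F336492 (iv5 D164015) (iv4 F258475) D214950 (iv5 D198239) (iv0 F402864) (iv4 D126951)
def n214951 : Q := act 0 n164023
theorem D214951 : act 0 n164023 = n214951 := rfl
theorem F477598 : act 4 n214951 = n166750 := d18_1 D214951 (iv1 F409834) F409831 F327456 (iv4 D91209) (iv0 F338444) D188252 F372853 (iv5 F348605)
theorem F477599 : act 2 n166736 = n214951 := d15_3 (iv0 D214951) F304019 (iv7 F262465)
theorem F477600 : act 1 n164028 = n214951 := d15_0 (iv0 D214951) (iv7 F476836) F476834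
theorem F477601 : act 7 n214951 = n208916 := d15_2 F348608 F477600 F451397
theorem F477602 : act 3 n214280 = n214951 := d19_19 (iv1 F477600) F348604 F284680 F134153 (iv1 F133451) F133453 F66269 F33566 (iv1 F63251) (iv5 F291910) (iv4 F31080) (iv3 D19420) D19418 D41281 (iv4 F119712) (iv3 F257693) F327187 (iv5 F382700) (iv4 F474376)
theorem F477603 : act 6 n196495 = n214951 := d14_5 F477601 (iv6 F451396) F280699 F364753 (iv7 F400840)
def n214952 : Q := act 3 n164023
theorem D214952 : act 3 n164023 = n214952 := rfl
theorem F477604 : act 2 n214952 = n214278 := d0_1 D214952 (iv3 D214278) (iv2 F363805) F363802 F348607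
theorem F477605 : act 4 n214952 = n199853 := d5_2 D164023 D214952 F413828 (iv4 F304018) (iv3 D164022)
theorem F477606 : act 0 n214952 = n214263 := d20_4 F119941 D78800 D164023 D214952 (iv3 D214263) (iv4 F417135) (iv1 D200598) F176453 (iv3 F351736) (iv1 D163969)
def n214953 : Q := act 6 n164023
theorem D214953 : act 6 n164023 = n214953 := rfl
theorem F477607 : act 2 n214953 = n208915 := d3_1 D214953 F451391 F348607
theorem F477608 : act 4 n214953 = n164025 := d10_1 D214953 (iv6 D164025) D164023
theorem F477609 : act 0 n214953 = n172563 := d21_4 (iv5 F372819) F372818 (iv5 F348605) D214953 (iv6 F352239) D210958 F459487 (iv5 D197800) D197801 (iv1 F405839)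
theorem F477610 : act 0 n202459 = n205053 := d17_2 F477609 F424090 (iv5 D205053) (iv4 D125354) D125355 F339282 (iv5 F406492) (iv0 F406494) (iv4 F477608)
theorem F477611 : act 0 n178149 = n214953 := d18_2 D199577 F412737 F477608 F339510 (iv4 F389087) (iv0 D193182) (iv4 F351630) (iv0 F351634) (iv5 F348176)
def n214954 : Q := act 4 n164074
theorem D214954 : act 4 n164074 = n214954 := rfl
theorem F477612 : act 2 n214954 = n196272 := d1_1 D214954 F400147 F413680
theorem F477613 : act 3 n214954 = n200863 := d5_1 D214954 F418201 (iv3 F359018) (iv4 F455802) F455801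
theorem F477614 : act 6 n214954 = n196271 := d10_2 F413707 D214954 (iv4 F413706)
theorem F477615 : act 7 n214954 = n214303 := d11_2 F413683 D214954 (iv4 D214303)
theorem F477616 : act 0 n214626 = n214954 := d20_10 (iv4 D214954) (iv1 F258569) (iv4 F258391) F258390 F193376 (iv3 F406179) F406180 (iv1 F405966) F405967 D214626
def n214955 : Q := act 6 n164076
theorem D214955 : act 6 n164076 = n214955 := rfl
theorem F477617 : act 2 n214955 = n164077 := d3_1 D214955 (iv6 D164077) D164076
theorem F477618 : act 3 n214955 = n164095 := d7_1 D214955 (iv6 D164095) (iv3 F258570)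
theorem F477619 : act 4 n214955 = n205139 := d10_1 D214955 (iv6 F435112) F430245
theorem F477620 : act 5 n214955 = n201415 := d12_1 D214955 F420426 (iv5 F377280) F377281 F367159
theorem F477621 : act 0 n189721 = n214955 := d21_4 (iv5 F353292) F127728 D158892 (iv6 F377524) (iv6 D214955) (iv5 F367159) (iv1 F373778) F390834 F365628 F353290
def n214956 : Q := act 0 n164077
theorem D214956 : act 0 n164077 = n214956 := rfl
theorem F477622 : act 5 n214956 = n189722 := d17_1 D214956 (iv1 F377529) (iv5 F453097) F453096 (iv5 D195885) (iv0 D106406) D106409 D195894 F398634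
theorem F477623 : act 3 n214956 = n212188 := d20_5 (iv4 D164082) (iv1 D78828) (iv4 F119988) (iv3 F258575) D214956 F464681 F362870 (iv4 F430161) F430160 (iv1 F298083)
theorem F477624 : act 6 n212187 = n214956 := d7_0 F477623 (iv6 D212188) D212187
theorem F477625 : act 7 n214956 = n189721 := d14_2 (iv7 F464679) F477624 F377524 (iv7 F300943) (iv6 F455536)
def n214957 : Q := act 0 n164079
theorem D214957 : act 0 n164079 = n214957 := rfl
theorem F477626 : act 5 n214957 = n199992 := d17_3 F297273 D164079 D214957 F414515 (iv5 D121155) F296279 F66448 (iv0 F296280) D121151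
theorem F477627 : act 2 n164111 = n214957 := d15_3 (iv0 D214957) (iv0 F276053) F276052
theorem F477628 : act 1 n164114 = n214957 := d15_0 (iv0 D214957) (iv7 F476410) F476409
theorem F477629 : act 7 n214957 = n164112 := d15_2 F276054 F477628 (iv2 F276051)
theorem F477630 : act 3 n207241 = n214957 := d19_19 (iv1 F477628) F258641 F120007 F56554 (iv1 F43554) (iv5 F43557) (iv4 F60650) (iv3 F322420) D158423 F303267 (iv4 F317060) (iv3 D71665) D71663 (iv5 F238958) (iv4 F468010) F468009 F421516 F375208 (iv4 F443933)
theorem F477631 : act 6 n214957 = n207239 := d7_2 D207241 F477630 (iv3 D207239)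
def n214958 : Q := act 4 n164079
theorem D214958 : act 4 n164079 = n214958 := rfl
theorem F477632 : act 2 n214958 = n164113 := d1_1 D214958 (iv4 D164113) (iv2 F258581)
theorem F477633 : act 6 n214958 = n189339 := d10_2 F367173 D214958 F376430
def n214959 : Q := act 5 n164082
theorem D214959 : act 5 n164082 = n214959 := rfl
theorem F477634 : act 2 n214959 = n164126 := d2_1 D214959 (iv5 D164126) (iv2 F258594)
theorem F477635 : act 3 n214959 = n195812 := d6_1 D214959 F398291 F394571
theorem F477636 : act 7 n214959 = n164121 := d13_2 (iv7 F258596) D214959 (iv5 D164121)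
theorem F477637 : act 0 n214959 = n198712 := d17_2 (iv1 F298083) D214959 (iv5 D198712) (iv4 F174734) F323062 F323966 F122553 (iv0 F115929) (iv4 F193186)
theorem F477638 : act 1 n214959 = n198636 := d17_6 (iv1 F326932) F325609 (iv1 F325272) F119992 D164082 D214959 (iv5 D198636) (iv0 F362589) F174980
def n214960 : Q := act 3 n164083
theorem D214960 : act 3 n164083 = n214960 := rfl
theorem F477639 : act 2 n214960 = n214872 := d0_1 D214960 F477224 (iv2 F455813) (iv3 D194153) (iv2 F443832)
theorem F477640 : act 5 n214960 = n207608 := d6_2 F414784 D214960 F463157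
theorem F477641 : act 6 n214960 = n176730 := d7_2 (iv6 F414785) D214960 (iv3 F276107)
theorem F477642 : act 7 n214960 = n194148 := d8_2 (iv7 F443833) D214960 (iv3 D194148)
theorem F477643 : act 4 n214960 = n176708 := d20_6 F59874 (iv1 F31459) (iv4 F56548) D78830 D164083 D214960 (iv1 D176708) F129308 (iv3 D38858) D38856
theorem F477644 : act 1 n164092 = n214960 := d17_8 (iv1 D176708) (iv5 F326724) D190168 F379023 (iv4 F361140) F160676 F370250 F370240 F477643
theorem F477645 : act 0 n190323 = n214960 := d18_0 F477643 (iv1 D176708) F129308 D84259 D176736 (iv0 F341812) F254524 D187412 (iv5 F379391)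
def n214961 : Q := act 4 n164083
theorem D214961 : act 4 n164083 = n214961 := rfl
theorem F477646 : act 2 n214961 = n194154 := d1_1 D214961 (iv4 D194154) (iv2 F443832)
theorem F477647 : act 6 n214961 = n214718 := d10_2 (iv6 F414785) D214961 (iv4 D214718)
theorem F477648 : act 7 n214961 = n194149 := d11_2 (iv7 F443833) D214961 (iv4 D194149)
theorem F477649 : act 0 n214961 = n214952 := d20_1 D214961 F477605 F413828 (iv1 D176711) (iv3 D84250) F59874 (iv1 F31459) (iv4 F56548) D78830 D164083
def n214962 : Q := act 6 n164084
theorem D214962 : act 6 n164084 = n214962 := rfl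
theorem F477650 : act 2 n214962 = n194151 := d3_1 D214962 (iv6 D194151) (iv2 F443830)
theorem F477651 : act 3 n214962 = n206526 := d7_1 D214962 (iv6 F455817) (iv3 F455818)
theorem F477652 : act 4 n214962 = n205130 := d10_1 D214962 (iv6 F474296) F474295
theorem F477653 : act 7 n214962 = n205134 := d14_2 (iv7 F443831) D214962 F435094 (iv7 F370046) F443836
theorem F477654 : act 0 n214962 = n164106 := d21_4 (iv5 F377546) (iv1 F377551) F382167 D214962 (iv6 F430042) (iv5 F443542) F443540 F392966 (iv6 D176823) (iv1 F250157)
def n214963 : Q := act 5 n164086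
theorem D214963 : act 5 n164086 = n214963 := rfl
theorem F477655 : act 2 n214963 = n213839 := d2_1 D214963 F472323 (iv2 F382060)
theorem F477656 : act 3 n214963 = n164087 := d6_1 D214963 (iv5 D164087) (iv3 F258606)
theorem F477657 : act 6 n214963 = n194293 := d12_2 D164086 D214963 F392702 (iv6 D186424) F136172
theorem F477658 : act 7 n214963 = n214243 := d13_2 F382059 D214963 F474175
theorem F477659 : act 4 n214963 = n203292 := d16_6 F227370 (iv5 F450514) F450513 (iv5 D198781) (iv4 F365922) D214963 F427715 (iv7 F463789) (iv2 D211972)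
theorem F477660 : act 1 n214963 = n186983 := d17_6 (iv1 D111499) (iv5 F172895) F409209 (iv5 D198781) (iv4 F365922) D214963 (iv5 F461877) F461882 F382027
theorem F477661 : act 0 n214963 = n212248 := d18_0 (iv4 D212248) (iv1 D146164) (iv4 F204859) (iv5 F204862) D199839 F460167 F460162 F382075 D214963
def n214964 : Q := act 0 n164092
theorem D214964 : act 0 n164092 = n214964 := rfl
theorem F477662 : act 5 n214964 = n188463 := d17_3 D187411 F370240 D214964 F373571 (iv5 D126233) D126232 F365639 (iv0 F341812) F254524
theorem F477663 : act 4 n214964 = n176707 := d18_1 D214964 (iv1 F328210) (iv4 F173515) F358105 D191261 F382794 F382528 F370250 F370240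
theorem F477664 : act 6 n214964 = n196181 := d21_5 (iv5 F138067) (iv1 F138069) (iv5 F138109) (iv6 F340638) D214964 F399747 (iv1 F379632) F160702 F76238 (iv1 F340348)
theorem F477665 : act 2 n194148 = n214964 := d15_3 (iv0 D214964) F477644 F477642
theorem F477666 : act 1 n190323 = n214964 := d15_0 (iv0 D214964) (iv7 F373620) (iv2 F379390)
theorem F477667 : act 7 n214964 = n214872 := d15_2 (iv0 F477645) F477666 (iv2 F477639)
def n214965 : Q := act 1 n164097
theorem D214965 : act 1 n164097 = n214965 := rfl
theorem F477668 : act 1 n214965 = n200051 := d15_1 D214965 F414790 F409374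
theorem F477669 : act 7 n214965 = n188446 := d15_2 (iv0 F378390) D214965 (iv2 F378387)
theorem F477670 : act 4 n214965 = n187419 := d18_7 (iv1 D109249) F79771 D50414 D109251 D198367 F407780 D214965 (iv0 F409395) (iv5 D198363)
theorem F477671 : act 3 n188449 = n214965 := d20_3 F445556 (iv1 F373541) (iv4 F373510) (iv1 D214965) F258631 (iv4 F293656) F86647 D106486 (iv3 F211533) D207584
theorem F477672 : act 6 n190747 = n214965 := d21_3 (iv5 D189949) (iv1 F148702) (iv5 F380898) (iv1 D214965) (iv6 D164097) (iv5 D78835) D78832 F254080 (iv6 F458883) F458885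
def n214966 : Q := act 5 n164097
theorem D214966 : act 5 n164097 = n214966 := rfl
theorem F477673 : act 2 n214966 = n214471 := d2_1 D214966 F475327 F409374
theorem F477674 : act 3 n214966 = n164104 := d6_1 D214966 (iv5 D164104) (iv3 F258631)
theorem F477675 : act 4 n214966 = n198632 := d9_1 D214966 F408631 (iv4 D112527) (iv5 D51913) D51912 D112525 D200051 F416144 F416142 F408627 (iv4 D198368) (iv5 D109252) D109251 D198367 F407780
theorem F477676 : act 6 n214966 = n164100 := d12_2 D164097 D214966 (iv5 D164100) (iv6 D78836) D78835
theorem F477677 : act 0 n214966 = n198366 := d17_2 (iv1 D214965) D214966 (iv5 F408245) (iv4 D198531) (iv5 D109518) F169206 D198361 (iv0 F409397) (iv4 F477670)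
theorem F477678 : act 1 n214966 = n198531 := d17_6 (iv1 D198632) (iv5 D109706) F169209 D198367 F407780 D214966 F408245 (iv0 F477677) F477675
def n214967 : Q := act 7 n164097
theorem D214967 : act 7 n164097 = n214967 := rfl
theorem F477679 : act 2 n214967 = n200051 := d4_1 D214967 F414790 F409374
theorem F477680 : act 3 n214967 = n164105 := d8_1 D214967 (iv7 D164105) (iv3 F258631)
theorem F477681 : act 4 n214967 = n190500 := d11_1 D214967 (iv7 F407778) F407780
theorem F477682 : act 6 n214967 = n190499 := d14_1 D214967 F379920 (iv6 D188481) F141773 D164097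
theorem F477683 : act 0 n188446 = n214967 := d20_4 F382631 (iv1 D188444) (iv4 F141184) (iv3 F373506) F477680 (iv4 F294560) (iv1 F144704) D94271 D189647 (iv1 F382630)
def n214968 : Q := act 5 n164098
theorem D214968 : act 5 n164098 = n214968 := rfl
theorem F477684 : act 2 n214968 = n196171 := d2_1 D214968 (iv5 F434466) F434465
theorem F477685 : act 3 n214968 = n191119 := d6_1 D214968 F382297 (iv3 F334260)
theorem F477686 : act 4 n214968 = n178864 := d9_1 D214968 (iv5 D178864) (iv4 D85276) F311914 (iv4 F213671) (iv5 F438944) F438943 (iv5 F356892) (iv4 D157231) (iv5 D74766) F53914 (iv5 F53862) (iv4 F96278) D131438 (iv4 F354793)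
theorem F477687 : act 6 n214968 = n191087 := d12_2 F354794 D214968 (iv5 F415909) F415910 F393766
theorem F477688 : act 7 n214968 = n207603 := d13_2 (iv7 F434460) D214968 F445645
theorem F477689 : act 0 n214968 = n204995 := d17_2 D164098 D214968 F434515 F395299 F345359 (iv0 F306313) F323614 (iv0 D78859) (iv4 F120006)
theorem F477690 : act 1 n214968 = n214151 := d17_6 (iv1 F409460) F409457 (iv1 D131436) D131438 (iv4 F354793) D214968 F473738 (iv0 D194982) F352025
def n214969 : Q := act 3 n164102
theorem D214969 : act 3 n164102 = n214969 := rfl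
theorem F477691 : act 2 n214969 = n191142 := d0_1 D214969 F382392 F379658 (iv3 D189651) F340686
theorem F477692 : act 4 n214969 = n203666 := d5_2 (iv4 F340685) D214969 (iv3 D203666) (iv4 D120122) (iv3 F152167)
theorem F477693 : act 7 n214969 = n189654 := d8_2 (iv7 F340684) D214969 (iv3 D189654)
theorem F477694 : act 0 n214969 = n188456 := d19_4 F87480 (iv5 F152164) (iv4 F340685) D214969 (iv5 F420812) (iv4 F420810) (iv3 F259286) (iv1 F464046) (iv5 F468669) F468668 (iv3 F354608) F344954 (iv5 F344949) F186380 F86249 (iv1 F52266) (iv5 F30295) (iv4 F55459) (iv3 F83225)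
theorem F477695 : act 6 n185637 = n214969 := d21_9 (iv5 F420812) (iv1 D200447) (iv5 F416376) (iv6 D200425) (iv1 F382400) (iv6 D191144) (iv5 D97320) F294579 (iv5 F335376) F477694
def n214970 : Q := act 5 n164102
theorem D214970 : act 5 n164102 = n214970 := rfl
theorem F477696 : act 2 n214970 = n189652 := d2_1 D214970 (iv5 D189652) F340686
theorem F477697 : act 4 n214970 = n189321 := d9_1 D214970 (iv5 D189321) (iv4 D93882) (iv5 F83010) F47544 D62610 D133396 D208111 F447922 (iv5 D189316) (iv4 D93880) F95765 F95759 (iv5 F152164) (iv4 F340685)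
theorem F477698 : act 7 n214970 = n189655 := d13_2 (iv7 F340684) D214970 (iv5 D189655)
theorem F477699 : act 0 n214970 = n189658 := d17_2 D164102 D214970 F377284 (iv4 D189634) (iv5 F145399) (iv0 D49203) D49206 (iv0 F86647) F293656
theorem F477700 : act 1 n214970 = n189657 := d17_6 (iv1 F176064) (iv5 F176066) F87480 (iv5 F152164) (iv4 F340685) D214970 F377280 F251189 F176085
def n214971 : Q := act 6 n164102
theorem D214971 : act 6 n164102 = n214971 := rfl
theorem F477701 : act 2 n214971 = n189653 := d3_1 D214971 (iv6 D189653) F340686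
theorem F477702 : act 3 n214971 = n185637 := d7_1 D214971 F477695 (iv3 D214969)
theorem F477703 : act 4 n214971 = n191714 := d10_1 D214971 (iv6 D191714) (iv4 F340685)
theorem F477704 : act 5 n214971 = n183117 := d21_6 (iv5 D41441) F31251 D35889 D78837 D164102 D214971 (iv1 F364440) F364437 (iv6 D82424) (iv1 F63887)
theorem F477705 : act 7 n190960 = n214971 := d13_0 F477704 F284733 D190960
theorem F477706 : act 0 n190757 = n214971 := d17_0 F477704 (iv1 F364440) F364437 F126987 (iv5 F293441) (iv0 F139352) (iv5 F163738) D195973 F398920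
def n214972 : Q := act 0 n164104
theorem D214972 : act 0 n164104 = n214972 := rfl
theorem F477707 : act 5 n214972 = n189297 := d17_3 F293657 D164104 D214972 (iv4 D189297) (iv5 D93873) (iv0 F69001) D46140 (iv0 F97636) D133396
theorem F477708 : act 6 n214972 = n202711 := d21_5 (iv5 D164110) (iv1 D78839) D78840 (iv6 F258635) D214972 (iv5 D202711) (iv1 F345455) (iv5 F391903) (iv6 F414714) F414716
theorem F477709 : act 2 n189659 = n214972 := d15_3 (iv0 D214972) (iv0 F355625) F377287
theorem F477710 : act 3 n214972 = n202712 := d0_2 F377286 F477709 F425235 (iv3 F355226) F176239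
theorem F477711 : act 4 n214972 = n189312 := d1_2 F468135 F477709 (iv2 F468134)
theorem F477712 : act 7 n214972 = n189660 := d4_2 F377287 F477709 (iv2 F377289)
theorem F477713 : act 1 n189337 = n214972 := d15_1 (iv0 F376427) F477712 (iv2 F377289)
def n214973 : Q := act 4 n164104
theorem D214973 : act 4 n164104 = n214973 := rfl
theorem F477714 : act 2 n214973 = n189339 := d1_1 D214973 F376430 (iv2 F367172)
theorem F477715 : act 5 n214973 = n189240 := d9_2 D164104 D214973 F376187 F144575 F68914 (iv5 F69420) (iv4 F145406) (iv5 F376426) (iv4 D189337) (iv5 D93887) (iv4 D43890) (iv5 D20790) (iv4 F32956) D43882 F293656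
theorem F477716 : act 6 n214973 = n164113 := d10_2 (iv6 F258635) D214973 (iv4 D164113)
theorem F477717 : act 0 n214973 = n189336 := d17_0 F376425 (iv1 F376376) (iv5 F376409) (iv4 F145404) (iv5 F376411) (iv0 F376363) (iv5 F477707) (iv0 D214972) D214973
theorem F477718 : act 1 n214973 = n189335 := d18_8 (iv1 F376373) (iv4 D189300) (iv1 F144711) D93878 D189312 (iv4 F477711) (iv0 D214972) D214973 F376424
theorem F477719 : act 7 n214973 = n189239 := d15_2 D189336 (iv0 F477717) F376185
def n214974 : Q := act 7 n164104
theorem D214974 : act 7 n164104 = n214974 := rfl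
theorem F477720 : act 2 n214974 = n189337 := d4_1 D214974 F376428 (iv2 F367172)
theorem F477721 : act 4 n214974 = n189239 := d11_1 D214974 (iv7 F477719) (iv4 D214973)
theorem F477722 : act 5 n214974 = n164105 := d13_1 D214974 (iv7 D164105) D164104
theorem F477723 : act 1 n189660 = n214974 := d15_1 D189660 (iv7 D214974) F367172
theorem F477724 : act 1 n214974 = n189659 := d15_1 F477723 (iv7 F377287) F377289
def n214975 : Q := act 4 n164107
theorem D214975 : act 4 n164107 = n214975 := rfl
def n214976 : Q := act 4 n164110
theorem D214976 : act 4 n164110 = n214976 := rfl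
theorem F477725 : act 6 n214976 = n189731 := d10_2 (iv6 F377572) D214976 (iv4 D189731)
def n214977 : Q := act 3 n164111
theorem D214977 : act 3 n164111 = n214977 := rfl
theorem F477726 : act 5 n214977 = n211502 := d6_2 F300520 D214977 F461847
theorem F477727 : act 7 n214977 = n211862 := d8_2 F276052 D214977 F463307
theorem F477728 : act 4 n208034 = n214977 := d19_2 (iv1 F428984) (iv5 F447539) (iv3 D214977) (iv1 F476412) (iv5 D214690) F296970 (iv3 F296947) (iv1 F298657) D121284 F344525 (iv3 F358643) (iv1 F387402) F387399 (iv4 D108472) D108471 (iv1 F404858) (iv5 F420192) F420191 (iv3 F239699)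
theorem F477729 : act 6 n214977 = n208033 := d10_2 D208034 F477728 F447534
def n214978 : Q := act 4 n164111
theorem D214978 : act 4 n164111 = n214978 := rfl
theorem F477730 : act 3 n214978 = n189433 := d5_1 D214978 (iv4 F387427) (iv3 F447538) F477728 (iv3 D214977)
theorem F477731 : act 5 n214978 = n214976 := d16_1 D214978 (iv4 D214976) (iv5 D164110) F298086 (iv5 F122553) (iv4 F261752) F300516 (iv7 F477629) (iv2 F477627)
def n214979 : Q := act 6 n164111
theorem D214979 : act 6 n164111 = n214979 := rfl
theorem F477732 : act 2 n214979 = n207239 := d3_1 D214979 (iv6 F477631) (iv2 F477627)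
theorem F477733 : act 3 n214979 = n208033 := d7_1 D214979 (iv6 F477729) (iv3 D214977)
theorem F477734 : act 5 n214979 = n214810 := d12_1 D214979 (iv6 D214810) (iv5 D162653) D162654 F300520
theorem F477735 : act 7 n214979 = n208031 := d14_2 F276052 D214979 F447526 (iv7 F463302) (iv6 F463304)
theorem F477736 : act 0 n214979 = n200408 := d21_4 (iv5 D198688) (iv1 F344526) F300520 D214979 (iv6 D200408) (iv5 F396280) (iv1 D133340) (iv5 F210022) (iv6 F430205) F430207
def n214980 : Q := act 3 n164112
theorem D214980 : act 3 n164112 = n214980 := rfl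
theorem F477737 : act 2 n214980 = n191177 := d0_1 D214980 F382488 (iv2 F463306) F463307 F276051
theorem F477738 : act 5 n214980 = n199885 := d6_2 F300516 D214980 (iv3 F413972)
theorem F477739 : act 7 n214980 = n207241 := d8_2 F477629 D214980 F477630
theorem F477740 : act 4 n188919 = n214980 := d19_2 (iv1 D188918) D188919 (iv3 D214980) (iv1 D164112) (iv5 D78840) F56553 F28331 D17380 D35904 D78873 (iv3 F322596) (iv1 F249617) F317101 (iv4 F317098) (iv3 F318673) F107943 D107935 (iv4 F402782) F402781
theorem F477741 : act 6 n214980 = n186061 := d10_2 (iv6 F375205) F477740 F331406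
theorem F477742 : act 0 n214980 = n200412 := d17_0 F416330 (iv1 F443548) (iv5 D207154) F209133 F95752 D115056 D201781 (iv0 F421789) F477740
theorem F477743 : act 0 n187422 = n214980 := d20_10 (iv4 F477740) F421789 (iv4 F421790) (iv3 F416139) F416141 (iv3 F447263) (iv4 D207982) (iv1 F213572) (iv4 F361706) D187422
def n214981 : Q := act 4 n164112
theorem D214981 : act 4 n164112 = n214981 := rfl
theorem F477744 : act 3 n214981 = n188940 := d5_1 D214981 (iv4 D188940) (iv3 F375204) F477740 (iv3 D214980)
theorem F477745 : act 5 n214981 = n214975 := d9_2 F300516 D214981 (iv4 D214975) (iv5 D164107) F254712 (iv5 F298092) (iv4 F256893) F300520 D214978 F477731 (iv4 D214976) (iv5 D164110) F298086 (iv5 F122553) (iv4 F261752)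
theorem F477746 : act 6 n189243 = n214981 := d7_0 F477744 F375221 D189243
def n214982 : Q := act 6 n164112
theorem D214982 : act 6 n164112 = n214982 := rfl
theorem F477747 : act 2 n214982 = n211861 := d3_1 D214982 (iv6 F463304) F276051
theorem F477748 : act 3 n214982 = n186061 := d7_1 D214982 (iv6 F477741) (iv3 D214980)
theorem F477749 : act 4 n214982 = n189243 := d10_1 D214982 F477746 (iv4 D214981)
theorem F477750 : act 5 n214982 = n186059 := d12_1 D214982 (iv6 F350443) F331171 D166250 F300516
theorem F477751 : act 0 n214982 = n190752 := d21_4 (iv5 D198744) (iv1 F344527) F300516 D214982 (iv6 F380919) (iv5 D172105) (iv1 F248920) (iv5 F390834) (iv6 F430199) F430201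
theorem F477752 : act 7 n214982 = n189389 := d15_2 (iv0 F380918) (iv0 F477751) (iv2 F379615)
def n214983 : Q := act 1 n164113
theorem D214983 : act 1 n164113 = n214983 := rfl
theorem F477753 : act 4 n214983 = n200049 := d18_7 (iv1 F298016) (iv4 D78846) (iv1 D35892) (iv4 F56553) D78840 D164113 D214983 F414776 (iv5 D121148)
def n214984 : Q := act 3 n164113
theorem D214984 : act 3 n164113 = n214984 := rfl
theorem F477754 : act 4 n214984 = n214216 := d5_2 D164113 D214984 F474029 F348067 F258632
theorem F477755 : act 0 n214984 = n189451 := d19_4 (iv1 D78839) D78840 D164113 D214984 (iv5 D189451) (iv4 F144878) (iv3 F177536) (iv1 F259065) F259063 (iv4 F177669) (iv3 F419380) (iv1 F419383) F251089 F347576 D206416 F440683 (iv5 F452123) F452122 (iv3 D164109)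
def n214985 : Q := act 5 n164113
theorem D214985 : act 5 n164113 = n214985 := rfl
theorem F477756 : act 4 n214985 = n214690 := d16_2 D164113 D214985 (iv5 D214690) F296970 F119995 (iv4 F296970) D214690 F476410 F258581
theorem F477757 : act 7 n214985 = n214958 := d16_8 (iv4 D164113) (iv5 D78840) F56553 F28332 (iv4 F56553) D78840 D164113 D214985 F477632
theorem F477758 : act 1 n214985 = n189238 := d17_8 (iv1 D203875) (iv5 D121148) (iv1 F298016) D164126 F430964 F430965 (iv0 F430193) D214985 (iv4 F430191)
theorem F477759 : act 0 n214985 = n214983 := d18_0 F477753 F414775 D214316 F474539 (iv4 D203876) D203875 F430191 (iv0 F430193) D214985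
def n214986 : Q := act 7 n164113
theorem D214986 : act 7 n164113 = n214986 := rfl
theorem F477760 : act 2 n214986 = n214985 := d4_1 D214986 F477757 F477632
theorem F477761 : act 4 n214986 = n164114 := d11_1 D214986 (iv7 D164114) D164113
theorem F477762 : act 5 n214986 = n214958 := d13_1 D214986 (iv7 F477757) (iv5 D214985)
def n214987 : Q := act 6 n164114
theorem D214987 : act 6 n164114 = n214987 := rfl
theorem F477763 : act 5 n214987 = n214293 := d12_1 D214987 (iv6 D214293) (iv5 D158015) (iv6 F296945) (iv5 F258641)
def n214988 : Q := act 2 n164120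
theorem D214988 : act 2 n164120 = n214988 := rfl
theorem F477764 : act 3 n214988 = n198414 := d0_2 D164120 D214988 F407943 (iv3 F348125) F250091
theorem F477765 : act 4 n214988 = n194925 := d1_2 F394572 D214988 F395026
theorem F477766 : act 5 n214988 = n195813 := d2_2 (iv5 F399716) D214988 (iv2 F399718)
theorem F477767 : act 6 n214988 = n194835 := d3_2 (iv6 F366942) D214988 F394668
theorem F477768 : act 7 n214988 = n194925 := d4_2 F394573 D214988 F395026
theorem F477769 : act 1 n214988 = n176727 := d15_0 (iv0 F394574) F394573 D214988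
theorem F477770 : act 1 n214874 = n214988 := d15_0 F477769 F399653 (iv2 F477226)
def n214989 : Q := act 4 n164121
theorem D214989 : act 4 n164121 = n214989 := rfl
theorem F477771 : act 3 n214989 = n189300 := d5_1 D214989 (iv4 D189300) D189299 (iv4 F399715) F399719
theorem F477772 : act 5 n214989 = n214983 := d9_2 D164121 D214989 F477753 (iv5 D200049) F174980 (iv5 F326664) D78846 D164126 F430964 F430965 (iv4 F430191) F430188 (iv4 D164123) (iv5 D78844) D78843
def n214990 : Q := act 5 n164128
theorem D214990 : act 5 n164128 = n214990 := rfl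
theorem F477773 : act 3 n214990 = n164135 := d6_1 D214990 (iv5 D164135) (iv3 F258681)
theorem F477774 : act 6 n214990 = n205063 := d12_2 D164128 D214990 (iv5 D205063) (iv6 D125426) (iv5 F254071)
theorem F477775 : act 4 n213540 = n214990 := d10_3 F477774 F434843 F470934
def n214991 : Q := act 1 n164130
theorem D214991 : act 1 n164130 = n214991 := rfl
theorem F477776 : act 1 n214991 = n209928 := d15_1 D214991 F455395 F441725
theorem F477777 : act 7 n214991 = n214894 := d15_2 (iv0 F474725) D214991 F477313
theorem F477778 : act 4 n214991 = n181694 := d17_9 (iv1 F282819) (iv5 F376757) F382504 F382499 (iv4 F474487) F474488 F370161 F377361 D214991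
theorem F477779 : act 2 n176724 = n214991 := d1_3 F477778 F367212 (iv4 F276104)
def n214992 : Q := act 6 n164131
theorem D214992 : act 6 n164131 = n214992 := rfl
theorem F477780 : act 2 n214992 = n207183 := d3_1 D214992 F443692 F373698
theorem F477781 : act 3 n214992 = n209926 := d7_1 D214992 (iv6 D209926) (iv3 F377362)
theorem F477782 : act 5 n214992 = n212200 := d12_1 D214992 (iv6 D212200) F228560 F351017 D164131
theorem F477783 : act 0 n214992 = n200291 := d21_4 (iv5 F327412) F327408 D164131 D214992 (iv6 D200291) (iv5 F245143) (iv1 D131917) (iv5 F210034) F359171 (iv1 F281172)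
theorem F477784 : act 1 n214992 = n203666 := d15_1 (iv0 F477783) F429331 F416032
def n214993 : Q := act 3 n164137
theorem D214993 : act 3 n164137 = n214993 := rfl
theorem F477785 : act 2 n214993 = n214315 := d0_1 D214993 F474535 F358313 F341795 F280686
theorem F477786 : act 4 n214993 = n164139 := d5_2 D164137 D214993 (iv3 D164139) (iv4 D78855) D78854
theorem F477787 : act 7 n214993 = n214314 := d8_2 (iv7 F280683) D214993 F474531
theorem F477788 : act 0 n214993 = n206527 := d20_4 (iv4 F325692) F325691 D164137 D214993 F441196 F417135 (iv1 F268411) (iv4 F380700) F380699 (iv1 F160845)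
theorem F477789 : act 6 n207463 = n214993 := d21_3 (iv5 F207114) (iv1 F211205) D207463 F477788 (iv6 D206527) F342951 (iv1 D60612) D60614 D128886 (iv1 F362274)
def n214994 : Q := act 6 n164137
theorem D214994 : act 6 n164137 = n214994 := rfl
theorem F477790 : act 2 n214994 = n204903 := d3_1 D214994 F434093 F280686
theorem F477791 : act 3 n214994 = n207463 := d7_1 D214994 F477789 (iv3 D214993)
theorem F477792 : act 4 n214994 = n164138 := d10_1 D214994 (iv6 D164138) D164137
theorem F477793 : act 7 n214994 = n204902 := d14_2 (iv7 F280683) D214994 (iv6 F434088) F409632 F384093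
theorem F477794 : act 0 n214994 = n191570 := d21_10 (iv5 D191570) F361724 (iv5 F361717) (iv6 D172545) (iv1 F127231) (iv6 F328761) (iv5 F384167) (iv1 F384168) F383923 D214994
theorem F477795 : act 5 n200802 = n214994 := d21_2 F352529 D200802 (iv6 D214994) F258686 F355052 F332711 (iv1 D125654) D125656 (iv6 F367721) F367723
theorem F477796 : act 1 n214994 = n191572 := d17_6 (iv1 F136730) (iv5 F74093) (iv1 F249713) (iv5 F304693) (iv4 F417965) F477795 (iv5 D191572) F361725 F361722
def n214995 : Q := act 6 n164139
theorem D214995 : act 6 n164139 = n214995 := rfl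
theorem F477797 : act 2 n214995 = n174668 := d3_1 D214995 F435775 (iv2 F276095)
theorem F477798 : act 3 n214995 = n164141 := d7_1 D214995 (iv6 D164141) D164139
theorem F477799 : act 4 n214995 = n207463 := d10_1 D214995 F477789 F477786
theorem F477800 : act 7 n214995 = n174667 := d14_2 (iv7 F258688) D214995 F395701 (iv7 F408280) F408279
theorem F477801 : act 0 n214995 = n174669 := d21_4 D98135 D191357 F415858 D214995 F358205 F349537 F209129 D130554 (iv6 F364791) (iv1 D98133)
theorem F477802 : act 0 n173325 = n214995 := d21_4 (iv5 F464539) (iv1 F464541) (iv5 F365218) (iv6 F356158) (iv6 D214995) (iv5 F415858) (iv1 F415857) F415854 (iv6 F466316) F466318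
def n214996 : Q := act 6 n164140
theorem D214996 : act 6 n164140 = n214996 := rfl
theorem F477803 : act 4 n214996 = n199856 := d10_1 D214996 F474783 (iv4 F474780)
theorem F477804 : act 0 n214996 = n189726 := d20_7 (iv4 D20949) D20947 D44096 D94339 F326850 (iv3 F413834) (iv4 F477803) (iv4 D189726) (iv3 D94360) (iv1 D44102)
def n214997 : Q := act 5 n164141
theorem D214997 : act 5 n164141 = n214997 := rfl
theorem F477805 : act 4 n214997 = n209141 := d16_2 (iv4 F258691) D214997 (iv5 F465711) F465710 F239691 (iv4 F340162) (iv5 D166401) (iv7 F340156) (iv2 F254459)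
theorem F477806 : act 1 n198570 = n214997 := d18_6 (iv1 F218508) F398220 (iv1 D195796) F332591 D205696 F437486 F477805 F452436 (iv5 D207023)
def n214998 : Q := act 0 n164152
theorem D214998 : act 0 n164152 = n214998 := rfl
theorem F477807 : act 5 n214998 = n214156 := d17_1 D214998 F473764 (iv5 D213750) (iv4 D155086) (iv5 D73614) (iv0 F155142) D124978 F322695 D164152
theorem F477808 : act 4 n214998 = n174871 := d18_1 D214998 F363197 (iv4 F434455) (iv5 F445645) F445644 F247444 D210443 F457561 F443624
theorem F477809 : act 2 n198493 = n214998 := d15_3 (iv0 D214998) (iv0 F414178) F413840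
theorem F477810 : act 1 n164157 = n214998 := d15_0 (iv0 D214998) (iv7 F434450) F434448
theorem F477811 : act 7 n214998 = n213034 := d15_2 (iv0 F413841) F477810 F468698
theorem F477812 : act 6 n198490 = n214998 := d14_5 F477811 F468700 F280848 (iv6 F449793) F449789
theorem F477813 : act 3 n214998 = n205136 := d19_3 F199883 F363198 (iv4 F477808) (iv1 D205136) (iv5 F377413) F410063 F410065 (iv1 F398891) D197035 (iv4 F450099) F450096 F217323 (iv5 F211052) (iv4 F207487) (iv3 D129189) (iv1 F96738) (iv5 F212097) (iv4 F313258) (iv3 D124974)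
def n214999 : Q := act 3 n164157
theorem D214999 : act 3 n164157 = n214999 := rfl
theorem F477814 : act 4 n214999 = n206418 := d5_2 D164157 D214999 F440692 (iv4 F354791) (iv3 D164156)
theorem F477815 : act 5 n214999 = n206047 := d6_2 F362310 D214999 F438994
theorem F477816 : act 7 n214999 = n206521 := d8_2 F434453 D214999 F441182
theorem F477817 : act 0 n214999 = n206528 := d19_4 (iv1 F255152) F323617 D164157 D214999 (iv5 F441198) F440581 F416197 (iv1 F381599) (iv5 D190933) F320367 (iv3 F228916) (iv1 D68811) (iv5 F51689) F307336 (iv3 F105749) (iv1 F131072) (iv5 D71969) D71968 D152591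
theorem F477818 : act 0 n203863 = n214999 := d20_4 F254712 F296612 (iv4 F193186) (iv3 F430160) (iv3 D214999) (iv4 D164157) (iv1 D78860) (iv4 F120006) F120005 D78838
theorem F477819 : act 2 n206420 = n214999 := d15_3 (iv0 F477818) (iv0 F430163) (iv7 F440701)
def n215000 : Q := act 1 n164228
theorem D215000 : act 1 n164228 = n215000 := rfl
theorem F477820 : act 1 n215000 = n197163 := d15_1 D215000 F403344 (iv2 F258849)
theorem F477821 : act 7 n215000 = n207224 := d15_2 (iv0 F452305) D215000 (iv2 F452301)
theorem F477822 : act 4 n215000 = n203804 := d17_9 (iv1 D203804) (iv5 D120661) D120659 D203800 F429873 F209192 D201557 (iv5 F420939) D215000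
theorem F477823 : act 6 n212034 = n215000 := d21_3 F178682 F283459 (iv5 F464047) (iv1 D215000) F258850 D164231 (iv1 F443856) (iv5 D207217) F376164 (iv1 F376166)
theorem F477824 : act 2 n215000 = n208117 := d3_1 F477823 F447952 F464050
def n215001 : Q := act 6 n164231
theorem D215001 : act 6 n164231 = n215001 := rfl
theorem F477825 : act 3 n215001 = n212891 := d7_1 D215001 (iv6 F467979) F447970
theorem F477826 : act 4 n215001 = n192633 := d10_1 D215001 (iv6 D192633) F311796
theorem F477827 : act 0 n215001 = n212873 := d21_4 (iv5 F356875) (iv1 F178690) D164231 D215001 (iv6 D212873) F420748 (iv1 F218376) (iv5 F452344) F452345 (iv1 D201507)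
def n215002 : Q := act 7 n164261
theorem D215002 : act 7 n164261 = n215002 := rfl
theorem F477828 : act 2 n215002 = n175322 := d4_1 D215002 F362052 (iv2 F258902)
theorem F477829 : act 3 n215002 = n164265 := d8_1 D215002 (iv7 D164265) (iv3 F258903)
theorem F477830 : act 5 n215002 = n187799 := d13_1 D215002 (iv7 F446066) F446065
theorem F477831 : act 6 n215002 = n213658 := d14_1 D215002 F471489 F374017 F177551 D164261
theorem F477832 : act 1 n175148 = n215002 := d15_1 (iv0 F334553) (iv7 D215002) F258902
theorem F477833 : act 1 n215002 = n175324 := d15_1 F477832 (iv7 D175324) (iv2 F274135)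
def n215003 : Q := act 3 n164263
theorem D215003 : act 3 n164263 = n215003 := rfl
theorem F477834 : act 2 n215003 = n190977 := d0_1 D215003 F381789 F213520 F338547 (iv2 F338580)
theorem F477835 : act 4 n215003 = n164446 := d5_2 F338601 D215003 (iv3 D164446) F136678 D121347
theorem F477836 : act 5 n215003 = n207952 := d6_2 (iv5 F338581) D215003 F447122
theorem F477837 : act 6 n215003 = n173491 := d7_2 (iv6 F338582) D215003 F271950
theorem F477838 : act 7 n215003 = n164280 := d8_2 (iv7 F338583) D215003 (iv3 D164280)
theorem F477839 : act 0 n215003 = n165197 := d20_4 F337863 (iv1 F338600) F338601 D215003 F260459 (iv4 F298185) F464888 F464885 F355084 (iv1 F337845)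
theorem F477840 : act 0 n213577 = n215003 := d20_4 (iv4 F340128) (iv1 F361084) (iv4 F438238) (iv3 F471118) (iv3 D215003) (iv4 F338601) F338599 (iv4 F334118) F217562 F338598
def n215004 : Q := act 5 n164301
theorem D215004 : act 5 n164301 = n215004 := rfl
theorem F477841 : act 2 n215004 = n176095 := d2_1 D215004 (iv5 F353781) (iv2 F353807)
theorem F477842 : act 6 n215004 = n179562 := d12_2 (iv6 F353817) D215004 F279620 F233919 (iv5 F229412)
theorem F477843 : act 7 n215004 = n176094 := d13_2 (iv7 F353813) D215004 (iv5 F353789)
theorem F477844 : act 0 n215004 = n172053 := d17_2 F258930 D215004 F270130 (iv4 F326559) (iv5 F430375) (iv0 F430378) (iv5 D201572) (iv0 D114815) (iv4 F178887)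
theorem F477845 : act 1 n215004 = n175685 := d17_6 (iv1 F347652) (iv5 F419410) F419411 (iv5 D164302) D164301 D215004 (iv5 D175685) F272176 (iv4 F347651)
def n215005 : Q := act 4 n164346
theorem D215005 : act 4 n164346 = n215005 := rfl
theorem F477846 : act 2 n215005 = n200277 := d1_1 D215005 F415801 (iv2 F259002)
theorem F477847 : act 3 n215005 = n189655 := d5_1 D215005 (iv4 F443798) F443797 (iv4 D201286) (iv3 F259003)
theorem F477848 : act 6 n215005 = n164348 := d10_2 (iv6 F259004) D215005 (iv4 D164348)
theorem F477849 : act 5 n215005 = n189654 := d16_1 D215005 (iv4 F416033) F465980 F465976 (iv5 F280336) F334455 (iv5 F415809) (iv7 D200279) (iv2 F259002)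
theorem F477850 : act 1 n215005 = n201524 := d18_6 (iv1 F178655) (iv4 F317837) F317835 F178663 D164346 D215005 (iv4 D201524) F178867 F171458
def n215006 : Q := act 7 n164346
theorem D215006 : act 7 n164346 = n215006 := rfl
theorem F477851 : act 2 n215006 = n200279 := d4_1 D215006 (iv7 D200279) (iv2 F259002)
theorem F477852 : act 3 n215006 = n189566 := d8_1 D215006 F376906 (iv3 F259003)
theorem F477853 : act 5 n215006 = n164347 := d13_1 D215006 (iv7 D164347) D164346
theorem F477854 : act 6 n215006 = n189563 := d14_1 D215006 F376888 (iv6 D112927) (iv7 F120120) (iv6 F259004)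
theorem F477855 : act 1 n200278 = n215006 := d15_1 D200278 (iv7 D215006) F259002
theorem F477856 : act 1 n215006 = n196008 := d15_1 F477855 (iv7 F416175) (iv2 F416178)
def n215007 : Q := act 3 n164348
theorem D215007 : act 3 n164348 = n215007 := rfl
theorem F477857 : act 5 n215007 = n208449 := d6_2 (iv5 F378438) D215007 (iv3 F449402)
theorem F477858 : act 6 n215007 = n189655 := d7_2 F477848 D215007 (iv3 F477847)
theorem F477859 : act 7 n215007 = n200275 := d8_2 (iv7 F259012) D215007 (iv3 D200275)
theorem F477860 : act 0 n215007 = n186982 := d19_4 F76663 D78932 D164348 D215007 (iv5 D186982) F137108 F327937 F96398 F48009 F23695 F10993 (iv1 F4794) (iv5 F4795) F4959 (iv3 F4273) F10111 (iv5 F10623) D13805 (iv3 F42826)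
def n215008 : Q := act 5 n164378
theorem D215008 : act 5 n164378 = n215008 := rfl
theorem F477861 : act 2 n215008 = n194350 := d2_1 D215008 (iv5 F419552) (iv2 F419555)
theorem F477862 : act 3 n215008 = n190846 := d6_1 D215008 F381309 (iv3 F380363)
theorem F477863 : act 4 n215008 = n190276 := d16_2 (iv4 F259028) D215008 F379260 F177595 (iv5 F205427) (iv4 F233491) F233492 F193529 (iv2 F193528)
theorem F477864 : act 0 n215008 = n190821 := d17_2 D164378 D215008 (iv5 D190821) F290504 D114150 F290506 (iv5 F120132) (iv0 D78945) D78947
theorem F477865 : act 1 n215008 = n190822 := d17_6 (iv1 F88590) (iv5 F161740) (iv1 F178265) (iv5 F178910) (iv4 F259028) D215008 (iv5 D190822) F178938 F178936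
def n215009 : Q := act 6 n164378
theorem D215009 : act 6 n164378 = n215009 := rfl
theorem F477866 : act 3 n215009 = n189857 := d7_1 D215009 F380361 (iv3 F380363)
theorem F477867 : act 4 n215009 = n201586 := d10_1 D215009 (iv6 D201586) (iv4 F259028)
theorem F477868 : act 7 n215009 = n206178 := d14_2 F419558 D215009 F439594 (iv7 F336919) (iv6 F419561)
theorem F477869 : act 0 n215009 = n210093 := d21_4 D190822 (iv1 F477865) (iv5 D215008) D215009 F456125 (iv5 F378624) (iv1 F475780) F475777 F251963 (iv1 F178938)
theorem F477870 : act 5 n215009 = n193314 := d21_6 F329744 (iv1 F163547) D127127 F352675 D164378 D215009 (iv1 F397753) F397751 (iv6 F251086) F357127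
theorem F477871 : act 0 n189829 = n215009 := d21_4 F390526 (iv1 F377904) (iv5 D189828) D189829 (iv6 D215009) D215008 F477864 (iv5 D190821) (iv6 F366049) (iv1 F390531)
def n215010 : Q := act 3 n164379
theorem D215010 : act 3 n164379 = n215010 := rfl
theorem F477872 : act 4 n215010 = n186915 := d5_2 (iv4 F259031) D215010 (iv3 F432176) F432177 (iv3 F421006)
theorem F477873 : act 6 n215010 = n189844 := d7_2 F259032 D215010 (iv3 F377971)
theorem F477874 : act 0 n215010 = n186918 := d20_4 (iv4 D114855) (iv1 F178912) (iv4 F259031) D215010 F368502 (iv4 F229477) F229475 (iv4 F317850) (iv3 F379544) (iv1 F379547)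
theorem F477875 : act 1 n215010 = n189920 := d15_1 (iv0 F477874) F378253 F369043
def n215011 : Q := act 5 n164379
theorem D215011 : act 5 n164379 = n215011 := rfl
theorem F477876 : act 4 n215011 = n187246 := d9_1 D215011 F369612 F157980 D102726 F290550 (iv5 F178910) (iv4 F259028) D215008 F477863 F379260 F177595 (iv5 F205427) (iv4 F233491) F233492 (iv4 F259031)
theorem F477877 : act 7 n215011 = n194350 := d13_2 (iv7 F419556) D215011 (iv5 F419552)
theorem F477878 : act 0 n215011 = n190822 := d17_2 (iv1 F259030) D215011 (iv5 D190822) F149559 (iv5 F83309) D114228 (iv5 F178020) F120133 D78960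
theorem F477879 : act 1 n215011 = n190821 := d17_6 D55981 (iv5 F178431) (iv1 F233495) F233492 (iv4 F259031) D215011 (iv5 D190821) (iv0 D96966) F71431
theorem F477880 : act 6 n211737 = n215011 := d21_5 (iv5 D144062) (iv1 D67495) D67496 (iv6 F226771) D211737 (iv5 D215011) (iv1 D164379) D164381 (iv6 F415607) F415609
def n215012 : Q := act 5 n164380
theorem D215012 : act 5 n164380 = n215012 := rfl
theorem F477881 : act 2 n215012 = n212771 := d2_1 D215012 F467445 F467386
theorem F477882 : act 3 n215012 = n164381 := d6_1 D215012 (iv5 D164381) D164380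
theorem F477883 : act 7 n215012 = n212772 := d13_2 F419569 D215012 F467447
theorem F477884 : act 0 n215012 = n212774 := d17_2 (iv1 F346187) D215012 F467450 F234652 (iv5 F318854) F318852 (iv5 F317386) F205323 D127720
theorem F477885 : act 1 n215012 = n207417 := d17_6 (iv1 F334998) F230855 F314273 D170600 F346186 D215012 (iv5 D207417) (iv0 F378621) F378619
theorem F477886 : act 0 n211780 = n208096 := d21_4 (iv5 D215012) F346184 D206194 (iv6 F463062) F447852 (iv5 D190041) F367275 D189941 (iv6 F444795) (iv1 F477885)
def n215013 : Q := act 1 n164402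
theorem D215013 : act 1 n164402 = n215013 := rfl
theorem F477887 : act 1 n215013 = n164425 := d15_1 D215013 (iv7 F381250) F381248
theorem F477888 : act 7 n215013 = n215008 := d15_2 F392897 D215013 F477861
theorem F477889 : act 5 n215013 = n201232 := d17_7 (iv1 F177885) (iv5 F251283) F290523 (iv5 D78958) D78957 D164402 D215013 F419557 (iv4 D114165)
theorem F477890 : act 4 n215013 = n214545 := d17_9 (iv1 D214545) (iv5 D159801) F136450 (iv5 F147498) (iv4 F178933) (iv5 D114863) F290519 D164402 D215013
theorem F477891 : act 2 n215011 = n215013 := d1_3 F477890 (iv2 F475724) (iv4 F477876)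
theorem F477892 : act 3 n215013 = n190140 := d19_3 (iv1 F392142) (iv5 F475723) (iv4 F477890) (iv1 F378959) (iv5 D95666) D95665 F338155 (iv1 F106159) F312479 F130255 (iv3 F305178) (iv1 F305914) (iv5 F115131) (iv4 F304491) F304490 (iv1 F421263) F421261 (iv4 F390379) F390380
def n215014 : Q := act 0 n164403
theorem D215014 : act 0 n164403 = n215014 := rfl
theorem F477893 : act 4 n215014 = n200348 := d18_1 D215014 (iv1 F430412) (iv4 F455807) F455808 F399037 F175999 (iv4 F214539) F214543 (iv5 F340444)
theorem F477894 : act 1 n206142 = n215014 := d15_0 (iv0 D215014) (iv7 F448008) F448005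
theorem F477895 : act 2 n203792 = n215014 := d1_3 F477893 F416091 (iv4 F429835)
theorem F477896 : act 7 n195651 = n215014 := d11_0 F477893 F416093 (iv4 F397731)
def n215015 : Q := act 1 n164403
theorem D215015 : act 1 n164403 = n215015 := rfl
theorem F477897 : act 1 n215015 = n206142 := d15_1 D215015 F439442 F381251
theorem F477898 : act 7 n215015 = n203792 := d15_2 (iv0 D215014) D215015 F477895
theorem F477899 : act 4 n215015 = n195223 := d17_9 F396350 F178930 F376228 F376227 F259095 (iv5 F340439) F214543 (iv5 F340444) D215015
theorem F477900 : act 5 n215015 = n201383 := d18_9 F420277 F380231 F443739 F443736 (iv5 F464953) F464952 (iv0 D164408) (iv4 F259046) D215015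
theorem F477901 : act 3 n190054 = n215015 := d19_19 (iv1 D215015) F340444 (iv4 F259103) (iv3 F444735) F444734 F444731 F272145 F325800 F106520 F87839 (iv4 D27814) D27813 (iv1 F200359) (iv5 D58387) D58386 (iv3 F232375) F300082 (iv5 F159152) (iv4 F378665)
theorem F477902 : act 2 n215015 = n195651 := d0_1 F477901 (iv3 F413800) (iv2 F413797) F387989 (iv2 F378664)
theorem F477903 : act 6 n215015 = n164462 := d7_2 D190054 F477901 (iv3 F340928)
def n215016 : Q := act 4 n164409
theorem D215016 : act 4 n164409 = n215016 := rfl
theorem F477904 : act 2 n215016 = n191122 := d1_1 D215016 F382312 (iv2 F398530)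
theorem F477905 : act 3 n215016 = n194288 := d5_1 D215016 F392673 D203796 (iv4 F468853) F468852
theorem F477906 : act 5 n215016 = n191121 := d9_2 (iv5 F398531) D215016 F382308 F178012 (iv4 F381252) (iv5 F381253) (iv4 F259154) (iv5 F290526) (iv4 F464952) F464953 (iv4 F443736) F443737 (iv4 F448009) (iv5 D208129) (iv4 F288203)
theorem F477907 : act 6 n215016 = n164468 := d10_2 (iv6 F398532) D215016 (iv4 D164468)
theorem F477908 : act 7 n215016 = n198528 := d11_2 F416169 D215016 (iv4 F416172)
theorem F477909 : act 0 n215016 = n164448 := d17_0 (iv5 F350610) F360265 (iv5 D97284) (iv4 F258976) D164460 (iv0 F290527) (iv5 D164410) D164409 D215016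
theorem F477910 : act 1 n215016 = n208135 := d18_6 (iv1 F176005) (iv4 F209155) (iv1 F214535) (iv4 F288203) (iv5 F398531) D215016 F448032 F421075 (iv5 D133426)
def n215017 : Q := act 0 n164412
theorem D215017 : act 0 n164412 = n215017 := rfl
theorem F477911 : act 4 n215017 = n187206 := d18_3 F288218 (iv4 F353131) D215017 F369495 (iv4 F291491) D104297 F367170 (iv0 D185832) D185834
theorem F477912 : act 3 n215017 = n186925 := d20_5 (iv4 D164374) (iv1 F120136) D78960 D164412 D215017 F368525 (iv1 F289485) (iv4 F430386) (iv3 D203917) (iv1 F259024)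
theorem F477913 : act 6 n215017 = n164452 := d21_5 D127488 (iv1 F377899) (iv5 D189827) F353130 D215017 (iv5 F340439) (iv1 F214542) (iv5 F439443) (iv6 D206142) (iv1 D127486)
theorem F477914 : act 2 n206149 = n215017 := d15_3 (iv0 D215017) (iv0 F346185) (iv7 F439477)
theorem F477915 : act 1 n206174 = n215017 := d15_0 (iv0 D215017) (iv7 F373864) F439579
theorem F477916 : act 7 n215017 = n186921 := d15_2 D206174 F477915 F368510
def n215018 : Q := act 6 n164413
theorem D215018 : act 6 n164413 = n215018 := rfl
theorem F477917 : act 3 n215018 = n214881 := d7_1 D215018 (iv6 F477262) (iv3 F475772)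
theorem F477918 : act 4 n215018 = n190044 := d10_1 D215018 (iv6 D190044) (iv4 F259051)
def n215019 : Q := act 1 n164414
theorem D215019 : act 1 n164414 = n215019 := rfl
theorem F477919 : act 1 n215019 = n196147 := d15_1 D215019 F399612 F397717
theorem F477920 : act 7 n215019 = n195665 := d15_2 (iv0 F463994) D215019 (iv2 F463995)
theorem F477921 : act 5 n195666 = n215019 := d21_0 (iv1 D215019) (iv5 D164414) (iv6 D78961) (iv1 F120133) (iv6 F346182) F346181 F251393 D200973 F418576 (iv1 F397793)
theorem F477922 : act 6 n195946 = n215019 := d21_3 D96044 D190467 F398807 (iv1 D215019) F259057 (iv5 D78964) D78962 F120141 (iv6 F376746) (iv1 D96042)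
theorem F477923 : act 2 n215019 = n201267 := d3_1 F477922 F419768 F398810
theorem F477924 : act 3 n212470 = n215019 := d0_0 F477923 F419767 F227882 (iv3 F230825) (iv2 F465951)
def n215020 : Q := act 4 n164414
theorem D215020 : act 4 n164414 = n215020 := rfl
theorem F477925 : act 3 n215020 = n191125 := d5_1 D215020 F382329 (iv3 F382315) F382316 F364650
theorem F477926 : act 6 n215020 = n164416 := d10_2 (iv6 F259057) D215020 (iv4 D164416)
theorem F477927 : act 7 n215020 = n197046 := d11_2 (iv7 F364649) D215020 F402817
theorem F477928 : act 0 n215020 = n205399 := d17_0 (iv5 D205399) (iv1 D125902) D125903 (iv4 F332823) (iv5 F359235) (iv0 F229104) (iv5 F463990) (iv0 F463994) D215020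
theorem F477929 : act 1 n215020 = n205398 := d15_1 (iv0 F477928) (iv7 F441746) F441743
def n215021 : Q := act 5 n164416
theorem D215021 : act 5 n164416 = n215021 := rfl
theorem F477930 : act 2 n215021 = n200791 := d2_1 D215021 (iv5 F419573) F419571
theorem F477931 : act 3 n215021 = n191124 := d6_1 D215021 (iv5 D191124) F358373
theorem F477932 : act 7 n215021 = n200790 := d13_2 (iv7 F400103) D215021 F417911
theorem F477933 : act 4 n215021 = n201172 := d16_2 D164416 D215021 (iv5 F447069) F447070 (iv5 F358366) F179028 (iv5 F251389) F251388 F177914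
theorem F477934 : act 0 n215021 = n196018 := d17_2 (iv1 F259061) D215021 (iv5 D196018) F177618 (iv5 F161881) (iv0 F161885) D114857 F178920 D120118
theorem F477935 : act 1 n215021 = n196019 := d17_6 (iv1 F78005) (iv5 F77751) (iv1 F163438) D78964 D164416 D215021 (iv5 D196019) F164557 F164554
theorem F477936 : act 6 n215021 = n201169 := d21_3 F399189 (iv1 F259061) D215021 F445735 (iv6 D207625) (iv5 D132155) (iv1 D61996) D61997 (iv6 F164552) F399192
def n215022 : Q := act 5 n164424
theorem D215022 : act 5 n164424 = n215022 := rfl
theorem F477937 : act 2 n215022 = n212769 := d2_1 D215022 (iv5 D212769) (iv2 F362083)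
theorem F477938 : act 3 n215022 = n164425 := d6_1 D215022 (iv5 D164425) D164424
theorem F477939 : act 7 n215022 = n212770 := d13_2 (iv7 F362069) D215022 (iv5 D212770)
theorem F477940 : act 1 n215022 = n212760 := d17_6 F444779 F346214 F301226 D167345 F362082 D215022 (iv5 D212760) (iv0 F467390) F467388
def n215023 : Q := act 5 n164443
theorem D215023 : act 5 n164443 = n215023 := rfl
theorem F477941 : act 2 n215023 = n213576 := d2_1 D215023 (iv5 D213576) (iv2 F361975)
theorem F477942 : act 3 n215023 = n164444 := d6_1 D215023 (iv5 D164444) D164443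
theorem F477943 : act 1 n215023 = n187083 := d17_6 (iv1 D89385) D89386 D186931 F368540 F361979 D215023 (iv5 D187083) (iv0 F368539) (iv4 D186929)
def n215024 : Q := act 1 n164444
theorem D215024 : act 1 n164444 = n215024 := rfl
theorem F477944 : act 1 n215024 = n164447 := d15_1 D215024 (iv7 F419584) F419581
theorem F477945 : act 7 n215024 = n190360 := d15_2 F394933 D215024 (iv2 F394930)
theorem F477946 : act 5 n215024 = n190361 := d17_7 D114844 F178910 F178432 F178431 (iv4 F177935) D164444 D215024 F379548 (iv4 D114846)
theorem F477947 : act 4 n215024 = n190039 := d17_9 (iv1 F378631) (iv5 D95579) (iv1 D44642) D44643 D95583 (iv5 F177929) F177937 D164444 D215024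
theorem F477948 : act 3 n187352 = n215024 := d19_19 (iv1 D215024) (iv5 D164444) F177935 (iv3 F354922) (iv1 F193442) (iv5 F178943) (iv4 F317067) F206438 F205239 F103948 (iv4 F210852) (iv3 F425403) F425407 F340942 (iv4 F227414) (iv3 F340950) (iv1 F385759) F385756 F378853
theorem F477949 : act 6 n215024 = n187357 := d7_2 (iv6 F369931) F477948 (iv3 D187357)
theorem F477950 : act 2 n194907 = n215024 := d1_3 F477947 (iv2 F378630) D194907
def n215025 : Q := act 5 n164446
theorem D215025 : act 5 n164446 = n215025 := rfl
theorem F477951 : act 2 n215025 = n190978 := d2_1 D215025 (iv5 D190978) (iv2 F357959)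
theorem F477952 : act 3 n215025 = n164447 := d6_1 D215025 (iv5 D164447) D164446
theorem F477953 : act 7 n215025 = n190975 := d13_2 F348885 D215025 (iv5 D190975)
def n215026 : Q := act 6 n164447
theorem D215026 : act 6 n164447 = n215026 := rfl
theorem F477954 : act 4 n215026 = n190277 := d10_1 D215026 (iv6 D190277) (iv4 F259087)
theorem F477955 : act 5 n215026 = n208130 := d12_1 D215026 (iv6 D208130) F350610 (iv6 D164448) D164447
theorem F477956 : act 0 n215026 = n196934 := d21_4 (iv5 F177929) (iv1 F177931) D164447 D215026 F402356 (iv5 D112857) D112855 D200220 F415579 (iv1 F259091)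
def n215027 : Q := act 3 n164449
theorem D215027 : act 3 n164449 = n215027 := rfl
theorem F477957 : act 5 n215027 = n203917 := d6_2 (iv5 F259089) D215027 (iv3 D203917)
theorem F477958 : act 6 n215027 = n214704 := d7_2 F415579 D215027 F476455
theorem F477959 : act 7 n215027 = n166683 := d8_2 F419612 D215027 F419616
theorem F477960 : act 2 n214734 = n215027 := d4_3 F477959 F262338 D214734
theorem F477961 : act 1 n214733 = n215027 := d15_1 D214733 F477959 F262338
theorem F477962 : act 1 n215027 = n214732 := d15_0 (iv0 D214732) D214734 F477960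
def n215028 : Q := act 3 n164450
theorem D215028 : act 3 n164450 = n215028 := rfl
theorem F477963 : act 2 n215028 = n190981 := d0_1 D215028 (iv3 F474456) (iv2 F262338) F419616 (iv2 F419615)
theorem F477964 : act 5 n215028 = n191057 := d6_2 (iv5 F259093) D215028 F382030
theorem F477965 : act 7 n215028 = n190980 := d8_2 (iv7 F419609) D215028 F419610
theorem F477966 : act 0 n215028 = n190964 := d19_4 D103239 (iv5 F158487) (iv4 F259094) D215028 (iv5 D190964) F149812 (iv3 D92466) (iv1 F328231) F328234 (iv4 D41329) (iv3 F36589) D48311 (iv5 F142296) F291678 F291069 (iv1 D41791) D41792 F290636 (iv3 F75123)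
theorem F477967 : act 0 n190983 = n215028 := d20_4 (iv4 F379310) (iv1 F381888) F381885 (iv3 F381799) (iv3 D215028) F259094 (iv1 F379246) F379243 F149560 D96991
theorem F477968 : act 6 n214730 = n215028 := d21_3 (iv5 F433473) (iv1 F262308) D214730 F477966 F381731 (iv5 D97101) D97099 D190966 F381740 F433474
def n215029 : Q := act 6 n164450
theorem D215029 : act 6 n164450 = n215029 := rfl
theorem F477969 : act 2 n215029 = n166681 := d3_1 D215029 (iv6 F419617) (iv2 F419615)
theorem F477970 : act 3 n215029 = n214730 := d7_1 D215029 F477968 (iv3 D215028)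
theorem F477971 : act 4 n215029 = n190280 := d10_1 D215029 (iv6 D190280) (iv4 F259094)
theorem F477972 : act 5 n215029 = n166680 := d12_1 D215029 (iv6 F346890) F347760 F347757 (iv5 F259093)
theorem F477973 : act 7 n215029 = n214699 := d14_2 (iv7 F419609) D215029 F476442 F415589 (iv6 F419606)
theorem F477974 : act 1 n214701 = n215029 := d15_1 D214701 F477973 F476440
theorem F477975 : act 1 n215029 = n214700 := d15_1 F477974 (iv7 F476448) F476450
def n215030 : Q := act 0 n164453
theorem D215030 : act 0 n164453 = n215030 := rfl
theorem F477976 : act 5 n215030 = n203792 := d17_1 D215030 (iv1 F448010) (iv5 D208129) (iv4 F288203) (iv5 F398531) F419579 (iv5 F419762) F419765 (iv4 F340437)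
theorem F477977 : act 4 n215030 = n201384 := d18_3 F290527 (iv4 F340437) D215030 (iv5 F421073) (iv4 F448032) (iv0 F464955) F464952 (iv0 D164408) D164410
theorem F477978 : act 3 n189848 = n215030 := d5_5 F477977 F420278 (iv4 F398888) (iv3 D190372) (iv4 F377981)
theorem F477979 : act 6 n207388 = n215030 := d10_0 F477977 F420279 D207388
theorem F477980 : act 7 n201383 = n215030 := d11_0 F477977 (iv7 D201384) (iv4 F420276)
theorem F477981 : act 1 n210089 = n215030 := d17_8 (iv1 F420280) (iv5 D164492) (iv1 F177963) F177959 (iv4 F214539) F340439 F380236 (iv5 F456110) F477977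
def n215031 : Q := act 7 n164453
theorem D215031 : act 7 n164453 = n215031 := rfl
theorem F477982 : act 2 n215031 = n210089 := d4_1 D215031 F456111 F380228
theorem F477983 : act 4 n215031 = n201177 := d11_1 D215031 F419336 (iv4 F340437)
theorem F477984 : act 5 n215031 = n164454 := d13_1 D215031 (iv7 D164454) D164453
theorem F477985 : act 1 n201383 = n215031 := d15_1 (iv0 F420277) (iv7 D215031) (iv2 F380228)
def n215032 : Q := act 6 n164463
theorem D215032 : act 6 n164463 = n215032 := rfl
theorem F477986 : act 2 n215032 = n195653 := d3_1 D215032 (iv6 D195653) F355726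
theorem F477987 : act 3 n215032 = n192842 := d7_1 D215032 (iv6 D192842) (iv3 F346748)
theorem F477988 : act 4 n215032 = n212794 := d10_1 D215032 (iv6 D212794) (iv4 F346747)
theorem F477989 : act 0 n215032 = n212199 := d21_10 F464719 F413771 F380256 F148008 F259558 (iv6 F439035) (iv5 D206056) D206054 F439023 D215032
theorem F477990 : act 0 n190031 = n215032 := d21_4 D206175 F439582 (iv5 D190030) D190031 (iv6 D215032) (iv5 F439023) (iv1 F440564) (iv5 F467382) (iv6 F467385) (iv1 D206174)
def n215033 : Q := act 4 n164464
theorem D215033 : act 4 n164464 = n215033 := rfl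
theorem F477991 : act 2 n215033 = n193715 := d1_1 D215033 F390767 (iv2 F259117)
theorem F477992 : act 3 n215033 = n193287 := d5_1 D215033 (iv4 F456243) F456240 (iv4 F434197) F434194
theorem F477993 : act 6 n215033 = n190583 := d10_2 (iv6 F259118) D215033 (iv4 D190583)
theorem F477994 : act 0 n215033 = n193719 := d17_0 F461465 (iv1 D211413) (iv5 D141962) (iv4 F220701) D210093 (iv0 F477869) F477870 F389445 D215033
theorem F477995 : act 1 n215033 = n193711 := d18_6 F314184 (iv4 F190344) (iv1 D78988) (iv4 F120161) D164464 D215033 (iv4 D193711) F378398 D102266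
theorem F477996 : act 7 n215033 = n193716 := d15_2 F390777 (iv0 F477994) (iv2 F390774)
theorem F477997 : act 5 n211418 = n215033 := d2_0 F477991 F390771 D211418
def n215034 : Q := act 7 n164464
theorem D215034 : act 7 n164464 = n215034 := rfl
theorem F477998 : act 2 n215034 = n195656 := d4_1 D215034 (iv7 D195656) (iv2 F259117)
theorem F477999 : act 3 n215034 = n207185 := d8_1 D215034 F443693 F434194
theorem F478000 : act 4 n215034 = n193716 := d11_1 D215034 (iv7 F477996) (iv4 D215033)
theorem F478001 : act 5 n215034 = n164465 := d13_1 D215034 (iv7 D164465) D164464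
theorem F478002 : act 6 n215034 = n207188 := d14_1 D215034 F443708 (iv6 F372162) F372163 (iv6 F259118)
theorem F478003 : act 1 n195655 = n215034 := d15_1 D195655 (iv7 D215034) F259117
theorem F478004 : act 1 n215034 = n195654 := d15_1 F478003 (iv7 F397740) (iv2 F397748)
def n215035 : Q := act 4 n164469
theorem D215035 : act 4 n164469 = n215035 := rfl
theorem F478005 : act 2 n215035 = n195660 := d1_1 D215035 (iv4 D195660) (iv2 F366118)
theorem F478006 : act 7 n215035 = n195662 := d11_2 (iv7 F366116) D215035 (iv4 D195662)
def n215036 : Q := act 4 n164472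
theorem D215036 : act 4 n164472 = n215036 := rfl
theorem F478007 : act 2 n215036 = n195662 := d1_1 D215036 (iv4 D195662) (iv2 F366117)
theorem F478008 : act 3 n215036 = n198887 := d5_1 D215036 F409755 (iv3 F409746) F409747 F362422
theorem F478009 : act 6 n215036 = n198886 := d10_2 F362426 D215036 F409751
theorem F478010 : act 7 n215036 = n195660 := d11_2 (iv7 F362427) D215036 (iv4 D195660)
def n215037 : Q := act 3 n164475
theorem D215037 : act 3 n164475 = n215037 := rfl
theorem F478011 : act 4 n215037 = n201122 := d5_2 D164475 D215037 F419165 F398006 F163276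
theorem F478012 : act 6 n215037 = n195618 := d7_2 (iv6 F259206) D215037 (iv3 D195618)
theorem F478013 : act 0 n206582 = n215037 := d21_4 (iv5 F475034) (iv1 F475036) (iv5 F421756) D206582 F478012 F397648 D195619 (iv5 F475384) (iv6 F475389) (iv1 F446009)
def n215038 : Q := act 5 n164475
theorem D215038 : act 5 n164475 = n215038 := rfl
theorem F478014 : act 2 n215038 = n195625 := d2_1 D215038 (iv5 D195625) (iv2 F259205)
theorem F478015 : act 6 n215038 = n195625 := d12_2 (iv6 F259206) D215038 (iv5 D195625) (iv6 D106100) (iv5 F163122)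
theorem F478016 : act 4 n215038 = n211330 := d16_2 D164475 D215038 F461153 (iv4 F397750) F397751 F163151 (iv5 F163131) (iv7 D106104) (iv2 F120163)
theorem F478017 : act 7 n211419 = n215038 := d11_0 F478016 F461154 D211419
def n215039 : Q := act 7 n164475
theorem D215039 : act 7 n164475 = n215039 := rfl
theorem F478018 : act 2 n215039 = n195626 := d4_1 D215039 (iv7 D195626) (iv2 F259205)
theorem F478019 : act 4 n215039 = n164476 := d11_1 D215039 (iv7 D164476) D164475
theorem F478020 : act 5 n215039 = n211419 := d13_1 D215039 F478017 (iv5 D215038)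
theorem F478021 : act 1 n195624 = n215039 := d15_1 D195624 (iv7 D215039) F259205
theorem F478022 : act 1 n215039 = n195623 := d15_1 F478021 (iv7 F443028) F443025
def n215040 : Q := act 5 n164486
theorem D215040 : act 5 n164486 = n215040 := rfl
theorem F478023 : act 2 n215040 = n200275 := d2_1 D215040 F415790 (iv2 F259225)
theorem F478024 : act 3 n215040 = n164487 := d6_1 D215040 (iv5 D164487) (iv3 F259226)
theorem F478025 : act 6 n215040 = n191034 := d12_2 D164486 D215040 (iv5 D191034) (iv6 D97148) (iv5 F120176)
theorem F478026 : act 1 n215040 = n186982 := d17_6 (iv1 D89430) D89431 F352508 (iv5 F352504) (iv4 F259227) D215040 (iv5 D186982) (iv0 F368722) (iv4 D186974)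
def n215041 : Q := act 7 n164486
theorem D215041 : act 7 n164486 = n215041 := rfl
theorem F478027 : act 2 n215041 = n208449 := d4_1 D215041 F449400 (iv2 F259225)
theorem F478028 : act 3 n215041 = n164488 := d8_1 D215041 (iv7 D164488) (iv3 F259226)
theorem F478029 : act 4 n215041 = n213542 := d11_1 D215041 (iv7 D213542) (iv4 F259227)
theorem F478030 : act 1 n190742 = n215041 := d15_1 F445260 (iv7 D215041) F259225
theorem F478031 : act 1 n215041 = n207519 := d15_1 F478030 F445264 F383866
def n215042 : Q := act 0 n164487
theorem D215042 : act 0 n164487 = n215042 := rfl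
theorem F478032 : act 5 n215042 = n198528 := d17_1 D215042 F455811 F455808 F399037 (iv5 F396345) F430411 (iv5 F443792) F443795 F376226
theorem F478033 : act 4 n215042 = n201266 := d18_1 D215042 (iv1 F419764) (iv4 F456109) F456110 F380234 F177531 D164457 F259106 D164487
theorem F478034 : act 6 n215042 = n198530 := d21_5 (iv5 D45467) (iv1 F157604) D97151 (iv6 F259228) D215042 (iv5 D198530) F393452 F393451 (iv6 D191177) (iv1 D97354)
theorem F478035 : act 2 n190775 = n215042 := d15_3 (iv0 D215042) (iv0 F358375) (iv7 F381007)
theorem F478036 : act 3 n215042 = n191114 := d0_2 D190775 F478035 (iv2 D191114) (iv3 D97296) (iv2 F340406)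
theorem F478037 : act 7 n215042 = n191121 := d4_2 (iv7 F381007) F478035 (iv2 D191121)
theorem F478038 : act 1 n191100 = n215042 := d15_1 (iv0 F382223) F478037 (iv2 D191121)
def n215043 : Q := act 7 n164487
theorem D215043 : act 7 n164487 = n215043 := rfl
theorem F478039 : act 2 n215043 = n191100 := d4_1 D215043 F382222 F379233
theorem F478040 : act 4 n215043 = n164492 := d11_1 D215043 F376229 F376226
theorem F478041 : act 5 n215043 = n164488 := d13_1 D215043 (iv7 D164488) D164487
theorem F478042 : act 1 n191121 = n215043 := d15_1 F382310 (iv7 D215043) (iv2 F379233)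
theorem F478043 : act 1 n215043 = n190775 := d15_1 F478042 F381007 D191121
def n215044 : Q := act 5 n164499
theorem D215044 : act 5 n164499 = n215044 := rfl
theorem F478044 : act 2 n215044 = n201483 := d2_1 D215044 (iv5 D201483) F347806
theorem F478045 : act 3 n215044 = n201793 := d6_1 D215044 F421811 (iv3 F290481)
theorem F478046 : act 6 n215044 = n201561 := d12_2 F413009 D215044 (iv5 F443942) F443943 (iv5 D201870)
theorem F478047 : act 7 n215044 = n201481 := d13_2 F347805 D215044 (iv5 D201481)
theorem F478048 : act 0 n215044 = n207256 := d17_2 (iv1 F259236) D215044 (iv5 D207256) (iv4 F402972) F402973 (iv0 F336503) (iv5 F336472) F239672 F290472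
def n215045 : Q := act 7 n164500
theorem D215045 : act 7 n164500 = n215045 := rfl
theorem F478049 : act 2 n215045 = n201487 := d4_1 D215045 (iv7 D201487) (iv2 F259237)
theorem F478050 : act 3 n215045 = n202742 := d8_1 D215045 F425373 F366342
theorem F478051 : act 5 n215045 = n164501 := d13_1 D215045 (iv7 D164501) D164500
theorem F478052 : act 6 n215045 = n201551 := d14_1 D215045 (iv7 D201551) (iv6 D114804) (iv7 F162629) (iv6 F259238)
theorem F478053 : act 1 n201485 = n215045 := d15_1 D201485 (iv7 D215045) F259237
theorem F478054 : act 1 n215045 = n201484 := d15_1 F478053 (iv7 F474984) F474980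
def n215046 : Q := act 4 n164523
theorem D215046 : act 4 n164523 = n215046 := rfl
theorem F478055 : act 2 n215046 = n213136 := d1_1 D215046 (iv4 D213136) (iv2 F259322)
theorem F478056 : act 5 n215046 = n210169 := d9_2 D164523 D215046 F456446 (iv5 D204339) F346682 (iv5 D150078) F155530 D164521 (iv4 F397350) (iv5 F456442) F456443 (iv5 F358055) (iv4 F351873) (iv5 D150080) F205749
theorem F478057 : act 7 n215046 = n211258 := d11_2 (iv7 F259323) D215046 F460840
theorem F478058 : act 0 n215046 = n211099 := d18_2 F316745 D215046 F460089 (iv5 D203640) (iv4 F350948) (iv0 D101289) F74452 D47267 D101618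
theorem F478059 : act 3 n215046 = n197269 := d20_3 (iv4 D193413) F316745 D215046 F403795 F396608 F161966 (iv1 F76810) D68271 D145642 (iv1 F389779)
theorem F478060 : act 6 n197267 = n215046 := d7_0 F478059 (iv6 D197269) D197267
def n215047 : Q := act 6 n164523
theorem D215047 : act 6 n164523 = n215047 := rfl
theorem F478061 : act 2 n215047 = n197092 := d3_1 D215047 (iv6 F403014) (iv2 F259322)
theorem F478062 : act 3 n215047 = n176156 := d7_1 D215047 (iv6 F346474) F346472
theorem F478063 : act 4 n215047 = n197267 := d10_1 D215047 F478060 (iv4 D215046)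
theorem F478064 : act 5 n215047 = n203631 := d12_1 D215047 (iv6 D203631) F339377 (iv6 D164524) D164523
theorem F478065 : act 7 n215047 = n209388 := d14_2 (iv7 F259323) D215047 F453522 (iv7 F409450) F409453
theorem F478066 : act 0 n215047 = n212369 := d21_4 F239810 (iv1 F120196) D164523 D215047 F465535 (iv5 D203492) (iv1 D119282) D119283 F187744 F339372
theorem F478067 : act 1 n215047 = n178929 := d15_1 (iv0 F478066) F355443 (iv2 F465532)
def n215048 : Q := act 3 n164527
theorem D215048 : act 3 n164527 = n215048 := rfl
theorem F478068 : act 4 n215048 = n212172 := d5_2 D164527 D215048 F464612 (iv4 D175112) F128694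
theorem F478069 : act 6 n215048 = n210184 := d7_2 F274072 D215048 F456488
theorem F478070 : act 2 n212175 = n215048 := d1_3 F478068 F464611 D212175
def n215049 : Q := act 5 n164598
theorem D215049 : act 5 n164598 = n215049 := rfl
theorem F478071 : act 2 n215049 = n205827 := d2_1 D215049 F438019 F428762
theorem F478072 : act 3 n215049 = n173352 := d6_1 D215049 (iv5 D173352) (iv3 F259515)
theorem F478073 : act 6 n215049 = n174995 := d12_2 D164598 D215049 F337074 (iv6 D161580) F120307
theorem F478074 : act 7 n215049 = n205984 := d13_2 F429335 D215049 F438697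
theorem F478075 : act 0 n215049 = n194302 := d17_2 (iv1 F357112) D215049 (iv5 F447337) F447336 F444976 (iv0 D177050) (iv5 D84382) D84381 D177047
theorem F478076 : act 1 n215049 = n205953 := d17_6 F340941 (iv5 D143800) (iv1 F348142) F340837 (iv4 F259516) D215049 (iv5 F447316) (iv0 F447319) F438698
theorem F478077 : act 4 n215049 = n210891 := d18_5 (iv1 F303530) F311239 F331876 (iv4 F259516) D215049 (iv0 D210891) F442688 F442686 (iv5 D166202)
def n215050 : Q := act 5 n164620
theorem D215050 : act 5 n164620 = n215050 := rfl
theorem F478078 : act 3 n215050 = n164623 := d6_1 D215050 (iv5 D164623) (iv3 F259563)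
theorem F478079 : act 6 n215050 = n190261 := d12_2 D164620 D215050 (iv5 D190261) (iv6 D95779) (iv5 F120352)
theorem F478080 : act 7 n215050 = n206048 := d16_8 (iv4 F447916) F447917 (iv4 F404792) F404791 F385070 F155573 F307590 D215050 F438997
theorem F478081 : act 4 n208113 = n215050 := d11_3 F478080 F438999 D208113
def n215051 : Q := act 7 n164620
theorem D215051 : act 7 n164620 = n215051 := rfl
theorem F478082 : act 2 n215051 = n186955 := d4_1 D215051 F381714 F381709
theorem F478083 : act 3 n215051 = n164624 := d8_1 D215051 (iv7 D164624) (iv3 F259563)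
theorem F478084 : act 4 n215051 = n186575 := d11_1 D215051 F367285 F307590
theorem F478085 : act 5 n215051 = n206048 := d13_1 D215051 (iv7 F478080) (iv5 D215050)
theorem F478086 : act 6 n215051 = n215041 := d14_1 D215051 (iv7 D215041) (iv6 D164486) (iv7 F120353) D164620
theorem F478087 : act 1 n187122 = n215051 := d15_1 F381713 (iv7 D215051) (iv2 F381709)
theorem F478088 : act 1 n215051 = n186598 := d15_1 F478087 (iv7 F411436) F411432
def n215052 : Q := act 5 n165317
theorem D215052 : act 5 n165317 = n215052 := rfl
theorem F478089 : act 2 n215052 = n203966 := d2_1 D215052 (iv5 D203966) F364923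
theorem F478090 : act 3 n215052 = n193334 := d6_1 D215052 (iv5 D193334) (iv3 F364920)
theorem F478091 : act 6 n215052 = n210210 := d12_2 F364924 D215052 F456586 (iv6 F396997) F388037
theorem F478092 : act 7 n215052 = n193345 := d13_2 (iv7 F364922) D215052 (iv5 D193345)
theorem F478093 : act 0 n215052 = n204164 := d17_2 F364926 D215052 F431272 (iv4 F439904) (iv5 F449774) (iv0 F449775) F367682 F385381 F385377
theorem F478094 : act 1 n215052 = n204163 := d17_6 (iv1 F187523) D130885 F360897 F308180 D165317 D215052 F439914 F358462 (iv4 F358461)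
def n215053 : Q := act 1 n165604
theorem D215053 : act 1 n165604 = n215053 := rfl
theorem F478095 : act 1 n215053 = n200955 := d15_1 D215053 (iv7 F435689) F435686
theorem F478096 : act 7 n215053 = n204882 := d15_2 (iv0 F348161) D215053 F434006
theorem F478097 : act 5 n215053 = n205542 := d17_7 (iv1 F436916) F419203 F436966 (iv5 D205552) (iv4 F436962) F436963 D215053 (iv0 D205542) (iv4 F436913)
theorem F478098 : act 3 n190606 = n215053 := d20_3 (iv4 D194798) (iv1 F160242) D190606 (iv1 D215053) (iv3 D165604) (iv4 D79541) (iv1 F296851) D86709 D181680 (iv1 F394515)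
theorem F478099 : act 6 n165784 = n215053 := d21_9 (iv5 F436963) F440881 (iv5 F441533) F441534 (iv1 F430504) F366945 D190666 (iv1 F380495) F378165 (iv1 D215053)
theorem F478100 : act 2 n215053 = n204881 := d3_1 F478099 F434001 (iv2 F373724)
def n215054 : Q := act 3 n165646
theorem D215054 : act 3 n165646 = n215054 := rfl
theorem F478101 : act 2 n215054 = n212463 := d0_1 D215054 F465909 (iv2 F231246) (iv3 F434748) (iv2 F434750)
theorem F478102 : act 5 n215054 = n203836 := d6_2 F348593 D215054 (iv3 F430038)
theorem F478103 : act 6 n215054 = n174141 := d7_2 (iv6 F409914) D215054 F409913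
theorem F478104 : act 7 n215054 = n208911 := d8_2 (iv7 F348594) D215054 F451371
theorem F478105 : act 4 n215054 = n197866 := d20_6 (iv4 D194505) F350167 (iv4 F343036) (iv3 F406489) F406493 D215054 F450229 (iv4 D180112) D180111 (iv1 F393480)
theorem F478106 : act 0 n165656 = n215054 := d18_0 F478105 F450229 (iv4 D180112) (iv5 F342099) F354009 (iv0 F354013) (iv4 F241416) (iv0 F383218) (iv5 F383219)
def n215055 : Q := act 4 n165646
theorem D215055 : act 4 n165646 = n215055 := rfl
theorem F478107 : act 6 n215055 = n213084 := d10_2 (iv6 F409914) D215055 F468927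
theorem F478108 : act 7 n215055 = n208915 := d11_2 (iv7 F348594) D215055 (iv4 D208915)
theorem F478109 : act 0 n215055 = n178149 := d18_2 F406493 D215055 (iv4 F412737) F412739 (iv4 F191142) (iv0 F303721) (iv4 F330649) F339282 (iv5 F406492)
theorem F478110 : act 1 n215055 = n172563 := d18_6 F351631 (iv4 F197594) (iv1 F389093) (iv4 F389095) F348593 D215055 (iv4 D172563) D172562 (iv5 F340664)
theorem F478111 : act 3 n215055 = n178123 := d20_3 (iv4 F406490) F406493 D215055 F412011 (iv3 D199403) (iv4 D111290) (iv1 F80996) (iv4 F81187) (iv3 F172983) (iv1 F363993)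
def n215056 : Q := act 0 n165657
theorem D215056 : act 0 n165657 = n215056 := rfl
theorem F478112 : act 5 n215056 = n199655 := d17_1 D215056 (iv1 F417670) F417673 F333811 (iv5 F325406) (iv0 D85133) D85135 (iv0 F324251) D165657
theorem F478113 : act 4 n215056 = n175157 := d18_1 D215056 F274167 F327102 (iv5 F262036) F346918 F342453 F312635 (iv0 F278239) F352227
theorem F478114 : act 2 n166381 = n215056 := d15_3 (iv0 D215056) F360229 (iv7 F360227)
theorem F478115 : act 1 n165662 = n215056 := d15_0 (iv0 D215056) (iv7 F428476) F428473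
theorem F478116 : act 7 n215056 = n199654 := d15_2 (iv0 F360228) F478115 F413020
theorem F478117 : act 3 n200160 = n215056 := d20_3 D79896 D166411 (iv4 F415304) (iv1 F478115) (iv3 F347452) (iv4 F383873) (iv1 F477796) F477792 F258687 F340154
theorem F478118 : act 6 n215056 = n200159 := d7_2 D200160 F478117 (iv3 D200159)
def n215057 : Q := act 3 n165684
theorem D215057 : act 3 n165684 = n215057 := rfl
theorem F478119 : act 2 n215057 = n195699 := d0_1 D215057 (iv3 F435788) F435787 (iv3 D190663) (iv2 F416730)
theorem F478120 : act 4 n215057 = n190782 := d5_2 (iv4 F416731) D215057 (iv3 F416741) F416742 (iv3 F416727)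
theorem F478121 : act 5 n215057 = n206658 := d6_2 F447269 D215057 F447274
theorem F478122 : act 6 n215057 = n195689 := d7_2 (iv6 F416732) D215057 (iv3 F416712)
theorem F478123 : act 7 n215057 = n190660 := d8_2 (iv7 F416733) D215057 (iv3 D190660)
theorem F478124 : act 0 n215057 = n206599 := d20_4 (iv4 F281097) F416737 (iv4 F416731) D215057 F441504 (iv4 F405650) (iv1 F474314) F474309 F436034 (iv1 F430020)
def n215058 : Q := act 6 n165783
theorem D215058 : act 6 n165783 = n215058 := rfl
theorem F478125 : act 2 n215058 = n200139 := d3_1 D215058 (iv6 F415211) F373726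
theorem F478126 : act 3 n215058 = n200875 := d7_1 D215058 (iv6 F418249) F400051
theorem F478127 : act 4 n215058 = n200067 := d10_1 D215058 (iv6 F477473) F477472
theorem F478128 : act 7 n215058 = n200946 := d14_2 F373727 D215058 (iv6 F418457) (iv7 F434003) F434001
theorem F478129 : act 0 n215058 = n195113 := d21_4 (iv5 F147041) D189900 F378163 D215058 (iv6 F395827) (iv5 D162895) (iv1 F197447) (iv5 F282147) (iv6 F416735) (iv1 D165685)
theorem F478130 : act 5 n215058 = n201117 := d21_6 (iv5 D206433) (iv1 F206883) D128954 F347510 D165783 D215058 (iv1 F439290) F439285 F349820 (iv1 F440774)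
theorem F478131 : act 0 n166322 = n215058 := d17_0 F478130 (iv1 F439290) F439285 (iv4 D147691) (iv5 F204835) D206133 (iv5 F439392) F338355 (iv4 F261915)
def n215059 : Q := act 3 n165784
theorem D215059 : act 3 n165784 = n215059 := rfl
theorem F478132 : act 2 n215059 = n200615 := d0_1 D215059 F417223 (iv2 F400056) F362863 (iv2 F373724)
theorem F478133 : act 4 n215059 = n190607 := d5_2 F373723 D215059 F380276 (iv4 D188500) D188499
theorem F478134 : act 5 n215059 = n195678 := d6_2 F378165 D215059 F397826
theorem F478135 : act 6 n215059 = n190606 := d7_2 (iv6 F478099) D215059 F478098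
theorem F478136 : act 7 n215059 = n200140 := d8_2 (iv7 F373725) D215059 F415210
theorem F478137 : act 0 n215059 = n195043 := d19_4 (iv1 D207600) (iv5 F373721) F373723 D215059 F395554 (iv4 F327708) F327707 (iv1 F168433) (iv5 F363786) (iv4 F379730) (iv3 F413880) F413882 (iv5 F379767) F379728 (iv3 F369276) (iv1 D187163) F291544 (iv4 F288116) F445633
theorem F478138 : act 0 n195002 = n215059 := d20_4 F280680 D188493 F373682 D195002 (iv3 D215059) (iv4 F373723) F407806 (iv4 F280687) (iv3 D180365) D180363
def n215060 : Q := act 3 n165869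
theorem D215060 : act 3 n165869 = n215060 := rfl
theorem F478139 : act 2 n215060 = n214861 := d0_1 D215060 (iv3 D214861) (iv2 F430148) F430144 F373731
theorem F478140 : act 4 n215060 = n200140 := d5_2 D165869 D215060 F415210 (iv4 F280653) (iv3 D165868)
theorem F478141 : act 6 n215060 = n198445 := d7_2 (iv6 F357451) D215060 (iv3 D198445)
theorem F478142 : act 7 n215060 = n190607 := d8_2 F373730 D215060 F380276
theorem F478143 : act 0 n215060 = n214871 := d20_4 (iv4 D79660) D79657 D165869 D215060 (iv3 D214871) D214872 F477222 F369676 F369679 (iv1 D165880)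
def n215061 : Q := act 5 n165869
theorem D215061 : act 5 n165869 = n215061 := rfl
theorem F478144 : act 1 n215061 = n198501 := d17_6 (iv1 D120971) (iv5 F322422) D127056 F338712 D165869 D215061 F408160 D198728 F409004
def n215062 : Q := act 5 n165877
theorem D215062 : act 5 n165877 = n215062 := rfl
theorem F478145 : act 2 n215062 = n165881 := d2_1 D215062 (iv5 D165881) (iv2 F261248)
theorem F478146 : act 1 n215062 = n206156 := d17_6 D120970 F345360 (iv1 F209390) F323631 D165877 D215062 (iv5 D206156) F334005 (iv4 D120973)
def n215063 : Q := act 1 n165881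
theorem D215063 : act 1 n165881 = n215063 := rfl
theorem F478147 : act 5 n215063 = n206153 := d17_7 D138142 F359102 (iv1 D129376) (iv5 F322701) D79660 D165881 D215063 (iv0 F439498) (iv4 D138144)
theorem F478148 : act 3 n190295 = n215063 := d19_19 (iv1 D215063) (iv5 D165881) (iv4 D79660) (iv3 D36277) (iv1 F297196) (iv5 F322476) F46568 (iv3 F46563) F95456 F326085 D78004 F254178 (iv1 D160971) F254070 F193375 (iv3 F406179) (iv1 F406182) D197923 F406205
theorem F478149 : act 2 n215063 = n206156 := d0_1 F478148 F439512 F334007 (iv3 F381874) F381873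
theorem F478150 : act 6 n215063 = n190294 := d7_2 D190295 F478148 (iv3 D190294)
theorem F478151 : act 4 n215063 = n209625 := d16_0 (iv5 D209625) (iv4 D136692) D136693 (iv4 F444260) (iv5 F476677) F476676 D214760 F476690 (iv2 F478149)
def n215064 : Q := act 4 n165881
theorem D215064 : act 4 n165881 = n215064 := rfl
theorem F478152 : act 1 n215064 = n209609 := d18_8 (iv1 D136683) F100039 D64239 D136687 D209616 (iv4 F476691) F476692 D215064 (iv5 D209609)
def n215065 : Q := act 6 n165881
theorem D215065 : act 6 n165881 = n215065 := rfl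
theorem F478153 : act 3 n215065 = n214293 := d7_1 D215065 (iv6 D214293) (iv3 F261252)
def n215066 : Q := act 6 n165939
theorem D215066 : act 6 n165939 = n215066 := rfl
theorem F478154 : act 2 n215066 = n193466 := d3_1 D215066 F389944 F365187
theorem F478155 : act 3 n215066 = n165943 := d7_1 D215066 (iv6 D165943) (iv3 F261370)
theorem F478156 : act 4 n215066 = n188729 := d10_1 D215066 F374609 (iv4 F366058)
theorem F478157 : act 5 n215066 = n172449 := d12_1 D215066 (iv6 F337637) (iv5 F337635) (iv6 D165940) D165939
theorem F478158 : act 7 n215066 = n172448 := d14_2 (iv7 F362644) D215066 (iv6 F436537) F436538 (iv6 F361184)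
theorem F478159 : act 0 n215066 = n174016 := d21_4 F377699 (iv1 D165937) D165939 D215066 F339469 (iv5 F142946) (iv1 F143480) F143478 D185797 F366373
theorem F478160 : act 0 n174020 = n215066 := d21_4 (iv5 F433965) (iv1 D204873) (iv5 F374621) F366570 (iv6 D215066) (iv5 D165939) (iv1 F348610) F363808 (iv6 F355105) F395834
def n215067 : Q := act 5 n165950
theorem D215067 : act 5 n165950 = n215067 := rfl
theorem F478161 : act 2 n215067 = n165952 := d2_1 D215067 (iv5 D165952) D165950
theorem F478162 : act 3 n215067 = n207268 := d6_1 D215067 F444062 F433338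
theorem F478163 : act 4 n215067 = n190668 := d9_1 D215067 F380503 (iv4 F280653) (iv5 F438918) F438917 (iv5 F358976) F280687 (iv5 F366150) (iv4 F380497) F380496 (iv4 F280652) (iv5 F445590) F445589 (iv5 F395547) F395550
theorem F478164 : act 6 n215067 = n206014 := d12_2 (iv6 F330787) D215067 F438839 (iv6 D203962) F194361
theorem F478165 : act 7 n215067 = n207791 := d13_2 F477482 D215067 (iv5 F477480)
theorem F478166 : act 0 n215067 = n207323 := d17_2 (iv1 F477475) D215067 F444340 (iv4 D190664) (iv5 F338378) (iv0 D132999) D133001 F358991 (iv4 F477472)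
theorem F478167 : act 1 n215067 = n206327 := d17_6 F429992 F338377 (iv1 F358979) (iv5 F395547) F395550 D215067 F440264 (iv0 F380486) D203827
def n215068 : Q := act 0 n165952
theorem D215068 : act 0 n165952 = n215068 := rfl
theorem F478168 : act 5 n215068 = n200494 := d17_1 D215068 (iv1 F429984) (iv5 F445631) F445632 F433988 F260958 D190666 F380494 F378164
theorem F478169 : act 4 n215068 = n207793 := d18_1 D215068 (iv1 F446466) F441143 F323648 (iv4 F261188) F280651 (iv4 F280652) (iv0 D165948) D165952
theorem F478170 : act 2 n207323 = n215068 := d15_3 (iv0 D215068) (iv0 F442126) (iv7 F444342)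
theorem F478171 : act 1 n207791 = n215068 := d15_0 (iv0 D215068) F366151 D207791
theorem F478172 : act 7 n215068 = n206327 := d15_2 (iv0 F446459) F478171 (iv2 F442124)
theorem F478173 : act 3 n200498 = n215068 := d8_3 F478172 (iv3 F442170) F442172
def n215069 : Q := act 5 n166054
theorem D215069 : act 5 n166054 = n215069 := rfl
theorem F478174 : act 2 n215069 = n193684 := d2_1 D215069 F390682 (iv2 F335440)
theorem F478175 : act 3 n215069 = n187054 := d6_1 D215069 (iv5 F389125) (iv3 F389126)
theorem F478176 : act 7 n215069 = n211641 := d13_2 (iv7 F261471) D215069 F462489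
theorem F478177 : act 4 n215069 = n211606 := d16_2 D166054 D215069 (iv5 D211606) F323284 (iv5 D70114) F306074 D133731 F306076 F261450
theorem F478178 : act 0 n215069 = n192093 := d17_2 F342553 D215069 (iv5 D192093) F342541 (iv5 F312358) F190020 (iv5 F342544) F342543 (iv4 F226255)
theorem F478179 : act 1 n215069 = n210787 := d17_6 (iv1 D179598) F303959 F131633 D79725 D166054 D215069 (iv5 D210787) F385505 F385501
def n215070 : Q := act 3 n166063
theorem D215070 : act 3 n166063 = n215070 := rfl
theorem F478180 : act 2 n215070 = n180171 := d0_1 D215070 F280525 (iv2 F341366) F359313 (iv2 F350084)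
theorem F478181 : act 4 n215070 = n188089 := d5_2 D166063 D215070 F384764 F348149 F321897
theorem F478182 : act 5 n215070 = n180170 := d6_2 F347417 D215070 F359334
theorem F478183 : act 6 n215070 = n214231 := d7_2 F359317 D215070 (iv3 D214231)
theorem F478184 : act 7 n215070 = n191391 := d8_2 (iv7 F350083) D215070 F383312
theorem F478185 : act 0 n215070 = n192516 := d19_4 F314686 F312315 D166063 D215070 F386933 (iv4 F428469) F428467 (iv1 F323011) F323012 F130467 (iv3 F200213) (iv1 D73712) F87385 D120011 (iv3 F383148) F383151 F275947 (iv4 F444864) F444863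
theorem F478186 : act 0 n191930 = n215070 := d21_4 (iv5 F291999) F291997 F158788 D191930 F478183 F474114 F471563 F471561 (iv6 D188661) F292957
def n215071 : Q := act 0 n166067
theorem D215071 : act 0 n166067 = n215071 := rfl
theorem F478187 : act 6 n215071 = n196974 := d21_5 F401710 (iv1 F466041) F466037 F389294 D215071 (iv5 D196974) (iv1 D107502) D107503 F165849 D196760
def n215072 : Q := act 5 n166067
theorem D215072 : act 5 n166067 = n215072 := rfl
theorem F478188 : act 2 n215072 = n206079 := d2_1 D215072 (iv5 F456360) F456359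
theorem F478189 : act 3 n215072 = n166068 := d6_1 D215072 (iv5 D166068) D166067
theorem F478190 : act 7 n215072 = n205222 := d13_2 F430503 D215072 (iv5 F435497)
theorem F478191 : act 1 n215072 = n200045 := d17_6 (iv1 F388991) F388988 (iv1 F368941) (iv5 F389125) F389127 D215072 F414758 (iv0 F389406) (iv4 D193292)
theorem F478192 : act 4 n215072 = n205226 := d18_5 F472096 F389123 D193190 F389127 D215072 F435513 (iv4 F223567) D210966 (iv5 F472094)
theorem F478193 : act 0 n215072 = n193305 := d21_1 D215072 (iv5 D193305) (iv6 D101445) (iv1 D47208) (iv6 F74464) D101364 D193219 F389211 D210311 F456961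
def n215073 : Q := act 1 n166082
theorem D215073 : act 1 n166082 = n215073 := rfl
theorem F478194 : act 7 n215073 = n200628 := d15_2 (iv0 F474266) D215073 (iv2 F474261)
theorem F478195 : act 5 n215073 = n200525 := d17_7 (iv1 D84846) D84849 (iv1 F337732) F334597 D166167 (iv5 F345666) D215073 (iv0 D200525) F356018
theorem F478196 : act 4 n215073 = n212565 := d17_9 F466451 (iv5 D210785) (iv1 F424100) (iv5 F459496) (iv4 F474637) F474638 F436799 (iv5 F345666) D215073
theorem F478197 : act 3 n212562 = n215073 := d19_19 (iv1 D215073) F345666 (iv4 D166167) D166166 (iv1 F428688) F428690 (iv4 F425369) (iv3 F440047) F440050 (iv5 F427396) F427395 F348540 (iv1 F273747) (iv5 F346427) (iv4 F466123) F466122 F237573 D147893 D212562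
theorem F478198 : act 6 n177332 = n215073 := d21_3 (iv5 F276592) F276593 D177332 (iv1 D215073) F261492 (iv5 F354342) F358873 (iv5 F129714) (iv6 D84546) D84543
theorem F478199 : act 2 n215073 = n172536 := d3_1 F478198 F355914 F299622
def n215074 : Q := act 2 n166082
theorem D215074 : act 2 n166082 = n215074 := rfl
theorem F478200 : act 3 n215074 = n200210 := d0_2 D166082 D215074 (iv2 F415524) (iv3 D189790) F299568
theorem F478201 : act 4 n215074 = n211135 := d1_2 F430932 D215074 F460264
theorem F478202 : act 5 n215074 = n203948 := d2_2 (iv5 F345666) D215074 F430535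
theorem F478203 : act 6 n215074 = n214922 := d3_2 (iv6 F261492) D215074 (iv2 D214922)
theorem F478204 : act 1 n215074 = n172536 := d15_0 (iv0 F377753) F377752 D215074
theorem F478205 : act 1 n200628 = n215074 := d15_0 F478204 (iv7 F474265) F474261
theorem F478206 : act 4 n212097 = n209730 := d19_14 D140777 D211135 (iv4 F478201) F478200 (iv1 F415525) (iv5 D113249) F82655 F45256 (iv1 D25470) (iv5 F24585) (iv4 F50030) (iv3 F104290) D145314 D212097 F454777 F450413 (iv5 F460228) F460227 F223868
def n215075 : Q := act 5 n166090
theorem D215075 : act 5 n166090 = n215075 := rfl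
theorem F478207 : act 3 n215075 = n189793 := d6_1 D215075 F377777 (iv3 F364829)
theorem F478208 : act 6 n215075 = n206438 := d12_2 F364830 D215075 (iv5 D206438) (iv6 D128613) D128612
theorem F478209 : act 1 n215075 = n178289 := d17_6 F355921 D166491 (iv1 F463541) (iv5 F466417) F466418 D215075 (iv5 D178289) D178288 (iv4 F277850)
def n215076 : Q := act 4 n166122
theorem D215076 : act 4 n166122 = n215076 := rfl
theorem F478210 : act 2 n215076 = n211641 := d1_1 D215076 (iv4 D211641) (iv2 F366559)
theorem F478211 : act 3 n215076 = n187008 := d5_1 D215076 F368816 F466827 (iv4 D212638) F366566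
theorem F478212 : act 5 n215076 = n208216 := d9_2 D166122 D215076 (iv4 D208216) (iv5 D133731) (iv4 F306074) D70114 (iv4 F323284) D211606 (iv4 F478177) (iv5 D215069) (iv4 D166054) (iv5 D79725) F57034 D36323 D79764
theorem F478213 : act 7 n215076 = n193684 := d11_2 F314581 D215076 (iv4 F390683)
theorem F478214 : act 0 n215076 = n210787 := d17_0 (iv5 D210787) (iv1 F385506) (iv5 F462505) (iv4 D211647) F349353 F243676 D213744 F471890 D215076
theorem F478215 : act 1 n215076 = n192093 := d18_6 (iv1 F321931) F321933 (iv1 D79763) D79764 D166122 D215076 F385511 (iv0 F364473) (iv5 D143529)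
def n215077 : Q := act 6 n166122
theorem D215077 : act 6 n166122 = n215077 := rfl
theorem F478216 : act 2 n215077 = n211642 := d3_1 D215077 (iv6 D211642) (iv2 F366559)
theorem F478217 : act 3 n215077 = n212636 := d7_1 D215077 F466812 F366566
theorem F478218 : act 5 n215077 = n212633 := d12_1 D215077 (iv6 D212633) (iv5 D148528) F317922 D166122
def n215078 : Q := act 4 n166145
theorem D215078 : act 4 n166145 = n215078 := rfl
theorem F478219 : act 2 n215078 = n187062 := d1_1 D215078 (iv4 F414907) F414906
theorem F478220 : act 3 n215078 = n202906 := d5_1 D215078 (iv4 D202906) F183455 (iv4 F317443) (iv3 F261628)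
theorem F478221 : act 6 n215078 = n187058 := d10_2 F358630 D215078 F368965
theorem F478222 : act 7 n215078 = n202924 := d11_2 F318787 D215078 F426210
theorem F478223 : act 0 n215078 = n198913 := d18_2 (iv1 F361331) D215078 (iv4 D198913) (iv5 D110602) F80450 F39870 F325864 D56252 D121736
theorem F478224 : act 1 n215078 = n212899 := d18_6 (iv1 F428681) F407053 F175585 F326046 D166145 D215078 F468025 (iv0 F334554) D203520
def n215079 : Q := act 3 n166147
theorem D215079 : act 3 n166147 = n215079 := rfl
theorem F478225 : act 4 n215079 = n214592 := d5_2 (iv4 F346952) D215079 F475954 (iv4 F474244) F474243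
theorem F478226 : act 5 n215079 = n166516 := d6_2 (iv5 F330774) D215079 (iv3 D166516)
theorem F478227 : act 6 n215079 = n180588 := d7_2 (iv6 F330775) D215079 (iv3 D180588)
theorem F478228 : act 7 n215079 = n203851 := d8_2 F346936 D215079 F430100
theorem F478229 : act 0 n215079 = n178234 := d19_4 F315314 F249645 (iv4 F346952) D215079 F361916 F346726 (iv3 F206227) (iv1 F339354) D213031 F468682 (iv3 F372543) (iv1 F424931) (iv5 D202648) F181211 F84567 D66621 (iv5 F319307) F314468 (iv3 F208833)
theorem F478230 : act 0 n190682 = n215079 := d20_4 (iv4 F122554) (iv1 F328297) D96383 D190682 (iv3 D215079) F346952 (iv1 D158444) D158445 F346954 (iv1 D79856)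
def n215080 : Q := act 4 n166153
theorem D215080 : act 4 n166153 = n215080 := rfl
theorem F478231 : act 2 n215080 = n214135 := d1_1 D215080 F473648 (iv2 F345530)
theorem F478232 : act 6 n215080 = n204731 := d10_2 (iv6 F345524) D215080 F433420
theorem F478233 : act 5 n215080 = n197575 := d17_5 (iv1 F328595) D84866 D178358 (iv5 F345525) D215080 (iv0 D197575) D197577 (iv0 F404885) F277904
theorem F478234 : act 3 n215080 = n204683 := d19_3 D178358 (iv5 F345525) D215080 (iv1 F459693) (iv5 D210998) (iv4 F436430) F436429 F230055 F205382 F200979 (iv3 F184660) (iv1 F104633) (iv5 F210652) (iv4 F348527) (iv3 F348509) (iv1 F272788) (iv5 F352179) (iv4 F352177) F199411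
def n215081 : Q := act 4 n166154
theorem D215081 : act 4 n166154 = n215081 := rfl
theorem F478235 : act 2 n215081 = n166155 := d1_1 D215081 (iv4 D166155) D166154
theorem F478236 : act 3 n215081 = n204672 := d5_1 D215081 F433218 (iv3 F361238) F361239 F323505
theorem F478237 : act 6 n215081 = n206614 := d10_2 (iv6 F336006) D215081 F441581
theorem F478238 : act 7 n215081 = n204677 := d11_2 F277732 D215081 F433229
theorem F478239 : act 0 n215081 = n204676 := d17_0 F433228 (iv1 D178155) (iv5 D84801) F60163 D39264 D84868 (iv5 F336002) F277734 D215081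
theorem F478240 : act 1 n215081 = n204675 := d15_1 (iv0 F478239) (iv7 F433763) F433762
def n215082 : Q := act 1 n166167
theorem D215082 : act 1 n166167 = n215082 := rfl
theorem F478241 : act 1 n215082 = n166172 := d15_1 D215082 (iv7 F430538) F430535
theorem F478242 : act 7 n215082 = n212562 := d15_2 F436799 D215082 F466430
theorem F478243 : act 5 n215082 = n200623 := d17_7 F434394 (iv5 D202492) D202490 (iv5 F430933) F430932 F345666 D215082 F417259 (iv4 F434392)
theorem F478244 : act 4 n215082 = n212457 := d17_9 F465877 F355143 (iv1 F465343) F465341 (iv4 F395539) (iv5 F474264) (iv0 F474266) F345666 D215082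
theorem F478245 : act 6 n200536 = n215082 := d21_3 F334353 D207793 F446463 (iv1 D215082) F354373 (iv5 D130233) F207096 (iv5 F441130) F441131 F334352
theorem F478246 : act 2 n215082 = n172538 := d3_1 F478245 (iv6 F429988) F429986
theorem F478247 : act 3 n215082 = n200628 := d7_1 F478245 F417277 (iv3 F416921)
def n215083 : Q := act 5 n166172
theorem D215083 : act 5 n166172 = n215083 := rfl
theorem F478248 : act 2 n215083 = n189788 := d2_1 D215083 (iv5 F430531) F430529
theorem F478249 : act 3 n215083 = n198900 := d6_1 D215083 (iv5 F416237) F416234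
theorem F478250 : act 4 n215083 = n204681 := d9_1 D215083 F433238 F424236 (iv5 D146720) (iv4 F230045) F334597 D166167 (iv5 F345666) (iv4 F430932) F430933 (iv4 F425440) F425439 (iv4 F337729) (iv5 D166173) D166172
theorem F478251 : act 6 n215083 = n196081 := d12_2 (iv6 F341660) D215083 (iv5 D196081) D196082 (iv5 F399347)
theorem F478252 : act 7 n215083 = n215074 := d13_2 F430538 D215083 F478202
theorem F478253 : act 0 n215083 = n215073 := d17_2 F436798 D215083 F478195 F416857 (iv5 F465348) F465349 (iv5 F474617) F474620 F465883
theorem F478254 : act 1 n215083 = n214257 := d17_6 F335061 (iv5 F321714) (iv1 F337727) (iv5 D166173) D166172 D215083 F474264 (iv0 F395543) (iv4 D147797)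
def n215084 : Q := act 6 n166199
theorem D215084 : act 6 n166199 = n215084 := rfl
theorem F478255 : act 2 n215084 = n176699 := d3_1 D215084 (iv6 D176699) (iv2 F300494)
theorem F478256 : act 3 n215084 = n189200 := d7_1 D215084 (iv6 F376044) F353187
theorem F478257 : act 4 n215084 = n184229 := d10_1 D215084 (iv6 F476384) F476380
theorem F478258 : act 5 n215084 = n193632 := d12_1 D215084 (iv6 D193632) F344518 F324864 D166199
theorem F478259 : act 0 n215084 = n189959 := d21_4 F331179 F325348 D166199 D215084 (iv6 D189959) D189958 (iv1 F463305) F463301 (iv6 D176674) (iv1 F331178)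
def n215085 : Q := act 4 n166216
theorem D215085 : act 4 n166216 = n215085 := rfl
theorem F478260 : act 2 n215085 = n199055 := d1_1 D215085 F410494 (iv2 F264136)
theorem F478261 : act 3 n215085 = n211946 := d5_1 D215085 (iv4 D211946) F438101 F438100 F359092
theorem F478262 : act 6 n215085 = n199053 := d10_2 F359168 D215085 F410482
theorem F478263 : act 7 n215085 = n212778 := d11_2 (iv7 F264134) D215085 (iv4 D212778)
theorem F478264 : act 5 n215085 = n183130 := d16_1 D215085 F421330 F421327 (iv4 F353105) F353106 F239787 (iv5 F261707) (iv7 F264135) (iv2 F264136)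
theorem F478265 : act 0 n215085 = n184272 := d17_0 F286220 F439782 (iv5 F439781) F394169 F241921 F190375 D128121 F261705 D215085
theorem F478266 : act 1 n215085 = n212543 := d18_6 (iv1 F215594) F358473 (iv1 F353868) (iv4 F239207) (iv5 F353863) D215085 F466351 (iv0 F353102) (iv5 F353100)
def n215086 : Q := act 4 n166217
theorem D215086 : act 4 n166217 = n215086 := rfl
theorem F478267 : act 2 n215086 = n212778 := d1_1 D215086 (iv4 D212778) F264133
theorem F478268 : act 3 n215086 = n199060 := d5_1 D215086 F462031 (iv3 F462032) F415393 F415395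
theorem F478269 : act 5 n215086 = n183131 := d9_2 (iv5 F261707) D215086 (iv4 F467511) F467510 (iv4 F346253) (iv5 F353869) (iv4 F239207) (iv5 F353863) D215085 F478264 F421330 F421327 (iv4 F353105) F353106 F239787
theorem F478270 : act 6 n215086 = n184313 := d10_2 F375971 D215086 F415397
theorem F478271 : act 7 n215086 = n199055 := d11_2 F264135 D215086 F410494
theorem F478272 : act 0 n215086 = n212543 := d18_2 (iv1 F261706) D215086 F466351 (iv5 F339302) (iv4 D119686) (iv0 F190371) (iv4 F109334) F190375 D128121
theorem F478273 : act 1 n215086 = n184272 := d18_6 (iv1 F314368) F311475 (iv1 F311472) F239787 (iv5 F261707) D215086 (iv4 F364533) F358553 F329421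
def n215087 : Q := act 5 n166218
theorem D215087 : act 5 n166218 = n215087 := rfl
theorem F478274 : act 2 n215087 = n212781 := d2_1 D215087 F467474 F466400
theorem F478275 : act 3 n215087 = n213004 := d6_1 D215087 F468551 F385862
theorem F478276 : act 4 n215087 = n206223 := d9_1 D215087 F439783 (iv4 D128123) (iv5 D60212) D60211 D128121 F343435 (iv5 F287202) F362978 (iv5 D166281) (iv4 D79847) (iv5 D36370) (iv4 F57099) D79810 D166218
theorem F478277 : act 6 n215087 = n213617 := d12_2 (iv6 F375962) D215087 F471311 F353753 (iv5 F375959)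
theorem F478278 : act 7 n215087 = n191344 := d13_2 (iv7 F261708) D215087 F383135
theorem F478279 : act 0 n215087 = n206287 := d17_2 (iv1 F375990) D215087 (iv5 D206287) (iv4 D128118) (iv5 D60207) D60206 (iv5 F333397) (iv0 F360170) (iv4 F375986)
theorem F478280 : act 1 n215087 = n206292 := d17_6 (iv1 F241923) F241921 F190374 D79810 D166218 D215087 F440106 (iv0 D189051) (iv4 F356655)
def n215088 : Q := act 0 n166233
theorem D215088 : act 0 n166233 = n215088 := rfl
theorem F478281 : act 4 n215088 = n176094 := d18_3 F352368 (iv4 F261723) D215088 (iv5 F353789) (iv4 F353811) F177754 F319017 D154671 (iv5 F352361)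
theorem F478282 : act 2 n206375 = n215088 := d15_3 (iv0 D215088) F454106 F454105
theorem F478283 : act 6 n215088 = n206373 := d3_2 D206375 F478282 F440478
def n215089 : Q := act 5 n166233
theorem D215089 : act 5 n166233 = n215089 := rfl
theorem F478284 : act 2 n215089 = n190514 := d2_1 D215089 (iv5 F394272) F394269
theorem F478285 : act 3 n215089 = n188168 := d6_1 D215089 (iv5 F385867) F385866
theorem F478286 : act 6 n215089 = n188165 := d12_2 D166233 D215089 (iv5 D188165) (iv6 F331219) (iv5 D166232)
theorem F478287 : act 0 n215089 = n204483 := d21_4 (iv5 D183118) (iv1 F294846) D188165 (iv6 F478286) F432677 D208238 (iv1 F448529) F396194 (iv6 D183142) (iv1 F372559)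
def n215090 : Q := act 5 n166320
theorem D215090 : act 5 n166320 = n215090 := rfl
theorem F478288 : act 2 n215090 = n166321 := d2_1 D215090 (iv5 D166321) D166320
theorem F478289 : act 3 n215090 = n189841 := d6_1 D215090 (iv5 D189841) (iv3 F356009)
theorem F478290 : act 4 n215090 = n211459 := d9_1 D215090 (iv5 D211459) F225177 D142164 F330046 (iv5 D84849) D84848 D178289 (iv4 F462653) F462654 F363743 D150855 (iv4 F339606) F321714 (iv4 F261912)
theorem F478291 : act 7 n215090 = n200764 := d13_2 F277834 D215090 F417837
theorem F478292 : act 1 n215090 = n215075 := d17_6 D79786 (iv5 F334597) F337731 F321714 (iv4 F261912) D215090 (iv5 D215075) (iv0 D166090) F122427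
theorem F478293 : act 0 n215090 = n200849 := d18_0 F418139 (iv1 F467799) F467798 (iv5 F355918) (iv4 D166490) (iv0 F355921) F277850 F277849 D215090
theorem F478294 : act 6 n215090 = n214634 := d21_9 F413338 F399975 (iv5 F399974) F405947 (iv1 F435538) F435536 F418270 (iv1 F277847) D215090 F476145
def n215091 : Q := act 0 n166321
theorem D215091 : act 0 n166321 = n215091 := rfl
theorem F478295 : act 5 n215091 = n203942 := d17_1 D215091 (iv1 F430504) F350090 F350091 (iv5 D140779) D140778 (iv5 F390356) D204680 (iv4 F433236)
theorem F478296 : act 4 n215091 = n211037 := d18_1 D215091 (iv1 F466452) (iv4 F478196) F478195 F416857 F466133 F466130 (iv0 D166318) D166321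
theorem F478297 : act 3 n215091 = n194936 := d20_5 (iv4 F460209) (iv1 D211126) F324363 (iv3 F261913) D215091 (iv4 D194936) (iv1 F160590) (iv4 F361713) F361716 (iv1 F377757)
theorem F478298 : act 6 n215091 = n200751 := d21_5 D113592 D200887 F474224 F413333 D215091 F417771 F358349 (iv5 F95271) (iv6 F341837) (iv1 D113591)
theorem F478299 : act 1 n200764 = n215091 := d15_0 (iv0 D215091) (iv7 F277852) (iv2 F417835)
theorem F478300 : act 2 n200849 = n215091 := d3_3 F478298 (iv2 F417773) D200849
theorem F478301 : act 7 n215075 = n215091 := d14_0 F478298 F417775 D206458 (iv7 F440918) (iv6 F478208)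
def n215092 : Q := act 1 n166321
theorem D215092 : act 1 n166321 = n215092 := rfl
theorem F478302 : act 1 n215092 = n200764 := d15_1 D215092 (iv7 F478291) F478288
theorem F478303 : act 7 n215092 = n200849 := d15_2 (iv0 D215091) D215092 F478300
theorem F478304 : act 5 n215092 = n203943 := d17_7 (iv1 F194226) (iv5 F345645) (iv1 D146736) F319815 (iv4 F122615) D166321 D215092 F430507 F261503
theorem F478305 : act 4 n215092 = n210785 := d17_9 F458784 F439982 F237577 D206264 F439980 F435179 (iv0 D166318) D166321 D215092
theorem F478306 : act 3 n197483 = n215092 := d19_19 (iv1 D215092) (iv5 D166321) F122615 (iv3 D36385) F30470 (iv5 F60234) F313267 (iv3 F183289) (iv1 F243220) (iv5 F397454) F397453 (iv3 D138986) (iv1 D65241) (iv5 D30621) F24159 (iv3 F38208) D49981 D108224 D197483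
theorem F478307 : act 2 n215092 = n215075 := d0_1 F478306 F478207 F377776 (iv3 F415613) F415612
def n215093 : Q := act 5 n166400
theorem D215093 : act 5 n166400 = n215093 := rfl
theorem F478308 : act 6 n215093 = n212769 := d12_2 F360149 D215093 (iv5 D212769) (iv6 F362063) F225729
theorem F478309 : act 4 n215093 = n209140 := d18_5 F340634 (iv4 D79896) D79893 D166400 D215093 (iv0 D209140) F335982 (iv0 F369560) F369559
def n215094 : Q := act 5 n166411
theorem D215094 : act 5 n166411 = n215094 := rfl
theorem F478310 : act 2 n215094 = n187310 := d2_1 D215094 F369788 F369708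
theorem F478311 : act 3 n215094 = n187350 := d6_1 D215094 (iv5 F369917) (iv3 F364237)
theorem F478312 : act 6 n215094 = n191006 := d12_2 F364238 D215094 (iv5 D191006) F317683 D141566
theorem F478313 : act 0 n215094 = n194882 := d17_2 D166411 D215094 (iv5 D194882) F352059 (iv5 F335984) (iv0 F340160) (iv5 D166401) (iv0 D79893) D79896
theorem F478314 : act 1 n215094 = n174617 := d17_6 D194848 (iv5 F468914) (iv1 F468917) F422262 F415304 D215094 (iv5 D174617) F329648 (iv4 F160353)
def n215095 : Q := act 4 n166413
theorem D215095 : act 4 n166413 = n215095 := rfl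
theorem F478315 : act 5 n215095 = n213028 := d16_1 D215095 (iv4 D213028) (iv5 D152196) D152195 (iv5 F336454) D203950 F430546 F395282 F394852
theorem F478316 : act 0 n215095 = n209058 := d17_0 (iv5 D209058) (iv1 D135653) D135654 (iv4 F395269) (iv5 D194976) F160689 (iv5 F379326) (iv0 F379327) D215095
theorem F478317 : act 1 n215095 = n209056 := d18_8 (iv1 F218516) F218512 (iv1 F99353) D135662 D209063 F452061 (iv0 F379327) D215095 (iv5 D209056)
def n215096 : Q := act 6 n166413
theorem D215096 : act 6 n166413 = n215096 := rfl
theorem F478318 : act 3 n215096 = n174654 := d7_1 D215096 (iv6 D174654) (iv3 F261983)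
def n215097 : Q := act 5 n166436
theorem D215097 : act 5 n166436 = n215097 := rfl
theorem F478319 : act 2 n215097 = n213747 := d2_1 D215097 F471901 F430540
theorem F478320 : act 3 n215097 = n202455 := d6_1 D215097 (iv5 F431941) F431942
theorem F478321 : act 4 n215097 = n203518 := d9_1 D215097 F428669 (iv4 F457176) F457177 (iv4 F232034) F330657 (iv4 F258471) D214946 F477582 F428662 (iv4 F234272) (iv5 F278141) (iv4 F334090) (iv5 D166437) D166436
theorem F478322 : act 7 n215097 = n213745 := d13_2 F365211 D215097 F471892
theorem F478323 : act 1 n215097 = n178507 := d17_8 (iv1 F353056) (iv5 D157082) (iv1 F353054) F187935 (iv4 F274104) (iv5 F431983) (iv0 F431984) D215097 (iv4 D178507)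
theorem F478324 : act 0 n215097 = n178502 := d18_0 (iv4 D178502) D178500 (iv4 F424038) F424037 F406520 F406372 (iv4 F431982) (iv0 F431984) D215097
theorem F478325 : act 6 n215097 = n210371 := d21_3 D213793 F472119 D215097 F457242 (iv6 F459326) F459329 (iv1 F402598) (iv5 F402600) F274080 (iv1 F353044)
def n215098 : Q := act 4 n166450
theorem D215098 : act 4 n166450 = n215098 := rfl
theorem F478326 : act 2 n215098 = n173987 := d1_1 D215098 F272621 (iv2 F330278)
theorem F478327 : act 3 n215098 = n198615 := d5_1 D215098 (iv4 D198615) (iv3 F378083) (iv4 F409898) (iv3 F409901)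
theorem F478328 : act 5 n215098 = n199238 := d9_2 (iv5 F330279) D215098 (iv4 F451495) (iv5 D208943) (iv4 D135433) (iv5 F330211) F59137 D38293 D83188 (iv5 F333001) (iv4 F100503) (iv5 F334183) (iv4 D135428) D135429 F328949
theorem F478329 : act 6 n215098 = n177512 := d10_2 (iv6 F339274) D215098 (iv4 D177512)
theorem F478330 : act 7 n215098 = n173935 := d11_2 (iv7 F330280) D215098 (iv4 D173935)
theorem F478331 : act 0 n215098 = n173984 := d17_0 F348197 F402340 (iv5 F476284) (iv4 D214664) F331726 F330219 (iv5 F303496) (iv0 F330277) D215098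
theorem F478332 : act 1 n215098 = n173983 := d18_6 D119440 F272371 (iv1 F328946) F328949 (iv5 F330279) D215098 F330220 F361532 (iv5 D119442)
def n215099 : Q := act 3 n166467
theorem D215099 : act 3 n166467 = n215099 := rfl
theorem F478333 : act 2 n215099 = n172563 := d0_1 D215099 F352241 F352247 F358910 (iv2 F358913)
theorem F478334 : act 4 n215099 = n166473 := d5_2 D166467 D215099 (iv3 D166473) (iv4 D79915) D79914
theorem F478335 : act 6 n215099 = n197978 := d7_2 F433381 D215099 F433378
theorem F478336 : act 7 n215099 = n178149 := d8_2 (iv7 F358914) D215099 (iv3 D178149)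
theorem F478337 : act 0 n208915 = n215099 := d18_2 F353876 D208915 F478334 F328130 (iv4 F303724) (iv0 F301832) (iv4 F306770) F353883 (iv5 F322455)
def n215100 : Q := act 3 n166526
theorem D215100 : act 3 n166526 = n215100 := rfl
theorem F478338 : act 2 n215100 = n212719 := d0_1 D215100 (iv3 D212719) F234416 (iv3 F363710) F363709
theorem F478339 : act 4 n215100 = n203537 := d5_2 F417672 D215100 F428781 F336432 F417674
theorem F478340 : act 5 n215100 = n192274 := d6_2 F348114 D215100 F386264
theorem F478341 : act 7 n215100 = n199966 := d8_2 (iv7 F363713) D215100 (iv3 D199966)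
theorem F478342 : act 0 n215100 = n190676 := d20_4 F425248 (iv1 F417670) F417672 D215100 F380540 F320042 F240650 (iv4 F334491) (iv3 F382177) (iv1 F425247)
theorem F478343 : act 0 n187075 = n215100 := d20_4 (iv4 D41803) D41801 D89525 D187075 (iv3 D215100) (iv4 F417672) (iv1 D200729) (iv4 F220436) F353330 F137060
theorem F478344 : act 6 n198963 = n215100 := d21_3 D111850 F360269 (iv5 F410084) F478342 (iv6 D190676) F320036 (iv1 F174293) (iv5 F248412) F354558 (iv1 D111849)
def n215101 : Q := act 6 n166526
theorem D215101 : act 6 n166526 = n215101 := rfl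
theorem F478345 : act 2 n215101 = n190610 := d3_1 D215101 (iv6 F380284) F363709
theorem F478346 : act 3 n215101 = n198963 := d7_1 D215101 F478344 (iv3 D215100)
theorem F478347 : act 4 n215101 = n197095 := d10_1 D215101 F417675 F417672
theorem F478348 : act 5 n215101 = n203670 := d12_1 D215101 (iv6 F429339) (iv5 D178870) (iv6 F189712) F348114
theorem F478349 : act 7 n215101 = n190611 := d14_2 (iv7 F363713) D215101 F427673 F414396 (iv6 D199968)
theorem F478350 : act 0 n190609 = n215101 := d21_4 (iv5 D87457) (iv1 F71397) (iv5 F148017) D190609 (iv6 D215101) (iv5 F348114) (iv1 D119245) (iv5 F350700) (iv6 D95586) (iv1 F134271)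
theorem F478351 : act 1 n190613 = n215101 := d17_8 F444856 F444853 (iv1 F362014) D197093 (iv4 F408317) (iv5 F415813) F416037 F416034 F478347
def n215102 : Q := act 3 n166554
theorem D215102 : act 3 n166554 = n215102 := rfl
theorem F478352 : act 2 n215102 = n177413 := d0_1 D215102 F365122 F161189 (iv3 F176647) F358158
theorem F478353 : act 5 n215102 = n191235 := d6_2 (iv5 F373515) D215102 F382686
theorem F478354 : act 6 n215102 = n177007 := d7_2 F358159 D215102 (iv3 F332898)
theorem F478355 : act 7 n215102 = n195068 := d8_2 (iv7 F358157) D215102 F395645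
theorem F478356 : act 4 n215102 = n198247 := d20_6 (iv4 D79976) (iv1 F57195) (iv4 F119779) (iv3 F358151) F358149 D215102 (iv1 F407339) F346872 (iv3 F262246) (iv1 D166632)
theorem F478357 : act 1 n195072 = n215102 := d17_8 (iv1 F407339) D198258 F435364 (iv5 D205194) F201993 D125629 D205242 (iv5 F435576) F478356
theorem F478358 : act 0 n195071 = n215102 := d20_10 F478356 (iv1 F407339) F346872 (iv3 F262246) (iv1 D166632) (iv3 F328511) F328512 D204738 F433438 F430661
def n215103 : Q := act 4 n166554
theorem D215103 : act 4 n166554 = n215103 := rfl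
theorem F478359 : act 2 n215103 = n198738 := d1_1 D215103 F409029 F358158
theorem F478360 : act 6 n215103 = n205576 := d10_2 F358159 D215103 (iv4 D205576)
theorem F478361 : act 7 n215103 = n200776 := d11_2 (iv7 F358157) D215103 F417871
theorem F478362 : act 1 n215103 = n194878 := d18_6 F445131 F445128 F402840 F402838 (iv5 F373515) D215103 (iv4 F445396) (iv0 F445397) (iv5 F397884)
theorem F478363 : act 3 n215103 = n170745 := d20_3 (iv4 F358152) F358149 D215103 (iv1 F433804) F433800 (iv4 D138144) D138142 (iv4 F414336) (iv3 F414339) (iv1 F262305)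
theorem F478364 : act 1 n200779 = n215103 := d15_0 F478362 (iv7 F474495) F474492
def n215104 : Q := act 6 n166562
theorem D215104 : act 6 n166562 = n215104 := rfl
theorem F478365 : act 2 n215104 = n208105 := d3_1 D215104 F447888 (iv2 F360325)
theorem F478366 : act 3 n215104 = n207114 := d7_1 D215104 F452103 F429421
theorem F478367 : act 4 n215104 = n190598 := d10_1 D215104 (iv6 F380261) (iv4 F281167)
theorem F478368 : act 5 n215104 = n208104 := d12_1 D215104 F447884 (iv5 F445378) F445379 F369394
theorem F478369 : act 7 n215104 = n214919 := d14_2 F360302 D215104 F477435 (iv7 D209935) (iv6 F360301)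
theorem F478370 : act 0 n215104 = n194499 := d21_10 (iv5 F441345) (iv1 D206559) F362290 (iv6 F380252) F380254 F325718 D163433 (iv1 F376285) F369394 D215104
theorem F478371 : act 0 n176680 = n215104 := d21_4 F392631 F362935 F377762 F377759 (iv6 D215104) (iv5 F369394) (iv1 F382508) F382506 (iv6 F415519) F415521
def n215105 : Q := act 3 n166563
theorem D215105 : act 3 n166563 = n215105 := rfl
theorem F478372 : act 4 n215105 = n214307 := d5_2 F262091 D215105 (iv3 D214307) (iv4 D158049) D158048
theorem F478373 : act 5 n215105 = n207548 := d6_2 F341786 D215105 F445399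
theorem F478374 : act 7 n215105 = n207547 := d8_2 (iv7 F360326) D215105 F445394
theorem F478375 : act 0 n215105 = n214705 := d20_10 (iv4 D214705) (iv1 F262305) (iv4 F358152) F358151 F122741 D166599 F262188 F254195 F262091 D215105
theorem F478376 : act 0 n205309 = n215105 := d20_4 F441554 F441506 F417589 (iv3 F435884) (iv3 D215105) (iv4 F262091) (iv1 F383179) (iv4 F395716) (iv3 F399428) F441557
def n215106 : Q := act 6 n166576
theorem D215106 : act 6 n166576 = n215106 := rfl
theorem F478377 : act 2 n215106 = n214893 := d3_1 D215106 (iv6 D214893) (iv2 F262248)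
theorem F478378 : act 3 n215106 = n200739 := d7_1 D215106 (iv6 D200739) F328087
theorem F478379 : act 5 n215106 = n208669 := d12_1 D215106 (iv6 D208669) (iv5 F373530) F476737 (iv5 F476736)
theorem F478380 : act 7 n215106 = n214921 := d14_2 F262247 D215106 (iv6 F477445) F437100 F431593
theorem F478381 : act 0 n215106 = n214917 := d21_4 (iv5 F382451) (iv1 F476733) (iv5 F476736) D215106 F477425 (iv5 D196090) (iv1 F330445) (iv5 F441134) F441136 (iv1 F282840)
theorem F478382 : act 0 n214922 = n215106 := d21_4 F270744 F430539 (iv5 F478202) F478203 (iv6 D215106) F476736 (iv1 D214767) (iv5 D161010) (iv6 F132770) (iv1 F366175)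
def n215107 : Q := act 6 n166592
theorem D215107 : act 6 n166592 = n215107 := rfl
theorem F478383 : act 2 n215107 = n206615 := d3_1 D215107 (iv6 F441587) (iv2 F412080)
theorem F478384 : act 3 n215107 = n205519 := d7_1 D215107 F445697 (iv3 F445696)
theorem F478385 : act 5 n215107 = n205514 := d12_1 D215107 F436786 F417721 F477360 F477358
theorem F478386 : act 7 n215107 = n205513 := d14_2 (iv7 F412078) D215107 F436782 F365981 F382534
theorem F478387 : act 0 n215107 = n204669 := d21_4 (iv5 F382714) (iv1 F477356) F477358 D215107 F433216 F207252 F207220 D60664 D129020 F354388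
theorem F478388 : act 0 n180132 = n215107 := d21_4 (iv5 D79741) (iv1 F297442) D86065 D180132 (iv6 D215107) (iv5 F477358) (iv1 D214903) (iv5 D163449) D163450 F354380
def n215108 : Q := act 6 n166599
theorem D215108 : act 6 n166599 = n215108 := rfl
theorem F478389 : act 2 n215108 = n195087 := d3_1 D215108 (iv6 F445693) F445687
theorem F478390 : act 3 n215108 = n166601 := d7_1 D215108 (iv6 D166601) D166599
theorem F478391 : act 4 n215108 = n180637 := d10_1 D215108 (iv6 D180637) (iv4 F262188)
theorem F478392 : act 7 n215108 = n195077 := d14_2 F343687 D215108 (iv6 D195077) (iv7 F161201) D105254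
theorem F478393 : act 0 n215108 = n195061 := d21_4 F392225 (iv1 F392339) F392337 D215108 (iv6 F435209) (iv5 D205156) (iv1 F201917) (iv5 F202176) F435616 (iv1 F435614)
theorem F478394 : act 0 n195085 = n215108 := d21_4 F417224 (iv1 F415234) F415231 (iv6 F395712) (iv6 D215108) (iv5 F392337) F392338 (iv5 F364796) F202080 D200615
def n215109 : Q := act 4 n166600
theorem D215109 : act 4 n166600 = n215109 := rfl
theorem F478395 : act 2 n215109 = n176737 := d1_1 D215109 F341802 F262193
theorem F478396 : act 3 n215109 = n214320 := d5_1 D215109 F474557 F384583 D194194 F392340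
theorem F478397 : act 5 n215109 = n190939 := d9_2 D166600 D215109 F381618 F344661 (iv4 F194340) F254301 F254299 (iv5 F341799) D207619 F445702 F378772 (iv5 D163276) (iv4 F254085) (iv5 D86281) F122740
theorem F478398 : act 6 n215109 = n176733 := d10_2 F382516 D215109 (iv4 F382518)
theorem F478399 : act 7 n215109 = n214906 := d11_2 (iv7 F262191) D215109 (iv4 D214906)
theorem F478400 : act 0 n215109 = n207601 := d17_0 F445638 (iv1 F476609) F476608 F370197 F257872 (iv0 D91688) D91691 (iv0 F262192) D215109
def n215110 : Q := act 3 n166610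
theorem D215110 : act 3 n166610 = n215110 := rfl
theorem F478401 : act 2 n215110 = n207599 := d0_1 D215110 F445628 (iv2 F445607) F445608 (iv2 F382703)
theorem F478402 : act 5 n215110 = n180377 := d6_2 (iv5 F382706) D215110 (iv3 F334648)
theorem F478403 : act 7 n215110 = n207488 := d8_2 (iv7 F382701) D215110 F445120
theorem F478404 : act 0 n215110 = n196234 := d20_4 F380443 D190648 (iv4 F382707) D215110 (iv3 D196234) (iv4 F362862) (iv1 D106546) (iv4 F77874) (iv3 F164265) F380445
theorem F478405 : act 6 n207596 = n215110 := d21_9 F416744 F430223 (iv5 F445338) (iv6 D207535) (iv1 D131945) D131947 (iv5 F445238) F445240 D207596 F478404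
def n215111 : Q := act 6 n166610
theorem D215111 : act 6 n166610 = n215111 := rfl
theorem F478406 : act 2 n215111 = n201886 := d3_1 D215111 F422224 (iv2 F382703)
theorem F478407 : act 3 n215111 = n207596 := d7_1 D215111 F478405 (iv3 D215110)
theorem F478408 : act 4 n215111 = n190621 := d10_1 D215111 (iv6 F380447) (iv4 F382707)
theorem F478409 : act 0 n215111 = n191094 := d21_4 F294051 D181699 (iv5 F382706) D215111 F477360 F477358 (iv1 D166592) (iv5 F294903) (iv6 F382448) (iv1 D191162)
theorem F478410 : act 5 n215111 = n191137 := d21_6 (iv5 F294902) (iv1 D36420) D36422 D79962 D166610 D215111 (iv1 D191137) (iv5 D97308) F71706 D45478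
theorem F478411 : act 0 n191092 = n215111 := d21_4 F358960 (iv1 D166632) D166634 (iv6 F382198) (iv6 D215111) F382706 (iv1 F282830) D214765 F476719 F358963
theorem F478412 : act 7 n201884 = n215111 := d13_0 F478410 F382371 D201884
def n215112 : Q := act 6 n166611
theorem D215112 : act 6 n166611 = n215112 := rfl
theorem F478413 : act 2 n215112 = n207486 := d3_1 D215112 (iv6 F445118) F382698
theorem F478414 : act 3 n215112 = n207593 := d7_1 D215112 (iv6 F445605) F417730
theorem F478415 : act 4 n215112 = n200253 := d10_1 D215112 F416194 F380448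
theorem F478416 : act 7 n215112 = n207586 := d14_2 F382702 D215112 (iv6 D207586) (iv7 F422222) F422224
theorem F478417 : act 5 n215112 = n196219 := d21_6 (iv5 F212088) (iv1 D131810) D131812 F340299 (iv1 F288013) D215112 (iv1 D196219) (iv5 F382207) F382208 (iv1 F164548)
theorem F478418 : act 0 n215112 = n191116 := d21_10 (iv5 F441025) F441024 F399134 F430229 F430227 (iv6 F476719) (iv5 D214765) (iv1 F282837) F356069 D215112
def n215113 : Q := act 4 n166625
theorem D215113 : act 4 n166625 = n215113 := rfl
theorem F478419 : act 2 n215113 = n196870 := d1_1 D215113 (iv4 F402097) (iv2 F296360)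
theorem F478420 : act 3 n215113 = n199538 := d5_1 D215113 (iv4 F477083) F477082 (iv4 F440961) (iv3 F440966)
theorem F478421 : act 5 n215113 = n167688 := d9_2 D166625 D215113 (iv4 F308515) F308516 (iv4 D78325) F119485 D79972 (iv5 F360407) F400876 F400875 F299634 (iv5 D95241) F70003 F296063 D79969
theorem F478422 : act 6 n215113 = n215072 := d10_2 F435511 D215113 F478192
theorem F478423 : act 7 n215113 = n199534 := d11_2 F326460 D215113 F412564
theorem F478424 : act 0 n215113 = n177245 := d17_0 (iv5 D177245) F322217 D143828 F358853 (iv5 F326472) F326469 D176998 (iv0 F296358) D215113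
theorem F478425 : act 1 n215113 = n177213 := d18_6 (iv1 F325209) F57191 D36424 D79969 D166625 D215113 (iv4 F276607) (iv0 F325212) (iv5 D126051)
def n215114 : Q := act 2 n166627
theorem D215114 : act 2 n166627 = n215114 := rfl
theorem F478426 : act 3 n215114 = n205360 := d0_2 D166627 D215114 F436072 F202352 F325640
theorem F478427 : act 4 n215114 = n199621 := d1_2 F363327 D215114 F412877
theorem F478428 : act 5 n215114 = n197888 := d2_2 F435482 D215114 (iv2 F435479)
theorem F478429 : act 6 n215114 = n199725 := d3_2 (iv6 F363328) D215114 (iv2 F413265)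
theorem F478430 : act 0 n215114 = n204233 := d21_1 (iv5 F478428) (iv5 D204233) F197480 D166591 (iv6 F435827) F435823 (iv1 F338328) D205516 (iv6 F441632) (iv1 F441633)
def n215115 : Q := act 4 n166668
theorem D215115 : act 4 n166668 = n215115 := rfl
theorem F478431 : act 2 n215115 = n205309 := d1_1 D215115 (iv4 F435887) (iv2 F414344)
theorem F478432 : act 7 n215115 = n214705 := d11_2 (iv7 F414342) D215115 (iv4 D214705)
theorem F478433 : act 5 n215115 = n190462 := d18_4 F358160 (iv4 F122779) D166668 D215115 (iv4 D190462) (iv0 D96041) (iv4 F71724) D97396 (iv5 F373522)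
theorem F478434 : act 1 n215115 = n207547 := d18_8 D207545 F445383 (iv1 F395351) F376732 F288005 F262066 F262301 D215115 (iv5 D207547)
theorem F478435 : act 6 n215115 = n205165 := d21_5 F441320 F207419 D133388 (iv6 F445395) (iv1 F478434) (iv5 D205165) (iv1 F201940) (iv5 F202238) (iv6 F364833) D206557
def n215116 : Q := act 6 n166668
theorem D215116 : act 6 n166668 = n215116 := rfl
theorem F478436 : act 2 n215116 = n205308 := d3_1 D215116 F435888 (iv2 F414344)
theorem F478437 : act 3 n215116 = n199973 := d7_1 D215116 (iv6 F414423) (iv3 F409005)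
theorem F478438 : act 4 n215116 = n205165 := d10_1 D215116 (iv6 F478435) (iv4 D215115)
theorem F478439 : act 7 n215116 = n205310 := d14_2 (iv7 F414342) D215116 F435890 (iv7 F414330) F414341
theorem F478440 : act 0 n215116 = n212163 := d21_4 (iv5 F257600) D214880 F477256 D215116 F464568 (iv5 D187201) (iv1 F367178) (iv5 F377896) (iv6 F430153) (iv1 D203861)
theorem F478441 : act 5 n215116 = n212169 := d21_6 (iv5 F447844) F447845 (iv5 F366956) F256789 D166668 D215116 F464598 (iv5 F476984) F476985 (iv1 F418494)
theorem F478442 : act 0 n173848 = n215116 := d21_4 F455390 F455388 F249057 (iv6 F299351) (iv6 D215116) (iv5 F477256) (iv1 F477257) (iv5 D214862) F366961 (iv1 F276096)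
def n215117 : Q := act 3 n166669
theorem D215117 : act 3 n166669 = n215117 := rfl
theorem F478443 : act 4 n215117 = n205288 := d5_2 (iv4 F397885) D215117 F435788 F397890 (iv3 F397883)
theorem F478444 : act 5 n215117 = n215018 := d6_2 F477261 D215117 F477917
theorem F478445 : act 6 n215117 = n190592 := d7_2 F397886 D215117 F380247
theorem F478446 : act 7 n215117 = n214707 := d8_2 F414345 D215117 (iv3 D214707)
theorem F478447 : act 0 n214295 = n215117 := d20_4 (iv4 F361135) (iv1 F160680) F361140 D214295 (iv3 D215117) F397885 F445397 F445396 F394843 F358442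
def n215118 : Q := act 3 n166672
theorem D215118 : act 3 n166672 = n215118 := rfl
theorem F478448 : act 2 n215118 = n194878 := d0_1 D215118 F394843 (iv2 F340365) F358095 F394877
theorem F478449 : act 4 n215118 = n205529 := d5_2 F476129 D215118 (iv3 D205529) F358047 D214631
theorem F478450 : act 6 n215118 = n194877 := d7_2 (iv6 F394878) D215118 (iv3 F394861)
theorem F478451 : act 7 n215118 = n200779 := d8_2 (iv7 F394879) D215118 (iv3 F429396)
theorem F478452 : act 0 n215118 = n198738 := d20_4 F262404 F476130 F476129 D215118 (iv3 D198738) F169926 (iv1 F202915) F202917 (iv3 F408771) F408774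
theorem F478453 : act 0 n200776 = n215118 := d20_4 (iv4 F476591) F413238 (iv4 F472302) F472301 (iv3 D215118) (iv4 F476129) (iv1 F476131) (iv4 F476601) F476600 (iv1 F476590)
def n215119 : Q := act 5 n166673
theorem D215119 : act 5 n166673 = n215119 := rfl
theorem F478454 : act 2 n215119 = n166674 := d2_1 D215119 (iv5 D166674) D166673
theorem F478455 : act 3 n215119 = n214699 := d6_1 D215119 (iv5 D214699) (iv3 F262309)
theorem F478456 : act 7 n215119 = n214730 := d13_2 (iv7 F262311) D215119 (iv5 D214730)
theorem F478457 : act 0 n215119 = n214694 := d17_2 (iv1 F262312) D215119 (iv5 D214694) (iv4 F476103) (iv5 F476579) F476580 (iv5 D205069) D205067 (iv4 F434858)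
theorem F478458 : act 1 n215119 = n204736 := d17_6 (iv1 F406249) (iv5 F433430) F476183 (iv5 D214641) (iv4 F262310) D215119 (iv5 F433432) (iv0 D160616) (iv4 F191540)
def n215120 : Q := act 4 n166674
theorem D215120 : act 4 n166674 = n215120 := rfl
theorem F478459 : act 3 n215120 = n204701 := d5_1 D215120 F433295 F262380 F122814 (iv3 F262315)
theorem F478460 : act 7 n215120 = n214731 := d11_2 (iv7 F262316) D215120 (iv4 D214731)
theorem F478461 : act 5 n215120 = n204699 := d16_1 D215120 F433289 D214720 F476530 (iv5 D204733) (iv4 F254032) D214730 (iv7 F478456) F478454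
theorem F478462 : act 1 n215120 = n214671 := d18_8 F476130 F476129 (iv1 D166672) F122781 D160444 D214643 (iv0 F476193) D215120 (iv5 D214671)
theorem F478463 : act 1 n214678 = n215120 := d15_0 F478462 F476326 (iv2 F476357)
def n215121 : Q := act 6 n166674
theorem D215121 : act 6 n166674 = n215121 := rfl
theorem F478464 : act 3 n215121 = n166676 := d7_1 D215121 (iv6 D166676) (iv3 F262315)
theorem F478465 : act 0 n198422 = n215121 := d21_4 (iv5 D198424) (iv1 D109302) D109303 (iv6 F407977) (iv6 D215121) (iv5 D166674) D166671 F433473 F455787 (iv1 F455784)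
def n215122 : Q := act 0 n166676
theorem D215122 : act 0 n166676 = n215122 := rfl
def n215123 : Q := act 1 n166676
theorem D215123 : act 1 n166676 = n215123 := rfl
theorem F478466 : act 1 n215123 = n214704 := d15_1 D215123 (iv7 D214704) (iv2 F262320)
theorem F478467 : act 4 n215123 = n214733 := d18_7 F430389 F367340 D186589 (iv4 F368517) F368514 F262385 D215123 F477961 F477957
theorem F478468 : act 7 n214702 = n215123 := d11_0 F478467 F476584 (iv4 F476452)
theorem F478469 : act 2 n214702 = n215122 := d15_3 (iv0 D215122) D215123 (iv7 F478468)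
theorem F478470 : act 4 n215122 = n214732 := d1_2 (iv4 F476452) F478469 (iv2 F476583)
theorem F478471 : act 7 n214703 = n215122 := d15_2 (iv0 D214702) D214703 (iv2 F478469)
theorem F478472 : act 2 n215123 = n214703 := d4_3 F478471 (iv2 F478469) F478468
theorem F478473 : act 1 n214704 = n215122 := d15_1 F478466 (iv7 F478471) (iv2 F478472)
def n215124 : Q := act 7 n166676
theorem D215124 : act 7 n166676 = n215124 := rfl
theorem F478474 : act 2 n215124 = n214704 := d4_1 D215124 (iv7 D214704) (iv2 F262320)
theorem F478475 : act 4 n215124 = n190151 := d11_1 D215124 F378993 F262385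
theorem F478476 : act 5 n215124 = n194054 := d13_1 D215124 (iv7 F474714) F474713
theorem F478477 : act 6 n215124 = n214734 := d14_1 D215124 (iv7 D214734) (iv6 D160869) (iv7 F122784) D166676
theorem F478478 : act 1 n214703 = n215124 := d15_1 D214703 (iv7 D215124) F262320
theorem F478479 : act 1 n215124 = n214702 := d15_1 F478478 F478468 F478472
def n215125 : Q := act 1 n166683
theorem D215125 : act 1 n166683 = n215125 := rfl
theorem F478480 : act 1 n215125 = n214734 := d15_1 D215125 (iv7 D214734) (iv2 F262338)
theorem F478481 : act 7 n215125 = n214732 := d15_2 F467453 D215125 (iv2 F476583)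
theorem F478482 : act 5 n215125 = n213575 := d17_7 D154358 (iv5 F372803) F372805 (iv5 D186928) D186927 (iv5 F368534) D215125 (iv0 D213575) (iv4 D154361)
theorem F478483 : act 2 n214733 = n215125 := d2_3 F478482 (iv2 F471112) (iv5 F476585)
theorem F478484 : act 4 n214703 = n215125 := d18_3 (iv1 F381552) (iv4 F478475) (iv1 F478478) F478482 F471111 F431114 (iv4 D190138) (iv0 F366341) D190915
def n215126 : Q := act 1 n166694
theorem D215126 : act 1 n166694 = n215126 := rfl
theorem F478485 : act 1 n215126 = n214301 := d15_1 D215126 (iv7 D214301) (iv2 F262367)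
theorem F478486 : act 7 n215126 = n214299 := d15_2 (iv0 F391528) D215126 (iv2 F474452)
theorem F478487 : act 6 n187323 = n215126 := d21_3 F476481 (iv1 D194496) (iv5 F369837) (iv1 D215126) (iv6 D166694) (iv5 D80005) (iv1 F57229) D77066 D160679 D214711
theorem F478488 : act 3 n215126 = n187324 := d7_1 F478487 (iv6 D187324) D187323
theorem F478489 : act 2 n214300 = n215126 := d4_3 F478486 (iv2 F474452) (iv7 F474454)
theorem F478490 : act 5 n211962 = n215126 := d13_3 F478486 F474450 (iv7 F463757)
def n215127 : Q := act 7 n166694
theorem D215127 : act 7 n166694 = n215127 := rfl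
theorem F478491 : act 2 n215127 = n214301 := d4_1 D215127 (iv7 D214301) (iv2 F262367)
theorem F478492 : act 3 n215127 = n210455 := d8_1 D215127 F457611 (iv3 F379156)
theorem F478493 : act 4 n215127 = n215027 := d11_1 D215127 F477959 (iv4 F262368)
theorem F478494 : act 5 n215127 = n210454 := d13_1 D215127 F457606 (iv5 F393912)
theorem F478495 : act 6 n215127 = n190920 := d14_1 D215127 F381551 (iv6 D160888) (iv7 F122803) D166694
theorem F478496 : act 1 n214300 = n215127 := d15_1 D214300 (iv7 D215127) F262367
theorem F478497 : act 1 n215127 = n214299 := d15_1 F478496 (iv7 F478486) (iv2 F478489)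
def n215128 : Q := act 4 n166695
theorem D215128 : act 4 n166695 = n215128 := rfl
theorem F478498 : act 2 n215128 = n173857 := d1_1 D215128 (iv4 D173857) (iv2 F262369)
theorem F478499 : act 3 n215128 = n171133 := d5_1 D215128 (iv4 F334426) (iv3 F364531) F339855 F363693
theorem F478500 : act 5 n215128 = n171131 := d9_2 D166695 D215128 F310301 F128126 F59138 (iv5 F59144) (iv4 F128174) (iv5 F272502) (iv4 F394126) (iv5 D194694) F310298 (iv5 D83091) F59120 D38246 (iv4 F122808)
theorem F478501 : act 6 n215128 = n210395 := d10_2 F393909 D215128 F457382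
theorem F478502 : act 7 n215128 = n173813 := d11_2 F326157 D215128 (iv4 F326156)
def n215129 : Q := act 0 n166699
theorem D215129 : act 0 n166699 = n215129 := rfl
theorem F478503 : act 5 n215129 = n176707 := d17_1 D215129 (iv1 F328210) (iv5 F381408) (iv4 F476122) F476121 F253403 D203689 (iv0 F433294) F433295
theorem F478504 : act 4 n215129 = n214644 := d18_3 (iv1 F433306) F433295 D215129 (iv5 D214644) (iv4 F257990) (iv0 F358048) F358047 (iv0 D160415) D160418
theorem F478505 : act 1 n214296 = n215129 := d15_0 (iv0 D215129) F262381 (iv2 F474437)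
theorem F478506 : act 2 n214298 = n215129 := d1_3 F478504 F476194 (iv4 F474448)
theorem F478507 : act 7 n214297 = n215129 := d11_0 F478504 F476197 (iv4 F474441)
def n215130 : Q := act 1 n166699
theorem D215130 : act 1 n166699 = n215130 := rfl
theorem F478508 : act 1 n215130 = n214296 := d15_1 D215130 F474440 F379000
theorem F478509 : act 7 n215130 = n214298 := d15_2 (iv0 D215129) D215130 F478506
theorem F478510 : act 5 n215130 = n176708 := d17_7 F327730 D176731 (iv1 F348781) F293604 (iv4 F122811) D166699 D215130 (iv0 F328209) (iv4 F173515)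
theorem F478511 : act 4 n215130 = n199416 := d17_9 (iv1 F441643) (iv5 D206626) (iv1 F341838) D197909 F406177 F381404 F362516 D166699 D215130
theorem F478512 : act 2 n214297 = n215130 := d1_3 F478511 (iv2 F433447) (iv4 F474441)
theorem F478513 : act 6 n190884 = n215130 := d21_5 F147364 F291205 (iv5 F291778) D97008 D190884 F478510 (iv1 D176708) (iv5 F326724) (iv6 D95677) D95674
theorem F478514 : act 2 n190188 = n190884 := d3_3 F478513 (iv2 F478512) (iv6 F474444)
theorem F478515 : act 7 n190189 = n190884 := d14_0 F478513 F478509 (iv6 F474449) (iv7 F476170) F476169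
theorem F478516 : act 2 n190189 = n190885 := d15_3 F381446 F381450 (iv7 F478515)
theorem F478517 : act 7 n190885 = n190188 := d4_2 (iv7 F478515) F478516 F478514
def n215131 : Q := act 1 n166701
theorem D215131 : act 1 n166701 = n215131 := rfl
theorem F478518 : act 1 n215131 = n190920 := d15_1 D215131 F381551 (iv2 F262384)
theorem F478519 : act 7 n215131 = n190915 := d15_2 (iv0 F365879) D215131 F381538
theorem F478520 : act 4 n215131 = n215126 := d18_7 (iv1 D194639) (iv4 F393903) F393906 (iv4 F474712) F474713 (iv4 F262385) D215131 F478485 F474460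
theorem F478521 : act 5 n215131 = n190848 := d18_9 (iv1 D190848) D190850 F381327 (iv4 F367871) (iv5 F476581) (iv4 F478470) (iv0 D215122) (iv4 F262385) D215131
theorem F478522 : act 2 n190922 = n215131 := d2_3 F478521 F381317 (iv5 F381556)
theorem F478523 : act 3 n214557 = n215131 := d6_3 F478521 (iv3 F381316) (iv5 F475777)
def n215132 : Q := act 1 n166704
theorem D215132 : act 1 n166704 = n215132 := rfl
theorem F478524 : act 1 n215132 = n214258 := d15_1 D215132 F474269 F268476
theorem F478525 : act 7 n215132 = n214735 := d15_2 (iv0 F362541) D215132 F476593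
theorem F478526 : act 4 n197784 = n215132 := d20_0 (iv1 D215132) F262393 F281433 (iv1 D180796) F327438 (iv4 F168462) (iv1 F168465) F98658 (iv3 F168595) D197784
theorem F478527 : act 6 n194858 = n215132 := d21_3 F459628 (iv1 F476495) F476493 (iv1 D215132) (iv6 F455376) F455373 (iv1 F391455) (iv5 F394663) (iv6 D194834) D194831
theorem F478528 : act 2 n215132 = n194859 := d3_1 F478527 (iv6 D194859) D194858
def n215133 : Q := act 5 n166704
theorem D215133 : act 5 n166704 = n215133 := rfl
theorem F478529 : act 3 n215133 = n166705 := d6_1 D215133 (iv5 D166705) D166704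
theorem F478530 : act 7 n215133 = n214736 := d13_2 (iv7 F262392) D215133 (iv5 D214736)
def n215134 : Q := act 4 n166705
theorem D215134 : act 4 n166705 = n215134 := rfl
theorem F478531 : act 2 n215134 = n214740 := d1_1 D215134 (iv4 D214740) (iv2 F262398)
theorem F478532 : act 6 n215134 = n187218 := d10_2 F393934 D215134 (iv4 F393933)
theorem F478533 : act 7 n215134 = n214737 := d11_2 (iv7 F262399) D215134 (iv4 D214737)
theorem F478534 : act 5 n215134 = n185610 := d16_1 D215134 F358961 (iv5 D163458) (iv4 F141802) F250804 F122822 D166708 F262407 (iv2 F262398)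
def n215135 : Q := act 5 n166707
theorem D215135 : act 5 n166707 = n215135 := rfl
theorem F478535 : act 3 n215135 = n166708 := d6_1 D215135 (iv5 D166708) D166707
theorem F478536 : act 6 n215135 = n190936 := d12_2 (iv6 F364247) D215135 F381608 (iv6 D189853) F318883
theorem F478537 : act 7 n215135 = n214739 := d13_2 (iv7 F262405) D215135 (iv5 D214739)
theorem F478538 : act 4 n215135 = n214642 := d16_6 D197941 (iv5 F409008) (iv4 F476327) (iv5 D214671) (iv4 F262404) D215135 F476184 (iv7 F406248) (iv2 D197940)
theorem F478539 : act 0 n198485 = n215135 := d21_1 D198485 (iv5 D215135) F364247 (iv1 F174288) (iv6 F174560) (iv5 F361869) (iv1 F361871) (iv5 F347155) D198432 F474550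
def n215136 : Q := act 4 n166708
theorem D215136 : act 4 n166708 = n215136 := rfl
theorem F478540 : act 2 n215136 = n214737 := d1_1 D215136 (iv4 D214737) (iv2 F262406)
theorem F478541 : act 5 n215136 = n185609 := d9_2 D166708 D215136 F370194 (iv5 D163455) D163454 F257740 F122821 D166705 D215134 F478534 F358961 (iv5 D163458) (iv4 F141802) F250804 F122822
theorem F478542 : act 6 n215136 = n190249 := d10_2 (iv6 F361123) D215136 F379190
theorem F478543 : act 7 n215136 = n214740 := d11_2 (iv7 F262407) D215136 (iv4 D214740)
def n215137 : Q := act 6 n166710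
theorem D215137 : act 6 n166710 = n215137 := rfl
theorem F478544 : act 2 n215137 = n166712 := d3_1 D215137 (iv6 D166712) (iv2 F262412)
theorem F478545 : act 4 n215137 = n187261 := d10_1 D215137 (iv6 F369880) F369878
theorem F478546 : act 7 n215137 = n187258 := d14_2 (iv7 F262413) D215137 (iv6 D187258) (iv7 F138056) F348738
def n215138 : Q := act 0 n166712
theorem D215138 : act 0 n166712 = n215138 := rfl
theorem F478547 : act 5 n215138 = n190199 := d21_0 (iv1 F381367) F381364 F369546 (iv1 F149724) (iv6 F361123) (iv5 D166708) (iv1 D80011) D80013 D166712 D215138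
theorem F478548 : act 1 n187258 = n215138 := d15_0 (iv0 D215138) (iv7 F369892) F369889
theorem F478549 : act 4 n215138 = n194651 := d18_7 (iv1 F393381) D194649 (iv1 F393950) F362352 F158977 (iv4 F369649) F478548 F394971 F394968
def n215139 : Q := act 1 n166712
theorem D215139 : act 1 n166712 = n215139 := rfl
theorem F478550 : act 1 n215139 = n187258 := d15_1 D215139 (iv7 F478546) F478544
theorem F478551 : act 4 n215139 = n194650 := d18_7 D103911 D194645 F393928 (iv4 F362350) (iv5 F369897) F369896 D215139 (iv0 D194650) (iv5 D103913)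
theorem F478552 : act 5 n190200 = n215139 := d21_0 (iv1 D215139) (iv5 F476976) (iv6 D214814) F378967 (iv6 D190143) (iv5 D95661) (iv1 F71443) (iv5 F149584) D190862 (iv1 F381366)
theorem F478553 : act 6 n215139 = n194909 := d21_3 (iv5 F381364) (iv1 F381366) F478552 (iv1 F394970) F393955 F369689 (iv1 F370195) (iv5 F476608) (iv6 F476610) (iv1 F369754)
def n215140 : Q := act 2 n166713
theorem D215140 : act 2 n166713 = n215140 := rfl
theorem F478554 : act 7 n166714 = n215140 := d15_2 (iv0 D166713) D166714 (iv2 D215140)
def n215141 : Q := act 3 n166713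
theorem D215141 : act 3 n166713 = n215141 := rfl
def n215142 : Q := act 4 n166713
theorem D215142 : act 4 n166713 = n215142 := rfl
theorem F478555 : act 0 n174649 = n215142 := d20_10 (iv4 D215142) (iv1 F476648) F476644 F348744 (iv1 F149758) (iv3 F364878) F271779 D174588 F273442 (iv3 F273500)
theorem F478556 : act 3 n214209 = n215142 := d20_5 (iv4 D97076) (iv1 F76142) (iv4 F137915) D187268 (iv1 F474008) (iv4 D215142) (iv1 F476648) F476644 F348744 (iv1 F149758)
theorem F478557 : act 4 n215141 = n209302 := d5_4 D214209 F478556 (iv4 D215142) D215141 F453111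
theorem F478558 : act 5 n215142 = n174660 := d6_2 (iv5 F474005) F478556 F414080
def n215143 : Q := act 5 n166713
theorem D215143 : act 5 n166713 = n215143 := rfl
def n215144 : Q := act 6 n166713
theorem D215144 : act 6 n166713 = n215144 := rfl
def n215145 : Q := act 7 n166713
theorem D215145 : act 7 n166713 = n215145 := rfl
theorem F478559 : act 2 n215145 = n166714 := d4_1 D215145 F478554 (iv2 D215140)
def n215146 : Q := act 3 n166714
theorem D215146 : act 3 n166714 = n215146 := rfl
def n215147 : Q := act 5 n166714
theorem D215147 : act 5 n166714 = n215147 := rfl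
theorem F478560 : act 0 n215147 = n190137 := d17_2 (iv1 F476647) D215147 F378954 (iv4 F381987) (iv5 F394658) F394660 F476487 F476484 (iv4 F476644)
def n215148 : Q := act 6 n166714
theorem D215148 : act 6 n166714 = n215148 := rfl
theorem F478561 : act 4 n215148 = n213576 := d10_1 D215148 F471116 F463198
theorem F478562 : act 3 n215148 = n194420 := d19_3 F361978 D213576 (iv4 F478561) (iv1 F415960) (iv5 D200314) F175937 F166347 (iv1 F167353) (iv5 F334103) (iv4 D148265) (iv3 F326244) F242062 F242061 (iv4 F209982) F238916 (iv1 D151938) (iv5 F230855) F230854 (iv3 F234655)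
theorem F478563 : act 6 n194420 = n215146 := d7_2 D215148 F478562 (iv3 D215146)
theorem F478564 : act 5 n215146 = n187219 := d12_1 F478563 F393941 (iv5 F440234) F462923 F462925
theorem F478565 : act 0 n214814 = n215146 := d21_4 F147380 F344666 D162667 D214814 (iv6 F478563) (iv5 F462925) (iv1 D211745) D211747 F462935 (iv1 D190196)
theorem F478566 : act 3 n187219 = n215147 := d6_1 F478564 (iv5 D215147) D215146
def n215149 : Q := act 5 n166718
theorem D215149 : act 5 n166718 = n215149 := rfl
theorem F478567 : act 3 n215149 = n166719 := d6_1 D215149 (iv5 D166719) D166718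
theorem F478568 : act 4 n215149 = n197922 := d9_1 D215149 (iv5 D197922) F354465 (iv5 F211648) (iv4 F382580) F382582 (iv4 F382077) F382078 (iv4 F406205) (iv5 D197923) (iv4 F354392) (iv5 F211641) (iv4 F394779) (iv5 D194860) F361135
theorem F478569 : act 6 n215149 = n194360 := d12_2 (iv6 F358425) D215149 (iv5 D194360) D194361 F392936
theorem F478570 : act 7 n215149 = n191013 := d13_2 (iv7 F262428) D215149 F381875
theorem F478571 : act 0 n215149 = n194763 := d17_2 F358442 D215149 F394376 (iv4 D176730) D176731 F348785 (iv5 D158059) (iv0 F358089) F358091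
def n215150 : Q := act 6 n166740
theorem D215150 : act 6 n166740 = n215150 := rfl
theorem F478572 : act 2 n215150 = n174065 := d3_1 D215150 (iv6 D174065) (iv2 F330839)
theorem F478573 : act 3 n215150 = n200178 := d7_1 D215150 F447281 (iv3 F447279)
theorem F478574 : act 4 n215150 = n196482 := d10_1 D215150 (iv6 D196482) F333006
theorem F478575 : act 5 n215150 = n174504 := d12_1 D215150 (iv6 D174504) F128510 (iv6 F127686) (iv5 F330840)
theorem F478576 : act 7 n215150 = n173242 := d14_2 (iv7 F330841) D215150 (iv6 D173242) (iv7 D82904) (iv6 F127683)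
theorem F478577 : act 0 n215150 = n174160 := d21_4 (iv5 D83206) (iv1 F127689) (iv5 F330840) D215150 (iv6 F428470) (iv5 D203478) (iv1 F384261) (iv5 F434738) F434739 (iv1 D174038)
theorem F478578 : act 0 n174159 = n215150 := d21_4 (iv5 D137306) D137304 D210034 F455851 (iv6 D215150) F330840 (iv1 F127688) D83211 D174051 F352289
def n215151 : Q := act 1 n166778
theorem D215151 : act 1 n166778 = n215151 := rfl
theorem F478579 : act 1 n215151 = n206509 := d15_1 D215151 F441139 F358985
theorem F478580 : act 7 n215151 = n209076 := d15_2 F449767 D215151 (iv2 F452137)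
theorem F478581 : act 4 n200069 = n215151 := d20_0 (iv1 D215151) F262509 (iv3 D80060) (iv1 F122847) F334290 D130326 (iv1 F392215) (iv4 F414925) F414924 F414889
theorem F478582 : act 3 n196250 = n215151 := d20_3 (iv4 F95273) D129065 (iv4 F400050) (iv1 D215151) (iv3 D166778) (iv4 D80057) D80054 F140954 F341816 (iv1 D60678)
theorem F478583 : act 6 n200068 = n215151 := d21_3 (iv5 F455521) F455522 F435332 (iv1 D215151) F358984 (iv5 F358981) F383855 (iv5 D180672) D180673 F413273
def n215152 : Q := act 4 n167086
theorem D215152 : act 4 n167086 = n215152 := rfl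
theorem F478584 : act 2 n215152 = n173365 := d1_1 D215152 (iv4 D173365) (iv2 F263170)
theorem F478585 : act 3 n215152 = n211651 := d5_1 D215152 F462513 F309024 F320664 (iv3 F263171)
theorem F478586 : act 6 n215152 = n167095 := d10_2 (iv6 F263172) D215152 (iv4 D167095)
theorem F478587 : act 7 n215152 = n213775 := d11_2 F366505 D215152 (iv4 D213775)
theorem F478588 : act 5 n215152 = n211650 := d18_4 F455907 F455904 F383287 D215152 (iv4 F462510) (iv0 D191457) (iv4 F368881) (iv0 F456993) (iv5 D210317)
theorem F478589 : act 0 n215152 = n214441 := d20_1 D215152 F475195 (iv3 D174447) (iv1 F273271) F331737 (iv4 F331739) D195493 F397135 (iv3 F383285) F383287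
theorem F478590 : act 0 n188802 = n211650 := d17_2 F418860 F418859 (iv5 F478588) (iv4 D215152) (iv5 D167086) (iv0 F337522) F337526 (iv0 D176125) (iv4 F275380)
theorem F478591 : act 0 n203082 = n182211 := d20_4 (iv4 F374949) F478590 (iv4 F462510) (iv3 F462511) (iv3 D182211) F133509 (iv1 F133542) D182225 F390984 (iv1 D193777)
def n215153 : Q := act 1 n167235
theorem D215153 : act 1 n167235 = n215153 := rfl
theorem F478592 : act 1 n215153 = n214777 := d15_1 D215153 F476797 F278128
theorem F478593 : act 7 n215153 = n214778 := d15_2 (iv0 F460130) D215153 (iv2 F476802)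
theorem F478594 : act 4 n215153 = n203529 := d17_9 (iv1 D203529) (iv5 D119420) D119418 (iv5 F333407) (iv4 F223502) D210946 (iv0 F459417) F350962 D215153
theorem F478595 : act 2 n214137 = n215153 := d1_3 F478594 (iv2 F428739) (iv4 F473653)
theorem F478596 : act 3 n212152 = n215153 := d20_5 (iv4 F464547) (iv1 D212158) (iv4 D145398) (iv3 F228428) D212152 F478594 (iv1 D203529) (iv4 F402605) F402602 (iv1 F402580)
theorem F478597 : act 6 n215153 = n214136 := d3_2 D214137 F478595 (iv2 D214136)
def n215154 : Q := act 4 n167342
theorem D215154 : act 4 n167342 = n215154 := rfl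
theorem F478598 : act 2 n215154 = n167349 := d1_1 D215154 (iv4 D167349) (iv2 F263476)
theorem F478599 : act 6 n215154 = n206715 := d10_2 F358026 D215154 F444236
theorem F478600 : act 0 n215154 = n206733 := d18_2 F350897 D215154 F441999 (iv5 F428795) F428792 F238923 (iv4 F344119) F344116 F350895
theorem F478601 : act 1 n215154 = n206741 := d18_6 (iv1 F249653) F302949 (iv1 F300254) (iv4 F303002) D167342 D215154 F442016 F351666 (iv5 D158464)
def n215155 : Q := act 4 n167347
theorem D215155 : act 4 n167347 = n215155 := rfl
theorem F478602 : act 2 n215155 = n206806 := d1_1 D215155 F442255 F350905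
theorem F478603 : act 3 n215155 = n213073 := d5_1 D215155 (iv4 D213073) (iv3 F371357) F371355 F350912
theorem F478604 : act 6 n215155 = n205460 := d10_2 (iv6 F350907) D215155 (iv4 D205460)
theorem F478605 : act 7 n215155 = n206753 := d11_2 (iv7 F350908) D215155 F442058
theorem F478606 : act 0 n215155 = n214340 := d18_2 D167347 D215155 (iv4 D214340) (iv5 D158464) (iv4 F344382) F278620 F309311 (iv0 F312087) D80313
theorem F478607 : act 1 n215155 = n214341 := d18_6 F233103 (iv4 D131392) (iv1 F318852) (iv4 F346977) (iv5 F350906) D215155 (iv4 D214341) (iv0 F351665) (iv5 F351664)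
def n215156 : Q := act 0 n167349
theorem D215156 : act 0 n167349 = n215156 := rfl
theorem F478608 : act 4 n215156 = n213147 := d18_3 F337666 D167349 D215156 F469202 F444770 F312452 (iv4 F303286) (iv0 F316719) D131389
theorem F478609 : act 5 n215156 = n212777 := d19_1 D215156 (iv4 D212777) (iv3 F467451) F476589 F476588 (iv4 D186929) (iv3 F368298) F353699 F136964 (iv4 F285701) (iv3 F449656) F449659 (iv5 D134983) F98769 F79255 F101897 D62484 D133172 (iv3 F366840)
theorem F478610 : act 2 n206733 = n215156 := d15_3 (iv0 D215156) F464202 F443151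
theorem F478611 : act 6 n215156 = n205461 := d3_2 D206733 F478610 (iv2 F436546)
theorem F478612 : act 7 n215156 = n206741 := d4_2 F443151 F478610 (iv2 F443150)
theorem F478613 : act 0 n207131 = n212777 := d21_1 D207131 (iv5 F478609) F478611 (iv1 F436545) (iv6 D129146) D129145 (iv1 F212474) F212476 D132659 F347022
def n215157 : Q := act 5 n167349
theorem D215157 : act 5 n167349 = n215157 := rfl
theorem F478614 : act 3 n215157 = n206956 := d6_1 D215157 F442737 (iv3 F366840)
theorem F478615 : act 0 n215157 = n206960 := d17_2 (iv1 F464202) D215157 (iv5 D206960) (iv4 F366307) (iv5 D158448) D158447 D214339 F474652 (iv4 F464201)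
theorem F478616 : act 1 n215157 = n207028 := d17_6 (iv1 F326063) (iv5 F322468) (iv1 F312088) D80313 D167349 D215157 (iv5 D207028) F442744 F442742
def n215158 : Q := act 3 n167442
theorem D215158 : act 3 n167442 = n215158 := rfl
theorem F478617 : act 2 n215158 = n204008 := d0_1 D215158 (iv3 D204008) F195853 (iv3 F384374) (iv2 F263581)
theorem F478618 : act 4 n215158 = n204428 := d5_2 D167442 D215158 (iv3 F432505) (iv4 D191445) F308588
theorem F478619 : act 5 n215158 = n192297 := d6_2 F383252 D215158 F387148
theorem F478620 : act 7 n215158 = n204015 := d8_2 (iv7 F263582) D215158 (iv3 D204015)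
theorem F478621 : act 0 n214109 = n215158 := d17_2 (iv1 F430816) (iv5 F473524) F478619 (iv4 D192297) (iv5 D100025) F277450 F151814 F195858 (iv4 F430814)
theorem F478622 : act 6 n204032 = n215158 := d3_0 F478617 F430809 D204032
def n215159 : Q := act 6 n167442
theorem D215159 : act 6 n167442 = n215159 := rfl
theorem F478623 : act 2 n215159 = n203990 := d3_1 D215159 F430728 (iv2 F263581)
theorem F478624 : act 3 n215159 = n204032 := d7_1 D215159 F478622 (iv3 D215158)
theorem F478625 : act 4 n215159 = n167443 := d10_1 D215159 (iv6 D167443) D167442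
theorem F478626 : act 0 n204144 = n215159 := d21_4 F432530 F430841 F430839 F449145 (iv6 D215159) (iv5 F383252) (iv1 D191374) (iv5 F366890) (iv6 F198266) D204437
theorem F478627 : act 7 n204146 = n215159 := d4_0 F478623 F430729 D204146
theorem F478628 : act 1 n204145 = n215159 := d15_1 D204145 (iv7 F478627) (iv2 D204146)
def n215160 : Q := act 0 n167443
theorem D215160 : act 0 n167443 = n215160 := rfl
theorem F478629 : act 4 n215160 = n210605 := d20_2 F478625 D215160 (iv3 D210605) F430844 (iv3 F449179) (iv4 D208395) F365659 (iv4 F430825) (iv3 F449146) F478626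
theorem F478630 : act 3 n210590 = n215160 := d5_5 F478629 (iv3 D210605) (iv4 D139428) (iv3 F222627) D210590
theorem F478631 : act 0 n215160 = n204014 := d20_7 (iv4 F195873) F131812 D98167 D191375 (iv1 F384763) D210605 (iv4 F478629) F430823 (iv3 D122745) (iv1 F304429)
def n215161 : Q := act 1 n167443
theorem D215161 : act 1 n167443 = n215161 := rfl
theorem F478632 : act 1 n215161 = n204014 := d15_1 D215161 (iv7 D204014) (iv2 F263583)
theorem F478633 : act 6 n204130 = n215161 := d21_3 F429527 (iv1 F445273) (iv5 F445276) (iv1 D215161) (iv6 D167443) (iv5 D80350) (iv1 F299877) D55413 (iv6 F191750) D203717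
theorem F478634 : act 2 n215161 = n204013 := d3_1 F478633 (iv6 F449356) F449355
theorem F478635 : act 7 n215160 = n204013 := d15_2 F478632 (iv0 F478631) (iv2 F478634)
theorem F478636 : act 2 n215160 = n204012 := d15_3 (iv0 D204012) D204013 (iv7 F478635)
theorem F478637 : act 7 n204012 = n215161 := d4_2 (iv7 F478635) F478636 F478634
def n215162 : Q := act 7 n167443
theorem D215162 : act 7 n167443 = n215162 := rfl
theorem F478638 : act 2 n215162 = n204014 := d4_1 D215162 (iv7 D204014) (iv2 F263583)
theorem F478639 : act 4 n215162 = n204146 := d11_1 D215162 F478627 F478625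
theorem F478640 : act 5 n215162 = n177982 := d13_1 D215162 (iv7 D177982) (iv5 F263584)
theorem F478641 : act 6 n215162 = n204017 := d14_1 D215162 (iv7 D204017) (iv6 D122424) (iv7 F123438) D167443
theorem F478642 : act 1 n204013 = n215162 := d15_1 D204013 (iv7 D215162) F263583
theorem F478643 : act 1 n215162 = n204012 := d15_1 F478642 F478637 F478634
def n215163 : Q := act 6 n167569
theorem D215163 : act 6 n167569 = n215163 := rfl
theorem F478644 : act 2 n215163 = n204873 := d3_1 D215163 (iv6 F433964) F342689
theorem F478645 : act 3 n215163 = n205005 := d7_1 D215163 (iv6 D205005) F352321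
theorem F478646 : act 4 n215163 = n212552 := d10_1 D215163 (iv6 F466390) (iv4 F342688)
theorem F478647 : act 5 n215163 = n206995 := d12_1 D215163 F442895 F219862 (iv6 F352327) F352326
theorem F478648 : act 7 n215163 = n204872 := d14_2 F342690 D215163 F433962 F383685 (iv6 F352333)
theorem F478649 : act 0 n215163 = n204874 := d21_4 (iv5 F344828) (iv1 F352324) F352326 D215163 F433970 F244467 F311778 (iv5 F298226) (iv6 F451233) (iv1 F451231)
theorem F478650 : act 0 n167576 = n215163 := d21_4 F465899 F420398 F359839 D167576 (iv6 D215163) (iv5 F352326) F352323 (iv5 F217455) D208884 (iv1 F465902)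
def n215164 : Q := act 6 n167574
theorem D215164 : act 6 n167574 = n215164 := rfl
theorem F478651 : act 2 n215164 = n212526 := d3_1 D215164 (iv6 D212526) (iv2 F352166)
theorem F478652 : act 3 n215164 = n180564 := d7_1 D215164 (iv6 D180564) (iv3 F352161)
theorem F478653 : act 4 n215164 = n167576 := d10_1 D215164 (iv6 D167576) D167574
theorem F478654 : act 5 n215164 = n174602 := d12_1 D215164 (iv6 F346560) F199129 (iv6 F132176) (iv5 F352162)
theorem F478655 : act 7 n215164 = n203164 := d14_2 (iv7 F352163) D215164 F427252 (iv7 D124665) (iv6 F132174)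
theorem F478656 : act 0 n215164 = n212529 := d21_4 (iv5 D197214) F319456 (iv5 F352162) D215164 F466278 (iv5 D173633) (iv1 D83043) D83045 D173640 F403575
theorem F478657 : act 0 n212527 = n215164 := d21_4 (iv5 D75537) D75535 D158384 (iv6 F466264) (iv6 D215164) F352162 (iv1 F319455) D110583 (iv6 F332205) (iv1 D158389)
def n215165 : Q := act 1 n167576
theorem D215165 : act 1 n167576 = n215165 := rfl
theorem F478658 : act 1 n215165 = n204874 := d15_1 D215165 F433971 F403236
theorem F478659 : act 7 n215165 = n204873 := d15_2 (iv0 F478650) D215165 (iv2 F478644)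
theorem F478660 : act 4 n215165 = n172847 := d17_9 F468943 F468942 (iv1 D162585) (iv5 D78073) (iv4 F119267) (iv5 F315273) (iv0 F374619) F374617 D215165
theorem F478661 : act 5 n215165 = n206999 := d18_9 (iv1 F442921) F475422 (iv1 D214490) F330898 D207958 (iv4 F466277) (iv0 F478656) F478653 D215165
theorem F478662 : act 3 n186839 = n215165 := d20_3 F442953 F353699 (iv4 F368207) (iv1 D215165) (iv3 F361188) F199216 F125645 D170483 (iv3 F447058) F447063
theorem F478663 : act 6 n172846 = n215165 := d21_3 D82451 D172170 F366900 (iv1 D215165) (iv6 D167576) (iv5 F359839) F409884 F409881 (iv6 D172169) (iv1 D82450)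
theorem F478664 : act 2 n215165 = n204872 := d3_1 F478663 F433962 F383684
def n215166 : Q := act 6 n167588
theorem D215166 : act 6 n167588 = n215166 := rfl
theorem F478665 : act 2 n215166 = n167590 := d3_1 D215166 (iv6 D167590) D167588
theorem F478666 : act 3 n215166 = n203296 := d7_1 D215166 (iv6 D203296) F317040
theorem F478667 : act 4 n215166 = n207999 := d10_1 D215166 (iv6 D207999) F312341
theorem F478668 : act 5 n215166 = n213661 := d12_1 D215166 (iv6 F471506) F434711 F361358 F348429
theorem F478669 : act 7 n215166 = n208545 := d14_2 (iv7 F348432) D215166 (iv6 D208545) F330197 (iv6 F342737)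
theorem F478670 : act 0 n215166 = n174454 := d21_4 D83355 D174379 F348429 D215166 F273322 F275812 (iv1 D176503) (iv5 D84158) (iv6 D38790) F155162
theorem F478671 : act 0 n174449 = n215166 := d21_4 D84212 F346765 D103202 (iv6 F358745) (iv6 D215166) (iv5 F348429) (iv1 F273224) (iv5 D84148) (iv6 F155179) F184759
def n215167 : Q := act 6 n167642
theorem D215167 : act 6 n167642 = n215167 := rfl
theorem F478672 : act 2 n215167 = n207449 := d3_1 D215167 (iv6 D207449) F359902
theorem F478673 : act 3 n215167 = n210848 := d7_1 D215167 F459004 F386537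
theorem F478674 : act 4 n215167 = n211983 := d10_1 D215167 F463826 F427726
theorem F478675 : act 7 n215167 = n211119 := d14_2 (iv7 F359903) D215167 (iv6 F460182) F359871 D170282
theorem F478676 : act 0 n215167 = n207429 := d21_4 F351468 (iv1 F351500) F351503 D215167 (iv6 D207429) F337051 F433911 (iv5 D204864) F364614 F272905
theorem F478677 : act 0 n210488 = n215167 := d21_4 D131362 (iv1 F354095) (iv5 F354091) (iv6 F457753) (iv6 D215167) (iv5 F351503) (iv1 D177199) (iv5 D84430) D84431 (iv1 F344134)
def n215168 : Q := act 1 n167709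
theorem D215168 : act 1 n167709 = n215168 := rfl
theorem F478678 : act 1 n215168 = n206638 := d15_1 D215168 F441695 F417603
theorem F478679 : act 7 n215168 = n206469 := d15_2 (iv0 F362186) D215168 F440974
theorem F478680 : act 5 n215168 = n200707 := d17_7 (iv1 F355904) (iv5 D126176) F95726 D59170 D126215 F362295 D215168 (iv0 F417583) F355905
theorem F478681 : act 4 n215168 = n194952 := d17_9 (iv1 F395611) (iv5 D117031) (iv1 F100371) (iv5 F220262) (iv4 F455427) F455428 (iv0 F435294) F362295 D215168
theorem F478682 : act 3 n194945 = n215168 := d19_19 (iv1 D215168) (iv5 F362295) (iv4 D126215) (iv3 F202970) F407405 (iv5 F435392) F435391 F393026 F478578 F478575 F401913 (iv3 F455735) F455733 D211534 F462019 F408840 (iv1 F393473) F393470 (iv4 F395129)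
theorem F478683 : act 6 n194943 = n215168 := d21_3 F415523 (iv1 F203080) F395120 (iv1 D215168) (iv6 F429995) (iv5 F435732) F435734 F418469 (iv6 F411039) D200210
theorem F478684 : act 2 n215168 = n206639 := d3_1 F478683 F441698 (iv2 F435673)
def n215169 : Q := act 0 n167722
theorem D215169 : act 0 n167722 = n215169 := rfl
theorem F478685 : act 4 n215169 = n204278 := d18_1 D215169 F431825 (iv4 F333030) (iv5 F362140) D200694 (iv0 F417527) (iv4 F431585) F431588 F417818
theorem F478686 : act 5 n215169 = n206624 := d19_1 D215169 F441631 F273802 (iv1 F128641) D174139 F272938 F337354 (iv1 D83291) D83293 F346350 F127677 D82901 F127711 F297020 (iv3 F57563) (iv1 F57565) D36698 D80486 D167722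
theorem F478687 : act 3 n215169 = n214338 := d20_5 (iv4 D162858) F119479 D80486 D167722 D215169 F474643 F333798 D162802 F257079 F302530
theorem F478688 : act 6 n215169 = n214337 := d21_5 (iv5 F437150) (iv1 F445038) (iv5 F452119) F452120 D215169 F474638 F436798 D215083 F478251 F413284
theorem F478689 : act 2 n214834 = n215169 := d15_3 (iv0 D215169) (iv0 F459509) (iv7 F477060)
theorem F478690 : act 1 n177457 = n215169 := d15_0 (iv0 D215169) (iv7 F464674) F464670
theorem F478691 : act 7 n215169 = n206623 := d15_2 (iv0 F459510) F478690 (iv2 F459505)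
def n215170 : Q := act 2 n167722
theorem D215170 : act 2 n167722 = n215170 := rfl
theorem F478692 : act 3 n215170 = n206638 := d0_2 D167722 D215170 (iv2 F441694) F417656 F326464
theorem F478693 : act 5 n215170 = n199628 := d2_2 F417818 D215170 F417822
theorem F478694 : act 7 n215170 = n177457 := d4_2 F464674 D215170 (iv2 F464670)
theorem F478695 : act 1 n215170 = n206623 := d15_0 (iv0 F464675) F464674 D215170
theorem F478696 : act 1 n214834 = n215170 := d15_0 F478695 (iv7 F478691) (iv2 F478689)
def n215171 : Q := act 4 n167762
theorem D215171 : act 4 n167762 = n215171 := rfl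
theorem F478697 : act 2 n215171 = n174678 := d1_1 D215171 F364236 F264120
theorem F478698 : act 5 n215171 = n211381 := d9_2 (iv5 F264116) D215171 (iv4 D211381) (iv5 D141912) (iv4 F322347) F322142 F268175 (iv5 F344685) (iv4 F378017) (iv5 F378965) (iv4 F378966) (iv5 D141907) (iv4 F322936) F322138 F314344
theorem F478699 : act 6 n215171 = n176711 := d10_2 (iv6 F348595) D215171 (iv4 F304018)
theorem F478700 : act 7 n215171 = n174679 := d11_2 F344690 D215171 F362491
theorem F478701 : act 0 n215171 = n173322 := d17_0 F381464 (iv1 D190890) F149622 F358725 (iv5 D72627) (iv0 F190176) (iv5 F344631) F344629 D215171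
theorem F478702 : act 1 n215171 = n174680 := d18_6 F330132 (iv4 F330125) (iv1 F314341) F314344 (iv5 F264116) D215171 (iv4 F323497) (iv0 F333979) F333981
theorem F478703 : act 3 n215171 = n198559 := d20_3 (iv4 D167764) D167762 D215171 (iv1 F414149) F414144 F408063 F415307 F415304 F364237 F354854
def n215172 : Q := act 2 n167768
theorem D215172 : act 2 n167768 = n215172 := rfl
theorem F478704 : act 3 n215172 = n170691 := d0_2 D167768 D215172 F340136 F321669 (iv2 F301015)
theorem F478705 : act 4 n215172 = n215053 := d1_2 F434000 D215172 F478100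
theorem F478706 : act 5 n215172 = n176480 := d2_2 (iv5 F303730) D215172 F275782
theorem F478707 : act 6 n215172 = n188499 := d3_2 (iv6 F334348) D215172 F373720
theorem F478708 : act 7 n215172 = n176479 := d4_2 (iv7 F303731) D215172 F275780
theorem F478709 : act 1 n215172 = n176502 := d15_0 (iv0 D176502) (iv7 F303731) D215172
theorem F478710 : act 1 n176503 = n215172 := d15_0 F478709 (iv7 F275817) (iv2 F275813)
def n215173 : Q := act 7 n167781
theorem D215173 : act 7 n167781 = n215173 := rfl
theorem F478711 : act 2 n215173 = n193502 := d4_1 D215173 (iv7 F390098) F342300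
theorem F478712 : act 3 n215173 = n193131 := d8_1 D215173 (iv7 F440140) F440137
theorem F478713 : act 4 n215173 = n213641 := d11_1 D215173 F471417 (iv4 F363865)
theorem F478714 : act 5 n215173 = n167782 := d13_1 D215173 (iv7 D167782) D167781
theorem F478715 : act 6 n215173 = n193130 := d14_1 D215173 F388846 F343450 (iv7 D167786) (iv6 F264149)
theorem F478716 : act 1 n192120 = n215173 := d15_1 (iv0 F385649) (iv7 D215173) (iv2 F342300)
theorem F478717 : act 1 n215173 = n193499 := d15_1 F478716 (iv7 F456984) (iv2 F456987)
def n215174 : Q := act 2 n167783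
theorem D215174 : act 2 n167783 = n215174 := rfl
theorem F478718 : act 3 n215174 = n203297 := d0_2 D167783 D215174 F427739 F327820 (iv2 F298791)
theorem F478719 : act 4 n215174 = n208000 := d1_2 (iv4 F264150) D215174 F447363
theorem F478720 : act 5 n215174 = n193586 := d2_2 F339823 D215174 (iv2 D193586)
theorem F478721 : act 6 n215174 = n208542 := d3_2 F298789 D215174 F449795
theorem F478722 : act 7 n215174 = n194315 := d4_2 F365700 D215174 (iv2 F392797)
theorem F478723 : act 1 n215174 = n194317 := d15_0 (iv0 F392811) F365700 D215174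
theorem F478724 : act 1 n194245 = n215174 := d15_0 F478723 (iv7 D194317) (iv2 F392474)
def n215175 : Q := act 4 n169816
theorem D215175 : act 4 n169816 = n215175 := rfl
theorem F478725 : act 2 n215175 = n169826 := d1_1 D215175 (iv4 D169826) (iv2 F267250)
theorem F478726 : act 5 n215175 = n211934 := d9_2 D169816 D215175 F463641 F386268 (iv4 F392676) F392675 F187458 (iv5 F308556) (iv4 F236059) (iv5 F390574) (iv4 D193654) F157060 (iv4 F381780) F381781 F187164
theorem F478727 : act 6 n215175 = n202693 := d10_2 F340763 D215175 (iv4 D202693)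
theorem F478728 : act 7 n215175 = n203173 := d11_2 F340766 D215175 F427302
theorem F478729 : act 0 n215175 = n209323 := d18_2 (iv1 F360582) D215175 F453224 (iv5 F228113) (iv4 F392687) (iv0 F392688) F425464 (iv0 F425463) (iv5 F360581)
theorem F478730 : act 1 n215175 = n211272 := d18_6 D68100 (iv4 F307995) (iv1 F343986) F187164 D169816 D215175 F460889 F359897 F104153
def n215176 : Q := act 6 n169824
theorem D215176 : act 6 n169824 = n215176 := rfl
theorem F478731 : act 2 n215176 = n211157 := d3_1 D215176 F466510 F466511
theorem F478732 : act 3 n215176 = n210429 := d7_1 D215176 F457483 F366807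
theorem F478733 : act 4 n215176 = n195415 := d10_1 D215176 F464167 F464165
theorem F478734 : act 7 n215176 = n210489 := d14_2 (iv7 F366806) D215176 (iv6 D210489) F338986 D143546
theorem F478735 : act 0 n215176 = n204950 := d21_4 F425454 F458792 F458789 D215176 F434313 (iv5 D124817) D124815 F241307 D153561 F425457
theorem F478736 : act 0 n210465 = n215176 := d21_4 (iv5 D201519) (iv1 F393653) F393651 D210465 (iv6 D215176) (iv5 F458789) F468528 F468526 F425467 (iv1 F420840)
def n215177 : Q := act 6 n169876
theorem D215177 : act 6 n169876 = n215177 := rfl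
theorem F478737 : act 2 n215177 = n214611 := d3_1 D215177 (iv6 F476038) F381064
theorem F478738 : act 3 n215177 = n198675 := d7_1 D215177 F408833 (iv3 F394633)
theorem F478739 : act 4 n215177 = n200595 := d10_1 D215177 F417120 (iv4 F350059)
theorem F478740 : act 5 n215177 = n209258 := d12_1 D215177 (iv6 F471761) F471760 F312876 D169876
theorem F478741 : act 7 n215177 = n200593 := d14_2 F381079 D215177 (iv6 D200593) (iv7 F395567) F395566
theorem F478742 : act 0 n206621 = n215177 := d21_4 (iv5 D128362) F314325 (iv5 F208891) D206621 (iv6 D215177) (iv5 D169876) (iv1 F350080) F383310 F404461 F404460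
theorem F478743 : act 1 n214612 = n215177 := d15_0 (iv0 F478742) F441620 D214612
def n215178 : Q := act 4 n169910
theorem D215178 : act 4 n169910 = n215178 := rfl
theorem F478744 : act 2 n215178 = n214295 := d1_1 D215178 F474435 F383833
theorem F478745 : act 3 n215178 = n214735 := d5_1 D215178 (iv4 F476591) F413237 F365754 (iv3 F365755)
theorem F478746 : act 1 n215178 = n214707 := d18_6 D144778 (iv4 F396124) (iv1 F176945) (iv4 F402717) F402718 D215178 F476466 (iv0 D212003) (iv5 D144780)
def n215179 : Q := act 5 n169917
theorem D215179 : act 5 n169917 = n215179 := rfl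
theorem F478747 : act 2 n215179 = n209132 := d2_1 D215179 F452407 F377825
theorem F478748 : act 3 n215179 = n206491 := d6_1 D215179 F441062 F436788
theorem F478749 : act 6 n215179 = n206490 := d12_2 (iv6 F377826) D215179 F441057 F337371 F326483
theorem F478750 : act 7 n215179 = n200627 := d13_2 (iv7 F377824) D215179 (iv5 F417276)
theorem F478751 : act 0 n215179 = n169936 := d17_2 (iv1 F377827) D215179 F267356 (iv4 F193370) (iv5 F253465) (iv0 F476152) (iv5 D214635) F253425 (iv4 F377819)
theorem F478752 : act 1 n215179 = n212005 := d17_8 F451650 F418656 F399600 (iv5 F397997) F397996 (iv5 D169919) D169917 D215179 F463889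
theorem F478753 : act 4 n207350 = n215179 := d18_7 (iv1 F380467) F418204 (iv1 D200865) F176734 D113592 F332784 (iv0 F444471) F478752 F463890
def n215180 : Q := act 0 n169919
theorem D215180 : act 0 n169919 = n215180 := rfl
theorem F478754 : act 5 n215180 = n189798 := d17_3 (iv1 D169917) D169919 D215180 (iv4 F477564) (iv5 F477569) (iv0 D199752) (iv5 D111661) D111660 (iv4 F377828)
theorem F478755 : act 4 n215180 = n188765 := d18_1 D215180 (iv1 F422229) (iv4 F422231) (iv5 F474219) F474218 F413324 F364838 (iv0 F248748) D169919
theorem F478756 : act 3 n215180 = n205057 := d20_5 F112730 (iv1 F70885) (iv4 F125358) (iv3 F267341) D215180 F434810 F388694 (iv4 D157803) F112728 D75185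
theorem F478757 : act 6 n188764 = n215180 := d7_0 F478756 F434811 (iv3 F384003)
def n215181 : Q := act 2 n169936
theorem D215181 : act 2 n169936 = n215181 := rfl
theorem F478758 : act 3 n215181 = n200147 := d0_2 D169936 D215181 F415236 F364803 F146894
theorem F478759 : act 5 n215181 = n190656 := d2_2 (iv5 F267356) D215181 (iv2 D190656)
theorem F478760 : act 7 n215181 = n212005 := d4_2 F377800 D215181 F463888
theorem F478761 : act 1 n215181 = n209132 := d15_0 (iv0 F452409) F377800 D215181
theorem F478762 : act 1 n200627 = n215181 := d15_0 F478761 F452408 F417710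
theorem F478763 : act 6 n215181 = n206576 := d21_5 (iv5 D78561) D78559 (iv5 F333449) D209132 (iv1 F478761) (iv5 D206576) (iv1 F368093) (iv5 F368095) (iv6 D135832) F330407
def n215182 : Q := act 6 n169936
theorem D215182 : act 6 n169936 = n215182 := rfl
theorem F478764 : act 2 n215182 = n206576 := d3_1 D215182 (iv6 F478763) (iv2 D215181)
theorem F478765 : act 3 n215182 = n169937 := d7_1 D215182 (iv6 D169937) D169936
theorem F478766 : act 4 n215182 = n190524 := d10_1 D215182 F379991 (iv4 F379800)
theorem F478767 : act 5 n215182 = n186811 := d12_1 D215182 (iv6 F398180) F398169 F366015 (iv5 F267356)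
theorem F478768 : act 7 n215182 = n206616 := d14_2 F377800 D215182 F441591 F421369 (iv6 F398356)
theorem F478769 : act 1 n190533 = n215182 := d15_1 (iv0 F421373) F478768 F441588
def n215183 : Q := act 0 n170230
theorem D215183 : act 0 n170230 = n215183 := rfl
theorem F478770 : act 5 n215183 = n177389 := d19_1 D215183 F276772 F198772 (iv1 F121570) (iv5 F341298) (iv4 F171186) F171185 F166125 F166122 (iv4 F321022) F53192 D35484 F300393 F57451 F56786 (iv1 F33944) D37313 D81639 D170230
theorem F478771 : act 3 n215183 = n177345 := d20_5 F170871 (iv1 F325930) D81639 D170230 D215183 F402097 F433689 F433684 (iv3 D162898) (iv1 F325933)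
theorem F478772 : act 6 n215183 = n206078 := d21_5 F207160 D132265 (iv5 F211922) (iv6 F345575) D215183 F439154 (iv1 D193368) (iv5 F361242) (iv6 D129013) (iv1 F208791)
theorem F478773 : act 2 n206622 = n215183 := d15_3 (iv0 D215183) (iv0 F412413) F441623
theorem F478774 : act 1 n206624 = n215183 := d15_0 (iv0 D215183) (iv7 F345580) (iv2 F441629)
theorem F478775 : act 7 n215183 = n205219 := d15_2 F441633 F478774 F435479
def n215184 : Q := act 5 n170270
theorem D215184 : act 5 n170270 = n215184 := rfl
theorem F478776 : act 2 n215184 = n206248 := d2_1 D215184 F439917 F359383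
theorem F478777 : act 3 n215184 = n190806 := d6_1 D215184 (iv5 F432587) F432585
theorem F478778 : act 4 n215184 = n210170 := d9_1 D215184 (iv5 D210170) F443115 (iv5 D207049) (iv4 F214695) F357697 F229155 (iv5 F205733) (iv4 F311798) (iv5 F154527) D191565 F410532 F410530 (iv5 F410275) F410274
theorem F478779 : act 6 n215184 = n190805 := d12_2 (iv6 F410272) D215184 F381151 F236161 (iv5 F410268)
theorem F478780 : act 7 n215184 = n201466 := d13_2 (iv7 F359376) D215184 F420620
theorem F478781 : act 1 n215184 = n206246 := d17_6 (iv1 D208471) (iv5 F410537) (iv1 D199071) (iv5 F410275) F410274 D215184 (iv5 F449774) (iv0 F449775) (iv4 F449504)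
theorem F478782 : act 0 n215184 = n206247 := d18_0 (iv4 F439910) (iv1 D130874) F95898 (iv5 F49870) (iv4 F103915) D144802 F338492 D170270 D215184
def n215185 : Q := act 6 n170360
theorem D215185 : act 6 n170360 = n215185 := rfl
theorem F478783 : act 2 n215185 = n186944 := d3_1 D215185 (iv6 F368614) F348008
theorem F478784 : act 3 n215185 = n206132 := d7_1 D215185 F439388 (iv3 F337291)
theorem F478785 : act 4 n215185 = n189890 := d10_1 D215185 (iv6 F426555) F426553
theorem F478786 : act 0 n215185 = n186546 := d21_4 (iv5 F460310) (iv1 F473449) F473451 D215185 (iv6 F346068) (iv5 F233873) F416632 (iv5 F206395) D206328 (iv1 F449529)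
theorem F478787 : act 5 n215185 = n204424 := d21_6 (iv5 D31615) D31611 (iv5 F85495) D117587 (iv1 F337289) D215185 (iv1 F432483) (iv5 D127432) (iv6 D59852) F50916
theorem F478788 : act 0 n186937 = n215185 := d21_4 F104049 D69854 D148984 F368579 (iv6 D215185) (iv5 F473451) (iv1 D214097) (iv5 F424877) F424878 (iv1 D144932)
theorem F478789 : act 7 n186945 = n215185 := d13_0 F478787 (iv7 D204424) (iv5 F369009)
def n215186 : Q := act 5 n170409
theorem D215186 : act 5 n170409 = n215186 := rfl
theorem F478790 : act 3 n215186 = n170410 := d6_1 D215186 (iv5 D170410) D170409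
def n215187 : Q := act 6 n170410
theorem D215187 : act 6 n170410 = n215187 := rfl
theorem F478791 : act 2 n215187 = n200376 := d3_1 D215187 (iv6 F416192) F380318
theorem F478792 : act 0 n215187 = n194634 := d21_4 (iv5 D87473) (iv1 F332548) D170410 D215187 F393894 F339724 (iv1 D128531) D128533 F339722 (iv1 D183256)
theorem F478793 : act 1 n215187 = n194633 := d15_1 (iv0 F478792) F393883 (iv2 F393891)
def n215188 : Q := act 1 n170468
theorem D215188 : act 1 n170468 = n215188 := rfl
theorem F478794 : act 1 n215188 = n195587 := d15_1 D215188 (iv7 F426903) F426900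
theorem F478795 : act 7 n215188 = n190575 := d15_2 (iv0 F344909) D215188 F380174
theorem F478796 : act 5 n215188 = n190576 := d17_7 D128058 F350663 F350662 F350649 F151636 D170468 D215188 F380180 F162690
theorem F478797 : act 4 n215188 = n214601 := d17_9 F475999 F411907 (iv1 D192258) (iv5 F370348) F370347 F227873 F344905 D170468 D215188
theorem F478798 : act 3 n206152 = n215188 := d20_3 D207345 F444446 (iv4 F439491) (iv1 D215188) F267907 D170483 F354308 (iv4 D181686) (iv3 F282799) F354310
theorem F478799 : act 6 n195585 = n215188 := d21_3 F360613 (iv1 F423756) F423754 (iv1 D215188) (iv6 F470879) F470878 F403562 (iv5 F397303) (iv6 F397305) F397306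
theorem F478800 : act 2 n215188 = n204864 := d3_1 F478799 F433910 F397459
def n215189 : Q := act 5 n170545
theorem D215189 : act 5 n170545 = n215189 := rfl
theorem F478801 : act 2 n215189 = n170546 := d2_1 D215189 (iv5 D170546) D170545
theorem F478802 : act 3 n215189 = n212266 := d6_1 D215189 F465041 F430471
theorem F478803 : act 4 n215189 = n186491 := d9_1 D215189 F289359 (iv4 F433171) (iv5 F433172) (iv4 D130899) F105960 (iv4 F233350) (iv5 F360945) (iv4 F426807) (iv5 F471249) F471250 F433165 (iv4 D152010) D152011 (iv4 F366624)
theorem F478804 : act 6 n215189 = n186490 := d12_2 (iv6 F361071) D215189 (iv5 F422044) (iv6 D201848) (iv5 F335034)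
theorem F478805 : act 7 n215189 = n203934 := d13_2 F465042 D215189 (iv5 F465041)
theorem F478806 : act 0 n215189 = n212027 := d17_2 (iv1 F466604) D215189 F464014 F229863 F229408 (iv0 F334135) (iv5 F475479) (iv0 F475482) (iv4 F466600)
theorem F478807 : act 1 n215189 = n202952 := d17_6 F232494 F85351 D71668 D152011 (iv4 F366624) D215189 (iv5 D202952) F317050 F314748
def n215190 : Q := act 4 n170546
theorem D215190 : act 4 n170546 = n215190 := rfl
theorem F478808 : act 2 n215190 = n186491 := d1_1 D215190 (iv4 F478803) F478801
theorem F478809 : act 3 n215190 = n203049 := d5_1 D215190 (iv4 F426778) F196372 (iv4 F299887) (iv3 F267973)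
theorem F478810 : act 5 n215190 = n191283 := d9_2 D170546 D215190 (iv4 F433174) F403503 F403501 F328207 (iv4 F465040) F465041 (iv4 F471011) (iv5 F471162) F471163 F338080 F332475 D133316 F316370
theorem F478811 : act 6 n215190 = n186456 := d10_2 F465084 D215190 (iv4 F465083)
theorem F478812 : act 7 n215190 = n203055 := d11_2 F360946 D215190 F426807
theorem F478813 : act 0 n215190 = n186926 := d17_0 (iv5 F368531) (iv1 F468019) (iv5 D212897) F238042 (iv5 F114717) (iv0 F337872) (iv5 F319879) (iv0 F363495) D215190
theorem F478814 : act 1 n215190 = n212294 := d18_6 F421035 F231840 (iv1 F329364) F316370 D170546 D215190 (iv4 D212294) (iv0 F364219) (iv5 F421033)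
theorem F478815 : act 0 n191274 = n185081 := d21_4 (iv5 D45726) D45724 D97958 D191274 (iv6 F470596) F470595 (iv1 F478814) F478810 (iv6 D191283) (iv1 D97965)
def n215191 : Q := act 5 n170644
theorem D215191 : act 5 n170644 = n215191 := rfl
theorem F478816 : act 2 n215191 = n204083 := d2_1 D215191 (iv5 D204083) F354035
theorem F478817 : act 3 n215191 = n213328 := d6_1 D215191 (iv5 D213328) F366853
theorem F478818 : act 4 n215191 = n194785 := d9_1 D215191 (iv5 D194785) F160064 (iv5 F328616) (iv4 F340128) (iv5 F448447) F448446 (iv5 F449756) (iv4 D208532) (iv5 D134550) F98473 D63235 D134576 F334132 F268092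
theorem F478819 : act 7 n215191 = n204084 := d13_2 (iv7 F354036) D215191 (iv5 D204084)
theorem F478820 : act 0 n215191 = n170649 := d17_2 F268093 D215191 (iv5 F311986) F187494 (iv5 F184011) (iv0 F383056) (iv5 D191325) (iv0 F315553) F315556
theorem F478821 : act 1 n215191 = n207397 := d17_6 F439663 F439660 (iv1 F334646) F334132 F268092 D215191 F444683 F385412 F385409
def n215192 : Q := act 6 n170650
theorem D215192 : act 6 n170650 = n215192 := rfl
theorem F478822 : act 2 n215192 = n204546 := d3_1 D215192 F432834 (iv2 F268104)
theorem F478823 : act 4 n215192 = n170651 := d10_1 D215192 (iv6 D170651) D170650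
def n215193 : Q := act 0 n170651
theorem D215193 : act 0 n170651 = n215193 := rfl
theorem F478824 : act 5 n215193 = n202520 := d21_2 (iv5 F268109) D215193 (iv6 F424352) (iv1 F373363) F355608 (iv5 F357149) (iv1 F406348) F406345 F431506 (iv1 D204213)
theorem F478825 : act 6 n215193 = n182178 := d21_5 (iv5 D84555) (iv1 F123544) (iv5 F125729) D170651 D215193 (iv5 D182178) F335736 D98165 F151424 (iv1 F301691)
theorem F478826 : act 2 n182183 = n215193 := d15_3 (iv0 D215193) (iv0 F469638) F469637
theorem F478827 : act 7 n215193 = n204545 := d4_2 F469637 F478826 F469640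
theorem F478828 : act 1 n204547 = n215193 := d15_1 F469639 F478827 F469640
def n215194 : Q := act 7 n170651
theorem D215194 : act 7 n170651 = n215194 := rfl
theorem F478829 : act 2 n215194 = n204547 := d4_1 D215194 (iv7 D204547) (iv2 F268108)
theorem F478830 : act 3 n215194 = n208878 := d8_1 D215194 (iv7 F451869) (iv3 F451870)
theorem F478831 : act 5 n215194 = n204214 := d13_1 D215194 (iv7 D204214) (iv5 F268109)
theorem F478832 : act 1 n204545 = n215194 := d15_1 D204545 (iv7 D215194) F268108
theorem F478833 : act 1 n215194 = n182183 := d15_1 F478832 (iv7 F469637) (iv2 F469640)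
def n215195 : Q := act 2 n170652
theorem D215195 : act 2 n170652 = n215195 := rfl
theorem F478834 : act 3 n215195 = n207397 := d0_2 D170652 D215195 F444682 (iv3 D204033) F302885
theorem F478835 : act 4 n215195 = n192442 := d1_2 F458195 D215195 (iv2 F458192)
theorem F478836 : act 5 n215195 = n186764 := d2_2 F355382 D215195 F367925
theorem F478837 : act 7 n215195 = n193454 := d4_2 (iv7 F268111) D215195 F389890
theorem F478838 : act 1 n215195 = n191365 := d15_0 F383234 (iv7 F268111) D215195
theorem F478839 : act 1 n191368 = n215195 := d15_0 F478838 (iv7 F427436) F427434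
def n215196 : Q := act 6 n170652
theorem D215196 : act 6 n170652 = n215196 := rfl
theorem F478840 : act 3 n215196 = n170654 := d7_1 D215196 (iv6 D170654) D170652
def n215197 : Q := act 6 n170653
theorem D215197 : act 6 n170653 = n215197 := rfl
theorem F478841 : act 4 n215197 = n170654 := d10_1 D215197 (iv6 D170654) D170653
def n215198 : Q := act 1 n170654
theorem D215198 : act 1 n170654 = n215198 := rfl
theorem F478842 : act 6 n202524 = n215198 := d21_3 F222631 (iv1 F180505) D202524 (iv1 D215198) (iv6 D170654) F125732 (iv1 F123545) D84555 (iv6 F276929) F362318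
theorem F478843 : act 2 n215198 = n210599 := d3_1 F478842 (iv6 D210599) (iv2 F424373)
theorem F478844 : act 5 n215198 = n208749 := d21_6 F216283 F207864 F342835 F342833 (iv1 F424375) F478842 (iv1 D208749) D208750 F450707 (iv1 F368877)
theorem F478845 : act 5 n214610 = n208745 := d21_8 (iv5 F478844) (iv1 D215198) (iv5 F366927) (iv6 D170717) (iv1 F301842) D120506 (iv5 F253235) D214610 F450673 (iv1 F450698)
theorem F478846 : act 7 n208343 = n214610 := d13_0 F478845 (iv7 D208745) (iv5 F448991)
def n215199 : Q := act 7 n170654
theorem D215199 : act 7 n170654 = n215199 := rfl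
theorem F478847 : act 5 n215199 = n208682 := d13_1 D215199 F450436 F366927
theorem F478848 : act 6 n215199 = n204547 := d14_1 D215199 (iv7 D204547) F198393 (iv7 F125731) D170654
theorem F478849 : act 1 n210599 = n215199 := d15_1 (iv0 F458170) (iv7 D215199) (iv2 F429755)
def n215200 : Q := act 3 n170655
theorem D215200 : act 3 n170655 = n215200 := rfl
theorem F478850 : act 5 n215200 = n204651 := d6_2 (iv5 F268115) D215200 (iv3 D204651)
theorem F478851 : act 6 n191479 = n215200 := d12_0 F478850 F449378 (iv5 F449376) F448961 F432510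
theorem F478852 : act 0 n204022 = n204651 := d21_1 (iv5 F431191) (iv5 F478850) (iv6 F478851) F383541 F383243 (iv5 F366890) (iv1 F383250) F383252 D215159 (iv1 F478628)
theorem F478853 : act 4 n215200 = n191480 := d10_1 F478851 (iv6 D191480) D191479
def n215201 : Q := act 6 n170655
theorem D215201 : act 6 n170655 = n215201 := rfl
theorem F478854 : act 2 n215201 = n204648 := d3_1 D215201 F433120 F268117
theorem F478855 : act 3 n215201 = n191479 := d7_1 D215201 F478851 (iv3 D215200)
theorem F478856 : act 4 n215201 = n204229 := d10_1 D215201 F431569 (iv4 F268116)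
theorem F478857 : act 0 n170657 = n215201 := d18_2 (iv1 F469639) F469635 F478856 (iv5 D204229) F366921 F436648 (iv4 F436649) F431504 (iv5 F432835)
def n215202 : Q := act 1 n170657
theorem D215202 : act 1 n170657 = n215202 := rfl
theorem F478858 : act 7 n215202 = n204648 := d15_2 (iv0 F478857) D215202 (iv2 F478854)
theorem F478859 : act 4 n215202 = n204649 := d18_7 (iv1 D139477) (iv4 F172819) F407638 F424365 (iv5 F469636) F469635 D215202 (iv0 F433124) F430797
theorem F478860 : act 3 n208385 = n215202 := d20_3 (iv4 D134253) D134251 D208385 (iv1 D215202) (iv3 D170657) (iv4 D81802) D81800 D170650 F449166 (iv1 D208390)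
def n215203 : Q := act 2 n170657
theorem D215203 : act 2 n170657 = n215203 := rfl
theorem F478861 : act 4 n215203 = n204545 := d1_2 F469635 D215203 F469640
theorem F478862 : act 1 n204648 = n215203 := d18_6 (iv1 F431512) F401234 (iv1 F401233) F198614 D124158 D204648 F478861 F478832 F478831
def n215204 : Q := act 5 n170657
theorem D215204 : act 5 n170657 = n215204 := rfl
theorem F478863 : act 3 n215204 = n170658 := d6_1 D215204 (iv5 D170658) D170657
theorem F478864 : act 7 n215204 = n204028 := d13_2 F430864 D215204 (iv5 F430863)
def n215205 : Q := act 6 n170657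
theorem D215205 : act 6 n170657 = n215205 := rfl
theorem F478865 : act 3 n215205 = n170659 := d7_1 D215205 (iv6 D170659) D170657
def n215206 : Q := act 0 n170659
theorem D215206 : act 0 n170659 = n215206 := rfl
theorem F478866 : act 5 n215206 = n204021 := d17_1 D215206 (iv1 F473603) F473600 (iv4 D208271) (iv5 D134042) (iv0 F207863) F342835 (iv0 D170660) (iv4 F268125)
theorem F478867 : act 4 n215206 = n207523 := d18_3 (iv1 D170661) (iv4 F268125) D215206 (iv5 D207523) F211393 F98250 (iv4 F98380) F216034 F363086
theorem F478868 : act 2 n208396 = n215206 := d15_3 (iv0 D215206) F431038 (iv7 F449183)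
theorem F478869 : act 3 n215206 = n211687 := d0_2 (iv3 F449182) F478868 F462691 (iv3 D191375) (iv2 F299272)
theorem F478870 : act 6 n215206 = n214115 := d3_2 F460771 F478868 F473549
theorem F478871 : act 7 n215206 = n208395 := d4_2 (iv7 F449183) F478868 F449178
def n215207 : Q := act 7 n170659
theorem D215207 : act 7 n170659 = n215207 := rfl
theorem F478872 : act 4 n215207 = n170663 := d11_1 D215207 (iv7 D170663) (iv4 F268125)
theorem F478873 : act 5 n215207 = n214119 := d13_1 D215207 F473565 F460818
theorem F478874 : act 1 n208395 = n215207 := d15_1 (iv0 F449181) (iv7 D215207) (iv2 F430886)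
theorem F478875 : act 1 n215207 = n208396 := d15_1 F478874 F449183 (iv2 F449178)
def n215208 : Q := act 3 n170660
theorem D215208 : act 3 n170660 = n215208 := rfl
theorem F478876 : act 2 n215208 = n187154 := d0_1 D215208 (iv3 D187154) (iv2 F288592) (iv3 F365795) (iv2 F363073)
theorem F478877 : act 5 n215208 = n206984 := d6_2 F342835 D215208 (iv3 D206984)
theorem F478878 : act 6 n215208 = n211251 := d7_2 (iv6 F342833) D215208 F460814
theorem F478879 : act 7 n215208 = n208381 := d8_2 (iv7 F363074) D215208 F449150
def n215209 : Q := act 4 n170660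
theorem D215209 : act 4 n170660 = n215209 := rfl
theorem F478880 : act 2 n215209 = n208383 := d1_1 D215209 (iv4 D208383) (iv2 F363073)
theorem F478881 : act 6 n215209 = n211253 := d10_2 (iv6 F342833) D215209 (iv4 D211253)
theorem F478882 : act 7 n215209 = n208382 := d11_2 (iv7 F363074) D215209 (iv4 D208382)
theorem F478883 : act 5 n215209 = n210601 := d16_1 D215209 (iv4 D210601) (iv5 F342830) (iv4 F410151) (iv5 D198979) (iv4 F216031) F363086 F363084 (iv2 F363073)
theorem F478884 : act 0 n215209 = n204141 := d18_2 D170660 D215209 (iv4 F444204) (iv5 D207296) F217066 (iv0 D128653) (iv4 F98706) (iv0 F217084) F329398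
theorem F478885 : act 1 n215209 = n204016 := d18_6 (iv1 F211401) F211398 F166286 D129681 F342835 D215209 F430825 (iv0 F365659) (iv5 D134256)
def n215210 : Q := act 4 n170661
theorem D215210 : act 4 n170661 = n215210 := rfl
theorem F478886 : act 2 n215210 = n208382 := d1_1 D215210 (iv4 D208382) F363085
theorem F478887 : act 3 n215210 = n187136 := d5_1 D215210 (iv4 D187136) F137362 D89600 F365798
theorem F478888 : act 5 n215210 = n210603 := d9_2 F363086 D215210 (iv4 D210603) (iv5 F222630) F222497 F171836 D129681 F342835 D215209 F478883 (iv4 D210601) (iv5 F342830) (iv4 F410151) (iv5 D198979) (iv4 F216031)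
theorem F478889 : act 7 n215210 = n208383 := d11_2 (iv7 F363084) D215210 (iv4 D208383)
theorem F478890 : act 0 n215210 = n204016 := d18_2 (iv1 F430890) D215210 F430825 (iv5 F304694) F328737 F216214 (iv4 F328199) F328197 (iv5 F430889)
theorem F478891 : act 1 n215210 = n204141 := d18_6 F111702 (iv4 F80558) D110791 (iv4 F216031) F363086 D215210 (iv4 F444204) F444203 (iv5 D134258)
def n215211 : Q := act 3 n170671
theorem D215211 : act 3 n170671 = n215211 := rfl
theorem F478892 : act 4 n215211 = n204543 := d5_2 D170671 D215211 F432829 F308321 (iv3 F308320)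
theorem F478893 : act 7 n215211 = n204026 := d8_2 F304428 D215211 (iv3 D204026)
theorem F478894 : act 0 n210659 = n215211 := d20_4 F478872 (iv1 F363076) D208382 (iv3 F458364) (iv3 D215211) (iv4 D170671) F125747 D170647 (iv3 F449182) (iv1 F478875)
theorem F478895 : act 6 n208393 = n215211 := d10_0 F478892 F432830 (iv4 F449171)
def n215212 : Q := act 6 n170671
theorem D215212 : act 6 n170671 = n215212 := rfl
theorem F478896 : act 2 n215212 = n204029 := d3_1 D215212 (iv6 D204029) F304430
theorem F478897 : act 3 n215212 = n208393 := d7_1 D215212 F478895 (iv3 D215211)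
theorem F478898 : act 4 n215212 = n170672 := d10_1 D215212 (iv6 D170672) D170671
theorem F478899 : act 7 n215212 = n208391 := d14_2 F304428 D215212 F458186 F458183 (iv6 D204027)
theorem F478900 : act 5 n210605 = n215212 := d6_0 F478897 F449172 D210605
def n215213 : Q := act 0 n170672
theorem D215213 : act 0 n170672 = n215213 := rfl
theorem F478901 : act 4 n215213 = n204651 := d20_8 (iv4 D122449) D122447 D204034 (iv3 F444205) F449173 (iv3 F478897) F478898 D215213 (iv3 D204651) F304681
theorem F478902 : act 6 n215213 = n208270 := d21_5 (iv5 D57760) (iv1 F121420) D81810 D170672 D215213 F448662 (iv1 F329433) (iv5 F304300) (iv6 D122463) (iv1 F304297)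
theorem F478903 : act 5 n215213 = n193283 := d21_8 F422585 F217238 (iv5 F217237) F328518 F303346 D124402 F366924 D215213 F389394 (iv1 F422588)
theorem F478904 : act 2 n208388 = n215213 := d2_3 F478903 (iv2 F389395) (iv5 F449160)
theorem F478905 : act 3 n204640 = n215213 := d5_5 F478901 (iv3 D204651) (iv4 D124161) (iv3 F198611) D204640
def n215214 : Q := act 1 n170672
theorem D215214 : act 1 n170672 = n215214 := rfl
theorem F478906 : act 7 n215214 = n208388 := d15_2 (iv0 D215213) D215214 F478904
theorem F478907 : act 3 n209775 = n215214 := d8_3 F478906 F449159 D209775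
theorem F478908 : act 5 n193284 = n215214 := d13_3 F478906 F449160 (iv7 F389396)
def n215215 : Q := act 3 n170678
theorem D215215 : act 3 n170678 = n215215 := rfl
theorem F478909 : act 4 n215215 = n193448 := d5_2 D170678 D215215 F389870 (iv4 F268175) (iv3 D170677)
theorem F478910 : act 6 n215215 = n174745 := d7_2 (iv6 F308822) D215215 F319025
theorem F478911 : act 7 n215215 = n204929 := d8_2 (iv7 F268181) D215215 F434221
theorem F478912 : act 0 n215215 = n204253 := d20_4 F125744 D81816 D170678 D215215 F431688 F361502 (iv1 F316796) F361486 F198236 F198241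
theorem F478913 : act 0 n174814 = n215215 := d20_4 (iv4 F357866) F357868 F384507 (iv3 F384508) (iv3 D215215) (iv4 D170678) (iv1 F190559) (iv4 F308445) (iv3 F389103) (iv1 F389107)
def n215216 : Q := act 0 n170683
theorem D215216 : act 0 n170683 = n215216 := rfl
theorem F478914 : act 5 n215216 = n172519 := d17_1 D215216 (iv1 F345764) (iv5 F345504) (iv4 D177602) D177603 (iv0 F476945) F476943 F333806 (iv4 F268191)
theorem F478915 : act 4 n215216 = n172507 := d18_1 D215216 (iv1 F354775) (iv4 F401306) (iv5 F440716) (iv4 F466194) (iv0 D212515) F355870 (iv0 F355871) F339176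
theorem F478916 : act 6 n215216 = n205311 := d21_5 (iv5 D82603) D82600 (iv5 F127226) D170683 D215216 F435893 F354771 (iv5 F355907) (iv6 D172537) (iv1 F127230)
theorem F478917 : act 2 n200720 = n215216 := d15_3 (iv0 D215216) (iv0 F345762) (iv7 F417626)
theorem F478918 : act 1 n174849 = n215216 := d15_0 (iv0 D215216) (iv7 F417290) F417287
theorem F478919 : act 7 n215216 = n200803 := d15_2 F345742 F478918 F417970
theorem F478920 : act 3 n205312 = n215216 := d7_3 F478916 (iv3 D205311) D205312
def n215217 : Q := act 6 n170714
theorem D215217 : act 6 n170714 = n215217 := rfl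
theorem F478921 : act 3 n215217 = n170717 := d7_1 D215217 (iv6 D170717) (iv3 F268233)
theorem F478922 : act 5 n215217 = n215196 := d12_1 D215217 (iv6 D215196) (iv5 F355382) F355383 D170714
theorem F478923 : act 0 n187596 = n215217 := d21_4 F347752 (iv1 D90379) D90381 D187596 (iv6 D215217) (iv5 D170714) F155430 D186756 F367896 F295262
def n215218 : Q := act 6 n170716
theorem D215218 : act 6 n170716 = n215218 := rfl
theorem F478924 : act 2 n215218 = n203768 := d3_1 D215218 (iv6 D203768) F302883
theorem F478925 : act 3 n215218 = n192729 := d7_1 D215218 (iv6 F453855) F453854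
theorem F478926 : act 4 n215218 = n170717 := d10_1 D215218 (iv6 D170717) D170716
theorem F478927 : act 7 n215218 = n198758 := d14_2 F304336 D215218 (iv6 D198758) F404948 F404944
theorem F478928 : act 0 n215218 = n197600 := d21_4 F327322 (iv1 F302065) F302066 D215218 (iv6 D197600) (iv5 F351303) (iv1 F405663) (iv5 F429726) (iv6 D203762) (iv1 F327319)
theorem F478929 : act 0 n184099 = n215218 := d21_4 (iv5 D109012) (iv1 F168555) (iv5 F376089) F376090 (iv6 D215218) (iv5 F302066) (iv1 F329127) (iv5 F350348) F198881 F327458
def n215219 : Q := act 1 n170734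
theorem D215219 : act 1 n170734 = n215219 := rfl
theorem F478930 : act 1 n215219 = n174603 := d15_1 D215219 (iv7 D174603) (iv2 F298390)
theorem F478931 : act 7 n215219 = n174601 := d15_2 (iv0 F463531) D215219 (iv2 F463526)
theorem F478932 : act 5 n215219 = n212526 := d17_7 F373937 F373934 (iv1 D133538) (iv5 F319755) F195631 D170734 D215219 (iv0 F466262) (iv4 F364316)
theorem F478933 : act 4 n212095 = n215219 := d20_0 (iv1 D215219) (iv4 F401012) F401011 (iv1 F165039) D145325 (iv4 F425672) F425675 (iv4 F425450) (iv3 F476881) (iv1 F476884)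
theorem F478934 : act 6 n204844 = n215219 := d21_3 (iv5 D124484) D124480 D204844 (iv1 D215219) F268301 (iv5 D81851) (iv1 F296730) (iv5 F59368) D83591 (iv1 F345558)
theorem F478935 : act 2 n215219 = n174602 := d3_1 F478934 (iv6 F346560) (iv2 F433805)
theorem F478936 : act 3 n215219 = n201575 := d7_1 F478934 (iv6 F420984) (iv3 F433806)
def n215220 : Q := act 0 n170743
theorem D215220 : act 0 n170743 = n215220 := rfl
theorem F478937 : act 3 n215220 = n194876 := d20_5 F298768 F297000 D81859 D170743 D215220 (iv4 F440822) (iv1 F440825) F341767 (iv3 D186297) (iv1 F298766)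
theorem F478938 : act 1 n174227 = n215220 := d15_0 (iv0 D215220) F298770 (iv2 F353295)
theorem F478939 : act 2 n174647 = n215220 := d0_5 F478937 (iv2 F394886) (iv3 F407761) (iv2 F413654) F413655
theorem F478940 : act 7 n174646 = n215220 := d8_0 F478937 F394888 (iv3 F392610)
def n215221 : Q := act 1 n170743
theorem D215221 : act 1 n170743 = n215221 := rfl
theorem F478941 : act 1 n215221 = n174227 := d15_1 D215221 (iv7 F395262) F395261
theorem F478942 : act 7 n215221 = n174647 := d15_2 (iv0 D215220) D215221 F478939
theorem F478943 : act 3 n198683 = n215221 := d20_3 F408350 (iv1 F434933) F434932 (iv1 D215221) (iv3 D170743) (iv4 D81859) (iv1 F296999) (iv4 F298764) (iv3 F325044) (iv1 F408351)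
theorem F478944 : act 2 n215221 = n174646 := d0_1 F478943 F392610 F392607 (iv3 F392581) F408857
theorem F478945 : act 6 n215221 = n172086 := d7_2 (iv6 F408856) F478943 (iv3 F392553)
def n215222 : Q := act 5 n170743
theorem D215222 : act 5 n170743 = n215222 := rfl
theorem F478946 : act 3 n215222 = n170744 := d6_1 D215222 (iv5 D170744) D170743
theorem F478947 : act 7 n215222 = n174649 := d13_2 (iv7 F298770) D215222 (iv5 D174649)
def n215223 : Q := act 6 n170744
theorem D215223 : act 6 n170744 = n215223 := rfl
theorem F478948 : act 2 n215223 = n174620 := d3_1 D215223 (iv6 D174620) (iv2 F298773)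
theorem F478949 : act 5 n215223 = n170749 := d12_1 D215223 (iv6 D170749) (iv5 D81862) (iv6 F125875) D170744
def n215224 : Q := act 4 n170745
theorem D215224 : act 4 n170745 = n215224 := rfl
theorem F478950 : act 2 n215224 = n197786 := d1_1 D215224 (iv4 F472313) F472311
theorem F478951 : act 3 n215224 = n198247 := d5_1 D215224 (iv4 F478356) (iv3 D215102) D215103 F478363
theorem F478952 : act 6 n215224 = n198210 := d10_2 (iv6 F474422) D215224 (iv4 F474417)
theorem F478953 : act 7 n215224 = n187997 := d11_2 (iv7 F472305) D215224 (iv4 F472302)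
theorem F478954 : act 5 n215224 = n187849 := d18_4 (iv1 D81914) (iv4 F125878) D170745 D215224 F371692 F370801 F370800 (iv0 F354683) (iv5 D170870)
theorem F478955 : act 0 n215224 = n197785 := d20_1 D215224 (iv4 F405786) (iv3 F362521) (iv1 D166697) (iv3 D80007) F57234 (iv1 F54688) D37479 D81861 D170745
theorem F478956 : act 0 n197784 = n215224 := d20_10 (iv4 D215224) (iv1 F433804) F433801 (iv3 F248782) (iv1 F327611) (iv3 F405641) F405642 D205349 F436018 (iv3 F436025)
def n215225 : Q := act 5 n170745
theorem D215225 : act 5 n170745 = n215225 := rfl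
def n215226 : Q := act 5 n170747
theorem D215226 : act 5 n170747 = n215226 := rfl
theorem F478957 : act 2 n215226 = n170748 := d2_1 D215226 (iv5 D170748) D170747
theorem F478958 : act 7 n215226 = n204893 := d13_2 F433802 D215226 F434046
def n215227 : Q := act 0 n170748
theorem D215227 : act 0 n170748 = n215227 := rfl
theorem F478959 : act 3 n215227 = n190277 := d20_5 F119669 (iv1 F248768) F248766 (iv3 F268328) D215227 (iv4 F477954) F477956 F402358 F253817 (iv1 F119672)
theorem F478960 : act 5 n215227 = n214273 := d21_2 D170748 D215227 F474348 (iv1 F395107) F406480 (iv5 F406479) (iv1 F378331) (iv5 D155957) D155958 F365867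
theorem F478961 : act 1 n204893 = n215227 := d15_0 (iv0 D215227) (iv7 F353317) (iv2 F434045)
theorem F478962 : act 6 n190274 = n215227 := d12_0 F478960 F474348 F395103 (iv6 D190275) D190274
def n215228 : Q := act 1 n170748
theorem D215228 : act 1 n170748 = n215228 := rfl
theorem F478963 : act 1 n215228 = n204893 := d15_1 D215228 (iv7 F478958) F478957
theorem F478964 : act 5 n215228 = n195330 := d17_7 (iv1 F280713) F431914 (iv1 D170874) (iv5 D81916) (iv4 F125878) D170748 D215228 F476399 F476396
theorem F478965 : act 3 n195331 = n215228 := d6_3 F478964 F396727 D195331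
def n215229 : Q := act 4 n170748
theorem D215229 : act 4 n170748 = n215229 := rfl
def n215230 : Q := act 6 n170748
theorem D215230 : act 6 n170748 = n215230 := rfl
theorem F478966 : act 3 n215230 = n170749 := d7_1 D215230 (iv6 D170749) (iv3 F268328)
theorem F478967 : act 7 n215230 = n215223 := d14_2 F353317 D215230 (iv6 D215223) F298774 D174650
def n215231 : Q := act 7 n170749
theorem D215231 : act 7 n170749 = n215231 := rfl
theorem F478968 : act 3 n215231 = n215223 := d8_1 D215231 (iv7 F478967) F478966
theorem F478969 : act 4 n215231 = n215222 := d11_1 D215231 F478947 F353319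
theorem F478970 : act 5 n215231 = n215230 := d13_1 D215231 F478967 F478949
theorem F478971 : act 6 n215231 = n215222 := d14_1 D215231 F478947 (iv6 F353318) F248765 D170749
def n215232 : Q := act 3 n170762
theorem D215232 : act 3 n170762 = n215232 := rfl
theorem F478972 : act 2 n215232 = n185875 := d0_1 D215232 (iv3 F338463) F218745 (iv3 F220120) F346162
theorem F478973 : act 4 n215232 = n185874 := d5_2 (iv4 F346163) D215232 F288333 (iv4 F442797) (iv3 D206974)
theorem F478974 : act 6 n215232 = n209215 := d7_2 (iv6 F346169) D215232 F452740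
theorem F478975 : act 0 n215232 = n213662 := d19_4 F211811 (iv5 F207846) (iv4 F346163) D215232 (iv5 D213662) (iv4 F348239) (iv3 D175485) (iv1 D83796) D83797 (iv4 F354907) F242456 (iv1 F352353) D88269 D185248 (iv3 F415472) F425529 F425528 D207303 F444238
theorem F478976 : act 0 n188747 = n215232 := d20_4 F217241 F374698 F374696 F374690 (iv3 D215232) F346163 (iv1 F437325) F437322 F383662 (iv1 F357370)
def n215233 : Q := act 6 n170770
theorem D215233 : act 6 n170770 = n215233 := rfl
theorem F478977 : act 2 n215233 = n199941 := d3_1 D215233 F414243 F270435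
theorem F478978 : act 3 n215233 = n170772 := d7_1 D215233 (iv6 D170772) D170770
theorem F478979 : act 4 n215233 = n183235 := d10_1 D215233 (iv6 D183235) (iv4 F268360)
theorem F478980 : act 7 n215233 = n199940 := d14_2 F366969 D215233 (iv6 F420765) F420762 F394015
theorem F478981 : act 5 n215233 = n193830 := d21_6 F370937 (iv1 F382390) (iv5 D191140) (iv6 F157632) F268362 D215233 (iv1 F391129) (iv5 D183765) (iv6 F293092) (iv1 F370941)
theorem F478982 : act 0 n190229 = n215233 := d21_4 F347746 (iv1 F278624) (iv5 F356586) D190229 (iv6 D215233) (iv5 F407189) (iv1 F474811) F474808 (iv6 F385465) (iv1 F385466)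
def n215234 : Q := act 1 n170808
theorem D215234 : act 1 n170808 = n215234 := rfl
theorem F478983 : act 1 n215234 = n191390 := d15_1 D215234 F383309 F359331
theorem F478984 : act 7 n215234 = n202464 := d15_2 (iv0 F359322) D215234 F424109
theorem F478985 : act 5 n215234 = n180012 := d17_7 (iv1 F300077) (iv5 F148171) (iv1 D75996) D75997 (iv4 F314542) F359314 D215234 F303937 (iv4 D86578)
theorem F478986 : act 4 n215234 = n177347 := d17_9 (iv1 F299600) (iv5 D166080) (iv1 F299390) F299391 (iv4 F350059) (iv5 D169876) (iv0 F314541) F359314 D215234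
theorem F478987 : act 2 n204279 = n215234 := d1_3 F478986 F276733 (iv4 F431828)
theorem F478988 : act 6 n200694 = n215234 := d10_0 F478986 F345928 D200694
def n215235 : Q := act 0 n170811
theorem D215235 : act 0 n170811 = n215235 := rfl
theorem F478989 : act 5 n215235 = n210988 := d17_1 D215235 (iv1 F459646) F394638 (iv4 D194827) (iv5 F160325) (iv0 F160326) F137942 F331200 (iv4 F268401)
theorem F478990 : act 4 n215235 = n190685 := d18_3 F331201 (iv4 F268401) D215235 (iv5 F472053) F472054 F390348 F384670 F370025 F370021
theorem F478991 : act 3 n215235 = n180183 := d20_5 F132040 (iv1 F358815) F358818 D170811 D215235 (iv4 D180183) (iv1 D86087) (iv4 F132045) (iv3 D86084) D86082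
theorem F478992 : act 2 n199648 = n215235 := d15_3 (iv0 D215235) F407152 (iv7 F412986)
theorem F478993 : act 1 n194484 = n215235 := d15_0 (iv0 D215235) (iv7 F394620) F394618
theorem F478994 : act 6 n199647 = n215235 := d21_3 F431769 (iv1 F406049) (iv5 F412981) (iv1 F478993) (iv6 F433252) F436426 F436424 F360138 F360137 F431771
def n215236 : Q := act 5 n170811
theorem D215236 : act 5 n170811 = n215236 := rfl
theorem F478995 : act 3 n215236 = n170812 := d6_1 D215236 (iv5 D170812) D170811
theorem F478996 : act 7 n215236 = n212224 := d13_2 F394620 D215236 F464824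
theorem F478997 : act 4 n215236 = n212228 := d16_2 (iv4 F268401) D215236 F464841 F391414 (iv5 D192073) (iv4 F153409) D103653 (iv7 F160308) F331202
theorem F478998 : act 0 n215236 = n192436 := d17_2 (iv1 F407152) D215236 (iv5 F412515) F412514 (iv5 D190579) F289591 D96388 D190686 (iv4 F407148)
theorem F478999 : act 1 n215236 = n198028 := d17_6 (iv1 F160323) (iv5 D104623) (iv1 F76052) (iv5 F331194) (iv4 F268401) D215236 (iv5 D198028) (iv0 F393413) (iv4 D194487)
def n215237 : Q := act 0 n170814
theorem D215237 : act 0 n170814 = n215237 := rfl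
theorem F479000 : act 4 n215237 = n206608 := d18_3 (iv1 D214921) (iv4 F268402) D215237 F441550 F399449 (iv0 F399446) (iv4 F470799) (iv0 F470802) F477444
theorem F479001 : act 3 n215237 = n202496 := d20_5 F299223 (iv1 F298973) (iv4 F126227) D170814 D215237 F424263 (iv1 F347413) (iv4 F430647) (iv3 D203971) F195566
theorem F479002 : act 6 n215237 = n170857 := d21_5 (iv5 D202492) D202490 (iv5 F430933) F430934 D215237 F456350 F456349 (iv5 F476712) F476713 F434394
theorem F479003 : act 5 n215237 = n197993 := d21_8 (iv5 F412631) F412633 (iv5 D196323) (iv6 F389119) F389121 D210311 F456960 D215237 (iv6 D197993) (iv1 F405441)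
def n215238 : Q := act 1 n170814
theorem D215238 : act 1 n170814 = n215238 := rfl
theorem F479004 : act 5 n215238 = n210990 := d18_9 (iv1 D210990) (iv4 F352696) F456369 F458297 (iv5 F459541) (iv4 F477309) (iv0 F477312) (iv4 F268402) D215238
theorem F479005 : act 6 n199633 = n215238 := d21_5 (iv5 F476159) (iv1 F476161) (iv5 D204724) D204725 (iv1 F433404) F479004 (iv1 D210990) F363366 (iv6 D163952) D163949
def n215239 : Q := act 2 n170814
theorem D215239 : act 2 n170814 = n215239 := rfl
theorem F479006 : act 3 n215239 = n194484 := d0_2 D170814 D215239 (iv2 F394618) F394619 (iv2 F195581)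
theorem F479007 : act 4 n215239 = n214922 := d1_2 (iv4 F268402) D215239 (iv2 D214922)
theorem F479008 : act 6 n215239 = n211135 := d3_2 F430934 D215239 F460264
def n215240 : Q := act 5 n170816
theorem D215240 : act 5 n170816 = n215240 := rfl
theorem F479009 : act 3 n215240 = n196640 := d6_1 D215240 F401295 (iv3 F431913)
theorem F479010 : act 6 n215240 = n196638 := d12_2 F431912 D215240 (iv5 D196638) (iv6 F167296) (iv5 F400724)
theorem F479011 : act 1 n215240 = n204297 := d17_6 (iv1 D194832) F160330 D191049 F394768 (iv4 F431910) D215240 (iv5 D204297) D204296 (iv4 F431926)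
def n215241 : Q := act 5 n170817
theorem D215241 : act 5 n170817 = n215241 := rfl
theorem F479012 : act 3 n215241 = n192437 := d6_1 D215241 (iv5 F470114) F470113
theorem F479013 : act 0 n215241 = n204297 := d21_1 D215241 (iv5 D204297) D204298 F431934 (iv6 D174157) (iv5 D83250) D83247 D174145 (iv6 F431919) (iv1 F431922)
theorem F479014 : act 6 n215241 = n197581 := d21_3 F457286 (iv1 F431922) D215241 (iv1 D197581) (iv6 D108488) (iv5 F167714) (iv1 F333008) (iv5 F357933) (iv6 F357936) (iv1 F457289)
def n215242 : Q := act 3 n170827
theorem D215242 : act 3 n170827 = n215242 := rfl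
theorem F479015 : act 7 n215242 = n214264 := d8_2 F399474 D215242 (iv3 D214264)
theorem F479016 : act 0 n198526 = n215242 := d20_4 F168455 (iv1 F171667) (iv4 F171668) D198526 (iv3 D215242) F365757 (iv1 D113267) F82659 F81104 D51382
def n215243 : Q := act 5 n170851
theorem D215243 : act 5 n170851 = n215243 := rfl
theorem F479017 : act 2 n215243 = n170852 := d2_1 D215243 (iv5 D170852) D170851
def n215244 : Q := act 4 n170852
theorem D215244 : act 4 n170852 = n215244 := rfl
def n215245 : Q := act 6 n170852
theorem D215245 : act 6 n170852 = n215245 := rfl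
theorem F479018 : act 3 n215245 = n170854 := d7_1 D215245 (iv6 D170854) (iv3 F268459)
theorem F479019 : act 5 n215245 = n209989 := d12_1 D215245 (iv6 D209989) (iv5 F354543) (iv6 D170853) D170852
theorem F479020 : act 0 n198018 = n215245 := d21_4 (iv5 D197740) (iv1 F168509) (iv5 F402875) D198018 (iv6 D215245) (iv5 D170852) D170849 (iv5 F407113) (iv6 D198176) (iv1 F405600)
theorem F479021 : act 4 n215245 = n214429 := d18_1 F479020 (iv1 D214429) F361003 (iv5 F375582) (iv4 D189046) (iv0 F343914) D191966 F440391 (iv5 F440394)
theorem F479022 : act 6 n214429 = n215244 := d10_2 D215245 F479021 (iv4 D215244)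
def n215246 : Q := act 4 n170855
theorem D215246 : act 4 n170855 = n215246 := rfl
theorem F479023 : act 2 n215246 = n214607 := d1_1 D215246 F476025 F358858
theorem F479024 : act 3 n215246 = n209988 := d5_1 D215246 (iv4 D209988) (iv3 D137224) D137225 F354544
theorem F479025 : act 5 n215246 = n204096 := d9_2 D170855 D215246 F431072 (iv5 D124035) F301401 F326147 (iv4 F80178) D110167 D198772 F409165 (iv4 D186084) (iv5 D88641) F63810 D41378 (iv4 F126255)
theorem F479026 : act 7 n215246 = n214606 := d11_2 F365856 D215246 F476020
theorem F479027 : act 0 n215246 = n214780 := d17_0 F476808 F431760 (iv5 F351461) (iv4 F351456) (iv5 F301181) (iv0 D124407) D124410 (iv0 F268462) D215246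
theorem F479028 : act 1 n215246 = n202430 := d18_6 D109127 F326988 (iv1 F326980) (iv4 F126255) D170855 D215246 F423961 (iv0 D198284) (iv5 D109129)
def n215247 : Q := act 4 n170857
theorem D215247 : act 4 n170857 = n215247 := rfl
theorem F479029 : act 2 n215247 = n195071 := d1_1 D215247 (iv4 F430660) (iv2 F430663)
theorem F479030 : act 3 n215247 = n206609 := d5_1 D215247 F441554 F441504 (iv4 F405650) (iv3 F405651)
theorem F479031 : act 6 n215247 = n206608 := d10_2 F479002 D215247 (iv4 F479000)
theorem F479032 : act 7 n215247 = n195072 := d11_2 (iv7 F430659) D215247 (iv4 F430655)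
theorem F479033 : act 5 n215247 = n207583 := d16_1 D215247 F445553 (iv5 D194767) D194766 F413303 F413302 (iv5 F430666) F430664 (iv2 F430663)
theorem F479034 : act 1 n215247 = n195068 := d18_8 (iv1 F382690) F358276 (iv1 D88462) (iv4 F135435) (iv5 F326384) (iv4 F430668) F430670 D215247 F395647
theorem F479035 : act 0 n215247 = n177413 := d20_1 D215247 (iv4 F365123) F169084 F163207 (iv3 F326830) (iv4 D35311) D35310 (iv4 F58391) D81910 D170857
def n215248 : Q := act 3 n170858
theorem D215248 : act 3 n170858 = n215248 := rfl
theorem F479036 : act 4 n215248 = n196857 := d5_2 F435830 D215248 (iv3 F412076) F412072 (iv3 F435829)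
theorem F479037 : act 6 n215248 = n196856 := d7_2 (iv6 F433417) D215248 F433413
theorem F479038 : act 0 n215248 = n199466 := d20_4 F365123 F435832 F435830 D215248 F412310 (iv4 D125447) D125444 F201726 D180483 F365125
theorem F479039 : act 1 n215248 = n170865 := d15_1 (iv0 F479038) (iv7 F439849) F439846
def n215249 : Q := act 5 n170859
theorem D215249 : act 5 n170859 = n215249 := rfl
theorem F479040 : act 2 n215249 = n170860 := d2_1 D215249 (iv5 D170860) D170859
theorem F479041 : act 6 n215249 = n201358 := d12_2 (iv6 F406764) D215249 F420143 (iv6 F460259) F460257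
def n215250 : Q := act 0 n170860
theorem D215250 : act 0 n170860 = n215250 := rfl
theorem F479042 : act 5 n215250 = n205240 := d17_3 (iv1 D170858) D170860 D215250 (iv4 D205240) F358326 F382690 (iv5 F395647) (iv0 F435831) F435830
theorem F479043 : act 4 n215250 = n213688 := d18_1 D215250 (iv1 D213688) F242871 (iv5 F365127) F365123 (iv0 F479035) (iv4 D215247) (iv0 D170857) D170860
theorem F479044 : act 3 n215250 = n194675 := d20_5 F112774 (iv1 F195596) F195594 (iv3 F268469) D215250 (iv4 D194675) (iv1 D103987) (iv4 F159434) F332728 F132160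
theorem F479045 : act 6 n215250 = n213421 := d21_5 (iv5 F399633) F420164 (iv5 D201359) (iv6 F372030) D215250 (iv5 D213421) (iv1 F378739) (iv5 F401753) (iv6 F439857) F439858
def n215251 : Q := act 1 n170860
theorem D215251 : act 1 n170860 = n215251 := rfl
theorem F479046 : act 5 n215251 = n205239 := d17_7 (iv1 F282841) F382705 (iv1 F327188) (iv5 D163413) (iv4 F126257) D170860 D215251 F474325 F474322
theorem F479047 : act 4 n215251 = n213687 := d17_9 (iv1 F471629) (iv5 F379340) F394374 (iv5 F413347) (iv4 F456347) (iv5 F456350) (iv0 D170857) D170860 D215251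
theorem F479048 : act 3 n201350 = n215251 := d19_19 (iv1 D215251) (iv5 D170860) F126257 (iv3 D78533) (iv1 F61687) D87312 F134053 (iv3 F140145) F293830 (iv5 D44853) (iv4 F70436) (iv3 D44843) F66211 D40358 D86946 D182041 F420101 (iv5 D201351) D201350
def n215252 : Q := act 1 n170865
theorem D215252 : act 1 n170865 = n215252 := rfl
theorem F479049 : act 1 n215252 = n199466 := d15_1 D215252 (iv7 F476347) F476343
theorem F479050 : act 4 n204722 = n215252 := d20_0 (iv1 D215252) F475949 (iv3 F475952) (iv1 F476318) (iv3 F476315) (iv4 F474484) F475982 (iv4 D214597) D214596 F475983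
theorem F479051 : act 3 n211125 = n215252 := d20_3 (iv4 F148280) F360457 (iv4 F460204) (iv1 D215252) (iv3 D170865) D170866 (iv1 F476590) (iv4 F476591) F413237 (iv1 D170836)
theorem F479052 : act 5 n211122 = n215252 := d21_6 F227014 (iv1 F164934) (iv5 F172041) (iv6 F340038) (iv1 F340037) D211122 (iv1 D215252) F401163 (iv6 D196586) (iv1 F227016)
theorem F479053 : act 6 n215252 = n211124 := d12_2 D211122 F479052 (iv5 D211124) (iv6 D140732) D140731
def n215253 : Q := act 5 n170866
theorem D215253 : act 5 n170866 = n215253 := rfl
theorem F479054 : act 2 n215253 = n215133 := d2_1 D215253 (iv5 D215133) (iv2 F268476)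
def n215254 : Q := act 6 n170866
theorem D215254 : act 6 n170866 = n215254 := rfl
theorem F479055 : act 2 n215254 = n209924 := d3_1 D215254 F455376 (iv2 F268476)
theorem F479056 : act 4 n215254 = n170868 := d10_1 D215254 (iv6 D170868) D170866
theorem F479057 : act 7 n215254 = n193939 := d14_2 F474269 D215254 F407206 F407202 (iv6 F474268)
theorem F479058 : act 5 n193940 = n215254 := d13_3 F479057 (iv5 D193939) D193940
theorem F479059 : act 1 n209925 = n215254 := d15_1 F455381 F479057 F391460
theorem F479060 : act 1 n215254 = n209911 := d15_1 F479059 F455335 (iv2 F455377)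
def n215255 : Q := act 0 n170868
theorem D215255 : act 0 n170868 = n215255 := rfl
theorem F479061 : act 4 n215255 = n198213 := d18_3 (iv1 F479060) F479056 D215255 F407245 F390851 (iv0 F408672) F408671 F390602 D209911
theorem F479062 : act 3 n215255 = n173967 := d20_5 (iv4 F173059) (iv1 F412296) F412294 F401164 D215255 (iv4 D173967) (iv1 F319510) D160544 (iv3 F405801) F405804
theorem F479063 : act 5 n215255 = n196487 := d21_8 (iv5 D191982) (iv1 F268289) (iv5 F366172) (iv6 F401149) (iv1 D196583) D196585 F401156 D215255 (iv6 F400810) F386588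
theorem F479064 : act 2 n178088 = n215255 := d15_3 (iv0 D215255) (iv0 F401157) F277623
theorem F479065 : act 6 n215255 = n178086 := d3_2 D178088 F479064 (iv2 D178086)
theorem F479066 : act 7 n215255 = n196845 := d4_2 F277623 F479064 F402030
theorem F479067 : act 1 n204831 = n215255 := d15_1 D204831 F479066 F402030
def n215256 : Q := act 7 n170868
theorem D215256 : act 7 n170868 = n215256 := rfl
theorem F479068 : act 2 n215256 = n204831 := d4_1 D215256 (iv7 F474275) F474272
theorem F479069 : act 3 n215256 = n196863 := d8_1 D215256 F402066 F401164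
theorem F479070 : act 4 n215256 = n193939 := d11_1 D215256 (iv7 F479057) F479056
theorem F479071 : act 5 n215256 = n214183 := d13_1 D215256 F473886 F401156
theorem F479072 : act 6 n215256 = n199458 := d14_1 D215256 F412277 F387535 (iv7 F262397) D170868
theorem F479073 : act 1 n196845 = n215256 := d15_1 (iv0 F474277) (iv7 D215256) (iv2 F474272)
theorem F479074 : act 1 n215256 = n178088 := d15_1 F479073 (iv7 F277623) (iv2 F402030)
def n215257 : Q := act 3 n170873
theorem D215257 : act 3 n170873 = n215257 := rfl
theorem F479075 : act 2 n215257 = n214177 := d0_1 D215257 F473865 (iv2 F474399) F474400 F474294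
theorem F479076 : act 5 n215257 = n199093 := d6_2 (iv5 F406487) D215257 F410631
theorem F479077 : act 7 n215257 = n214176 := d8_2 F474290 D215257 (iv3 F474285)
theorem F479078 : act 0 n211122 = n215257 := d17_0 F479076 (iv1 D199093) D199094 F410634 D206230 (iv0 F439826) (iv5 D183161) D183159 (iv4 F460195)
theorem F479079 : act 6 n200238 = n215257 := d21_5 (iv5 D107269) F104347 (iv5 F172245) D199187 (iv1 F415666) F479076 (iv1 D199093) D199094 F410633 F171952
def n215258 : Q := act 6 n170873
theorem D215258 : act 6 n170873 = n215258 := rfl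
theorem F479080 : act 3 n215258 = n200238 := d7_1 D215258 F479079 (iv3 D215257)
theorem F479081 : act 4 n215258 = n189748 := d10_1 D215258 (iv6 F468088) (iv4 F465254)
theorem F479082 : act 0 n215258 = n187818 := d21_4 (iv5 D157891) D157888 (iv5 F406487) D215258 (iv6 D187818) D187817 (iv1 F401152) F401151 D213117 F469083
theorem F479083 : act 5 n200237 = n215258 := d21_2 D187963 F415662 (iv6 D215258) F474284 F474280 (iv5 D197870) (iv1 F223530) (iv5 F450238) F450241 (iv1 D187962)
def n215259 : Q := act 3 n170874
theorem D215259 : act 3 n170874 = n215259 := rfl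
theorem F479084 : act 5 n215259 = n180437 := d6_2 F431914 D215259 F280822
theorem F479085 : act 6 n215259 = n193665 := d7_2 (iv6 F431915) D215259 (iv3 F390621)
theorem F479086 : act 7 n215259 = n214285 := d8_2 F474292 D215259 F474400
theorem F479087 : act 4 n215259 = n208453 := d20_6 (iv4 D183008) D183006 (iv4 F375761) (iv3 F474279) F474283 D215259 F449417 F383940 (iv3 F372821) F372818
theorem F479088 : act 2 n214284 = n215259 := d1_3 F479087 F449414 (iv4 F474396)
theorem F479089 : act 1 n180526 = n215259 := d17_8 F449417 (iv5 D191600) (iv1 F367747) (iv5 F385019) (iv4 F388708) F388709 (iv0 F253663) D180526 F479087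
theorem F479090 : act 0 n180533 = n215259 := d18_0 F479087 F449417 F383940 F248825 (iv4 F248737) (iv0 F254061) (iv4 F268477) (iv0 F268480) D180533
def n215260 : Q := act 0 n170875
theorem D215260 : act 0 n170875 = n215260 := rfl
theorem F479091 : act 5 n215260 = n188866 := d17_1 D215260 F375075 (iv5 D188001) D188000 (iv5 F376981) F280711 (iv5 F406487) (iv0 D170873) D170875
theorem F479092 : act 6 n215260 = n187820 := d21_5 (iv5 F444263) (iv1 F444266) (iv5 F346550) F363353 D215260 (iv5 F371610) (iv1 F369407) (iv5 F370775) F370776 (iv1 F370737)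
theorem F479093 : act 2 n188294 = n215260 := d15_3 (iv0 D215260) (iv0 F376961) (iv7 F373002)
theorem F479094 : act 1 n191345 = n215260 := d15_0 (iv0 D215260) (iv7 F375269) (iv2 F383138)
theorem F479095 : act 7 n215260 = n187900 := d15_2 D191345 F479094 F371785
def n215261 : Q := act 2 n170877
theorem D215261 : act 2 n170877 = n215261 := rfl
theorem F479096 : act 3 n215261 = n204971 := d0_2 D170877 D215261 F434388 (iv3 D203978) (iv2 F195616)
theorem F479097 : act 5 n215261 = n194146 := d2_2 (iv5 F268483) D215261 (iv2 D194146)
theorem F479098 : act 6 n215261 = n197661 := d3_2 (iv6 F363363) D215261 F405270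
theorem F479099 : act 0 n215261 = n198010 := d21_4 F332988 (iv1 F246649) D197661 (iv6 F479098) (iv6 D198010) (iv5 D108862) (iv1 D50267) D50269 D108869 F361295
def n215262 : Q := act 4 n170877
theorem D215262 : act 4 n170877 = n215262 := rfl
theorem F479100 : act 6 n215262 = n197668 := d10_2 (iv6 F363363) D215262 (iv4 D197668)
def n215263 : Q := act 7 n170878
theorem D215263 : act 7 n170878 = n215263 := rfl
theorem F479101 : act 2 n215263 = n204930 := d4_1 D215263 F434224 F430687
theorem F479102 : act 3 n215263 = n197669 := d8_1 D215263 (iv7 D197669) F363358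
theorem F479103 : act 5 n215263 = n197665 := d13_1 D215263 (iv7 D197665) (iv5 F363356)
theorem F479104 : act 1 n211393 = n215263 := d15_1 (iv0 F461390) (iv7 D215263) (iv2 F430687)
def n215264 : Q := act 2 n170879
theorem D215264 : act 2 n170879 = n215264 := rfl
theorem F479105 : act 5 n215264 = n214268 := d2_2 (iv5 F268484) D215264 (iv2 D214268)
theorem F479106 : act 7 n215264 = n204971 := d4_2 F430685 D215264 F434388
theorem F479107 : act 1 n215264 = n197889 := d15_0 (iv0 F430686) F430685 D215264
theorem F479108 : act 6 n215264 = n204411 := d21_5 (iv5 D50219) D50216 D108759 D197889 (iv1 F479107) F467948 (iv1 F412639) F412637 (iv6 D197913) (iv1 D108769)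
theorem F479109 : act 6 n215251 = n197918 := d21_3 F479105 (iv1 F474325) (iv5 F479046) (iv1 D197918) (iv6 D108771) (iv5 D50219) D50216 D108759 D197889 (iv1 F479107)
def n215265 : Q := act 4 n170879
theorem D215265 : act 4 n170879 = n215265 := rfl
theorem F479110 : act 3 n215265 = n204419 := d5_1 D215265 F432458 (iv3 D203978) F195614 D170879
theorem F479111 : act 7 n215265 = n204419 := d11_2 F430685 D215265 F432458
theorem F479112 : act 6 n204414 = n215265 := d7_0 F479110 (iv6 D204419) (iv3 F432440)
def n215266 : Q := act 6 n170879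
theorem D215266 : act 6 n170879 = n215266 := rfl
theorem F479113 : act 2 n215266 = n204411 := d3_1 D215266 (iv6 F479108) (iv2 D215264)
theorem F479114 : act 3 n215266 = n170880 := d7_1 D215266 (iv6 D170880) D170879
theorem F479115 : act 4 n215266 = n204414 := d10_1 D215266 F479112 (iv4 D215265)
theorem F479116 : act 5 n215266 = n213279 := d12_1 D215266 F469688 (iv5 F409184) F409185 (iv5 F268484)
theorem F479117 : act 7 n215266 = n204412 := d14_2 F430685 D215266 F467954 (iv7 F432457) (iv6 F432456)
theorem F479118 : act 1 n204415 = n215266 := d15_1 (iv0 F451463) F479117 F467952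
theorem F479119 : act 1 n215266 = n204413 := d15_1 F479118 (iv7 F467950) F467941
def n215267 : Q := act 7 n170880
theorem D215267 : act 7 n170880 = n215267 := rfl
theorem F479120 : act 3 n215267 = n204412 := d8_1 D215267 (iv7 F479117) F479114
theorem F479121 : act 4 n215267 = n204930 := d11_1 D215267 F434224 F430688
theorem F479122 : act 5 n215267 = n199564 := d13_1 D215267 (iv7 F448461) F448463
theorem F479123 : act 6 n215267 = n204930 := d14_1 D215267 F434224 (iv6 D203979) (iv7 F195617) D170880
theorem F479124 : act 0 n204562 = n215267 := d21_4 (iv5 F409206) F429728 F429726 (iv6 F432863) F479123 (iv5 D204930) F405285 F405282 (iv6 D187959) F351183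
def n215268 : Q := act 0 n171033
theorem D215268 : act 0 n171033 = n215268 := rfl
theorem F479125 : act 5 n215268 = n192814 := d17_3 D193548 F390220 D215268 F387881 (iv5 F388119) (iv0 F390973) (iv5 D193774) (iv0 D102315) (iv4 F314162)
theorem F479126 : act 4 n215268 = n213783 := d18_3 F383277 (iv4 F353801) D215268 (iv5 D213783) (iv4 F472064) (iv0 F472065) (iv4 D173365) D173364 (iv5 F383276)
theorem F479127 : act 3 n215268 = n212703 := d20_5 (iv4 F123434) (iv1 F194674) (iv4 F126394) (iv3 F268752) D215268 F467157 (iv1 F234306) D167836 (iv3 F301821) F301820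
theorem F479128 : act 6 n215268 = n204354 := d21_5 D162735 (iv1 F356164) (iv5 D171032) D171033 D215268 (iv5 D204354) (iv1 F389492) (iv5 D193334) (iv6 F356149) F306238
theorem F479129 : act 2 n192855 = n215268 := d15_3 (iv0 D215268) (iv0 F384813) F388031
theorem F479130 : act 1 n192857 = n215268 := d15_0 (iv0 D215268) (iv7 F429484) F429481
theorem F479131 : act 7 n215268 = n191366 := d15_2 F388035 F479130 F383222
def n215269 : Q := act 2 n171064
theorem D215269 : act 2 n171064 = n215269 := rfl
theorem F479132 : act 3 n215269 = n199621 := d0_2 D171064 D215269 F412877 F173044 (iv2 F341320)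
theorem F479133 : act 4 n215269 = n194966 := d1_2 (iv4 F363325) D215269 (iv2 F395208)
theorem F479134 : act 5 n215269 = n171068 := d2_2 (iv5 F363323) D215269 (iv2 F353989)
theorem F479135 : act 6 n215269 = n198790 := d3_2 (iv6 F363326) D215269 (iv2 D198790)
theorem F479136 : act 7 n215269 = n199646 := d4_2 F363324 D215269 (iv2 F412977)
theorem F479137 : act 1 n215269 = n199647 := d15_0 F412983 F363324 D215269
theorem F479138 : act 1 n198012 = n215269 := d15_0 F479137 F412982 (iv2 F406505)
def n215270 : Q := act 4 n171090
theorem D215270 : act 4 n171090 = n215270 := rfl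
def n215271 : Q := act 6 n171091
theorem D215271 : act 6 n171091 = n215271 := rfl
theorem F479139 : act 2 n215271 = n192986 := d3_1 D215271 (iv6 D192986) (iv2 F268813)
theorem F479140 : act 3 n215271 = n171094 := d7_1 D215271 (iv6 D171094) D171091
theorem F479141 : act 4 n215271 = n192579 := d10_1 D215271 (iv6 D192579) F268814
theorem F479142 : act 0 n215271 = n207337 := d21_10 F471523 (iv1 D213664) (iv5 D154629) F304372 (iv1 F115001) D160095 (iv5 F454215) F454218 F431425 D215271
def n215272 : Q := act 3 n171098
theorem D215272 : act 3 n171098 = n215272 := rfl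
theorem F479143 : act 2 n215272 = n191755 := d0_1 D215272 F384355 (iv2 F280316) F357856 F357858
theorem F479144 : act 4 n215272 = n192591 := d5_2 F464034 D215272 F402779 (iv4 F402776) (iv3 F464031)
theorem F479145 : act 5 n215272 = n177823 := d6_2 (iv5 F357859) D215272 F277349
theorem F479146 : act 7 n215272 = n191752 := d8_2 F357860 D215272 F384354
theorem F479147 : act 0 n215272 = n204514 := d19_4 F366608 D212030 F464034 D215272 F432777 F209461 (iv3 D107941) (iv1 F107944) (iv5 F320826) D193396 (iv3 F450639) F450642 (iv5 F379608) F379607 (iv3 F293106) (iv1 F373507) (iv5 F395338) (iv4 F443823) F443822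
theorem F479148 : act 1 n215272 = n192030 := d15_1 (iv0 F479147) (iv7 F385279) (iv2 F432775)
def n215273 : Q := act 4 n171099
theorem D215273 : act 4 n171099 = n215273 := rfl
theorem F479149 : act 2 n215273 = n204186 := d1_1 D215273 (iv4 D204186) (iv2 F357861)
theorem F479150 : act 3 n215273 = n201766 := d5_1 D215273 (iv4 F441465) (iv3 F441464) (iv4 D192994) F280328
theorem F479151 : act 6 n215273 = n201484 := d10_2 F364656 D215273 F420678
theorem F479152 : act 7 n215273 = n204189 := d11_2 F357857 D215273 (iv4 D204189)
theorem F479153 : act 5 n215273 = n207204 := d16_5 (iv4 F337849) (iv5 D135320) (iv4 F319773) F305153 D215273 F443788 (iv5 F465204) F465205 F323423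
def n215274 : Q := act 0 n171100
theorem D215274 : act 0 n171100 = n215274 := rfl
theorem F479154 : act 5 n215274 = n202878 := d17_1 D215274 (iv1 F426000) (iv5 F431336) (iv4 D204174) (iv5 D123097) D123096 (iv5 F357859) (iv0 D171098) D171100
theorem F479155 : act 4 n215274 = n214223 := d18_3 (iv1 D171099) D171100 D215274 (iv5 D214223) F354637 F127914 (iv4 F90374) F197291 F305153
theorem F479156 : act 3 n215274 = n212302 := d20_5 D188935 F413456 (iv4 F374509) F374508 D215274 F465229 F465031 (iv4 F465173) F465172 (iv1 F374320)
theorem F479157 : act 6 n215274 = n202880 := d21_5 (iv5 F145583) F145586 F239750 F345122 D215274 (iv5 D202880) D202879 F426002 (iv6 D189008) F159978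
theorem F479158 : act 2 n192799 = n215274 := d15_3 (iv0 D215274) (iv0 F387472) (iv7 F387819)
theorem F479159 : act 1 n207368 = n215274 := d15_0 (iv0 D215274) (iv7 F452200) F452196
theorem F479160 : act 7 n215274 = n212299 := d15_2 (iv0 F444544) F479159 F465215
def n215275 : Q := act 6 n171103
theorem D215275 : act 6 n171103 = n215275 := rfl
theorem F479161 : act 2 n215275 = n191993 := d3_1 D215275 (iv6 D191993) (iv2 F268827)
theorem F479162 : act 3 n215275 = n171105 := d7_1 D215275 (iv6 D171105) D171103
theorem F479163 : act 4 n215275 = n190580 := d10_1 D215275 (iv6 D190580) (iv4 F268828)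
theorem F479164 : act 5 n215275 = n203118 := d12_1 D215275 F427045 (iv5 F355573) F355601 F335348
theorem F479165 : act 7 n215275 = n192078 := d14_2 (iv7 F268829) D215275 (iv6 F385450) (iv7 F370979) F370982
theorem F479166 : act 0 n215275 = n192080 := d21_4 F379627 F237951 F335348 D215275 F385465 (iv5 F474808) F474810 F448877 (iv6 F420758) F420755
theorem F479167 : act 0 n192074 = n215275 := d21_4 (iv5 D193584) (iv1 F385436) (iv5 D192073) D192074 (iv6 D215275) (iv5 F335348) (iv1 F237954) (iv5 F379628) (iv6 F384669) (iv1 F390348)
def n215276 : Q := act 6 n171106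
theorem D215276 : act 6 n171106 = n215276 := rfl
theorem F479168 : act 2 n215276 = n192219 := d3_1 D215276 (iv6 D192219) (iv2 F345050)
theorem F479169 : act 3 n215276 = n191999 := d7_1 D215276 (iv6 D191999) F345054
theorem F479170 : act 4 n215276 = n202476 := d10_1 D215276 (iv6 D202476) F345049
theorem F479171 : act 5 n215276 = n193834 := d12_1 D215276 (iv6 D193834) F356392 F356389 F345044
theorem F479172 : act 7 n215276 = n208427 := d14_2 (iv7 F345058) D215276 (iv6 D208427) F386062 (iv6 D192220)
theorem F479173 : act 0 n215276 = n199767 := d21_4 F373360 (iv1 F345047) F345044 D215276 (iv6 D199767) F366010 (iv1 F409141) F409137 (iv6 D192218) (iv1 F373362)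
theorem F479174 : act 0 n199800 = n215276 := d21_4 (iv5 F253226) F390553 F332959 D199800 (iv6 D215276) (iv5 F345044) (iv1 D103956) (iv5 F292868) D188374 F373203
def n215277 : Q := act 6 n171132
theorem D215277 : act 6 n171132 = n215277 := rfl
theorem F479175 : act 3 n215277 = n204045 := d7_1 D215277 F430883 F268870
theorem F479176 : act 4 n215277 = n171134 := d10_1 D215277 (iv6 D171134) D171132
theorem F479177 : act 5 n215277 = n215232 := d12_1 D215277 F478974 F452741 D209261 F452951
theorem F479178 : act 7 n215277 = n215271 := d14_2 F384709 D215277 (iv6 D215271) (iv7 F286425) F384711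
theorem F479179 : act 0 n210867 = n215277 := d19_0 F479177 F478973 F288333 (iv1 F288324) (iv5 D185868) (iv4 F159055) (iv3 D103652) (iv1 F76051) D104623 D194826 (iv3 F394633) (iv1 F431244) F431241 (iv4 D169883) F341103 (iv1 D65724) D65725 D140008 D210867
def n215278 : Q := act 1 n171152
theorem D215278 : act 1 n171152 = n215278 := rfl
theorem F479180 : act 1 n215278 = n199542 := d15_1 D215278 (iv7 F457268) F457265
theorem F479181 : act 7 n215278 = n184568 := d15_2 (iv0 F386081) D215278 (iv2 F386080)
theorem F479182 : act 5 n215278 = n184569 := d17_7 (iv1 F159717) F159714 (iv1 F75771) D87792 (iv4 F338865) (iv5 F338866) D215278 F286558 (iv4 D184054)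
theorem F479183 : act 4 n215278 = n178901 := d17_9 F341163 (iv5 D124868) (iv1 F200396) (iv5 F432452) (iv4 D204418) (iv5 D123772) D123770 (iv5 F338866) D215278
theorem F479184 : act 2 n199553 = n215278 := d1_3 F479183 (iv2 F405548) (iv4 F412643)
theorem F479185 : act 6 n200044 = n215278 := d10_0 F479183 F405532 (iv4 F414752)
def n215279 : Q := act 4 n171173
theorem D215279 : act 4 n171173 = n215279 := rfl
theorem F479186 : act 2 n215279 = n187048 := d1_1 D215279 (iv4 D187048) F356426
theorem F479187 : act 5 n215279 = n204438 := d9_2 D171173 D215279 F432537 (iv5 F429533) F329682 (iv5 D82039) (iv4 F335618) D86987 D182182 (iv5 F432530) F432531 F429527 F329907 (iv5 D82034) D82033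
theorem F479188 : act 1 n215279 = n204020 := d18_6 (iv1 D46028) F34494 D37593 D82033 D171173 D215279 F430838 F369210 (iv5 D98391)
def n215280 : Q := act 6 n171173
theorem D215280 : act 6 n171173 = n215280 := rfl
theorem F479189 : act 2 n215280 = n187049 := d3_1 D215280 (iv6 D187049) F356426
theorem F479190 : act 5 n215280 = n193279 := d12_1 D215280 (iv6 D193279) F356436 (iv6 D171174) D171173
theorem F479191 : act 0 n203200 = n215280 := d21_4 F329806 D134242 D208378 F449132 (iv6 D215280) (iv5 D171173) (iv1 F335655) D182176 (iv6 F429585) (iv1 F429586)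
def n215281 : Q := act 4 n171183
theorem D215281 : act 4 n171183 = n215281 := rfl
theorem F479192 : act 2 n215281 = n177892 := d1_1 D215281 (iv4 D177892) F277421
theorem F479193 : act 7 n215281 = n177889 := d11_2 F277424 D215281 (iv4 D177889)
theorem F479194 : act 0 n215281 = n192216 := d17_0 (iv5 F469342) F469345 (iv5 D194084) (iv4 D102664) (iv5 D47615) F289723 D84634 (iv0 F268930) D215281
theorem F479195 : act 1 n215281 = n193827 := d18_6 F343263 F356399 F356430 F268920 D171183 D215281 (iv4 D193827) F336767 (iv5 F137187)
def n215282 : Q := act 4 n172016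
theorem D215282 : act 4 n172016 = n215282 := rfl
theorem F479196 : act 2 n215282 = n173410 := d1_1 D215282 (iv4 D173410) (iv2 F270071)
theorem F479197 : act 3 n215282 = n194377 := d5_1 D215282 F392982 (iv3 F392606) F392604 (iv3 F357777)
theorem F479198 : act 6 n215282 = n204986 := d10_2 F368271 D215282 F434463
theorem F479199 : act 7 n215282 = n202370 := d11_2 F477042 D215282 (iv4 F477040)
theorem F479200 : act 5 n215282 = n194376 := d16_1 D215282 F392979 (iv5 F245562) (iv4 F473238) F473239 F271874 (iv5 F271878) (iv7 D173411) (iv2 F270071)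
theorem F479201 : act 0 n215282 = n203952 := d18_2 F340646 D215282 F430556 (iv5 F345835) (iv4 F351958) (iv0 D100087) D100090 (iv0 F155902) F340647
theorem F479202 : act 1 n215282 = n212624 := d18_6 F334245 D173962 (iv1 F314197) F270069 D172016 D215282 F466750 F430566 F430563
def n215283 : Q := act 5 n172019
theorem D215283 : act 5 n172019 = n215283 := rfl
theorem F479203 : act 2 n215283 = n213746 := d2_1 D215283 F471898 F357111
theorem F479204 : act 3 n215283 = n172021 := d6_1 D215283 (iv5 D172021) D172019
theorem F479205 : act 6 n215283 = n203517 := d12_2 (iv6 F335263) D215283 F428662 (iv6 D120212) D120211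
theorem F479206 : act 1 n215283 = n197099 := d17_6 (iv1 F444978) (iv5 F457312) (iv1 F457315) (iv5 F340798) F276452 D215283 (iv5 F438699) F447339 F447336
def n215284 : Q := act 5 n172020
theorem D215284 : act 5 n172020 = n215284 := rfl
theorem F479207 : act 2 n215284 = n191501 := d2_1 D215284 F383590 F340205
theorem F479208 : act 6 n215284 = n213251 := d12_2 (iv6 F462575) D215284 (iv5 F472838) (iv6 F462577) F462576
theorem F479209 : act 7 n215284 = n191495 := d13_2 (iv7 F340207) D215284 (iv5 D191495)
theorem F479210 : act 4 n215284 = n213253 := d16_6 (iv4 F167083) D197278 F403818 (iv5 D172021) D172020 D215284 F472597 (iv7 D213890) F245145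
theorem F479211 : act 0 n215284 = n191500 := d17_2 F340204 D215284 (iv5 F468572) F468573 (iv5 F453406) (iv0 F453409) F429261 F340197 (iv4 F340200)
theorem F479212 : act 1 n215284 = n191499 := d17_6 F447406 (iv5 F476372) (iv1 F476376) (iv5 D172021) D172020 D215284 (iv5 F444454) (iv0 F444457) (iv4 F445003)
def n215285 : Q := act 4 n172026
theorem D215285 : act 4 n172026 = n215285 := rfl
theorem F479213 : act 6 n215285 = n205028 := d10_2 (iv6 F366671) D215285 (iv4 F434682)
theorem F479214 : act 7 n215285 = n206000 := d11_2 F392766 D215285 F438777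
theorem F479215 : act 0 n215285 = n203180 := d18_2 F428843 D215285 F427336 F359169 (iv4 F444453) (iv0 F444457) (iv4 F445003) (iv0 F445006) (iv5 F428841)
theorem F479216 : act 1 n215285 = n205990 := d18_6 F383586 (iv4 D191497) (iv1 D98464) F315046 D172026 D215285 (iv4 F453405) (iv0 F453409) F429261
def n215286 : Q := act 3 n172028
theorem D215286 : act 3 n172028 = n215286 := rfl
theorem F479217 : act 2 n215286 = n194302 := d0_1 D215286 (iv3 D194302) (iv2 F392468) (iv3 F428541) (iv2 F428543)
theorem F479218 : act 5 n215286 = n211983 := d6_2 F474601 D215286 (iv3 F474599)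
theorem F479219 : act 6 n215286 = n205968 := d7_2 (iv6 F409441) D215286 F438643
theorem F479220 : act 7 n215286 = n205953 := d8_2 F428548 D215286 F447320
theorem F479221 : act 0 n215286 = n205984 := d20_4 D214771 F476763 F460848 D215286 F438695 F432146 (iv1 D195932) (iv4 F389515) F389513 F353997
theorem F479222 : act 0 n205827 = n215286 := d20_4 (iv4 F48536) D63982 (iv4 F203791) D205827 (iv3 D215286) (iv4 F460848) (iv1 F460850) F397053 (iv3 D126911) F166134
def n215287 : Q := act 6 n172029
theorem D215287 : act 6 n172029 = n215287 := rfl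
theorem F479223 : act 2 n215287 = n195312 := d3_1 D215287 (iv6 F447321) F428550
theorem F479224 : act 3 n215287 = n194297 := d7_1 D215287 (iv6 D194297) (iv3 F366651)
theorem F479225 : act 4 n215287 = n195310 := d10_1 D215287 (iv6 F460864) F460863
theorem F479226 : act 5 n215287 = n206758 := d12_1 D215287 (iv6 D206758) F211042 D131666 F366650
theorem F479227 : act 7 n215287 = n195309 := d14_2 (iv7 F428545) D215287 F396667 (iv7 F224405) (iv6 F428542)
theorem F479228 : act 0 n215287 = n205907 := d21_10 (iv5 D205907) (iv1 D126748) D126749 F203972 D126756 D205911 (iv5 F445001) (iv1 D207453) F366650 D215287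
theorem F479229 : act 1 n215287 = n202312 := d15_1 (iv0 F479228) F423594 (iv2 F438367)
def n215288 : Q := act 6 n172031
theorem D215288 : act 6 n172031 = n215288 := rfl
theorem F479230 : act 3 n215288 = n172053 := d7_1 D215288 (iv6 D172053) (iv3 F270081)
theorem F479231 : act 5 n215288 = n173537 := d12_1 D215288 (iv6 D173537) F127937 (iv6 F126904) (iv5 F270082)
theorem F479232 : act 7 n215288 = n193421 := d14_2 D172031 D215288 (iv6 D193421) (iv7 D101623) (iv6 F126902)
theorem F479233 : act 0 n214527 = n215288 := d21_4 (iv5 F403560) F403561 F354245 (iv6 F475631) (iv6 D215288) F270082 (iv1 F187741) D203492 (iv6 F465535) F465536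
def n215289 : Q := act 4 n172085
theorem D215289 : act 4 n172085 = n215289 := rfl
theorem F479234 : act 2 n215289 = n198338 := d1_1 D215289 F407658 F387873
theorem F479235 : act 3 n215289 = n211037 := d5_1 D215289 (iv4 F478296) F478297 (iv4 D194936) F387876
theorem F479236 : act 0 n215289 = n198226 := d20_1 D215289 F407277 (iv3 D185460) (iv1 F135294) (iv3 F74563) (iv4 F327386) F54890 D37804 D82417 D172085
theorem F479237 : act 5 n210916 = n215289 := d6_0 F479235 (iv5 D211037) F459273
theorem F479238 : act 6 n198203 = n215289 := d7_0 F479235 F459835 (iv3 F413295)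
def n215290 : Q := act 6 n172085
theorem D215290 : act 6 n172085 = n215290 := rfl
theorem F479239 : act 2 n215290 = n198336 := d3_1 D215290 (iv6 F407651) F387873
theorem F479240 : act 3 n215290 = n194937 := d7_1 D215290 (iv6 D194937) F387876
theorem F479241 : act 4 n215290 = n198203 := d10_1 D215290 F479238 (iv4 D215289)
theorem F479242 : act 5 n215290 = n176946 := d12_1 D215290 (iv6 D176946) D176945 (iv6 F364455) (iv5 F387874)
theorem F479243 : act 0 n215290 = n209298 := d21_4 F359242 F289677 (iv5 F387874) D215290 (iv6 D209298) (iv5 F416231) F416230 F219347 (iv6 F413752) F413754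
theorem F479244 : act 0 n198212 = n215290 := d21_4 (iv5 F245014) (iv1 F407241) (iv5 D198211) D198212 (iv6 D215290) F387874 (iv1 F289648) D191986 F406480 F406478
def n215291 : Q := act 4 n172086
theorem D215291 : act 4 n172086 = n215291 := rfl
theorem F479245 : act 3 n215291 = n198156 := d5_1 D215291 F407016 (iv3 F415884) F415887 F392553
theorem F479246 : act 7 n215291 = n198338 := d11_2 F387870 D215291 F407658
theorem F479247 : act 5 n215291 = n202439 := d16_1 D215291 F423996 D210551 F458005 (iv5 D189911) (iv4 F160529) (iv5 F387874) F387875 F387862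
theorem F479248 : act 1 n215291 = n198226 := d18_6 F70054 (iv4 F70107) D95435 D189909 F378201 D215291 F407277 (iv0 F287720) (iv5 D95355)
def n215292 : Q := act 1 n172088
theorem D215292 : act 1 n172088 = n215292 := rfl
theorem F479249 : act 1 n215292 = n186907 := d15_1 D215292 F380925 F380921
theorem F479250 : act 4 n215292 = n190115 := d17_9 F378893 (iv5 F287608) F378210 (iv5 D189911) (iv4 F160529) (iv5 F387874) (iv0 D172085) D172088 D215292
theorem F479251 : act 5 n215292 = n192813 := d18_9 (iv1 D192813) (iv4 F359241) (iv1 F378273) (iv4 D189926) (iv5 F150258) (iv4 F368445) F368448 (iv4 F356199) D215292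
theorem F479252 : act 3 n187232 = n215292 := d20_3 D199940 F414240 (iv4 F369578) (iv1 D215292) F270227 (iv4 F335328) F356188 (iv4 F157049) F324881 D112028
theorem F479253 : act 2 n215292 = n190275 := d0_1 F479252 F379258 (iv2 F283802) F283803 (iv2 F369577)
theorem F479254 : act 6 n215292 = n186754 := d7_2 D187232 F479252 (iv3 F367892)
theorem F479255 : act 0 n214687 = n215225 := d21_1 D214687 (iv5 D215225) F474422 (iv1 F474420) (iv6 F407247) F394581 (iv1 F479249) F479251 (iv6 F476392) (iv1 D214685)
def n215293 : Q := act 7 n172088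
theorem D215293 : act 7 n172088 = n215293 := rfl
theorem F479256 : act 2 n215293 = n186907 := d4_1 D215293 F380925 F380921
theorem F479257 : act 3 n215293 = n172094 := d8_1 D215293 (iv7 D172094) (iv3 F270227)
theorem F479258 : act 4 n215293 = n186893 := d11_1 D215293 F368434 (iv4 F356199)
theorem F479259 : act 5 n215293 = n172089 := d13_1 D215293 (iv7 D172089) D172088
theorem F479260 : act 1 n190275 = n215293 := d15_1 (iv0 F380926) (iv7 D215293) (iv2 F380921)
def n215294 : Q := act 5 n172097
theorem D215294 : act 5 n172097 = n215294 := rfl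
theorem F479261 : act 2 n215294 = n214594 := d2_1 D215294 F475964 F412232
theorem F479262 : act 6 n215294 = n214593 := d12_2 F413188 D215294 (iv5 D214593) (iv6 F336020) (iv5 F413187)
def n215295 : Q := act 4 n172105
theorem D215295 : act 4 n172105 = n215295 := rfl
theorem F479263 : act 2 n215295 = n172108 := d1_1 D215295 (iv4 D172108) (iv2 F270250)
theorem F479264 : act 7 n215295 = n194205 := d11_2 (iv7 F270252) D215295 F392374
theorem F479265 : act 0 n215295 = n194204 := d17_0 (iv5 F474468) (iv1 D189473) (iv5 D93979) (iv4 F69444) (iv5 F293691) D164075 (iv5 F380920) F270253 D215295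
theorem F479266 : act 1 n215295 = n194203 := d15_0 (iv0 D194203) (iv7 F270258) (iv2 F479263)
def n215296 : Q := act 4 n172106
theorem D215296 : act 4 n172106 = n215296 := rfl
theorem F479267 : act 2 n215296 = n194221 := d1_1 D215296 (iv4 D194221) (iv2 F413686)
theorem F479268 : act 7 n215296 = n194216 := d11_2 (iv7 F413688) D215296 (iv4 D194216)
def n215297 : Q := act 6 n172106
theorem D215297 : act 6 n172106 = n215297 := rfl
theorem F479269 : act 2 n215297 = n194222 := d3_1 D215297 (iv6 D194222) (iv2 F413686)
theorem F479270 : act 0 n215297 = n214987 := d21_4 F142018 D158031 (iv5 F413687) D215297 (iv6 D214987) F258641 (iv1 F297274) D203878 F430199 (iv1 D188511)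
def n215298 : Q := act 4 n172107
theorem D215298 : act 4 n172107 = n215298 := rfl
theorem F479271 : act 2 n215298 = n194216 := d1_1 D215298 (iv4 D194216) (iv2 F413678)
theorem F479272 : act 7 n215298 = n194221 := d11_2 (iv7 F413679) D215298 (iv4 D194221)
def n215299 : Q := act 6 n172107
theorem D215299 : act 6 n172107 = n215299 := rfl
theorem F479273 : act 2 n215299 = n194218 := d3_1 D215299 (iv6 D194218) (iv2 F413678)
theorem F479274 : act 3 n215299 = n190337 := d7_1 D215299 (iv6 F413713) F413712
theorem F479275 : act 5 n215299 = n186974 := d12_1 D215299 F368726 F245014 (iv6 F365578) (iv5 F365634)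
theorem F479276 : act 7 n200272 = n215299 := d13_0 F479275 (iv7 F449582) F449586
def n215300 : Q := act 0 n172108
theorem D215300 : act 0 n172108 = n215300 := rfl
theorem F479277 : act 5 n215300 = n189258 := d17_1 D215300 (iv1 F376643) (iv5 D189471) (iv4 F145484) F367159 F258572 (iv5 F413687) (iv0 D172106) D172108
theorem F479278 : act 4 n215300 = n191253 := d18_3 (iv1 D172107) D172108 D215300 (iv5 F477500) (iv4 D214931) (iv0 D163938) F119921 D158032 (iv5 F365634)
theorem F479279 : act 1 n194205 = n215300 := d15_0 (iv0 D215300) F270258 D194205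
theorem F479280 : act 2 n194204 = n215300 := d1_3 F479278 (iv2 F382764) F392373
theorem F479281 : act 2 n189258 = n189473 := d2_3 F474468 F479280 F479277
theorem F479282 : act 7 n194203 = n215300 := d15_2 (iv0 F479265) F479266 (iv2 F479280)
theorem F479283 : act 7 n189258 = n189472 := d13_2 F479282 F479277 (iv5 F413685)
theorem F479284 : act 2 n189472 = n189259 := d15_3 F376642 F376643 F479283
theorem F479285 : act 7 n189473 = n189259 := d4_2 (iv7 F479283) F479281 (iv2 F479284)
def n215301 : Q := act 1 n172108
theorem D215301 : act 1 n172108 = n215301 := rfl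
theorem F479286 : act 1 n215301 = n194205 := d15_1 D215301 (iv7 F479264) F479263
theorem F479287 : act 7 n215301 = n194204 := d15_2 (iv0 D215300) D215301 F479280
theorem F479288 : act 4 n215301 = n191254 := d17_9 (iv1 D191254) F358420 F430961 F430960 (iv4 D189461) D189462 F430967 F376467 D215301
theorem F479289 : act 5 n189259 = n215301 := d19_1 (iv1 F376642) F479288 (iv3 F382762) (iv1 D190025) F364274 F261154 (iv3 F194393) (iv1 F194398) (iv5 F337766) (iv4 F378166) (iv3 F380847) (iv1 F380852) (iv5 F377947) (iv4 F455802) F455801 (iv1 F258569) (iv5 F373775) (iv4 F376626) (iv3 F376640)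
theorem F479290 : act 2 n215301 = n194203 := d2_1 F479289 F413685 F479284
def n215302 : Q := act 6 n172108
theorem D215302 : act 6 n172108 = n215302 := rfl
theorem F479291 : act 3 n215302 = n185911 := d7_1 D215302 F288407 (iv3 F294677)
theorem F479292 : act 4 n215302 = n172109 := d10_1 D215302 (iv6 D172109) D172108
theorem F479293 : act 0 n215302 = n191248 := d21_10 F382747 (iv1 F376636) D189561 F376885 F447753 (iv6 D189468) D189467 (iv1 F377576) F376467 D215302
theorem F479294 : act 1 n215302 = n191250 := d15_1 (iv0 F479293) F382757 (iv2 F382746)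
def n215303 : Q := act 7 n172109
theorem D215303 : act 7 n172109 = n215303 := rfl
theorem F479295 : act 2 n215303 = n189958 := d4_1 D215303 (iv7 F380917) F380915
theorem F479296 : act 3 n215303 = n172112 := d8_1 D215303 (iv7 D172112) (iv3 F270259)
theorem F479297 : act 5 n215303 = n172219 := d13_1 D215303 (iv7 F375662) F375660
theorem F479298 : act 6 n215303 = n194225 := d14_1 D215303 (iv7 D194225) (iv6 D103002) (iv7 F126985) D172109
theorem F479299 : act 1 n214982 = n215303 := d15_1 (iv0 F477751) (iv7 D215303) (iv2 F380915)
theorem F479300 : act 1 n215303 = n190380 := d15_1 F479299 (iv7 F463302) (iv2 F477747)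
def n215304 : Q := act 6 n172111
theorem D215304 : act 6 n172111 = n215304 := rfl
theorem F479301 : act 2 n215304 = n176946 := d3_1 D215304 (iv6 D176946) (iv2 F365438)
theorem F479302 : act 3 n215304 = n198363 := d7_1 D215304 F407767 F370229
theorem F479303 : act 4 n215304 = n200363 := d10_1 D215304 F444740 (iv4 F364461)
theorem F479304 : act 5 n215304 = n198336 := d12_1 D215304 (iv6 F407651) (iv5 D192811) (iv6 F370223) (iv5 F370225)
theorem F479305 : act 0 n215304 = n200366 := d21_4 (iv5 D188212) (iv1 F370226) (iv5 F370225) D215304 (iv6 D200366) F376411 (iv1 F377265) (iv5 D189652) D189653 (iv1 F377275)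
def n215305 : Q := act 5 n172207
theorem D215305 : act 5 n172207 = n215305 := rfl
theorem F479306 : act 2 n215305 = n186755 := d2_1 D215305 (iv5 D186755) (iv2 F270401)
theorem F479307 : act 3 n215305 = n186746 := d6_1 D215305 (iv5 D186746) (iv3 F270402)
theorem F479308 : act 7 n215305 = n186889 := d13_2 (iv7 F364384) D215305 (iv5 D186889)
theorem F479309 : act 0 n215305 = n190279 := d17_2 (iv1 F364382) D215305 F390384 F390379 (iv5 F421261) F421263 F357338 D186669 (iv4 F367604)
theorem F479310 : act 1 n215305 = n190238 := d17_6 (iv1 D47377) D47378 F335733 F300577 (iv4 F270403) D215305 F387932 (iv0 F387930) (iv4 D102001)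
def n215306 : Q := act 5 n172212
theorem D215306 : act 5 n172212 = n215306 := rfl
theorem F479311 : act 2 n215306 = n191327 := d2_1 D215306 (iv5 D191327) (iv2 F270414)
theorem F479312 : act 3 n215306 = n172215 := d6_1 D215306 (iv5 D172215) (iv3 F270415)
theorem F479313 : act 6 n215306 = n212626 := d12_2 D172212 D215306 (iv5 D212626) F320003 (iv5 F127115)
def n215307 : Q := act 4 n172215
theorem D215307 : act 4 n172215 = n215307 := rfl
theorem F479314 : act 2 n215307 = n186750 := d1_1 D215307 (iv4 D186750) (iv2 F270418)
theorem F479315 : act 7 n215307 = n191450 := d11_2 F390946 D215307 (iv4 F390950)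
theorem F479316 : act 5 n215307 = n193946 := d17_5 (iv1 F390688) F390686 (iv1 D172214) D172215 D215307 F411805 D193964 F391540 F369236
def n215308 : Q := act 5 n172223
theorem D215308 : act 5 n172223 = n215308 := rfl
theorem F479317 : act 2 n215308 = n198196 := d2_1 D215308 F407189 (iv2 F270435)
theorem F479318 : act 3 n215308 = n172224 := d6_1 D215308 (iv5 D172224) D172223
theorem F479319 : act 7 n215308 = n208313 := d13_2 F284880 D215308 F448877
theorem F479320 : act 0 n215308 = n206965 := d17_2 F270438 D215308 (iv5 F442766) (iv4 D194999) (iv5 F360341) F360339 (iv5 D95532) D95530 (iv4 F152031)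
theorem F479321 : act 1 n215308 = n191678 := d17_6 (iv1 D181880) (iv5 F294505) F382611 (iv5 D191215) (iv4 F270436) D215308 F384111 (iv0 F380742) F283981
theorem F479322 : act 4 n215308 = n206750 := d18_5 F295197 F294733 D97408 (iv4 F270436) D215308 F442051 (iv4 D182599) (iv0 F295122) (iv5 D89057)
def n215309 : Q := act 6 n172224
theorem D215309 : act 6 n172224 = n215309 := rfl
theorem F479323 : act 2 n215309 = n208314 := d3_1 D215309 (iv6 D208314) F365636
theorem F479324 : act 4 n215309 = n188759 := d10_1 D215309 (iv6 F465595) F465594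
theorem F479325 : act 0 n215309 = n188763 := d21_4 F339513 F294217 D172224 D215309 (iv6 D188763) (iv5 F160121) (iv1 F365799) (iv5 F365797) (iv6 F361757) (iv1 F361752)
theorem F479326 : act 0 n193569 = n215309 := d21_4 F304190 (iv1 F432183) (iv5 D204354) (iv6 F390305) (iv6 D215309) (iv5 D172224) (iv1 D82488) D82489 F127124 D101481
def n215310 : Q := act 3 n172227
theorem D215310 : act 3 n172227 = n215310 := rfl
theorem F479327 : act 2 n215310 = n199570 := d0_1 D215310 (iv3 D199570) (iv2 F172926) (iv3 F361231) (iv2 F270494)
theorem F479328 : act 5 n215310 = n190641 := d6_2 F357389 D215310 F380424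
theorem F479329 : act 7 n215310 = n208769 := d8_2 F375726 D215310 F450783
theorem F479330 : act 0 n215310 = n190956 := d19_4 (iv1 F376309) (iv5 F447460) F447461 D215310 (iv5 D190956) F149771 F71567 F293690 (iv5 F138381) (iv4 F292577) (iv3 F376279) (iv1 F376281) (iv5 D94009) F305030 (iv3 F305034) (iv1 F147157) D189991 (iv4 F378481) (iv3 D189563)
theorem F479331 : act 0 n191677 = n215310 := d20_4 F221292 (iv1 F357343) F357344 (iv3 F384106) (iv3 D215310) (iv4 F447461) (iv1 F447465) F376908 (iv3 F383522) F383525
def n215311 : Q := act 5 n172228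
theorem D215311 : act 5 n172228 = n215311 := rfl
theorem F479332 : act 2 n215311 = n189439 := d2_1 D215311 F394393 (iv2 F394394)
theorem F479333 : act 3 n215311 = n190400 := d6_1 D215311 (iv5 F441597) F441594
theorem F479334 : act 0 n215311 = n189490 := d17_2 (iv1 F394400) D215311 F376673 (iv4 F364804) F147039 (iv0 F294755) D190113 (iv0 F378884) (iv4 F394397)
theorem F479335 : act 6 n215311 = n187901 := d21_3 (iv5 F394398) (iv1 F394400) D215311 (iv1 F371793) (iv6 F376238) F376237 (iv1 F376572) (iv5 F376574) (iv6 D189401) (iv1 F376223)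
def n215312 : Q := act 5 n172314
theorem D215312 : act 5 n172314 = n215312 := rfl
theorem F479336 : act 2 n215312 = n204098 := d2_1 D215312 (iv5 D204098) (iv2 F270556)
theorem F479337 : act 3 n215312 = n177655 := d6_1 D215312 F342120 (iv3 F270557)
theorem F479338 : act 7 n215312 = n208919 := d13_2 (iv7 F363860) D215312 (iv5 D208919)
theorem F479339 : act 0 n215312 = n186626 := d17_2 (iv1 F366863) D215312 (iv5 D186626) (iv4 F268250) F340241 F353091 F353095 D203446 (iv4 F428343)
theorem F479340 : act 1 n215312 = n208941 := d17_6 (iv1 F330206) (iv5 D134678) F308711 F307460 (iv4 F270558) D215312 F462576 (iv0 D211664) F226274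
def n215313 : Q := act 5 n172368
theorem D215313 : act 5 n172368 = n215313 := rfl
theorem F479341 : act 2 n215313 = n192301 := d2_1 D215313 (iv5 D192301) F344417
theorem F479342 : act 3 n215313 = n191381 := d6_1 D215313 (iv5 D191381) F304715
theorem F479343 : act 7 n215313 = n192303 := d13_2 F354007 D215313 (iv5 D192303)
theorem F479344 : act 0 n215313 = n191810 := d17_2 F312610 D215313 (iv5 D191810) (iv4 F348182) F340664 F412741 F412739 F187674 (iv4 F312611)
def n215314 : Q := act 5 n172389
theorem D215314 : act 5 n172389 = n215314 := rfl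
theorem F479345 : act 3 n215314 = n199891 := d6_1 D215314 F414004 F347484
theorem F479346 : act 4 n215314 = n187314 := d9_1 D215314 F369806 F335299 (iv5 F330238) (iv4 F334683) (iv5 F348551) (iv4 F348561) (iv5 F348560) (iv4 D176696) (iv5 D84242) F59861 D39861 D86119 D180303 (iv4 F347483)
theorem F479347 : act 6 n215314 = n203489 := d12_2 (iv6 F361712) D215314 (iv5 D203489) (iv6 F414441) (iv5 D199976)
theorem F479348 : act 7 n215314 = n190755 := d13_2 F348558 D215314 (iv5 F380932)
def n215315 : Q := act 3 n172415
theorem D215315 : act 3 n172415 = n215315 := rfl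
theorem F479349 : act 2 n215315 = n211671 := d0_1 D215315 (iv3 D211671) F324817 (iv3 F373983) F373982
theorem F479350 : act 4 n215315 = n213510 := d5_2 F273884 D215315 F470766 F369518 F326543
theorem F479351 : act 5 n215315 = n207430 := d6_2 F270640 D215315 F444868
theorem F479352 : act 6 n215315 = n182285 := d7_2 (iv6 F326544) D215315 (iv3 D182285)
theorem F479353 : act 7 n215315 = n212509 := d8_2 F383210 D215315 F466166
theorem F479354 : act 0 n215315 = n172783 := d19_4 (iv1 F353836) F326545 F273884 D215315 (iv5 D172783) (iv4 F127909) F127908 (iv1 F315081) (iv5 F330942) F166281 F100095 (iv1 F82123) (iv5 F164378) (iv4 F211329) (iv3 F397693) (iv1 F397696) (iv5 D115002) (iv4 D53061) (iv3 F83762)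
def n215316 : Q := act 5 n172569
theorem D215316 : act 5 n172569 = n215316 := rfl
theorem F479355 : act 2 n215316 = n200734 := d2_1 D215316 F417700 F395528
theorem F479356 : act 3 n215316 = n206039 := d6_1 D215316 (iv5 F438959) F352238
theorem F479357 : act 4 n215316 = n191694 := d9_1 D215316 F384174 (iv4 F386660) (iv5 F400232) (iv4 F434818) (iv5 D205058) F366129 D200630 F417284 (iv5 F389565) (iv4 F386879) (iv5 F400226) F332390 F128659 (iv4 F270745)
theorem F479358 : act 6 n215316 = n191692 := d12_2 D172569 D215316 F384167 F328761 (iv5 F127237)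
theorem F479359 : act 0 n215316 = n200495 := d17_2 F409633 D215316 (iv5 D200495) (iv4 D113180) D113181 F362990 F128536 (iv0 F328790) D198864
theorem F479360 : act 1 n215316 = n200484 := d17_6 (iv1 D200796) (iv5 F360718) (iv1 D175019) F128659 (iv4 F270745) D215316 (iv5 D200484) (iv0 F353618) (iv4 F417936)
def n215317 : Q := act 5 n172571
theorem D215317 : act 5 n172571 = n215317 := rfl
theorem F479361 : act 2 n215317 = n179640 := d2_1 D215317 F366645 (iv2 F360727)
theorem F479362 : act 3 n215317 = n200150 := d6_1 D215317 F415256 (iv3 F360729)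
theorem F479363 : act 4 n215317 = n194427 := d9_1 D215317 (iv5 D194427) F158760 F295239 F352456 (iv5 F352457) F160849 (iv5 F199126) (iv4 F416763) (iv5 F416767) F386871 (iv5 F352465) (iv4 D113515) (iv5 F352467) F360726
theorem F479364 : act 6 n215317 = n174601 := d12_2 F360730 D215317 F434077 F434076 (iv5 D204900)
theorem F479365 : act 7 n215317 = n204852 := d13_2 (iv7 F360728) D215317 F433853
theorem F479366 : act 0 n215317 = n200799 := d17_2 (iv1 F360742) D215317 (iv5 D200799) (iv4 F397863) F397860 (iv0 F384096) (iv5 F409634) (iv0 F409635) (iv4 F366129)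
theorem F479367 : act 1 n215317 = n174982 := d17_6 D52381 (iv5 F161561) (iv1 F161565) (iv5 F352467) F360726 D215317 (iv5 F342141) (iv0 D113480) (iv4 D52384)
def n215318 : Q := act 3 n172797
theorem D215318 : act 3 n172797 = n215318 := rfl
theorem F479368 : act 2 n215318 = n177047 := d0_1 D215318 (iv3 F276463) F313121 D172024 F362754
theorem F479369 : act 4 n215318 = n177037 := d5_2 D172797 D215318 (iv3 F357100) (iv4 F343973) F343972
theorem F479370 : act 5 n215318 = n194310 := d6_2 (iv5 F334511) D215318 (iv3 D194310)
theorem F479371 : act 6 n215318 = n180817 := d7_2 (iv6 F343378) D215318 F281484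
theorem F479372 : act 7 n215318 = n177042 := d8_2 F440081 D215318 (iv3 F440079)
theorem F479373 : act 0 n215318 = n203534 := d20_4 (iv4 F189170) (iv1 F189171) D172797 D215318 F428763 F314818 (iv1 F243918) F328944 D155099 F328939
theorem F479374 : act 0 n203669 = n215318 := d20_4 (iv4 F308241) (iv1 F241968) F241969 (iv3 F429333) (iv3 D215318) (iv4 D172797) (iv1 D82732) (iv4 F127500) F127499 D101467
def n215319 : Q := act 1 n173242
theorem D215319 : act 1 n173242 = n215319 := rfl
theorem F479375 : act 1 n215319 = n174065 := d15_1 D215319 F272871 (iv2 F271579)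
theorem F479376 : act 7 n215319 = n174159 := d15_2 (iv0 F477036) D215319 F477037
theorem F479377 : act 4 n215319 = n204855 := d18_7 F476070 F273950 (iv1 F345558) (iv4 F401917) (iv5 F412486) F412485 D215319 F433865 D214616
theorem F479378 : act 2 n174160 = n215319 := d1_3 F479377 F433862 F431988
def n215320 : Q := act 1 n173254
theorem D215320 : act 1 n173254 = n215320 := rfl
theorem F479379 : act 7 n215320 = n174239 := d15_2 (iv0 F477134) D215320 F477135
theorem F479380 : act 2 n174238 = n215320 := d4_3 F479379 F477135 F477132
theorem F479381 : act 6 n186082 = n215320 := d14_5 F479379 F395702 F395700 (iv6 F364791) F288738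
theorem F479382 : act 0 n174240 = n215320 := d21_4 (iv5 F475750) (iv1 F476475) (iv5 D214709) F358243 (iv6 F479381) (iv5 F443589) (iv1 F443590) (iv5 D176719) (iv6 F296125) D163235
def n215321 : Q := act 2 n173254
theorem D215321 : act 2 n173254 = n215321 := rfl
theorem F479383 : act 3 n215321 = n174233 := d0_2 D173254 D215321 (iv2 D174233) (iv3 D83284) F127737
theorem F479384 : act 4 n215321 = n177423 := d1_2 (iv4 F271601) D215321 (iv2 D177423)
theorem F479385 : act 6 n215321 = n214213 := d3_2 F289063 D215321 F474018
theorem F479386 : act 7 n215321 = n174240 := d4_2 (iv7 F271602) D215321 (iv2 D174240)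
theorem F479387 : act 1 n215321 = n174238 := d15_0 (iv0 D174238) (iv7 F271602) D215321
theorem F479388 : act 1 n174239 = n215321 := d15_0 F479387 (iv7 F477132) (iv2 F477135)
def n215322 : Q := act 5 n173254
theorem D215322 : act 5 n173254 = n215322 := rfl
theorem F479389 : act 3 n215322 = n173255 := d6_1 D215322 (iv5 D173255) D173254
theorem F479390 : act 7 n215322 = n174242 := d13_2 (iv7 F271602) D215322 (iv5 D174242)
theorem F479391 : act 4 n215322 = n205536 := d18_5 (iv1 F476519) F476520 (iv1 D177422) (iv4 F271601) D215322 (iv0 D205536) F326405 (iv0 F408851) (iv5 F453081)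
theorem F479392 : act 0 n195083 = n215322 := d19_0 (iv5 D215322) F271601 (iv3 D84531) F325210 D126051 F325215 (iv3 F276662) (iv1 F476063) F476065 F461960 F451383 F438048 (iv5 F433775) F433778 (iv3 F435461) (iv1 D205211) (iv5 F417852) F417851 (iv3 F395703)
theorem F479393 : act 6 n215178 = n215322 := d21_5 (iv5 D200723) (iv1 F409787) (iv5 F455292) (iv6 F476467) (iv1 F478746) (iv5 D215322) F477134 F477130 (iv6 D209931) (iv1 F417643)
theorem F479394 : act 0 n215322 = n180637 := d20_1 (iv4 F479391) (iv4 F478391) F478390 F338777 F129749 (iv4 D55863) (iv1 F118521) (iv4 F325583) (iv3 F203024) D205536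
def n215323 : Q := act 0 n173267
theorem D215323 : act 0 n173267 = n215323 := rfl
theorem F479395 : act 5 n215323 = n200361 := d17_3 (iv1 D189693) F293637 D215323 F416140 F176078 (iv0 F291388) (iv5 D102874) D102873 (iv4 F377415)
theorem F479396 : act 1 n174276 = n215323 := d15_0 (iv0 D215323) (iv7 F398638) F398636
theorem F479397 : act 2 n174274 = n215323 := d2_3 F479395 F416138 F399673
theorem F479398 : act 7 n174275 = n215323 := d13_0 F479395 (iv7 F474585) F474586
def n215324 : Q := act 1 n173267
theorem D215324 : act 1 n173267 = n215324 := rfl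
theorem F479399 : act 1 n215324 = n174276 := d15_1 D215324 (iv7 D174276) (iv2 F271631)
theorem F479400 : act 7 n215324 = n174274 := d15_2 (iv0 D215323) D215324 F479397
theorem F479401 : act 3 n214874 = n215324 := d19_19 (iv1 D215324) (iv5 F293637) F145476 (iv3 F145471) D189688 F420252 D201665 F421302 (iv1 D186579) (iv5 F147809) (iv4 F380020) (iv3 F380021) (iv1 D129176) (iv5 F340294) F138387 (iv3 F294011) D104851 D194994 (iv4 F477227)
theorem F479402 : act 4 n205133 = n215324 := d20_6 (iv4 F78171) (iv1 F92866) (iv4 D58761) (iv3 F92851) D125512 D205133 (iv1 D215324) F346355 (iv3 D125520) F92865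
theorem F479403 : act 2 n174275 = n215324 := d16_9 (iv4 F479402) (iv5 F463456) F463459 F275320 (iv4 F324706) (iv5 F176078) (iv4 F416140) (iv5 F479395) (iv7 F479398)
theorem F479404 : act 6 n215324 = n214873 := d7_2 D214874 F479401 (iv3 D214873)
def n215325 : Q := act 3 n173289
theorem D215325 : act 3 n173289 = n215325 := rfl
theorem F479405 : act 4 n215325 = n173308 := d5_2 D173289 D215325 (iv3 D173308) (iv4 D82940) (iv3 F127778)
theorem F479406 : act 5 n215325 = n196714 := d6_2 (iv5 F331740) D215325 F401571
theorem F479407 : act 6 n215325 = n210942 := d7_2 (iv6 F271673) D215325 (iv3 F459398)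
theorem F479408 : act 7 n215325 = n196713 := d8_2 (iv7 F362458) D215325 F401570
theorem F479409 : act 2 n211090 = n215325 := d3_3 F479407 (iv2 F459399) D211090
def n215326 : Q := act 1 n173292
theorem D215326 : act 1 n173292 = n215326 := rfl
theorem F479410 : act 1 n215326 = n174503 := d15_1 D215326 (iv7 D174503) (iv2 F271683)
theorem F479411 : act 7 n215326 = n174499 := d15_2 (iv0 F411057) D215326 (iv2 F411052)
theorem F479412 : act 5 n215326 = n191981 := d17_7 F390079 F366172 F155579 (iv5 F388216) F388215 (iv5 F348943) D215326 F402514 (iv4 F390077)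
theorem F479413 : act 4 n215326 = n173373 := d17_9 (iv1 D173373) (iv5 D82966) D82964 (iv5 F331962) F204056 D145394 (iv0 F364905) (iv5 F348943) D215326
theorem F479414 : act 3 n191982 = n215326 := d20_3 (iv4 F459341) D212152 F464512 (iv1 D215326) (iv3 F348945) (iv4 F459397) (iv1 D210942) (iv4 D140382) (iv3 F223479) D210930
theorem F479415 : act 2 n215326 = n174500 := d0_1 F479414 F343943 (iv2 F388199) F388200 (iv2 F385086)
def n215327 : Q := act 4 n173299
theorem D215327 : act 4 n173299 = n215327 := rfl
theorem F479416 : act 2 n215327 = n205848 := d1_1 D215327 (iv4 F440028) F440026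
theorem F479417 : act 3 n215327 = n196571 := d5_1 D215327 F401111 F362961 (iv4 D173300) (iv3 F271702)
theorem F479418 : act 6 n215327 = n196569 := d10_2 F350869 D215327 F401102
theorem F479419 : act 7 n215327 = n174510 := d11_2 (iv7 F271703) D215327 (iv4 D174510)
theorem F479420 : act 1 n215327 = n202002 := d18_6 D213751 F471920 (iv1 F380179) F199152 D173299 D215327 (iv4 F428589) F438311 F438309
def n215328 : Q := act 3 n173307
theorem D215328 : act 3 n173307 = n215328 := rfl
theorem F479421 : act 2 n215328 = n196696 := d0_1 D215328 F401516 (iv2 F172191) F364877 F271722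
theorem F479422 : act 6 n215328 = n196695 := d7_2 F401984 D215328 F401985
theorem F479423 : act 7 n215328 = n174577 := d8_2 (iv7 F271720) D215328 (iv3 D174577)
def n215329 : Q := act 5 n173307
theorem D215329 : act 5 n173307 = n215329 := rfl
theorem F479424 : act 2 n215329 = n174581 := d2_1 D215329 (iv5 D174581) F271722
theorem F479425 : act 4 n215329 = n173320 := d9_1 D215329 (iv5 D173320) (iv4 D82945) F59648 (iv4 F127240) (iv5 F127876) (iv4 F271715) (iv5 F434064) (iv4 D204897) (iv5 D124646) (iv4 D58246) F44784 (iv4 F89796) F127881 (iv4 F271721)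
theorem F479426 : act 7 n215329 = n174578 := d13_2 (iv7 F271720) D215329 (iv5 D174578)
theorem F479427 : act 0 n215329 = n212117 := d17_2 (iv1 F271719) D215329 (iv5 D212117) F330946 (iv5 F151526) F151528 F127802 F127801 (iv4 F128538)
theorem F479428 : act 1 n215329 = n212115 := d17_6 (iv1 F128540) (iv5 F298350) (iv1 F299521) F127881 (iv4 F271721) D215329 (iv5 D212115) (iv0 D145336) F330932
def n215330 : Q := act 1 n173308
theorem D215330 : act 1 n173308 = n215330 := rfl
theorem F479429 : act 5 n215330 = n203896 := d17_7 D214934 F477514 (iv1 F449892) F406231 F406233 F348947 D215330 (iv0 D203896) (iv4 F258396)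
theorem F479430 : act 4 n196599 = n215330 := d20_6 F397141 (iv1 F364911) F364907 (iv3 F397000) F414459 (iv3 F401202) (iv1 D215330) (iv4 F479405) (iv3 D215325) (iv1 F397139)
theorem F479431 : act 6 n215330 = n196598 := d10_2 D196599 F479430 (iv4 D196598)
def n215331 : Q := act 2 n173308
theorem D215331 : act 2 n173308 = n215331 := rfl
theorem F479432 : act 3 n215331 = n174585 := d0_2 D173308 D215331 (iv2 D174585) (iv3 D83428) (iv2 F127804)
theorem F479433 : act 4 n215331 = n211090 := d1_2 F479405 D215331 F479409
theorem F479434 : act 5 n215331 = n211337 := d2_2 F348947 D215331 F461178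
theorem F479435 : act 6 n215331 = n197996 := d3_2 (iv6 F348946) D215331 F406449
theorem F479436 : act 0 n174585 = n191003 := d19_4 (iv1 F459979) (iv5 F460065) (iv4 F479433) F479432 (iv5 D191003) (iv4 D97125) F71604 D45401 F290650 (iv4 D23374) F17833 (iv1 F290783) (iv5 F36330) (iv4 F75617) (iv3 F159387) F391409 (iv5 D193924) D193923 (iv3 F401568)
def n215332 : Q := act 0 n173311
theorem D215332 : act 0 n173311 = n215332 := rfl
theorem F479437 : act 5 n215332 = n203850 := d17_3 (iv1 D174160) (iv5 F271732) D215332 F430097 D204833 (iv0 F474856) (iv5 D214375) (iv0 F431989) F431988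
theorem F479438 : act 3 n215332 = n213634 := d20_5 (iv4 F456463) F456464 (iv4 F401585) (iv3 F353973) D215332 F471387 F393788 F393787 (iv3 F469174) F469177
theorem F479439 : act 1 n174504 = n215332 := d15_0 (iv0 D215332) (iv7 F402018) F402017
theorem F479440 : act 2 n174592 = n215332 := d0_5 F479438 (iv2 F471389) F279194 (iv2 F351389) F423638
theorem F479441 : act 7 n174593 = n215332 := d8_0 F479438 F471390 (iv3 F451383)
def n215333 : Q := act 1 n173311
theorem D215333 : act 1 n173311 = n215333 := rfl
theorem F479442 : act 1 n215333 = n174504 := d15_1 D215333 F273383 (iv2 F271731)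
theorem F479443 : act 7 n215333 = n174592 := d15_2 (iv0 D215332) D215333 F479440
theorem F479444 : act 5 n215333 = n203823 := d17_7 F406749 F401908 (iv1 F401919) F346357 F272953 (iv5 F271732) D215333 (iv0 F476500) F476498
theorem F479445 : act 4 n215333 = n214616 := d17_9 F476070 (iv5 F407443) (iv1 F407444) (iv5 F351540) (iv4 F393023) (iv5 F393024) (iv0 D174159) (iv5 F271732) D215333
theorem F479446 : act 3 n203824 = n215333 := d19_19 (iv1 D215333) F271732 (iv4 F272953) (iv3 F362027) (iv1 F165453) (iv5 F228309) (iv4 D145292) F168135 F103384 D67602 (iv4 F209159) (iv3 F443704) F443706 F423906 F416051 (iv3 F416052) (iv1 F245489) (iv5 F422341) (iv4 F429979)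
theorem F479447 : act 6 n195921 = n215333 := d21_3 (iv5 F454421) F454423 F447114 (iv1 D215333) (iv6 D173311) F127806 (iv1 F59019) D38426 D83418 (iv1 F343456)
theorem F479448 : act 2 n215333 = n174593 := d3_1 F479447 (iv6 F451382) (iv2 F401929)
def n215334 : Q := act 5 n173319
theorem D215334 : act 5 n173319 = n215334 := rfl
theorem F479449 : act 3 n215334 = n173320 := d6_1 D215334 (iv5 D173320) D173319
theorem F479450 : act 6 n215334 = n214703 := d12_2 F365999 D215334 F476454 (iv6 F425752) (iv5 D198523)
theorem F479451 : act 7 n215334 = n174663 := d13_2 (iv7 F271745) D215334 (iv5 D174663)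
def n215335 : Q := act 6 n173320
theorem D215335 : act 6 n173320 = n215335 := rfl
theorem F479452 : act 2 n215335 = n174654 := d3_1 D215335 (iv6 D174654) (iv2 F271746)
theorem F479453 : act 3 n215335 = n214703 := d7_1 D215335 (iv6 F479450) F479449
theorem F479454 : act 5 n215335 = n198525 := d12_1 D215335 (iv6 D198525) (iv5 D109445) (iv6 F325899) D173320
theorem F479455 : act 0 n193600 = n215335 := d17_2 (iv1 D193599) D193600 F479454 F408228 (iv5 D189140) F368002 (iv5 F74735) D102480 (iv4 F390408)
def n215336 : Q := act 6 n173323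
theorem D215336 : act 6 n173323 = n215336 := rfl
theorem F479456 : act 2 n215336 = n174674 := d3_1 D215336 (iv6 D174674) (iv2 F271752)
theorem F479457 : act 4 n215336 = n211322 := d10_1 D215336 (iv6 F461112) F273932
theorem F479458 : act 5 n215336 = n193520 := d12_1 D215336 F390151 (iv5 D109330) (iv6 F325562) D173323
theorem F479459 : act 7 n193519 = n215336 := d13_0 F479458 (iv7 D193520) D193519
theorem F479460 : act 0 n193913 = n215336 := d17_2 F352921 D193913 F479458 F390150 (iv5 F295174) (iv0 D93305) D93307 (iv0 F352853) F218570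
def n215337 : Q := act 6 n173326
theorem D215337 : act 6 n173326 = n215337 := rfl
theorem F479461 : act 2 n215337 = n174683 := d3_1 D215337 (iv6 D174683) (iv2 F271758)
theorem F479462 : act 5 n215337 = n214820 := d12_1 D215337 (iv6 D214820) (iv5 D162712) F299367 D173326
def n215338 : Q := act 6 n173333
theorem D215338 : act 6 n173333 = n215338 := rfl
theorem F479463 : act 2 n215338 = n174708 := d3_1 D215338 (iv6 D174708) F271772
theorem F479464 : act 4 n215338 = n214804 := d10_1 D215338 (iv6 D214804) F303400
theorem F479465 : act 5 n215338 = n214735 := d12_1 D215338 (iv6 F476592) (iv5 D173255) (iv6 F136115) (iv5 F271771)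
theorem F479466 : act 0 n190129 = n215338 := d21_4 (iv5 D44680) D44679 D95653 D190129 (iv6 D215338) F271771 (iv1 F298766) D162663 F348937 F147307
theorem F479467 : act 1 n214743 = n215338 := d17_6 (iv1 F248771) D214260 F474283 (iv5 F431914) (iv4 F430168) (iv5 F476620) F479465 F476590 (iv4 D170866)
def n215339 : Q := act 6 n173334
theorem D215339 : act 6 n173334 = n215339 := rfl
theorem F479468 : act 2 n215339 = n174710 := d3_1 D215339 (iv6 D174710) (iv2 F271773)
theorem F479469 : act 3 n215339 = n214640 := d7_1 D215339 F476173 F378816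
theorem F479470 : act 4 n215339 = n173335 := d10_1 D215339 (iv6 D173335) D173334
theorem F479471 : act 5 n215339 = n199675 := d12_1 D215339 F413082 (iv5 F402000) F402001 (iv5 F271774)
def n215340 : Q := act 7 n173335
theorem D215340 : act 7 n173335 = n215340 := rfl
theorem F479472 : act 2 n215340 = n174713 := d4_1 D215340 (iv7 D174713) (iv2 F271776)
theorem F479473 : act 3 n215340 = n190070 := d8_1 D215340 (iv7 F378827) F378824
theorem F479474 : act 5 n215340 = n176740 := d13_1 D215340 (iv7 D176740) (iv5 F271777)
theorem F479475 : act 6 n215340 = n190067 := d14_1 D215340 (iv7 F381574) F381573 (iv7 D173336) D173335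
theorem F479476 : act 1 n174712 = n215340 := d15_1 D174712 (iv7 D215340) F271776
theorem F479477 : act 1 n215340 = n174711 := d15_1 F479476 (iv7 F448275) F448272
def n215341 : Q := act 1 n173365
theorem D215341 : act 1 n173365 = n215341 := rfl
theorem F479478 : act 1 n215341 = n213775 := d15_1 D215341 (iv7 F478587) F478584
theorem F479479 : act 7 n215341 = n214441 := d15_2 (iv0 F472065) D215341 F475194
theorem F479480 : act 4 n215341 = n206317 := d18_7 (iv1 F242571) F311785 (iv1 F313107) F74194 D82962 D173365 D215341 F456981 F456979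
def n215342 : Q := act 3 n173365
theorem D215342 : act 3 n173365 = n215342 := rfl
theorem F479481 : act 4 n215342 = n173379 := d5_2 D173365 D215342 (iv3 D173379) (iv4 D82970) (iv3 F127864)
theorem F479482 : act 6 n215342 = n193433 := d7_2 F366841 D215342 (iv3 D193433)
def n215343 : Q := act 5 n173365
theorem D215343 : act 5 n173365 = n215343 := rfl
theorem F479483 : act 2 n215343 = n211650 := d2_1 D215343 (iv5 F478588) F478584
theorem F479484 : act 1 n215343 = n187031 := d17_6 (iv1 F353792) F337532 (iv1 D82961) D82962 D173365 D215343 (iv5 F455439) (iv0 F455440) F454658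
theorem F479485 : act 4 n215343 = n194108 := d18_5 (iv1 F409613) (iv4 F349902) (iv1 D173364) D173365 D215343 (iv0 D194108) (iv4 F363625) (iv0 F389884) (iv5 D193452)
theorem F479486 : act 2 n194108 = n191457 := d1_1 F479485 F462510 (iv2 F479483)
theorem F479487 : act 7 n194109 = n191457 := d16_8 (iv4 F479485) (iv5 D215343) (iv4 D173365) (iv5 D82962) (iv4 F74194) D100729 D192815 F392069 (iv2 F479486)
theorem F479488 : act 2 n194109 = n191458 := d15_3 F392075 F392076 (iv7 F479487)
theorem F479489 : act 7 n191458 = n194108 := d4_2 (iv7 F479487) F479488 F479486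
def n215344 : Q := act 3 n173374
theorem D215344 : act 3 n173374 = n215344 := rfl
theorem F479490 : act 4 n215344 = n193433 := d5_2 D173374 D215344 (iv3 D193433) (iv4 D101674) (iv3 F306789)
theorem F479491 : act 5 n215344 = n212173 := d6_2 F459348 D215344 F464614
theorem F479492 : act 6 n215344 = n173379 := d7_2 (iv6 F271850) D215344 (iv3 D173379)
def n215345 : Q := act 7 n173374
theorem D215345 : act 7 n173374 = n215345 := rfl
theorem F479493 : act 2 n215345 = n175005 := d4_1 D215345 (iv7 D175005) (iv2 F271849)
theorem F479494 : act 4 n215345 = n173375 := d11_1 D215345 (iv7 D173375) D173374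
theorem F479495 : act 5 n215345 = n192389 := d13_1 D215345 (iv7 F459347) F459348
theorem F479496 : act 1 n175002 = n215345 := d15_1 D175002 (iv7 D215345) F271849
theorem F479497 : act 1 n215345 = n175001 := d15_1 F479496 F273905 F273901
def n215346 : Q := act 0 n173379
theorem D215346 : act 0 n173379 = n215346 := rfl
def n215347 : Q := act 2 n173379
theorem D215347 : act 2 n173379 = n215347 := rfl
theorem F479498 : act 3 n215347 = n175029 := d0_2 D173379 D215347 (iv2 D175029) (iv3 D83588) (iv2 F127884)
def n215348 : Q := act 5 n173379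
theorem D215348 : act 5 n173379 = n215348 := rfl
theorem F479499 : act 3 n215348 = n173380 := d6_1 D215348 (iv5 D173380) D173379
theorem F479500 : act 7 n215348 = n211815 := d13_2 (iv7 F411317) D215348 (iv5 F463178)
theorem F479501 : act 4 n215348 = n211816 := d19_2 F438951 D215348 F463179 (iv1 F226850) (iv5 D112857) F82344 F39947 D51155 D110943 F352198 F207155 D128942 F207166 F96408 F46950 D60520 F95137 (iv4 F204333) (iv3 F438950)
def n215349 : Q := act 6 n173380
theorem D215349 : act 6 n173380 = n215349 := rfl
theorem F479502 : act 2 n215349 = n175034 := d3_1 D215349 (iv6 D175034) (iv2 F271860)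
theorem F479503 : act 1 n215349 = n193267 := d15_0 (iv0 F461342) F461341 (iv2 F479502)
def n215350 : Q := act 0 n173410
theorem D215350 : act 0 n173410 = n215350 := rfl
theorem F479504 : act 4 n215350 = n203951 := d18_1 D215350 F430553 (iv4 F414181) F415149 (iv4 F425273) (iv0 F425274) F423794 F423787 F393766
theorem F479505 : act 6 n215350 = n203950 := d21_5 (iv5 F473738) (iv1 F477690) (iv5 D214968) (iv6 F354794) D215350 F430546 (iv1 D194979) (iv5 D104834) D104835 D194982
theorem F479506 : act 2 n203952 = n215350 := d15_3 (iv0 D215350) (iv0 F354798) (iv7 F430557)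
theorem F479507 : act 7 n215350 = n212624 := d4_2 (iv7 F430557) F479506 F466749
theorem F479508 : act 1 n202370 = n215350 := d15_1 (iv0 F423797) F479507 F466749
def n215351 : Q := act 7 n173410
theorem D215351 : act 7 n173410 = n215351 := rfl
theorem F479509 : act 2 n215351 = n202370 := d4_1 D215351 (iv7 F479199) F479196
theorem F479510 : act 3 n215351 = n203844 := d8_1 D215351 F430080 F354795
theorem F479511 : act 4 n215351 = n173411 := d11_1 D215351 (iv7 D173411) D173410
theorem F479512 : act 5 n215351 = n202353 := d13_1 D215351 F423733 F393766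
theorem F479513 : act 6 n215351 = n204837 := d14_1 D215351 F433774 F434458 (iv7 F434460) (iv6 F354794)
theorem F479514 : act 1 n212624 = n215351 := d15_1 F479202 (iv7 D215351) (iv2 F479196)
theorem F479515 : act 1 n215351 = n203952 := d15_1 F479514 F430557 (iv2 F466749)
def n215352 : Q := act 0 n173421
theorem D215352 : act 0 n173421 = n215352 := rfl
theorem F479516 : act 4 n215352 = n207669 := d18_1 D215352 F445934 F437296 (iv5 D193167) F184638 (iv0 F332350) (iv4 F332347) (iv0 D173419) D173421
theorem F479517 : act 2 n191527 = n215352 := d15_3 (iv0 D215352) (iv0 F470716) F470715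
theorem F479518 : act 1 n191525 = n215352 := d15_0 (iv0 D215352) F366745 (iv2 F383664)
theorem F479519 : act 7 n215352 = n191526 := d15_2 F470718 F479518 (iv2 F470712)
def n215353 : Q := act 3 n173478
theorem D215353 : act 3 n173478 = n215353 := rfl
theorem F479520 : act 4 n215353 = n190338 := d5_2 (iv4 F339366) D215353 (iv3 F381998) (iv4 F421049) F421048
theorem F479521 : act 5 n215353 = n211956 := d6_2 F339364 D215353 F463734
theorem F479522 : act 6 n215353 = n198908 := d7_2 (iv6 F419651) D215353 F419650
theorem F479523 : act 7 n215353 = n211955 := d8_2 F466832 D215353 (iv3 F466829)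
theorem F479524 : act 0 n215353 = n175197 := d20_4 D73944 D155472 (iv4 F339366) D215353 F274242 (iv4 F334606) (iv1 F434074) F434072 (iv3 D155469) (iv1 D73943)
theorem F479525 : act 0 n175200 = n215353 := d20_4 D203628 F429125 (iv4 F353141) F366749 (iv3 D215353) F339366 (iv1 F429169) (iv4 D203635) (iv3 F339394) F339396
def n215354 : Q := act 5 n173515
theorem D215354 : act 5 n173515 = n215354 := rfl
theorem F479526 : act 3 n215354 = n191818 := d6_1 D215354 F384533 F357795
theorem F479527 : act 7 n215354 = n191810 := d13_2 (iv7 F357794) D215354 (iv5 D191810)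
theorem F479528 : act 0 n215354 = n192301 := d17_2 F434794 D215354 (iv5 D192301) F344419 F318543 D165646 (iv5 F348593) F348592 D205054
theorem F479529 : act 1 n215354 = n192303 := d17_6 F319726 (iv5 F328130) (iv1 F361597) (iv5 D173520) (iv4 F271968) D215354 (iv5 D192303) F386364 F386362
def n215355 : Q := act 4 n173573
theorem D215355 : act 4 n173573 = n215355 := rfl
theorem F479530 : act 2 n215355 = n175625 := d1_1 D215355 (iv4 D175625) F274582
theorem F479531 : act 3 n215355 = n191276 := d5_1 D215355 (iv4 D191276) (iv3 F374835) (iv4 F470638) F470637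
theorem F479532 : act 5 n215355 = n193581 := d9_2 D173573 D215355 F390329 F371116 F311745 (iv5 D83021) (iv4 F308339) D123203 D204235 F431605 (iv4 F449691) F449690 F314196 (iv5 D83026) D83025
theorem F479533 : act 7 n215355 = n175572 := d11_2 F274581 D215355 (iv4 D175572)
theorem F479534 : act 0 n215355 = n193551 := d18_2 F384801 D215355 (iv4 D193551) (iv5 F156852) (iv4 F334796) F334793 D175649 (iv0 F275005) D191911
theorem F479535 : act 1 n215355 = n185374 := d18_6 (iv1 F59434) F59430 (iv1 F59068) D83025 D173573 D215355 F364810 (iv0 D101908) (iv5 D47348)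
theorem F479536 : act 6 n203412 = n215355 := d12_0 F479532 (iv6 F390330) (iv5 F408433) F408434 D203412
def n215356 : Q := act 6 n173573
theorem D215356 : act 6 n173573 = n215356 := rfl
theorem F479537 : act 2 n215356 = n175626 := d3_1 D215356 (iv6 D175626) F274582
theorem F479538 : act 4 n215356 = n203412 := d10_1 D215356 F479536 (iv4 D215355)
theorem F479539 : act 5 n215356 = n213103 := d12_1 D215356 (iv6 F469026) F384936 F310387 D173573
theorem F479540 : act 0 n215356 = n192738 := d21_4 F151879 (iv1 F274514) D173573 D215356 F387620 F383984 (iv1 F367779) (iv5 F449631) F449632 F338084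
theorem F479541 : act 0 n187462 = n215356 := d21_4 F137258 (iv1 F136323) (iv5 F291162) D187462 (iv6 D215356) (iv5 D173573) F274513 D88946 F136519 (iv1 F137260)
theorem F479542 : act 7 n192737 = n215356 := d13_0 F479539 F469025 F387618
def n215357 : Q := act 6 n173694
theorem D215357 : act 6 n173694 = n215357 := rfl
theorem F479543 : act 2 n215357 = n176474 := d3_1 D215357 (iv6 D176474) (iv2 F272220)
theorem F479544 : act 3 n215357 = n212552 := d7_1 D215357 (iv6 F466390) (iv3 F342649)
theorem F479545 : act 4 n215357 = n204364 := d10_1 D215357 (iv6 D204364) F349799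
theorem F479546 : act 0 n215357 = n206310 := d21_4 (iv5 D83070) D83067 D173694 D215357 F440185 F348704 (iv1 F158391) (iv5 F283991) F348456 F315799
theorem F479547 : act 0 n206311 = n215357 := d21_4 (iv5 D205508) (iv1 F436400) F436397 (iv6 F440188) (iv6 D215357) (iv5 D173694) (iv1 F128027) D84150 D176476 F436765
def n215358 : Q := act 6 n173798
theorem D215358 : act 6 n173798 = n215358 := rfl
theorem F479548 : act 2 n215358 = n206322 := d3_1 D215358 F440238 F429809
theorem F479549 : act 3 n215358 = n197606 := d7_1 D215358 F404999 F332322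
theorem F479550 : act 4 n215358 = n212933 := d10_1 D215358 (iv6 D212933) F342643
theorem F479551 : act 5 n215358 = n176594 := d12_1 D215358 (iv6 F354218) F324293 (iv6 F323229) (iv5 F272380)
theorem F479552 : act 7 n215358 = n173815 := d14_2 D173798 D215358 (iv6 D173815) (iv7 D83115) (iv6 F128114)
theorem F479553 : act 0 n215358 = n213370 := d21_4 (iv5 F342652) (iv1 F263823) (iv5 F272380) D215358 (iv6 D213370) (iv5 F431970) F465913 F465911 (iv6 F389872) F383203
theorem F479554 : act 0 n213783 = n215358 := d21_4 D153910 (iv1 F392790) F451426 (iv6 F472068) (iv6 D215358) F272380 (iv1 F263818) F342647 F272218 F306724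
def n215359 : Q := act 0 n173815
theorem D215359 : act 0 n173815 = n215359 := rfl
theorem F479555 : act 5 n215359 = n174447 := d17_1 D215359 F365298 (iv5 D154537) F109706 D73268 D154572 D213645 (iv0 F471434) F466410
theorem F479556 : act 4 n215359 = n192855 := d18_3 (iv1 F468544) F466410 D215359 F388030 (iv4 F368370) (iv0 F387062) (iv4 F387059) F387067 (iv5 F468540)
theorem F479557 : act 6 n215359 = n194313 := d21_5 (iv5 D78187) (iv1 F117750) (iv5 F128126) D173815 D215359 (iv5 D194313) F353018 (iv5 F343422) F317253 (iv1 F300819)
theorem F479558 : act 1 n206322 = n215359 := d15_0 (iv0 D215359) (iv7 F479552) F479548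
theorem F479559 : act 2 n213783 = n215359 := d3_3 F479557 (iv2 F451427) (iv6 F472068)
theorem F479560 : act 3 n174449 = n215359 := d7_3 F479557 F392791 (iv6 F358745)
theorem F479561 : act 7 n213370 = n215359 := d14_0 F479557 F451421 (iv6 F451422) F383226 D213370
def n215360 : Q := act 1 n173815
theorem D215360 : act 1 n173815 = n215360 := rfl
theorem F479562 : act 1 n215360 = n206322 := d15_1 D215360 F440239 (iv2 F272403)
theorem F479563 : act 7 n215360 = n213783 := d15_2 (iv0 D215359) D215360 F479559
theorem F479564 : act 4 n215360 = n191366 := d17_9 F388025 D192856 F388033 (iv5 D175517) (iv4 F311785) (iv5 F354152) F354150 (iv5 F303577) D215360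
theorem F479565 : act 5 n215360 = n178517 := d18_9 (iv1 F440210) F440208 (iv1 F389880) F389881 (iv5 F383290) (iv4 F471432) (iv0 F471434) F466410 D215360
theorem F479566 : act 3 n178519 = n215360 := d20_3 (iv4 F448441) F448444 (iv4 F278193) (iv1 D215360) (iv3 F425436) (iv4 F430882) (iv1 F470862) F470857 (iv3 F403079) (iv1 F428243)
theorem F479567 : act 6 n191364 = n215360 := d21_3 (iv5 F467724) F467727 F383219 (iv1 D215360) (iv6 D173815) F128126 F117749 D55847 D121045 D203835
theorem F479568 : act 2 n215360 = n213370 := d3_1 F479567 (iv6 D213370) (iv2 F383214)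
def n215361 : Q := act 2 n173824
theorem D215361 : act 2 n173824 = n215361 := rfl
theorem F479569 : act 3 n215361 = n215350 := d0_2 D173824 D215361 (iv2 F479506) F430555 F302202
theorem F479570 : act 4 n215361 = n196848 := d1_2 F431932 D215361 (iv2 F431930)
theorem F479571 : act 6 n215361 = n174662 := d3_2 (iv6 F302235) D215361 (iv2 D174662)
theorem F479572 : act 1 n215361 = n212187 := d15_0 (iv0 F464680) F414266 D215361
theorem F479573 : act 1 n198410 = n215361 := d15_0 F479572 F464679 F455534
def n215362 : Q := act 6 n173825
theorem D215362 : act 6 n173825 = n215362 := rfl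
theorem F479574 : act 5 n215362 = n174665 := d12_1 D215362 (iv6 D174665) (iv5 D83462) (iv6 F299363) D173825
theorem F479575 : act 0 n211827 = n174665 := d21_1 D211827 (iv5 F479574) (iv6 D215362) F300475 (iv6 F364235) D194051 (iv1 F391883) F369050 D193701 (iv1 F390737)
theorem F479576 : act 0 n209313 = n215362 := d21_4 F423770 (iv1 D195328) (iv5 F219360) D209313 (iv6 D215362) (iv5 D173825) (iv1 F193048) F402402 (iv6 F413174) (iv1 F423773)
def n215363 : Q := act 5 n173833
theorem D215363 : act 5 n173833 = n215363 := rfl
theorem F479577 : act 3 n215363 = n173834 := d6_1 D215363 (iv5 D173834) D173833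
theorem F479578 : act 6 n215363 = n202416 := d12_2 F365998 D215363 (iv5 F423917) F385678 (iv5 F349841)
theorem F479579 : act 0 n215363 = n214352 := d17_2 F423797 D215363 (iv5 D214352) F386453 F386452 (iv0 F386451) F298146 (iv0 F477043) F477040
theorem F479580 : act 1 n215363 = n214353 := d17_6 (iv1 F250703) (iv5 F330174) (iv1 F351951) F315533 (iv4 F304028) D215363 (iv5 D214353) (iv0 F394600) F394597
def n215364 : Q := act 5 n173837
theorem D215364 : act 5 n173837 = n215364 := rfl
theorem F479581 : act 2 n215364 = n193738 := d2_1 D215364 (iv5 F407245) F407248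
theorem F479582 : act 3 n215364 = n173838 := d6_1 D215364 (iv5 D173838) D173837
theorem F479583 : act 7 n215364 = n209944 := d13_2 (iv7 F366913) D215364 F455475
theorem F479584 : act 4 n215364 = n193862 := d16_2 F277622 D215364 F391224 (iv4 F471587) F471588 F389122 D196845 (iv7 F479066) (iv2 F479064)
theorem F479585 : act 1 n215364 = n202840 := d17_6 (iv1 F433726) (iv5 F433724) F400772 F394591 F277622 D215364 F425807 F479573 F479570
theorem F479586 : act 0 n215364 = n193663 := d18_0 F390611 F352856 (iv4 F220252) D209911 F455336 (iv0 D198208) F390452 (iv0 F394801) D215364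
theorem F479587 : act 6 n186985 = n215364 := d21_5 (iv5 F64409) (iv1 D41766) D41768 D89452 D186985 (iv5 D215364) F394801 (iv5 D193611) (iv6 D102019) F74595
def n215365 : Q := act 1 n173854
theorem D215365 : act 1 n173854 = n215365 := rfl
theorem F479588 : act 1 n215365 = n193627 := d15_1 D215365 (iv7 F476754) F476751
theorem F479589 : act 7 n215365 = n194836 := d15_2 F395162 D215365 (iv2 F395159)
theorem F479590 : act 5 n215365 = n194837 := d17_7 (iv1 F160489) F358116 F337360 (iv5 D83293) (iv4 F128170) D173854 D215365 F394675 (iv4 D194815)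
theorem F479591 : act 4 n215365 = n206320 := d17_9 (iv1 F440230) F350942 F350945 F332037 (iv4 F370065) F370066 (iv0 D173851) D173854 D215365
theorem F479592 : act 3 n192112 = n215365 := d20_3 F156975 F153515 (iv4 F385608) (iv1 D215365) F272491 D173857 (iv1 F431684) F431682 (iv3 F431685) (iv1 D193610)
theorem F479593 : act 6 n192110 = n215365 := d21_9 (iv5 D173854) D173851 (iv5 F370066) (iv6 D187376) F138129 D103295 (iv5 F159273) D194612 F393834 (iv1 D215365)
theorem F479594 : act 2 n215365 = n200722 := d3_1 F479593 F417636 (iv2 F385600)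
def n215366 : Q := act 7 n173854
theorem D215366 : act 7 n173854 = n215366 := rfl
theorem F479595 : act 2 n215366 = n193627 := d4_1 D215366 (iv7 F476754) F476751
theorem F479596 : act 3 n215366 = n173859 := d8_1 D215366 (iv7 D173859) (iv3 F272491)
theorem F479597 : act 4 n215366 = n211163 := d11_1 D215366 F460404 (iv4 F440320)
theorem F479598 : act 5 n215366 = n173855 := d13_1 D215366 (iv7 D173855) D173854
theorem F479599 : act 6 n215366 = n190630 := d14_1 D215366 F380379 D193625 (iv7 F390485) F370069
theorem F479600 : act 1 n200722 = n215366 := d15_1 F476757 (iv7 D215366) (iv2 F476751)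
theorem F479601 : act 1 n215366 = n194836 := d15_1 F479600 (iv7 F479589) F479594
def n215367 : Q := act 6 n173857
theorem D215367 : act 6 n173857 = n215367 := rfl
theorem F479602 : act 2 n215367 = n210395 := d3_1 D215367 (iv6 F478501) F478498
theorem F479603 : act 3 n215367 = n184287 := d7_1 D215367 (iv6 D184287) (iv3 F312377)
theorem F479604 : act 4 n215367 = n173858 := d10_1 D215367 (iv6 D173858) D173857
theorem F479605 : act 5 n215367 = n213487 := d12_1 D215367 F470633 F390968 F307390 (iv5 F312378)
theorem F479606 : act 0 n215367 = n193814 := d21_4 F356128 F312376 (iv5 F312378) D215367 (iv6 F416248) (iv5 F416247) F396190 (iv5 F396191) (iv6 F424501) F424502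
theorem F479607 : act 7 n212542 = n215367 := d13_0 F479605 F470634 (iv5 F466345)
def n215368 : Q := act 6 n173859
theorem D215368 : act 6 n173859 = n215368 := rfl
theorem F479608 : act 2 n215368 = n199963 := d3_1 D215368 F414364 F326155
theorem F479609 : act 3 n215368 = n190630 := d7_1 D215368 (iv6 F479599) F479596
theorem F479610 : act 5 n215368 = n190629 := d12_1 D215368 (iv6 D190629) F320046 (iv6 F325579) (iv5 F272502)
theorem F479611 : act 7 n215368 = n193623 := d14_2 D173859 D215368 (iv6 F393916) F393914 (iv6 D173858)
theorem F479612 : act 0 n208231 = n215368 := d21_4 D202857 (iv1 F448487) (iv5 D208230) D208231 (iv6 D215368) F272502 F298673 D98213 (iv6 F357471) F222580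
def n215369 : Q := act 5 n173906
theorem D215369 : act 5 n173906 = n215369 := rfl
theorem F479613 : act 2 n215369 = n192655 := d2_1 D215369 F387377 (iv2 F272552)
theorem F479614 : act 3 n215369 = n204910 := d6_1 D215369 (iv5 D204910) (iv3 F272553)
theorem F479615 : act 4 n215369 = n201558 := d9_1 D215369 (iv5 F443848) F443847 (iv5 D164514) F259277 F357817 (iv4 F431545) (iv5 F454223) F454222 F419034 (iv4 F379491) (iv5 D164512) (iv4 F283772) F344167 (iv4 F272554)
theorem F479616 : act 6 n215369 = n192715 := d12_2 D173906 D215369 (iv5 F419416) (iv6 D201198) F177716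
theorem F479617 : act 7 n215369 = n192656 := d13_2 (iv7 F315798) D215369 F387379
theorem F479618 : act 0 n215369 = n191942 := d17_2 F354635 D215369 (iv5 D191942) (iv4 F286403) (iv5 F332315) F329471 (iv5 D82995) D82994 (iv4 F354637)
theorem F479619 : act 1 n215369 = n192651 := d17_6 F444582 (iv5 D152437) D152435 F344167 (iv4 F272554) D215369 (iv5 D192651) F384922 (iv4 F444579)
def n215370 : Q := act 1 n173935
theorem D215370 : act 1 n173935 = n215370 := rfl
theorem F479620 : act 1 n215370 = n173987 := d15_1 D215370 (iv7 D173987) (iv2 F272572)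
theorem F479621 : act 7 n215370 = n173983 := d15_2 (iv0 F353090) D215370 (iv2 F348199)
theorem F479622 : act 5 n215370 = n212098 := d17_7 (iv1 F389167) F389165 (iv1 F253125) (iv5 F351824) F220514 F351814 D215370 F473918 F473914
theorem F479623 : act 4 n215370 = n203282 := d17_9 F427654 (iv5 D164554) (iv1 F272357) D174807 (iv4 F434850) (iv5 F434852) (iv0 D199236) F351814 D215370
theorem F479624 : act 3 n214614 = n215370 := d20_3 F412485 F477036 F477035 (iv1 D215370) (iv3 F411085) F411086 (iv1 F408549) D198673 (iv3 F408824) (iv1 F412481)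
theorem F479625 : act 2 n215370 = n173984 := d0_1 F479624 (iv3 F348196) F276353 (iv3 F276662) F476055
theorem F479626 : act 6 n215370 = n213036 := d7_2 F476057 F479624 F468711
def n215371 : Q := act 5 n173962
theorem D215371 : act 5 n173962 = n215371 := rfl
theorem F479627 : act 2 n215371 = n192330 := d2_1 D215371 F386456 (iv2 F272612)
theorem F479628 : act 3 n215371 = n204911 := d6_1 D215371 (iv5 D204911) (iv3 F272613)
theorem F479629 : act 7 n215371 = n192331 := d13_2 F342350 D215371 F386458
theorem F479630 : act 0 n215371 = n191907 := d17_2 F322815 D215371 (iv5 D191907) D191906 (iv5 F384787) (iv0 F414435) (iv5 F414436) (iv0 F321092) (iv4 F271874)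
theorem F479631 : act 1 n215371 = n192329 := d17_6 F351950 (iv5 F330171) (iv1 F250701) F319513 D173962 D215371 (iv5 D192329) (iv0 F351946) (iv4 F351953)
def n215372 : Q := act 5 n173983
theorem D215372 : act 5 n173983 = n215372 := rfl
theorem F479632 : act 2 n215372 = n213460 := d2_1 D215372 F470501 F348199
theorem F479633 : act 3 n215372 = n204851 := d6_1 D215372 F433847 F431987
theorem F479634 : act 4 n215372 = n215312 := d9_1 D215372 (iv5 D215312) F270558 (iv5 F307460) (iv4 F108433) D152470 F348195 F348197 (iv4 F348200) (iv5 D135424) F98984 F48261 (iv4 F98495) D134673 (iv4 F330220)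
theorem F479635 : act 6 n215372 = n206531 := d12_2 (iv6 F431986) D215372 F472150 F472149 (iv5 F431983)
theorem F479636 : act 7 n215372 = n212098 := d13_2 F479621 D215372 (iv5 F479622)
theorem F479637 : act 0 n215372 = n209990 := d17_2 D173983 D215372 (iv5 F476303) F476302 F331731 F330276 F313287 (iv0 F330281) D83188
theorem F479638 : act 1 n215372 = n196930 := d17_6 F437062 F437058 (iv1 D134672) D134673 (iv4 F330220) D215372 (iv5 F476284) F476285 F434850
def n215373 : Q := act 1 n174035
theorem D215373 : act 1 n174035 = n215373 := rfl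
theorem F479639 : act 1 n215373 = n174419 := d15_1 D215373 F362955 (iv2 F343516)
theorem F479640 : act 7 n215373 = n207430 := d15_2 (iv0 F356987) D215373 (iv2 F444869)
theorem F479641 : act 5 n215373 = n212509 := d17_7 D208370 (iv5 F471065) (iv1 F471066) (iv5 D154323) (iv4 F348698) F356984 D215373 (iv0 F466168) F449107
theorem F479642 : act 4 n215373 = n174449 := d17_9 F478671 F478668 (iv1 D213661) F343431 (iv4 F188757) F304288 D128198 F356984 D215373
theorem F479643 : act 3 n174489 = n215373 := d20_3 F155080 D100948 F338091 (iv1 D215373) F272766 F195694 (iv1 F274647) F274636 F307487 (iv1 F272022)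
theorem F479644 : act 6 n194316 = n215373 := d21_3 D172798 (iv1 F334517) (iv5 F392802) (iv1 D215373) (iv6 D174035) D174034 F348447 (iv5 D176472) (iv6 F189168) (iv1 F189171)
theorem F479645 : act 2 n215373 = n207431 := d3_1 F479644 (iv6 F444875) (iv2 F392801)
def n215374 : Q := act 3 n174055
theorem D215374 : act 3 n174055 = n215374 := rfl
theorem F479646 : act 2 n215374 = n199125 := d0_1 D215374 (iv3 D199125) F400838 F400829 (iv2 F273774)
theorem F479647 : act 4 n215374 = n214914 := d5_2 D174055 D215374 (iv3 F477410) F449082 (iv3 D174054)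
theorem F479648 : act 6 n215374 = n200865 := d7_2 (iv6 F365183) D215374 (iv3 F418205)
theorem F479649 : act 7 n215374 = n214281 := d8_2 F330859 D215374 F474381
theorem F479650 : act 0 n215374 = n206640 := d20_4 (iv4 D83215) D83213 D174055 D215374 F441703 F412383 F203094 (iv4 F407719) (iv3 F407724) F330873
theorem F479651 : act 1 n215374 = n206642 := d15_1 (iv0 F479650) F441713 (iv2 F441702)
def n215375 : Q := act 3 n174060
theorem D215375 : act 3 n174060 = n215375 := rfl
theorem F479652 : act 2 n215375 = n197943 := d0_1 D215375 F406255 F400804 (iv3 D196484) (iv2 F342038)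
theorem F479653 : act 4 n215375 = n205136 := d5_2 (iv4 F342039) D215375 (iv3 F477813) F477808 (iv3 D174871)
theorem F479654 : act 6 n215375 = n197940 := d7_2 F444316 D215375 (iv3 F444319)
theorem F479655 : act 7 n215375 = n196483 := d8_2 F358675 D215375 (iv3 D196483)
theorem F479656 : act 0 n203899 = n215375 := d20_4 (iv4 F135925) (iv1 F298089) F256104 D203899 (iv3 D215375) F342039 F322022 (iv4 F258777) (iv3 D164192) F257770
def n215376 : Q := act 5 n174092
theorem D215376 : act 5 n174092 = n215376 := rfl
theorem F479657 : act 2 n215376 = n174902 := d2_1 D215376 (iv5 F412170) F412172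
theorem F479658 : act 3 n215376 = n174093 := d6_1 D215376 (iv5 D174093) D174092
theorem F479659 : act 7 n215376 = n174901 := d13_2 F412173 D215376 (iv5 F412175)
theorem F479660 : act 4 n215376 = n205265 := d16_4 (iv4 F197479) D204233 (iv4 F431595) D215376 F435668 (iv4 F412162) (iv5 F431816) F431815 (iv2 D123337)
theorem F479661 : act 0 n215376 = n174903 := d17_2 F431596 D215376 (iv5 F413923) F413922 (iv5 F417485) F417480 (iv5 F417543) F417545 (iv4 F412162)
theorem F479662 : act 1 n215376 = n174905 := d17_8 (iv1 F441633) (iv5 F478428) F478430 (iv5 D204233) F197479 D123338 (iv0 F362035) D215376 (iv4 F441631)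
theorem F479663 : act 6 n215376 = n205264 := d21_3 F431816 F431596 D215376 F435665 F406053 (iv5 D138480) D138478 (iv5 F431830) (iv6 D204279) D204276
def n215377 : Q := act 3 n174103
theorem D215377 : act 3 n174103 = n215377 := rfl
theorem F479664 : act 2 n215377 = n204331 := d0_1 D215377 F432078 F333665 F333728 (iv2 F333735)
theorem F479665 : act 4 n215377 = n183400 := d5_2 (iv4 F324290) D215377 (iv3 F345809) F271874 (iv3 F271873)
theorem F479666 : act 5 n215377 = n212798 := d6_2 F459124 D215377 F467567
theorem F479667 : act 6 n215377 = n183398 := d7_2 F380178 D215377 (iv3 F380177)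
theorem F479668 : act 7 n215377 = n177030 := d8_2 (iv7 F324291) D215377 F276447
theorem F479669 : act 0 n215377 = n204321 := d19_4 (iv1 F444844) F444841 (iv4 F324290) D215377 F432034 (iv4 F246890) (iv3 F340027) (iv1 F416343) F416344 (iv4 D144002) F168099 (iv1 F112162) F112159 (iv4 F165787) (iv3 F402338) (iv1 F479638) (iv5 D215372) F330220 F336418
theorem F479670 : act 0 n176958 = n215377 := d20_4 (iv4 F332499) D99571 F339102 D176958 (iv3 D215377) F324290 F342340 (iv4 F309664) F314268 (iv1 F222229)
def n215378 : Q := act 3 n174108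
theorem D215378 : act 3 n174108 = n215378 := rfl
theorem F479671 : act 2 n215378 = n177601 := d0_1 D215378 (iv3 D177601) (iv2 D84594) D84595 (iv2 F359278)
theorem F479672 : act 4 n215378 = n174114 := d5_2 D174108 D215378 (iv3 D174114) (iv4 D83234) (iv3 F128306)
theorem F479673 : act 6 n215378 = n178546 := d7_2 F434773 D215378 (iv3 F434777)
theorem F479674 : act 7 n215378 = n177630 := d8_2 (iv7 F359279) D215378 F362462
theorem F479675 : act 0 n215378 = n177547 := d20_4 (iv4 F88203) (iv1 F344884) D174108 D215378 (iv3 D177547) (iv4 F338326) F430128 (iv4 D203857) (iv3 D121093) (iv1 D55875)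
theorem F479676 : act 0 n177628 = n215378 := d20_4 (iv4 F326490) (iv1 F172673) (iv4 F202660) (iv3 F351047) (iv3 D215378) (iv4 D174108) F344883 (iv4 F323598) (iv3 F324566) (iv1 F325660)
def n215379 : Q := act 5 n174114
theorem D215379 : act 5 n174114 = n215379 := rfl
theorem F479677 : act 3 n215379 = n174115 := d6_1 D215379 (iv5 D174115) D174114
theorem F479678 : act 4 n215379 = n194921 := d18_5 (iv1 F353984) F353986 F479676 F479672 D215379 (iv0 F430044) F430041 F360140 F341307
theorem F479679 : act 0 n196875 = n215379 := d19_0 (iv5 D215379) (iv4 F479672) (iv3 D215378) F466057 F466054 F463516 (iv3 F422621) (iv1 F422626) D202114 (iv4 F422921) F422923 (iv1 F392526) (iv5 F402085) (iv4 D196866) (iv3 D107399) (iv1 D49608) D49609 D107404 D196875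
theorem F479680 : act 6 n194919 = n215379 := d10_0 F479678 (iv6 D194921) (iv4 F395006)
def n215380 : Q := act 6 n174114
theorem D215380 : act 6 n174114 = n215380 := rfl
theorem F479681 : act 3 n215380 = n174116 := d7_1 D215380 (iv6 D174116) D174114
theorem F479682 : act 4 n215380 = n178546 := d10_1 D215380 (iv6 F479673) F479672
theorem F479683 : act 5 n215380 = n178502 := d12_1 D215380 (iv6 F471498) F471500 F479680 (iv5 D215379)
theorem F479684 : act 0 n215380 = n178230 := d21_10 F337712 (iv1 F278192) (iv5 F434109) F434108 F346371 (iv6 F433795) F433797 F479679 (iv5 D215379) D215380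
theorem F479685 : act 1 n215380 = n178235 := d15_1 (iv0 F479684) (iv7 F434027) F434024
def n215381 : Q := act 4 n174118
theorem D215381 : act 4 n174118 = n215381 := rfl
theorem F479686 : act 2 n215381 = n211900 := d1_1 D215381 F463487 F434737
theorem F479687 : act 3 n215381 = n204293 := d5_1 D215381 (iv4 F431907) (iv3 F395212) F358730 F353951
theorem F479688 : act 5 n215381 = n192522 := d9_2 F353952 D215381 (iv4 D192522) D192523 (iv4 F469781) (iv5 D213295) (iv4 F241416) F353948 D205051 F434786 (iv4 D192518) D192519 (iv4 F386939) (iv5 D182920) (iv4 F154905)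
theorem F479689 : act 6 n215381 = n196475 := d10_2 (iv6 F387310) D215381 F400784
theorem F479690 : act 7 n215381 = n213371 := d11_2 (iv7 F353950) D215381 (iv4 D213371)
theorem F479691 : act 0 n215381 = n174202 := d18_2 F389878 D215381 F272994 (iv5 F303617) (iv4 F431689) (iv0 F478912) F478909 (iv0 D193448) D193449
theorem F479692 : act 1 n215381 = n180807 := d18_6 (iv1 F151581) F354009 (iv1 D182919) (iv4 F154905) F353952 D215381 F281456 (iv0 F328763) F321788
def n215382 : Q := act 1 n174129
theorem D215382 : act 1 n174129 = n215382 := rfl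
theorem F479693 : act 1 n215382 = n200862 := d15_1 D215382 (iv7 F431824) F431823
theorem F479694 : act 7 n215382 = n174904 := d15_2 (iv0 F413926) D215382 (iv2 F413921)
theorem F479695 : act 4 n215382 = n200872 := d17_9 (iv1 F439108) F439105 F409782 (iv5 D125726) (iv4 F172761) (iv5 F362847) (iv0 F417526) (iv5 F417528) D215382
theorem F479696 : act 5 n215382 = n174905 := d18_9 (iv1 F479662) F479660 F435669 F435441 F413927 (iv4 F464671) (iv0 F477061) F477058 D215382
theorem F479697 : act 3 n174909 = n215382 := d19_19 (iv1 D215382) F417528 (iv4 D200694) (iv3 F411040) (iv1 F358236) (iv5 D177424) (iv4 F271601) (iv3 D173254) (iv1 F127741) (iv5 F128373) (iv4 F271572) (iv3 F346351) (iv1 F271577) (iv5 F353301) F353300 F353293 F127728 D158892 (iv4 F273811)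
theorem F479698 : act 6 n206642 = n215382 := d21_3 (iv5 F412146) F410720 (iv5 F441714) (iv1 D215382) (iv6 F459846) F459845 (iv1 F359815) (iv5 F413612) (iv6 D199814) (iv1 F412148)
theorem F479699 : act 2 n215382 = n197859 := d3_1 F479698 (iv6 F440927) (iv2 F441712)
def n215383 : Q := act 6 n174130
theorem D215383 : act 6 n174130 = n215383 := rfl
theorem F479700 : act 2 n215383 = n194963 := d3_1 D215383 (iv6 F395202) F343706
theorem F479701 : act 3 n215383 = n215234 := d7_1 D215383 (iv6 F478988) F417524
theorem F479702 : act 4 n215383 = n174245 := d10_1 D215383 (iv6 D174245) (iv4 F272932)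
theorem F479703 : act 0 n199813 = n215383 := d20_10 F479702 F380564 F380566 (iv3 F470113) F470115 (iv3 F405669) F405670 F227105 F222469 (iv3 F413607)
def n215384 : Q := act 2 n174138
theorem D215384 : act 2 n174138 = n215384 := rfl
theorem F479704 : act 3 n215384 = n200862 := d0_2 D174138 D215384 F418197 F353652 (iv2 F298821)
theorem F479705 : act 4 n215384 = n197980 := d1_2 F438657 D215384 (iv2 F438655)
theorem F479706 : act 6 n215384 = n197979 := d3_2 (iv6 F438654) D215384 (iv2 F438650)
theorem F479707 : act 1 n215384 = n177512 := d15_0 (iv0 F405468) F273789 D215384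
theorem F479708 : act 1 n177517 = n215384 := d15_0 F479707 (iv7 F433791) F433789
def n215385 : Q := act 5 n174138
theorem D215385 : act 5 n174138 = n215385 := rfl
theorem F479709 : act 3 n215385 = n174139 := d6_1 D215385 (iv5 D174139) D174138
theorem F479710 : act 7 n215385 = n194965 := d13_2 F273789 D215385 (iv5 F395206)
theorem F479711 : act 0 n215385 = n205070 := d17_2 (iv1 F433798) D215385 F434877 F201717 D125441 F351011 (iv5 F311449) D124475 D204842
theorem F479712 : act 4 n215385 = n176823 := d18_5 D177498 (iv4 F415372) (iv1 F438659) F438657 D215385 (iv0 F362560) (iv4 F363325) (iv0 F365845) F341340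
theorem F479713 : act 0 n199457 = n215385 := d19_0 (iv5 D215385) (iv4 F438657) F438656 F357679 F403256 F403250 (iv3 D115714) (iv1 D53357) D53358 D115719 D202418 F477099 F477096 (iv4 F406905) F406907 (iv1 F247343) (iv5 F402067) F402069 (iv3 F412273)
theorem F479714 : act 6 n176821 = n215385 := d10_0 F479712 (iv6 D176823) D176821
def n215386 : Q := act 3 n174150
theorem D215386 : act 3 n174150 = n215386 := rfl
theorem F479715 : act 4 n215386 = n215183 := d5_2 (iv4 F362033) D215386 F478771 F402097 (iv3 D196870)
theorem F479716 : act 5 n215386 = n199633 := d6_2 F402091 D215386 F417494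
theorem F479717 : act 7 n215386 = n197725 := d8_2 F400881 D215386 F405527
theorem F479718 : act 0 n215386 = n197861 := d20_4 (iv4 D107404) D107402 (iv4 F362033) D215386 (iv3 D197861) (iv4 D108730) (iv1 D50205) (iv4 F79560) (iv3 F168680) F356739
theorem F479719 : act 0 n197890 = n215386 := d20_4 (iv4 F438657) F438658 F276949 (iv3 F413932) (iv3 D215386) F362033 (iv1 F165452) (iv4 F400866) (iv3 F433794) (iv1 F433798)
theorem F479720 : act 2 n197893 = n215386 := d15_3 (iv0 F479719) (iv0 D197890) D197893
theorem F479721 : act 6 n215386 = n197905 := d3_2 (iv6 F412004) F479720 F412001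
def n215387 : Q := act 6 n174150
theorem D215387 : act 6 n174150 = n215387 := rfl
theorem F479722 : act 3 n215387 = n197905 := d7_1 D215387 (iv6 F479721) (iv3 D215386)
theorem F479723 : act 4 n215387 = n196871 := d10_1 D215387 (iv6 D196871) (iv4 F362033)
theorem F479724 : act 7 n215387 = n197899 := d14_2 F400881 D215387 (iv6 D197899) (iv7 F405524) (iv6 F405525)
def n215388 : Q := act 5 n174202
theorem D215388 : act 5 n174202 = n215388 := rfl
theorem F479725 : act 3 n215388 = n178119 := d6_1 D215388 (iv5 F412049) F412047
theorem F479726 : act 6 n215388 = n178117 := d12_2 D174202 D215388 (iv5 D178117) (iv6 F304612) F346346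
theorem F479727 : act 7 n215388 = n198039 := d13_2 (iv7 F365500) D215388 F406571
theorem F479728 : act 4 n215388 = n199345 := d18_5 (iv1 F358719) F201555 (iv1 F322764) (iv4 F272994) D215388 (iv0 D199345) F172474 F400165 F400164
def n215389 : Q := act 6 n174236
theorem D215389 : act 6 n174236 = n215389 := rfl
theorem F479729 : act 2 n215389 = n198624 := d3_1 D215389 F408591 F273034
theorem F479730 : act 3 n215389 = n198637 := d7_1 D215389 F408649 (iv3 F362539)
theorem F479731 : act 4 n215389 = n199612 := d10_1 D215389 (iv6 F430775) F430773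
theorem F479732 : act 5 n215389 = n214348 := d12_1 D215389 (iv6 D214348) (iv5 D158830) (iv6 F199060) (iv5 F273033)
theorem F479733 : act 7 n215389 = n199693 := d14_2 F300949 D215389 F430979 (iv7 F475990) F475989
theorem F479734 : act 0 n215389 = n198606 := d21_10 F448475 F448476 (iv5 F378277) (iv6 D189927) F160470 (iv6 F358399) F271620 (iv1 F199063) (iv5 F273033) D215389
theorem F479735 : act 0 n199434 = n215389 := d21_4 F408258 (iv1 F408259) F405761 (iv6 F412177) (iv6 D215389) F273033 F199062 (iv5 F271626) (iv6 F378268) F408257
def n215390 : Q := act 4 n174238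
theorem D215390 : act 4 n174238 = n215390 := rfl
theorem F479736 : act 3 n215390 = n214383 := d5_1 D215390 F474895 F250822 (iv4 F250823) (iv3 F364248)
theorem F479737 : act 6 n215390 = n191353 := d10_2 F364249 D215390 (iv4 D191353)
def n215391 : Q := act 0 n174242
theorem D215391 : act 0 n174242 = n215391 := rfl
theorem F479738 : act 4 n215391 = n195077 := d20_2 F411041 D215391 F395680 (iv1 D163019) (iv3 D78391) (iv4 D35728) (iv1 F118085) D40085 D86505 D181139
theorem F479739 : act 3 n215391 = n180645 := d20_5 (iv4 F353286) F353320 F272932 (iv3 F273037) D215391 F281176 (iv1 F336481) D163095 F353267 (iv1 F272984)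
theorem F479740 : act 6 n215391 = n195076 := d21_5 D205286 F435779 F415600 F394811 D215391 (iv5 F398667) (iv1 F410999) F410997 F379400 F369671
theorem F479741 : act 2 n195083 = n215391 := d3_3 F479740 F395676 D195083
theorem F479742 : act 7 n180637 = n215391 := d14_0 F479740 F395677 (iv6 F362851) F254473 D180637
def n215392 : Q := act 1 n174242
theorem D215392 : act 1 n174242 = n215392 := rfl
theorem F479743 : act 7 n215392 = n195083 := d15_2 (iv0 D215391) D215392 F479741
theorem F479744 : act 4 n215392 = n195087 := d18_7 F417614 F395129 D194946 F418465 F418469 F411041 D215392 F435758 D200717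
theorem F479745 : act 6 n180635 = n215392 := d21_3 F283197 (iv1 F379230) (iv5 F379231) (iv1 D215392) (iv6 F394811) (iv5 F415600) (iv1 F425671) F425669 F392646 F373672
theorem F479746 : act 2 n215392 = n180637 := d3_1 F479745 (iv6 D180637) D180635
theorem F479747 : act 3 n215392 = n215320 := d7_1 F479745 (iv6 F479381) F288739
def n215393 : Q := act 7 n174250
theorem D215393 : act 7 n174250 = n215393 := rfl
theorem F479748 : act 2 n215393 = n215322 := d4_1 D215393 F479390 (iv2 F337358)
theorem F479749 : act 3 n215393 = n174254 := d8_1 D215393 (iv7 D174254) D174250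
theorem F479750 : act 4 n215393 = n181140 := d11_1 D215393 (iv7 F436891) (iv4 F436892)
theorem F479751 : act 5 n215393 = n215321 := d13_1 D215393 F479386 (iv5 F358246)
theorem F479752 : act 6 n215393 = n214295 := d14_1 D215393 F474434 (iv6 D194973) F160671 (iv6 F362849)
theorem F479753 : act 1 n215392 = n215393 := d15_1 D215392 (iv7 D215393) F337358
theorem F479754 : act 1 n215393 = n215391 := d15_1 F479753 (iv7 F479742) (iv2 F479746)
def n215394 : Q := act 7 n174265
theorem D215394 : act 7 n174265 = n215394 := rfl
theorem F479755 : act 2 n215394 = n203870 := d4_1 D215394 (iv7 F469181) F469178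
theorem F479756 : act 3 n215394 = n174276 := d8_1 D215394 (iv7 D174276) (iv3 F273058)
theorem F479757 : act 4 n215394 = n207984 := d11_1 D215394 F447277 (iv4 F337362)
theorem F479758 : act 5 n215394 = n207980 := d13_1 D215394 F447254 (iv5 F273059)
theorem F479759 : act 6 n215394 = n203838 := d14_1 D215394 F430055 F378045 (iv7 D174266) D174265
theorem F479760 : act 1 n203867 = n215394 := d15_1 F469184 (iv7 D215394) (iv2 F469178)
theorem F479761 : act 1 n215394 = n176714 := d15_1 F479760 (iv7 F366918) (iv2 F430174)
def n215395 : Q := act 4 n174270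
theorem D215395 : act 4 n174270 = n215395 := rfl
theorem F479762 : act 2 n215395 = n205161 := d1_1 D215395 F435229 F394548
theorem F479763 : act 3 n215395 = n205265 := d5_1 D215395 (iv4 F479660) F479658 F272897 D174270
theorem F479764 : act 5 n215395 = n205159 := d9_2 (iv5 F413789) D215395 (iv4 F453077) F453078 (iv4 F429994) (iv5 F435732) F435731 F377951 (iv4 F394542) F394543 (iv4 F408834) (iv5 F408838) F418473 (iv5 D200952) (iv4 F413787)
theorem F479765 : act 7 n215395 = n214833 := d11_2 (iv7 F394519) D215395 F477053
theorem F479766 : act 0 n215395 = n200952 := d17_0 (iv5 D200952) F402620 F402621 (iv4 F479750) F479751 F479387 F394547 F394545 D215395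
theorem F479767 : act 1 n215395 = n203828 := d18_6 D194946 F418465 (iv1 D200951) (iv4 F413787) (iv5 F413789) D215395 F429994 F393472 F393470
theorem F479768 : act 6 n205263 = n215395 := d14_5 F479765 F477056 F394513 F405936 (iv7 F435660)
def n215396 : Q := act 6 n174270
theorem D215396 : act 6 n174270 = n215396 := rfl
theorem F479769 : act 2 n215396 = n190597 := d3_1 D215396 (iv6 F394550) F394548
theorem F479770 : act 3 n215396 = n174271 := d7_1 D215396 (iv6 D174271) D174270
theorem F479771 : act 4 n215396 = n205263 := d10_1 D215396 F479768 (iv4 D215395)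
theorem F479772 : act 5 n215396 = n190586 := d12_1 D215396 F380223 F377887 D199846 (iv5 F413789)
theorem F479773 : act 7 n215396 = n190585 := d14_2 (iv7 F394519) D215396 F380219 (iv7 F160241) D194799
theorem F479774 : act 1 n190595 = n215396 := d15_1 D190595 F479773 F380217
theorem F479775 : act 1 n215396 = n190594 := d15_1 F479774 (iv7 F435448) F435445
def n215397 : Q := act 4 n174274
theorem D215397 : act 4 n174274 = n215397 := rfl
theorem F479776 : act 3 n215397 = n205131 := d5_1 D215397 (iv4 F476418) F476417 F399740 F399676
theorem F479777 : act 7 n215397 = n205133 := d11_2 F479400 D215397 F479402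
theorem F479778 : act 5 n215397 = n175993 := d16_1 D215397 (iv4 D175993) (iv5 D83976) (iv4 F128959) D175980 (iv4 F474584) F474586 F479398 (iv2 F479397)
theorem F479779 : act 0 n215397 = n211111 := d17_0 F460145 F279177 (iv5 F378718) (iv4 F413151) F413153 F377431 (iv5 F398637) F398640 D215397
def n215398 : Q := act 4 n174275
theorem D215398 : act 4 n174275 = n215398 := rfl
theorem F479780 : act 2 n215398 = n205133 := d1_1 D215398 F479402 (iv2 F479403)
theorem F479781 : act 3 n215398 = n179610 := d5_1 D215398 F364620 (iv3 F443345) F443348 F443349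
theorem F479782 : act 5 n215398 = n179609 := d9_2 F474586 D215398 F279725 (iv5 F326620) F239652 (iv5 F416124) F416123 F399673 D215397 F479778 (iv4 D175993) (iv5 D83976) (iv4 F128959) D175980 (iv4 F474584)
theorem F479783 : act 1 n215398 = n211111 := d18_8 F279177 (iv4 D179115) (iv1 F345561) (iv4 F398589) F398590 F273064 D174275 D215398 F460145
theorem F479784 : act 6 n215242 = n215398 := d21_5 F407278 (iv1 F388157) (iv5 F394993) (iv6 F408234) F479016 F479782 (iv1 F466006) F466004 F479238 F479236
def n215399 : Q := act 6 n174275
theorem D215399 : act 6 n174275 = n215399 := rfl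
theorem F479785 : act 2 n215399 = n214873 := d3_1 D215399 (iv6 F479404) (iv2 F479403)
theorem F479786 : act 4 n215399 = n215242 := d10_1 D215399 F479784 (iv4 D215398)
theorem F479787 : act 0 n194916 = n215399 := d21_4 F287718 (iv1 F147771) F160477 D194916 (iv6 D215399) (iv5 F474586) (iv1 F474587) (iv5 F378056) (iv6 D189873) F287720
theorem F479788 : act 7 n214875 = n215399 := d11_0 F479786 F479015 F477231
theorem F479789 : act 0 n215399 = n203865 := d20_1 (iv4 F479786) F430168 (iv3 F280822) (iv1 D180437) F327418 F168455 (iv1 F171667) (iv4 F171668) D198526 F479016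
def n215400 : Q := act 6 n174276
theorem D215400 : act 6 n174276 = n215400 := rfl
theorem F479790 : act 2 n215400 = n196850 := d3_1 D215400 F402033 F398636
theorem F479791 : act 3 n215400 = n203838 := d7_1 D215400 (iv6 F479759) F479756
theorem F479792 : act 4 n215400 = n196781 := d10_1 D215400 F401777 F398621
theorem F479793 : act 5 n215400 = n193659 := d12_1 D215400 (iv6 D193659) F352861 (iv6 F352916) (iv5 F273065)
theorem F479794 : act 7 n215400 = n174277 := d14_2 D174276 D215400 (iv6 D174277) (iv7 D83299) D83298
theorem F479795 : act 0 n215400 = n194834 := d21_10 F394663 (iv1 D193938) D193939 F407206 (iv1 D198199) D198202 (iv5 F407215) (iv1 F377423) (iv5 F273065) D215400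
theorem F479796 : act 0 n193490 = n215400 := d17_2 F389985 D193490 F479793 (iv4 F460414) (iv5 D211165) (iv0 F391472) (iv5 D193942) (iv0 D102490) (iv4 F157435)
def n215401 : Q := act 0 n174277
theorem D215401 : act 0 n174277 = n215401 := rfl
theorem F479797 : act 5 n215401 = n192112 := d17_1 D215401 (iv1 F391466) F479058 F479056 (iv5 F401156) (iv0 F433733) (iv5 D204826) D204824 (iv4 F433720)
theorem F479798 : act 4 n215401 = n211109 := d18_1 D215401 (iv1 D211109) (iv4 F414113) F414114 (iv4 D137183) (iv0 F346631) (iv4 F390875) (iv0 F390878) (iv5 F352925)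
theorem F479799 : act 3 n215401 = n194837 := d20_5 (iv4 F415418) F466219 F466215 (iv3 F378046) D215401 F394672 (iv1 F160609) (iv4 F395012) (iv3 F430068) F430072
theorem F479800 : act 1 n196850 = n215401 := d15_0 (iv0 D215401) (iv7 F479794) F479790
theorem F479801 : act 2 n193490 = n215401 := d0_5 F479799 (iv2 F395163) (iv3 F417639) F425869 (iv3 F425872)
theorem F479802 : act 6 n198369 = n215401 := d7_0 F479799 F394673 D198369
theorem F479803 : act 7 n194834 = n215401 := d8_0 F479799 (iv7 D194837) (iv3 F394662)
def n215402 : Q := act 1 n174277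
theorem D215402 : act 1 n174277 = n215402 := rfl
theorem F479804 : act 1 n215402 = n196850 := d15_1 D215402 (iv7 F408678) F408675
theorem F479805 : act 7 n215402 = n193490 := d15_2 (iv0 D215401) D215402 F479801
theorem F479806 : act 5 n215402 = n193491 := d17_7 (iv1 F385915) (iv5 F385917) (iv1 F411431) (iv5 F455366) (iv4 D209922) (iv5 F352925) D215402 F391465 F391463
theorem F479807 : act 4 n215402 = n211108 := d17_9 (iv1 F460132) F333031 F407275 (iv5 D198225) D198224 F407270 (iv0 F390878) (iv5 F352925) D215402
theorem F479808 : act 3 n200718 = n215402 := d20_3 D200726 (iv1 F441700) F441696 (iv1 D215402) F378046 (iv4 F466215) F466218 F415412 (iv3 F414104) F414106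
theorem F479809 : act 2 n215402 = n194834 := d0_1 F479808 F394662 (iv2 F160607) (iv3 F395158) (iv2 F417615)
theorem F479810 : act 6 n215402 = n194833 := d7_2 F417618 F479808 (iv3 F395153)
def n215403 : Q := act 3 n174314
theorem D215403 : act 3 n174314 = n215403 := rfl
theorem F479811 : act 2 n215403 = n211955 := d0_1 D215403 (iv3 F466829) F466828 (iv3 F469258) F469257
theorem F479812 : act 4 n215403 = n190339 := d5_2 F470969 D215403 (iv3 F391887) (iv4 F391890) F470970
theorem F479813 : act 5 n215403 = n211951 := d6_2 F443430 D215403 F463712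
theorem F479814 : act 0 n175197 = n215403 := d20_4 (iv4 D124664) D124662 F334606 (iv3 F274242) (iv3 D215403) (iv4 F470969) (iv1 D213547) (iv4 F347343) F315043 (iv1 F334605)
theorem F479815 : act 1 n175200 = n215403 := d15_0 (iv0 F479814) (iv7 F428783) F428780
def n215404 : Q := act 6 n174398
theorem D215404 : act 6 n174398 = n215404 := rfl
theorem F479816 : act 2 n215404 = n174455 := d3_1 D215404 (iv6 D174455) (iv2 F273328)
theorem F479817 : act 3 n215404 = n210033 := d7_1 D215404 (iv6 F455848) (iv3 F440212)
theorem F479818 : act 4 n215404 = n189172 := d10_1 D215404 F375943 (iv4 F358748)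
theorem F479819 : act 5 n215404 = n200515 := d12_1 D215404 (iv6 F416820) (iv5 D158323) D158324 F273265
theorem F479820 : act 7 n215404 = n189170 := d14_2 (iv7 F273329) D215404 (iv6 D189170) F293999 F358742
theorem F479821 : act 0 n215404 = n189180 := d21_4 F342727 F347334 F273265 D215404 F438065 F438062 (iv1 F417808) (iv5 F348508) (iv6 D174443) (iv1 F273315)
theorem F479822 : act 0 n189179 = n215404 := d21_4 (iv5 F264113) (iv1 F264114) (iv5 F261707) (iv6 F375971) (iv6 D215404) (iv5 F273265) F449819 F449817 F354167 (iv1 F241916)
def n215405 : Q := act 3 n174399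
theorem D215405 : act 3 n174399 = n215405 := rfl
theorem F479823 : act 2 n215405 = n192430 := d0_1 D215405 F461737 (iv2 F460749) (iv3 D174458) (iv2 F273266)
theorem F479824 : act 5 n215405 = n213409 := d6_2 F358776 D215405 F470272
theorem F479825 : act 6 n215405 = n192353 := d7_2 F358775 D215405 F386546
theorem F479826 : act 7 n215405 = n192429 := d8_2 F358771 D215405 F386718
theorem F479827 : act 0 n192432 = n215405 := d20_4 D192518 (iv1 F388185) F386719 (iv3 F386713) (iv3 D215405) (iv4 D174399) (iv1 F358737) F144144 (iv3 F73900) D100264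
theorem F479828 : act 1 n192416 = n215405 := d15_0 (iv0 F479827) (iv7 D192432) (iv2 F386684)
def n215406 : Q := act 6 n174400
theorem D215406 : act 6 n174400 = n215406 := rfl
theorem F479829 : act 2 n215406 = n174461 := d3_1 D215406 (iv6 D174461) (iv2 F273267)
theorem F479830 : act 3 n215406 = n177513 := d7_1 D215406 F339275 (iv3 F331737)
theorem F479831 : act 4 n215406 = n213538 := d10_1 D215406 F470923 (iv4 F358769)
theorem F479832 : act 5 n215406 = n177511 := d12_1 D215406 (iv6 F409902) F409899 F271503 (iv5 F273268)
theorem F479833 : act 7 n215406 = n213535 := d14_2 D174400 D215406 (iv6 D213535) (iv7 F332008) F273237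
theorem F479834 : act 0 n215406 = n205007 := d21_4 (iv5 D83376) (iv1 F128485) (iv5 F273268) D215406 (iv6 D205007) (iv5 F353925) (iv1 F241901) (iv5 F470660) F470661 (iv1 D174435)
theorem F479835 : act 0 n210030 = n215406 := d21_4 (iv5 F418074) (iv1 D200826) (iv5 F220437) D210030 (iv6 D215406) F273268 (iv1 F128484) D83381 D174443 F375915
def n215407 : Q := act 6 n174423
theorem D215407 : act 6 n174423 = n215407 := rfl
theorem F479836 : act 2 n215407 = n213535 := d3_1 D215407 (iv6 D213535) (iv2 F332002)
theorem F479837 : act 3 n215407 = n174504 := d7_1 D215407 (iv6 D174504) (iv3 F273298)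
theorem F479838 : act 4 n215407 = n204916 := d10_1 D215407 (iv6 D204916) F332001
theorem F479839 : act 5 n215407 = n200178 := d12_1 D215407 F447281 F447278 F316726 (iv5 F273299)
theorem F479840 : act 7 n215407 = n174461 := d14_2 D174423 D215407 (iv6 D174461) (iv7 D83386) (iv6 F128499)
theorem F479841 : act 0 n215407 = n210030 := d21_4 F388165 F314433 (iv5 F273299) D215407 (iv6 D210030) F220437 D200825 (iv5 F454396) F454397 (iv1 F388168)
theorem F479842 : act 0 n205007 = n215407 := d21_4 (iv5 D128174) D128172 F353925 D205007 (iv6 D215407) F273299 (iv1 F331994) F311889 (iv6 F242385) F343437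
def n215408 : Q := act 4 n174427
theorem D215408 : act 4 n174427 = n215408 := rfl
theorem F479843 : act 7 n215408 = n209937 := d11_2 (iv7 F354156) D215408 F455438
theorem F479844 : act 0 n215408 = n176124 := d18_2 (iv1 F357883) D215408 F275380 (iv5 F303621) (iv4 F353801) (iv0 F384813) (iv4 F470109) (iv0 F479553) F479551
def n215409 : Q := act 4 n174434
theorem D215409 : act 4 n174434 = n215409 := rfl
theorem F479845 : act 2 n215409 = n210652 := d1_1 D215409 F458343 F354168
theorem F479846 : act 6 n215409 = n184347 := d10_2 (iv6 F354167) D215409 F364280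
theorem F479847 : act 7 n215409 = n213532 := d11_2 F471503 D215409 (iv4 F471504)
theorem F479848 : act 0 n215409 = n202543 := d17_0 F424424 (iv1 F358791) (iv5 D174459) (iv4 D83385) (iv5 D38412) D38411 D83381 F273314 D215409
theorem F479849 : act 1 n215409 = n212545 := d18_6 F439952 F439951 F439929 (iv4 F449816) F449817 D215409 F466356 (iv0 F342712) D197106
def n215410 : Q := act 4 n174435
theorem D215410 : act 4 n174435 = n215410 := rfl
theorem F479850 : act 2 n215410 = n213532 := d1_1 D215410 (iv4 F471504) F471507
theorem F479851 : act 3 n215410 = n210334 := d5_1 D215410 (iv4 F464372) (iv3 D212114) F330944 (iv3 F354170)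
theorem F479852 : act 6 n215410 = n204914 := d10_2 F470661 D215410 (iv4 F470659)
theorem F479853 : act 7 n215410 = n210652 := d11_2 (iv7 F354169) D215410 F458343
theorem F479854 : act 5 n215410 = n213387 := d16_1 D215410 F470183 (iv5 D213299) (iv4 F348690) D206250 (iv4 F449816) F449817 (iv7 F471503) F471507
theorem F479855 : act 0 n215410 = n212545 := d17_0 F466357 (iv1 F470282) F470280 (iv4 F358769) F273268 F128485 D83376 D174435 D215410
theorem F479856 : act 1 n215410 = n202543 := d18_6 F440121 D213774 F472041 (iv4 F263844) (iv5 F342727) D215410 F424422 (iv0 F428832) (iv5 F440120)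
def n215411 : Q := act 3 n174436
theorem D215411 : act 3 n174436 = n215411 := rfl
theorem F479857 : act 0 n215411 = n210860 := d20_4 (iv4 D215410) (iv1 D174435) D174436 D215411 (iv3 D210860) (iv4 F361510) F424430 F424427 (iv3 F424421) (iv1 F479856)
theorem F479858 : act 1 n215411 = n210583 := d15_1 (iv0 F479857) F458129 (iv2 F459050)
def n215412 : Q := act 5 n174457
theorem D215412 : act 5 n174457 = n215412 := rfl
theorem F479859 : act 3 n215412 = n213771 := d6_1 D215412 F472023 F358786
theorem F479860 : act 7 n215412 = n185429 := d13_2 (iv7 F358784) D215412 F287692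
theorem F479861 : act 4 n215412 = n214234 := d16_2 F358787 D215412 (iv5 D214234) F429184 (iv5 F466836) F466835 F447354 (iv7 F440287) F440285
theorem F479862 : act 0 n215412 = n213388 := d17_2 (iv1 F358772) D215412 F470187 F458343 F343427 (iv0 F273326) (iv5 D174454) F273270 F358769
theorem F479863 : act 1 n215412 = n213386 := d17_6 (iv1 F354065) (iv5 F444848) (iv1 F447376) F447379 F358787 D215412 (iv5 F470895) (iv0 F470896) F438514
def n215413 : Q := act 5 n174458
theorem D215413 : act 5 n174458 = n215413 := rfl
theorem F479864 : act 2 n215413 = n191429 := d2_1 D215413 (iv5 F460747) (iv2 F460749)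
theorem F479865 : act 3 n215413 = n174459 := d6_1 D215413 (iv5 D174459) D174458
theorem F479866 : act 6 n215413 = n203175 := d12_2 F364901 D215413 F427312 F361461 D154110
theorem F479867 : act 7 n215413 = n191431 := d13_2 F460754 D215413 (iv5 F460759)
theorem F479868 : act 4 n215413 = n191418 := d16_4 F364880 (iv5 D174586) (iv4 F273333) D215413 (iv5 D191418) F151744 D190084 (iv7 F381628) F381626
theorem F479869 : act 0 n215413 = n210656 := d21_1 D215413 F458357 (iv6 F424418) (iv1 F456868) (iv6 D210289) F221327 (iv1 F360531) (iv5 F357364) D211236 F460745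
theorem F479870 : act 0 n210645 = n215413 := d21_7 (iv5 D148968) F232803 (iv5 F236295) (iv6 F362369) (iv1 F180521) D139467 D210645 (iv5 D215413) (iv6 F364901) F361475
def n215414 : Q := act 0 n174461
theorem D215414 : act 0 n174461 = n215414 := rfl
theorem F479871 : act 5 n215414 = n194846 := d17_3 F466219 F466216 D215414 F394734 F160346 D194467 (iv5 F430081) (iv0 F430083) (iv4 F415418)
theorem F479872 : act 4 n215414 = n199364 := d18_1 D215414 F411865 F389152 F360764 D203842 (iv0 F430073) (iv4 F415412) (iv0 F466218) F466216
theorem F479873 : act 3 n215414 = n209422 := d20_5 F165433 D107385 F401999 (iv3 F273335) D215414 (iv4 F469783) F469785 F456317 (iv3 F401997) (iv1 D196839)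
theorem F479874 : act 6 n215414 = n199362 := d21_5 F343431 (iv1 F128483) (iv5 F128505) D174461 D215414 F411855 (iv1 F241899) (iv5 F434711) F471506 (iv1 D213661)
theorem F479875 : act 2 n205007 = n215414 := d15_3 (iv0 D215414) (iv0 F418065) F434578
theorem F479876 : act 1 n213535 = n215414 := d15_0 (iv0 D215414) (iv7 F479840) F479836
theorem F479877 : act 7 n215414 = n210030 := d15_2 (iv0 F470909) F479876 F455828
def n215415 : Q := act 5 n174474
theorem D215415 : act 5 n174474 = n215415 := rfl
theorem F479878 : act 3 n215415 = n211408 := d6_1 D215415 F461440 (iv3 F415078)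
theorem F479879 : act 4 n215415 = n192916 := d16_2 D174474 D215415 F388210 (iv4 D191909) (iv5 D99311) F155511 D83395 (iv7 F274999) F274998
theorem F479880 : act 0 n215415 = n212214 := d17_2 (iv1 F411118) D215415 F464776 F273909 F128657 F127873 (iv5 F331962) F331960 (iv4 F411116)
theorem F479881 : act 1 n215415 = n210932 := d17_6 (iv1 D83398) (iv5 D38416) D38414 D83390 D174474 D215415 F459348 (iv0 F273379) (iv4 D174497)
theorem F479882 : act 6 n196847 = n215415 := d21_5 (iv5 F389348) (iv1 F384962) (iv5 F387503) (iv6 F461071) F461073 (iv5 D215415) F343472 (iv5 F360587) F363146 (iv1 F389365)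
def n215416 : Q := act 3 n174487
theorem D215416 : act 3 n174487 = n215416 := rfl
theorem F479883 : act 2 n215416 = n194588 := d0_1 D215416 (iv3 F407698) F407697 (iv3 F386567) F386564
theorem F479884 : act 4 n215416 = n194466 := d5_2 D174487 D215416 F393328 F392505 F273373
theorem F479885 : act 7 n215416 = n194589 := d8_2 F386497 D215416 F393769
theorem F479886 : act 0 n215416 = n194591 := d19_4 (iv1 F127792) D83395 D174487 D215416 F459313 F459311 (iv3 F455695) (iv1 F471045) F471047 F458413 (iv3 F360569) (iv1 D128047) (iv5 F97980) F309068 (iv3 F156075) F309063 F210759 (iv4 F108490) (iv3 F127788)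
theorem F479887 : act 0 n194468 = n215416 := d20_4 F460102 (iv1 D149018) D149019 (iv3 F393337) (iv3 D215416) (iv4 D174487) (iv1 F273355) (iv4 F343467) (iv3 F401795) (iv1 F460100)
theorem F479888 : act 6 n215416 = n200308 := d21_5 (iv5 D91371) D91368 F345147 D194468 F479887 F415933 (iv1 D198244) F352255 (iv6 D103879) F293299
def n215417 : Q := act 5 n174487
theorem D215417 : act 5 n174487 = n215417 := rfl
theorem F479889 : act 4 n215417 = n192915 := d9_1 D215417 F388206 (iv4 D191902) (iv5 D99306) F155515 D83390 D174474 D215415 F479879 F388210 (iv4 D191909) (iv5 D99311) F155511 D83395 D174487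
theorem F479890 : act 0 n215417 = n210932 := d17_2 F363237 D215417 F459348 (iv4 D173374) (iv5 D82966) D82965 (iv5 F311770) (iv0 D162043) D162045
theorem F479891 : act 1 n215417 = n212214 := d17_6 (iv1 F271689) F271687 (iv1 F127792) D83395 D174487 D215417 F464776 F273911 (iv4 D174494)
def n215418 : Q := act 6 n174487
theorem D215418 : act 6 n174487 = n215418 := rfl
theorem F479892 : act 2 n215418 = n196399 := d3_1 D215418 F400587 F386564
theorem F479893 : act 3 n215418 = n200308 := d7_1 D215418 (iv6 F479888) (iv3 D215416)
theorem F479894 : act 4 n215418 = n174488 := d10_1 D215418 (iv6 D174488) D174487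
theorem F479895 : act 5 n199697 = n215418 := d21_2 (iv5 F378718) D199697 (iv6 D215418) (iv1 F411119) (iv6 D199194) (iv5 D111061) (iv1 F181497) (iv5 F172119) F360000 F279177
theorem F479896 : act 0 n178921 = n215418 := d21_4 D174560 (iv1 F476917) (iv5 D214800) F341150 (iv6 D215418) D215417 F479890 F459348 F271850 (iv1 F128666)
theorem F479897 : act 1 n211893 = n215418 := d15_0 (iv0 F479896) (iv7 F279727) (iv2 F463455)
theorem F479898 : act 7 n215418 = n212480 := d15_2 F463460 F479897 F466001
def n215419 : Q := act 3 n174494
theorem D215419 : act 3 n174494 = n215419 := rfl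
theorem F479899 : act 7 n215419 = n211072 := d8_2 (iv7 F273902) D215419 F459990
theorem F479900 : act 0 n215419 = n199259 := d20_4 (iv4 D83399) D83397 D174494 D215419 F411354 F172327 F175368 (iv4 F228437) (iv3 F343943) (iv1 D174500)
theorem F479901 : act 0 n210938 = n215419 := d20_4 D211095 F460077 (iv4 D210939) D210938 (iv3 D215419) (iv4 D174494) (iv1 F271689) (iv4 F402025) F406440 (iv1 F406444)
theorem F479902 : act 5 n215419 = n200124 := d21_2 (iv5 F459379) F479901 (iv6 F415115) (iv1 F180099) (iv6 F351309) (iv5 F405680) F405682 D198347 F461450 (iv1 D211409)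
theorem F479903 : act 2 n211009 = n215419 := d2_3 F479902 F415116 D211009
def n215420 : Q := act 5 n174494
theorem D215420 : act 5 n174494 = n215420 := rfl
theorem F479904 : act 2 n215420 = n211029 := d2_1 D215420 (iv5 F459798) (iv2 F273903)
theorem F479905 : act 3 n215420 = n200124 := d6_1 D215420 (iv5 F479902) (iv3 D215419)
theorem F479906 : act 4 n215420 = n192912 := d9_1 D215420 (iv5 D192912) F155575 (iv5 D98531) (iv4 F151917) F184678 D174497 F470135 F470133 (iv5 D192909) F268287 (iv5 F343489) (iv4 F255693) F310445 D174494
theorem F479907 : act 7 n215420 = n211057 := d13_2 (iv7 F273902) D215420 F459940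
theorem F479908 : act 0 n215420 = n211042 := d17_2 (iv1 F273906) D215420 F459861 F223959 (iv5 F325020) (iv0 F191367) (iv5 F309557) (iv0 D173372) D173374
theorem F479909 : act 1 n215420 = n211058 := d17_6 (iv1 F385597) (iv5 D192109) (iv1 F310444) F310445 D174494 D215420 F459931 F389810 (iv4 D192337)
theorem F479910 : act 6 n196551 = n215420 := d21_5 (iv5 D178153) F262024 (iv5 F459806) (iv6 D211031) (iv1 F401059) (iv5 D215420) (iv1 F273911) (iv5 F464776) (iv6 F466442) F466444
def n215421 : Q := act 6 n174494
theorem D215421 : act 6 n174494 = n215421 := rfl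
theorem F479911 : act 2 n215421 = n193342 := d3_1 D215421 F389517 (iv2 F273903)
theorem F479912 : act 4 n215421 = n174495 := d10_1 D215421 (iv6 D174495) D174494
theorem F479913 : act 0 n215421 = n211546 := d21_10 (iv5 F470327) F470328 F371752 F159195 D103840 (iv6 F389808) (iv5 F459931) (iv1 F479909) (iv5 D215420) D215421
theorem F479914 : act 0 n199239 = n215421 := d21_4 (iv5 D145474) F228315 F228312 D199239 (iv6 D215421) D215420 F479908 F459861 F400386 F400385
def n215422 : Q := act 3 n174497
theorem D215422 : act 3 n174497 = n215422 := rfl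
theorem F479915 : act 4 n215422 = n194582 := d5_2 D174497 D215422 F393753 (iv4 F392937) (iv3 D174496)
theorem F479916 : act 7 n215422 = n212535 := d8_2 F273905 D215422 F466312
theorem F479917 : act 6 n194580 = n215422 := d10_0 F479915 (iv6 D194582) D194580
def n215423 : Q := act 6 n174497
theorem D215423 : act 6 n174497 = n215423 := rfl
theorem F479918 : act 3 n215423 = n194580 := d7_1 D215423 F479917 (iv3 D215422)
theorem F479919 : act 4 n215423 = n174498 := d10_1 D215423 (iv6 D174498) D174497
theorem F479920 : act 0 n215423 = n205113 := d21_4 (iv5 F459861) (iv1 F470137) (iv5 F470135) D215423 (iv6 D205113) F412200 (iv1 F412199) (iv5 F400586) F400587 F386566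
theorem F479921 : act 0 n206179 = n215423 := d21_4 (iv5 F353007) (iv1 F353013) F241639 (iv6 F439597) (iv6 D215423) F470135 F470136 F459931 F389808 (iv1 F353012)
def n215424 : Q := act 7 n174498
theorem D215424 : act 7 n174498 = n215424 := rfl
theorem F479922 : act 2 n215424 = n214787 := d4_1 D215424 F476847 (iv2 F472191)
theorem F479923 : act 5 n215424 = n212552 := d13_1 D215424 F466389 F383689
theorem F479924 : act 6 n215424 = n193343 := d14_1 D215424 (iv7 D193343) F343421 (iv7 F271678) D174498
theorem F479925 : act 1 n207969 = n215424 := d15_1 (iv0 F472193) (iv7 D215424) F472191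
theorem F479926 : act 1 n215424 = n214786 := d15_1 F479925 F476842 (iv2 F447195)
def n215425 : Q := act 3 n174499
theorem D215425 : act 3 n174499 = n215425 := rfl
theorem F479927 : act 2 n215425 = n192918 := d0_1 D215425 F388214 (iv2 F172222) (iv3 F411053) F411052
theorem F479928 : act 4 n215425 = n174502 := d5_2 (iv4 F273893) D215425 F476803 F476801 (iv3 D174995)
theorem F479929 : act 5 n215425 = n191983 := d6_2 (iv5 F386481) D215425 F385088
theorem F479930 : act 6 n215425 = n196746 := d7_2 F401948 D215425 (iv3 F401950)
theorem F479931 : act 7 n215425 = n191982 := d8_2 F479411 D215425 F479414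
theorem F479932 : act 0 n215425 = n192916 := d19_4 (iv1 F198061) (iv5 F307525) (iv4 F273893) D215425 F388210 (iv4 D191909) (iv3 F384788) (iv1 F474875) (iv5 D214379) (iv4 D159287) F114167 D76205 F114169 (iv4 D36705) (iv3 F321753) (iv1 F323448) (iv5 D17212) D17211 D35522
theorem F479933 : act 1 n215425 = n192915 := d15_1 (iv0 F479932) (iv7 F388208) F388211
def n215426 : Q := act 2 n174501
theorem D215426 : act 2 n174501 = n215426 := rfl
theorem F479934 : act 3 n215426 = n197996 := d0_2 D174501 D215426 F406449 F348945 F271683
theorem F479935 : act 4 n215426 = n204149 := d1_2 (iv4 F364902) D215426 F431202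
theorem F479936 : act 5 n215426 = n211107 := d2_2 F476800 D215426 F476802
theorem F479937 : act 6 n215426 = n174585 := d3_2 (iv6 F273381) D215426 (iv2 D174585)
theorem F479938 : act 0 n211100 = n215426 := d17_0 F479936 (iv1 F476798) F476795 (iv4 D212820) (iv5 F350960) F390018 (iv5 F467139) F467137 (iv4 F460093)
theorem F479939 : act 1 n210992 = n215426 := d17_6 D167233 F344053 F344049 (iv5 F325024) (iv4 F354203) D210992 F479936 (iv0 F460130) (iv4 D167235)
def n215427 : Q := act 7 n174501
theorem D215427 : act 7 n174501 = n215427 := rfl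
theorem F479940 : act 3 n215427 = n174503 := d8_1 D215427 (iv7 D174503) D174501
theorem F479941 : act 4 n215427 = n203168 := d11_1 D215427 F427277 (iv4 F364902)
theorem F479942 : act 5 n215427 = n215153 := d13_1 D215427 F478593 F476800
theorem F479943 : act 6 n215427 = n210008 := d14_1 D215427 F455731 F402013 (iv7 D174587) (iv6 F273381)
theorem F479944 : act 1 n211100 = n215427 := d15_1 (iv0 F479938) (iv7 D215427) D215426
theorem F479945 : act 1 n215427 = n210992 := d15_1 F479944 (iv7 F467609) F467607
def n215428 : Q := act 4 n174508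
theorem D215428 : act 4 n174508 = n215428 := rfl
theorem F479946 : act 2 n215428 = n203565 := d1_1 D215428 F428908 F344769
theorem F479947 : act 3 n215428 = n198045 := d5_1 D215428 F406577 (iv3 F406546) (iv4 F428638) F428643
theorem F479948 : act 6 n215428 = n203506 := d10_2 (iv6 F344770) D215428 (iv4 D203506)
theorem F479949 : act 7 n215428 = n198043 := d11_2 F416813 D215428 (iv4 F416811)
theorem F479950 : act 5 n215428 = n210550 := d16_1 D215428 F458003 (iv5 D202909) F183467 D117248 (iv4 F383342) (iv5 F383345) F344768 F344769
theorem F479951 : act 1 n210550 = n202016 := d17_6 F350662 F350649 D191397 (iv5 F383339) D215428 F479950 (iv5 D202016) D202015 (iv4 F422710)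
def n215429 : Q := act 4 n174509
theorem D215429 : act 4 n174509 = n215429 := rfl
theorem F479952 : act 2 n215429 = n198043 := d1_1 D215429 (iv4 F416811) F416809
theorem F479953 : act 3 n215429 = n202480 := d5_1 D215429 (iv4 D202480) F313690 (iv4 F200687) F344766
theorem F479954 : act 6 n215429 = n200303 := d10_2 (iv6 F344767) D215429 F415913
theorem F479955 : act 7 n215429 = n203565 := d11_2 (iv7 F344768) D215429 F428908
def n215430 : Q := act 3 n174510
theorem D215430 : act 3 n174510 = n215430 := rfl
theorem F479956 : act 4 n215430 = n174522 := d5_2 D174510 D215430 (iv3 D174522) (iv4 D83409) (iv3 F128511)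
theorem F479957 : act 7 n215430 = n196571 := d8_2 F479419 D215430 (iv3 F479417)
def n215431 : Q := act 5 n174510
theorem D215431 : act 5 n174510 = n215431 := rfl
theorem F479958 : act 4 n215431 = n203573 := d16_2 D174510 D215431 (iv5 D203573) (iv4 F357745) (iv5 F380173) (iv4 F380169) (iv5 F440029) (iv7 D206277) F300869
theorem F479959 : act 0 n215431 = n210754 := d17_2 F403864 D215431 (iv5 D210754) (iv4 F415332) (iv5 F433904) (iv0 F433905) F432140 F428862 (iv4 F403862)
theorem F479960 : act 1 n215431 = n210752 := d17_6 F350641 (iv5 D161725) F252830 D83404 D174510 D215431 (iv5 D210752) (iv0 D139645) (iv4 F170771)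
theorem F479961 : act 6 n212728 = n215431 := d10_0 F479958 F428950 D212728
def n215432 : Q := act 5 n174520
theorem D215432 : act 5 n174520 = n215432 := rfl
theorem F479962 : act 2 n215432 = n214799 := d2_1 D215432 (iv5 D214799) F303390
theorem F479963 : act 3 n215432 = n190296 := d6_1 D215432 (iv5 F425479) (iv3 F425480)
theorem F479964 : act 7 n215432 = n214800 := d13_2 F303396 D215432 (iv5 D214800)
theorem F479965 : act 4 n215432 = n174652 := d16_2 (iv4 F273399) D215432 F273503 F298311 (iv5 F119249) (iv4 F123644) F300631 (iv7 F199339) F199343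
theorem F479966 : act 0 n215432 = n175022 := d17_2 D174520 D215432 (iv5 D175022) F128664 (iv5 F127810) (iv0 F151527) F151526 (iv0 D83407) D83409
theorem F479967 : act 1 n215432 = n175025 := d17_6 (iv1 F301013) (iv5 F118929) (iv1 F128567) (iv5 F199342) (iv4 F273399) D215432 (iv5 D175025) (iv0 F303411) (iv4 D162628)
def n215433 : Q := act 5 n174521
theorem D215433 : act 5 n174521 = n215433 := rfl
theorem F479968 : act 2 n215433 = n214800 := d2_1 D215433 (iv5 D214800) F303394
theorem F479969 : act 4 n215433 = n174653 := d9_1 D215433 F273509 F298307 (iv5 F298274) (iv4 F113554) (iv5 F199342) (iv4 F273399) D215432 F479965 F273503 F298311 (iv5 F119249) (iv4 F123644) F300631 (iv4 F273402)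
theorem F479970 : act 7 n215433 = n214799 := d13_2 F303392 D215433 (iv5 D214799)
theorem F479971 : act 0 n215433 = n175025 := d17_2 (iv1 F273401) D215433 (iv5 D175025) F128660 (iv5 F127802) (iv0 F298800) F298802 F128519 D83417
theorem F479972 : act 1 n215433 = n175022 := d17_6 D38541 (iv5 F128563) F302425 F300631 (iv4 F273402) D215433 (iv5 D175022) (iv0 D83586) (iv4 D38543)
def n215434 : Q := act 5 n174522
theorem D215434 : act 5 n174522 = n215434 := rfl
theorem F479973 : act 2 n215434 = n204771 := d2_1 D215434 F436690 F415039
theorem F479974 : act 3 n215434 = n174523 := d6_1 D215434 (iv5 D174523) D174522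
theorem F479975 : act 6 n215434 = n197956 := d12_2 F415074 D215434 F406274 F410548 (iv5 F415073)
theorem F479976 : act 7 n215434 = n196573 := d13_2 (iv7 F362962) D215434 (iv5 D196573)
theorem F479977 : act 0 n215434 = n203700 := d18_0 F429453 (iv1 F461431) (iv4 F461435) F433505 F423007 F351550 (iv4 F402247) (iv0 F402250) D215434
theorem F479978 : act 4 n215434 = n197957 := d19_2 (iv1 F415035) D215434 F461620 (iv1 F461619) (iv5 D142158) (iv4 D66650) D66649 (iv1 F322958) (iv5 D127964) F305727 (iv3 F190216) (iv1 D33511) D33512 D72612 D153564 D213345 F470034 F404187 (iv3 F415031)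
theorem F479979 : act 0 n211407 = n215434 := d19_0 (iv5 D215434) (iv4 F479956) (iv3 D215430) F428861 (iv5 F465804) (iv4 D212441) (iv3 F363299) (iv1 F411830) (iv5 D199356) F172518 F365361 F359722 (iv5 D91375) (iv4 F140511) F331077 (iv1 F224854) (iv5 F407578) F407583 (iv3 F461436)
def n215435 : Q := act 6 n174523
theorem D215435 : act 6 n174523 = n215435 := rfl
theorem F479980 : act 2 n215435 = n214804 := d3_1 D215435 (iv6 D214804) F303399
theorem F479981 : act 3 n215435 = n197956 := d7_1 D215435 (iv6 F479975) F479974
theorem F479982 : act 4 n215435 = n174708 := d10_1 D215435 (iv6 D174708) (iv4 F273403)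
theorem F479983 : act 5 n208428 = n215435 := d19_1 (iv1 F449321) F479982 F381398 (iv1 F381401) (iv5 D163267) F119667 (iv3 D75804) F54909 (iv5 F112885) F112886 (iv3 F140027) F292419 (iv5 F355742) (iv4 F370996) F370998 (iv1 D91146) D91148 D188284 (iv3 F374342)
theorem F479984 : act 7 n215435 = n197954 := d13_2 F449322 F479983 (iv5 F449324)
def n215436 : Q := act 5 n174524
theorem D215436 : act 5 n174524 = n215436 := rfl
theorem F479985 : act 2 n215436 = n214793 := d2_1 D215436 (iv5 D214793) (iv2 F366932)
theorem F479986 : act 3 n215436 = n199074 := d6_1 D215436 (iv5 F415073) F415072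
theorem F479987 : act 6 n215436 = n208428 := d12_2 D174524 D215436 F479983 (iv6 D215435) (iv5 D174523)
theorem F479988 : act 7 n215436 = n199808 := d13_2 F415055 D215436 F415057
theorem F479989 : act 4 n215436 = n207962 := d16_2 (iv4 F273405) D215436 F447170 (iv4 F446374) F446375 F256816 (iv5 F256825) (iv7 D162587) F298876
def n215437 : Q := act 3 n174525
theorem D215437 : act 3 n174525 = n215437 := rfl
theorem F479990 : act 2 n215437 = n205866 := d0_1 D215437 (iv3 F466106) F466105 F409647 F409642
theorem F479991 : act 5 n215437 = n187486 := d6_2 F466394 D215437 (iv3 F466392)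
theorem F479992 : act 6 n215437 = n205036 := d7_2 (iv6 F409641) D215437 (iv3 F434722)
theorem F479993 : act 7 n215437 = n205865 := d8_2 F409644 D215437 (iv3 F466148)
theorem F479994 : act 0 n215437 = n205862 := d20_4 (iv4 F273456) (iv1 F401004) F401005 D215437 F438174 (iv4 D127762) F309223 (iv4 F199146) (iv3 F346558) (iv1 D174602)
theorem F479995 : act 0 n205867 = n215437 := d20_4 (iv4 D67636) (iv1 F93853) (iv4 F203918) (iv3 F438192) (iv3 D215437) (iv4 F401005) (iv1 D196538) (iv4 F219920) F219919 (iv1 F203924)
theorem F479996 : act 4 n212197 = n215437 := d20_8 (iv4 F476882) (iv1 F476884) F478933 F478936 (iv1 D201575) F178898 D201186 F464715 (iv3 D215437) (iv1 F366953)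
def n215438 : Q := act 6 n174526
theorem D215438 : act 6 n174526 = n215438 := rfl
theorem F479997 : act 2 n215438 = n213827 := d3_1 D215438 F472256 (iv2 F409645)
theorem F479998 : act 5 n215438 = n214714 := d12_1 D215438 (iv6 D214714) (iv5 D160737) D160738 F366958
theorem F479999 : act 0 n215438 = n204836 := d21_4 (iv5 F383689) F383690 F366958 D215438 F433766 F393017 F353024 (iv5 F353015) (iv6 F353017) F383691
def n215439 : Q := act 3 n174556
theorem D215439 : act 3 n174556 = n215439 := rfl
theorem F480000 : act 4 n215439 = n174559 := d5_2 D174556 D215439 (iv3 D174559) (iv4 D83420) D83419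
theorem F480001 : act 6 n215439 = n203654 := d7_2 F347862 D215439 (iv3 D203654)
theorem F480002 : act 7 n215439 = n201980 := d8_2 (iv7 F350651) D215439 F422602
def n215440 : Q := act 5 n174556
theorem D215440 : act 5 n174556 = n215440 := rfl
theorem F480003 : act 2 n215440 = n210758 := d2_1 D215440 F458704 F350652
theorem F480004 : act 4 n215440 = n203089 := d9_1 D215440 (iv5 D203089) (iv4 F426901) F426902 (iv4 F383331) F383332 F170771 D139647 D210757 F458702 (iv4 D204867) (iv5 F337051) F337050 (iv5 D174557) D174556
theorem F480005 : act 7 n215440 = n201986 := d13_2 (iv7 F350651) D215440 (iv5 D201986)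
theorem F480006 : act 1 n215440 = n210755 := d17_6 (iv1 F341162) (iv5 F341160) F337054 (iv5 D174557) D174556 D215440 F458696 (iv0 F428592) F423835
theorem F480007 : act 1 n210756 = n215440 := d15_0 F480006 (iv7 F458698) (iv2 F465808)
def n215441 : Q := act 1 n174559
theorem D215441 : act 1 n174559 = n215441 := rfl
theorem F480008 : act 7 n215441 = n204832 := d15_2 (iv0 F402120) D215441 F433753
theorem F480009 : act 6 n210938 = n215441 := d21_3 (iv5 F461449) (iv1 D211409) (iv5 F459379) (iv1 D215441) F407648 F407644 (iv1 F373418) F351293 (iv6 F175346) F407700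
theorem F480010 : act 3 n215441 = n210940 := d7_1 F480009 (iv6 D210940) D210938
theorem F480011 : act 5 n215441 = n211407 := d12_1 F480009 (iv6 F461439) (iv5 D141953) D141954 (iv5 F459379)
theorem F480012 : act 0 n202623 = n215441 := d21_4 (iv5 D196291) F164720 (iv5 F180903) D202623 (iv6 F480009) F459379 D211408 F461440 F415077 (iv1 F400246)
theorem F480013 : act 1 n214621 = n215439 := d18_6 F479979 F479978 F406277 F196335 (iv5 F253346) (iv4 F476089) F480000 D215441 F480011
def n215442 : Q := act 2 n174559
theorem D215442 : act 2 n174559 = n215442 := rfl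
theorem F480014 : act 3 n215442 = n188421 := d0_2 D174559 D215442 F373422 (iv3 D175021) (iv2 F128663)
theorem F480015 : act 6 n215442 = n188420 := d3_2 (iv6 F407648) D215442 F407645
theorem F480016 : act 7 n215442 = n202623 := d4_2 F273930 D215442 F424803
theorem F480017 : act 5 n211401 = n215442 := d13_3 F480016 F424804 (iv7 F461413)
theorem F480018 : act 1 n204832 = n215442 := d15_1 (iv0 F433756) F480016 F424803
def n215443 : Q := act 5 n174559
theorem D215443 : act 5 n174559 = n215443 := rfl
theorem F480019 : act 2 n215443 = n211401 := d2_1 D215443 F480017 (iv2 D215442)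
theorem F480020 : act 3 n215443 = n174560 := d6_1 D215443 (iv5 D174560) D174559
theorem F480021 : act 6 n215443 = n211325 := d12_2 (iv6 F407648) D215443 F461123 (iv6 F373415) (iv5 F407644)
theorem F480022 : act 7 n215443 = n211335 := d13_2 F273930 D215443 F461173
theorem F480023 : act 1 n215443 = n211417 := d17_8 (iv1 F381933) (iv5 F381929) (iv1 F360084) (iv5 F429392) (iv4 F429453) F429454 (iv0 F402120) D215443 (iv4 D211417)
theorem F480024 : act 0 n215443 = n211428 := d21_1 D215443 (iv5 F461493) F228333 (iv1 F337408) D198346 (iv5 F461449) (iv1 D211409) (iv5 F459379) F480009 (iv1 D215441)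
def n215444 : Q := act 6 n174560
theorem D215444 : act 6 n174560 = n215444 := rfl
theorem F480025 : act 3 n215444 = n211325 := d7_1 D215444 (iv6 F480021) F480020
theorem F480026 : act 4 n215444 = n174683 := d10_1 D215444 (iv6 D174683) (iv4 F273425)
theorem F480027 : act 7 n215444 = n211317 := d14_2 F273933 D215444 F461095 D211322 (iv6 F461112)
theorem F480028 : act 0 n211841 = n215444 := d21_4 (iv5 D204711) (iv1 F198746) D203694 (iv6 F463243) (iv6 D215444) (iv5 D174560) (iv1 F128669) (iv5 F273947) F429440 (iv1 F433353)
theorem F480029 : act 5 n211318 = n215444 := d13_3 F480027 (iv5 D211317) D211318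
def n215445 : Q := act 5 n174561
theorem D215445 : act 5 n174561 = n215445 := rfl
theorem F480030 : act 2 n215445 = n188399 := d2_1 D215445 F373295 F352779
theorem F480031 : act 3 n215445 = n188419 := d6_1 D215445 (iv5 F407644) F407646
theorem F480032 : act 6 n215445 = n211318 := d12_2 D174561 D215445 F480029 (iv6 D215444) (iv5 D174560)
theorem F480033 : act 7 n215445 = n196287 := d13_2 (iv7 F347892) D215445 F400218
theorem F480034 : act 0 n215445 = n213317 := d17_2 F347867 D215445 (iv5 D213317) F241258 F110778 (iv0 F362171) F362174 F205394 (iv4 F206508)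
theorem F480035 : act 1 n215445 = n213442 := d17_6 F375906 F375903 F353019 (iv5 D174564) (iv4 F273426) D215445 (iv5 D213442) (iv0 F349904) F159252
def n215446 : Q := act 0 n174571
theorem D215446 : act 0 n174571 = n215446 := rfl
theorem F480036 : act 5 n215446 = n190180 := d19_1 D215446 F379046 (iv3 F379038) (iv1 F408129) F463056 F463054 F403801 D197276 F429270 F397053 (iv3 D126911) F166134 D59590 D126971 F327817 (iv1 F298882) F59279 D83424 D174571
theorem F480037 : act 1 n188421 = n215446 := d15_0 (iv0 D215446) (iv7 F273924) (iv2 F373422)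
def n215447 : Q := act 1 n174571
theorem D215447 : act 1 n174571 = n215447 := rfl
theorem F480038 : act 4 n194622 = n215447 := d20_0 (iv1 D215447) (iv4 F373271) F373270 (iv1 F378799) F453186 F453184 (iv1 F401214) F401210 F393846 D194622
def n215448 : Q := act 2 n174571
theorem D215448 : act 2 n174571 = n215448 := rfl
theorem F480039 : act 3 n215448 = n202623 := d0_2 D174571 D215448 F424803 (iv3 D175024) (iv2 F128661)
theorem F480040 : act 4 n215448 = n194565 := d1_2 F373271 D215448 F393702
theorem F480041 : act 6 n215448 = n202611 := d3_2 (iv6 F471744) D215448 (iv2 F471738)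
theorem F480042 : act 7 n215448 = n188421 := d4_2 F273924 D215448 F373422
theorem F480043 : act 1 n215447 = n188421 := d15_1 D215447 (iv7 F480042) (iv2 D215448)
theorem F480044 : act 5 n211387 = n215448 := d12_5 F480041 F424740 F180894 (iv5 F224957) D211387
def n215449 : Q := act 5 n174571
theorem D215449 : act 5 n174571 = n215449 := rfl
theorem F480045 : act 2 n215449 = n211387 := d2_1 D215449 F480044 (iv2 D215448)
theorem F480046 : act 3 n215449 = n174572 := d6_1 D215449 (iv5 D174572) D174571
theorem F480047 : act 6 n215449 = n206260 := d12_2 (iv6 F471744) D215449 (iv5 D206260) F330610 D213711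
def n215450 : Q := act 6 n174572
theorem D215450 : act 6 n174572 = n215450 := rfl
theorem F480048 : act 2 n215450 = n211322 := d3_1 D215450 (iv6 F461112) F273931
theorem F480049 : act 3 n215450 = n206260 := d7_1 D215450 (iv6 F480047) F480046
theorem F480050 : act 4 n215450 = n174674 := d10_1 D215450 (iv6 D174674) (iv4 F273432)
theorem F480051 : act 5 n215450 = n206259 := d12_1 D215450 F439962 F386663 (iv6 D174573) D174572
theorem F480052 : act 0 n215450 = n189061 := d21_10 (iv5 D189061) D189059 (iv5 F429444) (iv6 D203698) D203696 (iv6 F429440) F273947 (iv1 F128668) D174572 D215450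
theorem F480053 : act 1 n215450 = n190194 := d15_1 (iv0 F480052) (iv7 F379334) (iv2 F379335)
theorem F480054 : act 7 n215450 = n211314 := d15_2 (iv0 F375621) (iv0 F480052) F461084
def n215451 : Q := act 7 n174573
theorem D215451 : act 7 n174573 = n215451 := rfl
theorem F480055 : act 2 n215451 = n196288 := d4_1 D215451 F400224 F273934
theorem F480056 : act 3 n215451 = n188434 := d8_1 D215451 (iv7 F471741) F471739
theorem F480057 : act 4 n215451 = n174576 := d11_1 D215451 (iv7 D174576) (iv4 F273433)
theorem F480058 : act 5 n215451 = n194426 := d13_1 D215451 F393149 F386663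
theorem F480059 : act 6 n215451 = n188433 := d14_1 D215451 F373452 F352782 F128665 D174573
theorem F480060 : act 0 n211518 = n215451 := d21_4 F180740 (iv1 F228516) F228520 D211518 F480059 F373451 (iv1 F470423) (iv5 D213442) F400440 (iv1 F400441)
def n215452 : Q := act 0 n174577
theorem D215452 : act 0 n174577 = n215452 := rfl
theorem F480061 : act 6 n215452 = n196488 := d21_5 (iv5 F401049) F370652 D201273 (iv6 F419794) D215452 (iv5 F400817) F401157 (iv5 F401156) (iv6 D196585) (iv1 F401050)
theorem F480062 : act 5 n215452 = n204763 := d21_0 F459182 (iv5 D196555) (iv6 D107074) D107071 D196549 (iv5 F401049) F370652 D201273 (iv6 F419794) D215452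
theorem F480063 : act 1 n196696 = n215452 := d15_0 (iv0 D215452) (iv7 F479423) F479421
theorem F480064 : act 3 n204766 = n215452 := d6_3 F480062 F433501 D204766
theorem F480065 : act 2 n196846 = n215452 := d3_3 F480061 (iv2 F400815) D196846
def n215453 : Q := act 1 n174577
theorem D215453 : act 1 n174577 = n215453 := rfl
theorem F480066 : act 7 n215453 = n196846 := d15_2 (iv0 D215452) D215453 F480065
theorem F480067 : act 6 n192915 = n215453 := d21_3 D145403 (iv1 F384769) (iv5 F388206) (iv1 D215453) F419794 (iv5 D201273) (iv1 F237966) (iv5 F401146) F401149 (iv1 D145401)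
theorem F480068 : act 0 n196696 = n215453 := d21_4 (iv5 D202624) F410942 F400405 D196696 (iv6 F480067) F388206 F384768 D193498 (iv6 F401851) F424809
def n215454 : Q := act 2 n174577
theorem D215454 : act 2 n174577 = n215454 := rfl
theorem F480069 : act 3 n215454 = n196450 := d0_2 D174577 D215454 F400719 F332381 (iv2 F271716)
theorem F480070 : act 6 n215454 = n196449 := d3_2 (iv6 F419794) D215454 (iv2 F419789)
theorem F480071 : act 7 n215454 = n196696 := d4_2 F479423 D215454 (iv2 F479421)
theorem F480072 : act 4 n210439 = n215454 := d11_3 F480071 F431928 (iv7 F457541)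
def n215455 : Q := act 4 n174577
theorem D215455 : act 4 n174577 = n215455 := rfl
theorem F480073 : act 2 n215455 = n210439 := d1_1 D215455 F480072 (iv2 D215454)
theorem F480074 : act 3 n215455 = n175007 := d5_1 D215455 (iv4 D175007) (iv3 D83582) F128564 D174577
theorem F480075 : act 6 n215455 = n210438 := d10_2 (iv6 F419794) D215455 F457534
theorem F480076 : act 0 n215455 = n215241 := d17_0 (iv5 D215241) (iv1 D170817) F341279 (iv4 F165054) D196555 (iv0 F459182) (iv5 F480062) (iv0 D215452) D215455
theorem F480077 : act 5 n199585 = n215455 := d21_0 F480076 (iv5 D215241) F380567 F380559 F196325 D122590 D204075 F433491 F459633 (iv1 F431924)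
theorem F480078 : act 0 n215240 = n215455 := d21_10 (iv5 F480077) (iv1 F431925) (iv5 F457213) (iv6 D210365) (iv1 D138446) (iv6 F168965) (iv5 F390029) F390030 D196638 (iv6 F479010)
def n215456 : Q := act 5 n174577
theorem D215456 : act 5 n174577 = n215456 := rfl
theorem F480079 : act 3 n215456 = n174578 := d6_1 D215456 (iv5 D174578) D174577
def n215457 : Q := act 6 n174578
theorem D215457 : act 6 n174578 = n215457 := rfl
theorem F480080 : act 4 n215457 = n174665 := d10_1 D215457 (iv6 D174665) (iv4 F273435)
def n215458 : Q := act 6 n174581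
theorem D215458 : act 6 n174581 = n215458 := rfl
theorem F480081 : act 3 n215458 = n193318 := d7_1 D215458 (iv6 F410989) (iv3 F404440)
theorem F480082 : act 4 n215458 = n174654 := d10_1 D215458 (iv6 D174654) (iv4 F273437)
def n215459 : Q := act 0 n174583
theorem D215459 : act 0 n174583 = n215459 := rfl
theorem F480083 : act 2 n174587 = n215459 := d15_3 (iv0 D215459) (iv0 D174583) D174587
theorem F480084 : act 4 n215459 = n210011 := d1_2 (iv4 F460756) F480083 (iv2 F460758)
theorem F480085 : act 6 n215459 = n210010 := d3_2 F402013 F480083 F455737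
theorem F480086 : act 7 n215459 = n174585 := d4_2 D174587 F480083 (iv2 D174585)
theorem F480087 : act 1 n174584 = n215459 := d15_1 D174584 F480086 (iv2 D174585)
def n215460 : Q := act 7 n174583
theorem D215460 : act 7 n174583 = n215460 := rfl
theorem F480088 : act 2 n215460 = n174584 := d4_1 D215460 F392153 F392152
theorem F480089 : act 3 n215460 = n190860 := d8_1 D215460 (iv7 F427605) (iv3 F427608)
theorem F480090 : act 4 n215460 = n191441 := d11_1 D215460 (iv7 F467780) F467779
theorem F480091 : act 5 n215460 = n190859 := d13_1 D215460 F381765 (iv5 F392151)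
theorem F480092 : act 6 n215460 = n196759 := d14_1 D215460 F440415 (iv6 D206360) (iv7 F427600) F427609
theorem F480093 : act 1 n174585 = n215460 := d15_1 (iv0 F479436) (iv7 D215460) (iv2 F392152)
theorem F480094 : act 1 n215460 = n174587 := d15_1 F480093 (iv7 D174587) D174585
def n215461 : Q := act 3 n174584
theorem D215461 : act 3 n174584 = n215461 := rfl
theorem F480095 : act 2 n215461 = n214622 := d0_1 D215461 (iv3 F476092) (iv2 F381357) (iv3 F480089) F480088
theorem F480096 : act 5 n215461 = n211430 := d6_2 F392154 D215461 F461505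
theorem F480097 : act 6 n215461 = n196320 := d7_2 F455568 D215461 (iv3 F455566)
theorem F480098 : act 7 n215461 = n214623 := d8_2 (iv7 F392153) D215461 F476096
theorem F480099 : act 1 n214624 = n215461 := d15_1 F476100 F480098 F476095
theorem F480100 : act 0 n204766 = n215461 := d21_4 (iv5 D110167) (iv1 F326983) D124442 (iv6 F433504) F480097 F400313 (iv1 F164752) D116123 (iv6 F344435) F362607
def n215462 : Q := act 5 n174585
theorem D215462 : act 5 n174585 = n215462 := rfl
theorem F480101 : act 2 n215462 = n174586 := d2_1 D215462 (iv5 D174586) D174585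
theorem F480102 : act 3 n215462 = n211337 := d6_1 D215462 (iv5 F479434) F479432
theorem F480103 : act 4 n215462 = n190941 := d9_1 D215462 (iv5 D190941) (iv4 F149749) D98347 D191431 (iv5 F460759) (iv4 F460756) F378818 (iv4 D190088) (iv5 D95614) (iv4 F72592) D98346 D191429 (iv5 F460747) F460752
theorem F480104 : act 6 n215462 = n211336 := d12_2 F479937 D215462 (iv5 D211336) (iv6 F460129) (iv5 F479936)
theorem F480105 : act 0 n215462 = n194754 := d18_0 (iv4 D194754) F370026 D190987 (iv5 F463382) (iv4 F455591) (iv0 F455594) F427611 (iv0 F479436) D215462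
theorem F480106 : act 0 n211337 = n198319 := d20_10 (iv4 D198319) D198317 (iv4 F413113) F413112 (iv1 D145308) (iv3 F228329) (iv4 F400067) (iv1 F381629) (iv4 F480103) F480102
theorem F480107 : act 1 n174709 = n198319 := d15_0 (iv0 F480106) F461179 F406266
def n215463 : Q := act 0 n174586
theorem D215463 : act 0 n174586 = n215463 := rfl
theorem F480108 : act 4 n215463 = n194753 := d18_3 (iv1 D190944) F364880 D215463 (iv5 D194753) (iv4 F366986) F294478 (iv4 F160402) (iv0 F381204) F381641
theorem F480109 : act 2 n194754 = n215463 := d1_3 F480108 F394354 D194754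
def n215464 : Q := act 1 n174586
theorem D215464 : act 1 n174586 = n215464 := rfl
theorem F480110 : act 7 n215464 = n194754 := d15_2 (iv0 D215463) D215464 F480109
theorem F480111 : act 4 n215464 = n187243 := d17_9 F381752 (iv5 D190968) (iv1 D97100) D97101 D190971 (iv5 F392151) (iv0 D174583) D174586 D215464
theorem F480112 : act 3 n204764 = n215464 := d20_3 F429453 (iv1 F461431) (iv4 F461435) (iv1 D215464) F273439 (iv4 F271779) (iv1 F271781) (iv4 F273403) (iv3 F479974) F479977
def n215465 : Q := act 6 n174586
theorem D215465 : act 6 n174586 = n215465 := rfl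
theorem F480113 : act 2 n215465 = n211336 := d3_1 D215465 (iv6 F480104) F480101
theorem F480114 : act 3 n215465 = n174590 := d7_1 D215465 (iv6 D174590) (iv3 F273439)
theorem F480115 : act 4 n215465 = n190945 := d10_1 D215465 (iv6 D190945) F364880
theorem F480116 : act 5 n215465 = n210891 := d12_1 D215465 (iv6 F476804) F476800 F273381 D174586
theorem F480117 : act 7 n215465 = n211441 := d14_2 F378817 D215465 F461545 (iv7 F476174) F476173
theorem F480118 : act 0 n215465 = n211443 := d21_4 F392154 (iv1 D174584) D174586 D215465 (iv6 F461550) (iv5 F254090) (iv1 D121270) D121272 D203893 (iv1 F430276)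
theorem F480119 : act 1 n215465 = n211442 := d15_1 (iv0 F480118) (iv7 F461549) F461554
def n215466 : Q := act 3 n174588
theorem D215466 : act 3 n174588 = n215466 := rfl
theorem F480120 : act 4 n215466 = n215230 := d5_2 (iv4 F273442) D215466 F478966 (iv4 F353319) F273500
theorem F480121 : act 5 n215466 = n174599 := d6_2 (iv5 F273441) D215466 (iv3 D174599)
theorem F480122 : act 0 n215466 = n204763 := d20_4 (iv4 F302208) F302205 (iv4 F273442) D215466 F433501 F198792 D124311 (iv4 F436682) F401112 F302242
theorem F480123 : act 6 n215229 = n215466 := d10_0 F480120 (iv6 D215230) D215229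
def n215467 : Q := act 6 n174588
theorem D215467 : act 6 n174588 = n215467 := rfl
theorem F480124 : act 3 n215467 = n215229 := d7_1 D215467 F480123 (iv3 D215466)
theorem F480125 : act 4 n215467 = n174650 := d10_1 D215467 (iv6 D174650) (iv4 F273442)
theorem F480126 : act 7 n215229 = n215467 := d11_0 F480125 F353317 D215229
theorem F480127 : act 5 n188965 = n215467 := d16_1 D188965 F480125 (iv5 F353298) F248763 D157857 (iv4 F375270) (iv5 D188969) (iv7 F375264) F375263
def n215468 : Q := act 0 n174590
theorem D215468 : act 0 n174590 = n215468 := rfl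
theorem F480128 : act 5 n215468 = n210987 := d21_2 F348949 D215468 (iv6 D210987) (iv1 D140443) (iv6 D65921) D65920 D140438 F228371 D196343 F400407
theorem F480129 : act 6 n215468 = n204761 := d21_5 (iv5 D174581) (iv1 D83427) D83429 D174590 D215468 F433489 (iv1 D203887) (iv5 F258442) (iv6 F476901) F476903
theorem F480130 : act 2 n211433 = n215468 := d3_3 F480129 F433490 F461517
theorem F480131 : act 7 n211434 = n215468 := d15_2 (iv0 D211433) D211434 (iv2 F480130)
theorem F480132 : act 0 n215468 = n211338 := d21_1 (iv5 F480128) (iv5 D211338) (iv6 F246278) F404890 (iv6 F421694) (iv5 D201755) F179160 (iv5 F385094) (iv6 F473442) (iv1 F473444)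
def n215469 : Q := act 1 n174590
theorem D215469 : act 1 n174590 = n215469 := rfl
theorem F480133 : act 1 n215469 = n211338 := d15_1 D215469 F461181 (iv2 F348941)
theorem F480134 : act 7 n215469 = n211433 := d15_2 (iv0 D215468) D215469 F480130
theorem F480135 : act 5 n210362 = n215469 := d21_6 (iv5 F390073) (iv1 F390031) F390029 F168965 D138445 D210362 (iv1 D215469) (iv5 F348949) (iv6 F348948) (iv1 F390074)
theorem F480136 : act 2 n215469 = n211434 := d2_1 F480135 (iv5 F461518) F458573
def n215470 : Q := act 7 n174590
theorem D215470 : act 7 n174590 = n215470 := rfl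
theorem F480137 : act 2 n215470 = n211338 := d4_1 D215470 F461181 (iv2 F348941)
theorem F480138 : act 3 n215470 = n211441 := d8_1 D215470 (iv7 F480117) F480114
theorem F480139 : act 4 n215470 = n190067 := d11_1 D215470 (iv7 F381574) (iv4 F381575)
theorem F480140 : act 5 n215470 = n196351 := d13_1 D215470 F400447 F348949
theorem F480141 : act 1 n211434 = n215470 := d15_1 D211434 (iv7 D215470) F348941
theorem F480142 : act 1 n215470 = n211433 := d15_1 F480141 (iv7 F480134) F480136
def n215471 : Q := act 5 n174593
theorem D215471 : act 5 n174593 = n215471 := rfl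
theorem F480143 : act 2 n215471 = n203823 := d2_1 D215471 (iv5 F479444) F479448
theorem F480144 : act 3 n215471 = n180626 := d6_1 D215471 (iv5 F438049) (iv3 F451383)
theorem F480145 : act 6 n215471 = n203822 := d12_2 F451382 D215471 F429974 D208912 F451379
theorem F480146 : act 7 n215471 = n203850 := d13_2 (iv7 F479441) D215471 (iv5 F479437)
theorem F480147 : act 4 n215471 = n198277 := d16_2 F461960 D215471 F407443 F273950 F320976 (iv4 F250664) D214375 (iv7 F476069) F476066
theorem F480148 : act 1 n215471 = n203845 := d17_6 (iv1 D177284) D177286 (iv1 F476063) F476065 F461960 D215471 (iv5 F472255) (iv0 F472259) F409726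
theorem F480149 : act 0 n215471 = n203849 := d18_0 (iv4 F433828) (iv1 D204847) (iv4 D124483) D124484 (iv4 F401917) F401921 F401999 D174593 D215471
def n215472 : Q := act 5 n174600
theorem D215472 : act 5 n174600 = n215472 := rfl
theorem F480150 : act 4 n215472 = n188967 := d9_1 D215472 F375267 (iv4 F374863) F336056 (iv4 F336059) (iv5 F346556) F219920 D196539 (iv4 F421156) F421157 F209348 (iv5 F317526) (iv4 F298185) F249568 (iv4 F273456)
theorem F480151 : act 6 n215472 = n188965 := d12_2 D174600 D215472 F480127 (iv6 D215467) F273441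
def n215473 : Q := act 6 n174606
theorem D215473 : act 6 n174606 = n215473 := rfl
theorem F480152 : act 2 n215473 = n214812 := d3_1 D215473 (iv6 D214812) F301425
theorem F480153 : act 3 n215473 = n189236 := d7_1 D215473 (iv6 F376176) (iv3 F348939)
theorem F480154 : act 4 n215473 = n214938 := d10_1 D215473 F477544 F464376
theorem F480155 : act 5 n215473 = n189235 := d12_1 D215473 (iv6 F430192) F430188 F258673 D174606
theorem F480156 : act 7 n215473 = n190948 := d14_2 F301429 D215473 (iv6 D190948) F149760 (iv6 F348937)
def n215474 : Q := act 0 n174620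
theorem D215474 : act 0 n174620 = n215474 := rfl
def n215475 : Q := act 1 n174620
theorem D215475 : act 1 n174620 = n215475 := rfl
theorem F480157 : act 1 n215475 = n215230 := d15_1 D215475 F478967 F478948
def n215476 : Q := act 7 n174620
theorem D215476 : act 7 n174620 = n215476 := rfl
theorem F480158 : act 2 n215476 = n215230 := d4_1 D215476 F478967 F478948
theorem F480159 : act 3 n215476 = n207874 := d8_1 D215476 F446834 F442738
theorem F480160 : act 6 n215476 = n215226 := d14_1 D215476 F478958 (iv6 D204893) F199386 D174620
theorem F480161 : act 1 n215230 = n215474 := d15_0 (iv0 D215474) D215476 F480158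
def n215477 : Q := act 4 n174646
theorem D215477 : act 4 n174646 = n215477 := rfl
theorem F480162 : act 0 n215477 = n194854 := d18_2 D174646 D215477 F394760 F348745 (iv4 F476644) F476648 D215142 (iv0 F478555) (iv5 D174649)
theorem F480163 : act 5 n213692 = n215477 := d19_1 D213692 (iv4 D215477) F392610 (iv1 F394842) (iv5 F447869) F447868 F381656 (iv1 D190946) (iv5 F158554) F365669 F189510 F320130 F128651 F306361 F305597 (iv1 F118416) (iv5 F308493) (iv4 F110077) (iv3 F242892)
theorem F480164 : act 0 n215383 = n215477 := d20_10 (iv4 D215477) (iv1 F395266) (iv4 F395264) (iv3 F407128) F407131 (iv3 F443363) F443364 F354343 (iv4 F478986) (iv3 F479701)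
def n215478 : Q := act 5 n174646
theorem D215478 : act 5 n174646 = n215478 := rfl
theorem F480165 : act 3 n215478 = n214207 := d6_1 D215478 F473993 (iv3 F392610)
theorem F480166 : act 1 n215478 = n215334 := d17_6 (iv1 F460159) F460157 D213692 F480163 (iv4 D215477) D215478 (iv5 D215334) (iv0 F414078) F414075
def n215479 : Q := act 5 n174647
theorem D215479 : act 5 n174647 = n215479 := rfl
theorem F480167 : act 3 n215479 = n199908 := d6_1 D215479 F414095 F413655
theorem F480168 : act 0 n215479 = n215334 := d21_7 F397262 (iv1 F416232) F416231 D209298 (iv1 F453098) F413610 D215479 (iv5 D215334) (iv6 F365999) (iv1 F396726)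
def n215480 : Q := act 0 n174650
theorem D215480 : act 0 n174650 = n215480 := rfl
theorem F480169 : act 5 n215480 = n214684 := d21_8 (iv5 F414031) (iv1 D199709) (iv5 D111617) D111618 F343714 (iv6 F353299) F353298 D215480 (iv6 F476386) (iv1 F414033)
theorem F480170 : act 1 n215226 = n215480 := d15_0 (iv0 D215480) F353317 (iv2 F478957)
theorem F480171 : act 2 n215228 = n215480 := d2_3 F480169 F476387 (iv5 F478964)
theorem F480172 : act 7 n215227 = n215480 := d13_0 F480169 F476388 (iv5 F478960)
def n215481 : Q := act 1 n174650
theorem D215481 : act 1 n174650 = n215481 := rfl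
theorem F480173 : act 1 n215481 = n215226 := d15_1 D215481 F478958 F434045
theorem F480174 : act 7 n215481 = n215228 := d15_2 (iv0 D215480) D215481 F480171
theorem F480175 : act 5 n215481 = n214685 := d17_7 (iv1 F280712) F474293 (iv1 D214262) (iv5 D157857) (iv4 F248763) F353298 D215481 F476393 F474350
theorem F480176 : act 2 n215227 = n215481 := d2_3 F480175 (iv2 F476394) (iv5 F478960)
def n215482 : Q := act 3 n174653
theorem D215482 : act 3 n174653 = n215482 := rfl
theorem F480177 : act 5 n215482 = n204891 := d6_2 (iv5 F273509) D215482 (iv3 D204891)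
theorem F480178 : act 7 n215482 = n214544 := d8_2 F303306 D215482 F475716
theorem F480179 : act 0 n215482 = n198420 := d20_4 (iv4 F273927) (iv1 F479972) F479969 D215482 F407972 D198427 (iv1 F477541) F477537 F408085 F273463
theorem F480180 : act 4 n200222 = n215482 := d19_2 (iv1 F175750) D200222 (iv3 D215482) (iv1 D174653) (iv5 D83457) (iv4 D38473) (iv3 F117789) (iv1 F22051) F22048 (iv4 F20780) (iv3 F41720) (iv1 F85712) (iv5 F310517) (iv4 D32333) D32332 F237514 F85247 (iv4 F107785) (iv3 F319664)
theorem F480181 : act 6 n215482 = n207240 := d10_2 F476442 F480180 (iv4 F476441)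
def n215483 : Q := act 6 n174653
theorem D215483 : act 6 n174653 = n215483 := rfl
theorem F480182 : act 2 n215483 = n214810 := d3_1 D215483 (iv6 D214810) F303300
theorem F480183 : act 3 n215483 = n207240 := d7_1 D215483 (iv6 F480181) (iv3 D215482)
theorem F480184 : act 5 n215483 = n207239 := d12_1 D215483 (iv6 F477631) F477626 (iv6 F414516) (iv5 F273509)
def n215484 : Q := act 0 n174654
theorem D215484 : act 0 n174654 = n215484 := rfl
theorem F480185 : act 4 n215484 = n190305 := d18_1 D215484 (iv1 F461086) (iv4 F462914) (iv5 D211742) (iv4 F327146) F352559 (iv4 F220331) F390180 (iv5 F390181)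
theorem F480186 : act 3 n190241 = n215484 := d5_5 F480185 (iv3 D190305) F147506 D97007 (iv4 F379158)
theorem F480187 : act 7 n193600 = n215484 := d11_0 F480185 F379334 F390411
theorem F480188 : act 5 n193601 = n215484 := d16_1 (iv4 F390413) F480185 F379333 F374444 F142790 (iv4 F68574) D93307 (iv7 F375879) F375877
def n215485 : Q := act 1 n174654
theorem D215485 : act 1 n174654 = n215485 := rfl
theorem F480189 : act 5 n189161 = n215485 := d21_6 (iv5 D110206) (iv1 F169771) (iv5 F344562) (iv6 D99832) (iv1 F294828) (iv6 F375893) (iv1 D215485) F390181 F390179 (iv1 F174187)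
theorem F480190 : act 2 n215485 = n193600 := d2_1 F480189 (iv5 D193600) (iv2 F375892)
def n215486 : Q := act 4 n174660
theorem D215486 : act 4 n174660 = n215486 := rfl
theorem F480191 : act 2 n215486 = n198047 := d1_1 D215486 (iv4 F414075) F414079
theorem F480192 : act 3 n215486 = n210968 := d5_1 D215486 F459544 (iv3 F435503) F418482 (iv3 F414080)
theorem F480193 : act 6 n215486 = n214303 := d10_2 (iv6 F414081) D215486 (iv4 D214303)
theorem F480194 : act 7 n215486 = n210906 := d11_2 F455764 D215486 F459234
theorem F480195 : act 1 n215486 = n210907 := d18_6 (iv1 D214712) F253819 D166713 D215142 F478558 D215486 F459236 F394660 F476487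
theorem F480196 : act 0 n215486 = n194491 := d20_1 D215486 F393426 (iv3 D103663) (iv1 F147118) F326716 F127837 (iv1 F59031) D38478 D83461 D174660
def n215487 : Q := act 5 n174662
theorem D215487 : act 5 n174662 = n215487 := rfl
theorem F480197 : act 2 n215487 = n174663 := d2_1 D215487 (iv5 D174663) D174662
theorem F480198 : act 3 n215487 = n194979 := d6_1 D215487 (iv5 F430546) F430544
theorem F480199 : act 0 n215487 = n215479 := d21_1 D215487 (iv5 D215479) (iv6 F413610) F413606 (iv6 D198212) D198211 (iv1 F455760) (iv5 D210015) D210016 (iv1 F455766)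
theorem F480200 : act 0 n215478 = n215487 := d19_0 (iv5 D215487) F406535 (iv3 D198021) (iv1 F406523) (iv5 F424037) F424038 (iv3 F359348) F217790 F102374 F95485 (iv3 F87496) F311237 (iv5 D74785) (iv4 F112209) F112208 D74769 D157242 D214207 (iv3 F480165)
def n215488 : Q := act 0 n174663
theorem D215488 : act 0 n174663 = n215488 := rfl
theorem F480201 : act 3 n215488 = n190953 := d20_5 (iv4 F476889) F476890 F273435 (iv3 F273519) D215488 F381680 D202820 F425722 F273523 (iv1 F301427)
theorem F480202 : act 2 n215479 = n215488 := d0_5 F480201 (iv2 F381681) F407983 F414096 (iv3 F480167)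
theorem F480203 : act 5 n215220 = n215488 := d6_0 F480201 (iv5 F394887) (iv3 F478937)
theorem F480204 : act 7 n215478 = n215488 := d8_0 F480201 (iv7 F473994) (iv3 F480165)
def n215489 : Q := act 1 n174663
theorem D215489 : act 1 n174663 = n215489 := rfl
theorem F480205 : act 7 n215489 = n215479 := d15_2 (iv0 D215488) D215489 F480202
theorem F480206 : act 5 n215489 = n215221 := d17_7 (iv1 F431922) D215241 F479013 (iv5 D204297) F197896 D174663 D215489 F478941 (iv4 F431918)
theorem F480207 : act 2 n215478 = n215489 := d2_3 F480206 F478944 D215478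
theorem F480208 : act 3 n191000 = n215489 := d6_3 F480206 (iv3 F478943) (iv5 F408861)
theorem F480209 : act 6 n215489 = n190997 := d7_2 D191000 F480208 (iv3 D190997)
theorem F480210 : act 0 n190997 = n186746 := d21_10 (iv5 D186746) F353209 (iv5 F353204) (iv6 D160858) (iv1 F253754) D214698 F476439 (iv1 F478941) (iv5 F480206) F480209
def n215490 : Q := act 4 n174663
theorem D215490 : act 4 n174663 = n215490 := rfl
def n215491 : Q := act 6 n174663
theorem D215491 : act 6 n174663 = n215491 := rfl
theorem F480211 : act 3 n215491 = n174665 := d7_1 D215491 (iv6 D174665) (iv3 F273519)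
def n215492 : Q := act 0 n174665
theorem D215492 : act 0 n174665 = n215492 := rfl
def n215493 : Q := act 7 n174665
theorem D215493 : act 7 n174665 = n215493 := rfl
def n215494 : Q := act 0 n174674
theorem D215494 : act 0 n174674 = n215494 := rfl
theorem F480212 : act 4 n215494 = n192484 := d18_3 (iv1 F480053) F480050 D215494 (iv5 D192484) F154149 D100206 (iv4 F375622) (iv0 F394119) F394116
theorem F480213 : act 5 n215494 = n193914 := d21_2 F408657 D215494 F391382 (iv1 F391455) (iv6 F391458) F389991 (iv1 F381976) F381566 (iv6 F390145) F408660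
theorem F480214 : act 6 n215494 = n215133 := d21_5 (iv5 D38483) D38480 D83465 D174674 D215494 (iv5 D215133) F362541 (iv5 F273556) (iv6 D174708) (iv1 D83476)
theorem F480215 : act 1 n193519 = n215494 := d15_0 (iv0 D215494) (iv7 F462913) F462911
theorem F480216 : act 7 n215494 = n193913 := d15_2 (iv0 F390462) F480215 F391377
theorem F480217 : act 3 n194646 = n215494 := d20_9 F390149 (iv1 F394122) F390411 F390409 (iv1 F379114) F379112 F369545 D187218 (iv4 F393933) (iv1 F480215)
def n215495 : Q := act 5 n174678
theorem D215495 : act 5 n174678 = n215495 := rfl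
theorem F480218 : act 2 n215495 = n211381 := d2_1 D215495 (iv5 F478698) F478697
theorem F480219 : act 3 n215495 = n214711 := d6_1 D215495 F476481 (iv3 F393441)
theorem F480220 : act 4 n215495 = n211358 := d9_1 D215495 (iv5 D211358) F319313 F242246 (iv4 F264190) (iv5 F344689) (iv4 F362491) (iv5 F381313) (iv4 F461260) (iv5 D211356) (iv4 F224930) (iv5 F322370) (iv4 F206393) F237210 (iv4 F364236)
theorem F480221 : act 6 n215495 = n194750 := d12_2 F378021 D215495 (iv5 F394346) (iv6 D190528) F378610
theorem F480222 : act 7 n215495 = n190143 := d13_2 (iv7 F378018) D215495 F378965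
theorem F480223 : act 0 n215495 = n214813 := d17_2 D174678 D215495 (iv5 D214813) F256904 D162692 F340262 (iv5 F340268) (iv0 D162827) F302658
theorem F480224 : act 1 n215495 = n174707 := d17_6 F353893 (iv5 F242270) (iv1 F242271) F237210 (iv4 F364236) D215495 (iv5 F303296) F378050 F378049
def n215496 : Q := act 6 n174681
theorem D215496 : act 6 n174681 = n215496 := rfl
theorem F480225 : act 3 n215496 = n174683 := d7_1 D215496 (iv6 D174683) (iv3 F273536)
theorem F480226 : act 5 n215496 = n214827 := d12_1 D215496 (iv6 D214827) (iv5 D162759) F304731 D174681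
def n215497 : Q := act 0 n174683
theorem D215497 : act 0 n174683 = n215497 := rfl
theorem F480227 : act 5 n215497 = n214217 := d21_8 F474458 (iv1 D214300) (iv5 F272500) (iv6 D173858) F128172 D162763 (iv5 F366917) D215497 F474033 (iv1 F463762)
theorem F480228 : act 3 n214218 = n215497 := d6_3 F480227 (iv3 D214217) D214218
def n215498 : Q := act 1 n174683
theorem D215498 : act 1 n174683 = n215498 := rfl
theorem F480229 : act 5 n208081 = n215498 := d21_6 (iv5 D112117) (iv1 F326151) D173849 (iv6 F357461) (iv1 F425896) (iv6 F447803) (iv1 D215498) F366917 (iv6 D162763) (iv1 F326154)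
theorem F480230 : act 3 n215498 = n190249 := d6_1 F480229 F379191 D208081
def n215499 : Q := act 7 n174683
theorem D215499 : act 7 n174683 = n215499 := rfl
theorem F480231 : act 4 n215499 = n211317 := d11_1 D215499 (iv7 F480027) F480026
theorem F480232 : act 5 n215499 = n193516 := d13_1 D215499 F390144 (iv5 F366917)
theorem F480233 : act 6 n215499 = n193519 := d14_1 D215499 F479459 (iv6 D215336) F271753 D174683
def n215500 : Q := act 5 n174692
theorem D215500 : act 5 n174692 = n215500 := rfl
theorem F480234 : act 3 n215500 = n174694 := d6_1 D215500 (iv5 D174694) D174692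
theorem F480235 : act 7 n215500 = n198455 := d13_2 F340640 D215500 (iv5 D198455)
def n215501 : Q := act 4 n174698
theorem D215501 : act 4 n174698 = n215501 := rfl
theorem F480236 : act 2 n215501 = n174701 := d1_1 D215501 (iv4 D174701) (iv2 F273548)
theorem F480237 : act 3 n215501 = n186897 := d5_1 D215501 (iv4 D186897) F137035 D97069 (iv3 F365447)
theorem F480238 : act 5 n215501 = n198592 := d9_2 D174698 D215501 (iv4 D198592) (iv5 D109590) (iv4 D50557) (iv5 D24628) (iv4 F38626) D50551 D109576 D198576 F408368 F220025 F100149 F79814 (iv4 F326037)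
theorem F480239 : act 7 n215501 = n198532 := d11_2 F365446 D215501 (iv4 D198532)
theorem F480240 : act 0 n215501 = n198575 := d18_2 (iv1 F365988) D215501 (iv4 F455795) F455794 (iv4 D198582) (iv0 F169558) D136504 (iv0 F408352) (iv5 D198568)
theorem F480241 : act 1 n215501 = n198574 := d18_6 F100448 (iv4 D50554) (iv1 F79815) (iv4 F326037) D174698 D215501 F455789 (iv0 D210021) (iv5 D137274)
def n215502 : Q := act 6 n174698
theorem D215502 : act 6 n174698 = n215502 := rfl
theorem F480242 : act 2 n215502 = n174702 := d3_1 D215502 (iv6 D174702) (iv2 F273548)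
theorem F480243 : act 3 n215502 = n190939 := d7_1 D215502 (iv6 D190939) (iv3 F365447)
theorem F480244 : act 5 n215502 = n214320 := d12_1 D215502 (iv6 D214320) (iv5 D158116) (iv6 F128575) D174698
theorem F480245 : act 0 n215502 = n189765 := d21_4 (iv5 D109573) (iv1 F326036) D174698 D215502 F394961 (iv5 F394954) (iv1 F394959) (iv5 F381675) (iv6 F408086) (iv1 F408084)
def n215503 : Q := act 3 n174699
theorem D215503 : act 3 n174699 = n215503 := rfl
theorem F480246 : act 5 n215503 = n198727 := d6_2 (iv5 F365860) D215503 F409002
theorem F480247 : act 7 n215503 = n198566 := d8_2 F408356 D215503 (iv3 D198566)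
theorem F480248 : act 0 n214750 = n215503 := d17_2 (iv1 F414152) (iv5 F476649) F480246 (iv4 F413073) F413074 (iv0 F405279) F406096 F406094 (iv4 F408347)
def n215504 : Q := act 4 n174699
theorem D215504 : act 4 n174699 = n215504 := rfl
theorem F480249 : act 2 n215504 = n198571 := d1_1 D215504 (iv4 D198571) (iv2 F408357)
theorem F480250 : act 7 n215504 = n198567 := d11_2 F408356 D215504 (iv4 D198567)
theorem F480251 : act 5 n215504 = n209677 := d16_1 D215504 (iv4 D209677) (iv5 D136810) (iv4 F175578) (iv5 F408800) F408799 (iv5 F365444) F408359 (iv2 F408357)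
theorem F480252 : act 0 n215504 = n210023 := d17_0 F455799 (iv1 D209510) D209511 F453975 (iv5 D174694) F326040 D109525 F365861 D215504
def n215505 : Q := act 6 n174699
theorem D215505 : act 6 n174699 = n215505 := rfl
theorem F480253 : act 2 n215505 = n198573 := d3_1 D215505 (iv6 D198573) (iv2 F408357)
theorem F480254 : act 5 n215505 = n198500 := d12_1 D215505 (iv6 D198500) F173734 D109905 (iv5 F365860)
theorem F480255 : act 0 n204750 = n215505 := d21_4 (iv5 F474772) (iv1 F474773) F276261 D204750 (iv6 D215505) F365860 (iv1 F363543) (iv5 F379223) F477526 F477524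
def n215506 : Q := act 3 n174700
theorem D215506 : act 3 n174700 = n215506 := rfl
theorem F480256 : act 5 n215506 = n198668 := d6_2 (iv5 F365444) D215506 F408795
theorem F480257 : act 7 n215506 = n198570 := d8_2 (iv7 F408359) D215506 (iv3 D198570)
def n215507 : Q := act 4 n174700
theorem D215507 : act 4 n174700 = n215507 := rfl
theorem F480258 : act 2 n215507 = n198567 := d1_1 D215507 (iv4 D198567) (iv2 F408358)
theorem F480259 : act 5 n215507 = n209680 := d9_2 (iv5 F365444) D215507 (iv4 D209680) (iv5 D136813) F203879 (iv5 F203877) F202927 (iv5 F365860) D215504 F480251 (iv4 D209677) (iv5 D136810) (iv4 F175578) (iv5 F408800) F408799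
theorem F480260 : act 7 n215507 = n198571 := d11_2 (iv7 F408359) D215507 (iv4 D198571)
theorem F480261 : act 1 n215507 = n210023 := d18_6 (iv1 F413659) F413656 F408803 F408799 (iv5 F365444) D215507 (iv4 D210023) D210022 F455794
def n215508 : Q := act 6 n174700
theorem D215508 : act 6 n174700 = n215508 := rfl
theorem F480262 : act 2 n215508 = n198569 := d3_1 D215508 (iv6 D198569) (iv2 F408358)
theorem F480263 : act 5 n215508 = n198671 := d12_1 D215508 (iv6 D198671) (iv5 D109742) D109743 (iv5 F365444)
theorem F480264 : act 0 n190089 = n215508 := d21_4 (iv5 D183221) (iv1 F289556) D95614 D190089 (iv6 D215508) F365444 F365442 (iv5 F408082) F408086 (iv1 F381678)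
def n215509 : Q := act 1 n174701
theorem D215509 : act 1 n174701 = n215509 := rfl
theorem F480265 : act 1 n215509 = n198532 := d15_1 D215509 (iv7 F480239) F480236
theorem F480266 : act 7 n215509 = n198575 := d15_2 F473439 D215509 F473440
theorem F480267 : act 5 n215509 = n209687 := d17_7 F246404 (iv5 D136813) (iv1 D64317) D64318 D136815 (iv5 F365448) D215509 (iv0 F473683) (iv4 D214141)
theorem F480268 : act 4 n215509 = n198684 := d17_9 (iv1 F414086) (iv5 D199906) (iv1 D111976) D111977 (iv4 F344639) (iv5 F454618) (iv0 D209684) (iv5 F365448) D215509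
theorem F480269 : act 2 n198574 = n215509 := d1_3 F480268 F455785 (iv4 F455789)
theorem F480270 : act 6 n204755 = n215509 := d10_0 F480268 F476540 F476539
def n215510 : Q := act 3 n174701
theorem D215510 : act 3 n174701 = n215510 := rfl
theorem F480271 : act 2 n215510 = n197931 := d0_1 D215510 (iv3 F406229) F378941 (iv3 F480237) F480236
theorem F480272 : act 4 n215510 = n174709 := d5_2 D174701 D215510 (iv3 D174709) (iv4 D83477) (iv3 F128576)
theorem F480273 : act 5 n215510 = n208558 := d6_2 (iv5 F365448) D215510 (iv3 F449887)
theorem F480274 : act 7 n215510 = n197932 := d8_2 F365987 D215510 (iv3 F406230)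
theorem F480275 : act 0 n215510 = n197934 := d19_4 (iv1 D83471) D83473 D174701 D215510 F406235 (iv4 F400497) (iv3 F470386) F470389 (iv5 D213421) F337157 F337152 (iv1 F368758) (iv5 D186984) F312635 F239270 D152189 (iv5 F353489) (iv4 F340639) (iv3 D174692)
theorem F480276 : act 6 n199676 = n215510 := d21_9 F406235 (iv1 F360118) (iv5 F360116) (iv6 D163943) F119924 D124286 F343781 (iv1 F412100) (iv5 F413084) F480275
theorem F480277 : act 0 n197714 = n215510 := d21_4 (iv5 D197718) (iv1 D108611) D108612 (iv6 F405483) (iv6 F480276) F413084 (iv1 D199418) D199419 F412106 (iv1 F405502)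
def n215511 : Q := act 6 n174701
theorem D215511 : act 6 n174701 = n215511 := rfl
theorem F480278 : act 3 n215511 = n199676 := d7_1 D215511 F480276 (iv3 D215510)
theorem F480279 : act 4 n215511 = n174702 := d10_1 D215511 (iv6 D174702) D174701
def n215512 : Q := act 0 n174702
theorem D215512 : act 0 n174702 = n215512 := rfl
theorem F480280 : act 5 n215512 = n189759 := d17_3 (iv1 F468388) (iv5 F273550) D215512 (iv4 D189759) (iv5 D94443) (iv0 F293474) D88776 F295070 D102866
theorem F480281 : act 6 n215512 = n190087 := d21_5 (iv5 D174694) (iv1 D83471) D83473 D174702 D215512 (iv5 F380581) (iv1 D185470) (iv5 F149765) (iv6 F378870) (iv1 F378872)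
theorem F480282 : act 2 n189765 = n215512 := d15_3 (iv0 D215512) (iv0 F376739) (iv7 F377672)
def n215513 : Q := act 7 n174702
theorem D215513 : act 7 n174702 = n215513 := rfl
theorem F480283 : act 3 n215513 = n174713 := d8_1 D215513 (iv7 D174713) (iv3 F273549)
theorem F480284 : act 5 n215513 = n212970 := d13_1 D215513 F468378 (iv5 F273550)
theorem F480285 : act 6 n215513 = n198558 := d14_1 D215513 (iv7 D198558) F169521 (iv7 F326041) D174702
theorem F480286 : act 0 n189765 = n215513 := d21_7 (iv5 F365206) (iv1 D183228) (iv5 F330361) F330362 D183236 (iv6 F363174) D189765 F480284 (iv6 D212970) F238526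
def n215514 : Q := act 6 n174705
theorem D215514 : act 6 n174705 = n215514 := rfl
theorem F480287 : act 3 n215514 = n174706 := d7_1 D215514 (iv6 D174706) D174705
theorem F480288 : act 4 n215514 = n211795 := d10_1 D215514 (iv6 D211795) (iv4 F366957)
theorem F480289 : act 5 n215514 = n187263 := d12_1 D215514 (iv6 F369653) F254107 (iv6 F256789) F366956
def n215515 : Q := act 0 n174706
theorem D215515 : act 0 n174706 = n215515 := rfl
def n215516 : Q := act 1 n174706
theorem D215516 : act 1 n174706 = n215516 := rfl
theorem F480290 : act 1 n215516 = n214818 := d15_1 D215516 (iv7 D214818) (iv2 F366947)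
theorem F480291 : act 3 n204750 = n215516 := d19_19 (iv1 D215516) (iv5 F366948) F254110 (iv3 F348739) (iv1 F147285) F326715 F325903 F324883 F323557 (iv5 D44996) (iv4 F61987) F61986 (iv1 F66875) D48217 (iv4 F293813) (iv3 F381485) (iv1 F433267) F433264 (iv4 F433466)
theorem F480292 : act 4 n204763 = n215516 := d20_0 (iv1 D215516) F464705 F464703 F362765 F273936 (iv4 F302208) F302205 (iv4 F273442) D215466 F480122
theorem F480293 : act 6 n215516 = n204749 := d10_2 D204763 F480292 F433464
def n215517 : Q := act 7 n174706
theorem D215517 : act 7 n174706 = n215517 := rfl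
theorem F480294 : act 2 n215517 = n214818 := d4_1 D215517 (iv7 D214818) (iv2 F366947)
theorem F480295 : act 5 n215517 = n214749 := d13_1 D215517 (iv7 D214749) F366948
theorem F480296 : act 1 n214818 = n215515 := d15_0 (iv0 D215515) D215517 F480294
theorem F480297 : act 1 n214817 = n215517 := d15_1 D214817 (iv7 D215517) F366947
theorem F480298 : act 1 n215517 = n214816 := d15_0 (iv0 D214816) D214818 (iv2 F480294)
def n215518 : Q := act 0 n174708
theorem D215518 : act 0 n174708 = n215518 := rfl
theorem F480299 : act 2 n214743 = n215518 := d15_3 (iv0 D215518) (iv0 F368453) (iv7 F476621)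
theorem F480300 : act 7 n215518 = n190129 := d4_2 (iv7 F476621) F480299 F378944
def n215519 : Q := act 7 n174708
theorem D215519 : act 7 n174708 = n215519 := rfl
theorem F480301 : act 3 n215519 = n190169 := d8_1 D215519 F381400 (iv3 F381398)
theorem F480302 : act 4 n215519 = n197954 := d11_1 D215519 (iv7 F479984) F479982
theorem F480303 : act 5 n215519 = n194859 := d13_1 D215519 F394773 (iv5 F273556)
theorem F480304 : act 6 n215519 = n214818 := d14_1 D215519 (iv7 D214818) (iv6 D162672) (iv7 F302248) D174708
theorem F480305 : act 1 n190129 = n215519 := d15_1 (iv0 F479466) (iv7 D215519) (iv2 F479463)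
theorem F480306 : act 1 n215519 = n214743 := d15_1 F480305 F476621 (iv2 F378944)
def n215520 : Q := act 0 n174709
theorem D215520 : act 0 n174709 = n215520 := rfl
theorem F480307 : act 2 n211438 = n215520 := d15_3 (iv0 D215520) F480107 (iv7 F461535)
theorem F480308 : act 1 n211337 = n215520 := d15_0 (iv0 D215520) (iv7 F348950) (iv2 F461178)
theorem F480309 : act 7 n215520 = n211437 := d15_2 (iv0 F480106) F480308 (iv2 F461532)
theorem F480310 : act 6 n204764 = n215520 := d14_5 F480309 (iv6 F461533) F476275 (iv6 D214662) F433508
def n215521 : Q := act 0 n174710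
theorem D215521 : act 0 n174710 = n215521 := rfl
theorem F480311 : act 5 n215521 = n210952 := d17_3 (iv1 D199674) (iv5 F345541) D215521 F459451 F363808 F366376 F326012 (iv0 F366377) (iv4 F430993)
def n215522 : Q := act 1 n174710
theorem D215522 : act 1 n174710 = n215522 := rfl
theorem F480312 : act 5 n215522 = n214289 := d17_7 (iv1 F336082) (iv5 D61105) D61103 (iv5 F345539) F202716 (iv5 F345541) D215522 (iv0 D214289) F248862
theorem F480313 : act 3 n204761 = n215522 := d6_3 F480312 (iv3 F474414) (iv5 F433489)
def n215523 : Q := act 6 n174712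
theorem D215523 : act 6 n174712 = n215523 := rfl
theorem F480314 : act 2 n215523 = n200231 := d3_1 D215523 (iv6 F448274) F448272
theorem F480315 : act 3 n215523 = n194422 := d7_1 D215523 (iv6 F476247) F476243
theorem F480316 : act 4 n215523 = n203698 := d10_1 D215523 (iv6 D203698) F413102
theorem F480317 : act 5 n215523 = n193604 := d12_1 D215523 F390428 (iv5 F215060) D208179 F448265
theorem F480318 : act 7 n215523 = n194414 := d14_2 F433366 D215523 F393109 F378843 F433370
theorem F480319 : act 1 n209909 = n215523 := d15_1 (iv0 F462951) F480318 (iv2 F462947)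
def n215524 : Q := act 6 n174713
theorem D215524 : act 6 n174713 = n215524 := rfl
theorem F480320 : act 2 n215524 = n190067 := d3_1 D215524 (iv6 F479475) F479472
theorem F480321 : act 3 n215524 = n198558 := d7_1 D215524 (iv6 F480285) F480283
theorem F480322 : act 4 n215524 = n211338 := d10_1 D215524 (iv6 F461182) (iv4 F406261)
theorem F480323 : act 5 n215524 = n190065 := d12_1 D215524 (iv6 F413817) F413816 F276151 (iv5 F273558)
theorem F480324 : act 7 n215524 = n174714 := d14_2 D174713 D215524 (iv6 D174714) (iv7 D83479) D83478
def n215525 : Q := act 0 n174714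
theorem D215525 : act 0 n174714 = n215525 := rfl
theorem F480325 : act 5 n215525 = n215010 := d21_2 (iv5 F348934) D215525 F477873 (iv1 D189844) (iv6 D95327) F70049 F33472 D21276 D44678 D95649
theorem F480326 : act 1 n190067 = n215525 := d15_0 (iv0 D215525) (iv7 F480324) F480320
theorem F480327 : act 3 n215011 = n215525 := d19_19 (iv1 F480326) (iv5 D190067) D190066 F378761 F354080 (iv5 F403335) F403334 (iv3 F239582) (iv1 F178046) (iv5 D114125) (iv4 F303373) (iv3 F367884) F465317 F465314 (iv4 D194896) F161646 (iv1 F290545) (iv5 F369612) (iv4 F477876)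
def n215526 : Q := act 1 n174714
theorem D215526 : act 1 n174714 = n215526 := rfl
theorem F480328 : act 1 n215526 = n190067 := d15_1 D215526 (iv7 F381574) F381571
theorem F480329 : act 3 n215526 = n190141 := d20_5 (iv4 F358455) (iv1 F378770) (iv4 D190069) (iv3 F378766) (iv1 F480328) (iv4 F378962) (iv1 F379298) (iv4 D190288) F340384 F340381
def n215527 : Q := act 1 n174722
theorem D215527 : act 1 n174722 = n215527 := rfl
theorem F480330 : act 1 n215527 = n208604 := d15_1 D215527 F450112 (iv2 F364934)
theorem F480331 : act 7 n215527 = n208784 := d15_2 (iv0 F396028) D215527 F450847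
theorem F480332 : act 5 n215527 = n192580 := d17_7 (iv1 D158584) D158585 F344758 (iv5 D83486) (iv4 F128584) D174722 D215527 (iv0 F470711) F470709
theorem F480333 : act 3 n191796 = n215527 := d19_19 (iv1 D215527) (iv5 D174722) F128584 (iv3 F128583) (iv1 F331919) (iv5 F331892) F166258 (iv3 F166217) (iv1 F167016) (iv5 F328177) (iv4 D102062) (iv3 F156133) (iv1 F388761) (iv5 F388763) F283607 (iv3 F373925) F374686 F374683 F384470
theorem F480334 : act 4 n193350 = n215527 := d20_0 (iv1 D215527) (iv4 F444504) F444503 (iv1 F363941) (iv3 F366124) (iv4 F442897) (iv1 F442899) (iv4 F443237) F443236 (iv1 F396036)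
theorem F480335 : act 6 n189088 = n215527 := d21_3 F462322 (iv1 D189087) D189088 (iv1 D215527) (iv6 F378881) (iv5 D190113) F294755 (iv5 F147039) D189894 F462323
theorem F480336 : act 2 n215527 = n183456 := d3_1 F480335 (iv6 F419125) F419121
def n215528 : Q := act 4 n174788
theorem D215528 : act 4 n174788 = n215528 := rfl
theorem F480337 : act 2 n215528 = n179776 := d1_1 D215528 (iv4 D179776) (iv2 F304509)
theorem F480338 : act 3 n215528 = n197595 := d5_1 D215528 (iv4 F434250) F434247 F384337 (iv3 F273611)
theorem F480339 : act 5 n215528 = n191697 := d9_2 D174788 D215528 (iv4 F452399) F452400 F299561 (iv5 F322741) (iv4 F301810) F286903 (iv4 F367992) D189156 (iv4 F441065) F441066 F333035 (iv5 D83508) (iv4 F128612)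
theorem F480340 : act 6 n215528 = n188155 := d10_2 F451112 D215528 (iv4 F451110)
theorem F480341 : act 7 n215528 = n188704 := d11_2 (iv7 F304510) D215528 F380075
theorem F480342 : act 0 n215528 = n186786 := d17_0 F368009 (iv1 F332685) (iv5 F294781) F295114 (iv5 D41534) D41533 D88956 (iv0 F304507) D215528
theorem F480343 : act 1 n215528 = n186784 := d18_6 (iv1 D100934) F317098 (iv1 F317095) (iv4 F128612) D174788 D215528 (iv4 D186784) D186783 F367983
def n215529 : Q := act 5 n174814
theorem D215529 : act 5 n174814 = n215529 := rfl
theorem F480344 : act 2 n215529 = n204112 := d2_1 D215529 F443305 F443300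
theorem F480345 : act 3 n215529 = n192306 := d6_1 D215529 (iv5 F386372) (iv3 F384508)
theorem F480346 : act 7 n215529 = n213297 := d13_2 F443311 D215529 (iv5 F469789)
theorem F480347 : act 0 n215529 = n182920 := d17_2 F451369 D215529 (iv5 D182920) (iv4 F154905) F353952 (iv0 F389878) (iv5 D193449) F357879 (iv4 F451368)
theorem F480348 : act 1 n215529 = n213295 := d17_6 (iv1 F151587) (iv5 F321788) F328763 (iv5 F328786) (iv4 F273694) D215529 (iv5 D213295) F354031 F354029
def n215530 : Q := act 0 n174817
theorem D215530 : act 0 n174817 = n215530 := rfl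
theorem F480349 : act 5 n215530 = n177444 := d17_1 D215530 F341723 D177449 (iv4 F342119) (iv5 F347444) (iv0 D133103) (iv5 F316544) (iv0 F334675) D174817
theorem F480350 : act 4 n215530 = n193447 := d18_1 D215530 (iv1 F389867) F345734 D200720 F417627 (iv0 D167779) (iv4 F264148) (iv0 F363866) (iv5 F346595)
theorem F480351 : act 3 n215530 = n195693 := d20_5 (iv4 F168577) D197771 F405713 F334681 D215530 F397876 (iv1 D126214) D126215 (iv3 F362296) (iv1 D113432)
theorem F480352 : act 2 n177446 = n215530 := d15_3 (iv0 D215530) F416674 (iv7 F416672)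
theorem F480353 : act 1 n174830 = n215530 := d15_0 (iv0 D215530) F355909 F355911
theorem F480354 : act 7 n215530 = n177442 := d15_2 (iv0 F416673) F480353 (iv2 F416668)
def n215531 : Q := act 5 n174829
theorem D215531 : act 5 n174829 = n215531 := rfl
theorem F480355 : act 2 n215531 = n204911 := d2_1 D215531 (iv5 D204911) (iv2 F356178)
theorem F480356 : act 3 n215531 = n204248 := d6_1 D215531 (iv5 D204248) (iv3 F356165)
theorem F480357 : act 6 n215531 = n193432 := d12_2 D174829 D215531 (iv5 D193432) F346596 F346594
theorem F480358 : act 7 n215531 = n204252 := d13_2 F356177 D215531 (iv5 D204252)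
theorem F480359 : act 4 n215531 = n193537 := d16_2 (iv4 F273705) D215531 F390187 F174189 (iv5 F326445) D58016 D124413 F198967 F333794
theorem F480360 : act 0 n215531 = n215128 := d17_2 F356169 D215531 F478500 F310301 F128126 F117750 D78187 F300819 (iv4 F317252)
theorem F480361 : act 1 n215531 = n194694 := d17_6 F316720 F314374 D77024 (iv5 F333791) (iv4 F273705) D215531 (iv5 D194694) F357443 (iv4 D157994)
def n215532 : Q := act 5 n174885
theorem D215532 : act 5 n174885 = n215532 := rfl
theorem F480362 : act 2 n215532 = n199978 := d2_1 D215532 F414449 F414183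
theorem F480363 : act 0 n215532 = n214378 := d17_2 (iv1 F414177) D215532 (iv5 D214378) (iv4 D159281) (iv5 F330174) F239257 (iv5 F430551) (iv0 F430554) (iv4 F414174)
theorem F480364 : act 1 n215532 = n214377 := d17_6 F364246 (iv5 F364245) F253928 F300634 D174885 D215532 (iv5 D214377) (iv0 F414278) F414275
def n215533 : Q := act 2 n174895
theorem D215533 : act 2 n174895 = n215533 := rfl
theorem F480365 : act 3 n215533 = n204278 := d0_2 D174895 D215533 F431823 (iv3 D174129) F128637
theorem F480366 : act 5 n215533 = n204277 := d2_2 (iv5 F395206) D215533 F431819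
theorem F480367 : act 6 n215533 = n214335 := d3_2 F358891 D215533 F474628
theorem F480368 : act 7 n215533 = n215384 := d4_2 (iv7 F273789) D215533 (iv2 D215384)
theorem F480369 : act 1 n215533 = n204841 := d15_0 (iv0 F433792) (iv7 F273789) D215533
theorem F480370 : act 1 n204842 = n215533 := d15_0 F480369 F433791 (iv2 F433793)
theorem F480371 : act 4 n215533 = n214336 := d20_2 D204841 (iv1 F480369) F474632 F333798 (iv3 D78261) F56352 (iv1 F43247) D27692 D58085 D124474
def n215534 : Q := act 4 n174895
theorem D215534 : act 4 n174895 = n215534 := rfl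
theorem F480372 : act 2 n215534 = n214336 := d1_1 D215534 (iv4 F480371) (iv2 D215533)
theorem F480373 : act 3 n215534 = n203483 := d5_1 D215534 F428491 F350681 (iv4 F128638) D174895
theorem F480374 : act 6 n215534 = n199577 := d10_2 F358891 D215534 F412737
theorem F480375 : act 7 n215534 = n205971 := d11_2 (iv7 F273789) D215534 F438657
theorem F480376 : act 1 n215534 = n198847 := d18_6 F406509 (iv4 F298038) F362850 (iv4 F395205) (iv5 F395206) D215534 F409547 (iv0 F406048) D198012
theorem F480377 : act 1 n203833 = n215534 := d15_0 F480376 (iv7 F415374) (iv2 F430022)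
def n215535 : Q := act 2 n174901
theorem D215535 : act 2 n174901 = n215535 := rfl
theorem F480378 : act 5 n215535 = n204281 := d2_2 F412175 D215535 (iv2 F431840)
theorem F480379 : act 6 n215535 = n204665 := d3_2 F394985 D215535 (iv2 F433200)
theorem F480380 : act 7 n215535 = n174902 := d4_2 F479659 D215535 (iv2 F479657)
theorem F480381 : act 1 n215535 = n174903 := d15_0 (iv0 F479661) F479659 D215535
theorem F480382 : act 4 n215535 = n205296 := d16_0 F435835 (iv4 F362846) (iv5 D123338) (iv4 F197479) D204233 (iv4 F431595) D215376 F479659 D215535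
theorem F480383 : act 1 n174905 = n215535 := d18_6 F412412 (iv4 F406042) F431826 (iv4 F478685) F478686 F441631 F480382 (iv0 F435837) F435442
def n215536 : Q := act 4 n174901
theorem D215536 : act 4 n174901 = n215536 := rfl
theorem F480384 : act 2 n215536 = n205296 := d1_1 D215536 (iv4 F480382) (iv2 D215535)
theorem F480385 : act 3 n215536 = n214833 := d5_1 D215536 F477053 F394517 (iv4 F273809) (iv3 F362034)
theorem F480386 : act 5 n215536 = n200695 := d9_2 F412175 D215536 F431838 (iv5 D204280) (iv4 F431585) (iv5 F431590) (iv4 F412169) F412170 F407490 (iv5 D125726) (iv4 F172761) (iv5 F362847) (iv4 F326138) D205584 F437102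
theorem F480387 : act 7 n215536 = n205265 := d11_2 F479659 D215536 (iv4 F479660)
theorem F480388 : act 0 n215536 = n198896 := d17_0 (iv5 F439105) (iv1 F439107) (iv5 F417485) (iv4 F417481) D204278 (iv0 F431826) F406043 F345582 D215536
theorem F480389 : act 1 n215536 = n200873 := d18_8 D200872 (iv4 F479695) (iv1 D215382) (iv4 F477058) (iv5 D214834) (iv4 F306131) F345582 D215536 (iv5 D200873)
def n215537 : Q := act 3 n174902
theorem D215537 : act 3 n174902 = n215537 := rfl
theorem F480390 : act 4 n215537 = n205313 := d5_2 (iv4 F407490) D215537 (iv3 D205313) (iv4 D125742) (iv3 F202220)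
theorem F480391 : act 5 n215537 = n177631 := d6_2 F412170 D215537 (iv3 F412168)
theorem F480392 : act 0 n215537 = n196875 := d19_4 F360478 D125726 (iv4 F407490) D215537 (iv5 F433797) (iv4 D204842) F341236 D174159 F393024 F393023 (iv3 F353011) D194594 (iv5 F476040) F476037 (iv3 F464660) (iv1 F441699) (iv5 D200712) (iv4 D113360) (iv3 F176546)
def n215538 : Q := act 3 n174906
theorem D215538 : act 3 n174906 = n215538 := rfl
theorem F480393 : act 2 n215538 = n215537 := d0_1 D215538 (iv3 D215537) (iv2 F479657) F479658 F273805
theorem F480394 : act 4 n215538 = n214821 := d5_2 (iv4 F273804) D215538 F476992 F395022 (iv3 F358391)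
theorem F480395 : act 5 n215538 = n205075 := d6_2 (iv5 F273803) D215538 (iv3 F434885)
theorem F480396 : act 6 n215538 = n210905 := d7_2 (iv6 F378259) D215538 (iv3 D210905)
theorem F480397 : act 7 n215538 = n215379 := d8_2 F273806 D215538 F479677
theorem F480398 : act 0 n198661 = n215538 := d20_4 (iv4 D196502) (iv1 F164982) (iv4 F400861) (iv3 F408756) (iv3 D215538) F273804 (iv1 D173265) D173266 F346349 (iv1 F400874)
def n215539 : Q := act 6 n174909
theorem D215539 : act 6 n174909 = n215539 := rfl
theorem F480399 : act 3 n215539 = n206642 := d7_1 D215539 F479698 (iv3 F479697)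
theorem F480400 : act 4 n215539 = n189721 := d10_1 D215539 F377524 (iv4 F273811)
theorem F480401 : act 0 n215539 = n215397 := d21_10 F479778 F400590 F400586 D199813 F479703 (iv6 D215383) (iv5 D174130) (iv1 F128642) (iv5 F273812) D215539
theorem F480402 : act 0 n215398 = n215539 := d18_0 F480400 F477621 F477619 F435108 F359162 (iv0 F359163) D212480 F466006 (iv5 F479782)
def n215540 : Q := act 5 n174910
theorem D215540 : act 5 n174910 = n215540 := rfl
theorem F480403 : act 2 n215540 = n214375 := d2_1 D215540 (iv5 D214375) F366382
theorem F480404 : act 3 n215540 = n211523 := d6_1 D215540 F476046 F476042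
theorem F480405 : act 4 n215540 = n215332 := d9_1 D215540 F479437 F430097 D204833 F433760 (iv5 D162809) (iv4 F305000) D214616 (iv4 F479445) F479444 F429976 (iv5 F411305) F411303 F303417 (iv4 F273815)
theorem F480406 : act 7 n215540 = n211521 := d13_2 F476062 D215540 (iv5 F476065)
theorem F480407 : act 1 n215540 = n175036 := d17_6 (iv1 F345544) (iv5 F401901) F401903 F303417 (iv4 F273815) D215540 (iv5 F407443) (iv0 D198277) F321447
def n215541 : Q := act 7 n174982
theorem D215541 : act 7 n174982 = n215541 := rfl
theorem F480408 : act 2 n215541 = n200799 := d4_1 D215541 (iv7 F438544) F438540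
theorem F480409 : act 4 n215541 = n214171 := d11_1 D215541 F473836 F464508
theorem F480410 : act 5 n215541 = n200796 := d13_1 D215541 F417935 F342141
theorem F480411 : act 6 n215541 = n175992 := d14_1 D215541 (iv7 F345584) F345586 F311771 D174982
theorem F480412 : act 1 n204852 = n215541 := d15_1 (iv0 F438546) (iv7 D215541) (iv2 F438540)
theorem F480413 : act 1 n215541 = n179640 := d15_1 F480412 (iv7 F313778) (iv2 F433851)
def n215542 : Q := act 6 n175002
theorem D215542 : act 6 n175002 = n215542 := rfl
theorem F480414 : act 2 n215542 = n215423 := d3_1 D215542 (iv6 D215423) F273901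
theorem F480415 : act 3 n215542 = n196429 := d7_1 D215542 (iv6 F459991) F459990
theorem F480416 : act 4 n215542 = n213811 := d10_1 D215542 (iv6 F472192) (iv4 F273900)
def n215543 : Q := act 0 n175004
theorem D215543 : act 0 n175004 = n215543 := rfl
theorem F480417 : act 5 n215543 = n192337 := d17_1 D215543 (iv1 F389810) (iv5 F459931) F459932 F401239 F386519 (iv5 F386624) (iv0 F459284) F459283
theorem F480418 : act 4 n215543 = n192367 := d18_1 D215543 F386588 (iv4 F464512) F464511 F273382 F271679 (iv4 F273904) (iv0 D175001) D175004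
theorem F480419 : act 1 n192389 = n215543 := d15_0 (iv0 D215543) (iv7 F464777) (iv2 F464778)
theorem F480420 : act 2 n215415 = n215543 := d1_3 F480418 F388211 (iv4 F479879)
theorem F480421 : act 7 n215417 = n215543 := d11_0 F480418 F388208 (iv4 F479889)
def n215544 : Q := act 1 n175004
theorem D215544 : act 1 n175004 = n215544 := rfl
theorem F480422 : act 1 n215544 = n192389 := d15_1 D215544 (iv7 F459347) F459346
theorem F480423 : act 7 n215544 = n215415 := d15_2 (iv0 D215543) D215544 F480420
theorem F480424 : act 5 n215544 = n192361 := d17_7 F312796 (iv5 D83576) (iv1 D38528) D38529 D83580 D175004 D215544 (iv0 F389809) (iv4 D193427)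
theorem F480425 : act 4 n215544 = n192345 := d17_9 (iv1 F388218) F388216 (iv1 F155578) (iv5 F359735) (iv4 F459796) (iv5 F459798) (iv0 D175001) D175004 D215544
theorem F480426 : act 2 n215417 = n215544 := d1_3 F480425 F388207 (iv4 F479889)
theorem F480427 : act 3 n200122 = n215544 := d20_5 F223447 (iv1 F415346) F415344 F360029 F415113 F480425 (iv1 F388218) F388215 F225013 F223448
theorem F480428 : act 6 n215544 = n213693 := d7_2 (iv6 F415112) F480427 F471664
def n215545 : Q := act 4 n175019
theorem D215545 : act 4 n175019 = n215545 := rfl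
theorem F480429 : act 2 n215545 = n200800 := d1_1 D215545 (iv4 D200800) (iv2 F360716)
theorem F480430 : act 3 n215545 = n196671 := d5_1 D215545 F401430 F391204 F275409 (iv3 F360717)
theorem F480431 : act 5 n215545 = n197632 := d9_2 (iv5 F360718) D215545 F405109 (iv5 F417961) F417960 F176680 (iv4 F176675) (iv5 F360724) (iv4 F461945) F461946 F459322 F385080 F352517 (iv5 D113476) D113475
theorem F480432 : act 6 n215545 = n176162 := d10_2 (iv6 F360719) D215545 (iv4 D176162)
theorem F480433 : act 7 n215545 = n198941 := d11_2 (iv7 F360720) D215545 F410000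
theorem F480434 : act 0 n215545 = n175026 := d17_0 (iv5 F393141) F393147 F416767 F416763 F199126 F360731 (iv5 F128659) D175019 D215545
theorem F480435 : act 1 n215545 = n215451 := d18_6 F381056 F82600 (iv1 F173410) D113475 (iv5 F360718) D215545 F480057 F401977 F401974
def n215546 : Q := act 0 n175021
theorem D215546 : act 0 n175021 = n215546 := rfl
theorem F480436 : act 6 n215546 = n211522 := d21_5 (iv5 F294499) (iv1 F140456) F140454 F352778 D215546 F461963 F436866 (iv5 F393353) (iv6 D194471) (iv1 F158994)
theorem F480437 : act 1 n215448 = n215546 := d15_0 (iv0 D215546) F273924 D215448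
def n215547 : Q := act 1 n175021
theorem D215547 : act 1 n175021 = n215547 := rfl
theorem F480438 : act 1 n215547 = n215448 := d15_1 D215547 F480042 F373422
theorem F480439 : act 4 n215547 = n214827 := d18_7 (iv1 F381425) F402434 F402435 F369857 F352785 (iv4 F352783) D215547 (iv0 F477023) F393858
theorem F480440 : act 6 n214826 = n215547 := d10_0 F480439 (iv6 D214827) D214826
theorem F480441 : act 7 n215447 = n215547 := d11_0 F480439 (iv7 F477024) F480038
theorem F480442 : act 2 n215547 = n215446 := d15_3 (iv0 D215446) D215447 F480441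
theorem F480443 : act 2 n215447 = n215546 := d15_3 (iv0 D215546) D215547 (iv7 F480441)
theorem F480444 : act 7 n215546 = n215446 := d4_2 (iv7 F480441) F480443 (iv2 F480442)
theorem F480445 : act 4 n215446 = n194623 := d1_2 (iv4 F480439) F480442 (iv2 F477020)
theorem F480446 : act 5 n190877 = n215547 := d2_0 F480442 F480036 (iv2 F381423)
def n215548 : Q := act 5 n175021
theorem D215548 : act 5 n175021 = n215548 := rfl
theorem F480447 : act 3 n215548 = n175022 := d6_1 D215548 (iv5 D175022) D175021
theorem F480448 : act 7 n215548 = n215449 := d13_2 (iv7 F273924) D215548 (iv5 D215449)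
theorem F480449 : act 4 n211849 = n215548 := d5_0 F480447 F273927 F463089 F463088 D211849
def n215549 : Q := act 6 n175022
theorem D215549 : act 6 n175022 = n215549 := rfl
theorem F480450 : act 2 n215549 = n215444 := d3_1 D215549 (iv6 D215444) (iv2 F273925)
theorem F480451 : act 4 n215549 = n215337 := d10_1 D215549 (iv6 D215337) (iv4 F273927)
def n215550 : Q := act 0 n175024
theorem D215550 : act 0 n175024 = n215550 := rfl
theorem F480452 : act 5 n215550 = n212082 := d19_1 D215550 F464263 (iv3 F464270) (iv1 F464273) (iv5 F461465) F390776 (iv3 F390763) (iv1 F443715) F443712 (iv4 F414801) (iv3 F414802) (iv1 F342726) F339315 (iv4 F263844) F263843 F298800 F127802 (iv4 F128660) D175024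
theorem F480453 : act 3 n215550 = n196252 := d20_5 F128538 (iv1 F127801) (iv4 F128660) D175024 D215550 (iv4 D196252) F245360 F245356 F332381 (iv1 F271718)
theorem F480454 : act 2 n215441 = n215550 := d15_3 (iv0 D215550) (iv0 F433756) (iv7 F480008)
theorem F480455 : act 1 n215442 = n215550 := d15_0 (iv0 D215550) F273930 D215442
theorem F480456 : act 7 n215550 = n196876 := d15_2 F480018 F480455 (iv2 F433753)
def n215551 : Q := act 3 n175028
theorem D215551 : act 3 n175028 = n215551 := rfl
theorem F480457 : act 4 n215551 = n190784 := d5_2 F366093 D215551 (iv3 D190784) (iv4 D96670) (iv3 F148965)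
theorem F480458 : act 5 n215551 = n190298 := d6_2 (iv5 F366096) D215551 (iv3 D190298)
theorem F480459 : act 6 n215551 = n199196 := d7_2 (iv6 F366094) D215551 (iv3 F411125)
theorem F480460 : act 7 n215551 = n212863 := d8_2 (iv7 F366095) D215551 F467852
def n215552 : Q := act 0 n175030
theorem D215552 : act 0 n175030 = n215552 := rfl
theorem F480461 : act 5 n215552 = n202767 := d17_1 D215552 (iv1 F425492) F379321 (iv4 D190152) (iv5 F378292) F380339 (iv5 F381303) (iv0 D190845) (iv4 F338161)
theorem F480462 : act 4 n215552 = n190286 := d18_1 D215552 (iv1 F379288) D190291 (iv5 F402059) F402058 F313666 (iv4 F206504) F366097 D175030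
theorem F480463 : act 2 n191113 = n215552 := d15_3 (iv0 D215552) (iv0 F362765) (iv7 F382283)
theorem F480464 : act 1 n190852 = n215552 := d15_0 (iv0 D215552) (iv7 F378977) (iv2 F381331)
theorem F480465 : act 7 n215552 = n202766 := d15_2 (iv0 F381333) F480464 F425483
def n215553 : Q := act 0 n175034
theorem D215553 : act 0 n175034 = n215553 := rfl
theorem F480466 : act 4 n215553 = n215525 := d18_1 D215553 (iv1 F480326) (iv4 F480139) F480140 F400450 F389245 F389239 D193240 F459287
theorem F480467 : act 3 n215553 = n187247 := d20_5 (iv4 F476972) F476974 (iv4 F461260) F461257 D215553 (iv4 D187247) (iv1 D89840) D89841 (iv3 F360805) (iv1 F461623)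
theorem F480468 : act 5 n193158 = n215553 := d6_0 F480467 F369617 D193158
theorem F480469 : act 7 n193267 = n215553 := d8_0 F480467 F369618 (iv3 F389346)
def n215554 : Q := act 1 n175034
theorem D215554 : act 1 n175034 = n215554 := rfl
theorem F480470 : act 4 n215554 = n215526 := d17_9 (iv1 D215526) F348934 F378756 (iv5 F379277) F379276 F367261 D193240 F459287 D215554
theorem F480471 : act 3 n214661 = n215554 := d20_3 F196335 D160466 D214661 (iv1 D215554) (iv3 F461257) F461260 F381314 (iv4 F461617) (iv3 F461620) F406277
theorem F480472 : act 5 n193266 = n215554 := d21_6 F480417 (iv1 F389810) (iv5 F459931) (iv6 F473419) (iv1 F473422) F389366 (iv1 D215554) (iv5 F459287) (iv6 F459286) D215543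
theorem F480473 : act 2 n215554 = n193267 := d2_1 F480472 (iv5 D193267) D193266
def n215555 : Q := act 6 n175106
theorem D215555 : act 6 n175106 = n215555 := rfl
theorem F480474 : act 2 n215555 = n206330 := d3_1 D215555 (iv6 D206330) (iv2 F364908)
theorem F480475 : act 3 n215555 = n175126 := d7_1 D215555 (iv6 D175126) (iv3 F274073)
theorem F480476 : act 5 n215555 = n200171 := d12_1 D215555 F415373 F409868 F188209 (iv5 F274074)
theorem F480477 : act 7 n215555 = n193415 := d14_2 D175106 D215555 (iv6 D193415) F321175 (iv6 F128692)
theorem F480478 : act 0 n177632 = n215555 := d21_4 (iv5 D205819) F360533 (iv5 F362158) (iv6 F345847) (iv6 D215555) F274074 (iv1 F239794) (iv5 F438293) (iv6 D205890) F437981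
def n215556 : Q := act 1 n175120
theorem D215556 : act 1 n175120 = n215556 := rfl
theorem F480479 : act 1 n215556 = n205969 := d15_1 D215556 F438649 F428754
theorem F480480 : act 7 n215556 = n205956 := d15_2 (iv0 F449854) D215556 (iv2 F449850)
theorem F480481 : act 5 n215556 = n209300 := d17_7 F321901 (iv5 F281116) (iv1 F281117) (iv5 D166484) (iv4 F262030) (iv5 F362472) D215556 (iv0 F453109) (iv4 D205578)
theorem F480482 : act 4 n215556 = n206036 := d18_7 (iv1 D206532) (iv4 F219491) F429661 F429649 (iv5 D202630) F344431 D215556 (iv0 F456395) (iv5 F456401)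
theorem F480483 : act 3 n194303 = n215556 := d19_19 (iv1 D215556) F362472 F262030 (iv3 F262026) (iv1 F353656) (iv5 F464878) F464877 (iv3 F229411) (iv1 F229416) (iv5 F342097) (iv4 F228898) (iv3 D69197) (iv1 F84775) F166908 (iv4 F340643) (iv3 F351983) (iv1 F169199) (iv5 F322990) (iv4 F392751)
theorem F480484 : act 2 n215556 = n205968 := d0_1 F480483 F438643 F409436 F224404 (iv2 F392750)
theorem F480485 : act 6 n215556 = n194302 := d7_2 D194303 F480483 (iv3 D194302)
def n215557 : Q := act 0 n175124
theorem D215557 : act 0 n175124 = n215557 := rfl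
theorem F480486 : act 5 n215557 = n203513 := d17_1 D215557 (iv1 F471894) F471892 F281223 (iv5 F337705) F243693 (iv5 F320192) F199323 F353914
theorem F480487 : act 4 n215557 = n203522 := d18_1 D215557 (iv1 D203522) F337715 F337717 F278209 F353042 (iv4 F244830) F353044 D175124
theorem F480488 : act 1 n204889 = n215557 := d15_0 (iv0 D215557) F353916 (iv2 F434024)
theorem F480489 : act 2 n215380 = n215557 := d1_3 F480487 (iv2 F428698) (iv4 F479682)
theorem F480490 : act 6 n205074 = n215557 := d10_0 F480487 F428697 (iv4 F434878)
def n215558 : Q := act 1 n175124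
theorem D215558 : act 1 n175124 = n215558 := rfl
theorem F480491 : act 1 n215558 = n204889 := d15_1 D215558 F434027 (iv2 F353915)
theorem F480492 : act 7 n215558 = n215380 := d15_2 (iv0 D215557) D215558 F480489
theorem F480493 : act 5 n215558 = n203515 := d17_7 (iv1 F243678) (iv5 D83641) (iv1 D38562) D38563 D83645 D175124 D215558 (iv0 F471893) (iv4 D213745)
theorem F480494 : act 4 n215558 = n203521 := d17_9 F428686 F337722 (iv1 F188014) (iv5 F406376) (iv4 F472115) (iv5 D213793) F353044 D175124 D215558
theorem F480495 : act 3 n180788 = n215558 := d19_19 (iv1 D215558) (iv5 D175124) (iv4 D83645) (iv3 F128691) D175103 (iv5 F438704) F438703 (iv3 D129584) (iv1 D60875) D60876 (iv4 F320716) (iv3 F322133) F322368 (iv5 F322370) (iv4 F206393) (iv3 F430031) (iv1 F430033) (iv5 F355392) (iv4 F281418)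
theorem F480496 : act 6 n180787 = n215558 := d21_3 F348604 (iv1 F372820) F372819 (iv1 D215558) (iv6 F410748) F410745 (iv1 F400568) (iv5 F400841) F477603 (iv1 F477600)
def n215559 : Q := act 6 n175138
theorem D215559 : act 6 n175138 = n215559 := rfl
theorem F480497 : act 2 n215559 = n175279 := d3_1 D215559 (iv6 D175279) (iv2 F354873)
theorem F480498 : act 3 n215559 = n181686 := d7_1 D215559 (iv6 F465893) F465891
theorem F480499 : act 5 n215559 = n208044 := d12_1 D215559 F447590 (iv5 D158464) (iv6 F344381) F344380
def n215560 : Q := act 1 n175282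
theorem D215560 : act 1 n175282 = n215560 := rfl
theorem F480500 : act 1 n215560 = n186487 := d15_1 D215560 F431669 F431666
theorem F480501 : act 5 n215560 = n183983 := d17_7 F161651 (iv5 F289355) (iv1 F289357) (iv5 D88828) D88827 (iv5 F336793) D215560 (iv0 F289918) F153387
theorem F480502 : act 4 n215560 = n212244 := d17_9 F464943 (iv5 F335889) F335888 F104831 (iv4 F107861) F302945 (iv0 F335616) (iv5 F336793) D215560
theorem F480503 : act 3 n183990 = n215560 := d19_19 (iv1 D215560) F336793 (iv4 D88827) D88826 (iv1 F306700) (iv5 D154811) (iv4 D73414) (iv3 F87053) (iv1 F322164) F322167 (iv4 F461751) F461750 F447350 (iv5 F342759) F204838 (iv3 F204830) F243222 D145998 F346801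
theorem F480504 : act 6 n214523 = n215560 := d21_3 D76410 D159714 D214523 (iv1 D215560) F274291 (iv5 F360936) (iv1 D156685) (iv5 F246017) F360941 (iv1 D76409)
theorem F480505 : act 2 n215560 = n193984 := d3_1 F480504 (iv6 F391626) (iv2 F475611)
def n215561 : Q := act 3 n175311
theorem D215561 : act 3 n175311 = n215561 := rfl
theorem F480506 : act 4 n215561 = n199314 := d5_2 D175311 D215561 (iv3 F451252) F451253 F338578
theorem F480507 : act 5 n215561 = n208060 := d6_2 (iv5 F332264) D215561 F447689
theorem F480508 : act 6 n215561 = n194138 := d7_2 F403166 D215561 (iv3 F392176)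
theorem F480509 : act 0 n210336 = n215561 := d20_4 F224554 (iv1 F224472) F337089 D210336 (iv3 D215561) (iv4 D175311) (iv1 F128783) D83737 (iv3 F348303) (iv1 F348299)
def n215562 : Q := act 6 n175404
theorem D215562 : act 6 n175404 = n215562 := rfl
theorem F480510 : act 2 n215562 = n213994 := d3_1 D215562 (iv6 D213994) F349782
theorem F480511 : act 3 n215562 = n199275 := d7_1 D215562 (iv6 D199275) F361302
theorem F480512 : act 4 n215562 = n178667 := d10_1 D215562 (iv6 D178667) F274449
theorem F480513 : act 7 n215562 = n211164 := d14_2 F349786 D215562 (iv6 D211164) F361309 F339880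
theorem F480514 : act 0 n215562 = n211178 := d21_4 (iv5 F332264) F274357 (iv5 F274448) D215562 F460475 F386456 F333751 (iv5 F335203) (iv6 D156245) D156241
theorem F480515 : act 1 n202287 = n211178 := d15_0 (iv0 F480514) F480513 F460407
def n215563 : Q := act 5 n175408
theorem D215563 : act 5 n175408 = n215563 := rfl
theorem F480516 : act 2 n215563 = n187097 := d2_1 D215563 (iv5 F466074) F466070
theorem F480517 : act 3 n215563 = n193810 := d6_1 D215563 F431674 F431672
theorem F480518 : act 7 n215563 = n193806 := d13_2 F383393 D215563 F391050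
theorem F480519 : act 0 n215563 = n193805 := d17_2 F408974 D215563 (iv5 F411698) F374129 F200970 D155881 F415442 F415441 F408969
theorem F480520 : act 1 n215563 = n193804 := d17_6 F403144 (iv5 D197122) F355514 F188514 (iv4 F274460) D215563 (iv5 F391049) (iv0 D188592) (iv4 F374016)
def n215564 : Q := act 3 n175429
theorem D215564 : act 3 n175429 = n215564 := rfl
theorem F480521 : act 2 n215564 = n214914 := d0_1 D215564 (iv3 F477410) F449079 (iv3 D206507) (iv2 F355050)
theorem F480522 : act 4 n215564 = n199125 := d5_2 D175429 D215564 (iv3 D199125) F364752 F305500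
theorem F480523 : act 5 n215564 = n205255 := d6_2 (iv5 F332711) D215564 (iv3 D205255)
theorem F480524 : act 6 n215564 = n189798 := d7_2 F355052 D215564 F377794
theorem F480525 : act 7 n215564 = n206508 := d8_2 F355049 D215564 (iv3 D206508)
theorem F480526 : act 0 n215564 = n214915 := d19_4 D38598 D83767 D175429 D215564 F477413 F437121 (iv3 F442489) (iv1 F442491) (iv5 F399100) (iv4 F399929) F399928 F399099 (iv5 F387380) (iv4 D192657) F154554 (iv1 F154543) F310431 F128798 F59416
theorem F480527 : act 0 n209072 = n215564 := d20_4 F119715 D78540 (iv4 F330376) D209072 (iv3 D215564) (iv4 D175429) F303274 D161298 F320977 F296427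
def n215565 : Q := act 6 n175487
theorem D215565 : act 6 n175487 = n215565 := rfl
theorem F480528 : act 2 n215565 = n213601 := d3_1 D215565 (iv6 D213601) F361523
theorem F480529 : act 3 n215565 = n194117 := d7_1 D215565 (iv6 D194117) F348228
theorem F480530 : act 4 n215565 = n194124 := d10_1 D215565 (iv6 D194124) (iv4 F348235)
theorem F480531 : act 5 n215565 = n192766 := d12_1 D215565 (iv6 F454168) F388599 F348225 D175487
theorem F480532 : act 0 n193838 = n215565 := d21_4 (iv5 F289367) (iv1 F289369) F283700 D193838 (iv6 D215565) (iv5 D175487) (iv1 D83796) D83797 F128831 D97964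
theorem F480533 : act 0 n213602 = n185314 := d21_4 (iv5 D152006) D152004 F363405 D213602 F387705 (iv5 D192768) D192766 (iv5 F480531) (iv6 D215565) F348227
def n215566 : Q := act 3 n175489
theorem D215566 : act 3 n175489 = n215566 := rfl
theorem F480534 : act 5 n215566 = n207339 := d6_2 (iv5 F444985) D215566 (iv3 F444984)
theorem F480535 : act 7 n215566 = n204592 := d8_2 F382955 D215566 F432969
theorem F480536 : act 2 n215566 = n204593 := d15_3 (iv0 F474081) F474082 (iv7 F480535)
theorem F480537 : act 0 n181152 = n215566 := d17_2 F348260 D181152 F480534 (iv4 F444995) (iv5 F458989) F458992 (iv5 F363475) (iv0 F348282) (iv4 F215095)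
theorem F480538 : act 1 n204314 = n215566 := d17_6 F360898 F313918 (iv1 F316059) (iv5 F209428) (iv4 F348254) D204314 F480534 F444413 F429718
def n215567 : Q := act 4 n175489
theorem D215567 : act 4 n175489 = n215567 := rfl
theorem F480539 : act 2 n215567 = n191300 := d1_1 D215567 (iv4 F382942) F382953
theorem F480540 : act 6 n215567 = n203418 := d10_2 (iv6 F444986) D215567 F428208
theorem F480541 : act 7 n215567 = n193810 := d11_2 F382955 D215567 F391057
theorem F480542 : act 0 n215567 = n193809 := d17_0 (iv5 F419475) F419473 F348244 (iv4 F348235) (iv5 D175487) F310343 D153836 F310355 D215567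
theorem F480543 : act 1 n215567 = n193808 := d18_6 F403498 F403495 F247734 D207450 (iv5 F444985) D215567 F391053 F433166 F433165
theorem F480544 : act 3 n215567 = n193806 := d19_3 (iv1 F444983) (iv5 F444985) D215567 F465765 (iv5 D212427) (iv4 F233683) F233682 (iv1 F130730) F322547 F103652 F49697 D31421 D67660 (iv4 F320551) F311743 D173557 (iv5 F308602) F308601 (iv3 F338059)
def n215568 : Q := act 3 n175490
theorem D215568 : act 3 n175490 = n215568 := rfl
theorem F480545 : act 4 n215568 = n186587 := d5_2 F382951 D215568 F367331 (iv4 F136331) D102360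
theorem F480546 : act 5 n215568 = n213327 := d6_2 F465189 D215568 F469941
theorem F480547 : act 7 n215568 = n192253 := d8_2 (iv7 F382952) D215568 F386213
theorem F480548 : act 0 n215568 = n213470 := d19_4 F456609 (iv5 D193811) F382951 D215568 (iv5 D213470) F304378 F197496 F331918 D174722 (iv4 F444504) F444503 (iv1 F363941) D200899 (iv4 F431389) F431388 (iv1 F197318) D123888 (iv4 F411448) (iv3 F456607)
theorem F480549 : act 0 n209818 = n215568 := d20_4 D212711 F467200 (iv4 F423443) (iv3 F455055) (iv3 D215568) (iv4 F382951) D193808 F391053 F234370 D149051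
theorem F480550 : act 2 n192556 = n215568 := d1_3 F480545 F367330 D192556
def n215569 : Q := act 6 n175490
theorem D215569 : act 6 n175490 = n215569 := rfl
theorem F480551 : act 2 n215569 = n213602 := d3_1 D215569 (iv6 D213602) (iv2 F382954)
theorem F480552 : act 4 n215569 = n193812 := d10_1 D215569 (iv6 D193812) F382951
theorem F480553 : act 0 n185182 = n215569 := d20_1 F391031 F480552 F391065 F391047 (iv3 F424450) (iv4 F450805) F450806 (iv4 F458959) F458961 F458962
theorem F480554 : act 0 n215569 = n213646 := d20_1 (iv4 F480552) F471436 (iv3 D154586) F337928 (iv3 F352341) D210548 (iv1 F458307) F458304 (iv3 F458266) (iv1 F458268)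
def n215570 : Q := act 0 n175506
theorem D215570 : act 0 n175506 = n215570 := rfl
theorem F480555 : act 5 n215570 = n215309 := d17_1 D215570 F479325 (iv5 F374771) (iv4 D101931) (iv5 F155078) (iv0 D100948) (iv5 F310408) (iv0 F312614) D175506
theorem F480556 : act 4 n215570 = n191911 := d18_1 D215570 F384801 D215355 F479532 F390329 (iv0 F397665) (iv4 F454916) F454913 F354880
theorem F480557 : act 1 n175519 = n215570 := d15_0 (iv0 D215570) F274815 (iv2 F274849)
theorem F480558 : act 6 n188233 = n215570 := d21_3 (iv5 D186894) F362410 F372769 (iv1 F480557) (iv6 F354885) (iv5 D136923) (iv1 F347041) (iv5 F387915) (iv6 D192825) (iv1 F368440)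
theorem F480559 : act 2 n215570 = n192371 := d3_1 F480558 F386595 (iv2 F372770)
theorem F480560 : act 7 n215570 = n193552 := d14_2 (iv7 F372768) F480558 (iv6 F392134) F392135 (iv6 D193762)
def n215571 : Q := act 1 n175506
theorem D215571 : act 1 n175506 = n215571 := rfl
theorem F480561 : act 1 n215571 = n175519 := d15_1 D215571 F274850 F274830
theorem F480562 : act 7 n215571 = n192371 := d15_2 (iv0 D215570) D215571 (iv2 F480559)
theorem F480563 : act 5 n215571 = n208686 := d17_7 F334805 (iv5 D105453) D105449 (iv5 F334806) F354877 F354880 D215571 (iv0 F450448) F374770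
theorem F480564 : act 4 n215571 = n192372 := d17_9 (iv1 F386601) (iv5 D123203) (iv1 F310384) (iv5 F151879) (iv4 F383593) (iv5 F454915) F454913 F354880 D215571
theorem F480565 : act 2 n193552 = n215571 := d1_3 F480564 F386599 (iv4 F390245)
theorem F480566 : act 6 n193787 = n215571 := d10_0 F480564 (iv6 F386603) (iv4 F391007)
theorem F480567 : act 3 n215571 = n208506 := d19_3 (iv1 F274978) (iv5 F386600) (iv4 F480564) (iv1 D208506) (iv5 D134454) (iv4 D63152) (iv3 F102071) (iv1 D49350) F37709 (iv4 F78016) (iv3 F164594) (iv1 F398126) F398124 (iv4 D124725) (iv3 F199532) (iv1 F418870) F418868 (iv4 F471538) F471534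
def n215572 : Q := act 6 n175506
theorem D215572 : act 6 n175506 = n215572 := rfl
theorem F480568 : act 2 n215572 = n193555 := d3_1 D215572 (iv6 D193555) F274830
theorem F480569 : act 3 n215572 = n209802 := d7_1 D215572 (iv6 D209802) F354888
theorem F480570 : act 4 n215572 = n175507 := d10_1 D215572 (iv6 D175507) D175506
theorem F480571 : act 7 n215572 = n209789 := d14_2 (iv7 F274815) D215572 (iv6 D209789) (iv7 D136946) (iv6 F354884)
theorem F480572 : act 5 n210533 = n215572 := d21_2 (iv5 F391024) (iv1 F457954) (iv6 D215572) D215570 (iv6 F480558) (iv5 F372769) F361764 F137043 D102338 D193793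
theorem F480573 : act 1 n215572 = n210414 := d17_6 (iv1 F415654) (iv5 F474460) (iv1 F478485) (iv5 F478490) F463758 F480572 (iv5 D210414) F411558 (iv4 F415652)
def n215573 : Q := act 5 n175514
theorem D215573 : act 5 n175514 = n215573 := rfl
theorem F480574 : act 2 n215573 = n192816 := d2_1 D215573 F387886 (iv2 F348278)
theorem F480575 : act 3 n215573 = n204314 := d6_1 D215573 (iv5 D204314) F348277
theorem F480576 : act 6 n215573 = n209777 := d12_2 F351874 D215573 (iv5 D209777) F346520 (iv5 F339177)
theorem F480577 : act 7 n215573 = n186762 := d13_2 (iv7 F348280) D215573 (iv5 D186762)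
theorem F480578 : act 0 n215573 = n175529 := d17_2 F312000 D215573 F368398 (iv4 F470109) F470111 F456981 F456979 (iv0 F305721) F187924
theorem F480579 : act 1 n215573 = n192814 := d17_6 F383292 F383290 F366510 (iv5 F366507) (iv4 F348279) D215573 (iv5 F479125) (iv0 D215268) F353801
def n215574 : Q := act 6 n175517
theorem D215574 : act 6 n175517 = n215574 := rfl
theorem F480580 : act 2 n215574 = n193789 := d3_1 D215574 F391010 F366711
theorem F480581 : act 3 n215574 = n175520 := d7_1 D215574 (iv6 D175520) (iv3 F274846)
theorem F480582 : act 4 n215574 = n188242 := d10_1 D215574 F372800 F366712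
theorem F480583 : act 5 n215574 = n204523 := d12_1 D215574 (iv6 D204523) (iv5 D123959) (iv6 F315048) D175517
theorem F480584 : act 7 n215574 = n188241 := d14_2 (iv7 F274847) D215574 F372797 F292344 (iv6 F314163)
theorem F480585 : act 0 n215574 = n193787 := d21_4 (iv5 D215573) (iv1 D175514) D175517 D215574 F480566 F480563 F450447 (iv5 D193569) (iv6 F387882) (iv1 F480579)
theorem F480586 : act 0 n193762 = n215574 := d21_4 (iv5 F368446) (iv1 F368447) F287610 D193762 (iv6 D215574) (iv5 D175517) (iv1 F313107) D100729 F154830 D100741
def n215575 : Q := act 0 n175520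
theorem D215575 : act 0 n175520 = n215575 := rfl
theorem F480587 : act 5 n215575 = n192013 := d17_1 D215575 (iv1 F385203) D193070 F454941 F454938 F422980 (iv5 F454923) (iv0 D209778) (iv4 F354886)
theorem F480588 : act 4 n215575 = n213781 := d18_3 F390963 (iv4 F354886) D215575 (iv5 D213781) (iv4 D155829) D155827 (iv4 F422963) (iv0 F422967) (iv5 F390962)
theorem F480589 : act 6 n215575 = n193768 := d21_5 (iv5 D47344) (iv1 F59426) D83807 D175520 D215575 F390952 (iv1 F367865) (iv5 F274868) (iv6 D175527) (iv1 F128842)
theorem F480590 : act 2 n193073 = n215575 := d15_3 (iv0 D215575) (iv0 F274852) D193073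
theorem F480591 : act 7 n215575 = n187460 := d4_2 D193073 F480590 F370432
theorem F480592 : act 1 n193071 = n215575 := d15_1 D193071 F480591 F370432
def n215576 : Q := act 7 n175520
theorem D215576 : act 7 n175520 = n215576 := rfl
theorem F480593 : act 2 n215576 = n193071 := d4_1 D215576 F388659 (iv2 F274851)
theorem F480594 : act 3 n215576 = n188241 := d8_1 D215576 (iv7 F480584) F480581
theorem F480595 : act 4 n215576 = n193742 := d11_1 D215576 F390870 (iv4 F354886)
theorem F480596 : act 5 n215576 = n194690 := d13_1 D215576 F394101 F388590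
theorem F480597 : act 6 n215576 = n188243 := d14_1 D215576 F372804 (iv6 D101911) (iv7 F274796) D175520
theorem F480598 : act 1 n187460 = n215576 := d15_1 (iv0 F370434) (iv7 D215576) F274851
theorem F480599 : act 1 n215576 = n193073 := d15_1 F480598 (iv7 D193073) (iv2 F370432)
def n215577 : Q := act 3 n175525
theorem D215577 : act 3 n175525 = n215577 := rfl
theorem F480600 : act 4 n215577 = n212744 := d5_2 D175525 D215577 (iv3 D212744) F338054 (iv3 D175524)
theorem F480601 : act 5 n215577 = n210062 := d6_2 (iv5 F371190) D215577 F455999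
theorem F480602 : act 7 n215577 = n193568 := d8_2 F338128 D215577 (iv3 D193568)
theorem F480603 : act 0 n215577 = n209216 := d19_4 (iv1 F274866) (iv5 D175526) D175525 D215577 (iv5 D209216) F347099 F347076 (iv1 F444793) (iv5 D207416) (iv4 D131392) (iv3 F155492) (iv1 F104257) F104254 F315389 (iv3 F87334) F314749 F314145 (iv4 F239027) F338059
theorem F480604 : act 1 n215577 = n208526 := d15_1 (iv0 F480603) F449737 (iv2 F452746)
theorem F480605 : act 2 n209792 = n215577 := d15_3 F480604 (iv0 F449738) (iv7 F454973)
def n215578 : Q := act 6 n175525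
theorem D215578 : act 6 n175525 = n215578 := rfl
theorem F480606 : act 2 n215578 = n193564 := d3_1 D215578 (iv6 D193564) (iv2 F338126)
theorem F480607 : act 4 n215578 = n175527 := d10_1 D215578 (iv6 D175527) D175525
def n215579 : Q := act 0 n175527
theorem D215579 : act 0 n175527 = n215579 := rfl
theorem F480608 : act 3 n215579 = n185233 := d20_5 F347119 F366263 D202349 (iv3 F423715) D215579 (iv4 F382945) F382947 (iv4 F369450) F451064 (iv1 D208838)
theorem F480609 : act 5 n215579 = n208363 := d21_2 (iv5 F274868) D215579 (iv6 D208363) F410178 (iv6 F410179) F389578 (iv1 F380092) F155858 (iv6 F367863) (iv1 F367865)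
theorem F480610 : act 6 n215579 = n186932 := d21_5 F156850 (iv1 F274866) (iv5 D175526) D175527 D215579 (iv5 F368549) (iv1 F361981) F307501 (iv6 D101911) D101908
theorem F480611 : act 2 n183783 = n215579 := d3_3 F480610 F368550 (iv6 F368366)
theorem F480612 : act 4 n183887 = n215579 := d10_3 F480610 (iv4 F471259) F471260
theorem F480613 : act 0 n215579 = n190563 := d21_10 (iv5 D190563) (iv1 F367869) (iv5 F390952) (iv6 F480589) (iv1 F480592) F426857 (iv5 F426856) (iv1 F368380) F368549 (iv6 F480610)
theorem F480614 : act 7 n193565 = n215579 := d15_2 (iv0 F368367) D193565 (iv2 F480611)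
def n215580 : Q := act 1 n175527
theorem D215580 : act 1 n175527 = n215580 := rfl
theorem F480615 : act 1 n215580 = n190563 := d15_1 D215580 F380148 (iv2 F338127)
theorem F480616 : act 7 n215580 = n183783 := d15_2 (iv0 D215579) D215580 F480611
theorem F480617 : act 6 n188236 = n215580 := d21_3 (iv5 D91109) D91107 D188236 (iv1 D215580) (iv6 D175527) D175526 F274900 F156852 F372784 (iv1 D188240)
theorem F480618 : act 5 n206550 = n215580 := d21_6 (iv5 D89180) (iv1 F64288) (iv5 F74497) D101538 F332689 D206550 (iv1 D215580) F274868 F368065 (iv1 D186804)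
theorem F480619 : act 2 n215580 = n193565 := d2_1 F480618 (iv5 F450616) F450612
theorem F480620 : act 4 n215580 = n182218 := d16_4 (iv4 F441293) (iv5 D206551) (iv4 F441287) F480618 (iv5 D182218) (iv4 F137146) D187042 (iv7 F384007) F384201
theorem F480621 : act 3 n183785 = n215580 := d5_5 F480620 F283655 F133516 (iv3 F134594) (iv4 F285563)
def n215581 : Q := act 7 n175527
theorem D215581 : act 7 n175527 = n215581 := rfl
theorem F480622 : act 2 n215581 = n190563 := d4_1 D215581 F380148 (iv2 F338127)
theorem F480623 : act 3 n215581 = n209792 := d8_1 D215581 F454973 (iv3 F423715)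
theorem F480624 : act 5 n215581 = n186742 := d13_1 D215581 F367866 (iv5 F274868)
theorem F480625 : act 6 n215581 = n193571 := d14_1 D215581 (iv7 D193571) (iv6 D101936) (iv7 F338105) D175527
theorem F480626 : act 1 n193565 = n215581 := d15_1 D193565 (iv7 D215581) F338127
theorem F480627 : act 1 n215581 = n183783 := d15_1 F480626 (iv7 F480616) F480619
def n215582 : Q := act 2 n175529
theorem D215582 : act 2 n175529 = n215582 := rfl
theorem F480628 : act 3 n215582 = n192955 := d0_2 D175529 D215582 F388329 (iv3 D101934) (iv2 F338104)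
theorem F480629 : act 5 n215582 = n191366 := d2_2 (iv5 F368398) D215582 F383222
theorem F480630 : act 7 n215582 = n192814 := d4_2 (iv7 F338124) D215582 (iv2 F387880)
theorem F480631 : act 1 n215582 = n192816 := d15_0 (iv0 F387888) (iv7 F338124) D215582
theorem F480632 : act 1 n186762 = n215582 := d15_0 F480631 (iv7 D192816) (iv2 F367917)
theorem F480633 : act 4 n193571 = n215582 := d18_7 F154834 (iv4 F130286) F309573 (iv4 F241855) (iv5 F387060) F387059 F390317 F480631 F387886
def n215583 : Q := act 4 n175529
theorem D215583 : act 4 n175529 = n215583 := rfl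
theorem F480634 : act 2 n215583 = n193571 := d1_1 D215583 F480633 (iv2 D215582)
theorem F480635 : act 3 n215583 = n193564 := d5_1 D215583 F390297 (iv3 F368368) (iv4 D175530) D175529
theorem F480636 : act 7 n215583 = n175531 := d11_2 (iv7 F338124) D215583 F368370
theorem F480637 : act 0 n215583 = n193570 := d17_0 F390316 (iv1 D187033) (iv5 F151016) (iv4 F377189) F377190 (iv0 D100727) D100729 (iv0 F368399) D215583
theorem F480638 : act 1 n215583 = n185180 := d18_6 F468199 (iv4 F479550) F479553 F470109 (iv5 F368398) D215583 (iv4 F387064) F421381 (iv5 F466406)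
theorem F480639 : act 6 n190563 = n215583 := d21_9 F390316 (iv1 D187033) (iv5 F151016) (iv6 D97975) F72137 (iv6 F147852) (iv5 D96166) D96164 D190563 F480637
def n215584 : Q := act 6 n175529
theorem D215584 : act 6 n175529 = n215584 := rfl
theorem F480640 : act 3 n215584 = n175531 := d7_1 D215584 (iv6 D175531) D175529
theorem F480641 : act 4 n215584 = n190563 := d10_1 D215584 F480639 (iv4 D215583)
theorem F480642 : act 7 n215584 = n193564 := d14_2 (iv7 F338124) D215584 (iv6 D193564) (iv7 F338125) (iv6 F368369)
def n215585 : Q := act 6 n175532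
theorem D215585 : act 6 n175532 = n215585 := rfl
theorem F480643 : act 2 n215585 = n183886 := d3_1 D215585 F450203 F338096
theorem F480644 : act 4 n215585 = n191502 := d10_1 D215585 (iv6 D191502) (iv4 F274877)
theorem F480645 : act 7 n215585 = n213643 := d14_2 (iv7 F338095) D215585 (iv6 D213643) F421428 (iv6 D193575)
theorem F480646 : act 0 n182218 = n215585 := d18_2 (iv1 F480615) F480620 F480644 F383591 (iv4 F384033) F380138 (iv4 F367862) F367869 D190563
theorem F480647 : act 0 n215585 = n183887 := d20_7 F135185 F352352 D154373 (iv3 F450803) F450806 F418872 (iv4 F480644) F480612 F480608 (iv1 D185233)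
def n215586 : Q := act 3 n175533
theorem D215586 : act 3 n175533 = n215586 := rfl
theorem F480648 : act 4 n215586 = n177977 := d5_2 (iv4 F312936) D215586 (iv3 D177977) (iv4 D84720) D84719
theorem F480649 : act 6 n215586 = n213644 := d7_2 F421425 D215586 (iv3 D213644)
theorem F480650 : act 7 n215586 = n193572 := d8_2 F338094 D215586 (iv3 D193572)
def n215587 : Q := act 0 n175535
theorem D215587 : act 0 n175535 = n215587 := rfl
theorem F480651 : act 5 n215587 = n175572 := d17_1 D215587 F384811 (iv5 F421376) (iv4 D201687) (iv5 D114979) F161840 (iv5 F334806) (iv0 F354878) F354894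
theorem F480652 : act 4 n215587 = n175630 := d18_1 D215587 F353311 F353312 (iv5 F390291) F390292 F274901 (iv4 F274877) (iv0 D175532) D175535
theorem F480653 : act 2 n193580 = n215587 := d15_3 (iv0 D215587) (iv0 F465540) F465543
theorem F480654 : act 1 n175681 = n215587 := d15_0 (iv0 D215587) F354897 F357752
theorem F480655 : act 7 n215587 = n193581 := d15_2 (iv0 F465541) F480654 (iv2 F465537)
theorem F480656 : act 3 n208295 = n215587 := d8_3 F480655 F390331 (iv7 F448785)
theorem F480657 : act 6 n210221 = n215587 := d14_5 F480655 (iv6 F390330) (iv7 F177216) D138001 (iv7 F456635)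
def n215588 : Q := act 6 n175535
theorem D215588 : act 6 n175535 = n215588 := rfl
theorem F480658 : act 2 n215588 = n193582 := d3_1 D215588 (iv6 D193582) (iv2 F274872)
theorem F480659 : act 3 n215588 = n206430 := d7_1 D215588 F440751 F354898
theorem F480660 : act 4 n215588 = n187695 := d10_1 D215588 F371207 F354894
theorem F480661 : act 5 n215588 = n187448 := d12_1 D215588 (iv6 D187448) F290878 (iv6 F128839) D175535
theorem F480662 : act 7 n215588 = n194781 := d14_2 (iv7 F354897) D215588 (iv6 F445535) F445536 (iv6 D201145)
theorem F480663 : act 0 n215588 = n208283 := d21_10 F448731 F251274 D201287 F419868 D213498 F470690 F421423 (iv1 D175533) D175535 D215588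
theorem F480664 : act 0 n188741 = n215588 := d21_4 (iv5 F293346) F137143 F365792 D188741 (iv6 D215588) (iv5 D175535) D175532 (iv5 F371449) (iv6 D187769) (iv1 D90546)
def n215589 : Q := act 6 n175536
theorem D215589 : act 6 n175536 = n215589 := rfl
theorem F480665 : act 2 n215589 = n193546 := d3_1 D215589 F390216 (iv2 F274873)
theorem F480666 : act 4 n215589 = n175537 := d10_1 D215589 (iv6 D175537) (iv4 F274874)
theorem F480667 : act 7 n215589 = n191303 := d14_2 D175536 D215589 (iv6 D191303) (iv7 D97989) (iv6 F128839)
theorem F480668 : act 1 n193754 = n215589 := d15_1 D193754 F480667 F382956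
theorem F480669 : act 1 n215589 = n193753 := d15_0 (iv0 D193753) (iv7 F390217) (iv2 F480665)
def n215590 : Q := act 6 n175565
theorem D215590 : act 6 n175565 = n215590 := rfl
theorem F480670 : act 2 n215590 = n191505 := d3_1 D215590 (iv6 D191505) (iv2 F274896)
theorem F480671 : act 3 n215590 = n209539 := d7_1 D215590 (iv6 F467279) F467278
theorem F480672 : act 4 n215590 = n192002 := d10_1 D215590 F390296 F390292
theorem F480673 : act 5 n215590 = n191523 := d12_1 D215590 (iv6 D191523) F151904 (iv6 F154539) D175565
theorem F480674 : act 7 n215590 = n187096 := d14_2 (iv7 F274897) D215590 (iv6 D187096) F137250 (iv6 F136519)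
theorem F480675 : act 0 n192262 = n215590 := d21_4 F454950 (iv1 F361020) D192735 (iv6 F387617) (iv6 D215590) (iv5 D175565) (iv1 F128860) D83849 D175626 F454954
theorem F480676 : act 1 n192263 = n215590 := d15_1 D192263 F480674 F369069
def n215591 : Q := act 7 n175573
theorem D215591 : act 7 n175573 = n215591 := rfl
theorem F480677 : act 6 n215591 = n192737 := d14_1 D215591 F479542 (iv6 D215356) (iv7 F274581) D175573
def n215592 : Q := act 3 n175625
theorem D215592 : act 3 n175625 = n215592 := rfl
theorem F480678 : act 2 n215592 = n210228 := d0_1 D215592 F456653 F382862 (iv3 F479531) F479530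
theorem F480679 : act 4 n215592 = n177950 := d5_2 D175625 D215592 (iv3 D177950) (iv4 D84712) F315065
theorem F480680 : act 5 n215592 = n210223 := d6_2 (iv5 F465542) D215592 (iv3 F465538)
theorem F480681 : act 0 n215592 = n213119 := d20_4 (iv4 D192371) (iv1 F274583) D175625 D215592 F469085 F392046 (iv1 D193764) (iv4 F390246) (iv3 D193553) (iv1 F386597)
def n215593 : Q := act 6 n175625
theorem D215593 : act 6 n175625 = n215593 := rfl
theorem F480682 : act 2 n215593 = n203412 := d3_1 D215593 F479536 F479530
theorem F480683 : act 4 n215593 = n175626 := d10_1 D215593 (iv6 D175626) D175625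
theorem F480684 : act 5 n215593 = n203411 := d12_1 D215593 (iv6 F454895) F454894 D212370 (iv5 F465542)
theorem F480685 : act 0 n193072 = n215593 := d21_4 (iv5 F369117) F369119 (iv5 F347712) (iv6 F388662) (iv6 D215593) F465542 F465540 (iv5 D175535) F128839 D97986
theorem F480686 : act 1 n213781 = n215593 := d15_0 (iv0 F480685) (iv7 F475191) F475190
def n215594 : Q := act 7 n175626
theorem D215594 : act 7 n175626 = n215594 := rfl
theorem F480687 : act 2 n215594 = n192737 := d4_1 D215594 F479542 F479537
theorem F480688 : act 3 n215594 = n177955 := d8_1 D215594 (iv7 D177955) (iv3 F315066)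
theorem F480689 : act 5 n215594 = n210632 := d13_1 D215594 F458270 F387334
theorem F480690 : act 1 n187462 = n215594 := d15_1 (iv0 F479541) (iv7 D215594) (iv2 F479537)
theorem F480691 : act 1 n215594 = n192738 := d15_1 F480690 (iv7 D192738) (iv2 F370439)
def n215595 : Q := act 6 n175630
theorem D215595 : act 6 n175630 = n215595 := rfl
theorem F480692 : act 3 n215595 = n209737 := d7_1 D215595 (iv6 F465078) F465075
theorem F480693 : act 4 n215595 = n210221 := d10_1 D215595 F480657 F480652
theorem F480694 : act 5 n215595 = n199714 := d12_1 D215595 F413225 F374394 F321089 D175630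
theorem F480695 : act 7 n215595 = n188733 := d14_2 (iv7 F371118) D215595 (iv6 D188733) F142968 D187654
theorem F480696 : act 0 n215595 = n188739 := d21_4 (iv5 F374762) F314191 D175630 D215595 (iv6 D188739) F142995 (iv1 F69121) F65313 D90449 D187684
def n215596 : Q := act 6 n175696
theorem D215596 : act 6 n175696 = n215596 := rfl
theorem F480697 : act 2 n215596 = n191517 := d3_1 D215596 (iv6 D191517) (iv2 F275086)
theorem F480698 : act 5 n215596 = n191450 := d12_1 D215596 (iv6 D191450) F275091 (iv6 D175697) D175696
theorem F480699 : act 7 n215596 = n193946 := d14_2 (iv7 F275087) D215596 (iv6 D193946) F383654 (iv6 D191520)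
theorem F480700 : act 0 n215596 = n192195 := d21_4 (iv5 D88940) F275097 D175696 D215596 (iv6 D192195) (iv5 F380372) F380374 (iv5 F408213) F408212 (iv1 F286960)
theorem F480701 : act 1 n215596 = n193965 := d15_1 (iv0 F480700) (iv7 D193965) (iv2 F385950)
def n215597 : Q := act 5 n175700
theorem D215597 : act 5 n175700 = n215597 := rfl
theorem F480702 : act 2 n215597 = n193426 := d2_1 D215597 (iv5 D193426) (iv2 F275110)
theorem F480703 : act 7 n215597 = n193429 := d13_2 (iv7 F275111) D215597 (iv5 D193429)
theorem F480704 : act 4 n215597 = n192137 := d16_2 D175700 D215597 (iv5 F433608) (iv4 D204794) (iv5 D124371) F309519 D83882 F274693 (iv2 F274684)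
theorem F480705 : act 1 n215597 = n210706 := d17_6 (iv1 F304827) (iv5 D38630) D38628 D83877 D175700 D215597 F458508 (iv0 F304829) (iv4 D167095)
def n215598 : Q := act 5 n175711
theorem D215598 : act 5 n175711 = n215598 := rfl
theorem F480706 : act 2 n215598 = n193429 := d2_1 D215598 (iv5 D193429) (iv2 F275138)
theorem F480707 : act 3 n215598 = n210625 := d6_1 D215598 F458251 (iv3 F337656)
theorem F480708 : act 4 n215598 = n192126 := d9_1 D215598 (iv5 F456131) F456132 (iv5 D175696) (iv4 D83876) D83877 D175700 D215597 F480704 (iv5 F433608) (iv4 D204794) (iv5 D124371) F309519 D83882 D175711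
theorem F480709 : act 7 n215598 = n193426 := d13_2 (iv7 F275139) D215598 (iv5 D193426)
theorem F480710 : act 0 n215598 = n210706 := d17_2 F389935 D215598 F458508 (iv4 D172402) (iv5 D82552) (iv0 F156780) D47320 F156636 D193463
theorem F480711 : act 6 n210622 = n215598 := d7_0 F480707 (iv6 D210625) D210622
def n215599 : Q := act 3 n175716
theorem D215599 : act 3 n175716 = n215599 := rfl
theorem F480712 : act 7 n215599 = n193433 := d8_2 F286955 D215599 (iv3 D193433)
def n215600 : Q := act 5 n175716
theorem D215600 : act 5 n175716 = n215600 := rfl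
theorem F480713 : act 2 n215600 = n193432 := d2_1 D215600 (iv5 D193432) F286995
theorem F480714 : act 4 n215600 = n192130 := d9_1 D215600 (iv5 D192130) F286964 F303337 F123204 D80218 D167095 (iv5 F460469) F460468 (iv5 D192127) (iv4 F367489) F367488 (iv4 F304820) F304821 D175716
theorem F480715 : act 6 n215600 = n204911 := d12_2 (iv6 F456319) D215600 (iv5 D204911) F356179 (iv5 F456316)
theorem F480716 : act 7 n215600 = n193434 := d13_2 F286955 D215600 (iv5 D193434)
theorem F480717 : act 1 n215600 = n214144 := d17_6 D101643 F304825 (iv1 F263168) F304821 D175716 D215600 F473700 (iv0 D193424) (iv4 D101645)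
def n215601 : Q := act 0 n175772
theorem D215601 : act 0 n175772 = n215601 := rfl
theorem F480718 : act 3 n215601 = n208566 := d20_5 (iv4 F167721) D197591 F404943 F366893 D215601 (iv4 D208566) (iv1 D134740) D134741 F216770 F343162
theorem F480719 : act 5 n215601 = n210493 := d21_8 (iv5 D139365) (iv1 F180497) F357459 (iv6 F385113) (iv1 F385114) D204208 F431491 D215601 (iv6 D210493) (iv1 F386893)
theorem F480720 : act 2 n189137 = n215601 := d2_3 F480719 F457771 F448501
theorem F480721 : act 6 n189135 = n215601 := d12_0 F480719 (iv6 D210493) (iv5 D139282) D139283 (iv5 F375853)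
def n215602 : Q := act 1 n175772
theorem D215602 : act 1 n175772 = n215602 := rfl
theorem F480722 : act 7 n215602 = n189137 := d15_2 (iv0 D215601) D215602 F480720
theorem F480723 : act 3 n188155 = n215602 := d20_3 (iv4 F374193) (iv1 F451114) F451110 (iv1 D215602) (iv3 F366893) (iv4 F404943) F404946 (iv4 F407526) (iv3 F407531) (iv1 F384496)
theorem F480724 : act 6 n197595 = n215602 := d21_3 (iv5 F375711) (iv1 F447442) F447444 (iv1 D215602) (iv6 D175772) (iv5 D83902) D83900 D175768 (iv6 F405066) F405068
theorem F480725 : act 5 n188153 = n215602 := d21_6 (iv5 D150108) F315096 D130437 D207127 (iv1 F443450) (iv6 F375684) (iv1 D215602) (iv5 F431491) (iv6 D204208) F302088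
def n215603 : Q := act 5 n175825
theorem D215603 : act 5 n175825 = n215603 := rfl
theorem F480726 : act 6 n215603 = n208156 := d12_2 D175825 D215603 (iv5 D208156) (iv6 D133469) (iv5 F317508)
def n215604 : Q := act 5 n175932
theorem D215604 : act 5 n175932 = n215604 := rfl
theorem F480727 : act 2 n215604 = n212015 := d2_1 D215604 (iv5 D212015) F342085
theorem F480728 : act 3 n215604 = n195665 := d6_1 D215604 (iv5 D195665) F364255
theorem F480729 : act 7 n215604 = n212470 := d13_2 (iv7 F342079) D215604 (iv5 D212470)
theorem F480730 : act 0 n215604 = n203434 := d17_2 (iv1 F342084) D215604 (iv5 D203434) F334759 F130074 D125405 F336016 F272133 (iv4 F342083)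
theorem F480731 : act 1 n215604 = n201254 := d17_6 D69149 (iv5 F351027) (iv1 D125961) (iv5 F175177) (iv4 F342087) D215604 (iv5 D201254) F355803 F310813
def n215605 : Q := act 4 n175933
theorem D215605 : act 4 n175933 = n215605 := rfl
theorem F480732 : act 7 n215605 = n189367 := d11_2 F373946 D215605 F376481
theorem F480733 : act 1 n215605 = n189313 := d18_6 F353834 (iv4 F334786) (iv1 D83958) (iv4 F128942) D175933 D215605 F376394 (iv0 F363542) (iv5 F363541)
def n215606 : Q := act 6 n175936
theorem D215606 : act 6 n175936 = n215606 := rfl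
theorem F480734 : act 2 n215606 = n195237 := d3_1 D215606 F396407 F334780
theorem F480735 : act 3 n215606 = n201654 := d7_1 D215606 F421247 (iv3 F353844)
theorem F480736 : act 4 n215606 = n175938 := d10_1 D215606 (iv6 D175938) D175936
theorem F480737 : act 5 n215606 = n197049 := d12_1 D215606 F402826 (iv5 D189484) D189485 F376664
theorem F480738 : act 7 n215606 = n195235 := d14_2 F334785 D215606 (iv6 D195235) F161842 D114980
theorem F480739 : act 0 n215606 = n189698 := d21_4 (iv5 F421435) F421437 F376664 D215606 F377441 F371663 (iv1 F371659) F178530 (iv6 F161734) (iv1 F238144)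
theorem F480740 : act 0 n189700 = n215606 := d21_4 (iv5 F430375) F430377 (iv5 D201573) (iv6 F377454) (iv6 D215606) (iv5 F376664) (iv1 F421440) F421442 (iv6 F421027) F421026
def n215607 : Q := act 4 n175969
theorem D215607 : act 4 n175969 = n215607 := rfl
theorem F480741 : act 2 n215607 = n179594 := d1_1 D215607 F279694 (iv2 F327864)
theorem F480742 : act 3 n215607 = n206534 := d5_1 D215607 (iv4 D206534) F364904 (iv4 D175993) (iv3 F275307)
theorem F480743 : act 5 n215607 = n209576 := d9_2 D175969 D215607 F468206 (iv5 D212934) (iv4 F361351) F361352 (iv4 F132306) (iv5 F300824) (iv4 F275400) (iv5 F454160) F454159 F384379 F342643 F272380 F323228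
theorem F480744 : act 7 n215607 = n214681 := d11_2 (iv7 F327865) D215607 (iv4 D214681)
theorem F480745 : act 0 n215607 = n209364 := d17_0 (iv5 F453946) F453947 (iv5 D136630) (iv4 F314595) D86826 D181802 F344809 (iv0 F327862) D215607
theorem F480746 : act 1 n215607 = n209362 := d18_6 D167568 F342692 (iv1 F263823) F323228 D175969 D215607 (iv4 D209362) (iv0 D136346) F325430
def n215608 : Q := act 4 n176048
theorem D215608 : act 4 n176048 = n215608 := rfl
theorem F480747 : act 3 n215608 = n178878 := d5_1 D215608 (iv4 D178878) (iv3 F318271) F379773 (iv3 F379772)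
theorem F480748 : act 6 n215608 = n186321 := d10_2 F369361 D215608 F369376
theorem F480749 : act 7 n215608 = n201415 := d11_2 (iv7 F365894) D215608 (iv4 D201415)
theorem F480750 : act 0 n215608 = n215304 := d17_0 F479304 F413200 F413198 (iv4 D189699) D189700 F377453 (iv5 F171486) F360150 D215608
def n215609 : Q := act 4 n176083
theorem D215609 : act 4 n176083 = n215609 := rfl
theorem F480751 : act 2 n215609 = n212631 := d1_1 D215609 F466787 F430374
theorem F480752 : act 6 n215609 = n203075 := d10_2 F370422 D215609 F426887
theorem F480753 : act 7 n215609 = n208535 := d11_2 F475473 D215609 (iv4 F475471)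
theorem F480754 : act 5 n215609 = n204481 := d17_5 D189294 F376347 (iv1 D176082) D176083 D215609 (iv0 D204481) (iv5 D123869) D123866 (iv4 F352389)
theorem F480755 : act 0 n215609 = n203119 := d17_0 F432691 (iv1 F432692) F387719 (iv4 D114837) (iv5 D52987) D52986 D114833 (iv0 F371492) D215609
theorem F480756 : act 1 n215609 = n186901 := d18_6 F335478 (iv4 D176091) (iv1 D84004) (iv4 F128967) D176083 D215609 F419518 F419516 (iv5 F259022)
theorem F480757 : act 3 n203077 = n215609 := d6_3 F480754 F453479 (iv5 F453477)
def n215610 : Q := act 4 n176087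
theorem D215610 : act 4 n176087 = n215610 := rfl
theorem F480758 : act 5 n215610 = n204483 := d16_1 D215610 (iv4 D204483) (iv5 D123869) (iv4 F347685) F352378 (iv4 D176091) D176092 F420981 (iv2 F420979)
theorem F480759 : act 0 n215610 = n209938 := d18_2 F420967 D215610 F455443 (iv5 F352360) (iv4 F352364) F352376 D164301 (iv0 F258930) D201571
def n215611 : Q := act 4 n176092
theorem D215611 : act 4 n176092 = n215611 := rfl
theorem F480760 : act 3 n215611 = n211907 := d5_1 D215611 (iv4 D211907) (iv3 D144379) (iv4 F322415) (iv3 F347632)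
theorem F480761 : act 6 n215611 = n177672 := d10_2 (iv6 F347633) D215611 F277108
theorem F480762 : act 1 n215611 = n209938 := d18_6 (iv1 F361690) (iv4 F357767) F335478 (iv4 D176091) D176092 D215611 F455443 D209939 F455446
def n215612 : Q := act 3 n176111
theorem D215612 : act 3 n176111 = n215612 := rfl
theorem F480763 : act 2 n215612 = n197099 := d0_1 D215612 (iv3 D197099) (iv2 F209093) (iv3 F432148) (iv2 F432151)
theorem F480764 : act 5 n215612 = n207993 := d6_2 (iv5 F346540) D215612 (iv3 F447328)
theorem F480765 : act 6 n215612 = n205903 := d7_2 F346538 D215612 F438348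
theorem F480766 : act 0 n215612 = n213746 := d20_4 D213492 (iv1 F473880) F473877 D215612 F471896 (iv4 D193725) F378402 (iv4 F158448) (iv3 F392792) (iv1 F392793)
def n215613 : Q := act 5 n176112
theorem D215613 : act 5 n176112 = n215613 := rfl
theorem F480767 : act 4 n215613 = n201671 := d9_1 D215613 F421325 F374727 (iv5 D101479) D101478 (iv5 F345589) (iv4 F241569) (iv5 F459912) (iv4 F459913) F451796 (iv4 F374733) (iv5 D101474) (iv4 F184748) D84010 D176112
theorem F480768 : act 6 n215613 = n201670 := d12_2 (iv6 F364933) D215613 F475714 (iv6 F476913) (iv5 D214799)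
def n215614 : Q := act 4 n176117
theorem D215614 : act 4 n176117 = n215614 := rfl
theorem F480769 : act 3 n215614 = n192827 := d5_1 D215614 (iv4 D192827) F154844 (iv4 F328302) D176117
theorem F480770 : act 1 n215614 = n213892 := d18_6 F353871 (iv4 F239223) F353870 (iv4 F302492) (iv5 F275367) D215614 F472610 (iv0 D203656) F359169
def n215615 : Q := act 6 n176117
theorem D215615 : act 6 n176117 = n215615 := rfl
theorem F480771 : act 3 n215615 = n176119 := d7_1 D215615 (iv6 D176119) D176117
theorem F480772 : act 5 n215615 = n214336 := d12_1 D215615 (iv6 D214336) (iv5 D158345) D158346 (iv5 F275367)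
theorem F480773 : act 7 n215615 = n177663 := d14_2 F476374 D215615 F362009 (iv7 F403183) (iv6 F476373)
theorem F480774 : act 0 n211928 = n215615 := d21_4 (iv5 D112720) D112717 (iv5 F227229) D211928 (iv6 D215615) F275367 (iv1 F474604) F474601 F409441 F409439
def n215616 : Q := act 6 n176122
theorem D215616 : act 6 n176122 = n215616 := rfl
theorem F480775 : act 2 n215616 = n193854 := d3_1 D215616 (iv6 D193854) (iv2 F363852)
theorem F480776 : act 3 n215616 = n176124 := d7_1 D215616 (iv6 D176124) D176122
theorem F480777 : act 4 n215616 = n214798 := d10_1 D215616 F476906 F470315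
def n215617 : Q := act 5 n176124
theorem D215617 : act 5 n176124 = n215617 := rfl
theorem F480778 : act 6 n215617 = n191722 := d12_2 D176124 D215617 (iv5 D191722) (iv6 F353208) (iv5 D176123)
def n215618 : Q := act 7 n176124
theorem D215618 : act 7 n176124 = n215618 := rfl
theorem F480779 : act 4 n215618 = n176128 := d11_1 D215618 (iv7 D176128) (iv4 F275380)
theorem F480780 : act 6 n215618 = n215607 := d14_1 D215618 F480744 F476370 F302343 D176124
theorem F480781 : act 0 n209937 = n215618 := d18_2 (iv1 F354150) (iv4 F455438) F480779 F353795 (iv4 F429483) F429487 (iv4 F479556) (iv0 D215359) F303577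
def n215619 : Q := act 0 n176162
theorem D215619 : act 0 n176162 = n215619 := rfl
theorem F480782 : act 4 n215619 = n203561 := d18_3 F347434 D176162 D215619 (iv5 D203561) F188538 F156285 (iv4 F184748) (iv0 F331861) D173352
theorem F480783 : act 1 n206062 = n215619 := d15_0 (iv0 D215619) F411277 (iv2 F439068)
theorem F480784 : act 7 n215619 = n215421 := d15_2 F439071 F480783 F479911
theorem F480785 : act 3 n195911 = n215619 := d20_5 F449975 (iv1 F459979) (iv4 D211067) (iv3 F424795) F424799 F480782 F428886 F389515 (iv3 F398756) F449976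
def n215620 : Q := act 5 n176162
theorem D215620 : act 5 n176162 = n215620 := rfl
theorem F480786 : act 2 n215620 = n213425 := d2_1 D215620 F470327 F462062
theorem F480787 : act 6 n215620 = n197553 := d12_2 F480432 D215620 F404798 D197632 (iv5 F480431)
theorem F480788 : act 7 n215620 = n214462 := d13_2 (iv7 F411277) D215620 F475278
theorem F480789 : act 4 n215620 = n192790 := d16_2 D176162 D215620 F389538 (iv4 D193347) (iv5 F366668) F208950 (iv5 F323659) F347449 F344753
theorem F480790 : act 0 n215620 = n192745 := d17_2 F389518 D215620 (iv5 F393681) F393680 F451426 (iv0 F467664) F467662 (iv0 D193340) D193342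
def n215621 : Q := act 5 n176270
theorem D215621 : act 5 n176270 = n215621 := rfl
theorem F480791 : act 2 n215621 = n214476 := d2_1 D215621 F475351 (iv2 F275560)
theorem F480792 : act 3 n215621 = n207271 := d6_1 D215621 F444076 (iv3 F347616)
theorem F480793 : act 6 n215621 = n188579 := d12_2 D176270 D215621 F374059 (iv6 D132865) (iv5 F317559)
theorem F480794 : act 7 n215621 = n201197 := d13_2 F347627 D215621 F419410
theorem F480795 : act 0 n215621 = n201225 := d17_2 (iv1 F347630) D215621 (iv5 D201225) F353811 F353789 (iv0 D176094) (iv5 D84005) D84004 D176091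
theorem F480796 : act 1 n215621 = n201224 := d17_6 (iv1 F352367) (iv5 F352361) F352368 F304136 (iv4 F275561) D215621 (iv5 D201224) (iv0 D114142) D114144
def n215622 : Q := act 3 n176271
theorem D215622 : act 3 n176271 = n215622 := rfl
theorem F480797 : act 2 n215622 = n206310 := d0_1 D215622 F440184 (iv2 F337675) F332126 F361688
theorem F480798 : act 4 n215622 = n187193 := d5_2 F420989 D215622 F421009 (iv4 D201580) (iv3 F420987)
theorem F480799 : act 5 n215622 = n202399 := d6_2 F455446 D215622 F455450
theorem F480800 : act 7 n215622 = n206311 := d8_2 F361689 D215622 F440187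
theorem F480801 : act 0 n176474 = n215622 := d20_4 (iv4 F184086) (iv1 F426619) (iv4 F415446) F415445 (iv3 D215622) (iv4 F420989) F420990 F275062 (iv3 F354820) (iv1 D147378)
theorem F480802 : act 6 n215622 = n187192 := d21_5 F362092 (iv1 F128032) D84148 D176474 F480801 F369430 (iv1 F159128) (iv5 F353921) F339653 (iv1 F362089)
def n215623 : Q := act 6 n176271
theorem D215623 : act 6 n176271 = n215623 := rfl
theorem F480803 : act 2 n215623 = n212514 := d3_1 D215623 F466190 F361688
theorem F480804 : act 3 n215623 = n187192 := d7_1 D215623 (iv6 F480802) (iv3 D215622)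
theorem F480805 : act 4 n215623 = n188890 := d10_1 D215623 F420992 F420989
theorem F480806 : act 5 n215623 = n190693 := d12_1 D215623 (iv6 F415406) (iv5 F423862) F455449 F455446
theorem F480807 : act 7 n215623 = n212485 := d14_2 F361689 D215623 (iv6 D212485) (iv7 F230993) D147551
theorem F480808 : act 0 n215623 = n212513 := d21_4 (iv5 F454415) (iv1 F455444) F455446 D215623 (iv6 F470651) F470648 F398601 F398599 F366623 F352373
theorem F480809 : act 0 n189025 = n215623 := d21_4 F327763 D88488 (iv5 F143478) (iv6 F375460) (iv6 D215623) (iv5 F455446) (iv1 D209939) (iv5 F352360) F352363 (iv1 D84098)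
def n215624 : Q := act 5 n176363
theorem D215624 : act 5 n176363 = n215624 := rfl
theorem F480810 : act 2 n215624 = n215603 := d2_1 D215624 (iv5 D215603) (iv2 F275658)
theorem F480811 : act 3 n215624 = n201243 := d6_1 D215624 (iv5 D201243) F346737
theorem F480812 : act 6 n215624 = n207265 := d12_2 D176363 D215624 (iv5 D207265) (iv6 D130680) F316621
theorem F480813 : act 7 n215624 = n214452 := d13_2 (iv7 F358940) D215624 (iv5 D214452)
theorem F480814 : act 0 n215624 = n178375 := d17_2 F346736 D215624 (iv5 D178375) (iv4 D84869) (iv5 D39264) D39262 D84862 (iv0 F334688) F178895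
theorem F480815 : act 1 n215624 = n201299 := d17_6 F480809 F480806 F380625 F358884 (iv4 F275659) D215624 F419916 (iv0 D189024) D189025
def n215625 : Q := act 7 n176474
theorem D215625 : act 7 n176474 = n215625 := rfl
theorem F480816 : act 4 n215625 = n213549 := d11_1 D215625 (iv7 D213549) F339649
theorem F480817 : act 1 n206311 = n215625 := d15_1 (iv0 F479547) (iv7 D215625) (iv2 F479543)
theorem F480818 : act 1 n215625 = n206310 := d15_1 F480817 (iv7 F463504) F463502
def n215626 : Q := act 3 n176502
theorem D215626 : act 3 n176502 = n215626 := rfl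
theorem F480819 : act 2 n215626 = n203478 := d0_1 D215626 F428467 F325399 (iv3 F325401) F275816
theorem F480820 : act 4 n215626 = n204307 := d5_2 (iv4 F354043) D215626 F459525 F459522 F365985
theorem F480821 : act 5 n215626 = n191367 := d6_2 (iv5 F275818) D215626 F383225
theorem F480822 : act 7 n215626 = n204305 := d8_2 F275817 D215626 F431971
theorem F480823 : act 0 n215626 = n212840 := d20_4 F176506 D113311 (iv4 F354043) D215626 (iv3 D212840) (iv4 F364236) (iv1 F439959) (iv4 D206258) (iv3 F354040) (iv1 F354042)
theorem F480824 : act 0 n215054 = n215626 := d20_4 D172563 (iv1 F478110) (iv4 D215055) D215054 (iv3 D215626) F354043 (iv1 F417314) F417312 F348178 (iv1 D172562)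
theorem F480825 : act 6 n215319 = n215626 := d21_5 (iv5 D100475) (iv1 F205696) (iv5 F128291) D174065 (iv1 F479375) F480821 F383227 F353952 F387310 (iv1 D192638)
def n215627 : Q := act 6 n176502
theorem D215627 : act 6 n176502 = n215627 := rfl
theorem F480826 : act 2 n215627 = n214332 := d3_1 D215627 (iv6 D214332) F275816
theorem F480827 : act 3 n215627 = n215319 := d7_1 D215627 F480825 (iv3 D215626)
theorem F480828 : act 4 n215627 = n177016 := d10_1 D215627 (iv6 F365984) (iv4 F354043)
theorem F480829 : act 5 n215627 = n194318 := d12_1 D215627 (iv6 D194318) (iv5 F392809) F392810 (iv5 F275818)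
theorem F480830 : act 7 n215627 = n194390 := d14_2 F275817 D215627 (iv6 F435388) F435385 (iv6 F416820)
theorem F480831 : act 0 n215627 = n204838 := d21_4 F249453 (iv1 F249434) (iv5 F275818) D215627 F433776 (iv5 D128235) (iv1 F310564) D204230 F431574 F346960
theorem F480832 : act 0 n206636 = n215627 := d21_4 (iv5 D131467) D131464 F210731 D206636 (iv6 D215627) F275818 (iv1 D158315) F324622 D180257 (iv1 F355017)
def n215628 : Q := act 2 n176530
theorem D215628 : act 2 n176530 = n215628 := rfl
theorem F480833 : act 3 n215628 = n189837 := d0_2 D176530 D215628 F392623 F392625 F303744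
theorem F480834 : act 4 n215628 = n200702 := d1_2 F418764 D215628 (iv2 F418762)
theorem F480835 : act 5 n215628 = n189837 := d2_2 F392617 D215628 F392623
theorem F480836 : act 6 n215628 = n197825 := d3_2 (iv6 F356084) D215628 (iv2 F405924)
theorem F480837 : act 7 n215628 = n200585 := d4_2 F452144 D215628 (iv2 F452141)
theorem F480838 : act 1 n215628 = n180022 := d15_0 (iv0 F452145) F452144 D215628
theorem F480839 : act 1 n194864 = n215628 := d15_0 F480838 F280404 (iv2 F394792)
def n215629 : Q := act 4 n176551
theorem D215629 : act 4 n176551 = n215629 := rfl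
theorem F480840 : act 2 n215629 = n215314 := d1_1 D215629 F479346 F369809
theorem F480841 : act 3 n215629 = n213778 := d5_1 D215629 F472054 F390346 F328325 (iv3 F275887)
theorem F480842 : act 5 n215629 = n180259 := d9_2 D176551 D215629 F280583 F344927 (iv4 D180290) (iv5 D86116) (iv4 F129301) (iv5 F335313) (iv4 F380931) (iv5 F380932) (iv4 F395049) F395048 F232126 F105831 (iv4 F129211)
theorem F480843 : act 7 n215629 = n176696 := d11_2 (iv7 F275888) D215629 (iv4 D176696)
theorem F480844 : act 0 n215629 = n214550 := d17_0 F475745 (iv1 F377939) F348563 F158269 D103020 (iv0 F350167) F159120 F350176 D215629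
def n215630 : Q := act 5 n176590
theorem D215630 : act 5 n176590 = n215630 := rfl
theorem F480845 : act 2 n215630 = n187003 := d2_1 D215630 F368800 F357914
theorem F480846 : act 3 n215630 = n193667 := d6_1 D215630 (iv5 D193667) (iv3 F357916)
theorem F480847 : act 6 n215630 = n186748 := d12_2 D176590 D215630 (iv5 D186748) (iv6 F335748) F275416
theorem F480848 : act 7 n215630 = n209146 := d13_2 F357917 D215630 (iv5 D209146)
theorem F480849 : act 1 n215630 = n210053 := d17_6 F365672 (iv5 F479565) (iv1 D215360) F303577 (iv4 F275953) D215630 (iv5 D210053) F409613 F357886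
def n215631 : Q := act 4 n176592
theorem D215631 : act 4 n176592 = n215631 := rfl
theorem F480850 : act 2 n215631 = n215408 := d1_1 D215631 (iv4 D215408) (iv2 F354157)
theorem F480851 : act 3 n215631 = n209700 := d5_1 D215631 (iv4 F459563) (iv3 F459567) (iv4 D203513) F354158
theorem F480852 : act 7 n215631 = n201044 := d11_2 (iv7 F354151) D215631 F418858
theorem F480853 : act 0 n215631 = n209694 := d18_2 (iv1 F354143) D215631 F454658 (iv5 F315040) F353802 (iv0 F388025) (iv4 F479564) F479562 (iv5 D206322)
theorem F480854 : act 1 n215631 = n215618 := d18_6 (iv1 D82961) (iv4 F74194) D100727 (iv4 F187924) F354159 D215631 F480779 F353793 F337532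
def n215632 : Q := act 6 n176622
theorem D215632 : act 6 n176622 = n215632 := rfl
theorem F480855 : act 2 n215632 = n194318 := d3_1 D215632 (iv6 D194318) F346781
theorem F480856 : act 3 n215632 = n198839 := d7_1 D215632 (iv6 F428605) (iv3 F428609)
theorem F480857 : act 4 n215632 = n194246 := d10_1 D215632 (iv6 D194246) F346782
theorem F480858 : act 5 n215632 = n214332 := d12_1 D215632 (iv6 D214332) (iv5 D158325) D158326 (iv5 F346784)
theorem F480859 : act 7 n215632 = n189178 := d14_2 (iv7 F346769) D215632 (iv6 D189178) (iv7 F293011) (iv6 F158278)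
theorem F480860 : act 0 n180627 = n215632 := d21_4 F347145 (iv1 F175533) (iv5 F344730) (iv6 F344733) (iv6 D215632) F346784 F346785 (iv5 F339823) D193587 F390367
theorem F480861 : act 1 n193503 = n215632 := d15_0 (iv0 F480860) (iv7 F463511) F463507
def n215633 : Q := act 4 n176630
theorem D215633 : act 4 n176630 = n215633 := rfl
theorem F480862 : act 2 n215633 = n209362 := d1_1 D215633 (iv4 D209362) F354223
theorem F480863 : act 7 n215633 = n209364 := d11_2 (iv7 F354224) D215633 (iv4 D209364)
theorem F480864 : act 0 n215633 = n179594 := d17_0 F366635 F367948 F367947 F219764 (iv5 F344860) F323224 (iv5 F324293) F354219 D215633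
theorem F480865 : act 1 n215633 = n214681 := d18_6 (iv1 F282973) (iv4 F355099) (iv1 F465921) F465923 F434584 D215633 (iv4 D214681) (iv0 F342682) (iv5 F346441)
theorem F480866 : act 3 n215633 = n205080 := d19_3 F434589 F434584 D215633 (iv1 F448174) F448172 (iv4 F470333) F470332 (iv1 F404785) (iv5 D197550) (iv4 F172368) F172367 (iv1 F111902) (iv5 F337096) (iv4 D141492) (iv3 F334917) (iv1 F335052) F315568 (iv4 F230409) D147285
theorem F480867 : act 6 n201294 = n215633 := d7_0 F480866 F434901 F426486
def n215634 : Q := act 6 n176630
theorem D215634 : act 6 n176630 = n215634 := rfl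
theorem F480868 : act 2 n215634 = n209363 := d3_1 D215634 (iv6 D209363) F354223
theorem F480869 : act 3 n215634 = n198837 := d7_1 D215634 F434424 (iv3 F434427)
theorem F480870 : act 4 n215634 = n201294 := d10_1 D215634 F480867 (iv4 D215633)
theorem F480871 : act 5 n215634 = n199757 := d12_1 D215634 F413364 (iv5 F413367) (iv6 F434585) F434584
theorem F480872 : act 7 n215634 = n193464 := d14_2 (iv7 F354224) D215634 (iv6 D193464) (iv7 F337647) F337653
theorem F480873 : act 0 n215634 = n214947 := d21_4 F344828 F434589 F434584 D215634 F477587 F456983 (iv1 F353283) (iv5 F453621) (iv6 D209422) (iv1 F219544)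
theorem F480874 : act 0 n202398 = n215634 := d21_4 F304136 D176271 (iv5 F455446) (iv6 F455449) (iv6 D215634) (iv5 F434584) F434588 F217455 D136452 F352368
def n215635 : Q := act 4 n176631
theorem D215635 : act 4 n176631 = n215635 := rfl
theorem F480875 : act 2 n215635 = n209364 := d1_1 D215635 (iv4 D209364) F337655
theorem F480876 : act 3 n215635 = n213556 := d5_1 D215635 (iv4 D213556) F242370 D154284 F336350
theorem F480877 : act 6 n215635 = n193465 := d10_2 F337645 D215635 (iv4 D193465)
theorem F480878 : act 7 n215635 = n209362 := d11_2 F354221 D215635 (iv4 D209362)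
theorem F480879 : act 0 n215635 = n214681 := d18_2 (iv1 F354225) D215635 (iv4 D214681) (iv5 D160596) F115743 D83106 (iv4 F342669) F323224 (iv5 F324293)
theorem F480880 : act 1 n215635 = n179594 := d18_6 (iv1 D148874) (iv4 F230743) D212464 F465915 F451229 D215635 F279694 (iv0 F346454) F346456
def n215636 : Q := act 4 n176660
theorem D215636 : act 4 n176660 = n215636 := rfl
theorem F480881 : act 2 n215636 = n214983 := d1_1 D215636 F477753 F414771
theorem F480882 : act 3 n215636 = n189240 := d5_1 D215636 F376187 (iv3 F376130) (iv4 F378571) F378570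
theorem F480883 : act 6 n215636 = n191250 := d10_2 F365996 D215636 (iv4 D191250)
theorem F480884 : act 7 n215636 = n189238 := d11_2 F430187 D215636 (iv4 F430191)
theorem F480885 : act 0 n215636 = n214958 := d18_2 F430166 D215636 (iv4 D214958) (iv5 D164079) F119988 D78828 D164082 F298083 D203864
theorem F480886 : act 1 n215636 = n214986 := d18_6 (iv1 D199992) F174384 (iv1 F325272) (iv4 F129300) D176660 D215636 F477761 F477628 F477626
def n215637 : Q := act 4 n176676
theorem D215637 : act 4 n176676 = n215637 := rfl
theorem F480887 : act 2 n215637 = n214981 := d1_1 D215637 (iv4 D214981) (iv2 F276051)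
theorem F480888 : act 7 n215637 = n214978 := d11_2 (iv7 F276052) D215637 (iv4 D214978)
theorem F480889 : act 0 n215637 = n214316 := d18_2 (iv1 F276054) D215637 (iv4 D214316) (iv5 D158098) F112905 (iv0 F296280) D121151 F297274 (iv5 F258641)
theorem F480890 : act 1 n215637 = n203876 := d18_6 (iv1 F362599) (iv4 F174734) (iv1 F358808) F358810 D176676 D215637 (iv4 D203876) D203875 F430188
def n215638 : Q := act 4 n176677
theorem D215638 : act 4 n176677 = n215638 := rfl
theorem F480891 : act 2 n215638 = n190396 := d1_1 D215638 (iv4 D190396) (iv2 F360313)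
theorem F480892 : act 3 n215638 = n195064 := d5_1 D215638 F395624 F165568 D139666 (iv3 F360314)
theorem F480893 : act 6 n215638 = n176847 := d10_2 (iv6 F360316) D215638 (iv4 D176847)
theorem F480894 : act 5 n215638 = n200958 := d16_7 (iv4 F442829) (iv5 D206980) F371078 (iv5 F373834) F373833 (iv5 F360315) D215638 (iv7 F439193) F439192
theorem F480895 : act 0 n215638 = n194793 := d18_2 D176677 D215638 (iv4 D194793) (iv5 D104582) F76026 F139165 (iv4 F159104) F159107 (iv5 F331196)
theorem F480896 : act 1 n215638 = n194796 := d18_6 (iv1 F369996) (iv4 F369993) F373837 F373833 (iv5 F360315) D215638 (iv4 D194796) F394490 F394488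
def n215639 : Q := act 4 n176679
theorem D215639 : act 4 n176679 = n215639 := rfl
theorem F480897 : act 2 n215639 = n176680 := d1_1 D215639 (iv4 D176680) D176679
theorem F480898 : act 3 n215639 = n214922 := d5_1 D215639 (iv4 F479007) F479006 (iv4 D194484) (iv3 F360319)
theorem F480899 : act 6 n215639 = n200210 := d10_2 F476964 D215639 (iv4 F476962)
theorem F480900 : act 7 n215639 = n194499 := d11_2 F360318 D215639 (iv4 D194499)
theorem F480901 : act 5 n215639 = n205569 := d16_7 F477440 (iv5 D205679) F363814 (iv5 D185868) (iv4 F159055) (iv5 F360320) D215639 (iv7 F441328) (iv2 F477436)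
theorem F480902 : act 0 n215639 = n208105 := d17_0 (iv5 D208105) D208102 (iv5 F447876) (iv4 F353190) F353191 (iv0 D96004) D96006 F360321 D215639
theorem F480903 : act 1 n215639 = n214919 := d18_6 (iv1 F76027) F70615 (iv1 F135563) (iv4 F159055) (iv5 F360320) D215639 F477433 (iv0 D194792) (iv5 D104582)
def n215640 : Q := act 0 n176696
theorem D215640 : act 0 n176696 = n215640 := rfl
theorem F480904 : act 5 n215640 = n198449 := d17_1 D215640 (iv1 F408052) (iv5 D194927) (iv4 D104770) D104771 (iv0 F343028) (iv5 F343024) (iv0 D176694) D176696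
theorem F480905 : act 1 n215314 = n215640 := d15_0 (iv0 D215640) (iv7 F480843) F480840
theorem F480906 : act 3 n187199 = n215640 := d19_19 (iv1 F480905) (iv5 D215314) F347483 (iv3 F335285) (iv1 F453637) F453635 (iv4 F340796) (iv3 F286165) F448450 F448447 F340128 F275639 F328230 F138825 (iv4 D43370) (iv3 F40313) D52519 D113746 F369459
theorem F480907 : act 6 n191228 = n215640 := d21_3 D194232 F393032 F393030 (iv1 F480905) F479347 (iv5 D203489) F366190 D144290 (iv6 F372155) F372157
theorem F480908 : act 7 n215640 = n214550 := d14_2 (iv7 F382659) F480907 (iv6 D214550) F251846 D190042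
def n215641 : Q := act 1 n176696
theorem D215641 : act 1 n176696 = n215641 := rfl
theorem F480909 : act 1 n215641 = n215314 := d15_1 D215641 F479348 F380929
theorem F480910 : act 5 n215641 = n190605 := d17_7 (iv1 F392637) F392635 F348555 (iv5 F348551) (iv4 F348561) (iv5 F348560) D215641 (iv0 F395038) F395036
theorem F480911 : act 4 n215641 = n214550 := d17_9 (iv1 F475747) (iv5 F380932) (iv1 D180260) (iv5 F348569) F148015 F347485 D172390 (iv5 F348560) D215641
theorem F480912 : act 3 n187365 = n215641 := d19_19 (iv1 D215641) F348560 F348561 F281449 (iv1 F328764) F321013 (iv4 F151416) (iv3 F320002) F319999 D204084 F431022 (iv3 D186003) F293255 F140125 F139213 (iv3 F139171) F204787 F204785 F369993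
theorem F480913 : act 2 n215641 = n214550 := d0_1 F480912 F475744 F251850 (iv3 F149569) F369995
theorem F480914 : act 6 n215641 = n188535 := d7_2 (iv6 F369994) F480912 (iv3 D188535)
def n215642 : Q := act 0 n176702
theorem D215642 : act 0 n176702 = n215642 := rfl
theorem F480915 : act 5 n215642 = n192083 := d17_3 D192075 F385442 D215642 (iv4 F386259) (iv5 F403892) D211948 F463695 (iv0 F385894) (iv4 D192077)
theorem F480916 : act 4 n215642 = n187367 := d18_1 D215642 (iv1 F370007) (iv4 F391407) (iv5 D193924) D193923 (iv0 F464839) F464836 (iv0 F394611) F385442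
theorem F480917 : act 3 n215642 = n210110 := d20_5 F275378 (iv1 D84244) D84245 D176702 D215642 F456210 F391790 (iv4 D194017) F331225 (iv1 F275379)
theorem F480918 : act 6 n215642 = n211863 := d21_5 D187601 (iv1 F379868) (iv5 D186772) F335331 D215642 F463311 (iv1 F386052) (iv5 D192217) (iv6 F370982) (iv1 D187600)
theorem F480919 : act 1 n210715 = n215642 := d15_0 (iv0 D215642) (iv7 F390347) (iv2 F458546)
theorem F480920 : act 2 n191887 = n215642 := d3_3 F480918 F463310 (iv6 F384669)
theorem F480921 : act 7 n190985 = n215642 := d14_0 F480918 F463312 (iv6 F381745) F381746 D190985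
def n215643 : Q := act 1 n176702
theorem D215643 : act 1 n176702 = n215643 := rfl
theorem F480922 : act 7 n215643 = n191887 := d15_2 (iv0 D215642) D215643 F480920
theorem F480923 : act 4 n215643 = n187368 := d17_9 (iv1 D187368) F138103 (iv1 F160315) (iv5 D104619) D104618 D194821 (iv0 F394611) F385442 D215643
theorem F480924 : act 5 n215643 = n192056 := d18_9 F385371 D192827 F387920 (iv4 F385837) (iv5 F391436) F391432 (iv0 F382774) F378820 D215643
theorem F480925 : act 3 n185982 = n215643 := d20_3 (iv4 F391280) F391282 F383531 (iv1 D215643) (iv3 D176702) (iv4 D84245) D84243 (iv4 F275398) (iv3 F384672) F384675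
theorem F480926 : act 2 n215643 = n190985 := d0_1 F480925 F381802 F384680 (iv3 D191889) F289319
theorem F480927 : act 6 n215643 = n185980 := d7_2 D185982 F480925 (iv3 D185980)
theorem F480928 : act 0 n210715 = n215643 := d20_4 (iv4 F137186) F343263 F356399 (iv3 F458547) (iv3 F480925) (iv4 F383531) (iv1 F383533) F356215 F356213 F335667
def n215644 : Q := act 2 n176702
theorem D215644 : act 2 n176702 = n215644 := rfl
theorem F480929 : act 3 n215644 = n187050 := d0_2 D176702 D215644 (iv2 F368923) (iv3 F356192) F335327
theorem F480930 : act 4 n215644 = n190814 := d1_2 F378820 D215644 F381212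
theorem F480931 : act 5 n215644 = n211565 := d2_2 F385442 D215644 F462168
theorem F480932 : act 6 n215644 = n186440 := d3_2 F335331 D215644 F289240
theorem F480933 : act 7 n215644 = n210715 := d4_2 F390347 D215644 F458546
theorem F480934 : act 1 n215644 = n190985 := d15_0 (iv0 F391416) F390347 D215644
theorem F480935 : act 1 n191887 = n215644 := d15_0 F480934 F480921 (iv2 F480920)
def n215645 : Q := act 3 n176707
theorem D215645 : act 3 n176707 = n215645 := rfl
theorem F480936 : act 7 n215645 = n214871 := d8_2 (iv7 F358412) D215645 (iv3 D214871)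
theorem F480937 : act 4 n215645 = n189804 := d20_6 F67478 (iv1 F296003) D38854 D84248 D176707 D215645 (iv1 D189804) F146893 (iv3 D78459) F296124
theorem F480938 : act 0 n215645 = n214861 := d20_10 F477181 F439095 F395361 (iv3 F281152) (iv1 D163325) (iv3 F340622) F340623 D214964 F477663 D215645
theorem F480939 : act 0 n190607 = n215645 := d20_4 F141775 D92200 D188500 (iv3 F380276) (iv3 D215645) (iv4 F477663) (iv1 F477666) (iv4 F392640) F392639 (iv1 D188483)
def n215646 : Q := act 3 n176708
theorem D215646 : act 3 n176708 = n215646 := rfl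
theorem F480940 : act 6 n215646 = n176729 := d7_2 (iv6 F354479) D215646 (iv3 D176729)
theorem F480941 : act 7 n215646 = n214873 := d8_2 F358413 D215646 (iv3 D214873)
theorem F480942 : act 0 n215646 = n194916 := d20_10 F394988 (iv1 F280711) (iv4 F476396) F476395 (iv1 F373646) (iv3 F392639) F392640 F477645 F477643 D215646
theorem F480943 : act 0 n203865 = n215646 := d20_4 (iv4 F325699) F325696 F281149 D203865 (iv3 D215646) (iv4 F477643) (iv1 F477644) (iv4 F340623) F340622 D163324
theorem F480944 : act 2 n214875 = n215646 := d15_3 (iv0 F480943) (iv0 F479789) (iv7 F479788)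
def n215647 : Q := act 4 n176716
theorem D215647 : act 4 n176716 = n215647 := rfl
theorem F480945 : act 2 n215647 = n214316 := d1_1 D215647 (iv4 D214316) (iv2 F276087)
theorem F480946 : act 7 n215647 = n203876 := d11_2 F366959 D215647 (iv4 D203876)
theorem F480947 : act 0 n215647 = n214978 := d18_2 F276088 D215647 (iv4 D214978) (iv5 F300520) F256893 (iv0 F323965) (iv4 F174583) F325237 D176660
theorem F480948 : act 1 n215647 = n214981 := d18_6 (iv1 F298084) F298086 F296610 (iv4 F129323) D176716 D215647 (iv4 D214981) (iv0 F476411) (iv5 D214690)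
def n215648 : Q := act 0 n176721
theorem D215648 : act 0 n176721 = n215648 := rfl
theorem F480949 : act 4 n215648 = n188504 := d20_2 (iv4 F276101) D215648 F373751 (iv1 D133664) (iv3 F215052) F333567 F327734 D214322 F474573 (iv1 D186249)
theorem F480950 : act 6 n215648 = n211960 := d21_5 (iv5 D38864) (iv1 F59878) D84254 D176721 D215648 (iv5 D211960) (iv1 F357564) (iv5 F357468) (iv6 D158045) F112881
theorem F480951 : act 1 n212995 = n215648 := d15_0 (iv0 D215648) (iv7 F416118) (iv2 F468507)
theorem F480952 : act 2 n188520 = n215648 := d3_3 F480950 F463748 F377161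
theorem F480953 : act 7 n188525 = n215648 := d15_2 (iv0 F377163) (iv0 F373811) (iv2 F480952)
def n215649 : Q := act 1 n176721
theorem D215649 : act 1 n176721 = n215649 := rfl
theorem F480954 : act 1 n215649 = n212995 := d15_1 D215649 F468510 (iv2 F276100)
theorem F480955 : act 7 n215649 = n188520 := d15_2 (iv0 D215648) D215649 F480952
theorem F480956 : act 4 n215649 = n188505 := d18_7 (iv1 F376247) (iv4 F376793) F376899 F376548 (iv5 D186250) (iv4 F276101) D215649 F373752 F294563
theorem F480957 : act 3 n211966 = n215649 := d20_3 (iv4 D208039) (iv1 F422086) (iv4 F463766) (iv1 D215649) (iv3 F452364) (iv4 D209123) F364718 (iv4 F461828) F461827 (iv1 F447565)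
theorem F480958 : act 5 n215144 = n215649 := d21_6 (iv5 D80008) (iv1 D36442) D36444 D80014 D166713 D215144 (iv1 D215649) (iv5 F366960) (iv6 D163240) (iv1 F122817)
theorem F480959 : act 0 n215144 = n207227 := d21_1 (iv5 F480958) (iv5 D207227) (iv6 D130626) D130623 (iv6 F349638) D196130 (iv1 F468506) (iv5 D212994) D212995 (iv1 F480954)
theorem F480960 : act 0 n190137 = n215143 := d21_7 (iv5 D207227) F382684 F382683 F381418 F147377 D187296 (iv5 F378954) (iv5 D215143) D215144 F480959
theorem F480961 : act 2 n188525 = n215649 := d1_3 F480956 F373809 D188525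
def n215650 : Q := act 3 n176725
theorem D215650 : act 3 n176725 = n215650 := rfl
theorem F480962 : act 2 n215650 = n214719 := d0_1 D215650 (iv3 D214719) (iv2 F370044) F370042 (iv2 F370040)
theorem F480963 : act 4 n215650 = n206524 := d5_2 D176725 D215650 F441191 (iv4 F276104) (iv3 D176724)
theorem F480964 : act 6 n215650 = n206523 := d7_2 F395343 D215650 F441190
theorem F480965 : act 0 n194276 = n215650 := d20_4 (iv4 F169235) D112606 F175194 (iv3 F392615) (iv3 D215650) (iv4 D176725) (iv1 F327731) F173515 F169221 D109260
def n215651 : Q := act 5 n176725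
theorem D215651 : act 5 n176725 = n215651 := rfl
theorem F480966 : act 2 n215651 = n203692 := d2_1 D215651 F429431 (iv2 F370040)
theorem F480967 : act 4 n215651 = n203689 := d9_1 D215651 (iv5 D203689) (iv4 F262172) (iv5 F382592) F382591 (iv5 D176731) D176730 (iv5 F394376) F394375 (iv5 D160418) (iv4 F119776) (iv5 F257753) (iv4 F276105) (iv5 D176726) D176725
theorem F480968 : act 1 n215651 = n190295 := d17_6 F358443 (iv5 F293604) F343693 (iv5 D176726) D176725 D215651 (iv5 F382078) F394871 F394868
theorem F480969 : act 0 n215651 = n215149 := d18_0 F478568 F433450 (iv4 F474441) F474442 D214872 F477223 F373618 F370054 D215651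
def n215652 : Q := act 2 n176729
theorem D215652 : act 2 n176729 = n215652 := rfl
theorem F480970 : act 3 n215652 = n214894 := d0_2 D176729 D215652 F477313 (iv3 D214354) F348779
theorem F480971 : act 6 n215652 = n214875 := d3_2 F480940 D215652 F480944
theorem F480972 : act 4 n204703 = n215652 := d10_3 F480971 (iv4 F477231) F474299
theorem F480973 : act 0 n215652 = n214317 := d20_1 F480972 F474540 F474414 (iv1 F474412) F400806 (iv4 F167996) F167994 (iv4 F164674) (iv3 F400146) F433319
def n215653 : Q := act 4 n176729
theorem D215653 : act 4 n176729 = n215653 := rfl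
theorem F480974 : act 2 n215653 = n204703 := d1_1 D215653 F480972 (iv2 D215652)
theorem F480975 : act 3 n215653 = n214718 := d5_1 D215653 (iv4 D214718) F276107 (iv4 D176730) D176729
theorem F480976 : act 0 n215653 = n199878 := d18_2 (iv1 F477506) D215653 F413933 (iv5 F380920) D194221 (iv0 F414467) F382760 D191254 (iv5 F477505)
theorem F480977 : act 0 n214954 = n215653 := d20_10 (iv4 D215653) F477501 (iv4 D214931) F400824 (iv1 D196491) (iv3 F400819) (iv4 F418278) (iv1 D200884) (iv4 F418201) (iv3 F477613)
def n215654 : Q := act 5 n176729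
theorem D215654 : act 5 n176729 = n215654 := rfl
theorem F480978 : act 3 n215654 = n176731 := d6_1 D215654 (iv5 D176731) D176729
theorem F480979 : act 7 n215654 = n214310 := d13_2 F474728 D215654 (iv5 F474726)
def n215655 : Q := act 6 n176731
theorem D215655 : act 6 n176731 = n215655 := rfl
theorem F480980 : act 2 n215655 = n211735 := d3_1 D215655 F462898 (iv2 F348782)
theorem F480981 : act 4 n215655 = n214766 := d10_1 D215655 F476729 F382591
theorem F480982 : act 5 n215655 = n190884 := d12_1 D215655 F478513 F478510 F354479 D176731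
def n215656 : Q := act 0 n176737
theorem D215656 : act 0 n176737 = n215656 := rfl
theorem F480983 : act 4 n215656 = n207594 := d18_1 D215656 F445611 F382196 F382195 F369872 F358130 F358139 (iv0 F378828) F378826
theorem F480984 : act 6 n215656 = n191232 := d21_5 (iv5 D176731) (iv1 D84257) D84259 D176737 D215656 (iv5 F430176) (iv1 F469184) F469182 F447258 (iv1 F348785)
theorem F480985 : act 1 n214906 = n215656 := d15_0 (iv0 D215656) (iv7 F445701) (iv2 F477371)
theorem F480986 : act 2 n207601 = n215656 := d3_3 F480984 (iv2 F382675) D207601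
def n215657 : Q := act 1 n176737
theorem D215657 : act 1 n176737 = n215657 := rfl
theorem F480987 : act 1 n215657 = n214906 := d15_1 D215657 (iv7 F478399) F478395
theorem F480988 : act 7 n215657 = n207601 := d15_2 (iv0 D215656) D215657 F480986
theorem F480989 : act 4 n215657 = n207602 := d17_9 (iv1 F445641) (iv5 D166642) (iv1 F262242) (iv5 F358960) F294906 (iv5 F358962) (iv0 F378828) F378826 D215657
def n215658 : Q := act 3 n176738
theorem D215658 : act 3 n176738 = n215658 := rfl
theorem F480990 : act 4 n215658 = n195758 := d5_2 (iv4 F369283) D215658 F398058 (iv4 F444744) F444743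
theorem F480991 : act 5 n215658 = n204728 := d6_2 F433391 D215658 F433406
theorem F480992 : act 7 n215658 = n214327 := d8_2 F369282 D215658 (iv3 D214327)
theorem F480993 : act 6 n196153 = n215658 := d14_5 F480992 F474588 F416133 (iv6 D196167) (iv7 F399636)
theorem F480994 : act 2 n215658 = n196159 := d15_3 (iv0 F474479) (iv0 F474589) (iv7 F480992)
def n215659 : Q := act 6 n176738
theorem D215659 : act 6 n176738 = n215659 := rfl
theorem F480995 : act 2 n215659 = n214326 := d3_1 D215659 (iv6 D214326) F369279
theorem F480996 : act 3 n215659 = n196153 := d7_1 D215659 F480993 (iv3 D215658)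
theorem F480997 : act 4 n215659 = n207406 := d10_1 D215659 (iv6 F444737) (iv4 F369283)
theorem F480998 : act 7 n215659 = n196165 := d14_2 F369282 D215659 (iv6 F399674) (iv7 F399532) F369284
theorem F480999 : act 5 n215659 = n215324 := d21_6 (iv5 D84254) (iv1 D38857) D38859 D84260 D176738 D215659 (iv1 D215324) (iv5 F293637) (iv6 D94341) F292546
theorem F481000 : act 0 n197050 = n215659 := d17_0 F480999 (iv1 D215324) (iv5 F293637) F145476 D94344 F258795 (iv5 F377384) F396411 D197050
def n215660 : Q := act 5 n176739
theorem D215660 : act 5 n176739 = n215660 := rfl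
theorem F481001 : act 2 n215660 = n214328 := d2_1 D215660 (iv5 D214328) (iv2 F369280)
theorem F481002 : act 4 n215660 = n214593 := d9_1 D215660 (iv5 D214593) (iv4 F320277) (iv5 D130810) (iv4 F209257) (iv5 F369268) (iv4 F369283) (iv5 F433391) (iv4 D204719) (iv5 D124258) (iv4 F122246) (iv5 F321980) (iv4 F325310) F369274 F369277
theorem F481003 : act 7 n215660 = n214325 := d13_2 (iv7 F369278) D215660 (iv5 D214325)
def n215661 : Q := act 6 n176762
theorem D215661 : act 6 n176762 = n215661 := rfl
theorem F481004 : act 2 n215661 = n207228 := d3_1 D215661 F443899 F377616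
theorem F481005 : act 3 n215661 = n189234 := d7_1 D215661 F377979 F377978
theorem F481006 : act 4 n215661 = n186438 := d10_1 D215661 (iv6 D186438) (iv4 F374375)
theorem F481007 : act 7 n215661 = n207225 := d14_2 (iv7 F368648) D215661 (iv6 D207225) (iv7 F329295) (iv6 F368646)
theorem F481008 : act 0 n215661 = n207226 := d21_10 F443892 (iv1 F477201) F477199 (iv6 D200355) F176057 D189649 (iv5 F377257) (iv1 F368655) F368652 D215661
theorem F481009 : act 0 n191234 = n215661 := d21_4 F375678 (iv1 D181884) (iv5 F292816) D191234 (iv6 D215661) (iv5 F368652) (iv1 F368654) D189917 F378238 (iv1 F375676)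
def n215662 : Q := act 0 n176821
theorem D215662 : act 0 n176821 = n215662 := rfl
theorem F481010 : act 4 n215662 = n198623 := d20_2 D176821 D215662 F408586 (iv1 D165766) (iv3 D79613) (iv4 D36255) F28509 (iv4 F29655) D38874 D84299
theorem F481011 : act 3 n215662 = n206017 := d20_5 (iv4 F262393) F362541 F405786 (iv3 F405785) D215662 (iv4 D206017) F353954 (iv4 F327607) F327606 (iv1 F248772)
theorem F481012 : act 1 n176826 = n215662 := d15_0 (iv0 D215662) F394765 F394763
theorem F481013 : act 6 n198622 = n215662 := d7_0 F481011 F438856 (iv3 F408582)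
def n215663 : Q := act 1 n176821
theorem D215663 : act 1 n176821 = n215663 := rfl
theorem F481014 : act 1 n215663 = n176826 := d15_1 D215663 (iv7 F474733) F474731
theorem F481015 : act 4 n210013 = n215663 := d20_0 (iv1 D215663) (iv4 D176821) (iv3 F362519) F362518 (iv3 D84323) (iv4 F116019) (iv1 F254411) (iv4 F250781) (iv3 F414670) F455751
theorem F481016 : act 3 n215663 = n180781 := d5_1 F481015 (iv4 F430959) (iv3 D204066) D204067 (iv3 F455748)
theorem F481017 : act 6 n215663 = n209993 := d10_2 D210013 F481015 F455667
def n215664 : Q := act 5 n176821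
theorem D215664 : act 5 n176821 = n215664 := rfl
def n215665 : Q := act 4 n176827
theorem D215665 : act 4 n176827 = n215665 := rfl
theorem F481018 : act 7 n215665 = n190424 := d11_2 (iv7 F362554) D215665 F399904
theorem F481019 : act 3 n215665 = n190000 := d20_3 F463044 (iv1 F382068) D215665 (iv1 D190000) (iv3 F350482) (iv4 F377508) (iv1 D144131) F103419 (iv3 F226806) D211774
def n215666 : Q := act 4 n176829
theorem D215666 : act 4 n176829 = n215666 := rfl
theorem F481020 : act 2 n215666 = n176833 := d1_1 D215666 (iv4 D176833) (iv2 F276206)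
theorem F481021 : act 6 n215666 = n200338 := d10_2 F407768 D215666 F416050
theorem F481022 : act 0 n215666 = n214996 := d18_2 (iv1 F377544) D215666 F477803 (iv5 D199856) F392189 F476816 F476812 F258603 (iv5 F443829)
def n215667 : Q := act 4 n176832
theorem D215667 : act 4 n176832 = n215667 := rfl
theorem F481023 : act 3 n215667 = n190344 := d5_1 D215667 F399663 (iv3 F399662) (iv4 F443591) F443592
theorem F481024 : act 7 n215667 = n176899 := d11_2 F443762 D215667 F463124
theorem F481025 : act 6 n190342 = n215667 := d14_5 F481024 (iv6 D176899) F257976 (iv6 F458883) F458884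
def n215668 : Q := act 6 n176832
theorem D215668 : act 6 n176832 = n215668 := rfl
theorem F481026 : act 4 n215668 = n190342 := d10_1 D215668 F481025 (iv4 D215667)
theorem F481027 : act 0 n215668 = n214969 := d21_4 F276269 (iv1 F258604) (iv5 F382167) D215668 (iv6 F477695) F335376 (iv1 D91849) (iv5 F138378) F341815 (iv1 F289211)
theorem F481028 : act 5 n215668 = n200446 := d21_6 (iv5 D178864) F314312 F246567 (iv6 F377547) (iv1 F377551) D215668 F425239 (iv5 F473758) (iv6 D214155) (iv1 F340432)
def n215669 : Q := act 0 n176833
theorem D215669 : act 0 n176833 = n215669 := rfl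
def n215670 : Q := act 1 n176833
theorem D215670 : act 1 n176833 = n215670 := rfl
theorem F481029 : act 4 n200028 = n215670 := d20_6 (iv4 D43182) (iv1 F36025) (iv4 F59896) F326180 D112260 D200028 (iv1 D215670) (iv4 D176833) F129373 (iv1 F67640)
theorem F481030 : act 3 n215670 = n208127 := d5_1 F481029 F448000 (iv3 F414679) (iv4 D200029) D200028
theorem F481031 : act 7 n215670 = n214996 := d11_2 (iv7 F414676) F481029 F477803
theorem F481032 : act 6 n208126 = n215670 := d14_5 F481031 (iv6 D214996) (iv7 F373699) (iv6 F443692) (iv7 F447997)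
theorem F481033 : act 2 n214996 = n215669 := d15_3 (iv0 D215669) D215670 F481031
theorem F481034 : act 6 n215669 = n188491 := d3_2 D214996 F481033 F373673
def n215671 : Q := act 5 n176833
theorem D215671 : act 5 n176833 = n215671 := rfl
theorem F481035 : act 3 n215671 = n194167 := d6_1 D215671 (iv5 D194167) (iv3 F276208)
theorem F481036 : act 0 n215671 = n211775 := d21_1 D215671 (iv5 D211775) (iv6 D144088) D144085 D211771 F463037 D212765 F467414 F481032 (iv1 D215670)
def n215672 : Q := act 6 n176833
theorem D215672 : act 6 n176833 = n215672 := rfl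
theorem F481037 : act 2 n215672 = n200338 := d3_1 D215672 (iv6 F481021) F481020
theorem F481038 : act 3 n215672 = n194168 := d7_1 D215672 (iv6 D194168) (iv3 F276208)
theorem F481039 : act 4 n215672 = n176834 := d10_1 D215672 (iv6 D176834) D176833
theorem F481040 : act 7 n215672 = n200337 := d14_2 F377553 D215672 (iv6 F457573) (iv7 F473763) F473762
theorem F481041 : act 0 n198633 = n215672 := d21_4 (iv5 F365089) (iv1 F182818) D128573 (iv6 F408634) (iv6 D215672) D215671 F481036 (iv5 D211775) (iv6 D144088) D144085
theorem F481042 : act 1 n198711 = n215672 := d15_0 (iv0 F481041) F408635 (iv2 F408958)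
def n215673 : Q := act 6 n176839
theorem D215673 : act 6 n176839 = n215673 := rfl
theorem F481043 : act 3 n215673 = n208488 := d7_1 D215673 F449589 F409045
theorem F481044 : act 4 n215673 = n194196 := d10_1 D215673 (iv6 D194196) F377531
theorem F481045 : act 5 n215673 = n199268 := d12_1 D215673 F411391 (iv5 D198211) D198212 (iv5 F407244)
theorem F481046 : act 1 n206048 = n215673 := d17_8 F392348 (iv5 D187821) D187819 F371603 F369399 (iv5 F369170) F478087 F478085 F481044
def n215674 : Q := act 1 n176841
theorem D215674 : act 1 n176841 = n215674 := rfl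
theorem F481047 : act 1 n215674 = n214956 := d15_1 D215674 F477625 F377523
theorem F481048 : act 7 n215674 = n214955 := d15_2 (iv0 F377575) D215674 F477617
theorem F481049 : act 4 n215674 = n195893 := d17_9 (iv1 F398624) (iv5 F398590) (iv1 F398592) D195890 (iv4 F407243) (iv5 F407244) (iv0 D176839) D176841 D215674
theorem F481050 : act 3 n204981 = n215674 := d19_19 (iv1 D215674) (iv5 D176841) F129375 (iv3 F158176) D194169 F392237 F230834 (iv3 F331667) D208473 (iv5 F475936) F475935 F427729 (iv1 F273224) (iv5 D84148) D84147 (iv3 F129191) (iv1 F92281) D124978 D204981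
theorem F481051 : act 5 n215608 = n215674 := d21_6 F67637 F54690 D41441 D88758 D186321 (iv6 F480748) (iv1 D215674) (iv5 D176841) (iv6 D84304) (iv1 F67640)
theorem F481052 : act 6 n214686 = n215674 := d21_5 (iv5 F479259) (iv1 F479260) (iv5 F395103) (iv6 F474348) (iv1 F476398) (iv5 F481051) F480750 F479304 (iv6 F407651) F387872
theorem F481053 : act 2 n215674 = n214688 := d3_1 F481052 (iv6 D214688) D214686
def n215675 : Q := act 4 n176841
theorem D215675 : act 4 n176841 = n215675 := rfl
theorem F481054 : act 2 n215675 = n215539 := d1_1 D215675 F480400 F377523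
theorem F481055 : act 3 n215675 = n199569 := d5_1 D215675 F412703 (iv3 F409418) F409421 (iv3 F354548)
theorem F481056 : act 6 n215675 = n176843 := d10_2 (iv6 F276212) D215675 (iv4 D176843)
theorem F481057 : act 5 n215675 = n199815 := d16_1 D215675 (iv4 F413614) (iv5 F470648) F470649 (iv5 F331428) (iv4 F377526) (iv5 F477622) F477625 F377523
theorem F481058 : act 1 n215675 = n205133 := d18_6 (iv1 F377414) F377415 (iv1 D102873) (iv4 F129375) D176841 D215675 F479402 F479399 F273065
theorem F481059 : act 7 n211111 = n215675 := d13_0 F481057 F413613 (iv5 F460145)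
def n215676 : Q := act 7 n176841
theorem D215676 : act 7 n176841 = n215676 := rfl
theorem F481060 : act 2 n215676 = n214956 := d4_1 D215676 F477625 F377523
theorem F481061 : act 3 n215676 = n199872 := d8_1 D215676 F413902 (iv3 F354548)
theorem F481062 : act 4 n215676 = n211111 := d11_1 D215676 F481059 (iv4 D215675)
theorem F481063 : act 5 n215676 = n176842 := d13_1 D215676 (iv7 D176842) D176841
theorem F481064 : act 6 n215676 = n199912 := d14_1 D215676 F414115 F407930 (iv7 D176844) (iv6 F276212)
theorem F481065 : act 1 n214688 = n215676 := d15_1 (iv0 F476406) (iv7 D215676) (iv2 F377523)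
theorem F481066 : act 1 n215676 = n214955 := d15_1 F481065 (iv7 F481048) F481053
def n215677 : Q := act 3 n176858
theorem D215677 : act 3 n176858 = n215677 := rfl
theorem F481067 : act 2 n215677 = n199867 := d0_1 D215677 F413870 (iv2 F413689) F413690 (iv2 F377506)
theorem F481068 : act 4 n215677 = n189613 := d5_2 F378502 D215677 F379693 (iv4 D190407) (iv3 F378501)
theorem F481069 : act 5 n215677 = n186312 := d6_2 (iv5 F364555) D215677 (iv3 D186312)
theorem F481070 : act 6 n215677 = n189612 := d7_2 (iv6 F425765) D215677 (iv3 F425768)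
theorem F481071 : act 7 n215677 = n190481 := d8_2 F377509 D215677 (iv3 F392217)
theorem F481072 : act 0 n215677 = n190443 := d19_4 (iv1 F350523) (iv5 F378503) F378502 D215677 F379781 F359859 D164841 (iv1 F436560) F436561 (iv4 F342183) D208538 (iv1 F449784) (iv5 D191771) (iv4 D98907) (iv3 F152457) (iv1 F379966) F379968 F370479 F364452
theorem F481073 : act 0 n176875 = n215677 := d20_4 F474884 (iv1 D214194) F356904 (iv3 F276247) (iv3 D215677) (iv4 F378502) (iv1 F378506) D190393 (iv3 F379657) D214381
def n215678 : Q := act 7 n176860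
theorem D215678 : act 7 n176860 = n215678 := rfl
theorem F481074 : act 2 n215678 = n190436 := d4_1 D215678 (iv7 F457577) F457574
theorem F481075 : act 3 n215678 = n176868 := d8_1 D215678 (iv7 D176868) (iv3 F276233)
theorem F481076 : act 4 n215678 = n210090 := d11_1 D215678 F456112 F382639
theorem F481077 : act 5 n215678 = n193662 := d13_1 D215678 (iv7 F453153) F453152
theorem F481078 : act 6 n215678 = n195532 := d14_1 D215678 F397241 (iv6 D189719) F292456 D176860
theorem F481079 : act 1 n190434 = n215678 := d15_1 (iv0 F457578) (iv7 D215678) (iv2 F457574)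
theorem F481080 : act 1 n215678 = n190437 := d15_1 F481079 (iv7 D190437) (iv2 F379756)
def n215679 : Q := act 3 n176865
theorem D215679 : act 3 n176865 = n215679 := rfl
theorem F481081 : act 2 n215679 = n200389 := d0_1 D215679 F416256 (iv2 F416249) F416250 F379481
theorem F481082 : act 4 n215679 = n203793 := d5_2 F385130 D215679 F429837 F379471 (iv3 F385129)
theorem F481083 : act 5 n215679 = n200299 := d6_2 F453846 D215679 (iv3 F453848)
theorem F481084 : act 7 n215679 = n189969 := d8_2 F379482 D215679 F378380
theorem F481085 : act 0 n215679 = n190444 := d20_4 F129358 D102911 F385130 D215679 (iv3 D190444) F356824 (iv1 F350223) (iv4 F147782) (iv3 F356254) F352912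
theorem F481086 : act 0 n176890 = n215679 := d20_4 (iv4 F257754) F440913 F440909 (iv3 F362562) (iv3 D215679) (iv4 F385130) (iv1 F352919) F352915 F377491 (iv1 D181906)
def n215680 : Q := act 6 n176866
theorem D215680 : act 6 n176866 = n215680 := rfl
theorem F481087 : act 2 n215680 = n188212 := d3_1 D215680 (iv6 F377497) F379483
theorem F481088 : act 3 n215680 = n192862 := d7_1 D215680 F388055 (iv3 F385120)
theorem F481089 : act 4 n215680 = n194192 := d10_1 D215680 (iv6 D194192) F385126
theorem F481090 : act 5 n215680 = n187591 := d12_1 D215680 F370931 D191990 (iv6 F385118) F385119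
theorem F481091 : act 0 n215680 = n190261 := d21_4 F390713 F385121 F385119 D215680 (iv6 F478079) (iv5 D215050) F360930 (iv5 F353334) (iv6 F353343) D193697
theorem F481092 : act 0 n214971 = n215680 := d21_4 (iv5 F377280) (iv1 F477700) (iv5 D214970) D214971 (iv6 D215680) (iv5 F385119) (iv1 F385122) F390717 (iv6 F390718) (iv1 F251189)
theorem F481093 : act 7 n215680 = n188209 := d15_2 (iv0 F380940) (iv0 F481091) F380939
def n215681 : Q := act 1 n176875
theorem D215681 : act 1 n176875 = n215681 := rfl
theorem F481094 : act 1 n215681 = n190443 := d15_1 D215681 (iv7 F399762) F399758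
theorem F481095 : act 7 n215681 = n199867 := d15_2 (iv0 F481073) D215681 (iv2 F481067)
theorem F481096 : act 5 n215681 = n199829 := d17_7 (iv1 F302175) (iv5 F336603) (iv1 F336576) F336577 (iv4 F129387) D176875 D215681 (iv0 F413700) (iv4 D163351)
theorem F481097 : act 3 n199830 = n215681 := d20_3 D112262 (iv1 F379770) (iv4 F413702) (iv1 D215681) F276247 (iv4 F356904) F382412 F414688 (iv3 D200031) (iv1 D112261)
theorem F481098 : act 4 n209108 = n215681 := d20_6 (iv4 F340442) (iv1 F214434) F209202 (iv3 F209198) (iv1 F363756) (iv3 F452291) (iv1 D215681) F356894 F175886 D112939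
theorem F481099 : act 2 n190481 = n215681 := d16_9 (iv4 F481098) (iv5 D209108) (iv4 F419153) (iv5 F445150) F445149 F438839 F430605 (iv5 F481069) F481071
theorem F481100 : act 6 n215681 = n190014 := d3_2 D190481 F481099 (iv2 F379222)
def n215682 : Q := act 4 n176878
theorem D215682 : act 4 n176878 = n215682 := rfl
theorem F481101 : act 2 n215682 = n188480 := d1_1 D215682 (iv4 D188480) F276253
theorem F481102 : act 3 n215682 = n191249 := d5_1 D215682 F382750 F376640 F376626 F373774
theorem F481103 : act 5 n215682 = n203892 := d9_2 (iv5 F276252) D215682 (iv4 D203892) (iv5 D121272) F88531 F43547 (iv4 F56552) D78835 D164096 (iv5 F477523) (iv4 D214935) (iv5 D163964) F119938 (iv5 F67485) (iv4 F141767)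
theorem F481104 : act 6 n215682 = n191247 := d10_2 (iv6 F382745) D215682 F382741
theorem F481105 : act 7 n215682 = n198817 := d11_2 (iv7 F276255) D215682 F409379
theorem F481106 : act 0 n215682 = n180682 := d17_0 (iv5 F476218) (iv1 F476220) (iv5 D176906) (iv4 D84329) (iv5 D38883) D38881 D84324 F276254 D215682
theorem F481107 : act 1 n215682 = n180640 := d18_6 F327408 (iv4 D78850) (iv1 F67487) (iv4 F141767) (iv5 F276252) D215682 (iv4 D180640) D180639 (iv5 F327412)
theorem F481108 : act 4 n200408 = n189258 := d20_0 (iv1 F376643) (iv4 F382750) (iv3 F481102) F481106 (iv3 F447666) F447667 F328274 (iv4 F447534) (iv3 F477733) F477736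
theorem F481109 : act 6 n189258 = n200407 := d10_2 D200408 F481108 (iv4 D200407)
def n215683 : Q := act 3 n176895
theorem D215683 : act 3 n176895 = n215683 := rfl
theorem F481110 : act 5 n215683 = n204749 := d6_2 (iv5 F276261) D215683 (iv3 D204749)
theorem F481111 : act 7 n215683 = n209908 := d8_2 F474754 D215683 (iv3 F474758)
def n215684 : Q := act 4 n176897
theorem D215684 : act 4 n176897 = n215684 := rfl
theorem F481112 : act 2 n215684 = n190403 := d1_1 D215684 (iv4 D190403) (iv2 F364487)
theorem F481113 : act 7 n215684 = n190405 := d11_2 (iv7 F364486) D215684 (iv4 D190405)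
theorem F481114 : act 0 n215684 = n190525 := d18_2 F363510 D215684 F379993 F328695 F112879 D79207 (iv4 F129387) (iv0 F346842) F160339
theorem F481115 : act 1 n215684 = n190023 := d18_6 (iv1 F276073) (iv4 F299313) F334289 D130326 (iv5 F363508) D215684 F378597 D190025 F378599
theorem F481116 : act 3 n215684 = n207199 := d19_3 F363506 (iv5 F363508) D215684 F443767 (iv5 D195679) (iv4 F397822) F397826 (iv1 D189901) F147041 F122203 (iv3 D36249) D36247 (iv5 F320283) F46691 (iv3 F46674) (iv1 F81415) (iv5 D51581) D51580 D111863
theorem F481117 : act 6 n207197 = n215684 := d7_0 F481116 (iv6 D207199) D207197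
def n215685 : Q := act 6 n176897
theorem D215685 : act 6 n176897 = n215685 := rfl
theorem F481118 : act 2 n215685 = n190404 := d3_1 D215685 (iv6 D190404) (iv2 F364487)
theorem F481119 : act 3 n215685 = n176899 := d7_1 D215685 (iv6 D176899) D176897
theorem F481120 : act 4 n215685 = n207197 := d10_1 D215685 F481117 (iv4 D215684)
theorem F481121 : act 7 n215685 = n190344 := d14_2 (iv7 F364486) D215685 (iv6 D190344) (iv7 F366090) F364483
theorem F481122 : act 0 n215685 = n194998 := d21_4 (iv5 D199867) F363506 (iv5 F363508) D215685 (iv6 D194998) D194997 F395342 F394683 D196183 F413873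
def n215686 : Q := act 3 n176898
theorem D215686 : act 3 n176898 = n215686 := rfl
theorem F481123 : act 4 n215686 = n207199 := d5_2 D176898 D215686 (iv3 F481116) (iv4 D215684) (iv3 D176897)
theorem F481124 : act 6 n215686 = n207198 := d7_2 F463123 D215686 F443761
theorem F481125 : act 0 n215686 = n211498 := d19_4 D92174 F250808 D176898 D215686 (iv5 F473968) (iv4 F473971) F257543 (iv1 F248952) (iv5 D158020) (iv4 D75275) (iv3 F54684) F296672 F55002 (iv4 F296176) F27403 F17488 D9616 D20335 D43100
theorem F481126 : act 1 n215686 = n212009 := d15_1 (iv0 F481125) F463912 (iv2 F461826)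
def n215687 : Q := act 0 n176899
theorem D215687 : act 0 n176899 = n215687 := rfl
theorem F481127 : act 6 n215687 = n204987 := d21_5 (iv5 D92177) D92174 F250808 D176899 D215687 (iv5 D204987) D204985 (iv5 F445645) F445646 F250821
theorem F481128 : act 3 n214987 = n215687 := d7_3 F481127 F434468 D214987
theorem F481129 : act 5 n215065 = n215687 := d12_5 F481127 (iv5 D204987) F322699 D165881 D215065
def n215688 : Q := act 1 n176899
theorem D215688 : act 1 n176899 = n215688 := rfl
theorem F481130 : act 3 n176917 = n215688 := d20_3 (iv4 F369382) (iv1 F369385) (iv4 F369378) (iv1 D215688) (iv3 F481119) F481120 (iv1 F443756) (iv4 F480990) (iv3 D215658) (iv1 F276115)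
theorem F481131 : act 6 n200364 = n215688 := d21_3 (iv5 F378389) (iv1 F414791) F416144 (iv1 D215688) (iv6 D176899) (iv5 F250808) (iv1 F141766) D164094 F409376 F409377
def n215689 : Q := act 5 n176899
theorem D215689 : act 5 n176899 = n215689 := rfl
def n215690 : Q := act 3 n176903
theorem D215690 : act 3 n176903 = n215690 := rfl
theorem F481132 : act 2 n215690 = n191148 := d0_1 D215690 (iv3 F414697) F414696 F474779 F474781
theorem F481133 : act 4 n215690 = n187405 := d5_2 F373677 D215690 F370208 (iv4 F382653) (iv3 F382655)
theorem F481134 : act 7 n215690 = n191146 := d8_2 (iv7 F474776) D215690 F474774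
theorem F481135 : act 6 n180638 = n215690 := d3_0 F481132 (iv6 F414689) F414692
def n215691 : Q := act 6 n176903
theorem D215691 : act 6 n176903 = n215691 := rfl
theorem F481136 : act 2 n215691 = n199856 := d3_1 D215691 F474783 F474781
theorem F481137 : act 3 n215691 = n180638 := d7_1 D215691 F481135 (iv3 D215690)
theorem F481138 : act 4 n215691 = n215669 := d10_1 D215691 F481034 F373677
theorem F481139 : act 5 n199855 = n215691 := d21_2 F408250 (iv1 F413833) (iv6 D215691) (iv1 F474756) (iv6 F474757) (iv5 D209905) (iv1 F410803) (iv5 F461669) (iv6 F474564) F474566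
def n215692 : Q := act 6 n176904
theorem D215692 : act 6 n176904 = n215692 := rfl
theorem F481140 : act 3 n215692 = n198965 := d7_1 D215692 (iv6 F447520) F447518
theorem F481141 : act 4 n215692 = n207183 := d10_1 D215692 F443692 (iv4 F373702)
theorem F481142 : act 0 n215692 = n198966 := d20_7 F289223 (iv1 F291640) D189751 F377617 (iv1 F214542) D207183 (iv4 F481141) F410093 F380882 (iv1 F289227)
def n215693 : Q := act 1 n176905
theorem D215693 : act 1 n176905 = n215693 := rfl
theorem F481143 : act 1 n215693 = n191317 := d15_1 D215693 F383025 F376463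
theorem F481144 : act 7 n215693 = n191319 := d15_2 F474524 D215693 (iv2 F474518)
theorem F481145 : act 4 n215693 = n189220 := d18_7 F288977 (iv4 D186042) (iv1 D88615) F63761 (iv5 F129395) (iv4 F276263) D215693 F376755 F376753
theorem F481146 : act 5 n215693 = n190105 := d18_9 (iv1 D190105) (iv4 F376175) (iv1 F378862) F378863 (iv5 F376156) (iv4 D189228) F335771 (iv4 F276263) D215693
theorem F481147 : act 2 n191318 = n215693 := d2_3 F481146 F381672 (iv5 F383026)
def n215694 : Q := act 5 n176905
theorem D215694 : act 5 n176905 = n215694 := rfl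
theorem F481148 : act 3 n215694 = n176906 := d6_1 D215694 (iv5 D176906) D176905
theorem F481149 : act 7 n215694 = n191320 := d13_2 (iv7 F276264) D215694 (iv5 D191320)
def n215695 : Q := act 6 n176905
theorem D215695 : act 6 n176905 = n215695 := rfl
theorem F481150 : act 2 n215695 = n190509 := d3_1 D215695 F464052 F376463
theorem F481151 : act 3 n215695 = n176907 := d7_1 D215695 (iv6 D176907) D176905
theorem F481152 : act 4 n215695 = n176932 := d10_1 D215695 (iv6 D176932) (iv4 F276263)
theorem F481153 : act 7 n215695 = n190508 := d14_2 (iv7 F276264) D215695 F402430 F402427 (iv6 D191321)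
theorem F481154 : act 0 n190510 = n215695 := d18_2 F418568 (iv4 F379955) F481152 (iv5 F374777) (iv4 F478755) (iv0 D215180) (iv4 F397996) (iv0 F397998) D200972
theorem F481155 : act 1 n185959 = n215695 := d15_0 (iv0 F481154) (iv7 D190510) F367040
def n215696 : Q := act 6 n176906
theorem D215696 : act 6 n176906 = n215696 := rfl
theorem F481156 : act 2 n215696 = n204750 := d3_1 D215696 (iv6 D204750) (iv2 F276265)
theorem F481157 : act 4 n215696 = n204742 := d10_1 D215696 (iv6 D204742) (iv4 F276266)
theorem F481158 : act 0 n215696 = n198573 := d21_4 F476340 (iv1 D176904) D176906 D215696 (iv6 D198573) D198572 (iv1 F408365) D198818 F409383 (iv1 F476342)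
def n215697 : Q := act 0 n176907
theorem D215697 : act 0 n176907 = n215697 := rfl
theorem F481159 : act 4 n215697 = n191224 := d18_3 F335321 (iv4 F276267) D215697 F382644 (iv4 F393034) (iv0 F393038) (iv4 D187384) (iv0 D89993) D89996
theorem F481160 : act 6 n215697 = n190815 := d21_5 (iv5 F476218) (iv1 F476220) (iv5 D176906) D176907 D215697 F381220 (iv1 F367075) (iv5 F382739) (iv6 F481104) F481106
theorem F481161 : act 1 n189962 = n215697 := d15_0 (iv0 D215697) (iv7 F380909) F380908
def n215698 : Q := act 1 n176907
theorem D215698 : act 1 n176907 = n215698 := rfl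
theorem F481162 : act 1 n215698 = n189962 := d15_1 D215698 (iv7 F380936) F380934
theorem F481163 : act 3 n186384 = n215698 := d20_3 (iv4 F359560) F291646 D186384 (iv1 D215698) (iv3 F481151) F481152 F363536 F147648 (iv3 F147639) F360334
theorem F481164 : act 6 n204990 = n215698 := d21_3 (iv5 D156841) (iv1 F316036) (iv5 F434487) (iv1 D215698) (iv6 D176907) D176906 (iv1 F476224) F476226 F362312 (iv1 F316042)
def n215699 : Q := act 5 n176907
theorem D215699 : act 5 n176907 = n215699 := rfl
def n215700 : Q := act 4 n176913
theorem D215700 : act 4 n176913 = n215700 := rfl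
theorem F481165 : act 2 n215700 = n176914 := d1_1 D215700 (iv4 D176914) D176913
theorem F481166 : act 3 n215700 = n215697 := d5_1 D215700 F481159 (iv3 D191224) F360347 F350475
theorem F481167 : act 7 n215700 = n211774 := d11_2 F289214 D215700 F463044
theorem F481168 : act 0 n215700 = n211767 := d18_2 (iv1 F289211) D215700 (iv4 F474562) F474563 F414417 F405677 F268458 (iv0 F361132) F341814
theorem F481169 : act 0 n211776 = n215700 := d20_10 (iv4 D215700) (iv1 F289216) (iv4 F399904) (iv3 D190424) (iv1 F378521) (iv3 F425711) (iv4 F425758) (iv1 F425767) F226846 (iv3 F463051)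
def n215701 : Q := act 5 n176914
theorem D215701 : act 5 n176914 = n215701 := rfl
theorem F481170 : act 3 n215701 = n189765 := d6_1 D215701 (iv5 D189765) F291650
def n215702 : Q := act 6 n176914
theorem D215702 : act 6 n176914 = n215702 := rfl
theorem F481171 : act 3 n215702 = n183236 := d7_1 D215702 (iv6 F363174) F291650
theorem F481172 : act 4 n215702 = n176915 := d10_1 D215702 (iv6 D176915) D176914
theorem F481173 : act 0 n190029 = n215702 := d18_0 F481172 F445704 (iv4 D188445) (iv5 D91842) F67265 (iv0 F294337) D95504 (iv0 F205497) D190029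
theorem F481174 : act 5 n182853 = n215702 := d18_4 F293075 F76188 (iv1 F293074) D182853 F481172 F445705 (iv4 D95513) D95512 F343046
def n215703 : Q := act 5 n176915
theorem D215703 : act 5 n176915 = n215703 := rfl
theorem F481175 : act 3 n215703 = n176918 := d6_1 D215703 (iv5 D176918) (iv3 F276271)
theorem F481176 : act 6 n215703 = n194159 := d12_2 D176915 D215703 (iv5 D194159) (iv6 D102786) (iv5 F129391)
theorem F481177 : act 0 n215703 = n187335 := d17_2 (iv1 F445705) D215703 F369868 F327100 (iv5 D87292) D87290 (iv5 F343042) (iv0 D95511) D95513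
theorem F481178 : act 0 n210449 = n215703 := d19_0 (iv5 D215703) (iv4 F481172) F481171 (iv1 F382620) (iv5 D191217) F150144 (iv3 F295244) F295242 (iv5 F333861) (iv4 F336495) F336494 (iv1 F346125) (iv5 F346121) (iv4 F409004) (iv3 F409005) (iv1 F262301) D214709 F476473 (iv3 F457582)
def n215704 : Q := act 3 n176916
theorem D215704 : act 3 n176916 = n215704 := rfl
theorem F481179 : act 0 n194222 = n215704 := d20_4 (iv4 D194163) (iv1 F340449) D189757 (iv3 F392403) (iv3 D215704) F369295 (iv1 F369386) F369382 (iv3 F468376) (iv1 F468380)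
theorem F481180 : act 6 n215704 = n214690 := d21_5 F373775 (iv1 F258573) (iv5 F380920) D194222 F481179 (iv5 D214690) (iv1 F298084) D164110 F377572 (iv1 F373777)
theorem F481181 : act 2 n214987 = n215704 := d3_3 F481180 F476409 D214987
theorem F481182 : act 5 n214689 = n215704 := d12_5 F481180 (iv5 D214690) (iv6 D160612) D160611 D214689
def n215705 : Q := act 5 n176916
theorem D215705 : act 5 n176916 = n215705 := rfl
theorem F481183 : act 3 n215705 = n214689 := d6_1 D215705 F481182 (iv3 D215704)
theorem F481184 : act 6 n215705 = n214687 := d21_9 (iv5 D215225) (iv1 F433804) (iv5 F434046) (iv6 D204893) F199387 (iv6 F276272) (iv5 D176918) D176916 D215705 F479255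
def n215706 : Q := act 6 n176916
theorem D215706 : act 6 n176916 = n215706 := rfl
theorem F481185 : act 2 n215706 = n215608 := d3_1 D215706 F480748 (iv2 F369375)
theorem F481186 : act 3 n215706 = n214690 := d7_1 D215706 (iv6 F481180) (iv3 D215704)
theorem F481187 : act 4 n215706 = n189681 := d10_1 D215706 (iv6 D189681) (iv4 F369295)
theorem F481188 : act 5 n215706 = n214688 := d12_1 D215706 (iv6 D214688) D214687 (iv6 F481184) (iv5 D215705)
theorem F481189 : act 7 n215706 = n200366 := d14_2 (iv7 F369373) D215706 (iv6 D200366) (iv7 F377214) F377213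
theorem F481190 : act 1 n176946 = n215706 := d15_1 F420427 F481189 (iv2 F420425)
def n215707 : Q := act 5 n176917
theorem D215707 : act 5 n176917 = n215707 := rfl
def n215708 : Q := act 0 n176918
theorem D215708 : act 0 n176918 = n215708 := rfl
theorem F481191 : act 5 n215708 = n211833 := d17_1 D215708 (iv1 D211833) D211834 F463237 (iv5 D203694) F198746 D204711 F433353 (iv4 F429441)
theorem E104017 : n211839 = n204898 := (c21_5 F481191 (iv1 D211833) D211834 F463236 D211839 (iv6 D204898) (iv5 D124646) F118514 D102787 (iv6 F276272) D215708)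
theorem F481192 : act 1 n204898 = n144153 := (sb E104017 (iv0 D211839))
theorem E104018 : n215493 = n211840 := ((c15_2 F481192 D211840 (iv7 D215493) (iv2 F434065))).symm
theorem F481193 : act 7 n211840 = n174665 := (sb E104018 (iv7 D215493))
def n215709 : Q := act 1 n176918
theorem D215709 : act 1 n176918 = n215709 := rfl
theorem F481194 : act 5 n215709 = n211832 := d17_7 F443281 F377691 (iv1 D189771) (iv5 D94455) (iv4 F291652) D176918 D215709 (iv0 D211832) F443280
def n215710 : Q := act 7 n176918
theorem D215710 : act 7 n176918 = n215710 := rfl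
theorem F481195 : act 4 n215710 = n204712 := d11_1 D215710 (iv7 F433358) (iv4 F429441)
theorem F481196 : act 5 n215710 = n176919 := d13_1 D215710 (iv7 D176919) D176918
def n215711 : Q := act 7 n176924
theorem D215711 : act 7 n176924 = n215711 := rfl
theorem F481197 : act 2 n215711 = n190357 := d4_1 D215711 F425838 F425836
theorem F481198 : act 3 n215711 = n176928 := d8_1 D215711 (iv7 D176928) (iv3 F276277)
theorem F481199 : act 4 n215711 = n206569 := d11_1 D215711 F441379 F382642
theorem F481200 : act 5 n215711 = n214535 := d13_1 D215711 F475671 (iv5 F439012)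
theorem F481201 : act 1 n190354 = n215711 := d15_1 (iv0 F425839) (iv7 D215711) (iv2 F425836)
theorem F481202 : act 1 n215711 = n189976 := d15_1 F481201 F378392 (iv2 F379533)
def n215712 : Q := act 6 n176926
theorem D215712 : act 6 n176926 = n215712 := rfl
theorem F481203 : act 4 n215712 = n189671 := d10_1 D215712 (iv6 D189671) (iv4 F369406)
theorem F481204 : act 0 n176941 = n215712 := d21_4 F380937 (iv1 F370092) (iv5 D176940) D176941 (iv6 D215712) (iv5 F411434) F411437 D215050 F478079 F380940
def n215713 : Q := act 7 n176927
theorem D215713 : act 7 n176927 = n215713 := rfl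
theorem F481205 : act 3 n215713 = n214535 := d8_1 D215713 F475671 F439014
theorem F481206 : act 4 n215713 = n214536 := d11_1 D215713 F475676 F390518
theorem F481207 : act 5 n215713 = n176928 := d13_1 D215713 (iv7 D176928) D176927
theorem F481208 : act 6 n215713 = n214533 := d14_1 D215713 F475663 F379249 F368740 (iv6 F276278)
theorem F481209 : act 0 n186981 = n215713 := d17_0 F481207 (iv1 F289219) (iv5 F369170) F369169 (iv5 F361774) F172477 (iv5 F411791) (iv0 D199344) (iv4 F368747)
def n215714 : Q := act 5 n176934
theorem D215714 : act 5 n176934 = n215714 := rfl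
theorem F481210 : act 2 n215714 = n187188 := d2_1 D215714 (iv5 D187188) F364459
theorem F481211 : act 3 n215714 = n201652 := d6_1 D215714 (iv5 F475532) F475531
theorem F481212 : act 6 n215714 = n187765 := d12_2 F410121 D215714 F371433 D195235 (iv5 F410120)
theorem F481213 : act 7 n215714 = n187186 := d13_2 (iv7 F364460) D215714 (iv5 D187186)
theorem F481214 : act 0 n215714 = n209129 := d17_2 (iv1 F276288) D215714 F452392 F398920 F380937 (iv0 F370093) (iv5 D176945) F270265 F270262
def n215715 : Q := act 6 n176939
theorem D215715 : act 6 n176939 = n215715 := rfl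
theorem F481215 : act 3 n215715 = n200032 := d7_1 D215715 (iv6 F414695) F367059
theorem F481216 : act 4 n215715 = n176941 := d10_1 D215715 (iv6 D176941) D176939
theorem F481217 : act 0 n215715 = n189753 := d20_7 (iv4 F365043) (iv1 D112940) (iv4 F112210) (iv3 F247449) F382412 F382410 (iv4 F481216) (iv4 F443898) F443897 (iv1 F214428)
def n215716 : Q := act 1 n176941
theorem D215716 : act 1 n176941 = n215716 := rfl
theorem F481218 : act 4 n190415 = n215716 := d20_0 (iv1 D215716) (iv4 F481216) F481215 (iv1 F435920) F435916 F402735 D197027 (iv4 F468295) F468294 (iv1 F379722)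
theorem F481219 : act 3 n190817 = n215716 := d20_3 F447810 (iv1 D190816) D190817 (iv1 D215716) (iv3 F382410) F414688 (iv1 F414691) D214382 F474889 (iv1 F447813)
theorem F481220 : act 6 n193699 = n215716 := d21_3 D176867 (iv1 F362573) (iv5 F390721) (iv1 D215716) (iv6 D176941) D176940 (iv1 F370934) (iv5 F481090) (iv6 D215680) (iv1 D176866)
def n215717 : Q := act 5 n176941
theorem D215717 : act 5 n176941 = n215717 := rfl
theorem F481221 : act 0 n215717 = n188516 := d17_2 (iv1 D215716) D215717 (iv5 D188516) F142021 F293659 D93984 D189489 (iv0 F379721) F481218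
theorem F481222 : act 0 n214689 = n214888 := d18_2 F481221 (iv4 F476408) (iv4 D214888) (iv5 F443892) (iv4 F443891) (iv0 F377328) (iv4 F481203) (iv0 F481204) D215717
def n215718 : Q := act 7 n176941
theorem D215718 : act 7 n176941 = n215718 := rfl
def n215719 : Q := act 7 n176946
theorem D215719 : act 7 n176946 = n215719 := rfl
theorem F481223 : act 4 n215719 = n200362 := d11_1 D215719 F444736 F399051
theorem F481224 : act 1 n215608 = n215719 := d15_1 (iv0 F480750) (iv7 D215719) (iv2 F479301)
theorem F481225 : act 1 n215719 = n200366 := d15_1 F481224 (iv7 F481189) F481185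
def n215720 : Q := act 6 n177013
theorem D215720 : act 6 n177013 = n215720 := rfl
theorem F481226 : act 2 n215720 = n205513 := d3_1 D215720 F436782 F365982
theorem F481227 : act 4 n215720 = n198116 := d10_1 D215720 (iv6 D198116) (iv4 F365958)
theorem F481228 : act 5 n215720 = n205509 := d12_1 D215720 (iv6 D205509) (iv5 D126200) D126201 (iv5 F365983)
theorem F481229 : act 7 n215720 = n206615 := d14_2 F435824 D215720 (iv6 F441587) F412079 (iv6 F435827)
theorem F481230 : act 0 n215720 = n180132 := d21_4 (iv5 F436770) (iv1 D205510) (iv5 F365983) D215720 (iv6 D180132) (iv5 D86065) D86063 (iv5 F280416) (iv6 F477084) F477086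
theorem F481231 : act 0 n204669 = n215720 := d21_4 F95264 (iv1 F207221) (iv5 F207252) (iv6 F433216) (iv6 D215720) F365983 F430128 (iv5 F441607) (iv6 D206619) (iv1 F207267)
def n215721 : Q := act 1 n177021
theorem D215721 : act 1 n177021 = n215721 := rfl
theorem F481232 : act 1 n215721 = n177464 := d15_1 D215721 (iv7 D177464) (iv2 F276429)
theorem F481233 : act 7 n215721 = n177462 := d15_2 (iv0 F365986) D215721 (iv2 F361745)
theorem F481234 : act 3 n194803 = n215721 := d19_19 (iv1 D215721) F276430 F160974 (iv3 F294448) D186808 F384006 F368792 F283657 (iv1 F135245) F135243 (iv4 D87723) (iv3 F134641) D183893 F285724 (iv4 F369691) F369690 (iv1 F369695) (iv5 F393407) (iv4 F394532)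
theorem F481235 : act 6 n200621 = n215721 := d21_3 (iv5 F441667) (iv1 F441669) F436947 (iv1 D215721) (iv6 D177021) (iv5 D84370) (iv1 F296388) (iv5 F325526) F358844 F405689
theorem F481236 : act 2 n215721 = n177463 := d3_1 F481235 (iv6 F409795) (iv2 F417250)
def n215722 : Q := act 5 n177030
theorem D215722 : act 5 n177030 = n215722 := rfl
theorem F481237 : act 2 n215722 = n203260 := d2_1 D215722 (iv5 F460904) F460902
theorem F481238 : act 3 n215722 = n177034 := d6_1 D215722 (iv5 D177034) (iv3 F276447)
theorem F481239 : act 6 n215722 = n211851 := d12_2 D177030 D215722 F463258 (iv6 D203726) F191801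
theorem F481240 : act 7 n215722 = n212798 := d13_2 F479668 D215722 (iv5 F479666)
theorem F481241 : act 0 n215722 = n201493 := d17_2 F346683 D215722 F420709 (iv4 F214905) (iv5 F366483) (iv0 D123549) (iv5 D57579) D57578 D123546
theorem F481242 : act 1 n215722 = n192071 := d17_6 F232748 D87882 D184245 (iv5 F384819) (iv4 F276448) D215722 F385425 (iv0 F339025) (iv4 D100112)
def n215723 : Q := act 0 n177038
theorem D215723 : act 0 n177038 = n215723 := rfl
theorem F481243 : act 5 n215723 = n215167 := d17_1 D215723 F478676 F444865 F324368 (iv5 F463291) F463293 F429226 F461773 F461771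
theorem F481244 : act 4 n215723 = n199980 := d18_1 D215723 F427586 F427585 (iv5 F189761) (iv4 F429334) (iv0 F429336) (iv4 F276452) (iv0 D177036) D177038
theorem F481245 : act 3 n215723 = n206346 := d20_5 (iv4 F457764) F457765 F335441 (iv3 F344486) D215723 F448421 (iv1 D203599) F188673 (iv3 F186931) F342575
theorem F481246 : act 6 n215723 = n199979 := d21_5 F408690 (iv1 F348018) (iv5 F439063) F439064 D215723 (iv5 F458637) F458638 (iv5 D140879) D140880 F408691
theorem F481247 : act 2 n177050 = n215723 := d15_3 (iv0 D215723) F472274 F472270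
theorem F481248 : act 1 n177053 = n215723 := d15_0 (iv0 D215723) (iv7 F344484) (iv2 F344480)
theorem F481249 : act 7 n215723 = n177051 := d15_2 (iv0 F472273) F481248 F472272
def n215724 : Q := act 5 n177047
theorem D215724 : act 5 n177047 = n215724 := rfl
theorem F481250 : act 2 n215724 = n194310 := d2_1 D215724 (iv5 F479370) F479368
theorem F481251 : act 3 n215724 = n203492 := d6_1 D215724 (iv5 D203492) F276463
theorem F481252 : act 6 n215724 = n207140 := d12_2 (iv6 F313123) D215724 F443488 (iv6 F405032) F230206
theorem F481253 : act 7 n215724 = n215283 := d13_2 (iv7 F357095) D215724 (iv5 D215283)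
theorem F481254 : act 0 n215724 = n215612 := d17_2 F331890 D215724 F480764 (iv4 F447325) (iv5 D157286) (iv0 D74783) D74785 (iv0 F311237) (iv4 F189768)
theorem F481255 : act 1 n215724 = n207143 := d17_6 F457755 F457752 F344473 (iv5 D177048) D177047 D215724 F443506 (iv0 F364618) (iv4 F364617)
def n215725 : Q := act 3 n177051
theorem D215725 : act 3 n177051 = n215725 := rfl
theorem F481256 : act 2 n215725 = n206345 := d0_1 D215725 (iv3 F440345) F359895 D213830 (iv2 F472272)
theorem F481257 : act 5 n215725 = n214229 := d6_2 F460180 D215725 F474100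
theorem F481258 : act 6 n215725 = n202375 := d7_2 F461784 D215725 (iv3 F461783)
theorem F481259 : act 7 n215725 = n206346 := d8_2 F481249 D215725 (iv3 F481245)
theorem F481260 : act 0 n215725 = n204312 := d20_4 (iv4 F189500) D203646 F453160 D215725 F432003 (iv4 F379007) (iv1 F474098) (iv4 D214228) (iv3 F361611) (iv1 D120017)
theorem F481261 : act 4 n215725 = n202376 := d20_6 (iv4 F462439) (iv1 F462442) (iv4 D208216) (iv3 F236016) (iv1 F344487) D215725 (iv1 F429057) F429055 F341178 F342561
theorem F481262 : act 0 n197171 = n215725 := d20_4 D155692 (iv1 F403434) (iv4 D197183) (iv3 F403384) (iv3 D215725) (iv4 F453160) F461779 F461776 F340826 (iv1 F238096)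
def n215726 : Q := act 4 n177164
theorem D215726 : act 4 n177164 = n215726 := rfl
theorem F481263 : act 2 n215726 = n199222 := d1_1 D215726 F411225 F378701
theorem F481264 : act 3 n215726 = n211431 := d5_1 D215726 (iv4 D211431) (iv3 F401522) F401523 F397733
theorem F481265 : act 5 n215726 = n204943 := d9_2 D177164 D215726 (iv4 F470384) (iv5 D213434) F346813 (iv5 D84416) D84415 D177147 F346808 D199221 (iv4 F439997) F439998 F353405 (iv5 D84421) D84420
theorem F481266 : act 6 n215726 = n204945 := d10_2 F393868 D215726 F434286
theorem F481267 : act 7 n215726 = n199217 := d11_2 F378662 D215726 F411193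
theorem F481268 : act 0 n215726 = n199220 := d17_0 (iv5 F432942) F432944 (iv5 D194553) F378735 F378733 F366429 (iv5 F391367) F391369 D215726
theorem F481269 : act 1 n215726 = n199219 := d18_6 (iv1 F75369) (iv4 F75493) (iv1 F75496) D84420 D177164 D215726 F411202 F379357 (iv5 D103602)
def n215727 : Q := act 3 n177174
theorem D215727 : act 3 n177174 = n215727 := rfl
theorem F481270 : act 4 n215727 = n202141 := d5_2 D177174 D215727 F423024 (iv4 F422813) (iv3 D177173)
theorem F481271 : act 6 n215727 = n212137 := d7_2 F357274 D215727 F464453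
theorem F481272 : act 7 n215727 = n196915 := d8_2 (iv7 F357272) D215727 F402272
theorem F481273 : act 0 n215727 = n202626 := d19_4 D59944 (iv5 F341008) D177174 D215727 F424818 (iv4 D123882) D123881 (iv1 F355577) (iv5 D155454) (iv4 D73921) (iv3 F87321) (iv1 F87323) D73798 (iv4 F309731) (iv3 D108293) (iv1 D50007) F38225 F37157 (iv3 F45990)
theorem F481274 : act 0 n204492 = n215727 := d20_4 F104291 D136859 D209726 (iv3 F454771) (iv3 D215727) (iv4 D177174) (iv1 F159162) (iv4 F393591) F393596 (iv1 D145315)
theorem F481275 : act 5 n215727 = n199081 := d17_3 (iv1 F432683) D204492 F481274 (iv4 D199081) F357705 D134350 D208455 F449429 (iv4 F432681)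
def n215728 : Q := act 5 n177174
theorem D215728 : act 5 n177174 = n215728 := rfl
theorem F481276 : act 2 n215728 = n212146 := d2_1 D215728 F464482 F357273
theorem F481277 : act 3 n215728 = n199081 := d6_1 D215728 (iv5 F481275) (iv3 D215727)
theorem F481278 : act 7 n215728 = n196917 := d13_2 (iv7 F357272) D215728 (iv5 D196917)
theorem F481279 : act 0 n215728 = n199547 := d17_2 F361889 D215728 F412625 F241581 (iv5 F323819) F323816 (iv5 F324913) F326748 D139716
theorem F481280 : act 1 n215728 = n203275 := d17_6 F350188 (iv5 D59946) D59944 (iv5 F341008) D177174 D215728 (iv5 D203275) (iv0 F353414) F353401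
theorem F481281 : act 6 n215728 = n206275 := d21_3 (iv5 D210784) F361889 D215728 (iv1 D206275) (iv6 D128043) (iv5 D60162) D60159 D128031 D206268 (iv1 F458781)
def n215729 : Q := act 5 n177183
theorem D215729 : act 5 n177183 = n215729 := rfl
theorem F481282 : act 3 n215729 = n177184 := d6_1 D215729 (iv5 D177184) D177183
theorem F481283 : act 4 n215729 = n188821 := d9_1 D215729 F375000 (iv4 F446366) F446365 F433969 (iv5 F434077) (iv4 F476865) F476869 F393140 F374266 (iv4 F374616) F374617 (iv4 F478653) F478654 (iv4 F346559)
theorem F481284 : act 7 n215729 = n188850 := d13_2 F464739 D215729 (iv5 F464737)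
def n215730 : Q := act 3 n177203
theorem D215730 : act 3 n177203 = n215730 := rfl
theorem F481285 : act 2 n215730 = n206195 := d0_1 D215730 (iv3 D206195) F318853 (iv3 F210574) F344129
theorem F481286 : act 4 n215730 = n212722 := d5_2 F409626 D215730 F467262 F384505 (iv3 F409625)
theorem F481287 : act 5 n215730 = n210847 := d6_2 F344130 D215730 F458998
theorem F481288 : act 6 n215730 = n181034 := d7_2 (iv6 F344133) D215730 (iv3 D181034)
theorem F481289 : act 7 n215730 = n197169 := d8_2 (iv7 F344132) D215730 F403373
theorem F481290 : act 0 n215730 = n204332 := d19_4 (iv1 F170751) D198863 F409626 D215730 F432083 F424266 (iv3 D187492) (iv1 F291385) F291386 (iv4 F142896) F374532 (iv1 D188714) (iv5 D92696) D92695 (iv3 F347477) (iv1 F348573) D194927 F395036 (iv3 D110660)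
theorem F481291 : act 0 n206245 = n215730 := d20_4 (iv4 F238339) (iv1 F361931) (iv4 F361929) (iv3 F439901) (iv3 D215730) (iv4 F409626) F409629 (iv4 D148275) (iv3 F184486) F316802
def n215731 : Q := act 6 n177245
theorem D215731 : act 6 n177245 = n215731 := rfl
theorem F481292 : act 2 n215731 = n177494 := d3_1 D215731 (iv6 F433686) (iv2 F433690)
theorem F481293 : act 3 n215731 = n210956 := d7_1 D215731 (iv6 F459476) F453090
theorem F481294 : act 4 n215731 = n177457 := d10_1 D215731 (iv6 D177457) (iv4 F276639)
theorem F481295 : act 5 n215731 = n197890 := d12_1 D215731 F406124 (iv5 D139021) (iv6 F317705) D177245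
theorem F481296 : act 0 n215731 = n200871 := d21_4 F406890 (iv1 F276604) D177245 D215731 (iv6 D200871) F409124 (iv1 D198761) (iv5 D110157) D110158 F406892
def n215732 : Q := act 2 n177368
theorem D215732 : act 2 n177368 = n215732 := rfl
theorem F481297 : act 3 n215732 = n196444 := d0_2 D177368 D215732 F400691 F351100 F321156
theorem F481298 : act 4 n215732 = n211311 := d1_2 F457488 D215732 F461070
theorem F481299 : act 5 n215732 = n199495 := d2_2 F333031 D215732 F412388
theorem F481300 : act 6 n215732 = n196442 := d3_2 (iv6 F333032) D215732 F400684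
theorem F481301 : act 7 n215732 = n196727 := d4_2 F425109 D215732 (iv2 F425106)
theorem F481302 : act 1 n215732 = n199252 := d15_0 (iv0 F425113) F425109 D215732
def n215733 : Q := act 0 n177389
theorem D215733 : act 0 n177389 = n215733 := rfl
theorem F481303 : act 5 n215733 = n200795 := d17_3 D215183 F478770 D215733 (iv4 F431812) F431816 F431841 (iv5 F480378) F480381 F345576
theorem F481304 : act 4 n215733 = n204281 := d18_1 D215733 (iv1 F431841) F412162 (iv5 F435668) (iv4 F479660) F479662 (iv4 F441631) F478774 F478770
theorem F481305 : act 3 n215733 = n177602 := d20_5 F122679 F296249 F129663 D177389 D215733 (iv4 D177602) (iv1 F334656) (iv4 F129713) F129712 F297489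
theorem F481306 : act 2 n205584 = n215733 := d15_3 (iv0 D215733) (iv0 F431594) (iv7 F437100)
theorem F481307 : act 1 n215114 = n215733 := d15_0 (iv0 D215733) (iv7 F363329) D215114
theorem F481308 : act 7 n215733 = n177634 := d15_2 (iv0 F478430) F481307 (iv2 F431591)
def n215734 : Q := act 2 n177389
theorem D215734 : act 2 n177389 = n215734 := rfl
theorem F481309 : act 3 n215734 = n202849 := d0_2 D177389 D215734 F425858 (iv3 D166624) (iv2 F296337)
theorem F481310 : act 4 n215734 = n204725 := d1_2 (iv4 F276772) D215734 F433400
theorem F481311 : act 5 n215734 = n206622 := d2_2 F478770 D215734 F478773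
theorem F481312 : act 6 n215734 = n189810 := d3_2 (iv6 F276773) D215734 (iv2 D189810)
theorem F481313 : act 7 n215734 = n215114 := d4_2 F363329 D215734 (iv2 D215114)
theorem F481314 : act 1 n215734 = n177634 := d15_0 (iv0 F366966) F363329 D215734
theorem F481315 : act 1 n205584 = n215734 := d15_0 F481314 (iv7 F481308) (iv2 F481306)
def n215735 : Q := act 3 n177408
theorem D215735 : act 3 n177408 = n215735 := rfl
theorem F481316 : act 2 n215735 = n215390 := d0_1 D215735 F479736 F474894 F358037 F361390
theorem F481317 : act 4 n215735 = n215320 := d5_2 F436813 D215735 (iv3 F479747) F479744 F436816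
theorem F481318 : act 5 n215735 = n205212 := d6_2 (iv5 F361392) D215735 F435462
theorem F481319 : act 6 n215735 = n190789 := d7_2 (iv6 F361395) D215735 (iv3 D190789)
theorem F481320 : act 7 n215735 = n200768 := d8_2 F361391 D215735 (iv3 D200768)
theorem F481321 : act 0 n215735 = n195086 := d19_4 (iv1 F455310) F455308 F436813 D215735 (iv5 D195086) (iv4 F395704) F395703 (iv1 D174239) D174242 (iv4 F411041) F411040 (iv1 D113348) D113349 D200696 (iv3 F417535) (iv1 D199620) D199621 (iv4 F478427) F478426
def n215736 : Q := act 6 n177446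
theorem D215736 : act 6 n177446 = n215736 := rfl
theorem F481322 : act 3 n215736 = n215115 := d7_1 D215736 F478435 F435248
theorem F481323 : act 4 n215736 = n203816 := d10_1 D215736 F429948 F355885
theorem F481324 : act 0 n215736 = n177636 := d21_4 (iv5 F342128) (iv1 F276863) D177446 D215736 (iv6 D177636) D177635 (iv1 F358033) D200720 F417625 (iv1 F342130)
theorem F481325 : act 0 n203882 = n215736 := d21_4 F434090 F383693 (iv5 F383883) F430222 (iv6 D215736) (iv5 D177446) (iv1 D84539) D84541 (iv6 F347463) (iv1 F434089)
def n215737 : Q := act 5 n177463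
theorem D215737 : act 5 n177463 = n215737 := rfl
theorem F481326 : act 3 n215737 = n206765 := d6_1 D215737 F442101 F361743
theorem F481327 : act 4 n215737 = n188798 := d9_1 D215737 (iv5 F470247) F470246 (iv5 F377077) F377076 D193305 (iv4 F389427) (iv5 F470993) F470992 (iv5 F469841) F469840 F352697 F220034 (iv5 F414758) F414757
theorem F481328 : act 6 n215737 = n189778 := d12_2 F409795 D215737 F436955 (iv6 D205549) (iv5 F409794)
theorem F481329 : act 7 n215737 = n213516 := d13_2 (iv7 F361744) D215737 F470800
theorem F481330 : act 1 n215737 = n208669 := d17_8 F377740 F377739 F364081 (iv5 F294414) F148512 (iv5 F129714) D177463 D215737 F450395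
theorem F481331 : act 0 n215737 = n193357 := d18_0 (iv4 F462171) F462173 (iv4 F442072) F442073 (iv4 F459544) F459547 F365118 D177463 D215737
def n215738 : Q := act 6 n177464
theorem D215738 : act 6 n177464 = n215738 := rfl
theorem F481332 : act 2 n215738 = n200514 := d3_1 D215738 (iv6 F459554) F459552
theorem F481333 : act 4 n215738 = n199012 := d10_1 D215738 F459534 (iv4 F459533)
theorem F481334 : act 7 n215738 = n177465 := d14_2 D177464 D215738 (iv6 D177465) (iv7 D84547) D84546
theorem F481335 : act 0 n198516 = n215738 := d21_4 (iv5 D200628) (iv1 F395542) F356026 (iv6 F408191) (iv6 D215738) F276876 (iv1 F395411) (iv5 F477447) (iv6 F478203) (iv1 F478205)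
def n215739 : Q := act 4 n177506
theorem D215739 : act 4 n177506 = n215739 := rfl
theorem F481336 : act 2 n215739 = n177984 := d1_1 D215739 F277531 (iv2 F302255)
theorem F481337 : act 6 n215739 = n198038 := d10_2 F363318 D215739 (iv4 D198038)
theorem F481338 : act 7 n215739 = n177987 := d11_2 (iv7 F302256) D215739 F277532
theorem F481339 : act 5 n215739 = n177768 := d16_1 D215739 (iv4 F282166) F282165 (iv4 D177789) (iv5 D84653) D84652 D177787 F277277 (iv2 F302255)
theorem F481340 : act 0 n215739 = n204618 := d17_0 (iv5 D204618) (iv1 D124051) D124053 F306752 (iv5 D84770) (iv0 F301765) D124217 (iv0 F276956) D215739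
theorem F481341 : act 1 n215739 = n204615 := d18_6 (iv1 F129869) F60165 F298655 (iv4 F129725) D177506 D215739 F433035 (iv0 F345324) F345327
def n215740 : Q := act 3 n177512
theorem D215740 : act 3 n177512 = n215740 := rfl
theorem F481342 : act 2 n215740 = n198661 := d0_1 D215740 F408756 (iv2 F400865) (iv3 F433794) F433793
theorem F481343 : act 4 n215740 = n198611 := d5_2 D177512 D215740 F430051 (iv4 F430048) (iv3 D177511)
theorem F481344 : act 6 n215740 = n198615 := d7_2 F478329 D215740 (iv3 F478327)
theorem F481345 : act 0 n215740 = n215537 := d19_4 F339279 (iv5 D177513) D177512 D215740 F480391 (iv4 D177631) (iv3 D84600) (iv1 D39072) D39074 D84609 F339095 (iv1 F427260) (iv5 D203165) F185500 (iv3 D54419) D54417 (iv5 F316236) (iv4 F318511) (iv3 F193113)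
theorem F481346 : act 0 n215379 = n215740 := d20_4 (iv4 D83297) D83295 (iv4 F272920) (iv3 F479677) (iv3 D215740) (iv4 D177512) (iv1 F199103) (iv4 F405463) F405462 (iv1 F272949)
theorem F481347 : act 5 n215740 = n204841 := d17_1 F481346 (iv1 F480369) F480366 F431820 F395194 (iv0 F392955) D202846 (iv0 F425844) (iv4 F479678)
def n215741 : Q := act 5 n177512
theorem D215741 : act 5 n177512 = n215741 := rfl
theorem F481348 : act 2 n215741 = n196875 := d2_1 D215741 (iv5 F433797) F433793
theorem F481349 : act 3 n215741 = n204841 := d6_1 D215741 (iv5 F481347) (iv3 D215740)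
theorem F481350 : act 6 n215741 = n205109 := d12_2 F478329 D215741 (iv5 D205109) (iv6 F411272) (iv5 F478328)
theorem F481351 : act 7 n215741 = n215740 := d13_2 F433791 D215741 F481347
theorem F481352 : act 4 n215741 = n198435 := d16_6 (iv4 F162223) D195491 (iv4 F397132) (iv5 D177513) D177512 D215741 F408742 (iv7 D198612) F169681
theorem F481353 : act 1 n215741 = n215538 := d17_6 (iv1 D121079) D121082 F339279 (iv5 D177513) D177512 D215741 F480395 F434883 (iv4 D203846)
def n215742 : Q := act 4 n177518
theorem D215742 : act 4 n177518 = n215742 := rfl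
theorem F481354 : act 2 n215742 = n214845 := d1_1 D215742 (iv4 D214845) (iv2 F341245)
theorem F481355 : act 3 n215742 = n211088 := d5_1 D215742 F460059 (iv3 D196842) D196843 F402020
theorem F481356 : act 5 n215742 = n196718 := d9_2 D177518 D215742 (iv4 F408527) (iv5 F408742) (iv4 F481352) (iv5 D215741) (iv4 D177512) D177513 F397132 (iv5 D195491) F162223 D109732 D198661 F408758 (iv4 D177517)
theorem F481357 : act 6 n215742 = n193416 := d10_2 (iv6 F339271) D215742 F389782
theorem F481358 : act 7 n215742 = n196717 := d11_2 F353972 D215742 (iv4 F401585)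
def n215743 : Q := act 3 n177531
theorem D215743 : act 3 n177531 = n215743 := rfl
theorem F481359 : act 4 n215743 = n205312 := d5_2 D177531 D215743 F478920 F478915 F349882
theorem F481360 : act 5 n215743 = n215391 := d6_2 (iv5 F345354) D215743 F479739
theorem F481361 : act 6 n215743 = n200131 := d7_2 (iv6 F414180) D215743 F415152
theorem F481362 : act 0 n186087 = n215743 := d20_4 F299377 (iv1 F298070) D88650 D186087 (iv3 D215743) (iv4 D177531) (iv1 D84571) (iv4 F128344) (iv3 D83272) (iv1 F128336)
def n215744 : Q := act 5 n177547
theorem D215744 : act 5 n177547 = n215744 := rfl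
theorem F481363 : act 3 n215744 = n177549 := d6_1 D215744 (iv5 D177549) D177547
theorem F481364 : act 6 n215744 = n201185 := d12_2 (iv6 F403538) D215744 (iv5 F466224) (iv6 D212519) (iv5 F403532)
theorem F481365 : act 7 n215744 = n211928 := d13_2 F338329 D215744 F463620
theorem F481366 : act 4 n215744 = n211931 := d18_5 F341250 D163069 (iv1 F353976) F353977 D215744 F477162 (iv4 D214856) F351013 (iv5 D125441)
theorem F481367 : act 0 n215744 = n177663 := d21_1 D215744 (iv5 F406367) (iv6 D197980) (iv1 D108830) D108833 (iv5 F346272) (iv1 F346260) F346262 (iv6 F479673) F479675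
def n215745 : Q := act 4 n177558
theorem D215745 : act 4 n177558 = n215745 := rfl
theorem F481368 : act 2 n215745 = n180628 := d1_1 D215745 (iv4 F336523) (iv2 F357786)
theorem F481369 : act 3 n215745 = n193504 := d5_1 D215745 (iv4 F435277) F435276 (iv4 F435293) F435292
theorem F481370 : act 6 n215745 = n205433 := d10_2 (iv6 F435285) D215745 F436396
theorem F481371 : act 7 n215745 = n180622 := d11_2 (iv7 F357784) D215745 (iv4 F357782)
theorem F481372 : act 5 n215745 = n193503 := d17_5 F417116 D203831 (iv1 F430015) F406731 D215745 F480861 F480858 (iv0 F474613) (iv4 F417114)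
theorem F481373 : act 0 n215745 = n180626 := d17_0 (iv5 F438049) F438048 (iv5 F433775) F433778 (iv5 F417119) F417122 F401298 F277004 D215745
theorem F481374 : act 1 n215745 = n180625 := d18_8 (iv1 F471398) F471394 (iv1 F440529) F440525 (iv5 D163043) (iv4 F257377) F277004 D215745 F355477
def n215746 : Q := act 4 n177560
theorem D215746 : act 4 n177560 = n215746 := rfl
theorem F481375 : act 2 n215746 = n199498 := d1_1 D215746 F412405 F357895
theorem F481376 : act 3 n215746 = n199590 := d5_1 D215746 (iv4 F440284) F440279 F341673 (iv3 F277007)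
theorem F481377 : act 5 n215746 = n196463 := d9_2 D177560 D215746 F400755 (iv5 F440526) F440525 (iv5 D163043) (iv4 F257377) (iv5 F401298) F401297 (iv5 F358702) (iv4 F410948) F410949 (iv4 D177563) (iv5 D84583) D84582
theorem F481378 : act 7 n215746 = n196770 := d11_2 (iv7 F277008) D215746 F401739
theorem F481379 : act 0 n215746 = n196872 := d17_0 (iv5 F406834) F393819 F393820 (iv4 F401274) F430009 F430007 (iv5 F395572) (iv0 F395574) D215746
theorem F481380 : act 1 n215746 = n199538 := d18_6 F430127 F327957 (iv1 F338321) D84582 D177560 D215746 (iv4 F477083) F477087 F441607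
def n215747 : Q := act 6 n177560
theorem D215747 : act 6 n177560 = n215747 := rfl
theorem F481381 : act 2 n215747 = n198896 := d3_1 D215747 F409781 F357895
theorem F481382 : act 3 n215747 = n203834 := d7_1 D215747 F430027 (iv3 F277007)
theorem F481383 : act 5 n215747 = n200874 := d12_1 D215747 F430523 (iv5 D203945) F194213 D177560
theorem F481384 : act 7 n215747 = n200873 := d14_2 (iv7 F277008) D215747 (iv6 F446283) F446284 F441636
theorem F481385 : act 0 n215747 = n205265 := d21_4 F429412 F338777 D177560 D215747 (iv6 D205265) (iv5 F406727) (iv1 D198082) (iv5 D108907) D108908 D198084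
theorem F481386 : act 1 n215747 = n205296 := d15_1 (iv0 F481385) (iv7 D205296) (iv2 F435667)
def n215748 : Q := act 5 n177582
theorem D215748 : act 5 n177582 = n215748 := rfl
theorem F481387 : act 2 n215748 = n193620 := d2_1 D215748 F390472 F353258
theorem F481388 : act 6 n215748 = n190677 := d12_2 (iv6 F336521) D215748 (iv5 D190677) (iv6 D96376) D96375
theorem F481389 : act 7 n215748 = n214742 := d13_2 (iv7 F353259) D215748 (iv5 D214742)
theorem F481390 : act 4 n215748 = n196773 := d16_2 F336520 D215748 F401749 (iv4 F406420) (iv5 F406421) (iv4 F477142) (iv5 D214850) (iv7 F436403) F436401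
theorem F481391 : act 0 n215748 = n203841 := d17_2 (iv1 F277034) D215748 (iv5 D203841) F193051 F313860 (iv0 F333974) (iv5 D147385) (iv0 F333962) (iv4 F257340)
theorem F481392 : act 1 n215748 = n214825 := d17_6 (iv1 F415420) (iv5 F440139) F465943 (iv5 D212468) F336520 D215748 (iv5 D214825) F430045 (iv4 F430046)
def n215749 : Q := act 5 n177601
theorem D215749 : act 5 n177601 = n215749 := rfl
theorem F481393 : act 3 n215749 = n177603 := d6_1 D215749 (iv5 D177603) D177601
theorem F481394 : act 6 n215749 = n181796 := d12_2 F428697 D215749 F428695 F428692 (iv5 F428690)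
theorem F481395 : act 7 n215749 = n177632 := d13_2 (iv7 F277067) D215749 (iv5 D177632)
theorem F481396 : act 0 n215749 = n193415 := d17_2 (iv1 F403545) D215749 F409549 F409547 (iv5 F431769) (iv0 F431771) (iv5 D163073) (iv0 F329865) F329866
theorem F481397 : act 0 n206330 = n215749 := d19_0 (iv5 D215749) (iv4 F434878) (iv3 F434881) (iv1 F431841) (iv5 F431816) F431812 F417931 F345761 F345741 (iv4 F354768) (iv3 F441686) F480832 F480829 F392812 (iv3 F159197) (iv1 F393355) (iv5 F440311) F440310 (iv3 F440275)
def n215750 : Q := act 3 n177612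
theorem D215750 : act 3 n177612 = n215750 := rfl
theorem F481398 : act 2 n215750 = n200768 := d0_1 D215750 (iv3 D200768) (iv2 F361376) (iv3 F435276) F435275
theorem F481399 : act 4 n215750 = n214848 := d5_2 (iv4 F277078) D215750 (iv3 D214848) (iv4 D163092) D163091
theorem F481400 : act 5 n215750 = n205209 := d6_2 (iv5 F339193) D215750 F435456
theorem F481401 : act 7 n215750 = n215390 := d8_2 F474896 D215750 F479736
theorem F481402 : act 0 n195086 = n215750 := d20_4 (iv4 D209932) (iv1 F417649) (iv4 F436083) (iv3 F436084) (iv3 D215750) F277078 (iv1 F436439) F436435 F402415 (iv1 F455416)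
def n215751 : Q := act 5 n177628
theorem D215751 : act 5 n177628 = n215751 := rfl
theorem F481403 : act 2 n215751 = n211928 := d2_1 D215751 F463620 F351048
theorem F481404 : act 3 n215751 = n198850 := d6_1 D215751 F409560 (iv3 F351047)
theorem F481405 : act 6 n215751 = n198831 := d12_2 F351049 D215751 F409463 (iv6 F353241) F258618
theorem F481406 : act 1 n215751 = n177663 := d17_6 (iv1 D198011) D198012 F406509 F353987 F353986 D215751 (iv5 F406367) F430025 F430024
theorem F481407 : act 4 n215751 = n211926 := d18_5 (iv1 D121079) F304242 (iv1 F353984) F353986 D215751 (iv0 F463610) F244884 D155918 (iv5 F337698)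
def n215752 : Q := act 5 n177630
theorem D215752 : act 5 n177630 = n215752 := rfl
theorem F481408 : act 2 n215752 = n177632 := d2_1 D215752 (iv5 D177632) D177630
theorem F481409 : act 3 n215752 = n202314 := d6_1 D215752 F423604 (iv3 F362462)
theorem F481410 : act 6 n215752 = n202312 := d12_2 F362463 D215752 (iv5 F423595) (iv6 F368049) F368050
theorem F481411 : act 0 n215752 = n206330 := d17_2 F403543 D215752 F440277 F430024 (iv5 F477116) F477114 F459470 F353991 (iv4 F403541)
theorem F481412 : act 1 n215752 = n193415 := d17_6 (iv1 F479708) (iv5 F408758) F480398 F480395 (iv4 F434886) D215752 F409549 (iv0 F409550) (iv4 F479705)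
def n215753 : Q := act 6 n177631
theorem D215753 : act 6 n177631 = n215753 := rfl
theorem F481413 : act 2 n215753 = n180485 := d3_1 D215753 (iv6 F434888) F434887
theorem F481414 : act 3 n215753 = n198246 := d7_1 D215753 F412171 F412168
theorem F481415 : act 4 n215753 = n177633 := d10_1 D215753 (iv6 D177633) D177631
theorem F481416 : act 0 n215753 = n197801 := d21_10 F405838 (iv1 F387679) F372884 F342048 (iv1 F400848) (iv6 F433790) (iv5 F481347) F481345 F480391 D215753
theorem F481417 : act 5 n188252 = n215753 := d21_2 F348605 (iv1 F372853) (iv6 D215753) (iv1 F363842) (iv6 D160585) D160584 (iv1 F476332) F476334 F363196 (iv1 F304019)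
theorem F481418 : act 0 n203820 = n215753 := d21_4 F479622 F476299 (iv5 D214666) (iv6 F429967) (iv6 D215753) (iv5 F480391) F480392 (iv5 F433797) F433795 (iv1 F479620)
theorem F481419 : act 7 n215753 = n198255 := d13_2 (iv7 F372851) F481417 (iv5 F407366)
def n215754 : Q := act 5 n177636
theorem D215754 : act 5 n177636 = n215754 := rfl
theorem F481420 : act 2 n215754 = n214909 := d2_1 D215754 F477385 F417726
theorem F481421 : act 3 n215754 = n214766 := d6_1 D215754 F476728 F364115
theorem F481422 : act 6 n215754 = n200809 := d12_2 D177636 D215754 F417997 (iv6 F358030) (iv5 D177635)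
theorem F481423 : act 7 n215754 = n207480 := d13_2 F447228 D215754 F447229
def n215755 : Q := act 2 n177663
theorem D215755 : act 2 n177663 = n215755 := rfl
theorem F481424 : act 3 n215755 = n202168 := d0_2 D177663 D215755 F423104 (iv3 F416591) F342325
theorem F481425 : act 5 n215755 = n205971 := d2_2 F406367 D215755 F438655
theorem F481426 : act 6 n215755 = n197132 := d3_2 (iv6 F362009) D215755 F403186
theorem F481427 : act 0 n215755 = n211928 := d21_4 (iv5 F396883) (iv1 F396885) D197132 (iv6 F481426) (iv6 D211928) F227229 (iv1 F175440) (iv5 F397165) F397169 (iv1 F392855)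
def n215756 : Q := act 4 n177663
theorem D215756 : act 4 n177663 = n215756 := rfl
theorem F481428 : act 6 n215756 = n205912 := d10_2 (iv6 F362009) D215756 (iv4 D205912)
theorem F481429 : act 5 n215756 = n194371 := d16_3 F479705 F406367 D215756 F392962 (iv5 F160648) (iv4 F395205) (iv5 F395206) F273789 D215384
theorem F481430 : act 0 n215756 = n214680 := d18_2 F481367 D215756 (iv4 D214680) (iv5 D160588) (iv4 F253666) F363842 (iv4 D177631) (iv0 F360141) D215744
theorem F481431 : act 1 n215756 = n214843 := d18_6 D84565 D177512 (iv1 F479707) F479705 F406367 D215756 (iv4 D214843) F339266 F119633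
def n215757 : Q := act 2 n177700
theorem D215757 : act 2 n177700 = n215757 := rfl
theorem F481432 : act 3 n215757 = n205947 := d0_2 D177700 D215757 F438534 F414718 F324483
theorem F481433 : act 4 n215757 = n208074 := d1_2 F443634 D215757 F447767
theorem F481434 : act 5 n215757 = n198746 := d2_2 F322507 D215757 (iv2 D198746)
theorem F481435 : act 6 n215757 = n205946 := d3_2 F366083 D215757 F438529
theorem F481436 : act 7 n215757 = n178938 := d4_2 (iv7 F313877) D215757 F278808
theorem F481437 : act 1 n215757 = n178939 := d15_0 (iv0 D178939) (iv7 F313877) D215757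
theorem F481438 : act 1 n178940 = n215757 := d15_0 F481437 (iv7 F414057) F414054
def n215758 : Q := act 4 n177717
theorem D215758 : act 4 n177717 = n215758 := rfl
theorem F481439 : act 2 n215758 = n210266 := d1_1 D215758 (iv4 D210266) (iv2 F363152)
theorem F481440 : act 3 n215758 = n208380 := d5_1 D215758 F449147 F437277 D205642 F437318
theorem F481441 : act 6 n215758 = n210252 := d10_2 F356326 D215758 (iv4 D210252)
theorem F481442 : act 7 n215758 = n210265 := d11_2 F363154 D215758 (iv4 D210265)
theorem F481443 : act 0 n215758 = n193360 := d18_2 (iv1 F356284) D215758 (iv4 D193360) D193361 F389576 F444469 F444466 (iv0 F454239) F454237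
theorem F481444 : act 1 n215758 = n191700 := d18_6 F332409 (iv4 F108068) (iv1 F307618) F310234 D177717 D215758 F384200 F385396 F385395
def n215759 : Q := act 5 n177729
theorem D215759 : act 5 n177729 = n215759 := rfl
theorem F481445 : act 2 n215759 = n191498 := d2_1 D215759 (iv5 D191498) (iv2 F340210)
theorem F481446 : act 3 n215759 = n177731 := d6_1 D215759 (iv5 D177731) D177729
theorem F481447 : act 4 n215759 = n213202 := d9_1 D215759 F469426 D213933 F472787 (iv4 F438034) F438035 (iv4 F321380) (iv5 F392055) (iv4 F472774) (iv5 D213931) D213930 F472768 F460854 F438105 (iv4 F277181)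
theorem F481448 : act 6 n215759 = n213099 := d12_2 F431546 D215759 (iv5 D213099) (iv6 F454224) F454223
theorem F481449 : act 7 n215759 = n191496 := d13_2 (iv7 F340203) D215759 (iv5 D191496)
theorem F481450 : act 0 n215759 = n213010 := d17_2 (iv1 F340213) D215759 (iv5 D213010) (iv4 F366445) F428549 F428547 F270082 F187749 F310881
def n215760 : Q := act 6 n177731
theorem D215760 : act 6 n177731 = n215760 := rfl
theorem F481451 : act 3 n215760 = n213099 := d7_1 D215760 (iv6 F481448) F481446
theorem F481452 : act 5 n215760 = n192762 := d12_1 D215760 F387690 (iv5 F337494) F337510 D177731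
def n215761 : Q := act 3 n177734
theorem D215761 : act 3 n177734 = n215761 := rfl
theorem F481453 : act 2 n215761 = n191500 := d0_1 D215761 (iv3 F470646) F470645 (iv3 F433179) (iv2 F433167)
theorem F481454 : act 5 n215761 = n192302 := d6_2 (iv5 F338080) D215761 F386367
theorem F481455 : act 7 n215761 = n191499 := d8_2 F433170 D215761 F433180
theorem F481456 : act 4 n215761 = n213935 := d20_6 (iv4 F338054) F455160 F455157 (iv3 F428222) (iv1 F428225) D215761 (iv1 D213935) F388326 F388320 F338057
theorem F481457 : act 0 n215761 = n191495 := d20_10 (iv4 F472590) F472591 (iv4 D184952) (iv3 D88171) (iv1 F308279) (iv3 F241689) D213483 (iv1 F471160) F471163 D215761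
theorem F481458 : act 0 n191501 = n215761 := d20_4 D175525 (iv1 F383595) F383593 (iv3 F383589) (iv3 D215761) (iv4 F471163) (iv1 D213586) F354907 F128830 D83809
def n215762 : Q := act 6 n177734
theorem D215762 : act 6 n177734 = n215762 := rfl
theorem F481459 : act 4 n215762 = n213651 := d10_1 D215762 (iv6 F471454) F471163
theorem F481460 : act 5 n215762 = n204111 := d12_1 D215762 (iv6 D204111) (iv5 D122686) D122687 (iv5 F338080)
theorem F481461 : act 0 n215762 = n210630 := d20_1 (iv4 F481459) (iv4 D210630) F222641 D139456 (iv3 F369079) F369080 F370380 (iv4 F361676) D193796 (iv1 F471459)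
def n215763 : Q := act 4 n177745
theorem D215763 : act 4 n177745 = n215763 := rfl
theorem F481462 : act 2 n215763 = n177882 := d1_1 D215763 (iv4 D177882) (iv2 F289829)
theorem F481463 : act 7 n215763 = n177866 := d11_2 (iv7 F289830) D215763 (iv4 D177866)
theorem F481464 : act 0 n215763 = n193833 := d18_2 F290051 D215763 (iv4 D193833) F356392 (iv4 F356388) (iv0 F394021) F394019 (iv0 F335635) F335638
theorem F481465 : act 1 n215763 = n193831 := d18_6 D47499 F289630 F289609 F289756 D177745 D215763 (iv4 D193831) (iv0 D102377) (iv5 D47502)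
theorem F481466 : act 6 n213968 = n215763 := d3_0 F481462 F469431 (iv2 F472925)
def n215764 : Q := act 6 n177745
theorem D215764 : act 6 n177745 = n215764 := rfl
theorem F481467 : act 2 n215764 = n177883 := d3_1 D215764 (iv6 D177883) (iv2 F289829)
theorem F481468 : act 3 n215764 = n192555 := d7_1 D215764 (iv6 D192555) F290089
theorem F481469 : act 4 n215764 = n213968 := d10_1 D215764 F481466 (iv4 D215763)
theorem F481470 : act 5 n215764 = n187476 := d12_1 D215764 (iv6 D187476) (iv5 D90228) F293254 D177745
theorem F481471 : act 0 n215764 = n210403 := d21_4 F129921 (iv1 F129805) D177745 D215764 (iv6 D210403) (iv5 D138635) (iv1 F172388) (iv5 F222644) (iv6 F343239) (iv1 F277191)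
theorem F481472 : act 0 n177923 = n215764 := d21_4 (iv5 F263592) F304392 F301822 D177923 (iv6 D215764) (iv5 D177745) (iv1 D84633) D84634 F129807 D84642
theorem F481473 : act 7 n208851 = n215764 := d13_0 F481470 (iv7 F370507) D208851
def n215765 : Q := act 4 n177747
theorem D215765 : act 4 n177747 = n215765 := rfl
theorem F481474 : act 2 n215765 = n177889 := d1_1 D215765 (iv4 D177889) (iv2 F277422)
theorem F481475 : act 3 n215765 = n193807 := d5_1 D215765 (iv4 D193807) (iv3 D102357) F137261 F362122
theorem F481476 : act 6 n215765 = n210549 := d10_2 (iv6 F343239) D215765 F457997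
theorem F481477 : act 7 n215765 = n177892 := d11_2 (iv7 F277420) D215765 (iv4 D177892)
theorem F481478 : act 0 n215765 = n193827 := d18_2 D177747 D215765 (iv4 D193827) (iv5 D102371) F289630 F289610 F74400 F289723 D84634
theorem F481479 : act 1 n215765 = n192216 := d18_6 (iv1 F356401) F295452 F356196 F343856 F335649 D215765 (iv4 D192216) F336648 D185215
theorem F481480 : act 4 n203111 = n185229 := d20_6 (iv4 D177748) D177747 D215765 F481475 F472184 F472182 (iv1 D185229) (iv4 F287536) (iv3 D185219) (iv1 F357249)
theorem F481481 : act 2 n185229 = n201568 := d1_1 F481480 F420951 (iv2 F427014)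
theorem F481482 : act 6 n185229 = n201464 := d10_2 D203111 F481480 F420607
def n215766 : Q := act 0 n177748
theorem D215766 : act 0 n177748 = n215766 := rfl
theorem F481483 : act 4 n215766 = n183865 := d18_3 F268930 D177748 D215766 (iv5 F368953) F368952 F357224 F295314 F277394 D171183
theorem F481484 : act 2 n177894 = n215766 := d15_3 (iv0 D215766) F357249 (iv7 F362119)
theorem F481485 : act 1 n177898 = n215766 := d15_0 (iv0 D215766) (iv7 F391244) F391243
theorem F481486 : act 7 n215766 = n177895 := d15_2 (iv0 F343893) F481485 F336769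
theorem F481487 : act 6 n215766 = n210639 := d3_2 F457992 F481484 (iv2 F458288)
def n215767 : Q := act 6 n177760
theorem D215767 : act 6 n177760 = n215767 := rfl
theorem F481488 : act 2 n215767 = n177952 := d3_1 D215767 (iv6 D177952) (iv2 F277218)
theorem F481489 : act 4 n215767 = n177761 := d10_1 D215767 (iv6 D177761) D177760
def n215768 : Q := act 0 n177761
theorem D215768 : act 0 n177761 = n215768 := rfl
theorem F481490 : act 6 n215768 = n208856 := d21_5 F60134 (iv1 F60094) D84640 D177761 D215768 F451128 F431227 F431224 F350267 (iv1 F129837)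
theorem F481491 : act 2 n177953 = n215768 := d15_3 (iv0 D215768) (iv0 F458513) F458512
theorem F481492 : act 1 n177955 = n215768 := d15_0 (iv0 D215768) (iv7 F460710) F460708
theorem F481493 : act 7 n215768 = n177954 := d15_2 (iv0 F458514) F481492 (iv2 F458509)
def n215769 : Q := act 3 n177763
theorem D215769 : act 3 n177763 = n215769 := rfl
theorem F481494 : act 4 n215769 = n193572 := d5_2 D177763 D215769 (iv3 D193572) F338083 (iv3 D177762)
theorem F481495 : act 6 n215769 = n213182 := d7_2 F449637 D215769 F469362
theorem F481496 : act 7 n215769 = n177977 := d8_2 (iv7 F277223) D215769 (iv3 D177977)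
theorem F481497 : act 0 n215769 = n203618 := d19_4 (iv1 F263595) F263592 D177763 D215769 F429103 (iv4 F416260) F416259 F391893 (iv5 F478476) F478475 (iv3 D190151) (iv1 F149587) F149584 F317069 (iv3 F206438) (iv1 F337887) F337874 (iv4 F332463) (iv3 F332465)
def n215770 : Q := act 5 n177763
theorem D215770 : act 5 n177763 = n215770 := rfl
theorem F481498 : act 2 n215770 = n177965 := d2_1 D215770 (iv5 D177965) (iv2 F277222)
theorem F481499 : act 4 n215770 = n177795 := d9_1 D215770 (iv5 D177795) F158035 (iv5 F158033) F123434 F129832 D177766 F400921 F400919 F345327 F325636 F325327 (iv4 F263591) F263592 D177763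
theorem F481500 : act 6 n215770 = n213937 := d12_2 F449637 D215770 (iv5 F472807) F458019 (iv5 F449636)
theorem F481501 : act 7 n215770 = n177978 := d13_2 (iv7 F277223) D215770 (iv5 D177978)
theorem F481502 : act 0 n215770 = n196522 := d17_2 F303657 D215770 (iv5 F400961) (iv4 F302311) (iv5 D120482) (iv0 F304029) F304030 F198421 D124042
def n215771 : Q := act 6 n177766
theorem D215771 : act 6 n177766 = n215771 := rfl
theorem F481503 : act 2 n215771 = n177979 := d3_1 D215771 (iv6 D177979) (iv2 F277228)
theorem F481504 : act 3 n215771 = n202214 := d7_1 D215771 F423268 F400923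
theorem F481505 : act 4 n215771 = n177767 := d10_1 D215771 (iv6 D177767) D177766
theorem F481506 : act 5 n215771 = n202211 := d12_1 D215771 (iv6 D202211) F179772 D196513 (iv5 F400921)
def n215772 : Q := act 0 n177767
theorem D215772 : act 0 n177767 = n215772 := rfl
theorem F481507 : act 6 n215772 = n210638 := d21_5 (iv5 F301822) F301820 F129832 D177767 D215772 F458286 (iv1 F343243) F305165 (iv6 D84713) (iv1 F129934)
theorem F481508 : act 2 n177980 = n215772 := d15_3 (iv0 D215772) (iv0 F457427) (iv7 F457429)
theorem F481509 : act 1 n177982 = n215772 := d15_0 (iv0 D215772) F421404 (iv2 F421403)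
theorem F481510 : act 7 n215772 = n177981 := d15_2 (iv0 F457428) F481509 (iv2 F457426)
theorem F481511 : act 3 n210630 = n215772 := d7_3 F481507 F475219 F475221
theorem F481512 : act 4 n215772 = n210640 := d5_2 D210630 F481511 (iv3 D210640) (iv4 D139457) (iv3 F222641)
def n215773 : Q := act 3 n177768
theorem D215773 : act 3 n177768 = n215773 := rfl
theorem F481513 : act 7 n215773 = n177986 := d8_2 (iv7 F277238) D215773 (iv3 D177986)
def n215774 : Q := act 5 n177769
theorem D215774 : act 5 n177769 = n215774 := rfl
theorem F481514 : act 2 n215774 = n177987 := d2_1 D215774 (iv5 D177987) F277235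
theorem F481515 : act 3 n215774 = n210732 := d6_1 D215774 F458627 F364087
theorem F481516 : act 4 n215774 = n177787 := d9_1 D215774 (iv5 D177787) (iv4 D84652) D84653 D177789 (iv5 F282165) F282166 (iv5 F481339) (iv4 D215739) (iv5 D177506) F129725 (iv5 F299674) (iv4 F89746) (iv5 F308331) (iv4 F310414)
theorem F481517 : act 7 n215774 = n177984 := d13_2 F277236 D215774 (iv5 D177984)
theorem F481518 : act 0 n215774 = n204615 := d17_2 (iv1 F277233) D215774 (iv5 D204615) F306747 F153925 (iv0 F153926) F129832 F129831 (iv4 F129947)
theorem F481519 : act 1 n215774 = n204618 := d17_6 (iv1 F304761) (iv5 F191579) F302438 (iv5 F308331) (iv4 F310414) D215774 (iv5 D204618) F306748 (iv4 D84765)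
theorem F481520 : act 6 n215774 = n210731 := d21_9 F424050 D214603 F476006 F422432 F246212 (iv6 F349755) F277309 (iv1 F277233) D215774 F458623
def n215775 : Q := act 0 n177770
theorem D215775 : act 0 n177770 = n215775 := rfl
theorem F481521 : act 4 n215775 = n185216 := d18_3 F343231 (iv4 F391061) D215775 (iv5 F411835) F411834 F406348 (iv4 F364408) (iv0 D138630) D138632
theorem F481522 : act 1 n204470 = n215775 := d15_0 (iv0 D215775) (iv7 F433183) (iv2 F433184)
theorem F481523 : act 2 n185221 = n215775 := d1_3 F481521 F287535 (iv4 F287537)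
theorem F481524 : act 6 n177895 = n215775 := d10_0 F481521 (iv6 D185216) (iv4 F336770)
def n215776 : Q := act 1 n177770
theorem D215776 : act 1 n177770 = n215776 := rfl
theorem F481525 : act 1 n215776 = n204470 := d15_1 D215776 (iv7 F449619) F449617
theorem F481526 : act 7 n215776 = n185221 := d15_2 (iv0 D215775) D215776 F481523
theorem F481527 : act 4 n215776 = n185227 := d18_7 (iv1 F90901) F90898 (iv1 F90380) D57719 D123872 (iv4 F391061) D215776 F353710 (iv5 D123825)
theorem F481528 : act 6 n199292 = n215776 := d10_0 F481527 F352340 D199292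
theorem F481529 : act 5 n196565 = n215776 := d16_1 (iv4 F401092) F481527 (iv5 F353707) F172404 (iv5 F329808) (iv4 F410546) (iv5 F415073) (iv7 D200114) (iv2 F182552)
def n215777 : Q := act 5 n177770
theorem D215777 : act 5 n177770 = n215777 := rfl
theorem F481530 : act 3 n215777 = n177771 := d6_1 D215777 (iv5 D177771) D177770
theorem F481531 : act 7 n215777 = n178164 := d13_2 F433183 D215777 (iv5 F433182)
theorem F481532 : act 4 n215777 = n204477 := d16_2 (iv4 F391061) D215777 (iv5 D204477) (iv4 D123857) (iv5 D57715) D57714 D123852 F343234 (iv2 F341435)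
theorem F481533 : act 0 n215777 = n204463 := d17_2 (iv1 D215776) D215777 (iv5 D204463) (iv4 D123834) (iv5 D57710) D57709 D123830 (iv0 F353711) (iv4 F481527)
theorem F481534 : act 1 n215777 = n204497 := d17_6 F431119 F341424 (iv1 F198312) D123872 (iv4 F391061) D215777 (iv5 F432721) F432724 F432603
def n215778 : Q := act 6 n177771
theorem D215778 : act 6 n177771 = n215778 := rfl
theorem F481535 : act 2 n215778 = n177996 := d3_1 D215778 (iv6 D177996) (iv2 F277240)
theorem F481536 : act 4 n215778 = n178169 := d10_1 D215778 (iv6 D178169) (iv4 F277241)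
theorem F481537 : act 0 n213273 = n215778 := d21_4 (iv5 D210641) D210639 F458289 (iv6 F469660) (iv6 D215778) (iv5 D177771) D177768 (iv5 F481339) F481337 (iv1 F458294)
theorem F481538 : act 1 n213274 = n215778 := d15_0 (iv0 F481537) F469661 (iv2 F469662)
def n215779 : Q := act 3 n177796
theorem D215779 : act 3 n177796 = n215779 := rfl
theorem F481539 : act 2 n215779 = n189930 := d0_1 D215779 (iv3 D189930) (iv2 F378234) F433195 F433201
theorem F481540 : act 4 n215779 = n189940 := d5_2 F435655 D215779 (iv3 F380410) (iv4 F440738) F440735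
def n215780 : Q := act 5 n177796
theorem D215780 : act 5 n177796 = n215780 := rfl
theorem F481541 : act 4 n215780 = n205853 := d16_4 (iv4 F418941) (iv5 F435656) F435655 D215780 (iv5 F453950) F453949 (iv5 D209127) (iv7 F418931) F418926
theorem F481542 : act 1 n215780 = n204673 := d17_6 (iv1 D207114) D207115 F443393 (iv5 F435656) F435655 D215780 (iv5 D204673) (iv0 F452104) F452105
theorem F481543 : act 6 n215780 = n205852 := d21_9 F459248 (iv1 F456333) (iv5 D137670) (iv6 F338934) (iv1 F453934) F453938 (iv5 D177799) D177796 D215780 (iv1 F459246)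
theorem F481544 : act 0 n215780 = n193206 := d21_4 D193254 (iv1 F412874) (iv5 F438146) (iv6 F481543) (iv6 D193206) F360571 (iv1 F344009) (iv5 F338938) F350378 (iv1 F345472)
def n215781 : Q := act 4 n177797
theorem D215781 : act 4 n177797 = n215781 := rfl
theorem F481545 : act 2 n215781 = n195050 := d1_1 D215781 F433878 (iv2 F433200)
theorem F481546 : act 3 n215781 = n194798 := d5_1 D215781 (iv4 D194798) (iv3 F160468) D194915 F394983
theorem F481547 : act 6 n215781 = n215536 := d10_2 (iv6 F394985) D215781 (iv4 D215536)
theorem F481548 : act 7 n215781 = n195051 := d11_2 F433199 D215781 F433196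
theorem F481549 : act 5 n215781 = n206556 := d16_1 D215781 F441316 D209127 (iv4 F453949) F453950 (iv4 F481541) (iv5 D215780) F433202 (iv2 F433200)
theorem F481550 : act 0 n215781 = n195053 := d17_0 F445074 (iv1 D207469) (iv5 F436859) (iv4 F476133) F476134 (iv0 F470338) (iv5 D177799) D177797 D215781
theorem F481551 : act 0 n195049 = n215781 := d20_10 (iv4 D215781) (iv1 D177797) (iv4 F199181) (iv3 D124519) F122173 D165604 F260877 D165611 F348166 (iv3 F395576)
def n215782 : Q := act 5 n177797
theorem D215782 : act 5 n177797 = n215782 := rfl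
theorem F481552 : act 4 n215782 = n209678 := d9_1 D215782 F469768 (iv4 F469770) (iv5 D201062) (iv4 F418941) (iv5 F435656) F435655 D215780 F481541 (iv5 F453950) F453949 (iv5 D209127) (iv4 F441316) (iv5 F481549) (iv4 D215781)
theorem F481553 : act 0 n215782 = n204673 := d18_0 (iv4 F474138) F474141 (iv4 F406164) (iv5 D197904) (iv4 F406140) (iv0 F406144) F199181 D177797 D215782
theorem F481554 : act 0 n193206 = n215782 := d21_10 (iv5 D215782) (iv1 D177797) D177799 (iv6 F453938) (iv1 D209499) (iv6 F338914) (iv5 F338953) (iv1 F344007) (iv5 F360571) D193206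
theorem F481555 : act 6 n193291 = n215782 := d21_5 F219648 F387462 (iv5 F389373) (iv6 F459538) (iv1 F459542) (iv5 D215782) (iv1 D177797) D177799 (iv6 F453938) (iv1 D209499)
def n215783 : Q := act 5 n177798
theorem D215783 : act 5 n177798 = n215783 := rfl
theorem F481556 : act 2 n215783 = n177799 := d2_1 D215783 (iv5 D177799) D177798
theorem F481557 : act 3 n215783 = n178153 := d6_1 D215783 (iv5 D178153) (iv3 F277296)
theorem F481558 : act 0 n215783 = n193237 := d18_0 F389275 F405227 (iv4 F405223) F405224 F172636 D195051 F433196 (iv0 F433198) D215783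
theorem F481559 : act 4 n193232 = n215783 := d17_9 F481558 (iv5 F429425) F452104 D204673 (iv4 F474138) F474139 (iv0 D189577) (iv5 F156183) D193232
theorem F481560 : act 6 n215783 = n196474 := d10_2 F454779 F481559 (iv4 F453651)
def n215784 : Q := act 6 n177822
theorem D215784 : act 6 n177822 = n215784 := rfl
theorem F481561 : act 2 n215784 = n215215 := d3_1 D215784 F478910 F319024
theorem F481562 : act 3 n215784 = n177825 := d7_1 D215784 (iv6 D177825) D177822
theorem F481563 : act 4 n215784 = n203836 := d10_1 D215784 F430040 (iv4 F277347)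
theorem F481564 : act 7 n215784 = n208910 := d14_2 (iv7 F281935) D215784 (iv6 D208910) (iv7 F354630) (iv6 F366732)
theorem F481565 : act 0 n215784 = n207098 := d21_10 F469789 (iv1 D213297) (iv5 D153362) (iv6 D72456) F90059 (iv6 F309266) D151508 (iv1 F454158) F454156 D215784
theorem F481566 : act 0 n207097 = n215784 := d21_4 (iv5 F355887) F454259 F454257 (iv6 F443302) (iv6 D215784) (iv5 F454156) F454157 (iv5 D208917) D208918 (iv1 F451407)
def n215785 : Q := act 6 n177823
theorem D215785 : act 6 n177823 = n215785 := rfl
theorem F481567 : act 2 n215785 = n191756 := d3_1 D215785 (iv6 D191756) F281969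
theorem F481568 : act 3 n215785 = n193183 := d7_1 D215785 (iv6 F389096) (iv3 F277349)
theorem F481569 : act 4 n215785 = n177825 := d10_1 D215785 (iv6 D177825) D177823
theorem F481570 : act 7 n215785 = n208913 := d14_2 (iv7 F281963) D215785 (iv6 D208913) (iv7 F384333) F384332
theorem F481571 : act 0 n215785 = n207395 := d21_4 D192030 (iv1 F479148) F479145 D215785 (iv6 F470872) F470869 (iv1 F462450) (iv5 F422992) (iv6 F366228) (iv1 F338836)
theorem F481572 : act 0 n213558 = n215785 := d21_4 D212700 F467147 F462568 D213558 (iv6 D215785) (iv5 F479145) F479147 F432777 D207328 (iv1 F444370)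
def n215786 : Q := act 5 n177825
theorem D215786 : act 5 n177825 = n215786 := rfl
theorem F481573 : act 2 n215786 = n191759 := d2_1 D215786 (iv5 D191759) (iv2 F281974)
theorem F481574 : act 7 n215786 = n204011 := d13_2 F431626 D215786 F431628
theorem F481575 : act 4 n215786 = n185986 := d16_2 F481569 D215786 F288503 (iv4 F386323) (iv5 F386329) F427404 (iv5 F434309) F434310 (iv2 F481567)
theorem F481576 : act 0 n215786 = n179821 := d17_2 (iv1 F433131) D215786 F280038 F301705 D122414 D204011 F431628 (iv0 F431629) (iv4 F433126)
theorem F481577 : act 0 n192309 = n215786 := d21_10 (iv5 D215786) F338832 (iv5 F195865) D204019 (iv1 F430837) (iv6 D185285) (iv5 D88280) D88277 D185272 F421395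
def n215787 : Q := act 6 n177826
theorem D215787 : act 6 n177826 = n215787 := rfl
theorem F481578 : act 2 n215787 = n191762 := d3_1 D215787 (iv6 D191762) (iv2 F364056)
theorem F481579 : act 3 n215787 = n188620 := d7_1 D215787 F374216 F364053
theorem F481580 : act 4 n215787 = n210832 := d10_1 D215787 (iv6 F458946) F444373
theorem F481581 : act 5 n215787 = n194119 := d12_1 D215787 (iv6 F392104) F392089 F387083 F387077
def n215788 : Q := act 3 n177832
theorem D215788 : act 3 n177832 = n215788 := rfl
theorem F481582 : act 2 n215788 = n207648 := d0_1 D215788 F445839 (iv2 F390623) F390624 F303685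
theorem F481583 : act 4 n215788 = n207645 := d5_2 F301213 D215788 F445823 (iv4 F429508) F429507
theorem F481584 : act 5 n215788 = n204217 := d6_2 F304266 D215788 (iv3 D204217)
theorem F481585 : act 7 n215788 = n203761 := d8_2 F304520 D215788 (iv3 D203761)
theorem F481586 : act 0 n197673 = n215788 := d21_10 F481584 F450734 (iv5 F450732) (iv6 D196363) F400285 (iv6 F400284) F388640 (iv1 F167903) D108572 D197673
def n215789 : Q := act 6 n177832
theorem D215789 : act 6 n177832 = n215789 := rfl
theorem F481587 : act 2 n215789 = n202668 := d3_1 D215789 F425000 F303685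
theorem F481588 : act 4 n215789 = n202641 := d10_1 D215789 F424893 F301213
theorem F481589 : act 5 n215789 = n204758 := d12_1 D215789 F433477 F406262 (iv6 F357726) F304266
theorem F481590 : act 7 n215789 = n202671 := d14_2 F304520 D215789 (iv6 F425019) F429727 (iv6 D203762)
theorem F481591 : act 0 n199270 = n215789 := d21_4 D197604 F404994 D210889 (iv6 F459162) (iv6 D215789) (iv5 F304266) (iv1 F198473) F305163 F404988 (iv1 D197603)
theorem F481592 : act 1 n210346 = n215789 := d15_0 (iv0 F481591) (iv7 F411403) (iv2 F457129)
def n215790 : Q := act 3 n177866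
theorem D215790 : act 3 n177866 = n215790 := rfl
theorem F481593 : act 4 n215790 = n204159 := d5_2 D177866 D215790 (iv3 F475916) F475917 F277435
theorem F481594 : act 2 n204316 = n215790 := d1_3 F481593 F431255 D204316
def n215791 : Q := act 5 n177866
theorem D215791 : act 5 n177866 = n215791 := rfl
theorem F481595 : act 2 n215791 = n194084 := d2_1 D215791 (iv5 D194084) (iv2 F290123)
theorem F481596 : act 4 n215791 = n193252 := d16_2 D177866 D215791 (iv5 D193252) (iv4 D101408) (iv5 D47197) F289771 D84686 (iv7 F289797) F289796
def n215792 : Q := act 6 n177866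
theorem D215792 : act 6 n177866 = n215792 := rfl
theorem F481597 : act 2 n215792 = n194085 := d3_1 D215792 (iv6 D194085) (iv2 F290123)
theorem F481598 : act 4 n215792 = n177867 := d10_1 D215792 (iv6 D177867) D177866
def n215793 : Q := act 0 n177867
theorem D215793 : act 0 n177867 = n215793 := rfl
theorem F481599 : act 5 n215793 = n215161 := d21_2 F383542 D215793 (iv6 F478633) (iv1 D204130) F356526 (iv5 D111213) F103415 (iv5 F222670) D210663 F458376
theorem F481600 : act 6 n215793 = n177929 := d21_5 (iv5 D39117) D39115 D84681 D177867 D215793 F364406 (iv1 F363033) F364405 (iv6 D177893) (iv1 D84689)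
theorem F481601 : act 2 n194086 = n215793 := d3_3 F481600 F431117 F431116
theorem F481602 : act 7 n194087 = n215793 := d15_2 (iv0 D194086) D194087 (iv2 F481601)
def n215794 : Q := act 1 n177867
theorem D215794 : act 1 n177867 = n215794 := rfl
theorem F481603 : act 1 n215794 = n194089 := d15_1 D215794 (iv7 D194089) (iv2 F290124)
theorem F481604 : act 7 n215794 = n194086 := d15_2 (iv0 D215793) D215794 F481601
theorem F481605 : act 5 n215794 = n215160 := d17_7 (iv1 F478628) (iv5 F431191) F478852 (iv5 F478850) F478853 F383542 D215794 (iv0 D215160) (iv4 F478625)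
theorem F481606 : act 2 n194087 = n215794 := d2_3 F481605 F478636 F430820
theorem F481607 : act 1 n194089 = n215793 := d15_1 F481603 (iv7 F481602) F481606
def n215795 : Q := act 7 n177867
theorem D215795 : act 7 n177867 = n215795 := rfl
theorem F481608 : act 2 n215795 = n194089 := d4_1 D215795 (iv7 D194089) (iv2 F290124)
theorem F481609 : act 6 n215795 = n208851 := d14_1 D215795 F481473 (iv6 D215764) F289830 D177867
theorem F481610 : act 1 n194087 = n215795 := d15_1 D194087 (iv7 D215795) F290124
theorem F481611 : act 1 n215795 = n194086 := d15_1 F481610 (iv7 F481604) (iv2 F481606)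
def n215796 : Q := act 5 n177882
theorem D215796 : act 5 n177882 = n215796 := rfl
theorem F481612 : act 7 n215796 = n194084 := d13_2 (iv7 F290122) D215796 (iv5 D194084)
def n215797 : Q := act 0 n177883
theorem D215797 : act 0 n177883 = n215797 := rfl
theorem F481613 : act 5 n215797 = n202659 := d17_3 F351279 (iv5 F367247) D215797 F424969 (iv5 F407378) (iv0 D109093) D109095 F349732 (iv4 F186824)
theorem F481614 : act 6 n215797 = n199281 := d21_5 (iv5 D102417) (iv1 F289737) D84686 D177883 D215797 (iv5 D199281) (iv1 F172377) (iv5 F221805) F343240 (iv1 F289761)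
theorem F481615 : act 2 n210403 = n215797 := d15_3 (iv0 D215797) (iv0 F429776) (iv7 F457410)
theorem F481616 : act 7 n215797 = n177923 := d4_2 (iv7 F457410) F481615 (iv2 F429774)
theorem F481617 : act 1 n208851 = n215797 := d15_1 (iv0 F451122) F481616 (iv2 F429774)
def n215798 : Q := act 7 n177883
theorem D215798 : act 7 n177883 = n215798 := rfl
theorem F481618 : act 2 n215798 = n208851 := d4_1 D215798 F481473 F481467
theorem F481619 : act 3 n215798 = n187467 := d8_1 D215798 (iv7 D187467) F292180
theorem F481620 : act 4 n215798 = n203612 := d11_1 D215798 (iv7 F469429) F469427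
theorem F481621 : act 5 n215798 = n187479 := d13_1 D215798 (iv7 D187479) (iv5 F367247)
theorem F481622 : act 6 n215798 = n194089 := d14_1 D215798 (iv7 D194089) (iv6 D102665) F289797 D177883
theorem F481623 : act 1 n177923 = n215798 := d15_1 (iv0 F481472) (iv7 D215798) (iv2 F481467)
theorem F481624 : act 1 n215798 = n210403 := d15_1 F481623 F457410 F429774
def n215799 : Q := act 4 n177888
theorem D215799 : act 4 n177888 = n215799 := rfl
theorem F481625 : act 2 n215799 = n192253 := d1_1 D215799 (iv4 D192253) (iv2 F362123)
theorem F481626 : act 7 n215799 = n192556 := d11_2 F362124 D215799 (iv4 D192556)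
theorem F481627 : act 0 n215799 = n209818 := d17_0 F455056 F348237 F348236 (iv4 D102700) (iv5 D47635) (iv0 F74046) (iv5 F154410) F367335 D215799
theorem F481628 : act 1 n215799 = n213470 := d18_8 (iv1 F361522) F252682 F332404 F268349 (iv5 F387071) F387070 F367335 D215799 (iv5 D213470)
theorem F481629 : act 3 n215799 = n204593 := d20_3 (iv4 F349322) (iv1 F367337) D215799 (iv1 D204593) F198416 D124033 F304482 (iv4 D177766) (iv3 F338101) (iv1 D154654)
def n215800 : Q := act 3 n177889
theorem D215800 : act 3 n177889 = n215800 := rfl
theorem F481630 : act 4 n215800 = n204593 := d5_2 D177889 D215800 (iv3 F481629) (iv4 D215799) (iv3 D177888)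
theorem F481631 : act 0 n185219 = n213243 := d20_4 (iv4 D185104) F356382 D88262 D185219 F469540 F474083 F474081 (iv4 F481630) (iv3 D215800) F290121
def n215801 : Q := act 5 n177889
theorem D215801 : act 5 n177889 = n215801 := rfl
theorem F481632 : act 6 n215801 = n213206 := d12_2 (iv6 F457439) D215801 F469439 (iv6 F428253) (iv5 F457436)
theorem F481633 : act 4 n215801 = n193281 := d16_2 D177889 D215801 (iv5 D193281) (iv4 D101432) F137169 F137168 (iv5 F335645) (iv7 F277420) F277422
def n215802 : Q := act 3 n177892
theorem D215802 : act 3 n177892 = n215802 := rfl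
theorem F481634 : act 4 n215802 = n187097 := d5_2 D177892 D215802 (iv3 D187097) (iv4 D89538) F335669
theorem F481635 : act 7 n215802 = n193807 := d8_2 F481477 D215802 (iv3 F481475)
theorem F481636 : act 6 n203624 = n215802 := d14_5 F481635 F391052 F386203 D213940 (iv7 F472820)
def n215803 : Q := act 5 n177892
theorem D215803 : act 5 n177892 = n215803 := rfl
def n215804 : Q := act 6 n177892
theorem D215804 : act 6 n177892 = n215804 := rfl
theorem F481637 : act 3 n215804 = n203624 := d7_1 D215804 F481636 (iv3 D215802)
theorem F481638 : act 4 n215804 = n177893 := d10_1 D215804 (iv6 D177893) D177892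
theorem F481639 : act 5 n213924 = n215804 := d21_2 F432592 (iv1 F472759) (iv6 D215804) F367270 F286590 F469336 F469337 F360088 D177928 (iv1 F432593)
theorem F481640 : act 6 n215803 = n213923 := d12_4 D213924 F481639 (iv6 D215804) D215803 (iv5 D213923)
theorem F481641 : act 0 n215804 = n204501 := d17_2 (iv1 F472759) F481639 F432727 F365205 (iv5 D111760) D111759 (iv5 F401101) (iv0 F407473) (iv4 F422641)
theorem F481642 : act 1 n215804 = n204503 := d17_8 F362806 D185226 F363293 F253206 D204458 F432601 F472758 F481639 (iv4 D204503)
def n215805 : Q := act 5 n177894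
theorem D215805 : act 5 n177894 = n215805 := rfl
theorem F481643 : act 7 n215805 = n185220 := d13_2 (iv7 F362119) D215805 (iv5 D185220)
def n215806 : Q := act 3 n177895
theorem D215806 : act 3 n177895 = n215806 := rfl
theorem F481644 : act 4 n215806 = n214226 := d5_2 (iv4 F336770) D215806 F474086 F473004 F285692
theorem F481645 : act 5 n212728 = n215806 := d16_1 D212728 F481644 (iv5 D214226) (iv4 D157412) (iv5 D74859) (iv4 F307078) D154557 (iv7 F434114) F434112
def n215807 : Q := act 5 n177895
theorem D215807 : act 5 n177895 = n215807 := rfl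
theorem F481646 : act 2 n215807 = n185220 := d2_1 D215807 (iv5 D185220) (iv2 F336769)
theorem F481647 : act 3 n215807 = n212728 := d6_1 D215807 F481645 (iv3 D215806)
theorem F481648 : act 4 n215807 = n212734 := d16_2 (iv4 F336770) D215807 F467298 (iv4 D187105) (iv5 D89545) (iv4 F137186) F137187 F134619 D88261
def n215808 : Q := act 1 n177896
theorem D215808 : act 1 n177896 = n215808 := rfl
theorem F481649 : act 1 n215808 = n208862 := d15_1 D215808 F451149 F449639
theorem F481650 : act 7 n215808 = n193892 := d15_2 (iv0 F367262) D215808 F391306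
theorem F481651 : act 5 n215808 = n193829 := d17_7 (iv1 D102663) (iv5 D47615) (iv1 F289823) (iv5 F129921) (iv4 F277468) (iv5 F391147) D215808 F391126 (iv4 F364220)
theorem F481652 : act 4 n192205 = n215808 := d20_6 F346053 (iv1 F382888) F382884 D202275 (iv1 F467210) (iv3 F467211) (iv1 D215808) (iv4 F433574) F433572 F220793
theorem F481653 : act 2 n193836 = n215808 := d16_9 (iv4 F481652) (iv5 D192205) (iv4 D99849) (iv5 D46632) F34884 D41176 D88232 D185129 (iv7 F391144)
def n215809 : Q := act 6 n177897
theorem D215809 : act 6 n177897 = n215809 := rfl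
theorem F481654 : act 3 n215809 = n209851 := d7_1 D215809 F455132 F391146
theorem F481655 : act 4 n215809 = n209854 := d10_1 D215809 F455143 F391254
theorem F481656 : act 5 n215809 = n177996 := d12_1 D215809 (iv6 D177996) (iv5 D84725) (iv6 F129920) D177897
def n215810 : Q := act 6 n177912
theorem D215810 : act 6 n177912 = n215810 := rfl
theorem F481657 : act 2 n215810 = n194119 := d3_1 D215810 (iv6 F392104) F392086
theorem F481658 : act 4 n215810 = n185383 := d10_1 D215810 (iv6 D185383) (iv4 F332660)
theorem F481659 : act 5 n215810 = n191762 := d12_1 D215810 (iv6 D191762) F338885 D192579 F387156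
theorem F481660 : act 0 n215810 = n192555 := d21_4 D213667 F471537 F387156 D215810 (iv6 D192555) (iv5 D100386) (iv1 D46851) D46852 F306388 D154653
theorem F481661 : act 1 n215810 = n194120 := d15_1 (iv0 F481660) (iv7 D194120) (iv2 F387049)
theorem F481662 : act 7 n215810 = n194118 := d15_2 (iv0 F457381) (iv0 F481660) (iv2 F392109)
def n215811 : Q := act 0 n177913
theorem D215811 : act 0 n177913 = n215811 := rfl
theorem F481663 : act 4 n215811 = n194116 := d18_1 D215811 (iv1 D194116) (iv4 D102700) (iv5 D47635) (iv4 F68169) D92741 D188742 (iv0 F374665) (iv5 F332658)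
theorem F481664 : act 3 n215811 = n191290 := d20_5 F359514 F359507 (iv4 F392566) F392565 D215811 F382896 (iv1 F245212) F357613 F157009 (iv1 F285722)
theorem F481665 : act 1 n188773 = n215811 := d15_0 (iv0 D215811) (iv7 F471528) F471526
theorem F481666 : act 7 n215811 = n193779 := d15_2 F382977 F481665 F390994
theorem F481667 : act 6 n209799 = n215811 := d7_0 F481664 (iv6 F382900) D209799
def n215812 : Q := act 6 n177919
theorem D215812 : act 6 n177919 = n215812 := rfl
theorem F481668 : act 3 n215812 = n177921 := d7_1 D215812 (iv6 D177921) D177919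
theorem F481669 : act 5 n215812 = n199282 := d12_1 D215812 F411462 (iv5 D192281) F332466 F332468
theorem F481670 : act 7 n215812 = n210401 := d14_2 (iv7 F332469) D215812 F457405 (iv7 F468557) F468556
theorem F481671 : act 0 n215812 = n210624 := d21_4 F338080 F332472 F332468 D215812 F458248 (iv5 D150577) F107522 (iv5 F186953) D203420 (iv1 F428225)
theorem F481672 : act 1 n215812 = n210627 := d15_1 (iv0 F481671) F458256 (iv2 F458247)
def n215813 : Q := act 3 n177924
theorem D215813 : act 3 n177924 = n215813 := rfl
theorem F481673 : act 2 n215813 = n210783 := d0_1 D215813 F458775 (iv2 F432994) (iv3 D204606) F304471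
theorem F481674 : act 4 n215813 = n185498 := d5_2 F302309 D215813 (iv3 F390255) F390236 (iv3 F390223)
theorem F481675 : act 7 n215813 = n204610 := d8_2 F304475 D215813 (iv3 D204610)
theorem F481676 : act 5 n210780 = n215813 := d13_3 F481675 (iv5 F433014) (iv7 F458761)
def n215814 : Q := act 5 n177924
theorem D215814 : act 5 n177924 = n215814 := rfl
theorem F481677 : act 2 n215814 = n204607 := d2_1 D215814 (iv5 D204607) F304471
theorem F481678 : act 3 n215814 = n210780 := d6_1 D215814 F481676 (iv3 D215813)
theorem F481679 : act 4 n215814 = n178100 := d9_1 D215814 (iv5 F299586) F299585 (iv5 F299053) F116230 D120482 F302311 F400961 F400959 (iv5 F299584) F196321 (iv5 F298992) (iv4 F126394) (iv5 F302310) F302309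
theorem F481680 : act 7 n215814 = n204611 := d13_2 F304475 D215814 (iv5 D204611)
theorem F481681 : act 0 n215814 = n215770 := d17_2 D177924 D215814 (iv5 D215770) (iv4 D177763) (iv5 F263592) F263595 (iv5 F153925) (iv0 D84700) D84702
theorem F481682 : act 1 n215814 = n196513 := d17_6 D124031 F302096 F135953 (iv5 F302310) F302309 D215814 (iv5 F400921) (iv0 F304482) (iv4 D124033)
theorem F481683 : act 6 n215814 = n210896 := d21_9 (iv5 F424180) (iv1 F423084) (iv5 F461235) (iv6 F461237) F472891 (iv6 D213958) F360088 D177924 D215814 F459195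
def n215815 : Q := act 6 n177924
theorem D215815 : act 6 n177924 = n215815 := rfl
theorem F481684 : act 2 n215815 = n204608 := d3_1 D215815 (iv6 D204608) F304471
theorem F481685 : act 4 n215815 = n199287 := d10_1 D215815 F411485 F302309
theorem F481686 : act 7 n210415 = n215815 := d11_0 F481685 F411486 D210415
theorem F481687 : act 1 n202026 = n215815 := d17_8 F411487 (iv5 D139380) (iv1 F168898) (iv5 F406649) (iv4 F457432) F457431 F405575 D202026 F481685
theorem F481688 : act 0 n210555 = n215815 := d18_0 F481685 F411487 D210544 (iv5 F459574) F459575 F405567 (iv4 F406577) F472806 (iv5 F472807)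
def n215816 : Q := act 7 n177928
theorem D215816 : act 7 n177928 = n215816 := rfl
theorem F481689 : act 4 n215816 = n177931 := d11_1 D215816 (iv7 D177931) (iv4 F277495)
theorem F481690 : act 5 n215816 = n202258 := d13_1 D215816 (iv7 F469367) (iv5 F469369)
theorem F481691 : act 1 n204506 = n215816 := d15_1 (iv0 F432750) (iv7 D215816) (iv2 F431124)
theorem F481692 : act 1 n215816 = n204505 := d15_1 F481691 F432744 (iv2 F432746)
def n215817 : Q := act 6 n177950
theorem D215817 : act 6 n177950 = n215817 := rfl
theorem F481693 : act 3 n215817 = n177952 := d7_1 D215817 (iv6 D177952) D177950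
def n215818 : Q := act 0 n177952
theorem D215818 : act 0 n177952 = n215818 := rfl
def n215819 : Q := act 1 n177952
theorem D215819 : act 1 n177952 = n215819 := rfl
theorem F481694 : act 4 n215819 = n193834 := d18_7 (iv1 F406684) (iv4 F412552) (iv1 F412930) (iv4 F412936) F305165 (iv4 F277508) D215819 (iv0 F391139) (iv5 F406681)
theorem F481695 : act 6 n193833 = n215819 := d10_0 F481694 (iv6 D193834) D193833
def n215820 : Q := act 5 n177952
theorem D215820 : act 5 n177952 = n215820 := rfl
def n215821 : Q := act 7 n177952
theorem D215821 : act 7 n177952 = n215821 := rfl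
theorem F481696 : act 4 n215821 = n177955 := d11_1 D215821 (iv7 D177955) (iv4 F277508)
def n215822 : Q := act 4 n177953
theorem D215822 : act 4 n177953 = n215822 := rfl
def n215823 : Q := act 3 n177954
theorem D215823 : act 3 n177954 = n215823 := rfl
theorem F481697 : act 6 n215823 = n194082 := d7_2 F290057 D215823 (iv3 D194082)
def n215824 : Q := act 4 n177954
theorem D215824 : act 4 n177954 = n215824 := rfl
theorem F481698 : act 6 n215824 = n185126 := d10_2 F290057 D215824 (iv4 F364220)
theorem F481699 : act 0 n215824 = n178079 := d18_2 F460712 D215824 F277618 (iv5 F304631) F413247 F413243 F412429 F224275 D211229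
def n215825 : Q := act 0 n177959
theorem D215825 : act 0 n177959 = n215825 := rfl
theorem F481700 : act 5 n215825 = n188742 := d17_1 D215825 F374664 D188773 (iv4 F470638) (iv5 D213489) (iv0 D153877) D153879 F364093 D177959
theorem F481701 : act 4 n215825 = n209818 := d18_1 D215825 F480549 F480545 (iv5 D186587) (iv4 F142236) D188554 (iv4 F456217) (iv0 F465068) F465066
theorem F481702 : act 3 n215825 = n191288 := d20_5 D191891 F384692 D213959 F472893 D215825 F382884 (iv1 D115524) D115525 (iv3 F383965) F383969
theorem F481703 : act 1 n191281 = n215825 := d15_0 (iv0 D215825) (iv7 F471542) F471540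
theorem F481704 : act 7 n215825 = n191964 := d15_2 F382969 F481703 F385023
theorem F481705 : act 6 n209219 = n215825 := d14_5 F481704 (iv6 F434170) F455057 (iv6 D209818) (iv7 F452760)
def n215826 : Q := act 6 n177962
theorem D215826 : act 6 n177962 = n215826 := rfl
theorem F481706 : act 2 n215826 = n204600 := d3_1 D215826 (iv6 D204600) F304484
theorem F481707 : act 4 n215826 = n204054 := d10_1 D215826 (iv6 D204054) F302308
def n215827 : Q := act 3 n177963
theorem D215827 : act 3 n177963 = n215827 := rfl
theorem F481708 : act 2 n215827 = n213810 := d0_1 D215827 F472189 F426988 F356036 F303659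
theorem F481709 : act 5 n215827 = n213802 := d6_2 (iv5 F469336) D215827 F472160
theorem F481710 : act 7 n215827 = n204598 := d8_2 F304485 D215827 (iv3 D204598)
theorem F481711 : act 0 n215827 = n202078 := d19_4 F299208 D86510 (iv4 F277516) D215827 (iv5 D202078) D202077 (iv3 F422845) F420967 (iv5 D176087) D176086 (iv3 F347681) (iv1 F444078) F444076 (iv4 D147403) (iv3 D69100) (iv1 F51106) F24813 (iv4 F25832) (iv3 F44475)
theorem F481712 : act 0 n202075 = n215827 := d17_2 D115360 D202075 F481709 F472161 F432316 F432315 (iv5 D200180) (iv0 D112766) (iv4 F84063)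
def n215828 : Q := act 0 n177966
theorem D215828 : act 0 n177966 = n215828 := rfl
theorem F481713 : act 5 n215828 = n208731 := d17_1 D215828 F450611 (iv5 F451138) (iv4 D208859) (iv5 D135206) F98837 D134077 (iv0 F341427) (iv4 F277519)
theorem F481714 : act 4 n215828 = n197971 := d18_3 F341428 (iv4 F277519) D215828 (iv5 D197971) F168760 F167640 F167641 (iv0 D63528) D63530
theorem F481715 : act 6 n215828 = n204503 := d21_5 D204607 F432999 (iv5 D177965) D177966 D215828 (iv5 F472388) (iv1 F472913) F472915 F431125 (iv1 F198432)
theorem F481716 : act 2 n208362 = n215828 := d15_3 (iv0 D215828) (iv0 F450611) F450610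
theorem F481717 : act 1 n208860 = n215828 := d15_0 (iv0 D215828) (iv7 F449627) (iv2 F451139)
def n215829 : Q := act 0 n177976
theorem D215829 : act 0 n177976 = n215829 := rfl
theorem F481718 : act 5 n215829 = n194108 := d17_1 D215829 (iv1 F392074) F383516 F382988 (iv5 D154562) (iv0 D73265) D73268 D154572 (iv4 F421427)
theorem F481719 : act 4 n215829 = n215573 := d18_3 (iv1 F387066) (iv4 F421427) D215829 (iv5 D215573) F348279 F303406 (iv4 F323003) (iv0 F324404) (iv5 F387060)
theorem F481720 : act 6 n215829 = n213105 := d21_5 F386600 F154052 (iv5 F310671) D177976 D215829 (iv5 D213105) D213103 (iv5 F479539) (iv6 D215356) (iv1 F386602)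
theorem F481721 : act 3 n213109 = n215829 := d7_3 F481720 F469035 D213109
theorem F481722 : act 0 n215829 = n213642 := d20_10 (iv4 D213642) (iv1 F387067) F387059 (iv3 D183932) F134711 D183868 (iv4 F473085) (iv1 D213241) (iv4 F469057) F481721
def n215830 : Q := act 7 n177976
theorem D215830 : act 7 n177976 = n215830 := rfl
theorem F481723 : act 2 n215830 = n213642 := d4_1 D215830 F471421 F421384
theorem F481724 : act 3 n215830 = n177982 := d8_1 D215830 (iv7 D177982) (iv3 F277528)
theorem F481725 : act 4 n215830 = n213490 := d11_1 D215830 F470643 (iv4 F421427)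
theorem F481726 : act 6 n215830 = n191624 := d14_1 D215830 (iv7 F449633) F449632 F277221 D177976
def n215831 : Q := act 0 n177977
theorem D215831 : act 0 n177977 = n215831 := rfl
def n215832 : Q := act 1 n177977
theorem D215832 : act 1 n177977 = n215832 := rfl
theorem F481727 : act 4 n208754 = n215832 := d20_0 (iv1 D215832) (iv4 F480648) (iv3 D215586) (iv1 D175533) (iv3 F354900) (iv4 D154390) (iv1 F352353) (iv4 F135185) (iv3 F287540) F455980
theorem F481728 : act 6 n203614 = n215832 := d21_3 (iv5 D202210) F354573 D203614 (iv1 D215832) (iv6 F472793) F472790 F449714 (iv5 F469420) (iv6 D213200) (iv1 F423256)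
theorem F481729 : act 5 n200300 = n215832 := d21_6 (iv5 F440609) (iv1 D206401) (iv5 D128563) F95022 D112963 D200300 (iv1 D215832) F422699 (iv6 D202008) (iv1 F226788)
theorem F481730 : act 2 n215832 = n203618 := d2_1 F481729 F429103 (iv2 F415897)
def n215833 : Q := act 0 n177979
theorem D215833 : act 0 n177979 = n215833 := rfl
def n215834 : Q := act 1 n177979
theorem D215834 : act 1 n177979 = n215834 := rfl
def n215835 : Q := act 5 n177979
theorem D215835 : act 5 n177979 = n215835 := rfl
theorem F481731 : act 2 n215835 = n202211 := d2_1 D215835 (iv5 F481506) F481503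
theorem F481732 : act 3 n215835 = n202209 := d6_1 D215835 (iv5 F472790) (iv3 F472792)
theorem F481733 : act 6 n215835 = n193894 := d12_2 D177979 D215835 (iv5 F400907) (iv6 F400916) (iv5 D177978)
theorem F481734 : act 4 n215835 = n204813 := d16_2 (iv4 F277530) D215835 F433682 F427388 (iv5 F366895) (iv4 F430823) F430824 (iv7 F421404) F277231
theorem F481735 : act 0 n209861 = n204812 := d20_10 F433679 D204813 (iv4 F481734) F481732 F449714 (iv3 D208520) (iv4 D134481) F100335 (iv4 F220165) (iv3 F455180)
theorem F481736 : act 0 n214779 = n215835 := d21_4 (iv5 F409165) F423964 F423962 D214779 F481733 (iv5 F400907) (iv1 F400915) D202021 F422727 F301789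
theorem F481737 : act 0 n215835 = n211684 := d21_4 (iv5 D202019) (iv1 F400909) F400907 (iv6 F481733) (iv6 D211684) (iv5 F455744) F455745 F424333 F411733 (iv1 F422723)
def n215836 : Q := act 7 n177979
theorem D215836 : act 7 n177979 = n215836 := rfl
theorem F481738 : act 4 n215836 = n177982 := d11_1 D215836 (iv7 D177982) (iv4 F277530)
theorem F481739 : act 6 n215836 = n208860 := d14_1 D215836 F451141 F449637 F277223 D177979
def n215837 : Q := act 4 n177980
theorem D215837 : act 4 n177980 = n215837 := rfl
theorem F481740 : act 2 n215837 = n210640 := d1_1 D215837 (iv4 F481512) (iv2 F481508)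
def n215838 : Q := act 5 n177980
theorem D215838 : act 5 n177980 = n215838 := rfl
theorem F481741 : act 6 n215838 = n210660 := d12_2 F460728 D215838 F458366 (iv6 F224274) (iv5 F460727)
theorem F481742 : act 7 n215838 = n210663 := d13_2 (iv7 F457429) D215838 F458375
theorem F481743 : act 0 n194088 = n215838 := d21_10 (iv5 D215838) (iv1 F421406) (iv5 F430824) (iv6 F444200) F444202 (iv6 F369213) (iv5 F369212) F290023 D102666 (iv6 F392021)
def n215839 : Q := act 3 n177981
theorem D215839 : act 3 n177981 = n215839 := rfl
theorem F481744 : act 6 n215839 = n210631 := d7_2 F406607 D215839 F458266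
theorem F481745 : act 7 n215839 = n210630 := d8_2 F481510 D215839 F481511
theorem F481746 : act 4 n210631 = n215839 := d11_3 F481745 (iv4 D210630) D210631
def n215840 : Q := act 4 n177981
theorem D215840 : act 4 n177981 = n215840 := rfl
theorem F481747 : act 3 n215840 = n210642 := d5_1 D215840 F458304 (iv3 F458266) F481746 (iv3 D215839)
theorem F481748 : act 6 n215840 = n210642 := d10_2 F406607 D215840 F458304
theorem F481749 : act 7 n215840 = n210640 := d11_2 F481510 D215840 (iv4 F481512)
theorem F481750 : act 5 n209091 = n215840 := d13_3 F481749 F458302 (iv7 F452211)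
def n215841 : Q := act 5 n177983
theorem D215841 : act 5 n177983 = n215841 := rfl
theorem F481751 : act 2 n215841 = n210759 := d2_1 D215841 F469517 (iv2 F469521)
theorem F481752 : act 3 n215841 = n177984 := d6_1 D215841 (iv5 D177984) D177983
theorem F481753 : act 7 n215841 = n210732 := d13_2 (iv7 F364088) D215841 F458627
theorem F481754 : act 1 n215841 = n210760 := d17_8 (iv1 F466103) F466104 (iv1 F411821) (iv5 D199354) F172516 D156174 F473068 D215841 (iv4 F466098)
theorem F481755 : act 1 n201988 = n215841 := d15_0 F481754 F458709 (iv2 F422627)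
def n215842 : Q := act 6 n177983
theorem D215842 : act 6 n177983 = n215842 := rfl
theorem F481756 : act 3 n215842 = n177985 := d7_1 D215842 (iv6 D177985) D177983
theorem F481757 : act 4 n215842 = n213578 := d10_1 D215842 F471124 F364089
def n215843 : Q := act 0 n177984
theorem D215843 : act 0 n177984 = n215843 := rfl
theorem F481758 : act 5 n215843 = n203781 := d17_1 D215843 F429783 D204057 F430925 (iv5 D124169) F196323 F299584 F277641 (iv4 F277531)
theorem F481759 : act 4 n215843 = n178130 := d18_1 D215843 (iv1 D178130) (iv4 F277529) (iv5 D177978) (iv4 D84720) (iv0 F302823) D124182 F305171 D177984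
theorem F481760 : act 1 n177987 = n215843 := d15_0 (iv0 D215843) (iv7 F481517) F481514
theorem F481761 : act 2 n204618 = n215843 := d1_3 F481759 (iv2 F302543) (iv4 F433037)
theorem F481762 : act 7 n204615 = n215843 := d11_0 F481759 (iv7 F302550) (iv4 F433035)
def n215844 : Q := act 1 n177984
theorem D215844 : act 1 n177984 = n215844 := rfl
theorem F481763 : act 1 n215844 = n177987 := d15_1 D215844 (iv7 F481338) F481336
theorem F481764 : act 7 n215844 = n204618 := d15_2 (iv0 D215843) D215844 F481761
theorem F481765 : act 5 n215844 = n204055 := d17_7 D122567 F302310 (iv1 F194675) F304030 F303655 D177984 D215844 (iv0 D204055) (iv4 D122568)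
theorem F481766 : act 4 n215844 = n178129 := d17_9 (iv1 F277688) (iv5 D84796) (iv1 D39186) D39188 D84805 (iv5 F305173) F305171 D177984 D215844
theorem F481767 : act 6 n202752 = n215844 := d21_9 (iv5 D177984) (iv1 F305171) F305173 (iv6 F345267) F332972 F332968 (iv5 F404997) (iv1 F459204) F459206 (iv1 D215844)
theorem F481768 : act 3 n215844 = n201981 := d7_1 F481767 F434658 (iv3 F425426)
theorem F481769 : act 2 n204615 = n215844 := d1_3 F481766 (iv2 F302549) (iv4 F433035)
theorem F481770 : act 0 n215840 = n177988 := d21_4 (iv5 F459574) (iv1 D210974) (iv5 F458305) (iv6 F481748) (iv6 D177988) D177987 (iv1 F481763) F481765 (iv6 F457419) (iv1 F457985)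
theorem F481771 : act 1 n215837 = n177988 := d15_0 (iv0 F481770) F481749 (iv2 F481740)
def n215845 : Q := act 0 n177986
theorem D215845 : act 0 n177986 = n215845 := rfl
def n215846 : Q := act 1 n177986
theorem D215846 : act 1 n177986 = n215846 := rfl
def n215847 : Q := act 2 n177986
theorem D215847 : act 2 n177986 = n215847 := rfl
theorem F481772 : act 3 n215847 = n214004 := d0_2 D177986 D215847 (iv2 F473064) F364087 (iv2 F277235)
def n215848 : Q := act 4 n177986
theorem D215848 : act 4 n177986 = n215848 := rfl
theorem F481773 : act 0 n209878 = n215848 := d20_7 (iv4 D39131) D39129 D84716 (iv3 F351216) (iv1 D156125) (iv3 F220179) (iv4 F455236) (iv4 D215848) (iv3 D177986) (iv1 D84723)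
def n215849 : Q := act 5 n177986
theorem D215849 : act 5 n177986 = n215849 := rfl
theorem F481774 : act 3 n215849 = n177987 := d6_1 D215849 (iv5 D177987) D177986
theorem F481775 : act 6 n201965 = n215849 := d7_0 F481774 F459723 F459720
theorem F481776 : act 0 n210747 = n215849 := d20_4 (iv4 F422813) (iv1 F424572) F424577 D210747 F481774 F277532 D178100 (iv4 F481679) F481678 F458762
theorem E104019 : n215845 = n214026 := (c21_2 (iv5 D215849) D215845 F473169 (iv6 F472477) (iv1 F472478) F429075 (iv5 F438126) F438127 F404253 (iv6 F458681) F481776)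
theorem F481777 : act 1 n214026 = n177986 := (sb E104019 (iv0 D215845))
theorem F481778 : act 4 n215849 = n201966 := d10_1 F481775 (iv6 D201966) D201965
theorem E104020 : n215846 = n210884 := ((c21_1 (iv5 F459145) (iv1 D215846) D215849 (iv6 F481775) (iv1 F461037) F461043 (iv5 F428802) (iv1 F476793) F476791 F473321 (iv1 D213867))).symm
theorem F481779 : act 0 n210884 = n177986 := (sb E104020 (iv1 D215846))
theorem F481780 : act 1 n201966 = n197433 := d18_6 (iv1 D209879) (iv4 F455236) F481773 (iv4 D215848) D215849 F481778 (iv4 F422644) F472781 F472780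
def n215850 : Q := act 6 n177986
theorem D215850 : act 6 n177986 = n215850 := rfl
theorem F481781 : act 3 n215850 = n177988 := d7_1 D215850 (iv6 D177988) D177986
theorem F481782 : act 5 n215850 = n203601 := d12_1 D215850 F429056 (iv5 F423335) F481775 (iv5 D215849)
theorem F481783 : act 7 n203600 = n215850 := d13_0 F481782 (iv7 D203601) D203600
def n215851 : Q := act 5 n177988
theorem D215851 : act 5 n177988 = n215851 := rfl
theorem F481784 : act 3 n215851 = n203601 := d6_1 D215851 (iv5 F481782) F481781
theorem F481785 : act 4 n204792 = n215851 := d5_0 F481784 F429055 F341178 (iv4 F456055) F456054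
theorem F481786 : act 7 n203596 = n215851 := d8_0 F481784 (iv7 D203601) (iv3 F429047)
theorem F481787 : act 0 n204812 = n215851 := d20_1 (iv4 F433679) (iv4 F481785) (iv3 F456054) (iv1 F462516) (iv3 F478585) (iv4 D215152) F346539 (iv4 F455957) F455956 (iv1 D204814)
def n215852 : Q := act 7 n177988
theorem D215852 : act 7 n177988 = n215852 := rfl
theorem F481788 : act 3 n215852 = n203600 := d8_1 D215852 F481783 F481781
theorem F481789 : act 5 n215852 = n203596 := d13_1 D215852 F481786 (iv5 D215851)
theorem F481790 : act 6 n215852 = n208861 := d14_1 D215852 F451144 F449664 F277238 D177988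
def n215853 : Q := act 0 n177989
theorem D215853 : act 0 n177989 = n215853 := rfl
theorem F481791 : act 2 n177993 = n215853 := d15_3 (iv0 D215853) (iv0 D177989) D177993
theorem F481792 : act 3 n215853 = n204470 := d0_2 (iv3 F277534) F481791 F433184 (iv3 D204661) F305172
theorem F481793 : act 5 n215853 = n213871 := d2_2 (iv5 F349758) F481791 F472513
theorem F481794 : act 7 n215853 = n177991 := d4_2 D177993 F481791 (iv2 D177991)
theorem F481795 : act 1 n177990 = n215853 := d15_1 D177990 F481794 (iv2 D177991)
def n215854 : Q := act 2 n177989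
theorem D215854 : act 2 n177989 = n215854 := rfl
theorem F481796 : act 7 n177990 = n215854 := d15_2 (iv0 D177989) D177990 (iv2 D215854)
theorem F481797 : act 3 n215854 = n201990 := d8_1 F481796 (iv7 D201990) F383970
theorem F481798 : act 4 n215854 = n202261 := d11_1 F481796 (iv7 D202261) (iv4 F383971)
theorem F481799 : act 5 n215854 = n201983 := d13_1 F481796 (iv7 D201983) (iv5 F383972)
theorem F481800 : act 6 n193836 = n215854 := d12_0 F481799 (iv6 F472375) F472374 F364068 D193836
theorem F481801 : act 6 n177989 = n215808 := d3_2 F481800 (iv2 D215854) (iv2 F481653)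
theorem F481802 : act 0 n177991 = n215854 := d20_7 F346060 F346062 F346028 (iv3 F179906) D202323 (iv3 F467348) F467349 F481798 F423411 (iv1 F220800)
theorem F481803 : act 0 n215854 = n177993 := d20_1 (iv4 F481798) (iv4 F467352) F467351 F390301 F390311 F390308 F390310 (iv4 F431869) (iv3 F456292) (iv1 F456296)
def n215855 : Q := act 3 n177989
theorem D215855 : act 3 n177989 = n215855 := rfl
theorem F481804 : act 2 n215855 = n210751 := d0_1 D215855 F458687 (iv2 F422636) (iv3 F481797) (iv2 D215854)
theorem F481805 : act 5 n203100 = n215855 := d2_0 F481804 F458689 (iv2 F426963)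
theorem F481806 : act 7 n210740 = n215855 := d4_0 F481804 (iv7 D210751) (iv2 F458663)
theorem F481807 : act 1 n215855 = n210749 := d15_0 (iv0 D210749) D210751 (iv2 F481804)
theorem F481808 : act 1 n210750 = n215855 := d15_0 F481807 (iv7 F458683) F458686
def n215856 : Q := act 4 n177989
theorem D215856 : act 4 n177989 = n215856 := rfl
theorem F481809 : act 2 n215856 = n202261 := d1_1 D215856 (iv4 F481798) (iv2 D215854)
theorem F481810 : act 6 n215856 = n192205 := d10_2 (iv6 F481801) D215856 F481652
theorem F481811 : act 5 n215856 = n202248 := d16_1 D215856 (iv4 F424796) F424797 F221902 F365138 (iv4 F179570) (iv5 F383972) F481796 (iv2 D215854)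
theorem F481812 : act 7 n202247 = n215856 := d13_0 F481811 (iv7 D202248) D202247
theorem F481813 : act 1 n202260 = n215856 := d17_6 (iv1 F449043) F449039 (iv1 F409158) (iv5 F473852) F473851 F456278 F481811 F423397 F423389
theorem F481814 : act 0 n202259 = n215856 := d21_7 F422271 F422270 (iv5 F424784) (iv6 F433614) (iv1 F476022) F476023 (iv5 F456298) F481811 F423395 (iv1 F401371)
theorem E104021 : n213962 = n213871 := ((c17_2 D215853 F481793 (iv1 D213962) D213963 F472903 F456304 F456280 F456278 F481813 (iv4 D215856))).symm
theorem F481815 : act 0 n213871 = n156128 := (sb E104021 (iv1 D213962))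
def n215857 : Q := act 5 n177989
theorem D215857 : act 5 n177989 = n215857 := rfl
theorem F481816 : act 2 n215857 = n201983 := d2_1 D215857 (iv5 F481799) (iv2 D215854)
theorem F481817 : act 3 n215857 = n203100 := d6_1 D215857 F481805 (iv3 D215855)
theorem F481818 : act 4 n215857 = n204802 := d9_1 D215857 (iv5 F450875) F450874 (iv5 D195912) F163680 D115510 (iv4 F383971) F383972 F179570 (iv5 F365138) (iv4 F221902) (iv5 F424797) F424796 (iv5 F481811) (iv4 D215856)
theorem F481819 : act 7 n215857 = n201979 := d16_8 F179570 (iv5 F365138) (iv4 F221902) (iv5 F424797) F424796 (iv5 F481811) (iv4 D215856) D215857 F422599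
theorem F481820 : act 0 n201981 = n215857 := d21_10 (iv5 D215857) D215853 F481793 (iv6 D213871) F360780 D156027 (iv5 F401422) (iv1 F433648) (iv5 D204804) (iv6 F434658)
theorem F481821 : act 1 n201982 = n215857 := d15_1 D201982 F481819 F422599
def n215858 : Q := act 7 n177989
theorem D215858 : act 7 n177989 = n215858 := rfl
theorem F481822 : act 2 n215858 = n177990 := d4_1 D215858 F481796 (iv2 D215854)
theorem F481823 : act 3 n215858 = n210740 := d8_1 D215858 F481806 (iv3 D215855)
theorem F481824 : act 4 n215858 = n202247 := d11_1 D215858 F481812 (iv4 D215856)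
theorem F481825 : act 5 n215858 = n201979 := d13_1 D215858 (iv7 F481819) (iv5 D215857)
theorem F481826 : act 1 n177991 = n215858 := d15_1 (iv0 F481802) (iv7 D215858) D215854
theorem F481827 : act 1 n215858 = n177993 := d15_1 F481826 (iv7 D177993) D177991
def n215859 : Q := act 6 n177990
theorem D215859 : act 6 n177990 = n215859 := rfl
theorem F481828 : act 3 n215859 = n201986 := d7_1 D215859 F422618 F383970
theorem F481829 : act 4 n215859 = n202253 := d10_1 D215859 F423410 (iv4 F383971)
theorem F481830 : act 5 n215859 = n201980 := d12_1 D215859 (iv6 D201980) (iv5 D115302) D115303 (iv5 F383972)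
def n215860 : Q := act 5 n177991
theorem D215860 : act 5 n177991 = n215860 := rfl
theorem F481831 : act 2 n215860 = n177992 := d2_1 D215860 (iv5 D177992) D177991
theorem F481832 : act 7 n215860 = n213871 := d13_2 F481794 D215860 (iv5 F481793)
theorem F481833 : act 0 n215860 = n213855 := d17_2 (iv1 F481826) D215860 (iv5 F472416) (iv4 D210134) (iv5 D137648) D137646 D210131 (iv0 F456295) (iv4 F481824)
theorem F481834 : act 6 n215860 = n203593 := d21_9 D213991 F473012 (iv5 D213065) (iv6 F400890) (iv1 F400888) D201979 (iv5 F481825) (iv1 F481826) D215860 (iv1 F429039)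
theorem F481835 : act 0 n213193 = n215860 := d19_0 (iv5 D215860) (iv4 F467349) F467348 (iv1 F423623) (iv5 D115604) F350934 D119526 F360170 F333397 F190719 F308899 (iv1 F307118) F43655 (iv4 F55694) (iv3 F115117) (iv1 F345706) F229957 D152788 D213193
theorem F481836 : act 0 n210640 = n215852 := d21_1 (iv5 F458302) F481789 (iv6 D203596) D203593 (iv6 F481834) (iv5 D215860) F481802 F481799 (iv6 F472375) F472377
def n215861 : Q := act 0 n177992
theorem D215861 : act 0 n177992 = n215861 := rfl
theorem F481837 : act 3 n215861 = n203102 := d20_5 F277507 (iv1 F302600) F302602 (iv3 F277533) D215861 (iv4 D203102) (iv1 F184269) (iv4 F239991) (iv3 F469356) (iv1 F469360)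
theorem F481838 : act 2 n213855 = n215861 := d15_3 (iv0 D215861) (iv0 F360097) (iv7 F472414)
theorem F481839 : act 1 n213871 = n215861 := d15_0 (iv0 D215861) F349759 (iv2 F472513)
theorem F481840 : act 7 n215861 = n213193 := d15_2 (iv0 F481815) F481839 F469391
def n215862 : Q := act 4 n177992
theorem D215862 : act 4 n177992 = n215862 := rfl
theorem F481841 : act 3 n215862 = n193231 := d5_1 D215862 F433211 F433208 F302602 (iv3 F277533)
theorem F481842 : act 7 n215862 = n213873 := d11_2 (iv7 F349759) D215862 F472522
theorem F481843 : act 5 n215862 = n208663 := d18_4 (iv1 D193875) F329306 F360097 D215862 (iv4 F450679) F407466 F221902 D208042 (iv5 F447576)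
theorem F481844 : act 0 n193250 = n215862 := d21_1 (iv5 F389323) F481843 F450681 (iv1 D203763) (iv6 D120480) (iv5 D55462) (iv1 F87636) (iv5 F191597) D203713 F429514
def n215863 : Q := act 6 n177993
theorem D215863 : act 6 n177993 = n215863 := rfl
theorem F481845 : act 3 n215863 = n177997 := d7_1 D215863 (iv6 D177997) (iv3 F277534)
theorem F481846 : act 5 n215863 = n213874 := d12_1 D215863 (iv6 D213874) (iv5 D156013) D156014 (iv5 F349758)
theorem F481847 : act 7 n215863 = n215809 := d14_2 D177993 D215863 (iv6 D215809) F391148 F277467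
def n215864 : Q := act 3 n177998
theorem D215864 : act 3 n177998 = n215864 := rfl
theorem F481848 : act 5 n215864 = n192491 := d6_2 F475183 D215864 F475181
theorem F481849 : act 4 n215864 = n209817 := d20_6 D202125 (iv1 F452820) (iv4 D209234) F328990 D177998 D215864 (iv1 D209817) (iv4 F452761) F452759 F218759
theorem F481850 : act 1 n192561 = n215864 := d17_6 (iv1 F154221) (iv5 F292928) (iv1 D92649) D92651 (iv4 F356751) (iv5 F387076) F481848 F386805 (iv4 D184364)
def n215865 : Q := act 4 n177998
theorem D215865 : act 4 n177998 = n215865 := rfl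
theorem F481851 : act 5 n215865 = n202063 := d16_1 D215865 (iv4 F438330) (iv5 D204603) (iv4 F432984) (iv5 F452635) F452634 F341523 (iv7 F452631) (iv2 F452632)
theorem F481852 : act 3 n215865 = n202065 := d19_3 (iv1 F475179) F475183 D215865 (iv1 F455228) F455226 (iv4 F404092) F404091 F323287 D145119 D212052 F464142 F396866 (iv5 D108127) F78982 F48659 D30331 (iv5 F84067) D115379 D202115
theorem F481853 : act 0 n204600 = n215865 := d20_1 (iv4 F432984) (iv4 D215865) D215864 (iv1 F481850) F387075 (iv4 F287521) F351166 (iv4 F386091) (iv3 F455170) (iv1 D204602)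
def n215866 : Q := act 6 n177998
theorem D215866 : act 6 n177998 = n215866 := rfl
theorem F481854 : act 2 n215866 = n208853 := d3_1 D215866 F453922 (iv2 F452632)
theorem F481855 : act 5 n215866 = n203778 := d12_1 D215866 (iv6 F450885) (iv5 F450886) F475182 F475183
theorem F481856 : act 7 n215866 = n208852 := d14_2 (iv7 F452630) D215866 (iv6 F460716) (iv7 F460717) (iv6 F458284)
theorem F481857 : act 0 n204471 = n215866 := d21_4 (iv5 D122696) F341417 D123852 D204471 (iv6 D215866) (iv5 F475183) (iv1 D214438) D214439 F475187 (iv1 D204122)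
theorem F481858 : act 1 n208625 = n215866 := d15_0 (iv0 F481857) F432639 (iv2 F450219)
def n215867 : Q := act 3 n177999
theorem D215867 : act 3 n177999 = n215867 := rfl
theorem F481859 : act 5 n215867 = n193968 := d6_2 F341523 D215867 (iv3 F416304)
theorem F481860 : act 4 n193753 = n215867 := d20_2 D102290 D193753 (iv3 D215867) (iv1 D177999) (iv3 F328990) D209234 F452819 F422878 F359414 (iv1 D102289)
theorem F481861 : act 1 n215867 = n187096 := d18_8 D192170 F385844 (iv1 F368769) F368762 (iv5 F274880) (iv4 F480666) F480669 F481860 F369071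
theorem F481862 : act 1 n191505 = n215867 := d15_0 F481861 (iv7 F480674) F480670
def n215868 : Q := act 4 n177999
theorem D215868 : act 4 n177999 = n215868 := rfl
theorem F481863 : act 5 n215868 = n213196 := d16_5 (iv4 F432984) (iv5 F452635) F452634 F341523 D215868 F469406 F389320 (iv7 F430917) F430914
theorem F481864 : act 3 n215868 = n203616 := d19_3 F357723 F341523 D215868 (iv1 D203616) (iv5 D119637) F87041 (iv3 D26695) D26693 (iv5 F42803) (iv4 D26699) (iv3 F41991) F50604 (iv5 D31655) D31654 (iv3 F55645) (iv1 F55646) D59815 (iv4 F114302) D159421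
theorem F481865 : act 0 n215868 = n204600 := d21_7 F220230 D156049 D213900 (iv6 F472648) F433550 (iv6 F469407) (iv5 F481863) (iv5 F452635) (iv6 D209187) (iv1 F364775)
def n215869 : Q := act 0 n178078
theorem D215869 : act 0 n178078 = n215869 := rfl
theorem F481866 : act 5 n215869 = n202356 := d21_2 F433268 D215869 (iv6 D202356) F404240 (iv6 D74339) F53511 (iv1 F53406) D74204 D156007 F433269
theorem F481867 : act 6 n215869 = n213061 := d21_5 (iv5 D137005) D137002 F422879 F422882 D215869 (iv5 D213061) F392446 D194242 (iv6 F455108) (iv1 D209838)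
theorem F481868 : act 3 n202359 = n215869 := d7_3 F481867 F468827 (iv6 F423752)
def n215870 : Q := act 1 n178078
theorem D215870 : act 1 n178078 = n215870 := rfl
def n215871 : Q := act 0 n178079
theorem D215871 : act 0 n178079 = n215871 := rfl
def n215872 : Q := act 7 n178079
theorem D215872 : act 7 n178079 = n215872 := rfl
theorem F481869 : act 3 n215872 = n213988 := d8_1 D215872 F472997 (iv3 F422880)
theorem F481870 : act 4 n215872 = n178083 := d11_1 D215872 (iv7 D178083) (iv4 F277618)
theorem F481871 : act 6 n215872 = n204464 := d14_1 D215872 (iv7 D204464) F198295 F302312 D178079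
def n215873 : Q := act 4 n178080
theorem D215873 : act 4 n178080 = n215873 := rfl
theorem F481872 : act 7 n215873 = n215819 := d11_2 (iv7 F432718) D215873 F481694
theorem F481873 : act 0 n215873 = n215821 := d18_2 D178080 D215873 F481696 F343252 F412537 (iv0 D199528) F172879 (iv0 F363014) F304631
theorem F481874 : act 0 n215767 = n215873 := d20_7 F157146 D102331 D193790 (iv3 F392083) F471532 F471530 (iv4 F481489) (iv4 D215873) (iv3 F432719) (iv1 D193787)
theorem F481875 : act 2 n215873 = n215818 := d15_3 (iv0 D215818) D215819 (iv7 F481872)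
theorem F481876 : act 4 n215818 = n204589 := d1_2 D215873 F481875 (iv2 F432962)
theorem F481877 : act 3 n209549 = n215818 := d20_5 F422887 (iv1 F245411) D213984 F472980 (iv1 F454095) F481876 (iv1 F432963) (iv4 F481870) F481869 F472999
theorem F481878 : act 5 n215818 = n209548 := d6_2 D209549 F481877 (iv3 D209548)
def n215874 : Q := act 3 n178081
theorem D215874 : act 3 n178081 = n215874 := rfl
theorem F481879 : act 5 n215874 = n188707 := d6_2 F386057 D215874 (iv3 F386055)
theorem F481880 : act 6 n215874 = n185117 := d7_2 (iv6 F363013) D215874 (iv3 D185117)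
theorem F481881 : act 4 n210765 = n215874 := d19_2 D192447 (iv5 F458728) (iv3 D215874) (iv1 D178081) (iv5 F304631) F413247 F413246 F371591 (iv5 D154712) (iv4 F237849) (iv3 D151162) F107732 (iv5 F109232) (iv4 F109233) (iv3 F240477) F374513 F374511 (iv4 F386744) (iv3 D192448)
theorem F481882 : act 0 n213760 = n215874 := d17_2 F387813 D213760 F481879 (iv4 D188707) (iv5 D92682) F138958 D90807 F362392 D192794
def n215875 : Q := act 4 n178081
theorem D215875 : act 4 n178081 = n215875 := rfl
theorem F481883 : act 2 n215875 = n215819 := d1_1 D215875 F481694 F391137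
theorem F481884 : act 6 n215875 = n185118 := d10_2 (iv6 F363013) D215875 (iv4 D185118)
theorem F481885 : act 7 n215875 = n215818 := d11_2 F432964 D215875 F481876
theorem F481886 : act 0 n215875 = n215767 := d18_2 F432716 D215875 F481489 (iv5 F343237) (iv4 F412540) F412538 (iv4 F406687) F406690 D204499
theorem F481887 : act 1 n215875 = n215821 := d15_1 (iv0 F481886) (iv7 D215821) (iv2 F481488)
def n215876 : Q := act 5 n178084
theorem D215876 : act 5 n178084 = n215876 := rfl
theorem F481888 : act 3 n215876 = n211726 := d6_1 D215876 (iv5 F463485) F463483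
theorem F481889 : act 4 n215876 = n192928 := d16_2 (iv4 F380561) D215876 F388252 (iv4 D188234) (iv5 D91105) (iv4 F292383) D95355 (iv7 F148340) F148338
theorem F481890 : act 1 n215876 = n210510 := d17_6 F146996 (iv5 D44598) D44597 D95463 (iv4 F380561) D215876 F457857 (iv0 F378075) (iv4 D189881)
theorem F481891 : act 6 n215876 = n192927 := d21_3 (iv5 D178087) D178084 D215876 F391231 (iv6 D100978) F293155 F74025 D92897 D188898 F394592
def n215877 : Q := act 3 n178085
theorem D215877 : act 3 n178085 = n215877 := rfl
theorem F481892 : act 4 n215877 = n189874 := d5_2 F365763 D215877 (iv3 D189874) (iv4 D95357) (iv3 F146988)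
theorem F481893 : act 6 n215877 = n199615 := d7_2 F463480 D215877 (iv3 F463477)
theorem F481894 : act 5 n202434 = n215877 := d21_2 D178340 (iv1 F423977) F481893 (iv1 D199615) (iv6 D111497) (iv5 F172893) (iv1 F412452) (iv5 D199507) (iv6 F409679) (iv1 F277905)
theorem F481895 : act 0 n215877 = n204848 := d21_4 F358644 (iv1 F404411) F412863 (iv6 F481893) (iv6 D204848) (iv5 F402005) (iv1 D107386) (iv5 F164967) (iv6 D107031) D107028
theorem F481896 : act 6 n196802 = n202434 := d21_5 (iv5 D196638) F343468 (iv5 F386494) (iv6 F386493) D196802 F481894 F481895 F433833 F404808 (iv1 F401291)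
theorem F481897 : act 0 n215080 = n215877 := d21_1 (iv5 F478233) (iv5 F481894) (iv6 F481896) (iv1 F401854) (iv6 D139617) D139616 (iv1 F357956) F357957 D108474 D197575
def n215878 : Q := act 5 n178085
theorem D215878 : act 5 n178085 = n215878 := rfl
theorem F481898 : act 3 n215878 = n202434 := d6_1 D215878 F481894 (iv3 D215877)
theorem F481899 : act 0 n215878 = n210510 := d17_2 (iv1 F430941) D215878 F457857 F359241 (iv5 D100725) D100724 D192811 F387871 (iv4 F430937)
def n215879 : Q := act 0 n178087
theorem D215879 : act 0 n178087 = n215879 := rfl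
theorem F481900 : act 5 n215879 = n178114 := d17_3 (iv1 D178085) D178087 D215879 F378077 (iv5 F160477) F147771 (iv5 F287718) (iv0 F287720) F365763
theorem F481901 : act 4 n215879 = n192499 := d18_3 F384798 (iv4 F394588) D215879 F386838 (iv4 D102337) (iv0 F289676) D191987 F385104 F369081
theorem F481902 : act 3 n215879 = n200239 := d20_5 F302602 (iv1 F306751) F306752 (iv3 F277620) D215879 F415668 D200245 F415692 (iv3 D178160) (iv1 F302600)
theorem F481903 : act 6 n215879 = n200237 := d21_5 (iv5 F479929) F479932 F388210 (iv6 F394589) D215879 F479083 F479082 (iv5 F388188) (iv6 D192910) (iv1 F385092)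
theorem F481904 : act 7 n192497 = n215879 := d14_0 F481903 F415663 (iv6 D188923) F294167 D192497
def n215880 : Q := act 0 n178089
theorem D215880 : act 0 n178089 = n215880 := rfl
theorem F481905 : act 3 n215880 = n178496 := d20_5 F459217 F343485 D191909 F394590 D215880 (iv4 D178496) (iv1 F348504) D214774 F476778 F459219
theorem F481906 : act 6 n215880 = n178521 := d21_5 (iv5 D124217) F301765 D84770 D178089 D215880 F341264 F202186 (iv5 F173056) F363318 F276956
theorem F481907 : act 5 n198357 = n215880 := d12_5 F481906 F341264 (iv6 D109242) D109241 D198357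
def n215881 : Q := act 5 n178089
theorem D215881 : act 5 n178089 = n215881 := rfl
theorem F481908 : act 2 n215881 = n204830 := d2_1 D215881 F433749 F433153
theorem F481909 : act 3 n215881 = n192916 := d6_1 D215881 F388210 F394590
theorem F481910 : act 6 n215881 = n178090 := d12_2 D178089 D215881 (iv5 D178090) (iv6 D84771) D84770
theorem F481911 : act 0 n211535 = n215881 := d19_0 (iv5 D215881) (iv4 F433041) (iv3 F473056) F473058 F431765 F414440 F414437 F348105 F348107 (iv4 D111888) (iv3 D51596) (iv1 F39345) F24325 (iv4 F24318) (iv3 F49356) F330024 D138519 (iv4 F350102) (iv3 F462023)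
theorem F481912 : act 4 n214609 = n215881 := d10_3 F481910 F366916 D214609
def n215882 : Q := act 4 n178098
theorem D215882 : act 4 n178098 = n215882 := rfl
theorem F481913 : act 3 n215882 = n201966 := d5_1 D215882 (iv4 F481778) F481774 F277532 (iv3 F277635)
theorem F481914 : act 6 n215882 = n201964 := d10_2 (iv6 F400472) D215882 F422540
def n215883 : Q := act 3 n178114
theorem D215883 : act 3 n178114 = n215883 := rfl
theorem F481915 : act 2 n215883 = n214178 := d0_1 D215883 F473869 F404879 (iv3 F378072) F378076
theorem F481916 : act 4 n215883 = n204301 := d5_2 (iv4 F378077) D215883 (iv3 F431949) F393424 F380637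
theorem F481917 : act 5 n215883 = n200239 := d6_2 F481900 D215883 (iv3 F481902)
theorem F481918 : act 6 n215883 = n199093 := d7_2 (iv6 F378078) D215883 F410631
theorem F481919 : act 0 n215387 = n215883 := d20_4 (iv4 F433157) F439158 F439156 (iv3 F479722) (iv3 D215883) F378077 (iv1 F160475) D189916 F433195 (iv1 D204666)
def n215884 : Q := act 3 n178115
theorem D215884 : act 3 n178115 = n215884 := rfl
theorem F481920 : act 4 n215884 = n190693 := d5_2 F359243 D215884 (iv3 D190693) (iv4 D96393) D96392
theorem F481921 : act 6 n215884 = n198857 := d7_2 F375167 D215884 F409601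
theorem F481922 : act 7 n215884 = n178318 := d8_2 F378074 D215884 (iv3 F378072)
theorem F481923 : act 0 n215884 = n178322 := d19_4 (iv1 F150260) (iv5 F148367) F359243 D215884 (iv5 F423981) F423980 F228398 (iv1 F165025) D196544 (iv4 F465669) F465667 D212409 F465684 F422099 F363916 F288361 F288358 (iv4 F370002) F370001
theorem F481924 : act 1 n215884 = n178307 := d15_1 (iv0 F481923) F277891 (iv2 F277903)
theorem F481925 : act 2 n178317 = n215884 := d15_3 F481924 (iv0 F404883) F404882
def n215885 : Q := act 5 n178116
theorem D215885 : act 5 n178116 = n215885 := rfl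
theorem F481926 : act 2 n215885 = n178117 := d2_1 D215885 (iv5 D178117) D178116
theorem F481927 : act 3 n215885 = n199604 := d6_1 D215885 (iv5 D199604) F361603
theorem F481928 : act 4 n215885 = n192823 := d9_1 D215885 (iv5 D192823) (iv4 D100743) (iv5 D46978) (iv4 F74192) D100725 (iv4 F359241) (iv5 F457857) F457856 F386222 (iv4 F386223) F368476 F292387 D194926 F395032
theorem F481929 : act 0 n215885 = n215878 := d17_2 (iv1 F378274) D215885 (iv5 D215878) (iv4 F365763) (iv5 D95355) F76175 D104757 (iv0 F160470) D189926
theorem F481930 : act 1 n215885 = n215876 := d17_6 (iv1 F387865) (iv5 D192809) F289689 D194926 F395032 D215885 (iv5 D215876) (iv0 D178084) (iv4 F302359)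
def n215886 : Q := act 0 n178117
theorem D215886 : act 0 n178117 = n215886 := rfl
theorem F481931 : act 5 n215886 = n194913 := d17_3 (iv1 D178115) D178117 D215886 (iv4 D194913) (iv5 D104756) (iv0 D48436) D48438 (iv0 F148373) F359243
theorem F481932 : act 4 n215886 = n193763 := d18_1 D215886 F390939 (iv4 F400157) F400158 (iv4 D189916) F160475 (iv4 F378077) (iv0 D178114) D178117
theorem F481933 : act 3 n215886 = n196763 := d20_5 (iv4 F481766) (iv1 D215844) F277531 (iv3 F277669) D215886 (iv4 F462840) (iv1 D211719) F226765 F345329 D178129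
theorem F481934 : act 6 n215886 = n196762 := d21_5 (iv5 F479688) F479691 D215388 F479726 D215886 F401714 D214172 F473839 F460430 (iv1 F388183)
theorem F481935 : act 7 n215876 = n215886 := d14_0 F481934 (iv7 F411006) (iv6 F411007) (iv7 F390047) (iv6 F481891)
theorem F481936 : act 2 n215886 = n215878 := d15_3 (iv0 F481929) F481930 F481935
def n215887 : Q := act 1 n178117
theorem D215887 : act 1 n178117 = n215887 := rfl
theorem F481937 : act 7 n215887 = n215878 := d15_2 (iv0 D215886) D215887 (iv2 F481936)
theorem F481938 : act 5 n215887 = n190680 := d17_7 (iv1 F394583) (iv5 F378201) F378199 (iv5 F359242) F300491 D178117 D215887 F394595 F394585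
theorem F481939 : act 4 n215887 = n209964 := d17_9 F466363 F466359 (iv1 F368567) (iv5 F386838) (iv4 F481901) F481900 (iv0 D178114) D178117 D215887
theorem F481940 : act 2 n215876 = n215887 := d1_3 F481939 F455553 (iv4 F481889)
theorem F481941 : act 6 n192458 = n215887 := d10_0 F481939 (iv6 D209964) F390036
def n215888 : Q := act 4 n178123
theorem D215888 : act 4 n178123 = n215888 := rfl
theorem F481942 : act 3 n215888 = n197866 := d5_1 D215888 (iv4 F478105) (iv3 D215054) D215055 F478111
theorem F481943 : act 6 n215888 = n197864 := d10_2 (iv6 F411954) D215888 F411951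
theorem F481944 : act 0 n215888 = n196503 := d17_0 (iv5 F402109) F402110 F401295 F400727 (iv5 F401472) F401474 (iv5 F412007) (iv0 F412011) D215888
def n215889 : Q := act 3 n178124
theorem D215889 : act 3 n178124 = n215889 := rfl
theorem F481945 : act 5 n215889 = n208636 := d6_2 F345336 D215889 F450272
theorem F481946 : act 6 n215889 = n214278 := d7_2 (iv6 F402161) D215889 (iv3 D214278)
theorem F481947 : act 4 n215889 = n199919 := d20_6 F80990 D51328 D111290 D199403 (iv1 F412010) D215889 (iv1 D199919) F174068 F168698 F94230
theorem F481948 : act 0 n215889 = n189930 := d20_1 (iv4 F481947) F378278 (iv3 D95489) (iv1 F137944) D187286 F369705 F353480 D178336 (iv3 F408346) (iv1 F414152)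
theorem F481949 : act 0 n212645 = n208636 := d17_0 (iv5 F481945) F481948 F459272 F459271 (iv5 F436420) (iv0 F464971) F464969 F405303 D212645
def n215890 : Q := act 4 n178124
theorem D215890 : act 4 n178124 = n215890 := rfl
theorem F481950 : act 3 n215890 = n204295 := d5_1 D215890 F431923 F414155 (iv4 F481947) (iv3 D215889)
theorem F481951 : act 6 n215890 = n196491 := d10_2 (iv6 F402161) D215890 (iv4 F400823)
theorem F481952 : act 5 n215890 = n193316 := d17_5 F402152 (iv5 F402153) F402160 F345336 D215890 (iv0 F457319) F463495 (iv0 D211901) F227057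
theorem F481953 : act 0 n196503 = n215890 := d20_10 (iv4 D215890) (iv1 D178124) (iv4 F197905) (iv3 D123485) F341387 (iv3 F221672) F341738 F341733 F350071 (iv3 F402108)
def n215891 : Q := act 5 n178149
theorem D215891 : act 5 n178149 = n215891 := rfl
theorem F481954 : act 3 n215891 = n178150 := d6_1 D215891 (iv5 D178150) D178149
theorem F481955 : act 6 n215891 = n194964 := d12_2 (iv6 F358891) D215891 (iv5 D194964) D194965 (iv5 F395206)
theorem F481956 : act 0 n215891 = n205049 := d17_2 F478109 D215891 (iv5 D205049) (iv4 D125349) D125350 F353899 F318543 D165646 D215055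
theorem F481957 : act 1 n215891 = n205053 := d17_6 F357801 (iv5 D172552) (iv1 F187674) (iv5 F412739) F412737 D215891 (iv5 D205053) (iv0 F383315) (iv4 D191393)
def n215892 : Q := act 4 n178150
theorem D215892 : act 4 n178150 = n215892 := rfl
theorem F481958 : act 7 n215892 = n196616 := d11_2 (iv7 F459808) D215892 (iv4 F459805)
theorem F481959 : act 3 n215892 = n196621 := d20_3 F459813 F459814 D215892 (iv1 F402201) (iv3 D196896) F165719 (iv1 D51998) (iv4 F50033) (iv3 F104300) D145351
def n215893 : Q := act 6 n178150
theorem D215893 : act 6 n178150 = n215893 := rfl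
theorem F481960 : act 3 n215893 = n194964 := d7_1 D215893 (iv6 F481955) F481954
theorem F481961 : act 5 n215893 = n194963 := d12_1 D215893 (iv6 F395202) F343708 F358888 D178150
def n215894 : Q := act 0 n178153
theorem D215894 : act 0 n178153 = n215894 := rfl
theorem F481962 : act 5 n215894 = n214592 := d17_3 F358915 D178153 D215894 (iv4 F478225) F478226 (iv0 F466034) F466033 F358927 (iv4 F272933)
theorem F481963 : act 2 n178154 = n215894 := d15_3 (iv0 D215894) (iv0 F466444) F466443
theorem F481964 : act 1 n178158 = n215894 := d15_0 (iv0 D215894) F419962 F419959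
theorem F481965 : act 7 n215894 = n178155 := d15_2 (iv0 F466445) F481964 F466447
theorem F481966 : act 6 n215894 = n193239 := d3_2 F356034 F481963 (iv2 F389282)
def n215895 : Q := act 3 n178155
theorem D215895 : act 3 n178155 = n215895 := rfl
theorem F481967 : act 2 n215895 = n212853 := d0_1 D215895 (iv3 D212853) (iv2 F237579) D212564 (iv2 F466447)
def n215896 : Q := act 1 n178156
theorem D215896 : act 1 n178156 = n215896 := rfl
theorem F481968 : act 1 n215896 = n196478 := d15_1 D215896 (iv7 D196478) (iv2 F358686)
theorem F481969 : act 7 n215896 = n196476 := d15_2 (iv0 F410698) D215896 (iv2 F410695)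
theorem F481970 : act 5 n215896 = n188641 := d17_7 (iv1 D93022) D93023 D189024 (iv5 F419916) F419915 F412672 D215896 (iv0 F375450) (iv4 D189023)
theorem F481971 : act 6 n191982 = n215896 := d21_3 F359735 F155453 D191982 (iv1 D215896) (iv6 F358685) F358684 (iv1 F358642) F227056 F112137 (iv1 F358646)
theorem F481972 : act 2 n215896 = n188885 := d3_1 F481971 F375132 (iv2 F385086)
def n215897 : Q := act 7 n178156
theorem D215897 : act 7 n178156 = n215897 := rfl
theorem F481973 : act 2 n215897 = n196478 := d4_1 D215897 (iv7 D196478) (iv2 F358686)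
theorem F481974 : act 3 n215897 = n204477 := d8_1 D215897 F432655 F412674
theorem F481975 : act 4 n215897 = n178158 := d11_1 D215897 (iv7 D178158) D178156
theorem F481976 : act 5 n215897 = n204476 := d13_1 D215897 F432652 F412672
theorem F481977 : act 6 n215897 = n187839 := d14_1 D215897 F371669 (iv6 D107024) F164961 F358685
theorem F481978 : act 1 n188885 = n215897 := d15_1 (iv0 F400785) (iv7 D215897) F358686
theorem F481979 : act 1 n215897 = n196476 := d15_1 F481978 (iv7 F481969) F481972
def n215898 : Q := act 0 n178164
theorem D215898 : act 0 n178164 = n215898 := rfl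
theorem F481980 : act 5 n215898 = n204464 := d17_3 F433185 F433182 D215898 F432610 F198296 F90902 D123900 F362807 (iv4 F287537)
theorem F481981 : act 3 n215898 = n213859 := d20_5 F360087 (iv1 D84804) D84805 D178164 D215898 F472435 (iv1 F279204) (iv4 F472161) F472160 F469337
theorem F481982 : act 4 n215898 = n199810 := d20_0 (iv1 F413595) (iv4 F472387) F472386 (iv1 F245071) D156122 F360087 (iv1 D84804) D84805 D178164 D215898
theorem F481983 : act 2 n204497 = n215898 := d15_3 (iv0 D215898) F432767 F432765
theorem F481984 : act 7 n215898 = n204463 := d4_2 F432765 F481983 (iv2 F432764)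
def n215899 : Q := act 2 n178164
theorem D215899 : act 2 n178164 = n215899 := rfl
theorem F481985 : act 3 n215899 = n213871 := d0_2 D178164 D215899 F472513 F349757 F277308
theorem F481986 : act 4 n215899 = n204485 := d1_2 (iv4 F412676) D215899 F432679
theorem F481987 : act 5 n215899 = n204470 := d2_2 F433182 D215899 F433184
theorem F481988 : act 6 n215899 = n213869 := d3_2 F412865 D215899 F472501
theorem F481989 : act 1 n215899 = n204463 := d15_0 (iv0 F481533) F481531 D215899
theorem F481990 : act 1 n204497 = n215899 := d15_0 F481989 (iv7 F481984) (iv2 F481983)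
def n215900 : Q := act 4 n178177
theorem D215900 : act 4 n178177 = n215900 := rfl
theorem F481991 : act 2 n215900 = n204848 := d1_1 D215900 F433832 (iv2 F345551)
theorem F481992 : act 6 n215900 = n204845 := d10_2 F362195 D215900 (iv4 D204845)
theorem F481993 : act 7 n215900 = n215080 := d11_2 (iv7 F345529) D215900 (iv4 D215080)
def n215901 : Q := act 0 n178181
theorem D215901 : act 0 n178181 = n215901 := rfl
theorem F481994 : act 4 n215901 = n194957 := d18_3 D84812 D178181 D215901 F395179 (iv4 F335994) F327114 (iv4 F340162) F340161 F122668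
theorem F481995 : act 1 n178186 = n215901 := d15_0 (iv0 D215901) (iv7 F434056) F434053
theorem F481996 : act 6 n180642 = n215901 := d21_3 F433780 (iv1 F351038) (iv5 F362313) (iv1 F481995) F335990 D180282 (iv1 F348573) D194927 (iv6 F408289) (iv1 F433783)
theorem F481997 : act 2 n215901 = n198668 := d3_1 F481996 (iv6 D198668) F359272
def n215902 : Q := act 1 n178181
theorem D215902 : act 1 n178181 = n215902 := rfl
theorem F481998 : act 1 n215902 = n178186 := d15_1 D215902 (iv7 F434060) F434058
theorem F481999 : act 7 n215902 = n198668 := d15_2 (iv0 D215901) D215902 (iv2 F481997)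
theorem F482000 : act 4 n215902 = n194958 := d18_7 D152189 F340920 (iv1 F334810) (iv4 F352065) (iv5 D178182) D178181 D215902 F395182 (iv5 D152191)
theorem F482001 : act 3 n198572 = n215902 := d20_3 (iv4 F434932) F434931 (iv4 F408362) (iv1 D215902) F394808 (iv4 F417030) (iv1 F435208) F435206 F408854 D198683
theorem F482002 : act 5 n215902 = n198570 := d6_2 D198572 F482001 (iv3 D198570)
theorem F482003 : act 6 n215902 = n198698 := d7_2 (iv6 F408364) F482001 (iv3 D198698)
theorem F482004 : act 0 n198570 = n215093 := d21_7 F173628 (iv1 F205300) (iv5 F205302) D199957 F414340 (iv6 F482003) F482002 (iv5 D215093) (iv6 F360149) (iv1 F173630)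
def n215903 : Q := act 5 n178181
theorem D215903 : act 5 n178181 = n215903 := rfl
theorem F482005 : act 2 n215903 = n211794 := d2_1 D215903 F463091 F434058
theorem F482006 : act 4 n215903 = n209136 := d16_2 D178181 D215903 (iv5 D209136) F336465 F105037 (iv4 F108375) (iv5 F335987) (iv7 F340148) F340147
theorem F482007 : act 1 n215903 = n215500 := d17_6 (iv1 D121720) D121723 (iv1 F352064) (iv5 D178182) D178181 D215903 (iv5 D215500) F413785 F413782
def n215904 : Q := act 5 n178186
theorem D215904 : act 5 n178186 = n215904 := rfl
theorem F482008 : act 3 n215904 = n190835 := d6_1 D215904 F381276 (iv3 F347468)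
theorem F482009 : act 4 n215904 = n209138 := d9_1 D215904 (iv5 D209138) F398220 F398218 (iv4 F352065) (iv5 D178182) D178181 D215903 F482006 (iv5 D209136) F336465 F105037 (iv4 F108375) (iv5 F335987) D178186
theorem F482010 : act 7 n215904 = n211794 := d13_2 F434060 D215904 F463091
theorem F482011 : act 0 n215904 = n215500 := d17_2 (iv1 F481995) D215904 (iv5 D215500) F340639 F353489 (iv0 D152189) D152191 F395180 (iv4 F481994)
theorem F482012 : act 6 n190833 = n215904 := d7_0 F482008 (iv6 D190835) D190833
def n215905 : Q := act 0 n178230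
theorem D215905 : act 0 n178230 = n215905 := rfl
theorem F482013 : act 5 n215905 = n178507 := d17_1 D215905 (iv1 F478323) (iv5 D215097) (iv4 D166436) D166437 F334089 (iv5 F331711) F199326 D178230
theorem F482014 : act 4 n215905 = n178545 := d18_1 D215905 (iv1 F428704) F428701 (iv5 D178522) (iv4 D84955) D84954 D178518 F278192 (iv5 F337712)
theorem F482015 : act 2 n215558 = n215905 := d15_3 (iv0 D215905) (iv0 F479684) (iv7 F480492)
theorem F482016 : act 1 n178235 = n215905 := d15_0 (iv0 D215905) (iv7 F353916) F353915
theorem F482017 : act 7 n215905 = n215557 := d15_2 F479685 F482016 (iv2 F480489)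
theorem F482018 : act 3 n198257 = n215905 := d19_19 (iv1 F482016) F337711 (iv4 D119434) (iv3 F306330) (iv1 F355177) D203648 F429231 F222454 (iv1 F309197) F185643 (iv4 F320207) (iv3 F212928) F354305 (iv5 F442096) F442097 (iv3 F470798) F470801 (iv5 F477310) F477309
theorem F482019 : act 6 n215905 = n198255 := d7_2 D198257 F482018 (iv3 D198255)
def n215906 : Q := act 4 n178234
theorem D215906 : act 4 n178234 = n215906 := rfl
theorem F482020 : act 2 n215906 = n215877 := d1_1 D215906 F481892 F378057
theorem F482021 : act 3 n215906 = n196454 := d5_1 D215906 F400734 F400574 (iv4 D178235) D178234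
theorem F482022 : act 6 n215906 = n196453 := d10_2 (iv6 F387302) D215906 F400728
theorem F482023 : act 0 n215906 = n215900 := d18_2 F478229 D215906 (iv4 D215900) F336002 (iv4 F335995) (iv0 F467472) F467468 F466192 (iv5 F478226)
theorem F482024 : act 1 n215906 = n214135 := d18_6 F321090 (iv4 F335494) (iv1 F206231) (iv4 F346726) (iv5 F361916) D215906 F473648 (iv0 D178176) (iv5 F317773)
def n215907 : Q := act 3 n178239
theorem D215907 : act 3 n178239 = n215907 := rfl
theorem F482025 : act 4 n215907 = n210074 := d5_2 F404669 D215907 (iv3 D210074) (iv4 F399182) (iv3 F404668)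
theorem F482026 : act 5 n215907 = n203972 := d6_2 F299733 D215907 (iv3 D203972)
theorem F482027 : act 6 n215907 = n211439 := d7_2 F362635 D215907 (iv3 D211439)
theorem F482028 : act 7 n215907 = n210311 := d8_2 F341287 D215907 F456958
theorem F482029 : act 0 n215907 = n203941 := d19_4 D108417 D197517 F404669 D215907 F435497 F435495 (iv3 F435489) F435492 (iv5 D201020) (iv4 D113750) D113749 F374843 (iv5 D188615) F142604 (iv3 F134950) (iv1 F290227) F335802 (iv4 F167618) F167617
theorem F482030 : act 0 n215454 = n196846 := d20_7 F456407 (iv1 F470238) (iv4 F482025) (iv3 D215907) (iv1 F344445) (iv3 F457539) F480072 F471662 F471660 (iv1 F459530)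
theorem F482031 : act 1 n215328 = n196846 := d15_0 (iv0 F482030) F480071 (iv2 F479421)
theorem F482032 : act 2 n215907 = n215071 := d15_3 (iv0 D215071) (iv0 F456961) (iv7 F482028)
theorem F482033 : act 0 n210148 = n215907 := d21_7 (iv5 D194569) F295619 (iv5 F410615) (iv6 F410617) (iv1 F402098) (iv6 F439160) (iv5 F456360) F482026 F430652 F409332
def n215908 : Q := act 6 n178288
theorem D215908 : act 6 n178288 = n215908 := rfl
theorem F482034 : act 2 n215908 = n205267 := d3_1 D215908 (iv6 F435680) (iv2 F373668)
theorem F482035 : act 3 n215908 = n199836 := d7_1 D215908 F413743 F356070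
theorem F482036 : act 4 n215908 = n214929 := d10_1 D215908 (iv6 F477488) F277850
theorem F482037 : act 5 n215908 = n205152 := d12_1 D215908 (iv6 D205152) (iv5 D125533) D125534 (iv5 F356071)
theorem F482038 : act 7 n215908 = n188441 := d14_2 (iv7 F362485) D215908 (iv6 D188441) (iv7 F254429) D163459
theorem F482039 : act 0 n215908 = n180475 := d21_4 F350090 F360413 (iv5 F356071) D215908 (iv6 F366192) (iv5 F436963) F440881 (iv5 F441533) F441534 (iv1 F430504)
theorem F482040 : act 0 n205140 = n215908 := d21_4 (iv5 F406731) (iv1 D198085) (iv5 F365216) (iv6 F435116) (iv6 D215908) F356071 (iv1 F430521) (iv5 D203945) F194213 D177558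
def n215909 : Q := act 3 n178317
theorem D215909 : act 3 n178317 = n215909 := rfl
theorem F482041 : act 4 n215909 = n204300 := d5_2 (iv4 F277900) D215909 F431942 (iv4 D166436) D166435
theorem F482042 : act 5 n215909 = n213715 := d6_2 F404889 D215909 F471763
theorem F482043 : act 6 n215909 = n199505 := d7_2 (iv6 F409679) D215909 (iv3 D199505)
theorem F482044 : act 7 n215909 = n214178 := d8_2 F404882 D215909 F473869
theorem F482045 : act 0 n215909 = n215387 := d20_4 (iv4 D166467) (iv1 F358935) (iv4 F277900) D215909 F479722 (iv4 F439156) (iv1 F439159) F433876 F277296 F262024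
def n215910 : Q := act 5 n178336
theorem D215910 : act 5 n178336 = n215910 := rfl
theorem F482046 : act 2 n215910 = n215500 := d2_1 D215910 (iv5 D215500) (iv2 F353504)
theorem F482047 : act 0 n215910 = n211794 := d17_2 F277911 D215910 F463091 (iv4 D204896) (iv5 F348637) F348633 (iv5 F336454) F194280 D166400
def n215911 : Q := act 5 n178360
theorem D215911 : act 5 n178360 = n215911 := rfl
theorem F482048 : act 2 n215911 = n178375 := d2_1 D215911 (iv5 D178375) (iv2 F277921)
theorem F482049 : act 3 n215911 = n204467 := d6_1 D215911 F432624 F419670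
theorem F482050 : act 7 n215911 = n201299 := d13_2 F375456 D215911 F419916
theorem F482051 : act 4 n215911 = n204476 := d16_2 D178360 D215911 (iv5 F481976) F481975 F277712 F130010 (iv5 F130076) (iv7 D84871) (iv2 F130072)
theorem F482052 : act 0 n215911 = n214452 := d17_2 (iv1 F375468) D215911 (iv5 D214452) F358938 (iv5 D166468) D166465 (iv5 F466033) F466035 (iv4 F375465)
theorem F482053 : act 1 n215911 = n215603 := d17_6 F321090 (iv5 F334698) (iv1 F328595) D84866 D178360 D215911 (iv5 D215603) (iv0 F373915) F373912
def n215912 : Q := act 0 n178375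
theorem D215912 : act 0 n178375 = n215912 := rfl
theorem F482054 : act 5 n215912 = n201179 := d17_3 (iv1 D178373) D178375 D215912 F440151 (iv5 F440152) (iv0 F358881) F358889 D212513 (iv4 F466184)
theorem F482055 : act 2 n214452 = n215912 := d15_3 (iv0 D215912) (iv0 F480814) F480813
theorem F482056 : act 3 n215912 = n203430 := d0_2 (iv3 F475237) F482055 (iv2 F473893) (iv3 D214184) F350582
theorem F482057 : act 6 n215912 = n201304 := d3_2 (iv6 F475238) F482055 F471641
theorem F482058 : act 7 n215912 = n215603 := d4_2 F480813 F482055 (iv2 F480810)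
theorem F482059 : act 1 n201299 = n215912 := d15_1 F480815 F482058 (iv2 F480810)
def n215913 : Q := act 7 n178375
theorem D215913 : act 7 n178375 = n215913 := rfl
theorem F482060 : act 2 n215913 = n201299 := d4_1 D215913 (iv7 F482050) F482048
theorem F482061 : act 3 n215913 = n212278 := d8_1 D215913 F465106 (iv3 F366567)
theorem F482062 : act 4 n215913 = n196477 := d11_1 D215913 (iv7 F464441) F464438
theorem F482063 : act 5 n215913 = n178377 := d13_1 D215913 (iv7 D178377) D178375
theorem F482064 : act 6 n215913 = n201221 := d14_1 D215913 (iv7 F419504) (iv6 F386975) (iv7 F376862) F376859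
theorem F482065 : act 1 n215603 = n215913 := d15_1 F482053 (iv7 D215913) (iv2 F482048)
theorem F482066 : act 1 n215913 = n214452 := d15_1 F482065 (iv7 F480813) F480810
def n215914 : Q := act 3 n178481
theorem D215914 : act 3 n178481 = n215914 := rfl
theorem F482067 : act 4 n215914 = n178521 := d5_2 D178481 D215914 (iv3 D178521) (iv4 D84955) (iv3 F130187)
theorem F482068 : act 0 n215914 = n199504 := d19_4 F130350 D84936 D178481 D215914 F458001 F457997 (iv3 F369079) (iv1 F385104) (iv5 F457874) F457873 F277669 (iv1 F277641) (iv5 F299584) F196321 (iv3 D78131) F298018 (iv5 D41434) (iv4 F118373) D82936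
theorem F482069 : act 0 n210753 = n202300 := d20_4 F423270 (iv1 F415328) F415332 D210753 (iv3 F459594) (iv4 D210977) F341266 (iv4 F482067) (iv3 D215914) (iv1 F423273)
theorem F482070 : act 1 n215914 = n202138 := d15_1 (iv0 F482068) (iv7 F423020) (iv2 F412436)
theorem F482071 : act 5 n210415 = n215914 := d17_5 (iv1 F406650) (iv5 D111230) (iv1 F172392) D138643 D210415 F482070 (iv5 F423021) D210411 F457432
def n215915 : Q := act 5 n178481
theorem D215915 : act 5 n178481 = n215915 := rfl
theorem F482072 : act 3 n215915 = n210415 := d6_1 D215915 F482071 (iv3 D215914)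
def n215916 : Q := act 5 n178513
theorem D215916 : act 5 n178513 = n215916 := rfl
theorem F482073 : act 2 n215916 = n213793 := d2_1 D215916 (iv5 D213793) F353045
theorem F482074 : act 3 n215916 = n192515 := d6_1 D215916 (iv5 D192515) (iv3 F358735)
theorem F482075 : act 6 n215916 = n199575 := d12_2 F358743 D215916 (iv5 F468991) (iv6 F468993) F375047
theorem F482076 : act 7 n215916 = n204308 := d13_2 (iv7 F278200) D215916 F431983
theorem F482077 : act 4 n215916 = n178538 := d16_2 D178513 D215916 (iv5 D178538) (iv4 F185062) D149220 (iv4 F278193) (iv5 D178519) F353049 F353041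
theorem F482078 : act 0 n215916 = n203949 := d17_2 (iv1 F278208) D215916 (iv5 F471901) (iv4 D213747) (iv5 F428245) F428243 F359309 (iv0 D119432) D119434
theorem F482079 : act 1 n215916 = n180690 := d17_6 D203512 F428637 (iv1 F278188) (iv5 D178514) D178513 D215916 (iv5 F471892) F471894 (iv4 D203513)
def n215917 : Q := act 4 n178514
theorem D215917 : act 4 n178514 = n215917 := rfl
theorem F482080 : act 2 n215917 = n206284 := d1_1 D215917 F440068 (iv2 F353052)
theorem F482081 : act 3 n215917 = n212694 := d5_1 D215917 F467108 (iv3 F444876) F444873 F376013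
theorem F482082 : act 5 n215917 = n178534 := d9_2 D178514 D215917 (iv4 D178534) (iv5 F363189) D204906 F434109 (iv4 D178518) D178519 F278193 (iv5 D149220) F185062 D178538 (iv4 F482077) (iv5 D215916) (iv4 D178513)
theorem F482083 : act 6 n215917 = n206329 := d10_2 F317293 D215917 F440271
theorem F482084 : act 7 n215917 = n203477 := d11_2 (iv7 F278201) D215917 F428464
theorem F482085 : act 0 n215917 = n208221 := d17_0 F448442 (iv1 F278148) (iv5 D128083) F188769 D119337 (iv0 F348495) F348491 F315969 D215917
theorem F482086 : act 1 n215917 = n212698 := d18_6 (iv1 D119433) D119434 (iv1 F278208) (iv4 D178513) D178514 D215917 F467133 (iv0 D203423) F188394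
def n215918 : Q := act 4 n178517
theorem D215918 : act 4 n178517 = n215918 := rfl
theorem F482087 : act 2 n215918 = n215341 := d1_1 D215918 F479480 F440213
theorem F482088 : act 3 n215918 = n194737 := d5_1 D215918 F459551 F459549 (iv4 D178518) D178517
theorem F482089 : act 6 n215918 = n194735 := d10_2 F394297 D215918 F394294
theorem F482090 : act 7 n215918 = n213782 := d11_2 F353050 D215918 F472064
theorem F482091 : act 0 n215918 = n215152 := d18_2 F365672 D215918 (iv4 D215152) (iv5 D167086) (iv4 F136823) F154835 (iv4 F130286) (iv0 F309614) D154537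
theorem F482092 : act 1 n215918 = n214805 := d18_6 (iv1 F447413) (iv4 F429483) (iv1 F429486) (iv4 F479564) F479565 D215918 (iv4 D214805) (iv0 F346537) (iv5 F447408)
def n215919 : Q := act 6 n178518
theorem D215919 : act 6 n178518 = n215919 := rfl
theorem F482093 : act 2 n215919 = n213800 := d3_1 D215919 F472149 F278204
theorem F482094 : act 3 n215919 = n194736 := d7_1 D215919 (iv6 F459550) F459549
theorem F482095 : act 4 n215919 = n178520 := d10_1 D215919 (iv6 D178520) D178518
theorem F482096 : act 7 n215919 = n210155 := d14_2 F353046 D215919 F456394 F353028 D155837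
theorem F482097 : act 0 n215919 = n196673 := d21_4 F471901 (iv1 F434111) F434109 D215919 (iv6 F424702) (iv5 F439712) F461091 F461088 (iv6 F428653) F471903
theorem F482098 : act 0 n213798 = n215919 := d18_0 F482095 F342291 F350842 D208562 F449900 (iv0 D137889) (iv4 F172313) D199242 (iv5 F472138)
def n215920 : Q := act 6 n178650
theorem D215920 : act 6 n178650 = n215920 := rfl
theorem F482099 : act 4 n215920 = n214043 := d10_1 D215920 (iv6 D214043) (iv4 F332251)
theorem F482100 : act 0 n202222 = n215920 := d21_4 (iv5 D53268) D53266 D115478 D202222 (iv6 D215920) (iv5 D178650) (iv1 F274391) (iv5 F274392) (iv6 F351551) (iv1 D115484)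
def n215921 : Q := act 5 n178651
theorem D215921 : act 5 n178651 = n215921 := rfl
theorem F482101 : act 3 n215921 = n210411 := d6_1 D215921 F457431 F405573
theorem F482102 : act 1 n215921 = n203609 := d17_6 (iv1 D119624) (iv5 F95895) (iv1 F305571) (iv5 F307601) (iv4 F278460) D215921 (iv5 D203609) (iv0 F429067) (iv4 D203603)
def n215922 : Q := act 6 n178653
theorem D215922 : act 6 n178653 = n215922 := rfl
theorem F482103 : act 3 n215922 = n193689 := d7_1 D215922 (iv6 F390700) (iv3 F332267)
theorem F482104 : act 4 n215922 = n214042 := d10_1 D215922 (iv6 D214042) F332265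
def n215923 : Q := act 5 n178656
theorem D215923 : act 5 n178656 = n215923 := rfl
theorem F482105 : act 3 n215923 = n213889 := d6_1 D215923 (iv5 D213889) (iv3 F366544)
theorem F482106 : act 6 n215923 = n214041 := d12_2 D178656 D215923 (iv5 D214041) (iv6 D156240) F318300
theorem F482107 : act 1 n215923 = n203600 := d17_6 (iv1 D206346) (iv5 F215322) F228259 (iv5 F316713) F316712 D215923 (iv5 D203600) D203599 (iv4 F448421)
def n215924 : Q := act 3 n178660
theorem D215924 : act 3 n178660 = n215924 := rfl
theorem F482108 : act 2 n215924 = n213880 := d0_1 D215924 (iv3 D213880) F404203 (iv3 F404206) F404208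
theorem F482109 : act 4 n215924 = n197946 := d5_2 F453428 D215924 (iv3 F453432) (iv4 D209371) D209370
theorem F482110 : act 5 n215924 = n213880 := d6_2 F359220 D215924 (iv3 D213880)
theorem F482111 : act 7 n215924 = n209092 := d8_2 F404211 D215924 (iv3 D209092)
theorem F482112 : act 0 n215924 = n198345 := d20_4 (iv4 F432665) F453431 F453428 D215924 F407696 (iv4 F415908) (iv1 D193694) (iv4 F390703) (iv3 F453417) F453419
theorem F482113 : act 0 n198341 = n215924 := d20_4 F278461 F351337 (iv4 F176356) (iv3 F407677) (iv3 D215924) (iv4 F453428) (iv1 F453430) D209390 F453531 F415901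
def n215925 : Q := act 6 n178660
theorem D215925 : act 6 n178660 = n215925 := rfl
theorem F482114 : act 2 n215925 = n209091 := d3_1 D215925 (iv6 D209091) F404208
theorem F482115 : act 0 n215925 = n213847 := d21_4 (iv5 F404218) (iv1 F404221) F359220 D215925 F472375 (iv5 F481799) F481803 F349758 (iv6 D156014) D156009
theorem F482116 : act 0 n213948 = n215925 := d21_4 D115270 F331831 (iv5 F400898) (iv6 F472851) (iv6 D215925) (iv5 F359220) (iv1 D156024) (iv5 D74209) F53411 D53181
theorem F482117 : act 7 n213947 = n215925 := d15_2 (iv0 F452212) D213947 F482114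
theorem F482118 : act 2 n213947 = n193282 := d4_3 (iv7 F452211) (iv2 F482114) (iv7 F482117)
theorem F482119 : act 4 n193279 = n213947 := d1_0 F482118 F389393 (iv2 F389390)
theorem F482120 : act 5 n215837 = n213947 := d2_0 F482118 (iv5 F458302) (iv2 F481740)
theorem F482121 : act 6 n193278 = n213947 := d3_0 F482118 (iv6 D193282) (iv2 F389386)
def n215926 : Q := act 5 n178691
theorem D215926 : act 5 n178691 = n215926 := rfl
theorem F482122 : act 3 n215926 = n193972 := d6_1 D215926 (iv5 D193972) (iv3 F348479)
theorem F482123 : act 4 n215926 = n214854 := d16_2 (iv4 F278511) D215926 (iv5 D214854) F257476 F119628 (iv4 F119854) D163838 F348473 F278294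
def n215927 : Q := act 6 n178766
theorem D215927 : act 6 n178766 = n215927 := rfl
theorem F482124 : act 2 n215927 = n215922 := d3_1 D215927 (iv6 D215922) F278648
theorem F482125 : act 3 n215927 = n204780 := d7_1 D215927 F472648 F472643
theorem F482126 : act 5 n215927 = n213166 := d12_1 D215927 (iv6 D213166) (iv5 D152748) (iv6 F313698) F313697
theorem F482127 : act 0 n213161 = n215927 := d20_4 F239482 (iv1 F315875) F315876 D213161 F482125 (iv4 D204780) (iv1 F289743) F357231 (iv3 D152326) D152324
def n215928 : Q := act 6 n178767
theorem D215928 : act 6 n178767 = n215928 := rfl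
theorem F482128 : act 2 n215928 = n215920 := d3_1 D215928 (iv6 D215920) F278652
theorem F482129 : act 0 n202132 = n215928 := d21_4 (iv5 D107183) D107181 F330597 D202132 (iv6 D215928) (iv5 F278653) F313688 F319533 (iv6 F323216) (iv1 F330548)
def n215929 : Q := act 0 n178768
theorem D215929 : act 0 n178768 = n215929 := rfl
theorem F482130 : act 4 n215929 = n192327 := d18_3 F351776 (iv4 F359946) D215929 (iv5 D192327) F351958 F345834 (iv4 F318365) (iv0 D122374) D122376
theorem F482131 : act 3 n215929 = n209669 := d20_5 (iv4 F320485) F351448 (iv4 F351445) F359945 D215929 F454573 F360369 (iv4 F423149) F423147 (iv1 F339859)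
theorem F482132 : act 6 n215929 = n202131 := d21_5 (iv5 D39385) D39382 D85190 D178768 D215929 F423002 F218243 F179781 F351551 (iv1 D85203)
theorem F482133 : act 1 n202157 = n215929 := d15_0 (iv0 D215929) (iv7 F423123) F423121
def n215930 : Q := act 1 n178768
theorem D215930 : act 1 n178768 = n215930 := rfl
theorem F482134 : act 1 n215930 = n202157 := d15_1 D215930 (iv7 F472731) F472727
theorem F482135 : act 4 n215930 = n192235 := d18_7 F322815 (iv4 D173962) (iv1 F351766) F197267 D123082 (iv4 F359946) D215930 F473240 F473239
theorem F482136 : act 3 n202172 = n215930 := d19_19 (iv1 D215930) (iv5 F422283) F422282 (iv3 D137096) F176565 D200724 (iv4 F436083) (iv3 F436084) F481402 F481400 F435457 F220402 (iv1 F392603) (iv5 F394830) (iv4 D194873) D194872 F394825 (iv5 F392449) F423117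
theorem F482137 : act 6 n215930 = n192236 := d7_2 (iv6 F423118) F482136 (iv3 F392444)
def n215931 : Q := act 1 n178779
theorem D215931 : act 1 n178779 = n215931 := rfl
theorem F482138 : act 1 n215931 = n205959 := d15_1 D215931 F438599 (iv2 F422805)
theorem F482139 : act 5 n215931 = n205884 := d17_7 (iv1 D59463) D59465 D126737 F233516 D126828 (iv5 F351459) D215931 F438259 (iv4 D126732)
theorem F482140 : act 4 n215931 = n210249 := d18_7 F450468 (iv4 D207829) (iv1 F418833) F418831 (iv5 F448938) F448937 D215931 (iv0 F456738) (iv5 F423556)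
theorem F482141 : act 3 n211615 = n215931 := d19_19 (iv1 D215931) F351459 (iv4 D126828) D126827 (iv1 F323474) (iv5 D133543) F324787 (iv3 F94203) (iv1 F163258) (iv5 D106235) F77499 (iv3 F83042) (iv1 F83044) D59849 F94292 D117533 F184135 D143434 D211615
def n215932 : Q := act 1 n178782
theorem D215932 : act 1 n178782 = n215932 := rfl
theorem F482142 : act 1 n215932 = n202718 := d15_1 D215932 F425270 F423211
theorem F482143 : act 7 n215932 = n213260 := d15_2 (iv0 F425401) D215932 F469594
theorem F482144 : act 5 n215932 = n203591 := d17_7 D210879 F459124 (iv1 D174103) D174104 F351465 D178782 D215932 F429033 F359511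
theorem F482145 : act 4 n215932 = n203855 := d17_9 (iv1 F430121) (iv5 D121095) (iv1 D55875) F323132 (iv4 F170808) (iv5 F351454) F351452 D178782 D215932
theorem F482146 : act 3 n211350 = n215932 := d19_19 (iv1 D215932) (iv5 D178782) (iv4 F351465) F272912 F299769 (iv5 D80469) (iv4 F117084) F117083 (iv1 D35112) (iv5 F297543) D58034 D124441 F401157 (iv5 F401156) F401155 F386753 D210710 F458524 (iv4 F461234)
theorem F482147 : act 2 n215932 = n213259 := d0_1 F482146 F469588 F351453 (iv3 F423074) (iv2 F461238)
def n215933 : Q := act 1 n178801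
theorem D215933 : act 1 n178801 = n215933 := rfl
theorem F482148 : act 7 n215933 = n213956 := d15_2 (iv0 F416263) D215933 (iv2 D213956)
theorem F482149 : act 3 n204238 = n215933 := d20_9 (iv4 F416260) (iv1 F416262) (iv4 F473141) F473142 (iv1 F481534) F481530 F277241 (iv1 F277304) (iv4 F431616) (iv1 D215933)
theorem F482150 : act 5 n213209 = n215933 := d21_0 (iv1 D215933) (iv5 F429103) (iv6 D203618) D203615 (iv6 F429099) F188678 (iv1 F108555) D72109 D152816 D213209
theorem E104022 : n213209 = n204237 := ((c6_4 F482150 (iv3 F482149) (iv5 D204238) D204237)).symm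
theorem F482151 : act 1 n204237 = n152816 := (sb E104022 (iv0 D213209))
theorem F482152 : act 5 n204237 = n215933 := (sb E104022 F482150)
theorem F482153 : act 2 n215933 = n213852 := d0_1 F482149 (iv3 D213852) (iv2 F245066) D156122 (iv2 F431614)
theorem F482154 : act 1 n215933 = n213955 := d15_0 (iv0 D213955) (iv7 F472398) (iv2 F482153)
theorem F482155 : act 7 n213955 = n200300 := d15_2 D215933 F482154 F415897
theorem F482156 : act 6 n194234 = n213955 := d14_5 F482155 (iv6 D200300) (iv7 F247037) F393224 F393222
theorem F482157 : act 4 n213955 = n194235 := d10_1 F482156 (iv6 D194235) D194234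
def n215934 : Q := act 7 n178801
theorem D215934 : act 7 n178801 = n215934 := rfl
theorem F482158 : act 2 n215934 = n213955 := d4_1 D215934 F482155 F415897
theorem F482159 : act 3 n215934 = n178814 := d8_1 D215934 (iv7 D178814) (iv3 F278667)
theorem F482160 : act 4 n215934 = n194444 := d11_1 D215934 (iv7 F416261) F416260
theorem F482161 : act 6 n215934 = n194443 := d14_1 D215934 F393237 (iv6 F392427) F320439 D178801
theorem F482162 : act 1 n213852 = n215934 := d15_1 F472883 (iv7 D215934) (iv2 F415897)
theorem F482163 : act 1 n215934 = n213956 := d15_1 F482162 (iv7 F482148) F482153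
theorem F482164 : act 0 n213999 = n192397 := d20_1 D213999 F386642 (iv3 F482159) (iv1 F482162) (iv3 D213852) F245065 F175782 F82417 (iv3 F111500) D156172
theorem F482165 : act 5 n215831 = n215934 := d21_2 (iv5 F422699) D215831 F482161 F393238 F245406 F362576 (iv1 F180184) D139673 D210779 F458756
theorem F482166 : act 3 n203625 = n215831 := d6_3 F482165 F482159 (iv5 F429109)
theorem F482167 : act 7 n203618 = n215831 := d13_0 F482165 (iv7 D215934) (iv5 F429103)
def n215935 : Q := act 0 n178806
theorem D215935 : act 0 n178806 = n215935 := rfl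
theorem F482168 : act 4 n215935 = n211178 := d20_2 F411808 D215935 (iv3 D211178) (iv1 D141170) F101820 (iv4 F80594) D110818 F172448 D199325 F411809
theorem F482169 : act 3 n215935 = n204266 := d20_5 (iv4 F245566) (iv1 F351471) (iv4 F247023) F366469 D215935 (iv4 D204266) (iv1 F325436) (iv4 F422414) F422413 (iv1 F245565)
theorem F482170 : act 1 n209884 = n215935 := d15_0 (iv0 D215935) (iv7 F423310) (iv2 F455246)
theorem F482171 : act 7 n204789 = n215935 := d8_0 F482169 F431759 D204789
def n215936 : Q := act 1 n178806
theorem D215936 : act 1 n178806 = n215936 := rfl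
theorem F482172 : act 1 n215936 = n209884 := d15_1 D215936 (iv7 F473798) F473794
theorem F482173 : act 3 n202196 = n215936 := d20_3 D156298 F423204 F423203 (iv1 D215936) (iv3 F366469) F247023 (iv1 F351500) (iv4 F351501) F351507 (iv1 D156297)
theorem F482174 : act 5 n210775 = n215936 := d21_0 (iv1 D215936) F336251 (iv6 D115453) (iv1 F179474) D201905 (iv5 F469277) F472694 (iv5 D213909) D213910 (iv1 F472697)
theorem F482175 : act 2 n215936 = n204789 := d0_1 F482173 (iv3 D204789) (iv2 F255953) (iv3 F423191) F423206
def n215937 : Q := act 0 n178811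
theorem D215937 : act 0 n178811 = n215937 := rfl
theorem F482176 : act 3 n215937 = n189031 := d20_5 F411477 (iv1 F415576) (iv4 F416276) F416275 D215937 (iv4 F430943) F430945 F386828 (iv3 F386819) F411482
theorem F482177 : act 4 n215937 = n213996 := d20_8 F277241 (iv1 F277304) (iv4 F431616) F482149 (iv1 D215933) F278667 (iv4 F278675) D215937 (iv3 F473031) F430954
theorem F482178 : act 2 n213999 = n215937 := d1_3 F482177 F473033 D213999
theorem F482179 : act 7 n214002 = n215937 := d11_0 F482177 (iv7 F473032) D214002
def n215938 : Q := act 1 n178811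
theorem D215938 : act 1 n178811 = n215938 := rfl
theorem F482180 : act 7 n215938 = n213999 := d15_2 (iv0 D215937) D215938 F482178
theorem F482181 : act 4 n215938 = n213997 := d18_7 (iv1 F469516) F469518 (iv1 F411820) F424591 F188685 (iv4 F278675) D215938 F473035 (iv5 F458730)
theorem F482182 : act 2 n214002 = n215938 := d1_3 F482181 F473039 D214002
def n215939 : Q := act 5 n178811
theorem D215939 : act 5 n178811 = n215939 := rfl
theorem F482183 : act 3 n215939 = n187093 := d6_1 D215939 (iv5 F416277) F416275
theorem F482184 : act 6 n215939 = n187097 := d12_2 D178811 D215939 (iv5 F466074) F466072 F274187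
theorem F482185 : act 0 n215939 = n214005 := d17_2 (iv1 D215938) D215939 F473072 (iv4 F458626) F458627 (iv0 F458629) F366410 D213997 (iv4 F482181)
theorem F482186 : act 4 n203624 = n215939 := d20_6 (iv4 F383966) F383969 D191891 (iv3 F432737) (iv1 F481642) F481637 F482185 (iv4 D214005) F245440 (iv1 F179575)
def n215940 : Q := act 5 n178812
theorem D215940 : act 5 n178812 = n215940 := rfl
theorem F482187 : act 3 n215940 = n213188 := d6_1 D215940 (iv5 D213188) F457385
def n215941 : Q := act 5 n178813
theorem D215941 : act 5 n178813 = n215941 := rfl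
theorem F482188 : act 3 n215941 = n204123 := d6_1 D215941 (iv5 F472915) (iv3 F472916)
theorem F482189 : act 6 n204237 = n215941 := d21_5 F188678 (iv1 F108555) D72109 D152816 (iv1 F482151) (iv5 D215941) (iv1 D178813) (iv5 F188685) (iv6 D119641) D119638
def n215942 : Q := act 6 n178813
theorem D215942 : act 6 n178813 = n215942 := rfl
theorem F482190 : act 4 n215942 = n203993 := d10_1 D215942 F430745 F466348
def n215943 : Q := act 5 n178827
theorem D215943 : act 5 n178827 = n215943 := rfl
theorem F482191 : act 2 n215943 = n208070 := d2_1 D215943 (iv5 D208070) (iv2 F366283)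
theorem F482192 : act 3 n215943 = n178828 := d6_1 D215943 (iv5 D178828) D178827
theorem F482193 : act 7 n215943 = n214216 := d13_2 F366284 D215943 (iv5 D214216)
theorem F482194 : act 0 n215943 = n200235 := d17_2 (iv1 F443639) D215943 (iv5 D200235) (iv4 F357670) D199299 F419862 F419860 F245962 (iv4 F443638)
theorem F482195 : act 1 n215943 = n187379 := d17_6 F416267 (iv5 F352978) F457357 F457353 F366642 D215943 (iv5 F388004) (iv0 F393052) (iv4 F416264)
def n215944 : Q := act 6 n178827
theorem D215944 : act 6 n178827 = n215944 := rfl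
theorem F482196 : act 2 n215944 = n208071 := d3_1 D215944 (iv6 D208071) (iv2 F366283)
theorem F482197 : act 3 n215944 = n178829 := d7_1 D215944 (iv6 D178829) D178827
theorem F482198 : act 4 n215944 = n214106 := d10_1 D215944 (iv6 D214106) F366642
theorem F482199 : act 7 n215944 = n214823 := d14_2 F366284 D215944 (iv6 D214823) (iv7 F302224) F348120
theorem F482200 : act 0 n215944 = n193488 := d21_4 F388004 (iv1 F482195) (iv5 D215943) D215944 (iv6 D193488) (iv5 D101829) (iv1 F156642) D193469 (iv6 F393051) F393052
theorem F482201 : act 5 n200004 = n215944 := d21_8 F443551 F443655 F443654 (iv6 F425179) (iv1 F425182) D208227 (iv5 F448475) F414579 (iv6 D215944) F443554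
def n215945 : Q := act 6 n178828
theorem D215945 : act 6 n178828 = n215945 := rfl
theorem F482202 : act 2 n215945 = n178879 := d3_1 D215945 (iv6 D178879) (iv2 F278691)
theorem F482203 : act 4 n215945 = n215687 := d10_1 D215945 F481127 F434470
theorem F482204 : act 5 n215945 = n200005 := d12_1 D215945 (iv6 D200005) F361857 (iv6 D178829) D178828
theorem F482205 : act 0 n215691 = n215945 := d21_4 (iv5 F378861) (iv1 F476356) F476353 D215691 (iv6 D215945) (iv5 D178828) (iv1 F200775) (iv5 F279038) (iv6 F474905) F474903
theorem F482206 : act 1 n200028 = n215945 := d18_8 F414582 F174602 F327461 F126254 D84302 D176833 D215670 (iv4 F481029) F482204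
def n215946 : Q := act 4 n178830
theorem D215946 : act 4 n178830 = n215946 := rfl
theorem F482207 : act 2 n215946 = n178884 := d1_1 D215946 (iv4 D178884) F278695
theorem F482208 : act 3 n215946 = n194601 := d5_1 D215946 (iv4 F424873) F466042 (iv4 D212486) (iv3 F278696)
theorem F482209 : act 6 n215946 = n194598 := d10_2 F427578 D215946 (iv4 F427582)
theorem F482210 : act 7 n215946 = n178885 := d11_2 (iv7 F278697) D215946 (iv4 D178885)
theorem F482211 : act 5 n215946 = n214724 := d16_1 D215946 F476546 F459229 (iv4 F407259) (iv5 D148051) (iv4 D69349) D69350 (iv7 F200301) F278695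
theorem F482212 : act 0 n215946 = n199176 := d17_0 F411023 F349711 (iv5 D66809) F49494 D31148 D66840 (iv5 F320505) F278698 D215946
theorem F482213 : act 1 n215946 = n197446 := d18_6 (iv1 F348018) (iv4 F337285) F426568 (iv4 D202994) (iv5 F278694) D215946 (iv4 F467250) F467254 F408690
def n215947 : Q := act 5 n178833
theorem D215947 : act 5 n178833 = n215947 := rfl
theorem F482214 : act 3 n215947 = n208085 := d6_1 D215947 (iv5 F447818) F441445
theorem F482215 : act 4 n215947 = n178877 := d9_1 D215947 F278746 F315162 (iv5 F315163) (iv4 F53184) D73614 D155086 D213750 F471918 F278745 (iv4 F316716) F316717 (iv4 D85254) D85255 D178833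
theorem F482216 : act 0 n215947 = n214156 := d17_2 F345388 D215947 (iv5 F477807) F477808 (iv5 F363198) (iv0 F199883) D124975 F345390 F175009
theorem F482217 : act 1 n215947 = n214157 := d17_6 (iv1 D78860) (iv5 F321959) D39401 D85255 D178833 D215947 F473767 (iv0 F413841) (iv4 D164157)
theorem F482218 : act 6 n208083 = n215947 := d10_0 F482215 F381230 (iv4 F447810)
def n215948 : Q := act 6 n178876
theorem D215948 : act 6 n178876 = n215948 := rfl
theorem F482219 : act 2 n215948 = n215698 := d3_1 D215948 (iv6 F481164) F434489
theorem F482220 : act 3 n215948 = n211774 := d7_1 D215948 F463045 F415979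
theorem F482221 : act 7 n215948 = n215697 := d14_2 F416012 D215948 F481160 (iv7 F381224) (iv6 F416011)
theorem F482222 : act 0 n215948 = n190756 := d21_4 (iv5 D85460) D85457 (iv5 F278745) D215948 F380935 F276261 D204747 (iv5 F474901) F474905 (iv1 D179100)
theorem F482223 : act 1 n215948 = n190750 := d15_1 (iv0 F482222) F380909 (iv2 F380934)
def n215949 : Q := act 3 n178877
theorem D215949 : act 3 n178877 = n215949 := rfl
theorem F482224 : act 2 n215949 = n200023 := d0_1 D215949 (iv3 F416004) F416003 (iv3 F416010) F416009
theorem F482225 : act 5 n215949 = n179093 := d6_2 (iv5 F278746) D215949 (iv3 D179093)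
theorem F482226 : act 6 n215949 = n183237 := d7_2 (iv6 F381230) D215949 F381229
theorem F482227 : act 7 n215949 = n200022 := d8_2 F434486 D215949 F434488
theorem F482228 : act 0 n215949 = n200001 := d19_4 F345388 D215947 F482215 D215949 (iv5 D200001) F174522 (iv3 F397073) F397093 (iv5 F245164) (iv4 F337394) F337406 (iv1 F337404) (iv5 D109224) D109223 F174995 (iv1 D112532) F81956 F81955 (iv3 F174573)
theorem F482229 : act 0 n200025 = n215949 := d20_4 (iv4 D189711) (iv1 F352920) (iv4 F352931) (iv3 F414664) (iv3 D215949) (iv4 F482215) F482216 (iv4 D214156) (iv3 F353351) (iv1 F377559)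
def n215950 : Q := act 6 n178878
theorem D215950 : act 6 n178878 = n215950 := rfl
theorem F482230 : act 2 n215950 = n215687 := d3_1 D215950 F481127 F434467
theorem F482231 : act 3 n215950 = n186321 := d7_1 D215950 (iv6 F480748) F480747
theorem F482232 : act 4 n215950 = n178879 := d10_1 D215950 (iv6 D178879) D178878
theorem F482233 : act 7 n215950 = n215688 := d14_2 F434493 D215950 (iv6 F481131) (iv7 F475329) F475328
theorem F482234 : act 0 n215950 = n215667 := d21_4 (iv5 D214968) (iv1 F434439) F434436 D215950 (iv6 F481025) F379466 (iv1 F379304) (iv5 F378360) (iv6 F473742) (iv1 F477690)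
theorem F482235 : act 0 n214362 = n215950 := d21_4 F276252 (iv1 F141771) F254079 D214362 (iv6 D215950) (iv5 F434436) (iv1 F434440) (iv5 F356892) F356893 D176878
def n215951 : Q := act 0 n178879
theorem D215951 : act 0 n178879 = n215951 := rfl
theorem F482236 : act 2 n200028 = n215951 := d15_3 (iv0 D215951) (iv0 F474549) (iv7 F414676)
theorem F482237 : act 3 n215951 = n214381 := d0_2 D200028 F482236 (iv2 F474885) (iv3 F327414) F174606
theorem F482238 : act 5 n215951 = n214319 := d2_2 (iv5 F414675) F482236 (iv2 D214319)
theorem F482239 : act 7 n215951 = n215691 := d4_2 (iv7 F414676) F482236 F481136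
def n215952 : Q := act 7 n178879
theorem D215952 : act 7 n178879 = n215952 := rfl
theorem F482240 : act 3 n215952 = n214304 := d8_1 D215952 F474475 F384251
theorem F482241 : act 4 n215952 = n215688 := d11_1 D215952 (iv7 F482233) F482232
theorem F482242 : act 5 n215952 = n200026 := d13_1 D215952 F414668 F408587
theorem F482243 : act 6 n215952 = n198631 := d14_1 D215952 (iv7 F414320) F414322 F200778 D178879
theorem F482244 : act 1 n215691 = n215952 := d15_1 (iv0 F482205) (iv7 D215952) (iv2 F482202)
theorem F482245 : act 1 n215952 = n200028 := d15_1 F482244 F414676 (iv2 F481136)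
def n215953 : Q := act 5 n178886
theorem D215953 : act 5 n178886 = n215953 := rfl
theorem F482246 : act 2 n215953 = n208478 := d2_1 D215953 (iv5 D208478) F363090
theorem F482247 : act 7 n215953 = n208480 := d13_2 F363095 D215953 (iv5 D208480)
theorem F482248 : act 4 n215953 = n197792 := d16_2 D178886 D215953 (iv5 D197792) F169699 D198625 F408595 F225374 F320288 (iv2 F320606)
theorem F482249 : act 0 n215953 = n197878 := d17_2 (iv1 F361435) D215953 (iv5 F406088) (iv4 F348015) D206151 (iv0 F467253) F467251 F461919 F449520
theorem F482250 : act 1 n215953 = n203022 := d17_6 D54159 (iv5 F200239) (iv1 D85285) D85286 D178886 D215953 (iv5 D203022) (iv0 D117543) F85488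
def n215954 : Q := act 0 n178896
theorem D215954 : act 0 n178896 = n215954 := rfl
theorem F482251 : act 5 n215954 = n179157 := d17_1 D215954 (iv1 F369480) (iv5 D187204) (iv4 F345968) F345969 (iv0 F350805) F336290 (iv0 D178958) (iv4 F278774)
theorem F482252 : act 4 n215954 = n206309 := d18_1 D215954 F469696 F469693 F411923 F336347 F200698 (iv4 F434149) F434152 F342625
theorem F482253 : act 2 n179158 = n215954 := d15_3 (iv0 D215954) (iv0 F434506) F434504
theorem F482254 : act 1 n213300 = n215954 := d15_0 (iv0 D215954) (iv7 F348683) (iv2 F469796)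
theorem F482255 : act 7 n215954 = n206307 := d15_2 F469801 F482254 F440172
theorem F482256 : act 6 n194738 = n215954 := d21_9 F469800 (iv1 D154106) (iv5 D72968) (iv6 D33633) (iv1 F52896) (iv6 F312499) D117560 D203031 F426701 (iv1 F482254)
def n215955 : Q := act 5 n178921
theorem D215955 : act 5 n178921 = n215955 := rfl
theorem F482257 : act 2 n215955 = n215397 := d2_1 D215955 F479778 (iv2 F341151)
theorem F482258 : act 3 n215955 = n205033 := d6_1 D215955 (iv5 D205033) (iv3 F278799)
theorem F482259 : act 4 n215955 = n215323 := d9_1 D215955 F479395 F416140 F176078 F324706 (iv5 F275320) (iv4 F463459) F463456 F479402 (iv5 F480999) F480997 F444731 F272145 (iv5 F326618) D178921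
theorem F482260 : act 7 n215955 = n215398 := d13_2 F279727 D215955 F479782
theorem F482261 : act 1 n215955 = n215675 := d17_6 (iv1 F319237) (iv5 F335997) F324704 (iv5 F326618) D178921 D215955 F481057 F413615 F366485
theorem F482262 : act 6 n215955 = n214626 := d21_3 D198337 F407656 D215955 F477616 F477614 F400142 (iv1 F405779) (iv5 D197782) D197783 F407650
def n215956 : Q := act 2 n178929
theorem D215956 : act 2 n178929 = n215956 := rfl
theorem F482263 : act 3 n215956 = n197087 := d0_2 D178929 D215956 (iv2 F402997) (iv3 F355520) F355439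
theorem F482264 : act 4 n215956 = n197400 := d1_2 (iv4 F280194) D215956 F404147
theorem F482265 : act 5 n215956 = n208543 := d2_2 F355444 D215956 F449801
theorem F482266 : act 7 n215956 = n212369 := d4_2 (iv7 F355443) D215956 F465532
theorem F482267 : act 1 n215956 = n209388 := d15_0 (iv0 F453523) (iv7 F355443) D215956
theorem F482268 : act 1 n197092 = n215956 := d15_0 F482267 (iv7 F478065) F478061
theorem F482269 : act 6 n215956 = n205989 := d21_5 (iv5 F170586) (iv1 F170587) (iv5 F397331) (iv6 F453522) (iv1 F482267) (iv5 D205989) D205987 F438707 (iv6 D200162) (iv1 F227278)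
def n215957 : Q := act 6 n178929
theorem D215957 : act 6 n178929 = n215957 := rfl
theorem F482270 : act 2 n215957 = n205989 := d3_1 D215957 (iv6 F482269) (iv2 D215956)
theorem F482271 : act 3 n215957 = n178932 := d7_1 D215957 (iv6 D178932) D178929
theorem F482272 : act 4 n215957 = n206001 := d10_1 D215957 F438784 (iv4 F280194)
theorem F482273 : act 5 n215957 = n203288 := d12_1 D215957 (iv6 D203288) (iv5 F426532) F426533 F355444
theorem F482274 : act 7 n215957 = n205999 := d14_2 (iv7 F355443) D215957 (iv6 F438774) F392766 F366671
theorem F482275 : act 0 n215957 = n201182 := d21_4 F473121 (iv1 F425396) F355444 D215957 F419355 (iv5 D114069) D114067 D201183 F419359 F473120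
theorem F482276 : act 1 n215957 = n205890 := d15_1 (iv0 F482275) (iv7 F438294) (iv2 F419353)
def n215958 : Q := act 3 n178940
theorem D215958 : act 3 n178940 = n215958 := rfl
theorem F482277 : act 4 n215958 = n196680 := d5_2 F414050 D215958 (iv3 D196680) D196681 (iv3 F414049)
theorem F482278 : act 5 n215958 = n214891 := d6_2 F352003 D215958 F477300
theorem F482279 : act 6 n215958 = n205877 := d7_2 F466335 D215958 (iv3 F466334)
theorem F482280 : act 7 n215958 = n214890 := d8_2 (iv7 F352004) D215958 F477296
theorem F482281 : act 0 n215958 = n197090 := d19_4 F352012 D199899 F414050 D215958 (iv5 F403007) (iv4 D180600) D180599 (iv1 F434895) F434892 (iv4 F425504) F425503 (iv1 F322752) F322754 D148879 F233927 (iv1 F225468) F222851 (iv4 F392593) F392592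
theorem F482282 : act 0 n207440 = n215958 := d20_4 (iv4 F473841) (iv1 F473843) F464508 (iv3 F444920) (iv3 D215958) (iv4 F414050) F414052 F355467 F230895 F409667
def n215959 : Q := act 5 n178949
theorem D215959 : act 5 n178949 = n215959 := rfl
theorem F482283 : act 2 n215959 = n196971 := d2_1 D215959 (iv5 F434299) F434295
theorem F482284 : act 3 n215959 = n214854 := d6_1 D215959 (iv5 D214854) F366770
theorem F482285 : act 4 n215959 = n198607 := d9_1 D215959 (iv5 D198607) (iv4 F337325) (iv5 D96264) (iv4 F321661) D147425 (iv4 F410964) F410965 F410605 (iv5 D112223) F81735 F337312 F337320 (iv5 F243054) D178949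
theorem F482286 : act 7 n215959 = n205101 := d13_2 F434304 D215959 F434977
theorem F482287 : act 0 n215959 = n202636 := d17_2 (iv1 F364154) D215959 (iv5 D202636) (iv4 D116171) (iv5 F319287) (iv0 F243167) D116948 F312809 (iv4 F221714)
theorem F482288 : act 1 n215959 = n202637 := d17_6 (iv1 F231207) F310611 (iv1 F312416) (iv5 F243054) D178949 D215959 (iv5 D202637) F424866 F424862
theorem F482289 : act 6 n215959 = n196964 := d21_3 F410959 (iv1 F364154) D215959 (iv1 F402459) (iv6 F302688) F345143 (iv1 F159721) (iv5 F294257) (iv6 F345149) (iv1 F410962)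
def n215960 : Q := act 0 n178964
theorem D215960 : act 0 n178964 = n215960 := rfl
theorem F482290 : act 5 n215960 = n211577 := d17_3 (iv1 F242377) (iv5 F360929) D215960 F462219 (iv5 F347574) F179370 F332647 F114511 (iv4 F242374)
theorem F482291 : act 4 n215960 = n208783 := d18_1 D215960 F457332 (iv4 D210386) F352977 F336373 F332640 (iv4 F107996) D151577 (iv5 F360929)
theorem F482292 : act 3 n215960 = n186958 := d20_5 F316034 F200372 D85366 D178964 D215960 (iv4 F368662) (iv1 F167824) (iv4 F329727) F329726 (iv1 F111903)
theorem F482293 : act 2 n199361 = n215960 := d15_3 (iv0 D215960) (iv0 F411500) (iv7 F411852)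
theorem F482294 : act 1 n192488 = n215960 := d15_0 (iv0 D215960) (iv7 F360932) (iv2 F386795)
theorem F482295 : act 7 n215960 = n199368 := d15_2 F411501 F482294 F411875
def n215961 : Q := act 6 n178964
theorem D215961 : act 6 n178964 = n215961 := rfl
theorem F482296 : act 2 n215961 = n199370 := d3_1 D215961 (iv6 D199370) F360931
theorem F482297 : act 3 n215961 = n178966 := d7_1 D215961 (iv6 D178966) D178964
theorem F482298 : act 4 n215961 = n209430 := d10_1 D215961 (iv6 D209430) (iv4 F360933)
theorem F482299 : act 7 n215961 = n192489 := d14_2 F360932 D215961 (iv6 D192489) (iv7 F352995) F352994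
theorem F482300 : act 0 n212559 = n215961 := d21_4 F385241 F314254 D184670 (iv6 F466416) (iv6 D215961) F360929 (iv1 D151577) D151578 (iv6 F366828) (iv1 F385244)
theorem F482301 : act 0 n215961 = n194021 := d20_1 (iv4 F482298) F391802 (iv3 F284745) F405227 F219651 F176831 F176830 F167118 D136496 F453672
def n215962 : Q := act 5 n178966
theorem D215962 : act 5 n178966 = n215962 := rfl
theorem F482302 : act 2 n215962 = n210839 := d2_1 D215962 F458964 F434395
theorem F482303 : act 6 n215962 = n203056 := d12_2 D178966 D215962 (iv5 D203056) F348305 (iv5 D178965)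
theorem F482304 : act 7 n215962 = n210838 := d13_2 F426275 D215962 F458958
theorem F482305 : act 0 n215962 = n202580 := d17_2 F427563 D215962 (iv5 D202580) F180762 D116022 F341090 (iv5 D138671) (iv0 F319540) D203264
theorem F482306 : act 1 n215962 = n210840 := d17_6 (iv1 F363467) F363469 (iv1 F183691) F232250 (iv4 F278853) D215962 F458967 (iv0 F396340) (iv4 D195221)
def n215963 : Q := act 5 n179014
theorem D215963 : act 5 n179014 = n215963 := rfl
theorem F482307 : act 2 n215963 = n210859 := d2_1 D215963 (iv5 D210859) (iv2 F348291)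
theorem F482308 : act 6 n215963 = n211607 := d12_2 D179014 D215963 F462356 F349349 (iv5 D179013)
theorem F482309 : act 7 n215963 = n210861 := d13_2 F361507 D215963 (iv5 D210861)
theorem F482310 : act 4 n215963 = n211569 := d16_2 (iv4 F278933) D215963 (iv5 D211569) F352522 (iv5 D101495) D101494 D193352 F389546 (iv2 F232995)
theorem F482311 : act 0 n215963 = n211301 := d17_2 F330624 D215963 (iv5 D211301) F224585 F342384 (iv0 F313272) F312801 F332412 (iv4 F180622)
theorem F482312 : act 1 n215963 = n212852 := d17_6 (iv1 D151376) (iv5 F210113) F307796 (iv5 F307108) (iv4 F278933) D215963 (iv5 D212852) F461027 F461024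
def n215964 : Q := act 4 n179099
theorem D215964 : act 4 n179099 = n215964 := rfl
theorem F482313 : act 2 n215964 = n207168 := d1_1 D215964 F443623 F279041
theorem F482314 : act 3 n215964 = n206404 := d5_1 D215964 F440625 (iv3 F382154) F382155 F355491
theorem F482315 : act 5 n215964 = n204984 := d9_2 (iv5 F279042) D215964 (iv4 D204984) F200758 (iv4 F310488) (iv5 F312679) F201202 (iv5 F279038) (iv4 F474908) F474909 (iv4 D204983) (iv5 F303237) (iv4 F403512) F403513 F316788
theorem F482316 : act 7 n215964 = n180641 := d11_2 (iv7 F279043) D215964 (iv4 F362311)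
theorem F482317 : act 0 n215964 = n200008 := d17_0 (iv5 D200008) F345388 D215947 F482215 F278746 F315161 D138898 F362440 D215964
theorem F482318 : act 1 n215964 = n214154 := d18_6 D74763 (iv4 F314453) (iv1 F316786) F316788 (iv5 F279042) D215964 (iv4 D214154) (iv0 F246881) (iv5 D74766)
theorem F482319 : act 6 n200324 = n215964 := d21_3 F211372 (iv1 F211371) (iv5 F415999) F482317 F414597 (iv5 D128569) (iv1 F182824) F365024 (iv6 D112945) D112942
def n215965 : Q := act 6 n179099
theorem D215965 : act 6 n179099 = n215965 := rfl
theorem F482320 : act 2 n215965 = n203670 := d3_1 D215965 (iv6 F429339) F279041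
theorem F482321 : act 3 n215965 = n200291 := d7_1 D215965 (iv6 D200291) F355491
theorem F482322 : act 4 n215965 = n200324 := d10_1 D215965 F482319 (iv4 D215964)
theorem F482323 : act 5 n215965 = n190610 := d12_1 D215965 (iv6 F380284) D199969 F414403 (iv5 F279042)
theorem F482324 : act 0 n203793 = n215965 := d21_4 F414675 F408251 (iv5 F408250) (iv6 F429838) (iv6 D215965) F279042 (iv1 F200774) D178828 D215945 (iv1 F482206)
def n215966 : Q := act 0 n179102
theorem D215966 : act 0 n179102 = n215966 := rfl
theorem F482325 : act 5 n215966 = n198964 := d17_3 (iv1 D211480) F366491 D215966 F410087 (iv5 D147241) D147240 F392244 (iv0 F428298) (iv4 F461739)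
theorem F482326 : act 6 n215966 = n198815 := d21_5 F278746 (iv1 D85458) D85460 D179102 D215966 F409373 F348115 (iv5 F408631) (iv6 F408632) (iv1 F348103)
def n215967 : Q := act 1 n179102
theorem D215967 : act 1 n179102 = n215967 := rfl
theorem F482327 : act 5 n215967 = n198965 := d17_7 (iv1 F410060) (iv5 F178787) (iv1 F331606) D202886 (iv4 F426043) F366491 D215967 F410090 (iv4 F410058)
theorem F482328 : act 4 n215967 = n212477 := d18_7 D212765 F467415 (iv1 F346242) (iv4 F458876) F458877 (iv4 F395061) D215967 F465989 F463037
def n215968 : Q := act 7 n179102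
theorem D215968 : act 7 n179102 = n215968 := rfl
theorem F482329 : act 4 n215968 = n189954 := d11_1 D215968 F393211 (iv4 F395061)
theorem F482330 : act 5 n215968 = n211481 := d13_1 D215968 (iv7 D211481) F366491
def n215969 : Q := act 6 n179114
theorem D215969 : act 6 n179114 = n215969 := rfl
theorem F482331 : act 2 n215969 = n179116 := d3_1 D215969 (iv6 D179116) D179114
theorem F482332 : act 3 n215969 = n215004 := d7_1 D215969 F477842 F279619
theorem F482333 : act 4 n215969 = n205113 := d10_1 D215969 (iv6 D205113) F366485
theorem F482334 : act 5 n215969 = n212235 := d12_1 D215969 (iv6 D212235) F228854 (iv6 F236574) (iv5 F279063)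
theorem F482335 : act 7 n215969 = n206199 := d14_2 F320632 D215969 F439679 F205392 (iv6 F320631)
theorem F482336 : act 0 n215969 = n206198 := d21_4 (iv5 F275318) F353634 (iv5 F279063) D215969 (iv6 F439675) F273570 (iv1 F331855) (iv5 F345589) F237081 (iv1 F327861)
theorem F482337 : act 0 n206197 = n215969 := d21_4 (iv5 F325020) F306604 F271843 (iv6 F439670) (iv6 D215969) F279063 F336051 (iv5 F331957) F331958 F325019
def n215970 : Q := act 0 n179115
theorem D215970 : act 0 n179115 = n215970 := rfl
theorem F482338 : act 5 n215970 = n215539 := d17_1 D215970 F480401 F479778 (iv4 D175993) (iv5 D83976) D83975 D175990 F345561 D179115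
theorem F482339 : act 3 n215970 = n194572 := d20_5 (iv4 F111977) F312150 D125163 (iv3 F279068) D215970 (iv4 D194572) (iv1 D103795) (iv4 F159227) F295622 (iv1 F111976)
theorem F482340 : act 2 n199815 = n215970 := d15_3 (iv0 D215970) (iv0 F279177) (iv7 F413613)
theorem F482341 : act 1 n200456 = n215970 := d15_0 (iv0 D215970) F279069 (iv2 F416499)
theorem F482342 : act 7 n215970 = n205112 := d15_2 (iv0 F416503) F482341 F435025
theorem F482343 : act 6 n215540 = n215970 := d21_3 D204855 (iv1 F433867) D215540 (iv1 F482341) F416500 (iv5 F393776) (iv1 F393779) F353007 F353009 F433673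
def n215971 : Q := act 6 n179115
theorem D215971 : act 6 n179115 = n215971 := rfl
theorem F482344 : act 2 n215971 = n205113 := d3_1 D215971 (iv6 D205113) (iv2 F366486)
theorem F482345 : act 3 n215971 = n205024 := d7_1 D215971 (iv6 D205024) (iv3 F279068)
theorem F482346 : act 4 n215971 = n179116 := d10_1 D215971 (iv6 D179116) D179115
theorem F482347 : act 5 n215971 = n199696 := d12_1 D215971 (iv6 D199696) (iv5 D111605) D111606 F378718
theorem F482348 : act 7 n215971 = n206179 := d14_2 (iv7 F279069) D215971 F439597 F205290 (iv6 F206484)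
theorem F482349 : act 0 n215436 = n199696 := d21_1 D215436 (iv5 F482347) (iv6 D215971) D215970 (iv6 F482343) (iv5 D215540) F476058 (iv5 F476056) F464301 (iv1 F476871)
theorem F482350 : act 0 n215542 = n215971 := d18_2 F472193 (iv4 F480416) F482346 F279071 F355089 (iv0 D86328) (iv4 F119238) (iv0 F344834) D207969
def n215972 : Q := act 0 n179116
theorem D215972 : act 0 n179116 = n215972 := rfl
theorem F482351 : act 5 n215972 = n212529 := d17_3 (iv1 F345564) (iv5 F279071) D215972 F466277 (iv5 D207958) F213255 (iv5 F213296) (iv0 F334635) F195631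
theorem F482352 : act 6 n215972 = n204348 := d21_5 F345572 (iv1 D150320) (iv5 F130684) D179116 D215972 (iv5 D204348) (iv1 D123600) D123601 (iv6 F345587) (iv1 F345570)
theorem F482353 : act 2 n206198 = n215972 := d15_3 (iv0 D215972) (iv0 F361995) (iv7 F439672)
theorem F482354 : act 1 n206199 = n215972 := d15_0 (iv0 D215972) F279072 D206199
theorem F482355 : act 7 n215972 = n206197 := d15_2 (iv0 F439680) F482354 (iv2 F439671)
def n215973 : Q := act 4 n179158
theorem D215973 : act 4 n179158 = n215973 := rfl
theorem F482356 : act 2 n215973 = n206309 := d1_1 D215973 (iv4 F482252) (iv2 F482253)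
theorem F482357 : act 3 n215973 = n179651 := d5_1 D215973 (iv4 F460954) (iv3 D211284) F350256 (iv3 F279110)
theorem F482358 : act 5 n215973 = n204997 := d9_2 D179158 D215973 F434521 (iv5 D154103) D154102 (iv5 F342707) (iv4 F393059) (iv5 F440175) F440174 (iv5 F375966) F375965 F361444 F330641 F113812 (iv4 F130705)
theorem F482359 : act 6 n215973 = n202715 := d10_2 (iv6 F353933) D215973 F425249
theorem F482360 : act 7 n215973 = n204384 := d11_2 F434504 D215973 (iv4 F434505)
theorem F482361 : act 0 n215973 = n199387 := d17_0 (iv5 F432215) F432216 (iv5 D153914) F109330 D124686 D204914 (iv5 F434145) (iv0 F360537) D215973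
theorem F482362 : act 1 n215973 = n206308 := d18_6 (iv1 F172525) F340258 (iv1 D85508) (iv4 F130705) D179158 D215973 F440177 (iv0 F411849) (iv5 D199360)
def n215974 : Q := act 6 n179168
theorem D215974 : act 6 n179168 = n215974 := rfl
theorem F482363 : act 2 n215974 = n210489 := d3_1 D215974 (iv6 D210489) F361583
theorem F482364 : act 3 n215974 = n179170 := d7_1 D215974 (iv6 D179170) D179168
theorem F482365 : act 4 n215974 = n200424 := d10_1 D215974 F416370 F404179
theorem F482366 : act 5 n215974 = n215176 := d12_1 D215974 (iv6 D215176) (iv5 F458789) F458790 F361580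
theorem F482367 : act 7 n215974 = n211157 := d14_2 (iv7 F361582) D215974 F466510 F466508 F340774
theorem F482368 : act 0 n215974 = n210465 := d21_4 (iv5 F209794) F308521 F361580 D215974 (iv6 D210465) (iv5 F393651) (iv1 F393654) (iv5 F408465) F408466 F347174
theorem F482369 : act 0 n204950 = n215974 := d21_4 (iv5 F190928) F241310 D124817 (iv6 F434313) (iv6 D215974) (iv5 F361580) (iv1 F307670) (iv5 F428786) (iv6 F428787) (iv1 F241305)
def n215975 : Q := act 0 n179226
theorem D215975 : act 0 n179226 = n215975 := rfl
theorem F482370 : act 5 n215975 = n201413 := d17_1 D215975 (iv1 F420414) (iv5 F359160) (iv4 F359162) (iv5 F435108) (iv0 D205139) F201871 F398610 F398606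
theorem F482371 : act 4 n215975 = n215970 := d18_1 D215975 (iv1 F482341) (iv4 D200456) D200457 (iv4 F419526) F465974 F465971 (iv0 F461901) (iv5 F461902)
theorem F482372 : act 6 n215975 = n215332 := d21_5 F298302 D162537 D214786 F476841 D215975 F479437 F476501 (iv5 F479998) (iv6 D215438) (iv1 D174526)
theorem F482373 : act 2 n179257 = n215975 := d15_3 (iv0 D215975) F398609 D179257
theorem F482374 : act 1 n179252 = n215975 := d15_0 (iv0 D215975) F398605 (iv2 F398603)
theorem F482375 : act 7 n215975 = n179253 := d15_2 D179252 F482374 (iv2 D179253)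
theorem F482376 : act 3 n179276 = n215975 := d20_3 (iv4 F372123) (iv1 F372126) F354257 (iv1 F482374) (iv3 F375964) F375965 D194402 F393059 F321603 (iv1 F200891)
def n215976 : Q := act 3 n179227
theorem D215976 : act 3 n179227 = n215976 := rfl
theorem F482377 : act 4 n215976 = n200043 := d5_2 D179227 D215976 F414747 F398606 (iv3 D179226)
theorem F482378 : act 0 n215976 = n196443 := d19_4 (iv1 F339409) F330654 D179227 D215976 F400690 (iv4 D196413) F164870 (iv1 F247372) (iv5 F441610) F441611 (iv3 D206525) (iv1 D128779) (iv5 D60565) F328466 F328047 F46948 D61305 (iv4 F166224) F318490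
theorem F482379 : act 0 n196441 = n215976 := d20_4 (iv4 F210265) (iv1 F214159) D156780 (iv3 F400681) (iv3 D215976) (iv4 D179227) (iv1 D85532) D85534 (iv3 F315119) (iv1 F167220)
def n215977 : Q := act 6 n179227
theorem D215977 : act 6 n179227 = n215977 := rfl
theorem F482380 : act 4 n215977 = n179229 := d10_1 D215977 (iv6 D179229) D179227
def n215978 : Q := act 5 n179266
theorem D215978 : act 5 n179266 = n215978 := rfl
theorem F482381 : act 2 n215978 = n190769 := d2_1 D215978 (iv5 D190769) (iv2 F350625)
theorem F482382 : act 3 n215978 = n191101 := d6_1 D215978 (iv5 D191101) (iv3 F350626)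
theorem F482383 : act 4 n215978 = n214359 := d9_1 D215978 F474748 F390706 F351402 F321540 D85549 (iv4 F347915) D97261 D191087 (iv5 F415909) F415908 (iv5 D156186) (iv4 F325780) D85544 D179266
theorem F482384 : act 7 n215978 = n191084 := d13_2 F350624 D215978 (iv5 D191084)
theorem F482385 : act 0 n215978 = n186424 := d17_2 F350629 D215978 (iv5 F392702) (iv4 F403120) (iv5 D197116) F245459 D214010 F473115 (iv4 D191082)
theorem F482386 : act 1 n215978 = n191085 := d17_6 (iv1 D85555) (iv5 D39491) D39488 D85544 D179266 D215978 F392695 (iv0 D194292) F347958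
theorem F482387 : act 6 n214196 = n215978 := d21_3 D211809 F463161 (iv5 F473949) F482385 (iv6 D186424) F136172 D164083 (iv5 F414784) F463153 (iv1 D211808)
def n215979 : Q := act 6 n179266
theorem D215979 : act 6 n179266 = n215979 := rfl
theorem F482388 : act 2 n215979 = n190770 := d3_1 D215979 (iv6 D190770) (iv2 F350625)
theorem F482389 : act 3 n215979 = n191102 := d7_1 D215979 (iv6 D191102) (iv3 F350626)
theorem F482390 : act 4 n215979 = n179267 := d10_1 D215979 (iv6 D179267) D179266
theorem F482391 : act 7 n215979 = n207930 := d14_2 F350624 D215979 F447038 F346940 (iv6 F350613)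
theorem F482392 : act 0 n191057 = n215979 := d21_4 (iv5 F466307) F466310 (iv5 D191056) D191057 (iv6 D215979) D215978 F482385 (iv5 F392702) (iv6 F477657) F477661
def n215980 : Q := act 4 n179271
theorem D215980 : act 4 n179271 = n215980 := rfl
theorem F482393 : act 2 n215980 = n205900 := d1_1 D215980 (iv4 F438343) (iv2 F359999)
theorem F482394 : act 3 n215980 = n212356 := d5_1 D215980 (iv4 F465458) F230245 (iv4 F288117) F354324
theorem F482395 : act 6 n215980 = n207927 := d10_2 (iv6 F351325) D215980 (iv4 D207927)
theorem F482396 : act 7 n215980 = n205899 := d11_2 (iv7 F351374) D215980 F438341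
theorem F482397 : act 5 n215980 = n208317 := d16_7 F442837 F423556 (iv4 D202303) (iv5 D115577) (iv4 F351321) D179271 D215980 F450472 (iv2 F450471)
theorem F482398 : act 0 n215980 = n205894 := d18_2 F351329 D215980 (iv4 D205894) (iv5 D126735) (iv4 F203869) (iv0 F401104) F401102 (iv0 F350870) F223105
theorem F482399 : act 1 n215980 = n205825 := d18_6 (iv1 D115588) (iv4 D53317) D53314 (iv4 F351321) D179271 D215980 (iv4 D205825) (iv0 F423599) (iv5 D202313)
def n215981 : Q := act 5 n179299
theorem D215981 : act 5 n179299 = n215981 := rfl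
theorem F482400 : act 2 n215981 = n179313 := d2_1 D215981 (iv5 D179313) (iv2 F279198)
theorem F482401 : act 4 n215981 = n190762 := d9_1 D215981 (iv5 F392430) F392429 F245463 F318282 (iv5 F87855) (iv4 F192150) D203793 (iv4 F481082) F481083 (iv4 D200299) F320582 F130524 D85553 D179299
theorem F482402 : act 0 n215981 = n207390 := d17_2 (iv1 F408319) D215981 (iv5 F444656) (iv4 F473113) (iv5 D214010) (iv0 D156195) D156197 (iv0 F403016) (iv4 F408317)
theorem F482403 : act 1 n215981 = n215965 := d17_6 F351336 F279189 F351392 D85553 D179299 D215981 F482323 (iv0 D190610) (iv4 F351335)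
theorem F482404 : act 6 n190761 = n215981 := d10_0 F482401 (iv6 D190762) D190761
def n215982 : Q := act 0 n179313
theorem D215982 : act 0 n179313 = n215982 := rfl
theorem F482405 : act 4 n215982 = n207389 := d18_3 F382166 F378990 D215982 F444647 (iv4 F245175) F390705 F390703 D193694 F415909
theorem F482406 : act 2 n207390 = n215982 := d15_3 (iv0 D215982) (iv0 F429338) (iv7 F444654)
theorem F482407 : act 6 n215982 = n214382 := d3_2 (iv6 F444653) F482406 F474888
theorem F482408 : act 7 n215982 = n215965 := d4_2 (iv7 F444654) F482406 F482320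
def n215983 : Q := act 3 n179318
theorem D215983 : act 3 n179318 = n215983 := rfl
theorem F482409 : act 2 n215983 = n194359 := d0_1 D215983 (iv3 F392939) F472191 (iv3 D213811) F415437
theorem F482410 : act 6 n215983 = n206319 := d7_2 (iv6 F357007) D215983 (iv3 F440226)
theorem F482411 : act 7 n215983 = n194362 := d8_2 F415439 D215983 F392946
theorem F482412 : act 4 n194248 = n215983 := d20_2 F392485 D194248 (iv3 D215983) (iv1 D179318) F130726 F60395 (iv1 F51352) D69670 D148656 F392488
theorem F482413 : act 0 n194257 = n215983 := d20_4 F166311 (iv1 F167737) F167734 (iv3 F392528) (iv3 D215983) (iv4 F472440) (iv1 D213860) F245090 F166300 D107677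
theorem F482414 : act 5 n215983 = n215625 := d17_3 (iv1 F198196) (iv5 F392531) F482413 F480816 F470982 F432357 (iv5 D123723) F198123 F198120
theorem F482415 : act 1 n194417 = n215983 := d15_0 (iv0 F482413) F392530 (iv2 F393120)
def n215984 : Q := act 5 n179318
theorem D215984 : act 5 n179318 = n215984 := rfl
theorem F482416 : act 2 n215984 = n200181 := d2_1 D215984 (iv5 F415435) F415437
theorem F482417 : act 3 n215984 = n215625 := d6_1 D215984 (iv5 F482414) (iv3 D215983)
theorem F482418 : act 6 n215984 = n203938 := d12_2 (iv6 F357007) D215984 (iv5 D203938) F333717 D161879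
theorem F482419 : act 7 n215984 = n200182 := d13_2 F415439 D215984 (iv5 F415442)
theorem F482420 : act 0 n215984 = n200184 := d21_1 D215984 F415452 F175571 (iv1 F409505) (iv6 F409509) (iv5 D148671) (iv1 F106019) D74134 D155865 (iv1 F279205)
theorem F482421 : act 0 n200156 = n215984 := d21_10 (iv5 D215984) (iv1 D179318) (iv5 F233684) (iv6 D148828) (iv1 F353668) F353670 (iv5 D110624) F82208 D112715 (iv6 F415285)
def n215985 : Q := act 3 n179561
theorem D215985 : act 3 n179561 = n215985 := rfl
theorem F482422 : act 2 n215985 = n197115 := d0_1 D215985 (iv3 D197115) F245466 F319241 (iv2 F344811)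
theorem F482423 : act 4 n215985 = n197320 := d5_2 F344844 D215985 (iv3 D197320) D197321 F403964
theorem F482424 : act 5 n215985 = n212368 := d6_2 (iv5 F344781) D215985 (iv3 F465528)
theorem F482425 : act 6 n215985 = n205907 := d7_2 (iv6 F344782) D215985 F438368
theorem F482426 : act 7 n215985 = n181796 := d8_2 (iv7 F344812) D215985 (iv3 D181796)
theorem F482427 : act 0 n215985 = n197608 := d19_4 (iv1 F390559) F390561 F344844 D215985 (iv5 F405010) F227375 F325921 (iv1 F316972) (iv5 D117373) D117372 (iv3 F339791) (iv1 F232609) (iv5 F322394) F97675 (iv3 D62033) (iv1 D29375) D29377 D62041 D132243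
theorem F482428 : act 0 n194333 = n215985 := d20_4 (iv4 F354257) (iv1 D103226) (iv4 F158474) (iv3 F392857) (iv3 D215985) (iv4 F344844) (iv1 F179692) (iv4 F219546) F219545 (iv1 F354253)
def n215986 : Q := act 6 n179594
theorem D215986 : act 6 n179594 = n215986 := rfl
theorem F482429 : act 2 n215986 = n215618 := d3_1 D215986 F480780 F480741
theorem F482430 : act 3 n215986 = n179596 := d7_1 D215986 (iv6 D179596) D179594
theorem F482431 : act 4 n215986 = n179602 := d10_1 D215986 (iv6 D179602) (iv4 F279694)
theorem F482432 : act 7 n215986 = n209694 := d14_2 F313972 D215986 F454659 F302333 D176154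
theorem F482433 : act 0 n201044 = n215986 := d21_4 F220811 (iv1 D113778) D113779 D201044 (iv6 D215986) F366635 F367948 F367947 F346583 (iv1 F220809)
theorem F482434 : act 1 n215408 = n215986 := d15_0 (iv0 F482433) (iv7 F480852) F480850
def n215987 : Q := act 5 n179596
theorem D215987 : act 5 n179596 = n215987 := rfl
theorem F482435 : act 2 n215987 = n209693 := d2_1 D215987 (iv5 D209693) (iv2 F366631)
theorem F482436 : act 6 n215987 = n209581 := d12_2 D179596 D215987 (iv5 D209581) (iv6 D136651) F316158
theorem F482437 : act 7 n215987 = n209695 := d13_2 F366630 D215987 (iv5 D209695)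
theorem F482438 : act 4 n215987 = n213744 := d16_2 (iv4 F279696) D215987 (iv5 D213744) F243674 (iv5 F187873) F187872 D166049 F261449 F306055
theorem F482439 : act 0 n215987 = n210073 := d17_2 F341143 D215987 (iv5 D210073) F220672 F310062 (iv0 F306002) D105965 F308058 (iv4 F220030)
def n215988 : Q := act 4 n179631
theorem D215988 : act 4 n179631 = n215988 := rfl
theorem F482440 : act 2 n215988 = n211576 := d1_1 D215988 F462213 F434726
theorem F482441 : act 3 n215988 = n213285 := d5_1 D215988 F469724 (iv3 F410952) F410953 F348046
theorem F482442 : act 5 n215988 = n211552 := d9_2 (iv5 F348032) D215988 F462094 (iv5 D151658) D151657 F355700 (iv4 F339796) (iv5 F279560) F390168 F390165 (iv4 F368738) (iv5 D151663) D151662 (iv5 F361626) (iv4 F348029)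
theorem F482443 : act 6 n215988 = n202599 := d10_2 F348035 D215988 (iv4 D202599)
theorem F482444 : act 7 n215988 = n181740 := d11_2 (iv7 F348040) D215988 F282906
theorem F482445 : act 0 n215988 = n203041 := d17_0 (iv5 D203041) F341183 F334856 (iv4 F334855) (iv5 F334851) (iv0 F353661) (iv5 F434729) F434732 D215988
theorem F482446 : act 1 n215988 = n208166 := d18_6 (iv1 F225554) F323671 (iv1 F361627) (iv4 F348029) (iv5 F348032) D215988 (iv4 D208166) (iv0 D133572) (iv5 F181644)
def n215989 : Q := act 4 n179685
theorem D215989 : act 4 n179685 = n215989 := rfl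
theorem F482447 : act 2 n215989 = n179688 := d1_1 D215989 (iv4 D179688) (iv2 F279896)
theorem F482448 : act 3 n215989 = n188860 := d5_1 D215989 (iv4 D188860) (iv3 F376992) F287204 (iv3 F279897)
theorem F482449 : act 5 n215989 = n208803 := d9_2 D179685 D215989 F450950 F373060 (iv4 D133532) F317522 (iv4 F298946) D122337 D203983 F450946 F450944 (iv5 D136865) (iv4 F204091) (iv5 F340654) F317284
theorem F482450 : act 7 n215989 = n184712 := d11_2 (iv7 F279898) D215989 (iv4 D184712)
theorem F482451 : act 0 n215989 = n191827 := d17_0 (iv5 F450978) (iv1 F451309) F451307 (iv4 D203704) (iv5 D120304) (iv0 F319895) D135394 (iv0 F357826) D215989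
theorem F482452 : act 1 n215989 = n213007 := d18_6 F354648 F271953 (iv1 F319571) F317284 D179685 D215989 (iv4 D213007) (iv0 F383349) (iv5 D191399)
def n215990 : Q := act 5 n179714
theorem D215990 : act 5 n179714 = n215990 := rfl
theorem F482453 : act 2 n215990 = n179803 := d2_1 D215990 (iv5 D179803) (iv2 F351141)
theorem F482454 : act 3 n215990 = n187707 := d6_1 D215990 F371253 F351143
theorem F482455 : act 7 n215990 = n179808 := d13_2 (iv7 F351142) D215990 (iv5 D179808)
theorem F482456 : act 0 n215990 = n207293 := d17_2 D179714 D215990 (iv5 D207293) (iv4 F221650) F342484 (iv0 D72744) D72747 D153776 F342486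
def n215991 : Q := act 0 n179716
theorem D215991 : act 0 n179716 = n215991 := rfl
theorem F482457 : act 5 n215991 = n208493 := d21_2 D179716 D215991 (iv6 D208493) F343202 (iv6 F341408) F294272 (iv1 F68895) D93765 F351155 (iv1 D179715)
theorem F482458 : act 6 n215991 = n193902 := d21_5 F191764 F301707 D85838 (iv6 F279924) D215991 (iv5 D193902) F340884 D120376 F191750 D120381
theorem F482459 : act 2 n179810 = n215991 := d15_3 (iv0 D215991) (iv0 F473582) F473581
theorem F482460 : act 7 n215991 = n179811 := d4_2 F473581 F482459 (iv2 F473578)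
theorem F482461 : act 1 n179813 = n215991 := d15_1 (iv0 F473583) F482460 (iv2 F473578)
def n215992 : Q := act 4 n179716
theorem D215992 : act 4 n179716 = n215992 := rfl
theorem F482462 : act 2 n215992 = n179812 := d1_1 D215992 (iv4 D179812) (iv2 F279923)
theorem F482463 : act 6 n215992 = n179718 := d10_2 (iv6 F279924) D215992 (iv4 D179718)
def n215993 : Q := act 7 n179716
theorem D215993 : act 7 n179716 = n215993 := rfl
theorem F482464 : act 2 n215993 = n179813 := d4_1 D215993 (iv7 D179813) (iv2 F279923)
theorem F482465 : act 5 n215993 = n179717 := d13_1 D215993 (iv7 D179717) D179716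
theorem F482466 : act 1 n179811 = n215993 := d15_1 D179811 (iv7 D215993) F279923
theorem F482467 : act 1 n215993 = n179810 := d15_1 F482466 (iv7 F473581) F473578
def n215994 : Q := act 3 n179718
theorem D215994 : act 3 n179718 = n215994 := rfl
theorem F482468 : act 5 n215994 = n179826 := d6_2 (iv5 F279930) D215994 (iv3 D179826)
theorem F482469 : act 7 n215994 = n215200 := d8_2 (iv7 F366874) D215994 (iv3 D215200)
def n215995 : Q := act 1 n179733
theorem D215995 : act 1 n179733 = n215995 := rfl
theorem F482470 : act 1 n215995 = n179751 := d15_1 D215995 (iv7 D179751) (iv2 F279953)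
theorem F482471 : act 7 n215995 = n179748 := d15_2 F420111 D215995 (iv2 F420112)
theorem F482472 : act 4 n192754 = n215995 := d20_0 (iv1 D215995) (iv4 F370764) (iv3 D187547) (iv1 F139158) F345118 F74359 (iv1 F73390) (iv4 F74132) (iv3 F154655) (iv1 F387674)
theorem F482473 : act 6 n191834 = n215995 := d21_3 (iv5 F294267) F294266 (iv5 F384559) (iv1 D215995) (iv6 D179733) (iv5 D85853) F232487 D87369 F134139 D87380
theorem F482474 : act 2 n215995 = n179749 := d3_1 F482473 (iv6 F362815) (iv2 F384558)
theorem F482475 : act 3 n215995 = n191836 := d7_1 F482473 (iv6 D191836) D191834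
def n215996 : Q := act 5 n179733
theorem D215996 : act 5 n179733 = n215996 := rfl
theorem F482476 : act 2 n215996 = n179750 := d2_1 D215996 (iv5 D179750) (iv2 F279953)
theorem F482477 : act 6 n215996 = n179734 := d12_2 D179733 D215996 (iv5 D179734) (iv6 D85854) D85853
def n215997 : Q := act 4 n179734
theorem D215997 : act 4 n179734 = n215997 := rfl
theorem F482478 : act 2 n215997 = n179757 := d1_1 D215997 (iv4 D179757) (iv2 F279954)
theorem F482479 : act 5 n215997 = n211462 := d16_1 D215997 (iv4 D211462) (iv5 D142253) (iv4 D66682) F319581 (iv4 F304461) D124152 F304680 (iv2 F279954)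
theorem F482480 : act 0 n215997 = n203216 := d17_0 (iv5 F462453) F462457 (iv5 D203201) (iv4 D118203) (iv5 D54448) D54447 D118199 (iv0 F279955) D215997
theorem F482481 : act 1 n215997 = n203207 := d18_6 (iv1 D192097) F321085 F155241 (iv4 F131713) D179734 D215997 (iv4 D203207) D203206 F427410
def n215998 : Q := act 3 n179737
theorem D215998 : act 3 n179737 = n215998 := rfl
theorem F482482 : act 2 n215998 = n208642 := d0_1 D215998 (iv3 D208642) F420565 (iv3 F434639) F434634
theorem F482483 : act 4 n215998 = n197677 := d5_2 D179737 D215998 F405384 (iv4 F352315) (iv3 D179736)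
theorem F482484 : act 0 n215998 = n208400 := d19_4 (iv1 F167409) F312682 D179737 D215998 F449199 F434554 (iv3 F352329) (iv1 D107712) F323563 (iv4 D83906) F59456 D38650 F296756 F58448 F29194 (iv1 F117201) (iv5 F297358) D55372 F312687
def n215999 : Q := act 3 n179748
theorem D215999 : act 3 n179748 = n215999 := rfl
theorem F482485 : act 2 n215999 = n214563 := d0_1 D215999 (iv3 D214563) F251983 D201353 F420112
theorem F482486 : act 7 n215999 = n191836 := d8_2 F482471 D215999 (iv3 F482475)
theorem F482487 : act 0 n215999 = n189212 := d20_4 F154512 D100589 F371868 D215999 (iv3 D189212) F351148 (iv1 D90238) (iv4 F66896) (iv3 F140163) F338893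
theorem F482488 : act 4 n207886 = n215999 := d1_0 F482485 F475809 F446885
def n216000 : Q := act 5 n179748
theorem D216000 : act 5 n179748 = n216000 := rfl
def n216001 : Q := act 0 n179750
theorem D216001 : act 0 n179750 = n216001 := rfl
def n216002 : Q := act 1 n179750
theorem D216002 : act 1 n179750 = n216002 := rfl
theorem F482489 : act 5 n216002 = n206220 := d17_7 (iv1 F420154) (iv5 D193089) D193086 F388715 F279971 D179750 D216002 F453969 F453966
theorem F482490 : act 3 n206221 = n216002 := d6_3 F482489 (iv3 D206220) D206221
theorem F482491 : act 6 n216002 = n210654 := d21_9 F473551 (iv1 F460768) F455743 (iv6 F451859) (iv1 F451862) D209420 (iv5 F453967) (iv1 F453969) (iv5 F482489) F473554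
def n216003 : Q := act 4 n179750
theorem D216003 : act 4 n179750 = n216003 := rfl
theorem F482492 : act 6 n216003 = n179757 := d10_2 (iv6 F279973) D216003 (iv4 D179757)
theorem F482493 : act 5 n216003 = n202915 := d16_3 F279971 D179750 D216003 F426185 (iv5 D193041) F155776 (iv5 F293005) (iv7 F370766) F370763
def n216004 : Q := act 7 n179750
theorem D216004 : act 7 n179750 = n216004 := rfl
theorem F482494 : act 3 n216004 = n179813 := d8_1 D216004 (iv7 D179813) (iv3 F279972)
theorem F482495 : act 5 n216004 = n179751 := d13_1 D216004 (iv7 D179751) D179750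
theorem F482496 : act 6 n216004 = n209601 := d14_1 D216004 F454299 F433096 F304680 (iv6 F279973)
def n216005 : Q := act 4 n179755
theorem D216005 : act 4 n179755 = n216005 := rfl
theorem F482497 : act 2 n216005 = n203192 := d1_1 D216005 (iv4 D203192) F279976
theorem F482498 : act 3 n216005 = n213310 := d5_1 D216005 F469851 F456897 (iv4 F383464) F383463
theorem F482499 : act 6 n216005 = n213309 := d10_2 F456414 D216005 (iv4 F469848)
theorem F482500 : act 7 n216005 = n203190 := d11_2 F279977 D216005 (iv4 D203190)
theorem F482501 : act 5 n216005 = n214242 := d16_1 D216005 F474172 (iv5 D195499) F162233 (iv5 F321298) (iv4 F185684) (iv5 F279979) F279978 F279976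
def n216006 : Q := act 4 n179756
theorem D216006 : act 4 n179756 = n216006 := rfl
theorem F482502 : act 2 n216006 = n203190 := d1_1 D216006 (iv4 D203190) F279980
theorem F482503 : act 3 n216006 = n209017 := d5_1 D216006 F451858 F283711 (iv4 F338042) F338047
theorem F482504 : act 7 n216006 = n203192 := d11_2 (iv7 F279978) D216006 (iv4 D203192)
def n216007 : Q := act 3 n179757
theorem D216007 : act 3 n179757 = n216007 := rfl
theorem F482505 : act 4 n216007 = n179826 := d5_2 D179757 D216007 (iv3 D179826) (iv4 D85883) (iv3 F131715)
theorem F482506 : act 7 n216007 = n215213 := d8_2 F433100 D216007 (iv3 F478905)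
theorem F482507 : act 2 n215214 = n216007 := d4_3 F482506 (iv2 F478904) (iv7 F478906)
theorem F482508 : act 1 n179882 = n216007 := d15_1 (iv0 F449161) F482506 (iv2 F478904)
theorem F482509 : act 1 n216007 = n210604 := d15_1 F482508 F458190 F366925
def n216008 : Q := act 5 n179757
theorem D216008 : act 5 n179757 = n216008 := rfl
theorem F482510 : act 2 n216008 = n211462 := d2_1 D216008 (iv5 F482479) F482478
theorem F482511 : act 4 n216008 = n211460 := d16_2 D179757 D216008 (iv5 D211460) (iv4 D142249) (iv5 F319580) (iv4 F306499) D204633 F433080 F279954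
def n216009 : Q := act 6 n179761
theorem D216009 : act 6 n179761 = n216009 := rfl
theorem F482512 : act 2 n216009 = n179764 := d3_1 D216009 (iv6 D179764) D179761
theorem F482513 : act 3 n216009 = n186644 := d7_1 D216009 (iv6 F367532) F287076
theorem F482514 : act 4 n216009 = n192589 := d10_1 D216009 (iv6 D192589) F338896
theorem F482515 : act 5 n216009 = n210623 := d12_1 D216009 (iv6 F458246) F433619 F384704 F338821
theorem F482516 : act 7 n216009 = n189139 := d14_2 (iv7 F338823) D216009 (iv6 F427125) F427126 F387150
theorem F482517 : act 0 n216009 = n188168 := d21_4 (iv5 F387077) (iv1 F387081) F338821 D216009 (iv6 D188168) (iv5 D91011) (iv1 F294133) D46271 (iv6 F129904) D177826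
theorem F482518 : act 0 n191779 = n216009 := d21_4 (iv5 D150690) D150687 (iv5 F424946) (iv6 F424950) (iv6 D216009) (iv5 F338821) F384722 F384720 F467752 (iv1 D212844)
def n216010 : Q := act 1 n179764
theorem D216010 : act 1 n179764 = n216010 := rfl
theorem F482519 : act 1 n216010 = n189139 := d15_1 D216010 (iv7 F482516) F482512
theorem F482520 : act 7 n216010 = n188168 := d15_2 (iv0 F338899) D216010 F372539
theorem F482521 : act 6 n191774 = n216010 := d21_3 (iv5 D212841) (iv1 F366640) (iv5 F384411) (iv1 D216010) (iv6 D179764) D179763 F338840 F307381 D191764 (iv1 F467733)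
theorem F482522 : act 2 n216010 = n191779 := d3_1 F482521 F424950 (iv2 F424947)
def n216011 : Q := act 0 n179769
theorem D216011 : act 0 n179769 = n216011 := rfl
theorem F482523 : act 4 n216011 = n191333 := d20_2 (iv4 F280002) D216011 F383087 (iv1 F454632) F454629 D209687 F459965 F459961 F452502 (iv1 D179771)
theorem F482524 : act 6 n216011 = n189209 := d21_5 F191920 (iv1 F198400) F303324 D179769 D216011 F376101 (iv1 F170840) (iv5 F327460) (iv6 F198881) (iv1 F304518)
theorem F482525 : act 2 n198193 = n216011 := d3_3 F482524 (iv2 F376103) D198193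
theorem F482526 : act 3 n214286 = n216011 := d7_3 F482524 (iv3 F376104) D214286
def n216012 : Q := act 1 n179769
theorem D216012 : act 1 n179769 = n216012 := rfl
theorem F482527 : act 7 n216012 = n198193 := d15_2 (iv0 D216011) D216012 F482525
theorem F482528 : act 4 n208715 = n216012 := d20_0 (iv1 D216012) F280002 (iv3 F279988) F338899 F152463 (iv4 F284743) F448091 (iv4 F448078) (iv3 F429685) F450546
theorem F482529 : act 6 n197689 = n216012 := d21_3 (iv5 D141976) D141973 (iv5 F405375) (iv1 D216012) (iv6 D179769) (iv5 F303324) (iv1 D123990) (iv5 F191931) (iv6 F425000) F425002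
def n216013 : Q := act 0 n179784
theorem D216013 : act 0 n179784 = n216013 := rfl
theorem F482530 : act 5 n216013 = n199783 := d19_1 D216013 F413490 F413492 (iv1 D187550) F138939 F292787 (iv3 F327742) F360269 (iv5 F410084) F410085 F314266 F321887 F302295 (iv4 F191572) (iv3 D120310) (iv1 F87633) (iv5 F87761) (iv4 F304541) D179784
theorem F482531 : act 3 n216013 = n194714 := d20_5 (iv4 D170716) (iv1 F301842) (iv4 F304541) D179784 D216013 F394211 (iv1 F159716) D184056 (iv3 F338898) (iv1 F268238)
theorem F482532 : act 2 n203773 = n216013 := d15_3 (iv0 D216013) (iv0 F475123) F475122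
theorem F482533 : act 1 n203774 = n216013 := d15_0 (iv0 D216013) (iv7 F366886) D203774
theorem F482534 : act 4 n216013 = n203445 := d1_2 F475132 F482532 (iv2 F475130)
theorem F482535 : act 7 n216013 = n187848 := d4_2 F475122 F482532 (iv2 F475120)
theorem F482536 : act 1 n214425 = n203774 := d15_0 F482533 F482535 (iv2 F475120)
def n216014 : Q := act 2 n179784
theorem D216014 : act 2 n179784 = n216014 := rfl
theorem F482537 : act 3 n216014 = n204579 := d0_2 D179784 D216014 F432936 F198410 F304861
theorem F482538 : act 5 n216014 = n204223 := d2_2 F366887 D216014 (iv2 D204223)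
theorem F482539 : act 7 n216014 = n203774 := d4_2 F366886 D216014 (iv2 D203774)
theorem F482540 : act 1 n216014 = n187848 := d15_0 (iv0 F371691) F366886 D216014
theorem F482541 : act 4 n216014 = n187841 := d16_0 F371796 D189438 F395359 (iv4 F399000) F399001 (iv4 F429766) (iv5 D203775) F366886 D216014
theorem F482542 : act 0 n216014 = n203773 := d20_1 (iv4 F482541) (iv4 F475132) F475131 (iv1 F250924) F399597 (iv4 F405853) F405850 F178598 (iv3 F139495) D187841
def n216015 : Q := act 4 n179784
theorem D216015 : act 4 n179784 = n216015 := rfl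
theorem F482543 : act 2 n216015 = n187841 := d1_1 D216015 (iv4 F482541) (iv2 D216014)
theorem F482544 : act 3 n216015 = n203743 := d5_1 D216015 F429641 F191890 (iv4 F304541) D179784
theorem F482545 : act 7 n216015 = n187842 := d11_2 F366886 D216015 F413461
theorem F482546 : act 5 n216015 = n187901 := d17_5 F413457 D188057 F468085 F366887 D216015 (iv0 D187901) (iv5 D90642) D90641 D187898
theorem F482547 : act 0 n216015 = n187843 := d18_2 F475123 D216015 (iv4 F450244) F450245 F413487 F413485 F413482 D199784 F475124
theorem F482548 : act 1 n216015 = n187520 := d18_8 D189308 (iv4 F376934) F428294 F428292 D203445 (iv4 F482534) (iv0 D216013) D216015 F370661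
theorem F482549 : act 6 n216015 = n193351 := d21_5 (iv5 D52838) (iv1 F69007) (iv5 F138885) D187520 (iv1 F482548) (iv5 D193351) (iv1 F396025) F161539 (iv6 D90597) F114352
def n216016 : Q := act 6 n179784
theorem D216016 : act 6 n179784 = n216016 := rfl
theorem F482550 : act 3 n216016 = n179786 := d7_1 D216016 (iv6 D179786) D179784
theorem F482551 : act 4 n216016 = n193351 := d10_1 D216016 (iv6 F482549) (iv4 D216015)
theorem F482552 : act 0 n216016 = n211053 := d21_10 F459912 F361896 (iv5 F371752) (iv6 D187878) F139546 D90763 D188057 F468085 F366887 D216016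
theorem F482553 : act 5 n215619 = n216016 := d17_1 D215619 F482552 F459912 F241569 F345589 F331855 (iv5 F273570) F347447 D176162
theorem F482554 : act 1 n216016 = n215613 := d17_6 F353018 (iv5 F343422) (iv1 F188543) D203561 (iv4 F480782) F482553 (iv5 D215613) (iv0 F346768) F159194
def n216017 : Q := act 4 n179787
theorem D216017 : act 4 n179787 = n216017 := rfl
theorem F482555 : act 3 n216017 = n203704 := d5_1 D216017 (iv4 D203704) F191561 (iv4 F302443) D179787
theorem F482556 : act 6 n216017 = n199759 := d10_2 F451091 D216017 F451094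
theorem F482557 : act 7 n216017 = n204582 := d11_2 (iv7 F366868) D216017 (iv4 D204582)
theorem F482558 : act 0 n216017 = n213674 := d20_7 F411067 (iv1 F474186) F474189 F405844 F337476 D179787 D216017 F471581 (iv3 F463401) F463403
theorem F482559 : act 5 n204580 = n216017 := d19_1 D204580 (iv4 D216017) (iv3 D179787) (iv1 D85871) D85873 F302090 (iv3 F197404) (iv1 F413513) (iv5 F429785) F429786 (iv3 F363118) F212296 (iv5 F309763) F149143 (iv3 D55460) (iv1 F87636) (iv5 F191597) F191596 (iv3 F198410)
theorem F482560 : act 0 n199482 = n216017 := d20_10 (iv4 D216017) F432939 F243428 (iv3 F243425) F432820 (iv3 D123976) (iv4 D57756) (iv1 F90926) (iv4 F336750) (iv3 F412327)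
def n216018 : Q := act 0 n179795
theorem D216018 : act 0 n179795 = n216018 := rfl
theorem F482561 : act 5 n216018 = n196621 := d17_1 D216018 (iv1 F402201) (iv5 F412379) F412378 (iv5 F458366) (iv0 F460672) F460668 (iv0 D204228) F366921
theorem F482562 : act 6 n216018 = n197955 := d21_5 F304627 (iv1 D85871) D85873 D179795 D216018 (iv5 D197955) D197952 (iv5 F412244) F412242 (iv1 F304626)
theorem F482563 : act 2 n198804 = n216018 := d15_3 (iv0 D216018) F436648 (iv7 F436652)
theorem F482564 : act 1 n198784 = n216018 := d15_0 (iv0 D216018) F364129 (iv2 F409218)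
theorem F482565 : act 7 n216018 = n196620 := d15_2 (iv0 F436647) F482564 (iv2 F436644)
theorem F482566 : act 4 n216018 = n204212 := d17_9 F431503 (iv5 F432835) (iv1 F469639) F469636 (iv4 F424365) (iv5 F434996) (iv0 D205106) (iv5 F409221) F482564
def n216019 : Q := act 5 n179795
theorem D216019 : act 5 n179795 = n216019 := rfl
theorem F482567 : act 2 n216019 = n200674 := d2_1 D216019 F417432 (iv2 F366922)
theorem F482568 : act 3 n216019 = n199807 := d6_1 D216019 (iv5 D199807) F364130
theorem F482569 : act 6 n216019 = n179798 := d12_2 D179795 D216019 (iv5 D179798) (iv6 D85874) D85873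
theorem F482570 : act 7 n216019 = n198805 := d13_2 (iv7 F364129) D216019 (iv5 D198805)
theorem F482571 : act 0 n216019 = n205107 := d17_2 (iv1 F436648) D216019 F435002 (iv4 F424355) (iv5 F478824) (iv0 D215193) F268109 D204213 F436649
theorem F482572 : act 1 n216019 = n205106 := d17_6 D139476 D210658 F458362 (iv5 D204229) F366921 D216019 F434996 (iv0 F407638) F172819
def n216020 : Q := act 4 n179798
theorem D216020 : act 4 n179798 = n216020 := rfl
theorem F482573 : act 2 n216020 = n209656 := d1_1 D216020 F454518 F400708
theorem F482574 : act 3 n216020 = n209667 := d5_1 D216020 (iv4 F455193) F455192 F429085 F407640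
theorem F482575 : act 7 n216020 = n209654 := d11_2 (iv7 F400699) D216020 F454514
theorem F482576 : act 0 n216020 = n195505 := d18_2 (iv1 F400711) D216020 F397180 (iv5 F394214) (iv4 F444178) (iv0 D207291) (iv4 F221650) F436711 F436710
theorem F482577 : act 0 n209653 = n216020 := d20_10 (iv4 D216020) (iv1 F400700) (iv4 F467585) (iv3 F471677) (iv1 F471681) (iv3 F438424) F438425 D209521 F464128 (iv3 F464130)
def n216021 : Q := act 5 n179801
theorem D216021 : act 5 n179801 = n216021 := rfl
theorem F482578 : act 2 n216021 = n192613 := d2_1 D216021 (iv5 D192613) (iv2 F351145)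
theorem F482579 : act 3 n216021 = n179803 := d6_1 D216021 (iv5 D179803) D179801
theorem F482580 : act 4 n216021 = n213018 := d9_1 D216021 (iv5 D213018) (iv4 F370752) F370747 F145424 F154433 F351150 D188194 F372645 (iv5 D187931) (iv4 D90681) D90682 (iv4 F292005) F292006 F351144
theorem F482581 : act 7 n216021 = n191732 := d13_2 (iv7 F351140) D216021 F384295
theorem F482582 : act 6 n185283 = n216021 := d10_0 F482580 F468615 (iv4 F346094)
def n216022 : Q := act 1 n179803
theorem D216022 : act 1 n179803 = n216022 := rfl
theorem F482583 : act 1 n216022 = n179808 := d15_1 D216022 (iv7 F482455) F482453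
theorem F482584 : act 7 n216022 = n207293 := d15_2 F449368 D216022 (iv2 F449365)
theorem F482585 : act 5 n216022 = n207294 := d17_7 (iv1 F458619) (iv5 F460119) (iv1 F460121) F362246 (iv4 D179802) D179803 D216022 (iv0 F449615) (iv4 F457225)
def n216023 : Q := act 4 n179803
theorem D216023 : act 4 n179803 = n216023 := rfl
theorem F482586 : act 3 n216023 = n215992 := d5_1 D216023 (iv4 D215992) (iv3 F468614) (iv4 F482580) F482579
theorem F482587 : act 6 n215994 = n216023 := d7_0 F482586 F482463 D215994
def n216024 : Q := act 6 n179803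
theorem D216024 : act 6 n179803 = n216024 := rfl
theorem F482588 : act 3 n216024 = n185283 := d7_1 D216024 F482582 F482579
theorem F482589 : act 4 n216024 = n215994 := d10_1 D216024 F482587 (iv4 D216023)
theorem F482590 : act 5 n216024 = n215795 := d12_1 D216024 F481609 (iv5 D208851) F370506 D179803
theorem F482591 : act 7 n216024 = n191480 := d14_2 (iv7 F430804) D216024 (iv6 D191480) F290030 D204006
theorem F482592 : act 0 n216024 = n214114 := d21_4 (iv5 D85877) D85875 D179803 D216024 (iv6 D214114) (iv5 D156493) (iv1 F111696) D139431 F356534 (iv1 D179811)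
theorem F482593 : act 1 n216024 = n215838 := d15_1 (iv0 F482592) F481742 (iv2 F473546)
theorem F482594 : act 3 n185356 = n194086 := d19_19 (iv1 F481611) (iv5 F482590) F482589 (iv3 D215994) F279931 F195924 F304427 (iv3 F242216) F242217 (iv5 D75005) (iv4 F94593) (iv3 F106280) F191284 (iv5 F319618) F180008 (iv3 F180003) D202343 (iv5 F473255) F473257
def n216025 : Q := act 3 n179807
theorem D216025 : act 3 n179807 = n216025 := rfl
theorem F482595 : act 2 n216025 = n184582 := d0_1 D216025 (iv3 D184582) (iv2 F135022) D184099 (iv2 F351139)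
theorem F482596 : act 4 n216025 = n187587 := d5_2 D179807 D216025 F370908 F139085 (iv3 F294627)
theorem F482597 : act 6 n216025 = n187586 := d7_2 F367072 D216025 F370903
theorem F482598 : act 0 n210949 = n216025 := d20_4 (iv4 F351126) (iv1 D140606) (iv4 F223523) (iv3 F459432) (iv3 D216025) (iv4 D179807) (iv1 D85876) (iv4 F131728) (iv3 F337468) (iv1 F345206)
def n216026 : Q := act 5 n179807
theorem D216026 : act 5 n179807 = n216026 := rfl
theorem F482599 : act 2 n216026 = n194610 := d2_1 D216026 F393812 (iv2 F351139)
theorem F482600 : act 6 n216026 = n197752 := d12_2 F367072 D216026 F405632 F168519 (iv5 F327465)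
theorem F482601 : act 7 n216026 = n211104 := d13_2 F404975 D216026 (iv5 F460114)
theorem F482602 : act 1 n216026 = n198160 := d17_6 F387226 (iv5 F449366) F449367 (iv5 D179808) D179807 D216026 F407036 (iv0 F450697) (iv4 F387224)
theorem F482603 : act 0 n216026 = n211105 := d18_0 F460118 (iv1 D153577) F109142 D72747 D153777 F433029 (iv4 F429751) (iv0 F429753) D216026
def n216027 : Q := act 4 n179808
theorem D216027 : act 4 n179808 = n216027 := rfl
theorem F482604 : act 6 n216027 = n187704 := d10_2 F292671 D216027 (iv4 D187704)
def n216028 : Q := act 3 n179810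
theorem D216028 : act 3 n179810 = n216028 := rfl
theorem F482605 : act 5 n216028 = n187856 := d6_2 (iv5 F444181) D216028 F444180
theorem F482606 : act 6 n216028 = n204132 := d7_2 (iv6 F366919) D216028 F431151
theorem F482607 : act 7 n216028 = n192606 := d8_2 F473581 D216028 (iv3 F473579)
theorem F482608 : act 2 n192602 = n216028 := d2_3 F482605 F371705 D192602
def n216029 : Q := act 4 n179810
theorem D216029 : act 4 n179810 = n216029 := rfl
theorem F482609 : act 6 n216029 = n204133 := d10_2 (iv6 F366919) D216029 (iv4 D204133)
def n216030 : Q := act 3 n179811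
theorem D216030 : act 3 n179811 = n216030 := rfl
theorem F482610 : act 6 n216030 = n210607 := d7_2 F356534 D216030 F458193
theorem F482611 : act 4 n215196 = n216030 := d10_3 F482610 F458195 D215196
def n216031 : Q := act 4 n179811
theorem D216031 : act 4 n179811 = n216031 := rfl
theorem F482612 : act 3 n216031 = n215197 := d5_1 D216031 F478841 (iv3 F478840) F482611 (iv3 D216030)
theorem F482613 : act 6 n216031 = n210608 := d10_2 F356534 D216031 (iv4 D210608)
def n216032 : Q := act 0 n179812
theorem D216032 : act 0 n179812 = n216032 := rfl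
theorem F482614 : act 4 n216032 = n204432 := d18_3 (iv1 D179811) D179812 D216032 F450695 (iv4 F450694) (iv0 F420459) F221650 D207292 F444188
theorem F482615 : act 6 n216032 = n204431 := d21_5 (iv5 F195899) (iv1 F279932) F279930 (iv6 F280033) D216032 F432511 (iv1 F431183) (iv5 D204142) F196563 (iv1 F304429)
def n216033 : Q := act 1 n179812
theorem D216033 : act 1 n179812 = n216033 := rfl
def n216034 : Q := act 3 n179812
theorem D216034 : act 3 n179812 = n216034 := rfl
theorem F482616 : act 6 n216034 = n179826 := d7_2 (iv6 F280033) D216034 (iv3 D179826)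
def n216035 : Q := act 5 n179812
theorem D216035 : act 5 n179812 = n216035 := rfl
theorem F482617 : act 4 n216035 = n209655 := d16_2 D179812 D216035 (iv5 D209655) F219988 D196447 (iv4 F400707) (iv5 F482465) (iv7 D215993) F279923
def n216036 : Q := act 7 n179812
theorem D216036 : act 7 n179812 = n216036 := rfl
theorem F482618 : act 4 n216036 = n179813 := d11_1 D216036 (iv7 D179813) D179812
theorem F482619 : act 6 n216036 = n215202 := d14_1 D216036 F478858 F433120 F304683 (iv6 F280033)
def n216037 : Q := act 6 n179821
theorem D216037 : act 6 n179821 = n216037 := rfl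
theorem F482620 : act 2 n216037 = n213379 := d3_1 D216037 (iv6 D213379) F366800
theorem F482621 : act 3 n216037 = n179823 := d7_1 D216037 (iv6 D179823) D179821
theorem F482622 : act 4 n216037 = n204105 := d10_1 D216037 F431091 F384375
theorem F482623 : act 5 n216037 = n187770 := d12_1 D216037 (iv6 F431231) F431230 (iv6 D191376) (iv5 F280038)
theorem F482624 : act 7 n216037 = n204104 := d14_2 (iv7 F280039) D216037 F431088 (iv7 F430723) F430722
def n216038 : Q := act 6 n179822
theorem D216038 : act 6 n179822 = n216038 := rfl
theorem F482625 : act 2 n216038 = n204016 := d3_1 D216038 (iv6 D204016) (iv2 F280040)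
theorem F482626 : act 3 n216038 = n204143 := d7_1 D216038 F431188 (iv3 F384376)
theorem F482627 : act 4 n216038 = n179823 := d10_1 D216038 (iv6 D179823) D179822
theorem F482628 : act 5 n216038 = n211241 := d12_1 D216038 F460771 F449184 F429593 F383245
theorem F482629 : act 7 n216038 = n204141 := d14_2 (iv7 F280041) D216038 F431178 (iv7 F430729) F430728
theorem F482630 : act 0 n216038 = n208383 := d21_4 F366890 D191373 F383245 D216038 (iv6 F473561) F473559 (iv1 F449185) F449184 F429593 (iv1 F383247)
theorem F482631 : act 1 n216038 = n208382 := d15_1 (iv0 F482630) (iv7 F478882) F478880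
def n216039 : Q := act 3 n179825
theorem D216039 : act 3 n179825 = n216039 := rfl
theorem F482632 : act 5 n216039 = n215211 := d6_2 F366876 D216039 (iv3 D215211)
theorem F482633 : act 7 n216039 = n204046 := d8_2 (iv7 F280046) D216039 (iv3 D204046)
def n216040 : Q := act 6 n179825
theorem D216040 : act 6 n179825 = n216040 := rfl
theorem F482634 : act 2 n216040 = n204036 := d3_1 D216040 (iv6 D204036) F280048
theorem F482635 : act 4 n216040 = n203724 := d10_1 D216040 (iv6 D203724) F299270
def n216041 : Q := act 0 n179826
theorem D216041 : act 0 n179826 = n216041 := rfl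
def n216042 : Q := act 1 n179826
theorem D216042 : act 1 n179826 = n216042 := rfl
theorem F482636 : act 3 n191372 = n216042 := d19_19 (iv1 D216042) (iv5 F482468) (iv4 F482589) F482588 (iv1 D185283) (iv5 D88280) (iv4 F74673) (iv3 D47497) D47495 (iv5 F290684) (iv4 D90823) (iv3 F139793) (iv1 F239339) F239332 (iv4 F283258) F283257 F335736 D98165 D191372
theorem F482637 : act 4 n216042 = n204025 := d5_2 D191372 F482636 F430849 (iv4 D186750) (iv3 F151423)
theorem F482638 : act 6 n216042 = n191375 := d7_2 (iv6 F383243) F482636 (iv3 D191375)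
theorem F482639 : act 7 n204022 = n216042 := d14_0 F482638 (iv7 F429594) F429593 (iv7 F383249) D204022
theorem F482640 : act 2 n204022 = n216041 := d15_3 (iv0 D216041) D216042 (iv7 F482639)
theorem F482641 : act 4 n216041 = n203721 := d1_2 (iv4 F430845) F482640 F429544
theorem F482642 : act 6 n216041 = n191374 := d3_2 D204022 F482640 (iv2 F383254)
def n216043 : Q := act 2 n179826
theorem D216043 : act 2 n179826 = n216043 := rfl
theorem F482643 : act 4 n216043 = n215214 := d1_2 F482505 D216043 F482507
theorem F482644 : act 1 n204022 = n216043 := d17_8 (iv1 D215214) (iv5 F366924) D204813 F433682 F427388 (iv5 F366895) D204145 (iv5 F431191) F482643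
def n216044 : Q := act 0 n179864
theorem D216044 : act 0 n179864 = n216044 := rfl
theorem F482645 : act 1 n199481 = n216044 := d15_0 (iv0 D216044) (iv7 F366920) (iv2 F412321)
def n216045 : Q := act 1 n179864
theorem D216045 : act 1 n179864 = n216045 := rfl
theorem F482646 : act 1 n216045 = n199481 := d15_1 D216045 (iv7 D199481) F364125
theorem F482647 : act 5 n216045 = n208806 := d17_7 (iv1 F398954) (iv5 F399553) F402854 (iv5 F474188) F474189 F405845 D216045 F467916 F467913
theorem F482648 : act 3 n208807 = n216045 := d19_19 (iv1 D216045) (iv5 F405845) (iv4 F474189) (iv3 F474190) F433075 F427997 (iv4 D151940) F108127 F97906 (iv5 D35006) F27861 (iv3 F27860) F47451 D29062 D61391 (iv3 F317132) F354648 F354649 (iv4 F450962)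
theorem F482649 : act 4 n207986 = n216045 := d20_6 (iv4 D101081) D101079 D192992 F388462 (iv1 F213631) (iv3 F447290) (iv1 D216045) (iv4 F443091) F443090 F280132
theorem F482650 : act 6 n199073 = n216045 := d21_3 F412284 (iv1 F409171) (iv5 F410542) (iv1 D216045) F364122 (iv5 D111346) (iv1 F361206) D199452 (iv6 F412262) D199459
theorem F482651 : act 2 n216045 = n199473 := d3_1 F482650 (iv6 D199473) (iv2 F411944)
theorem F482652 : act 7 n216045 = n199480 := d14_2 (iv7 F411948) F482650 (iv6 F450292) F450293 (iv6 D199476)
theorem F482653 : act 2 n199480 = n216044 := d15_3 (iv0 D216044) D216045 F482652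
theorem F482654 : act 7 n199473 = n216044 := d4_2 (iv7 F482652) F482651 (iv2 F482653)
def n216046 : Q := act 4 n179881
theorem D216046 : act 4 n179881 = n216046 := rfl
def n216047 : Q := act 6 n179881
theorem D216047 : act 6 n179881 = n216047 := rfl
theorem F482655 : act 3 n216047 = n179882 := d7_1 D216047 (iv6 D179882) (iv3 F280146)
theorem F482656 : act 5 n216047 = n210036 := d12_1 D216047 (iv6 D210036) (iv5 F351621) F351622 D179881
def n216048 : Q := act 7 n179882
theorem D216048 : act 7 n179882 = n216048 := rfl
theorem F482657 : act 2 n216048 = n210604 := d4_1 D216048 F458190 F366925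
theorem F482658 : act 6 n216048 = n202525 := d14_1 D216048 F424377 F342832 (iv7 F301694) D179882
theorem F482659 : act 1 n215214 = n216048 := d15_1 D215214 (iv7 D216048) (iv2 F366925)
theorem F482660 : act 1 n216048 = n215213 := d15_1 F482659 (iv7 F482506) (iv2 F482507)
def n216049 : Q := act 5 n179892
theorem D216049 : act 5 n179892 = n216049 := rfl
theorem F482661 : act 2 n216049 = n179943 := d2_1 D216049 (iv5 D179943) (iv2 F280157)
theorem F482662 : act 3 n216049 = n197277 := d6_1 D216049 (iv5 F476762) F476759
theorem F482663 : act 6 n216049 = n195293 := d12_2 (iv6 F366626) D216049 F396603 (iv6 F227573) F351844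
theorem F482664 : act 7 n216049 = n211460 := d13_2 F348356 D216049 (iv5 D211460)
theorem F482665 : act 0 n216049 = n211461 := d17_2 F323260 D216049 F461643 F427324 F232971 F242147 (iv5 F241347) (iv0 D153550) (iv4 F323261)
theorem F482666 : act 1 n216049 = n209705 := d17_6 F185562 (iv5 D118110) F155241 D85954 D179892 D216049 (iv5 F454684) F427330 F185778
def n216050 : Q := act 1 n179905
theorem D216050 : act 1 n179905 = n216050 := rfl
theorem F482667 : act 7 n216050 = n213893 := d15_2 (iv0 F414639) D216050 F472611
theorem F482668 : act 5 n216050 = n209663 := d17_7 F360551 (iv5 F83400) D114421 (iv5 F361841) (iv4 F403773) (iv5 F403775) D216050 F454554 F403671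
theorem F482669 : act 4 n216050 = n197250 := d17_9 (iv1 D197250) (iv5 F218646) F444894 F444895 D209158 F452509 F414650 (iv5 F403775) D216050
theorem F482670 : act 3 n196411 = n216050 := d20_5 F78944 F48166 D49413 D106955 D196411 F482669 (iv1 D197250) F166988 (iv3 D49908) D49906
def n216051 : Q := act 6 n179906
theorem D216051 : act 6 n179906 = n216051 := rfl
theorem F482671 : act 2 n216051 = n197402 := d3_1 D216051 (iv6 D197402) (iv2 F366618)
theorem F482672 : act 4 n216051 = n211026 := d10_1 D216051 F473383 F473378
theorem F482673 : act 0 n216051 = n210179 := d21_10 (iv5 D210179) (iv1 D137809) D137810 (iv6 F396914) F404340 (iv6 D179918) (iv5 D85969) D85966 D179906 D216051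
theorem F482674 : act 0 n210176 = n216051 := d18_0 F482672 (iv1 F459788) F403901 F403897 (iv4 D137837) (iv0 F329330) D192265 (iv0 F386242) D210176
def n216052 : Q := act 6 n179908
theorem D216052 : act 6 n179908 = n216052 := rfl
theorem F482675 : act 2 n216052 = n197405 := d3_1 D216052 (iv6 D197405) F366616
theorem F482676 : act 4 n216052 = n213684 := d10_1 D216052 (iv6 F473396) F473393
theorem F482677 : act 0 n195401 = n216052 := d21_4 (iv5 D195404) (iv1 D105566) D105567 (iv6 F396912) (iv6 D216052) (iv5 D179908) (iv1 D85967) D85969 D179918 F404339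
def n216053 : Q := act 6 n179910
theorem D216053 : act 6 n179910 = n216053 := rfl
theorem F482678 : act 2 n216053 = n215285 := d3_1 D216053 F479213 F434684
theorem F482679 : act 3 n216053 = n216052 := d7_1 D216053 (iv6 D216052) F364195
theorem F482680 : act 4 n216053 = n203492 := d10_1 D216053 (iv6 F465535) F465534
theorem F482681 : act 7 n216053 = n197278 := d14_2 F404146 D216053 F403817 D197285 (iv6 F404149)
theorem F482682 : act 0 n216053 = n197286 := d21_4 D197240 (iv1 F403698) (iv5 F336911) D216053 F403835 (iv5 F464143) F464145 F396854 F403679 (iv1 F403677)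
theorem F482683 : act 5 n216053 = n197279 := d21_6 F469171 (iv1 F438458) F351837 F324090 D179910 D216053 F472789 F472787 (iv6 F471906) F471909
theorem F482684 : act 0 n214858 = n216053 := d17_0 F482683 F472789 F472787 (iv4 F438034) F438035 (iv0 D128168) D128170 (iv0 F339293) (iv4 F477168)
def n216054 : Q := act 6 n179913
theorem D216054 : act 6 n179913 = n216054 := rfl
theorem F482685 : act 3 n216054 = n179918 := d7_1 D216054 (iv6 D179918) (iv3 F280196)
theorem F482686 : act 5 n216054 = n210312 := d12_1 D216054 (iv6 D210312) F351837 F324090 D179913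
def n216055 : Q := act 6 n179934
theorem D216055 : act 6 n179934 = n216055 := rfl
theorem F482687 : act 2 n216055 = n213337 := d3_1 D216055 (iv6 D213337) (iv2 F280233)
theorem F482688 : act 3 n216055 = n192523 := d7_1 D216055 F386946 (iv3 F362740)
theorem F482689 : act 5 n216055 = n192521 := d12_1 D216055 F390026 F390023 F321082 D179934
theorem F482690 : act 1 n192433 = n216055 := d18_8 F467781 F467779 D215459 F480084 F455743 (iv4 D182266) (iv0 F283621) D192433 F482689
def n216056 : Q := act 3 n179937
theorem D216056 : act 3 n179937 = n216056 := rfl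
theorem F482691 : act 4 n216056 = n202346 := d5_2 D179937 D216056 F423700 F348362 F239899
theorem F482692 : act 6 n216056 = n211302 := d7_2 F320122 D216056 (iv3 D211302)
theorem F482693 : act 7 n216056 = n202342 := d8_2 (iv7 F280247) D216056 F423697
def n216057 : Q := act 3 n179951
theorem D216057 : act 3 n179951 = n216057 := rfl
theorem F482694 : act 2 n216057 = n203900 := d0_1 D216057 F454535 (iv2 F454537) F411763 (iv2 F411761)
theorem F482695 : act 4 n216057 = n203889 := d5_2 D179951 D216057 F430254 (iv4 F404380) F360153
theorem F482696 : act 5 n216057 = n214272 := d6_2 (iv5 F434686) D216057 F474343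
theorem F482697 : act 0 n216057 = n197292 := d19_4 F350987 (iv5 D179952) D179951 D216057 (iv5 F404548) F404547 F201812 (iv1 F219752) D205126 F435067 F406701 (iv1 D128884) (iv5 D60614) (iv4 F83920) (iv3 D53151) (iv1 D25781) D25783 D53161 D115224
def n216058 : Q := act 5 n180009
theorem D216058 : act 5 n180009 = n216058 := rfl
theorem F482698 : act 2 n216058 = n199632 := d2_1 D216058 (iv5 F412923) (iv2 F363378)
theorem F482699 : act 4 n216058 = n180025 := d9_1 D216058 (iv5 D180025) F297293 (iv5 F61004) F324366 (iv5 D66048) (iv4 F101717) D140738 F324363 (iv5 D79866) (iv4 D36382) D36383 (iv4 F299404) F148171 D180009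
theorem F482700 : act 7 n216058 = n202496 := d13_2 F322678 D216058 (iv5 D202496)
theorem F482701 : act 0 n216058 = n211126 := d17_2 (iv1 F302799) D216058 F460208 F276470 (iv5 F148980) (iv0 F310652) F310656 (iv0 D86530) D86532
theorem F482702 : act 1 n216058 = n199818 := d17_6 D84384 F300138 (iv1 F299403) F148171 D180009 D216058 F413634 (iv0 D177056) (iv4 D84385)
theorem F482703 : act 6 n216058 = n199620 := d21_3 F354280 (iv1 F302799) D216058 (iv1 D199620) (iv6 D111512) D111511 (iv1 F219138) (iv5 D111398) D111399 (iv1 F354279)
def n216059 : Q := act 3 n180012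
theorem D216059 : act 3 n180012 = n216059 := rfl
theorem F482704 : act 2 n216059 = n215893 := d0_1 D216059 F481960 F457273 (iv3 D210376) F312854
theorem F482705 : act 4 n216059 = n212193 := d5_2 F324154 D216059 F464706 F228529 (iv3 F228511)
theorem F482706 : act 5 n216059 = n215383 := d6_2 F478985 D216059 F479701
theorem F482707 : act 6 n216059 = n211034 := d7_2 (iv6 F359817) D216059 F459821
theorem F482708 : act 7 n216059 = n202463 := d8_2 F324148 D216059 F424107
theorem F482709 : act 0 n210908 = n216059 := d20_4 D198040 (iv1 F459245) (iv4 D210909) (iv3 F459240) (iv3 D216059) (iv4 F324154) F324151 (iv4 F282243) (iv3 F405577) (iv1 F405579)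
def n216060 : Q := act 3 n180033
theorem D216060 : act 3 n180033 = n216060 := rfl
theorem F482710 : act 2 n216060 = n205279 := d0_1 D216060 F435738 (iv2 F430518) F430519 (iv2 F299708)
theorem F482711 : act 5 n216060 = n180123 := d6_2 (iv5 F280416) D216060 (iv3 D180123)
theorem F482712 : act 6 n216060 = n200704 := d7_2 F477084 D216060 (iv3 F477082)
theorem F482713 : act 7 n216060 = n189795 := d8_2 F280417 D216060 F377782
theorem F482714 : act 0 n216060 = n205280 := d20_4 F202155 F354278 (iv4 F299709) D216060 F435741 (iv4 F395142) (iv1 F395143) F392647 F267326 (iv1 F354274)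
theorem F482715 : act 0 n205272 = n216060 := d20_4 F395539 (iv1 F466134) F466130 (iv3 F435700) (iv3 D216060) F299709 (iv1 F282295) (iv4 D181234) (iv3 F350076) F395543
def n216061 : Q := act 6 n180034
theorem D216061 : act 6 n180034 = n216061 := rfl
theorem F482716 : act 2 n216061 = n197862 := d3_1 D216061 F406053 F358448
theorem F482717 : act 3 n216061 = n198914 := d7_1 D216061 (iv6 F431966) F431964
theorem F482718 : act 4 n216061 = n180035 := d10_1 D216061 (iv6 D180035) D180034
theorem F482719 : act 5 n216061 = n198304 := d12_1 D216061 F407545 (iv5 D138472) (iv6 F312852) (iv5 F302555)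
theorem F482720 : act 7 n216061 = n214628 := d14_2 F431243 D216061 (iv6 D214628) F253362 (iv6 F431242)
theorem F482721 : act 0 n216061 = n197831 := d21_10 (iv5 F407255) F407257 (iv5 D109136) (iv6 F326416) D170835 F386115 (iv5 D140553) (iv1 F326241) (iv5 F302555) D216061
theorem F482722 : act 0 n197828 = n216061 := d21_4 F362847 D199432 F412170 (iv6 F407489) (iv6 D216061) F302555 (iv1 F303937) (iv5 F478985) (iv6 F478988) F417526
def n216062 : Q := act 6 n180131
theorem D216062 : act 6 n180131 = n216062 := rfl
theorem F482723 : act 2 n216062 = n203784 := d3_1 D216062 F429798 (iv2 F359331)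
theorem F482724 : act 3 n216062 = n204677 := d7_1 D216062 F433230 F359334
theorem F482725 : act 4 n216062 = n180132 := d10_1 D216062 (iv6 D180132) D180131
theorem F482726 : act 5 n216062 = n193206 := d12_1 D216062 (iv6 D193206) F360571 F359317 (iv5 F347417)
theorem F482727 : act 7 n216062 = n204672 := d14_2 F383309 D216062 F433219 (iv7 F404458) (iv6 F404461)
theorem F482728 : act 0 n216062 = n203688 := d21_4 F381078 F360576 (iv5 F347417) D216062 (iv6 D203688) (iv5 F412089) (iv1 F394873) (iv5 D124236) (iv6 F197190) (iv1 F381081)
theorem F482729 : act 0 n204670 = n216062 := d21_4 D214613 (iv1 F476053) F433541 (iv6 F457622) (iv6 D216062) F347417 (iv1 F360578) D190785 F476038 (iv1 D214611)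
def n216063 : Q := act 5 n180163
theorem D216063 : act 5 n180163 = n216063 := rfl
theorem F482730 : act 2 n216063 = n200043 := d2_1 D216063 (iv5 D200043) F366013
theorem F482731 : act 3 n216063 = n198999 := d6_1 D216063 F410258 F358651
theorem F482732 : act 0 n216063 = n199099 := d17_2 (iv1 F362616) D216063 F410652 (iv4 F326648) (iv5 D110301) (iv0 D50856) F38708 D50855 D110295
theorem F482733 : act 1 n216063 = n209662 := d17_6 F297995 (iv5 F92700) F299721 F254959 D180163 D216063 F454547 (iv0 F300424) F193358
def n216064 : Q := act 3 n180168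
theorem D216064 : act 3 n180168 = n216064 := rfl
theorem F482734 : act 2 n216064 = n198257 := d0_1 D216064 F482018 (iv2 F482015) (iv3 F480495) (iv2 F358731)
theorem F482735 : act 4 n216064 = n215106 := d5_2 F389877 D216064 F478378 F417723 (iv3 F389874)
theorem F482736 : act 5 n216064 = n210911 := d6_2 (iv5 F358732) D216064 F459253
theorem F482737 : act 6 n216064 = n180483 := d7_2 (iv6 F358733) D216064 (iv3 D180483)
theorem F482738 : act 0 n216064 = n198344 := d20_4 (iv4 D205051) F389879 F389877 D216064 F407692 (iv4 F202427) F203153 (iv4 F412048) F412047 (iv1 F434787)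
def n216065 : Q := act 0 n180171
theorem D216065 : act 0 n180171 = n216065 := rfl
theorem F482739 : act 5 n216065 = n204307 := d17_3 F358727 D180171 D216065 (iv4 F480820) F480821 (iv0 F383228) F353948 F353949 (iv4 F272922)
theorem F482740 : act 4 n216065 = n191933 := d18_1 D216065 (iv1 F384884) D192522 (iv5 F479688) (iv4 D215381) (iv0 F389878) F389877 (iv0 D180168) D180171
theorem F482741 : act 3 n216065 = n210159 := d20_5 F221917 F164816 F344460 (iv3 F280525) D216065 F456407 (iv1 F470238) (iv4 F482025) (iv3 D215907) (iv1 F344445)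
theorem F482742 : act 2 n192516 = n216065 := d15_3 (iv0 D216065) (iv0 F358734) D192516
theorem F482743 : act 1 n191391 = n216065 := d15_0 (iv0 D216065) (iv7 F434766) F434764
theorem F482744 : act 7 n216065 = n191930 := d15_2 (iv0 F386727) F482743 F384874
theorem F482745 : act 6 n192505 = n216065 := d21_9 (iv5 D191391) (iv1 F358728) (iv5 F431998) (iv6 F432000) (iv1 F406613) (iv6 F416769) (iv5 D200506) D200505 (iv5 F416767) (iv1 F482743)
def n216066 : Q := act 5 n180183
theorem D216066 : act 5 n180183 = n216066 := rfl
theorem F482746 : act 2 n216066 = n215388 := d2_1 D216066 (iv5 D215388) F365498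
theorem F482747 : act 3 n216066 = n210988 := d6_1 D216066 (iv5 F478989) F478991
theorem F482748 : act 6 n216066 = n215885 := d12_2 (iv6 F365497) D216066 (iv5 D215885) (iv6 F431780) F431779
theorem F482749 : act 7 n216066 = n210520 := d13_2 F365499 D216066 F457900
theorem F482750 : act 0 n216066 = n210984 := d17_2 F463489 D216066 (iv5 F459637) (iv4 F467723) F467724 (iv0 D203835) (iv5 F347503) F434741 (iv4 F463487)
theorem F482751 : act 4 n216066 = n210525 := d18_5 (iv1 F358718) (iv4 D98245) (iv1 F324243) D180183 D216066 F457919 F411786 F366741 (iv5 F358732)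
def n216067 : Q := act 5 n180263
theorem D216067 : act 5 n180263 = n216067 := rfl
theorem F482752 : act 2 n216067 = n213750 := d2_1 D216067 (iv5 D213750) (iv2 F366126)
theorem F482753 : act 7 n216067 = n215947 := d13_2 (iv7 F366125) D216067 (iv5 D215947)
theorem F482754 : act 4 n216067 = n204990 := d16_2 (iv4 F280585) D216067 F434487 F316037 F314600 F92469 D124982 F200755 F324618
theorem F482755 : act 0 n216067 = n210446 := d17_2 F355021 D216067 (iv5 F468699) (iv4 D213034) (iv5 D152247) (iv0 D71817) D71819 (iv0 F348546) F170602
theorem F482756 : act 1 n216067 = n210448 := d17_6 (iv1 D124984) (iv5 D58433) (iv1 F155139) F324181 (iv4 F280585) D216067 F457580 (iv0 F434454) (iv4 D204984)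
def n216068 : Q := act 6 n180282
theorem D216068 : act 6 n180282 = n216068 := rfl
theorem F482757 : act 2 n216068 = n194795 := d3_1 D216068 (iv6 D194795) F348567
theorem F482758 : act 3 n216068 = n187909 := d7_1 D216068 (iv6 F371821) (iv3 F347477)
theorem F482759 : act 4 n216068 = n194795 := d10_1 D216068 (iv6 D194795) F348570
theorem F482760 : act 5 n216068 = n190833 := d12_1 D216068 F482012 (iv5 D215904) F335990 D180282
theorem F482761 : act 7 n216068 = n194746 := d14_2 (iv7 F348574) D216068 F394333 (iv7 F370173) F370172
theorem F482762 : act 0 n190833 = n190739 := d21_7 (iv5 F147999) F148001 F106361 D103579 (iv1 F348571) D216068 F482760 (iv5 D190739) (iv6 D96525) (iv1 F71418)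
theorem F482763 : act 0 n194820 = n216068 := d17_0 F482760 F482762 (iv5 D190739) F148683 D96528 (iv0 F343069) F147504 F160293 D194820
theorem F482764 : act 1 n194442 = n216068 := d15_0 (iv0 F482763) F394605 (iv2 F393232)
def n216069 : Q := act 6 n180359
theorem D216069 : act 6 n180359 = n216069 := rfl
theorem F482765 : act 2 n216069 = n215737 := d3_1 D216069 F481328 (iv2 F377723)
theorem F482766 : act 3 n216069 = n207567 := d7_1 D216069 (iv6 D207567) F359032
theorem F482767 : act 5 n216069 = n215721 := d12_1 D216069 (iv6 F481235) (iv5 F436947) F436949 (iv5 F359031)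
theorem F482768 : act 7 n216069 = n213551 := d14_2 F377720 D216069 (iv6 D213551) (iv7 F242340) F377722
theorem F482769 : act 0 n216069 = n205583 := d21_4 (iv5 F445473) (iv1 D207565) (iv5 F359031) D216069 (iv6 D205583) (iv5 D126382) F176604 F176605 D138064 F441282
theorem F482770 : act 0 n207478 = n216069 := d21_4 (iv5 F359026) D188443 F373502 D207478 (iv6 D216069) F359031 F354356 D132086 (iv6 F359029) F217214
def n216070 : Q := act 1 n180366
theorem D216070 : act 1 n180366 = n216070 := rfl
theorem F482771 : act 1 n216070 = n180376 := d15_1 D216070 (iv7 F434812) F434809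
theorem F482772 : act 7 n216070 = n191567 := d15_2 F389598 D216070 (iv2 F389593)
theorem F482773 : act 5 n216070 = n180669 := d17_7 (iv1 D58716) F45084 D34448 (iv5 F256335) D86144 D180366 D216070 F281204 (iv4 D125400)
theorem F482774 : act 4 n216070 = n191569 := d17_9 F383860 (iv5 F354681) (iv1 D100581) F74129 (iv4 F151974) (iv5 F354673) (iv0 D180363) D180366 D216070
theorem F482775 : act 2 n180672 = n216070 := d1_3 F482774 F383857 (iv4 F364569)
theorem F482776 : act 6 n194061 = n216070 := d10_0 F482774 F383859 D194061
theorem F482777 : act 3 n190791 = n216070 := d20_5 F165593 (iv1 D49362) (iv4 F77857) (iv3 F164237) (iv1 F381088) F482774 F383860 (iv4 F334365) (iv3 F334362) (iv1 F164193)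
def n216071 : Q := act 5 n180375
theorem D216071 : act 5 n180375 = n216071 := rfl
theorem F482778 : act 2 n216071 = n201887 := d2_1 D216071 F422227 (iv2 F380470)
theorem F482779 : act 3 n216071 = n180376 := d6_1 D216071 (iv5 D180376) D180375
theorem F482780 : act 6 n216071 = n191137 := d12_2 (iv6 F364523) D216071 (iv5 F478410) (iv6 D215111) F382706
theorem F482781 : act 7 n216071 = n215180 := d13_2 (iv7 F377795) D216071 F478754
theorem F482782 : act 0 n216071 = n195756 := d17_2 F280703 D216071 (iv5 F398056) F267340 D214636 (iv0 F476158) F433443 (iv0 F406200) F193370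
theorem F482783 : act 4 n216071 = n201111 := d17_4 F478751 F267356 F280703 D216071 (iv5 F462605) (iv0 F462607) (iv5 F378515) (iv0 F444471) F478753
theorem F482784 : act 1 n216071 = n183496 := d17_8 (iv1 F439311) (iv5 F398060) (iv1 F399781) F451651 (iv4 F463889) F463890 F377798 D216071 F439313
def n216072 : Q := act 1 n180377
theorem D216072 : act 1 n180377 = n216072 := rfl
theorem F482785 : act 1 n216072 = n207976 := d15_1 D216072 F447233 (iv2 F358985)
theorem F482786 : act 7 n216072 = n208534 := d15_2 (iv0 F452135) D216072 F452137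
theorem F482787 : act 4 n216072 = n185902 := d17_9 (iv1 F414922) (iv5 F442222) F442224 (iv5 D200498) (iv4 F416742) (iv5 F416744) (iv0 F478404) F478402 D216072
theorem F482788 : act 2 n215151 = n216072 := d1_3 F482787 (iv2 F414885) F478581
theorem F482789 : act 6 n198916 = n216072 := d10_0 F482787 F362992 D198916
def n216073 : Q := act 4 n180382
theorem D216073 : act 4 n180382 = n216073 := rfl
theorem F482790 : act 2 n216073 = n203865 := d1_1 D216073 F430168 F280826
theorem F482791 : act 7 n216073 = n194916 := d11_2 (iv7 F280827) D216073 F394988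
theorem F482792 : act 5 n216073 = n215518 := d17_5 (iv1 D157855) D157857 D214261 (iv5 F474289) D216073 (iv0 D215518) F273556 (iv0 F362541) F262393
theorem F482793 : act 3 n216073 = n198432 := d19_3 D214261 (iv5 F474289) D216073 F474550 D198485 (iv4 F434875) F434860 D205071 F434864 (iv4 D180373) (iv3 D86148) (iv1 D39874) (iv5 F30119) (iv4 F60708) (iv3 D39894) D39893 F341317 (iv4 F341316) (iv3 F248774)
theorem F482794 : act 0 n216073 = n214875 := d20_1 D216073 (iv4 F477231) (iv3 D214264) (iv1 D157860) (iv3 D75204) (iv4 D34436) (iv1 F30108) D39876 D86152 D180382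
theorem F482795 : act 0 n214873 = n216073 := d20_10 (iv4 D216073) (iv1 F280706) (iv4 F474350) F474349 F373630 (iv3 F369679) (iv4 F369676) F392197 F392195 D214873
theorem F482796 : act 6 n198430 = n216073 := d7_0 F482793 (iv6 D198432) D198430
def n216074 : Q := act 6 n180382
theorem D216074 : act 6 n180382 = n216074 := rfl
theorem F482797 : act 2 n216074 = n199508 := d3_1 D216074 F412455 F280826
theorem F482798 : act 3 n216074 = n199539 := d7_1 D216074 F412585 F410626
theorem F482799 : act 4 n216074 = n198430 := d10_1 D216074 F482796 (iv4 D216073)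
theorem F482800 : act 7 n216074 = n199583 := d14_2 (iv7 F280827) D216074 (iv6 F412765) F378272 F378078
theorem F482801 : act 1 n199392 = n216074 := d15_1 (iv0 F411956) F482800 F412763
theorem F482802 : act 1 n216074 = n180431 := d15_1 F482801 (iv7 F414261) F414258
def n216075 : Q := act 6 n180385
theorem D216075 : act 6 n180385 = n216075 := rfl
theorem F482803 : act 3 n216075 = n180387 := d7_1 D216075 (iv6 D180387) (iv3 F280714)
theorem F482804 : act 5 n216075 = n214170 := d12_1 D216075 (iv6 D214170) (iv5 F404388) (iv6 D180386) D180385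
theorem F482805 : act 0 n216075 = n199180 := d21_4 (iv5 F474293) (iv1 D180383) D180385 D216075 F411051 F371889 (iv1 F180052) D140436 F363352 (iv1 F474291)
def n216076 : Q := act 4 n180389
theorem D216076 : act 4 n180389 = n216076 := rfl
theorem F482806 : act 2 n216076 = n214272 := d1_1 D216076 (iv4 D214272) (iv2 F280723)
theorem F482807 : act 3 n216076 = n199338 := d5_1 D216076 F411766 (iv3 F420419) F420422 F404389
theorem F482808 : act 7 n216076 = n216057 := d11_2 F430255 D216076 F482695
theorem F482809 : act 5 n216076 = n203900 := d16_1 D216076 (iv4 D203900) (iv5 D121277) F88534 F43546 (iv4 F88534) D121277 (iv7 F366946) (iv2 F280723)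
theorem F482810 : act 0 n216076 = n196415 := d18_2 F409345 D216076 (iv4 D196415) (iv5 F358803) (iv4 F344525) F301319 (iv4 F325620) F362600 D198807
theorem F482811 : act 1 n216076 = n196413 := d18_6 F337375 (iv4 D121280) (iv1 F296946) (iv4 F132109) D180389 D216076 (iv4 D196413) (iv0 D106959) D106962
def n216077 : Q := act 3 n180391
theorem D216077 : act 3 n180391 = n216077 := rfl
theorem F482812 : act 6 n216077 = n199841 := d7_2 (iv6 F411941) D216077 F413765
theorem F482813 : act 7 n216077 = n214278 := d8_2 (iv7 F363807) D216077 (iv3 D214278)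
theorem F482814 : act 4 n216077 = n199842 := d20_6 F81111 (iv1 F80976) D111280 (iv3 F337388) F337385 D216077 F474548 F392189 (iv3 F392188) (iv1 F172611)
theorem F482815 : act 0 n216077 = n214961 := d20_10 (iv4 D214961) (iv1 F258600) (iv4 F392191) (iv3 F476710) (iv1 F476716) F410618 F171941 D197458 F404423 D216077
theorem F482816 : act 0 n214263 = n216077 := d20_4 (iv4 F176468) (iv1 F417133) F417135 D214263 (iv3 D216077) (iv4 F404423) (iv1 F404430) F400827 (iv3 F412596) F412601
def n216078 : Q := act 6 n180393
theorem D216078 : act 6 n180393 = n216078 := rfl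
theorem F482817 : act 3 n216078 = n180395 := d7_1 D216078 (iv6 D180395) (iv3 F280730)
theorem F482818 : act 4 n216078 = n201449 := d10_1 D216078 (iv6 D201449) (iv4 F365247)
theorem F482819 : act 7 n216078 = n198316 := d14_2 (iv7 F280731) D216078 (iv6 F459351) F459352 F360110
theorem F482820 : act 0 n216078 = n197809 := d21_4 (iv5 F461374) (iv1 D180391) D180393 D216078 (iv6 D197809) (iv5 F405453) (iv1 F405454) F363678 (iv6 F407185) (iv1 F461372)
theorem F482821 : act 0 n200932 = n216078 := d21_4 F221903 D156310 F351306 (iv6 F418425) (iv6 D216078) (iv5 D180393) D180390 (iv5 F363803) (iv6 F450266) F450264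
def n216079 : Q := act 6 n180405
theorem D216079 : act 6 n180405 = n216079 := rfl
theorem F482822 : act 2 n216079 = n198314 := d3_1 D216079 (iv6 F407576) (iv2 F280774)
theorem F482823 : act 4 n216079 = n192672 := d10_1 D216079 F387441 (iv4 F354680)
theorem F482824 : act 7 n216079 = n198313 := d14_2 (iv7 F280775) D216079 F469606 F474389 (iv6 D214282)
theorem F482825 : act 0 n216079 = n198312 := d21_4 (iv5 D86163) D86161 D180405 D216079 (iv6 D198312) (iv5 F400142) (iv1 F400145) F378260 F370873 (iv1 D180410)
theorem F482826 : act 1 n216079 = n192682 := d15_1 (iv0 F482825) F387458 (iv2 F407575)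
def n216080 : Q := act 4 n180407
theorem D216080 : act 4 n180407 = n216080 := rfl
theorem F482827 : act 2 n216080 = n180411 := d1_1 D216080 (iv4 D180411) (iv2 F280778)
theorem F482828 : act 5 n216080 = n205059 := d9_2 D180407 D216080 (iv4 D205059) (iv5 D125378) F92776 F45084 (iv4 F54648) D75232 (iv4 F345253) (iv5 F156342) (iv4 F345251) (iv5 D157800) F112727 (iv5 F60689) (iv4 F132128)
theorem F482829 : act 7 n216080 = n192007 := d11_2 (iv7 F280779) D216080 F385176
theorem F482830 : act 0 n216080 = n191693 := d17_0 (iv5 D191693) (iv1 F152088) (iv5 F345223) (iv4 D180790) (iv5 D86348) D86346 (iv5 F248825) (iv0 F280780) D216080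
theorem F482831 : act 1 n216080 = n188156 := d18_6 (iv1 D157953) (iv4 D75239) (iv1 F60691) (iv4 F132128) D180407 D216080 F372503 (iv0 F474403) (iv5 D214285)
theorem F482832 : act 3 n210466 = n216080 := d20_5 (iv4 D46290) D46288 D98918 D191783 F457657 (iv4 D216080) F280780 (iv4 F383940) F383938 (iv1 D98924)
theorem F482833 : act 6 n216080 = n188148 := d7_2 D210466 F482832 (iv3 F372486)
def n216081 : Q := act 6 n180407
theorem D216081 : act 6 n180407 = n216081 := rfl
theorem F482834 : act 2 n216081 = n180412 := d3_1 D216081 (iv6 D180412) (iv2 F280778)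
theorem F482835 : act 3 n216081 = n184551 := d7_1 D216081 F461298 (iv3 F461300)
theorem F482836 : act 4 n216081 = n188148 := d10_1 D216081 (iv6 F482833) (iv4 D216080)
theorem F482837 : act 7 n216081 = n193054 := d14_2 (iv7 F280779) D216081 (iv6 D193054) (iv7 F385172) (iv6 F385174)
theorem F482838 : act 0 n216081 = n187989 := d21_4 (iv5 D157920) (iv1 F132130) D180407 D216081 (iv6 D187989) F139619 (iv1 F139544) F362674 F345208 F258236
def n216082 : Q := act 4 n180410
theorem D216082 : act 4 n180410 = n216082 := rfl
theorem F482839 : act 2 n216082 = n191601 := d1_1 D216082 F383943 F280791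
theorem F482840 : act 3 n216082 = n188176 := d5_1 D216082 (iv4 F375756) (iv3 D189101) (iv4 F338450) F338453
theorem F482841 : act 5 n216082 = n186705 := d9_2 (iv5 F280790) D216082 F367740 F332752 (iv4 F254402) F254403 F201726 (iv5 F280784) F350352 (iv5 F367734) F367732 F332755 (iv4 F254372) F254373 F132152
theorem F482842 : act 6 n216082 = n191882 := d10_2 F370873 D216082 F384638
theorem F482843 : act 7 n216082 = n191600 := d11_2 (iv7 F280789) D216082 F383940
theorem F482844 : act 0 n216082 = n192648 := d17_0 F387346 F383860 (iv5 F354681) (iv4 F354680) (iv5 D180405) (iv0 D86161) D86163 D180410 D216082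
theorem F482845 : act 1 n216082 = n191946 := d18_6 (iv1 F281429) F281431 (iv1 D121188) F132152 (iv5 F280790) D216082 (iv4 F474402) F474404 (iv5 D180806)
def n216083 : Q := act 1 n180412
theorem D216083 : act 1 n180412 = n216083 := rfl
theorem F482846 : act 1 n216083 = n193054 := d15_1 D216083 (iv7 F482837) F482834
theorem F482847 : act 7 n216083 = n187989 := d15_2 (iv0 F394081) D216083 (iv2 F394078)
theorem F482848 : act 4 n216083 = n188128 := d18_7 (iv1 F391918) (iv4 F391919) (iv1 F385122) (iv4 D136510) (iv5 F329869) F345432 D216083 F391927 D192667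
theorem F482849 : act 3 n208901 = n216083 := d20_3 (iv4 D135302) D135300 D208901 (iv1 D216083) F280793 (iv4 F248779) F364774 (iv4 F432864) (iv3 F444164) F444167
def n216084 : Q := act 5 n180413
theorem D216084 : act 5 n180413 = n216084 := rfl
theorem F482850 : act 2 n216084 = n199716 := d2_1 D216084 (iv5 F460170) F460172
theorem F482851 : act 3 n216084 = n199431 := d6_1 D216084 F412165 F351543
theorem F482852 : act 4 n216084 = n194434 := d9_1 D216084 F393192 F369537 (iv5 F394292) F394294 (iv5 F409481) F409484 (iv5 F386929) F375050 F143219 (iv4 F361673) D201291 F419885 D210034 F455854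
theorem F482853 : act 6 n216084 = n215729 := d12_2 (iv6 F351542) D216084 (iv5 D215729) F276578 D177286
theorem F482854 : act 7 n216084 = n194431 := d13_2 F431978 D216084 (iv5 F431973)
theorem F482855 : act 0 n216084 = n199704 := d17_2 D180413 D216084 F413180 (iv4 F173302) F334615 (iv0 F349922) (iv5 D112730) F323179 (iv4 F132135)
theorem F482856 : act 1 n216084 = n198795 := d17_6 F352289 (iv5 D137306) D137304 D210034 F455854 D216084 (iv5 D198795) D198793 F409261
def n216085 : Q := act 4 n180418
theorem D216085 : act 4 n180418 = n216085 := rfl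
theorem F482857 : act 2 n216085 = n213881 := d1_1 D216085 F472553 F413568
theorem F482858 : act 3 n216085 = n212874 := d5_1 D216085 F467900 F237968 (iv4 F237970) F360003
theorem F482859 : act 5 n216085 = n213877 := d9_2 (iv5 F345425) D216085 (iv4 D213877) (iv5 D156022) F111031 D135922 F363276 (iv5 F363279) (iv4 F461389) F461391 F404167 F167239 F111035 F324295 (iv4 F306415)
theorem F482860 : act 6 n216085 = n196316 := d10_2 (iv6 F351230) D216085 F400300
theorem F482861 : act 7 n216085 = n198125 := d11_2 F413564 D216085 (iv4 F413561)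
theorem F482862 : act 0 n216085 = n215263 := d17_0 F479103 (iv1 F405295) F404843 F343111 (iv5 F81286) F172806 D199484 (iv0 F412339) D216085
theorem F482863 : act 1 n216085 = n203979 := d18_6 (iv1 F449948) F449947 (iv1 D159160) (iv4 F306415) (iv5 F345425) D216085 F430688 (iv0 F457501) F457498
def n216086 : Q := act 6 n180439
theorem D216086 : act 6 n180439 = n216086 := rfl
theorem F482864 : act 2 n216086 = n214288 := d3_1 D216086 (iv6 D214288) (iv2 F280830)
theorem F482865 : act 3 n216086 = n197688 := d7_1 D216086 F405367 (iv3 F362335)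
theorem F482866 : act 4 n216086 = n193055 := d10_1 D216086 F388696 (iv4 F362334)
theorem F482867 : act 5 n216086 = n211425 := d12_1 D216086 F461484 (iv5 D197937) F327949 D180439
theorem F482868 : act 0 n193060 = n216086 := d21_4 F387337 (iv1 F222770) (iv5 F357938) D193060 (iv6 D216086) (iv5 D180439) D180436 F387344 (iv6 D192647) D192645
def n216087 : Q := act 5 n180448
theorem D216087 : act 5 n180448 = n216087 := rfl
theorem F482869 : act 2 n216087 = n198192 := d2_1 D216087 F407175 (iv2 F365756)
theorem F482870 : act 3 n216087 = n180449 := d6_1 D216087 (iv5 D180449) D180448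
theorem F482871 : act 6 n216087 = n193259 := d12_2 F400800 D216087 (iv5 D193259) D193260 (iv5 F400799)
theorem F482872 : act 7 n216087 = n214287 := d13_2 (iv7 F280852) D216087 (iv5 D214287)
theorem F482873 : act 0 n216087 = n215243 := d17_2 F280853 D216087 (iv5 D215243) F268458 D176829 F377544 F443829 (iv0 D102783) (iv4 F158030)
theorem F482874 : act 1 n216087 = n193094 := d17_6 F414419 F408587 D215951 F482238 F474552 D216087 F388726 (iv0 F405676) (iv4 F414417)
def n216088 : Q := act 6 n180449
theorem D216088 : act 6 n180449 = n216088 := rfl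
theorem F482875 : act 2 n216088 = n214286 := d3_1 D216088 (iv6 D214286) (iv2 F280854)
theorem F482876 : act 3 n216088 = n193259 := d7_1 D216088 (iv6 F482871) F482870
theorem F482877 : act 4 n216088 = n193081 := d10_1 D216088 (iv6 D193081) F362339
theorem F482878 : act 5 n216088 = n193258 := d12_1 D216088 (iv6 F389351) (iv5 F358644) F342031 D180449
theorem F482879 : act 0 n199182 = n216088 := d17_0 F482878 (iv1 F389350) (iv5 D192720) F154631 (iv5 F137236) (iv0 F354735) (iv5 F410566) (iv0 F471960) F471959
def n216089 : Q := act 3 n180480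
theorem D216089 : act 3 n180480 = n216089 := rfl
theorem F482880 : act 5 n216089 = n188464 := d6_2 F402344 D216089 (iv3 F402342)
theorem F482881 : act 6 n216089 = n214664 := d7_2 F402124 D216089 F476286
theorem F482882 : act 7 n216089 = n197801 := d8_2 (iv7 F363334) D216089 F405836
theorem F482883 : act 4 n216089 = n203810 := d20_6 F58391 (iv1 F56024) (iv4 F60706) D86192 D180480 D216089 (iv1 D203810) F192512 (iv3 D75206) (iv1 F58390)
theorem F482884 : act 2 n203820 = n216089 := d1_3 F482883 F429917 D203820
theorem F482885 : act 0 n198255 = n216089 := d18_0 F482883 (iv1 D203810) F192512 D157867 F333847 (iv0 D87380) D87382 D183046 F407366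
theorem F482886 : act 1 n180485 = n216089 := d18_6 (iv1 D63632) (iv4 F98973) (iv1 F339516) D186801 F368050 (iv4 F280909) F482883 F429913 F339527
def n216090 : Q := act 4 n180480
theorem D216090 : act 4 n180480 = n216090 := rfl
theorem F482887 : act 2 n216090 = n204066 := d1_1 D216090 F430959 F363335
theorem F482888 : act 7 n216090 = n197803 := d11_2 (iv7 F363334) D216090 F405840
theorem F482889 : act 1 n216090 = n204722 := d18_6 F363664 (iv4 F350587) (iv1 F205635) (iv4 F402343) F402344 D216090 F479050 F479049 F412312
theorem F482890 : act 0 n216090 = n196857 := d20_1 D216090 (iv4 F479036) (iv3 D215248) (iv1 D170858) (iv3 D81910) F58391 (iv1 F56024) (iv4 F60706) D86192 D180480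
def n216091 : Q := act 3 n180481
theorem D216091 : act 3 n180481 = n216091 := rfl
theorem F482891 : act 2 n216091 = n215662 := d0_1 D216091 F481011 F438855 F405836 (iv2 F363331)
theorem F482892 : act 4 n216091 = n200005 := d5_2 F475975 D216091 (iv3 F475981) (iv4 D214597) D214596
theorem F482893 : act 5 n216091 = n201346 := d6_2 F363330 D216091 F420091
theorem F482894 : act 6 n216091 = n197794 := d7_2 (iv6 F363332) D216091 F405816
theorem F482895 : act 7 n216091 = n215663 := d8_2 F363333 D216091 F481016
theorem F482896 : act 0 n216091 = n194856 := d20_10 F394764 F361132 (iv4 F268458) (iv3 F430667) (iv1 F430671) D215248 F479036 F475976 F475975 D216091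
theorem F482897 : act 0 n214356 = n216091 := d20_4 F405660 F417521 F417519 (iv3 F474732) (iv3 D216091) (iv4 F475975) F475983 F479050 (iv3 F479051) F460206
def n216092 : Q := act 5 n180491
theorem D216092 : act 5 n180491 = n216092 := rfl
theorem F482898 : act 2 n216092 = n198271 := d2_1 D216092 (iv5 D198271) (iv2 F366135)
theorem F482899 : act 3 n216092 = n197768 := d6_1 D216092 (iv5 D197768) (iv3 F366133)
theorem F482900 : act 4 n216092 = n212597 := d9_1 D216092 (iv5 D212597) F352145 (iv5 F464979) F464980 F464863 F387319 (iv5 F371686) F371685 F179199 (iv4 F397721) F397722 (iv4 F464871) F464870 F417684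
theorem F482901 : act 7 n216092 = n198241 := d13_2 F366134 D216092 (iv5 D198241)
theorem F482902 : act 0 n216092 = n198300 := d17_2 D180491 D216092 F414849 (iv4 D200061) (iv5 F403576) (iv0 D197215) (iv5 D108019) F321445 (iv4 F132156)
theorem F482903 : act 1 n216092 = n197635 := d17_6 D174141 F355095 (iv1 F464875) F464870 F417684 D216092 (iv5 F413914) (iv0 F413918) F272939
theorem F482904 : act 6 n216013 = n216092 := d14_5 F482901 F407323 F370665 D187848 (iv7 F482535)
def n216093 : Q := act 1 n180493
theorem D216093 : act 1 n180493 = n216093 := rfl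
theorem F482905 : act 1 n216093 = n198273 := d15_1 D216093 F407430 F387651
theorem F482906 : act 7 n216093 = n198275 := d15_2 F459504 D216093 (iv2 F459499)
theorem F482907 : act 5 n216093 = n204716 := d17_7 (iv1 F175128) (iv5 F175131) F319462 (iv5 D86226) (iv4 F132156) D180493 D216093 F433376 (iv4 D198914)
theorem F482908 : act 4 n216093 = n188047 := d17_9 (iv1 D188047) F318925 D147961 D212597 (iv4 F482900) (iv5 D216092) (iv0 D180491) D180493 D216093
theorem F482909 : act 2 n198251 = n216093 := d1_3 F482908 F387770 (iv4 F407353)
theorem F482910 : act 6 n211030 = n216093 := d10_0 F482908 (iv6 F448139) (iv4 F459801)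
def n216094 : Q := act 1 n180499
theorem D216094 : act 1 n180499 = n216094 := rfl
theorem F482911 : act 1 n216094 = n198295 := d15_1 D216094 (iv7 D198295) F351124
theorem F482912 : act 7 n216094 = n198262 := d15_2 (iv0 F362679) D216094 F407376
theorem F482913 : act 5 n216094 = n188149 := d17_7 (iv1 F373418) F351293 (iv1 F393348) F393346 F345203 D180499 D216094 F372488 (iv4 F373414)
theorem F482914 : act 3 n188149 = n216094 := d20_3 (iv4 F400307) (iv1 F449863) F449865 (iv1 D216094) F362675 (iv4 D90631) (iv1 F65551) D42446 D90670 (iv1 F405412)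
theorem F482915 : act 6 n197641 = n216094 := d21_3 (iv5 F304627) (iv1 F197359) (iv5 F405151) (iv1 D216094) F280925 (iv5 D86202) (iv1 F324492) D50382 D109158 F337476
theorem F482916 : act 2 n216094 = n195986 := d3_1 F482915 F398967 F405153
theorem F482917 : act 4 n216094 = n203714 := d10_1 F482915 (iv6 D203714) (iv4 F405152)
def n216095 : Q := act 4 n180499
theorem D216095 : act 4 n180499 = n216095 := rfl
theorem F482918 : act 2 n216095 = n198294 := d1_1 D216095 F407511 F351124
theorem F482919 : act 3 n216095 = n187873 := d5_1 D216095 (iv4 D187873) (iv3 D90630) D90631 (iv3 F362675)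
theorem F482920 : act 6 n216095 = n180509 := d10_2 (iv6 F280925) D216095 (iv4 D180509)
theorem F482921 : act 7 n216095 = n203763 := d11_2 F387628 D216095 F429729
theorem F482922 : act 0 n216095 = n202672 := d17_0 F425021 (iv1 F433026) F433028 F405395 F342490 (iv0 F362682) (iv5 F362680) (iv0 F362679) D216095
theorem F482923 : act 1 n216095 = n203709 := d18_6 (iv1 D106930) (iv4 F164796) F345201 F345203 D180499 D216095 F429490 (iv0 F400515) (iv5 D196377)
def n216096 : Q := act 6 n180526
theorem D216096 : act 6 n180526 = n216096 := rfl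
theorem F482924 : act 2 n216096 = n210519 := d3_1 D216096 (iv6 F457897) F281453
theorem F482925 : act 3 n216096 = n199567 := d7_1 D216096 (iv6 D199567) (iv3 F365752)
theorem F482926 : act 4 n216096 = n210494 := d10_1 D216096 F457776 F380036
theorem F482927 : act 5 n216096 = n192948 := d12_1 D216096 (iv6 F406574) F406571 F328390 D180526
theorem F482928 : act 7 n216096 = n210509 := d14_2 F281439 D216096 F457854 F387528 (iv6 F372504)
theorem F482929 : act 0 n216096 = n210521 := d21_10 F457903 (iv1 F400417) (iv5 F388738) (iv6 D101181) (iv1 F74363) D100579 F354674 (iv1 F268479) D180526 D216096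
theorem F482930 : act 1 n216096 = n210511 := d15_1 (iv0 F482929) F457861 (iv2 F457901)
def n216097 : Q := act 2 n180590
theorem D216097 : act 2 n180590 = n216097 := rfl
theorem F482931 : act 3 n216097 = n203822 := d0_2 D180590 D216097 (iv2 D203822) (iv3 D120984) (iv2 F256566)
theorem F482932 : act 4 n216097 = n205515 := d1_2 (iv4 F281097) D216097 F436787
theorem F482933 : act 5 n216097 = n207990 := d2_2 F438792 D216097 F447303
theorem F482934 : act 6 n216097 = n180626 := d3_2 F364607 D216097 F430130
theorem F482935 : act 7 n216097 = n203826 := d4_2 (iv7 F281098) D216097 (iv2 D203826)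
theorem F482936 : act 1 n216097 = n190661 := d15_0 (iv0 F380486) (iv7 F281098) D216097
theorem F482937 : act 1 n190664 = n216097 := d15_0 F482936 (iv7 F416729) F416726
def n216098 : Q := act 5 n180622
theorem D216098 : act 5 n180622 = n216098 := rfl
theorem F482938 : act 2 n216098 = n180627 := d2_1 D216098 (iv5 D180627) (iv2 F281153)
theorem F482939 : act 3 n216098 = n192120 := d6_1 D216098 F385650 F357779
theorem F482940 : act 6 n216098 = n198872 := d12_2 D180622 D216098 (iv5 D198872) F344641 (iv5 D180621)
theorem F482941 : act 7 n216098 = n193503 := d13_2 F481371 D216098 (iv5 F481372)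
theorem F482942 : act 0 n216098 = n194318 := d17_2 (iv1 F389964) D216098 (iv5 F480829) F480828 (iv5 D177016) D177014 (iv5 F365980) (iv0 F430127) (iv4 D203857)
theorem F482943 : act 1 n216098 = n189178 := d17_8 (iv1 F392526) (iv5 F402085) F410910 F410908 (iv4 F471387) F471386 (iv0 F466440) D216098 F375970
theorem F482944 : act 4 n216098 = n192122 := d18_5 (iv1 D78397) (iv4 F119595) D163018 F357782 D216098 (iv0 F385686) F361898 D162960 F341867
def n216099 : Q := act 4 n180632
theorem D216099 : act 4 n180632 = n216099 := rfl
theorem F482945 : act 2 n216099 = n211810 := d1_1 D216099 (iv4 F474882) F474877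
theorem F482946 : act 3 n216099 = n188515 := d5_1 D216099 (iv4 F373791) (iv3 F474573) (iv4 D214322) (iv3 F365725)
theorem F482947 : act 6 n216099 = n191195 := d10_2 F380933 D216099 (iv4 F382553)
theorem F482948 : act 7 n216099 = n211800 := d11_2 F413847 D216099 F463120
theorem F482949 : act 0 n216099 = n211808 := d18_2 F373700 D216099 F463152 (iv5 F254079) (iv4 F120002) (iv0 F327243) F327246 F258623 D188495
theorem F482950 : act 1 n216099 = n211807 := d18_6 D75816 D158895 (iv1 F326798) F326800 D180632 D216099 F463147 (iv0 D158903) (iv5 D75819)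
def n216100 : Q := act 1 n180636
theorem D216100 : act 1 n180636 = n216100 := rfl
theorem F482951 : act 1 n216100 = n207161 := d15_1 D216100 F443579 F379229
theorem F482952 : act 5 n216100 = n214991 := d17_7 (iv1 F435614) F392225 (iv1 F392339) F392337 F262188 D180636 D216100 F477776 F455394
theorem F482953 : act 4 n216100 = n181897 := d17_9 (iv1 F365035) (iv5 D96962) (iv1 F205500) D45495 D97425 F294702 (iv0 F254195) D180636 D216100
theorem F482954 : act 6 n200258 = n216100 := d21_3 F95020 D112895 D200258 (iv1 D216100) (iv6 F438995) (iv5 F477815) F477817 (iv5 F441198) (iv6 D206396) (iv1 D128558)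
theorem F482955 : act 2 n216100 = n181900 := d3_1 F482954 (iv6 F415703) (iv2 F415724)
def n216101 : Q := act 5 n180637
theorem D216101 : act 5 n180637 = n216101 := rfl
theorem F482956 : act 3 n216101 = n180644 := d6_1 D216101 (iv5 D180644) (iv3 F281169)
theorem F482957 : act 6 n216101 = n214999 := d12_2 D180637 D216101 F477815 F438995 (iv5 D180636)
theorem F482958 : act 7 n216101 = n215743 := d13_2 (iv7 F479742) D216101 F481360
theorem F482959 : act 0 n216101 = n189842 := d17_2 F479394 D216101 F377951 (iv4 F394542) F394543 (iv0 F377858) (iv5 F358226) F436887 (iv4 F479391)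
theorem F482960 : act 1 n216101 = n199846 := d17_8 F402620 F402621 (iv1 D181140) D181142 F358240 (iv5 F358246) (iv0 F358247) D216101 F413787
def n216102 : Q := act 4 n180638
theorem D216102 : act 4 n180638 = n216102 := rfl
theorem F482961 : act 2 n216102 = n191149 := d1_1 D216102 F414688 F414692
theorem F482962 : act 6 n216102 = n187405 := d10_2 (iv6 F481135) D216102 (iv4 F481133)
theorem F482963 : act 7 n216102 = n214194 := d11_2 F474887 D216102 (iv4 F474884)
theorem F482964 : act 5 n216102 = n190996 := d16_1 D216102 (iv4 F434870) F434867 F281179 (iv5 F280842) (iv4 F327411) F327412 (iv7 F414687) F414692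
theorem F482965 : act 0 n216102 = n214196 := d18_2 D180638 D216102 F473948 (iv5 D158896) D158895 F250188 (iv4 F132250) (iv0 D86284) D86287
theorem F482966 : act 1 n216102 = n214192 := d18_6 (iv1 F141770) (iv4 F193227) F257783 D157971 (iv5 F281170) D216102 F473929 F258628 (iv5 D164094)
theorem F482967 : act 3 n216102 = n211715 := d20_3 (iv4 D180640) D180638 D216102 F462814 F379541 F364062 (iv1 D94141) D94142 F294559 (iv1 F281175)
def n216103 : Q := act 4 n180639
theorem D216103 : act 4 n180639 = n216103 := rfl
theorem F482968 : act 2 n216103 = n214194 := d1_1 D216103 (iv4 F474884) (iv2 F474885)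
theorem F482969 : act 7 n216103 = n191149 := d11_2 F414687 D216103 F414688
theorem F482970 : act 0 n216103 = n214192 := d17_0 F473931 (iv1 F463160) (iv5 D211809) (iv4 F365096) (iv5 D180630) (iv0 D86284) D86287 D180639 D216103
theorem F482971 : act 1 n216103 = n214196 := d18_6 D92174 (iv4 F248858) (iv1 F280844) (iv4 F327411) F327412 D216103 F473948 F254240 (iv5 D92177)
theorem F482972 : act 6 n216103 = n199823 := d21_5 (iv5 D191083) F350629 D215978 (iv6 F482387) (iv1 F482971) (iv5 D199823) (iv1 D111784) D111785 (iv6 F363591) F382157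
theorem F482973 : act 3 n215718 = n216103 := d8_3 F482969 F382410 D215718
def n216104 : Q := act 6 n180639
theorem D216104 : act 6 n180639 = n216104 := rfl
theorem F482974 : act 3 n216104 = n198964 := d7_1 D216104 F410088 F327414
theorem F482975 : act 4 n216104 = n199823 := d10_1 D216104 (iv6 F482972) (iv4 D216103)
def n216105 : Q := act 2 n180647
theorem D216105 : act 2 n180647 = n216105 := rfl
theorem F482976 : act 3 n216105 = n204695 := d0_2 D180647 D216105 F433277 (iv3 D164010) F254471
theorem F482977 : act 4 n216105 = n198432 := d1_2 (iv4 F281182) D216105 F407994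
theorem F482978 : act 6 n216105 = n198431 := d3_2 F414141 D216105 (iv2 F414139)
theorem F482979 : act 7 n216105 = n214943 := d4_2 (iv7 F281183) D216105 (iv2 D214943)
theorem F482980 : act 1 n216105 = n204699 := d15_0 (iv0 F433290) (iv7 F281183) D216105
theorem F482981 : act 1 n214718 = n216105 := d15_0 F482980 (iv7 F476102) (iv2 F476522)
def n216106 : Q := act 5 n180647
theorem D216106 : act 5 n180647 = n216106 := rfl
theorem F482982 : act 3 n216106 = n180648 := d6_1 D216106 (iv5 D180648) D180647
theorem F482983 : act 7 n216106 = n214944 := d13_2 (iv7 F281183) D216106 (iv5 D214944)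
theorem F482984 : act 4 n216106 = n198569 := d16_4 (iv4 F477235) (iv5 D214876) (iv4 F281182) D216106 (iv5 F408773) F408772 (iv5 F406263) (iv7 F413069) (iv2 F433424)
theorem F482985 : act 0 n216106 = n214723 := d17_2 F476414 D216106 F476545 F476129 (iv5 F476427) F476535 (iv5 D214721) F254005 D214691
theorem F482986 : act 6 n198567 = n216106 := d10_0 F482984 (iv6 D198569) D198567
def n216107 : Q := act 6 n180648
theorem D216107 : act 6 n180648 = n216107 := rfl
theorem F482987 : act 2 n216107 = n214949 := d3_1 D216107 (iv6 D214949) (iv2 F281184)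
theorem F482988 : act 3 n216107 = n198567 := d7_1 D216107 F482986 F482982
theorem F482989 : act 4 n216107 = n198555 := d10_1 D216107 F476223 F476219
def n216108 : Q := act 1 n180671
theorem D216108 : act 1 n180671 = n216108 := rfl
theorem F482990 : act 1 n216108 = n190789 := d15_1 D216108 (iv7 F383182) F383180
theorem F482991 : act 7 n216108 = n194969 := d15_2 (iv0 F436051) D216108 (iv2 F436047)
theorem F482992 : act 4 n216108 = n194970 := d18_7 (iv1 F444616) F443523 (iv1 D133393) (iv4 F210038) F332878 (iv4 F281207) D216108 F395239 (iv5 F444614)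
theorem F482993 : act 3 n189812 = n216108 := d20_3 (iv4 F455418) F474436 F474435 (iv1 D216108) (iv3 D180671) (iv4 D86303) D86300 F201653 (iv3 F415224) (iv1 F435941)
theorem F482994 : act 6 n196999 = n216108 := d21_3 (iv5 D112689) (iv1 F166487) D196999 (iv1 D216108) (iv6 F435319) F435318 (iv1 D125733) D125734 F202230 (iv1 F175372)
theorem F482995 : act 2 n216108 = n212181 := d3_1 F482994 (iv6 D212181) (iv2 F402622)
theorem F482996 : act 5 n216108 = n200855 := d12_1 F482994 (iv6 D200855) (iv5 F203116) F203114 D196999
def n216109 : Q := act 5 n180671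
theorem D216109 : act 5 n180671 = n216109 := rfl
theorem F482997 : act 3 n216109 = n180672 := d6_1 D216109 (iv5 D180672) D180671
theorem F482998 : act 6 n216109 = n195712 := d12_2 F435319 D216109 F435872 (iv6 D205305) (iv5 F435318)
def n216110 : Q := act 5 n180688
theorem D216110 : act 5 n180688 = n216110 := rfl
theorem F482999 : act 3 n216110 = n180689 := d6_1 D216110 (iv5 D180689) D180688
theorem F483000 : act 6 n216110 = n193727 := d12_2 F406598 D216110 (iv5 D193727) D193728 (iv5 F411368)
theorem F483001 : act 7 n216110 = n214948 := d13_2 (iv7 F281218) D216110 (iv5 D214948)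
theorem F483002 : act 0 n216110 = n199680 := d17_2 F281219 D216110 (iv5 D199680) F173136 D198195 (iv0 F407187) F363803 (iv0 D180390) (iv4 F198717)
theorem F483003 : act 0 n203679 = n216110 := d21_1 D203679 (iv5 D216110) (iv6 F406598) (iv1 D198052) (iv6 F172591) (iv5 F173197) (iv1 F412292) F412290 D199463 (iv1 F412300)
def n216111 : Q := act 6 n180689
theorem D216111 : act 6 n180689 = n216111 := rfl
theorem F483004 : act 2 n216111 = n214945 := d3_1 D216111 (iv6 D214945) (iv2 F281220)
theorem F483005 : act 3 n216111 = n193727 := d7_1 D216111 (iv6 F483000) F482999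
theorem F483006 : act 4 n216111 = n211976 := d10_1 D216111 F476229 F476227
theorem F483007 : act 5 n216111 = n193726 := d12_1 D216111 F471895 F471892 (iv6 D180690) D180689
theorem F483008 : act 0 n190876 = n216111 := d19_0 F483007 (iv4 F471897) F471896 F390796 F341650 D207996 F447342 (iv1 F337071) F337069 (iv4 F368981) (iv3 F421259) (iv1 F421264) (iv5 F357339) F137664 F70255 (iv1 F34028) D45346 D97004 D190876
def n216112 : Q := act 5 n180805
theorem D216112 : act 5 n180805 = n216112 := rfl
theorem F483009 : act 2 n216112 = n198187 := d2_1 D216112 (iv5 D198187) (iv2 F365753)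
theorem F483010 : act 3 n216112 = n180806 := d6_1 D216112 (iv5 D180806) D180805
theorem F483011 : act 7 n216112 = n198176 := d13_2 (iv7 F281450) D216112 F407113
theorem F483012 : act 0 n216112 = n215261 := d17_2 F327003 D216112 F479097 F392191 (iv5 F276269) F289211 (iv5 F341814) F361133 (iv4 F327004)
theorem F483013 : act 6 n216112 = n196307 := d21_9 (iv5 D208554) (iv1 F216755) D196304 F400287 (iv1 F388717) D193094 F388726 F327003 D216112 (iv1 F449871)
theorem F483014 : act 1 n216112 = n203980 := d15_1 (iv0 F483012) F430691 D215261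
def n216113 : Q := act 6 n180805
theorem D216113 : act 6 n180805 = n216113 := rfl
theorem F483015 : act 2 n216113 = n198188 := d3_1 D216113 (iv6 D198188) (iv2 F365753)
theorem F483016 : act 3 n216113 = n180807 := d7_1 D216113 (iv6 D180807) D180805
theorem F483017 : act 4 n216113 = n189864 := d10_1 D216113 (iv6 F414672) F414671
theorem F483018 : act 7 n216113 = n215235 := d14_2 (iv7 F281450) D216113 (iv6 F478994) F412982 F365579
theorem F483019 : act 0 n194824 = n216113 := d21_4 F336713 D140469 F406099 F394621 (iv6 D216113) D216112 F483012 F479097 F406098 (iv1 D197880)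
theorem F483020 : act 1 n194822 = n216113 := d15_0 (iv0 F483019) F394620 (iv2 F394612)
def n216114 : Q := act 1 n181152
theorem D216114 : act 1 n181152 = n216114 := rfl
theorem F483021 : act 1 n216114 = n204314 := d15_1 D216114 (iv7 F474080) F474077
theorem F483022 : act 7 n216114 = n204593 := d15_2 (iv0 F480537) D216114 (iv2 F480536)
theorem F483023 : act 5 n216114 = n204085 := d17_7 F424189 (iv5 D202479) F318275 F307601 (iv4 F132706) D181152 D216114 (iv0 F431026) F429696
theorem F483024 : act 3 n192556 = n216114 := d20_3 (iv4 F382965) F382966 D192556 (iv1 D216114) F282163 (iv4 F277516) (iv1 D177963) (iv4 D84716) D84715 (iv1 F364093)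
theorem F483025 : act 2 n216114 = n204592 := d0_1 F483024 F432969 (iv2 F382954) D215568 (iv2 F480550)
def n216115 : Q := act 4 n181152
theorem D216115 : act 4 n181152 = n216115 := rfl
theorem F483026 : act 2 n216115 = n210767 := d1_1 D216115 F474083 F474077
theorem F483027 : act 6 n216115 = n201989 := d10_2 F286586 D216115 F422632
theorem F483028 : act 7 n216115 = n204594 := d11_2 F304481 D216115 (iv4 D204594)
theorem F483029 : act 5 n216115 = n210887 := d16_1 D216115 F469293 (iv5 D213164) F239943 (iv5 F209428) (iv4 F348254) D204314 (iv7 F474080) F474077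
def n216116 : Q := act 4 n181198
theorem D216116 : act 4 n181198 = n216116 := rfl
theorem F483030 : act 2 n216116 = n211952 := d1_1 D216116 F463717 F425465
theorem F483031 : act 3 n216116 = n211948 := d5_1 D216116 (iv4 F463693) (iv3 D210376) F312855 D181198
theorem F483032 : act 5 n216116 = n193615 := d9_2 F447671 D216116 (iv4 D193615) (iv5 F369040) (iv4 F473727) F473728 F425464 (iv5 D202762) (iv4 F425459) F453221 F453219 F391450 F380541 (iv5 F263489) (iv4 F447670)
theorem F483033 : act 7 n216116 = n211950 := d11_2 F425455 D216116 F463707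
theorem F483034 : act 0 n216116 = n203222 := d18_2 F348293 D216116 F427461 F210371 F350915 (iv0 D119130) F86759 D81439 D169822
theorem F483035 : act 1 n216116 = n205025 := d18_6 F333704 (iv4 F392687) F392686 (iv4 F447670) F447671 D216116 F434670 F312681 D144465
def n216117 : Q := act 6 n181681
theorem D216117 : act 6 n181681 = n216117 := rfl
theorem F483036 : act 2 n216117 = n205552 := d3_1 D216117 (iv6 F442105) F442100
theorem F483037 : act 3 n216117 = n196061 := d7_1 D216117 (iv6 F447874) F447873
theorem F483038 : act 4 n216117 = n207797 := d10_1 D216117 (iv6 F446488) F442090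
theorem F483039 : act 5 n216117 = n195785 := d12_1 D216117 (iv6 D195785) (iv5 F170985) (iv6 F325563) D181681
theorem F483040 : act 7 n216117 = n207561 := d14_2 F380160 D216117 (iv6 F471102) F471104 F421473
theorem F483041 : act 0 n216117 = n195856 := d21_4 (iv5 D124602) (iv1 F297514) D181681 D216117 F441396 (iv5 D206575) F441268 F441267 F418085 (iv1 F354303)
def n216118 : Q := act 6 n181694
theorem D216118 : act 6 n181694 = n216118 := rfl
theorem F483042 : act 2 n216118 = n206522 := d3_1 D216118 (iv6 F441187) (iv2 F367212)
theorem F483043 : act 3 n216118 = n207099 := d7_1 D216118 F443315 (iv3 F405969)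
theorem F483044 : act 5 n216118 = n206566 := d12_1 D216118 F441363 F399845 (iv6 F367149) (iv5 F282818)
theorem F483045 : act 7 n216118 = n207105 := d14_2 (iv7 F367211) D216118 F443346 (iv7 F399473) F377809
theorem F483046 : act 0 n216118 = n214913 := d21_4 (iv5 F293082) F348787 (iv5 F282818) D216118 F477408 F441692 (iv1 F436811) (iv5 F455308) F455306 (iv1 D166563)
theorem F483047 : act 0 n209073 = n216118 := d21_4 F436896 F395831 (iv5 F395830) (iv6 F452124) (iv6 D216118) F282818 F358227 F358223 (iv6 F282143) (iv1 F436890)
def n216119 : Q := act 3 n181695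
theorem D216119 : act 3 n181695 = n216119 := rfl
theorem F483048 : act 7 n216119 = n206524 := d8_2 (iv7 F367213) D216119 F441191
theorem F483049 : act 0 n216119 = n214860 := d20_4 F373491 F474725 F474723 D216119 F477178 (iv4 D208534) F384526 F384525 (iv3 F392228) F392227
theorem F483050 : act 0 n209074 = n216119 := d20_4 (iv4 F95275) D129080 (iv4 F354466) D209074 (iv3 D216119) (iv4 F474723) F474724 F455394 F435612 (iv1 D128649)
def n216120 : Q := act 6 n181700
theorem D216120 : act 6 n181700 = n216120 := rfl
theorem F483051 : act 2 n216120 = n206508 := d3_1 D216120 F441136 (iv2 F282835)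
theorem F483052 : act 3 n216120 = n207106 := d7_1 D216120 F443354 F282831
theorem F483053 : act 4 n216120 = n214281 := d10_1 D216120 (iv6 D214281) F282832
theorem F483054 : act 5 n216120 = n206552 := d12_1 D216120 F441297 (iv5 F478417) (iv6 D215112) (iv5 F356069)
theorem F483055 : act 7 n216120 = n214914 := d14_2 (iv7 F282833) D216120 F477411 (iv7 F380469) F380471
theorem F483056 : act 0 n216120 = n209072 := d21_4 F358842 (iv1 F288013) (iv5 F356069) D216120 F452120 (iv5 F417818) (iv1 F431588) (iv5 F431590) F364116 (iv1 F262130)
theorem F483057 : act 0 n214915 = n216120 := d21_4 (iv5 F302531) F302530 F347427 (iv6 F477414) (iv6 D216120) F356069 (iv1 D166611) F326387 F325522 D166619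
def n216121 : Q := act 6 n181701
theorem D216121 : act 6 n181701 = n216121 := rfl
theorem F483058 : act 2 n216121 = n181703 := d3_1 D216121 (iv6 D181703) D181701
theorem F483059 : act 3 n216121 = n199837 := d7_1 D216121 F413747 (iv3 F282838)
theorem F483060 : act 4 n216121 = n205220 := d10_1 D216121 (iv6 F474323) F474322
theorem F483061 : act 7 n216121 = n210028 := d14_2 (iv7 F282839) D216121 F455822 F416864 F282285
theorem F483062 : act 0 n216121 = n205196 := d21_4 (iv5 F476728) (iv1 F476730) F382451 D216121 (iv6 F435382) (iv5 D126051) (iv1 F325209) D79965 (iv6 F325522) D166575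
theorem F483063 : act 5 n216121 = n205347 := d21_6 (iv5 D196090) (iv1 F330445) (iv5 F441134) F441136 (iv1 F282840) D216121 F436015 (iv5 D199729) D199730 F413285
theorem F483064 : act 0 n215738 = n216121 := d21_4 F477424 F395410 (iv5 F276876) D215738 (iv6 D216121) (iv5 F382451) (iv1 F476733) (iv5 F476736) D215106 F478381
def n216122 : Q := act 6 n181757
theorem D216122 : act 6 n181757 = n216122 := rfl
theorem F483065 : act 2 n216122 = n210476 := d3_1 D216122 (iv6 D210476) (iv2 F352844)
theorem F483066 : act 3 n216122 = n188139 := d7_1 D216122 F372448 F352831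
theorem F483067 : act 4 n216122 = n212997 := d10_1 D216122 F468516 (iv4 F342025)
theorem F483068 : act 5 n216122 = n194037 := d12_1 D216122 (iv6 F455541) (iv5 D209961) F352809 D181757
theorem F483069 : act 7 n216122 = n193100 := d14_2 (iv7 F352843) D216122 F388750 F457702 (iv6 D210477)
theorem F483070 : act 0 n216122 = n209559 := d21_4 F454229 F310067 D181757 D216122 (iv6 D209559) F309082 (iv1 F342628) F351897 F351896 (iv1 F454233)
theorem F483071 : act 0 n192049 = n216122 := d21_4 (iv5 D87822) F177418 (iv5 F153303) D192049 (iv6 D216122) (iv5 D181757) (iv1 F341558) D192086 F385484 (iv1 F154735)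
def n216123 : Q := act 6 n181760
theorem D216123 : act 6 n181760 = n216123 := rfl
theorem F483072 : act 2 n216123 = n210466 := d3_1 D216123 (iv6 D210466) (iv2 F359398)
theorem F483073 : act 5 n216123 = n186810 := d12_1 D216123 F368086 (iv5 D142992) (iv6 F321645) D181760
theorem F483074 : act 0 n216123 = n209588 := d21_4 F222292 F312280 D181760 D216123 (iv6 F455875) (iv5 D210039) F391833 (iv5 F483068) (iv6 D216122) (iv1 F359447)
theorem F483075 : act 0 n209587 = n216123 := d17_2 (iv1 F384140) (iv5 F454245) F483073 (iv4 D186810) F136890 (iv0 F294401) F294402 F152079 D183526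
def n216124 : Q := act 4 n181879
theorem D216124 : act 4 n181879 = n216124 := rfl
theorem F483076 : act 2 n216124 = n187425 := d1_1 D216124 F370278 (iv2 F370112)
theorem F483077 : act 3 n216124 = n190550 := d5_1 D216124 (iv4 F380108) (iv3 D182852) D182853 F284402
theorem F483078 : act 5 n216124 = n208769 := d9_2 (iv5 F365942) D216124 F450784 (iv5 F437481) F437900 F415796 F415794 (iv5 F367090) (iv4 F283981) (iv5 F412708) F412711 (iv5 F437482) (iv4 F437483) (iv5 F359564) (iv4 F363173)
theorem F483079 : act 6 n216124 = n192868 := d10_2 F394957 D216124 (iv4 F394955)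
theorem F483080 : act 7 n216124 = n190641 := d11_2 F370111 D216124 (iv4 D190641)
theorem F483081 : act 0 n216124 = n194999 := d17_0 F442766 F442765 F365760 (iv4 F294769) D191216 (iv0 F382616) F379984 F283164 D216124
theorem F483082 : act 1 n216124 = n190710 := d18_6 (iv1 F378526) F364263 F175871 (iv4 F363173) (iv5 F365942) D216124 F380739 (iv0 F293514) (iv5 F378523)
def n216125 : Q := act 3 n181899
theorem D216125 : act 3 n181899 = n216125 := rfl
theorem F483083 : act 5 n216125 = n187392 := d6_2 F365108 D216125 (iv3 D187392)
theorem F483084 : act 7 n216125 = n190818 := d8_2 (iv7 F365111) D216125 F381234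
theorem F483085 : act 0 n216125 = n200332 := d19_4 F360322 D176855 (iv4 F365110) D216125 F416021 (iv4 D182848) F140139 (iv1 F370226) (iv5 F370225) F364461 F367061 (iv1 F359558) (iv5 F359554) F179355 F83909 (iv1 F48412) (iv5 F81750) D51787 D112270
theorem F483086 : act 0 n215702 = n216125 := d20_4 F364263 F175871 (iv4 F363173) (iv3 F481171) (iv3 D216125) F365110 F377513 F377510 (iv3 F378522) (iv1 F378526)
def n216126 : Q := act 6 n181899
theorem D216126 : act 6 n181899 = n216126 := rfl
theorem F483087 : act 2 n216126 = n191222 := d3_1 D216126 (iv6 D191222) (iv2 F365109)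
theorem F483088 : act 4 n216126 = n210447 := d10_1 D216126 F457576 (iv4 F365110)
theorem F483089 : act 0 n216126 = n200261 := d21_10 (iv5 D200261) (iv1 D112896) (iv5 F95020) (iv6 D60465) D60463 (iv6 F331312) (iv5 D97421) F295127 F365108 D216126
theorem F483090 : act 0 n200258 = n216126 := d21_4 D209928 (iv1 F477776) (iv5 F482952) (iv6 F482954) (iv6 D216126) (iv5 F365108) (iv1 D90002) D90004 F370162 F370160
def n216127 : Q := act 4 n181923
theorem D216127 : act 4 n181923 = n216127 := rfl
theorem F483091 : act 2 n216127 = n191244 := d1_1 D216127 (iv4 D191244) F295363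
theorem F483092 : act 6 n216127 = n189331 := d10_2 F377240 D216127 (iv4 F377241)
theorem F483093 : act 7 n216127 = n190914 := d11_2 F295362 D216127 (iv4 D190914)
theorem F483094 : act 0 n216127 = n189561 := d17_0 (iv5 D189561) F376536 (iv5 F382756) (iv4 D191250) F294696 F138236 D187377 (iv0 F370075) D216127
theorem F483095 : act 3 n216127 = n189259 := d19_3 D86892 D181923 D216127 (iv1 D189259) (iv5 F144787) (iv4 F292613) (iv3 D92345) F67639 (iv5 D38878) F32316 F32312 (iv1 F28572) F28280 F13823 F5953 (iv1 F7025) D8930 D19056 D40313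
theorem F483096 : act 6 n189259 = n207538 := d7_2 (iv6 F483092) F483095 F445345
def n216128 : Q := act 4 n181927
theorem D216128 : act 4 n181927 = n216128 := rfl
theorem F483097 : act 2 n216128 = n181930 := d1_1 D216128 (iv4 D181930) (iv2 F283225)
theorem F483098 : act 3 n216128 = n209919 := d5_1 D216128 F455350 F220253 (iv4 F331311) F294700
theorem F483099 : act 6 n216128 = n206392 := d10_2 (iv6 F340524) D216128 (iv4 D206392)
theorem F483100 : act 7 n216128 = n189393 := d11_2 F294713 D216128 F376529
theorem F483101 : act 5 n216128 = n189369 := d16_1 D216128 F421434 (iv5 D201691) F364805 (iv5 D87580) F63048 D45520 (iv7 F294689) (iv2 F283225)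
theorem F483102 : act 0 n216128 = n189243 := d18_2 F294709 D216128 (iv4 F477749) F477750 F288674 F148558 F147026 F138234 (iv5 F356257)
theorem F483103 : act 1 n216128 = n189394 := d18_6 (iv1 F270483) F147423 F157627 (iv4 F295221) D181927 D216128 F379616 (iv0 F380918) (iv5 D190752)
def n216129 : Q := act 4 n181928
theorem D216129 : act 4 n181928 = n216129 := rfl
theorem F483104 : act 2 n216129 = n191250 := d1_1 D216129 (iv4 D191250) F356270
theorem F483105 : act 6 n216129 = n214983 := d10_2 F414773 D216129 F477753
theorem F483106 : act 7 n216129 = n191248 := d11_2 F356271 D216129 (iv4 D191248)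
theorem F483107 : act 5 n216129 = n189465 := d16_1 D216129 (iv4 F376632) F380123 (iv4 D190552) F147836 F294444 F294075 (iv7 F150254) F356270
theorem F483108 : act 3 n216129 = n189467 := d19_3 D89988 (iv5 F356262) D216129 (iv1 F377576) F376467 (iv4 D172108) F126984 (iv1 F63887) (iv5 D41441) (iv4 D19516) (iv3 F30310) F30312 (iv5 D17338) F12884 F6209 F17525 D9332 D19834 D42060
def n216130 : Q := act 0 n181930
theorem D216130 : act 0 n181930 = n216130 := rfl
theorem F483109 : act 5 n216130 = n189564 := d17_1 D216130 F376892 F376595 F376593 (iv5 D185599) F138230 (iv5 F356262) (iv0 D181928) D181930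
theorem F483110 : act 4 n216130 = n211861 := d18_3 F295180 D181930 D216130 F463301 F360352 (iv0 D95396) F70072 D89989 F294075
theorem F483111 : act 2 n189243 = n216130 := d15_3 (iv0 D216130) (iv0 F376513) (iv7 F376201)
theorem F483112 : act 1 n189393 = n216130 := d15_0 (iv0 D216130) (iv7 F294714) F376530
theorem F483113 : act 7 n216130 = n189394 := d15_2 D189393 F483112 (iv2 D189394)
theorem F483114 : act 3 n216130 = n189370 := d0_2 D189243 F483111 (iv2 D189370) (iv3 D93916) (iv2 F144594)
theorem F483115 : act 6 n216130 = n215637 := d3_2 (iv6 F477746) F483111 F480887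
def n216131 : Q := act 5 n181930
theorem D216131 : act 5 n181930 = n216131 := rfl
theorem F483116 : act 2 n216131 = n189369 := d2_1 D216131 (iv5 F483101) F483097
theorem F483117 : act 7 n216131 = n189368 := d13_2 F294714 D216131 F376482
theorem F483118 : act 1 n216131 = n189245 := d17_6 F370074 (iv5 D95559) F295217 D86895 D181930 D216131 (iv5 F376230) (iv0 F381946) F376533
theorem F483119 : act 1 n189370 = n216131 := d15_0 F483118 F376204 D189370
def n216132 : Q := act 6 n181930
theorem D216132 : act 6 n181930 = n216132 := rfl
theorem F483120 : act 2 n216132 = n206392 := d3_1 D216132 (iv6 F483099) F483097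
theorem F483121 : act 4 n216132 = n181931 := d10_1 D216132 (iv6 D181931) D181930
theorem F483122 : act 0 n209916 = n216132 := d21_4 (iv5 D201194) (iv1 F238157) D212922 (iv6 F468137) (iv6 D216132) D216131 (iv1 F483119) (iv5 F376596) F376607 (iv1 F419393)
theorem F483123 : act 5 n216132 = n209955 := d19_1 F483122 (iv4 D209955) (iv3 F438903) (iv1 F445222) (iv5 D207512) F211339 (iv3 D62165) (iv1 F47158) F320300 (iv4 D59689) D59688 (iv1 F102823) F318790 (iv4 F320376) (iv3 F343313) (iv1 F238152) (iv5 F364520) D194212 F455348
theorem F483124 : act 7 n216132 = n209910 := d16_8 (iv4 D137086) (iv5 D64441) F48772 D30359 D64480 D137170 D209955 (iv5 F483123) F455332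
theorem F483125 : act 1 n209917 = n216132 := d15_1 D209917 F483124 F455332
def n216133 : Q := act 4 n181939
theorem D216133 : act 4 n181939 = n216133 := rfl
theorem F483126 : act 2 n216133 = n192889 := d1_1 D216133 (iv4 D192889) (iv2 F283232)
theorem F483127 : act 6 n216133 = n181950 := d10_2 (iv6 F283234) D216133 (iv4 D181950)
theorem F483128 : act 0 n216133 = n204115 := d18_2 F385415 D216133 (iv4 D204115) (iv5 F361503) (iv4 D133627) (iv0 F232793) (iv4 F238339) (iv0 F361919) D192067
theorem F483129 : act 1 n216133 = n204113 := d18_6 D56985 D122680 (iv1 F332491) F304003 D181939 D216133 (iv4 D204113) (iv0 D122688) (iv5 D56987)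
def n216134 : Q := act 5 n181942
theorem D216134 : act 5 n181942 = n216134 := rfl
theorem F483130 : act 2 n216134 = n191469 := d2_1 D216134 (iv5 D191469) F364399
theorem F483131 : act 3 n216134 = n186608 := d6_1 D216134 (iv5 D186608) (iv3 F283241)
theorem F483132 : act 4 n216134 = n191728 := d9_1 D216134 (iv5 D191728) F152411 D98856 F363127 (iv5 D181946) D181945 (iv5 F469959) (iv4 D213331) (iv5 D153535) F109132 D72651 D153636 F363130 D181942
theorem F483133 : act 7 n216134 = n191471 := d13_2 F364398 D216134 (iv5 D191471)
theorem F483134 : act 0 n216134 = n192292 := d17_2 F335693 D216134 (iv5 D192292) F289867 (iv5 F470156) F470158 (iv5 D191469) (iv0 D98379) (iv4 F151809)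
def n216135 : Q := act 6 n181948
theorem D216135 : act 6 n181948 = n216135 := rfl
theorem F483135 : act 5 n216135 = n187612 := d12_1 D216135 (iv6 D187612) (iv5 D90393) D90394 F295167
def n216136 : Q := act 3 n181949
theorem D216136 : act 3 n181949 = n216136 := rfl
theorem F483136 : act 5 n216136 = n191270 := d6_2 F283244 D216136 F382840
theorem F483137 : act 4 n216136 = n191439 := d20_6 (iv4 F292675) F292673 F292346 (iv3 F288515) (iv1 F288517) D216136 (iv1 D191439) (iv4 D98351) F72594 (iv1 F291674)
theorem E104023 : n212075 = n190998 := ((c16_7 D212072 F464239 (iv4 F483137) F483136 F382841 (iv5 D190999) D190998 (iv5 D212075) F464218 (iv2 F464217))).symm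
theorem F483138 : act 5 n190998 = n145299 := (sb E104023 (iv5 D212075))
theorem F483139 : act 1 n215306 = n216136 := d17_6 (iv1 D185470) (iv5 F149765) F381171 (iv5 D190808) (iv4 F270416) D215306 F483136 (iv0 F391182) F391179
def n216137 : Q := act 6 n181949
theorem D216137 : act 6 n181949 = n216137 := rfl
theorem F483140 : act 5 n216137 = n191274 := d12_1 D216137 (iv6 D191274) (iv5 D97958) D97959 F283244
def n216138 : Q := act 0 n181950
theorem D216138 : act 0 n181950 = n216138 := rfl
theorem F483141 : act 5 n216138 = n208913 := d17_3 D153533 F363274 D216138 F451386 (iv5 F431628) F430818 (iv5 D153632) (iv0 D72649) (iv4 F109132)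
theorem F483142 : act 2 n192629 = n216138 := d2_3 F483141 F451384 F434309
theorem F483143 : act 3 n208914 = n216138 := d6_3 F483141 F451385 D208914
theorem F483144 : act 6 n192573 = n216138 := d12_0 F483141 (iv6 D208913) (iv5 F387096) F387095 D192573
def n216139 : Q := act 1 n181950
theorem D216139 : act 1 n181950 = n216139 := rfl
theorem F483145 : act 1 n216139 = n213328 := d15_1 D216139 F469944 F288513
theorem F483146 : act 7 n216139 = n192629 := d15_2 (iv0 D216138) D216139 F483142
theorem F483147 : act 3 n213332 = n216139 := d8_3 F483146 (iv3 F427403) (iv7 F469962)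
theorem F483148 : act 5 n191756 = n216139 := d13_3 F483146 (iv5 F434309) F434310
def n216140 : Q := act 7 n181950
theorem D216140 : act 7 n181950 = n216140 := rfl
theorem F483149 : act 2 n216140 = n213328 := d4_1 D216140 F469944 F288513
theorem F483150 : act 3 n216140 = n185284 := d8_1 D216140 (iv7 F468488) (iv3 F468490)
theorem F483151 : act 4 n216140 = n181951 := d11_1 D216140 (iv7 D181951) D181950
theorem F483152 : act 5 n216140 = n192574 := d13_1 D216140 (iv7 F387130) F363274
theorem F483153 : act 1 n213328 = n216138 := d15_0 (iv0 D216138) D216140 F483149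
theorem F483154 : act 0 n192629 = n216140 := d17_0 F483152 (iv1 F387128) D213325 F469935 (iv5 D191471) (iv0 F368604) (iv5 F470143) F470146 F427404
def n216141 : Q := act 3 n181962
theorem D216141 : act 3 n181962 = n216141 := rfl
theorem F483155 : act 5 n216141 = n211193 := d6_2 F393981 D216141 F460557
theorem F483156 : act 6 n216141 = n181971 := d7_2 (iv6 F283250) D216141 (iv3 D181971)
theorem F483157 : act 7 n216141 = n211192 := d8_2 F429604 D216141 F460554
theorem F483158 : act 1 n211654 = n216141 := d15_1 (iv0 F473513) F483157 F460553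
def n216142 : Q := act 5 n181966
theorem D216142 : act 5 n181966 = n216142 := rfl
theorem F483159 : act 2 n216142 = n181967 := d2_1 D216142 (iv5 D181967) D181966
theorem F483160 : act 3 n216142 = n182178 := d6_1 D216142 (iv5 D182178) (iv3 F283257)
theorem F483161 : act 7 n216142 = n182151 := d13_2 (iv7 F283259) D216142 (iv5 D182151)
theorem F483162 : act 0 n216142 = n182154 := d17_2 (iv1 F283260) D216142 (iv5 F287427) D185052 (iv5 F429883) F429885 F420676 (iv0 F283527) (iv4 D182143)
theorem F483163 : act 1 n216142 = n182153 := d17_6 F135139 D90814 (iv1 F239339) F239332 (iv4 F283258) D216142 F344234 (iv0 D88203) (iv4 F135138)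
def n216143 : Q := act 0 n181967
theorem D216143 : act 0 n181967 = n216143 := rfl
theorem F483164 : act 5 n216143 = n182409 := d17_3 (iv1 D181965) D181967 D216143 (iv4 F475638) F475637 (iv0 F376335) (iv5 D189283) (iv0 F373956) F373953
theorem F483165 : act 2 n182154 = n216143 := d15_3 (iv0 D216143) (iv0 F388821) F388820

end Cfsg.Agent.Helper17.ONTC
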