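import Cfsg.Agent.Helper17.ONTC.Facts56

set_option autoImplicit false
set_option linter.all false

noncomputable section

namespace Cfsg.Agent.Helper17.ONTC

theorem F483166 : act 1 n182151 = n216143 := d15_0 (iv0 D216143) F283264 (iv2 F283605)
theorem F483167 : act 7 n216143 = n182153 := d15_2 (iv0 F388822) F483166 (iv2 F388819)
def n216144 : Q := act 4 n181967
theorem D216144 : act 4 n181967 = n216144 := rfl
theorem F483168 : act 7 n216144 = n182155 := d11_2 (iv7 F283264) D216144 (iv4 D182155)
def n216145 : Q := act 3 n181970
theorem D216145 : act 3 n181970 = n216145 := rfl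
theorem F483169 : act 5 n216145 = n183906 := d6_2 (iv5 F283270) D216145 (iv3 D183906)
theorem F483170 : act 7 n216145 = n182213 := d8_2 (iv7 F283274) D216145 (iv3 D182213)
def n216146 : Q := act 0 n181971
theorem D216146 : act 0 n181971 = n216146 := rfl
theorem F483171 : act 4 n216146 = n208218 := d18_3 (iv1 F468487) F468492 D216146 (iv5 D208218) F215399 D133777 F332436 (iv0 F361482) D204403
theorem F483172 : act 1 n185281 = n216146 := d15_0 (iv0 D216146) F283279 (iv2 F287556)
theorem F483173 : act 2 n185283 = n216146 := d1_3 F483171 F448422 (iv4 F346094)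
theorem F483174 : act 7 n185282 = n216146 := d11_0 F483171 F448424 (iv4 F431095)
theorem F483175 : act 3 n216146 = n191459 := d19_3 F427137 D208218 (iv4 F483171) (iv1 F392068) (iv5 F392069) (iv4 D192815) F303653 (iv1 F198421) (iv5 F304030) (iv4 D84781) F301316 (iv1 D26834) F21290 D18857 D39851 D86086 (iv5 F333767) D207097 F443301
theorem F483176 : act 6 n192613 = n216146 := d7_0 F483175 F383517 (iv3 F387251)
def n216147 : Q := act 1 n181971
theorem D216147 : act 1 n181971 = n216147 := rfl
theorem F483177 : act 7 n216147 = n185283 := d15_2 (iv0 D216146) D216147 F483173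
theorem F483178 : act 4 n216147 = n204227 := d17_9 F431561 (iv5 D203985) F301998 D122672 D204099 F431080 F426814 (iv5 F283278) D216147
theorem F483179 : act 6 n186672 = n216147 := d21_3 F369246 F290942 (iv5 F367619) (iv1 D216147) (iv6 F483156) F483155 (iv1 F460559) F458442 (iv6 D187152) D187150
theorem F483180 : act 2 n216147 = n185282 := d3_1 F483179 (iv6 F382984) F367620
theorem F483181 : act 3 n216147 = n191480 := d7_1 F483179 (iv6 D191480) F367621
theorem F483182 : act 5 n216147 = n214587 := d12_1 F483179 F475923 (iv5 D177856) D177857 (iv5 F367619)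
theorem F483183 : act 0 n185281 = n216147 := d21_4 F472014 F363482 (iv5 F458451) (iv6 F458452) (iv6 F483179) F367619 F289803 D185428 F365352 D213769
def n216148 : Q := act 2 n181971
theorem D216148 : act 2 n181971 = n216148 := rfl
theorem F483184 : act 3 n216148 = n182217 := d0_2 D181971 D216148 (iv2 D182217) (iv3 D86999) (iv2 F133346)
theorem F483185 : act 4 n216148 = n192886 := d1_2 F468492 D216148 (iv2 F468491)
theorem F483186 : act 5 n216148 = n185268 := d2_2 (iv5 F283278) D216148 (iv2 F287549)
theorem F483187 : act 7 n216148 = n185281 := d4_2 (iv7 F283279) D216148 F287556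
theorem F483188 : act 1 n216148 = n185282 := d15_0 (iv0 D185282) (iv7 F283279) D216148
theorem F483189 : act 1 n185283 = n216148 := d15_0 F483188 F483174 (iv2 F483173)
def n216149 : Q := act 3 n181973
theorem D216149 : act 3 n181973 = n216149 := rfl
theorem F483190 : act 5 n216149 = n183883 := d6_2 (iv5 F283284) D216149 (iv3 D183883)
theorem F483191 : act 6 n216149 = n210164 := d7_2 F470248 D216149 (iv3 F470245)
theorem F483192 : act 7 n216149 = n182269 := d8_2 (iv7 F283283) D216149 (iv3 D182269)
def n216150 : Q := act 0 n181974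
theorem D216150 : act 0 n181974 = n216150 := rfl
theorem F483193 : act 5 n216150 = n210161 := d17_1 D216150 (iv1 F456408) F351876 (iv4 F470265) F470266 (iv0 D190718) F293590 F470249 F470246
theorem F483194 : act 4 n216150 = n185418 := d18_1 D216150 (iv1 F308312) (iv4 F368946) F368947 (iv4 F377741) (iv0 F459255) F459254 (iv0 F438153) F377077
theorem F483195 : act 6 n216150 = n185065 := d21_5 (iv5 D40597) (iv1 F63562) D86913 D181974 D216150 (iv5 D185065) F135149 (iv5 F133514) (iv6 F329950) (iv1 F63563)
theorem F483196 : act 1 n182256 = n216150 := d15_0 (iv0 D216150) (iv7 F470235) F470232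
theorem F483197 : act 2 n182253 = n216150 := d3_3 F483195 (iv2 F294287) (iv6 F365251)
theorem F483198 : act 7 n182254 = n216150 := d15_2 (iv0 D182253) D182254 (iv2 F483197)
def n216151 : Q := act 1 n181974
theorem D216151 : act 1 n181974 = n216151 := rfl
theorem F483199 : act 1 n216151 = n182256 := d15_1 D216151 (iv7 D182256) (iv2 F283286)
theorem F483200 : act 7 n216151 = n182253 := d15_2 (iv0 D216150) D216151 F483197
theorem F483201 : act 5 n216151 = n194737 := d17_7 F456961 D215072 F478193 (iv5 D193305) (iv4 F377076) F377077 D216151 (iv0 F394304) (iv4 F456959)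
theorem F483202 : act 4 n216151 = n195017 := d18_7 F332734 (iv4 F450395) (iv1 F481330) F481327 (iv5 F470247) F470246 D216151 F395435 (iv5 F242337)
theorem F483203 : act 6 n213384 = n216151 := d21_3 F469814 F469760 (iv5 F470168) (iv1 D216151) (iv6 D181974) (iv5 D86913) D86912 (iv5 F135239) (iv6 F314205) (iv1 F469812)
theorem F483204 : act 2 n182254 = n216151 := d1_3 F483202 (iv2 F449116) F459528
theorem F483205 : act 0 n182156 = n209412 := d20_4 F483202 (iv1 F395434) F283629 (iv3 F283608) (iv3 D209412) D209413 (iv1 F454675) (iv4 D209702) F352698 (iv1 F483199)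
def n216152 : Q := act 3 n181977
theorem D216152 : act 3 n181977 = n216152 := rfl
theorem F483206 : act 5 n216152 = n185314 := d6_2 (iv5 F283293) D216152 (iv3 D185314)
theorem F483207 : act 6 n216152 = n213417 := d7_2 F306629 D216152 F470295
theorem F483208 : act 0 n216137 = n216152 := d21_4 (iv5 D187698) F291500 F283244 D216137 F483207 F470297 (iv1 F387709) F387698 F367623 F371230
def n216153 : Q := act 1 n182025
theorem D216153 : act 1 n182025 = n216153 := rfl
def n216154 : Q := act 3 n182025
theorem D216154 : act 3 n182025 = n216154 := rfl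
theorem F483209 : act 4 n216154 = n182041 := d5_2 D182025 D216154 (iv3 D182041) (iv4 D86946) (iv3 F133427)
theorem F483210 : act 6 n216154 = n206908 := d7_2 (iv6 F355254) D216154 (iv3 D206908)
def n216155 : Q := act 5 n182025
theorem D216155 : act 5 n182025 = n216155 := rfl
theorem F483211 : act 6 n216155 = n207028 := d12_2 (iv6 F355254) D216155 (iv5 D207028) (iv6 D129830) F207694
def n216156 : Q := act 0 n182035
theorem D216156 : act 0 n182035 = n216156 := rfl
theorem F483212 : act 5 n216156 = n199055 := d17_1 D216156 F410495 (iv5 F462635) (iv4 D211674) (iv5 D143763) D143762 (iv5 F460221) (iv0 F468685) F468682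
theorem F483213 : act 4 n216156 = n189111 := d18_1 D216156 (iv1 F440093) F440091 (iv5 F286691) (iv4 F356654) F241922 (iv4 F394169) (iv0 D194707) (iv5 F283439)
theorem F483214 : act 6 n216156 = n201327 := d21_5 (iv5 D40358) D40356 D86942 D182035 D216156 F420032 F358552 (iv5 F283454) (iv6 D182040) (iv1 D86945)
theorem F483215 : act 2 n183130 = n216156 := d3_3 F483214 (iv2 F459829) (iv6 F459832)
theorem F483216 : act 3 n199059 = n216156 := d7_3 F483214 F449927 (iv6 F449930)
theorem F483217 : act 7 n183131 = n216156 := d14_0 F483214 (iv7 F439730) (iv6 F450964) F450965 F442155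
theorem F483218 : act 0 n216156 = n183132 := d21_4 (iv5 F394218) (iv1 F394220) (iv5 F420032) (iv6 F483214) (iv6 F379979) (iv5 F394282) (iv1 F405230) D209501 (iv6 F459900) F459902
def n216157 : Q := act 1 n182035
theorem D216157 : act 1 n182035 = n216157 := rfl
theorem F483219 : act 1 n216157 = n183132 := d15_1 D216157 (iv7 D183132) (iv2 F283438)
theorem F483220 : act 7 n216157 = n183130 := d15_2 (iv0 D216156) D216157 F483215
theorem F483221 : act 5 n216157 = n212778 := d17_7 (iv1 F360172) (iv5 F360171) (iv1 F333392) (iv5 F339295) F329044 (iv5 F283439) D216157 F467459 F394134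
theorem F483222 : act 4 n216157 = n189112 := d17_9 (iv1 D189112) F356648 (iv1 F320182) (iv5 F205592) (iv4 F439780) (iv5 F439781) (iv0 D194707) (iv5 F283439) D216157
theorem F483223 : act 6 n208823 = n216157 := d21_3 (iv5 F399444) (iv1 F456380) (iv5 F456384) (iv1 D216157) (iv6 D182035) (iv5 D86942) (iv1 F61444) (iv5 F61734) D87430 D183165
theorem F483224 : act 2 n216157 = n183131 := d3_1 F483223 (iv6 F442155) D208823
def n216158 : Q := act 7 n182035
theorem D216158 : act 7 n182035 = n216158 := rfl
theorem F483225 : act 2 n216158 = n183132 := d4_1 D216158 (iv7 D183132) (iv2 F283438)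
theorem F483226 : act 3 n216158 = n202653 := d8_1 D216158 F424949 F372543
theorem F483227 : act 4 n216158 = n206291 := d11_1 D216158 (iv7 F468684) F468682
theorem F483228 : act 5 n216158 = n194708 := d13_1 D216158 (iv7 D194708) (iv5 F283439)
theorem F483229 : act 6 n216158 = n183138 := d14_1 D216158 (iv7 D183138) (iv6 D87416) (iv7 F133437) D182035
theorem F483230 : act 1 n183131 = n216158 := d15_1 D183131 (iv7 D216158) F283438
theorem F483231 : act 1 n216158 = n183130 := d15_1 F483230 (iv7 F483220) F483224
def n216159 : Q := act 0 n182037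
theorem D216159 : act 0 n182037 = n216159 := rfl
theorem F483232 : act 5 n216159 = n211289 := d17_3 F223260 F359695 D216159 F460981 (iv5 F350802) (iv0 F174760) (iv5 F105457) (iv0 D69173) D69176
theorem F483233 : act 4 n216159 = n201336 := d18_1 D216159 (iv1 F420064) D212289 F465157 (iv4 D147593) (iv0 F311873) F206189 (iv0 F316668) F359695
theorem F483234 : act 6 n216159 = n213495 := d21_5 (iv5 D41255) D41253 (iv5 F133447) D182037 D216159 (iv5 D213495) F358554 F134919 (iv6 D87413) (iv1 F63092)
theorem F483235 : act 2 n183145 = n216159 := d15_3 (iv0 D216159) (iv0 F467019) F467017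
theorem F483236 : act 1 n183148 = n216159 := d15_0 (iv0 D216159) (iv7 F470732) F470730
theorem F483237 : act 7 n216159 = n183146 := d15_2 F467020 F483236 (iv2 F467015)
theorem F483238 : act 3 n215953 = n216159 := d19_19 (iv1 F483236) F359699 (iv4 F231386) (iv3 D147548) (iv1 F171215) (iv5 D110621) (iv4 F92985) (iv3 D58812) (iv1 D27966) D27968 F45282 D58952 (iv1 F355943) (iv5 D125825) (iv4 F169122) F405807 (iv1 D197790) D197792 (iv4 F482248)
def n216160 : Q := act 6 n182038
theorem D216160 : act 6 n182038 = n216160 := rfl
theorem F483239 : act 3 n216160 = n182040 := d7_1 D216160 (iv6 D182040) D182038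
theorem F483240 : act 5 n216160 = n184069 := d12_1 D216160 (iv6 D184069) (iv5 D87800) D87801 (iv5 F283446)
def n216161 : Q := act 3 n182039
theorem D216161 : act 3 n182039 = n216161 := rfl
theorem F483241 : act 5 n216161 = n201442 := d6_2 (iv5 F283449) D216161 F420524
theorem F483242 : act 6 n216161 = n213032 := d7_2 (iv6 F425315) D216161 F468687
theorem F483243 : act 7 n216161 = n183143 := d8_2 (iv7 F283450) D216161 (iv3 D183143)
def n216162 : Q := act 7 n182040
theorem D216162 : act 7 n182040 = n216162 := rfl
theorem F483244 : act 2 n216162 = n183153 := d4_1 D216162 (iv7 D183153) (iv2 F283453)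
theorem F483245 : act 4 n216162 = n211139 := d11_1 D216162 F460289 F425312
theorem F483246 : act 5 n216162 = n184079 := d13_1 D216162 (iv7 D184079) (iv5 F283454)
theorem F483247 : act 6 n216162 = n183148 := d14_1 D216162 (iv7 D183148) (iv6 D87421) (iv7 F133452) D182040
theorem F483248 : act 1 n183152 = n216162 := d15_1 D183152 (iv7 D216162) F283453
theorem F483249 : act 1 n216162 = n183151 := d15_1 F483248 (iv7 F439687) F439686
def n216163 : Q := act 2 n182041
theorem D216163 : act 2 n182041 = n216163 := rfl
theorem F483250 : act 3 n216163 = n183160 := d0_2 D182041 D216163 (iv2 D183160) (iv3 D87427) (iv2 F133455)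
theorem F483251 : act 6 n216163 = n196015 := d3_2 F372193 D216163 F399070
theorem F483252 : act 7 n216163 = n214461 := d4_2 (iv7 F284756) D216163 F475272
theorem F483253 : act 1 n216163 = n206230 := d15_0 (iv0 F439826) (iv7 F284756) D216163
theorem F483254 : act 1 n206233 = n216163 := d15_0 F483253 F439825 (iv2 F439837)
def n216164 : Q := act 4 n182048
theorem D216164 : act 4 n182048 = n216164 := rfl
theorem F483255 : act 5 n216164 = n210794 := d16_1 D216164 F458823 F438175 F419367 F342999 (iv4 D182143) D182144 (iv7 F364163) F364160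
theorem F483256 : act 3 n216164 = n210798 := d19_3 F333363 D182048 D216164 (iv1 F464140) (iv5 D212051) F228090 F318367 (iv1 F322179) F334954 F227832 (iv3 F227826) F340878 (iv5 F369009) (iv4 F369008) (iv3 D187067) F335626 F329681 (iv4 F335613) (iv3 F283257)
def n216165 : Q := act 6 n182051
theorem D216165 : act 6 n182051 = n216165 := rfl
theorem F483257 : act 2 n216165 = n189603 := d3_1 D216165 (iv6 D189603) F344305
theorem F483258 : act 3 n216165 = n214547 := d7_1 D216165 (iv6 F475735) F368120
theorem F483259 : act 4 n216165 = n182053 := d10_1 D216165 (iv6 D182053) D182051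
theorem F483260 : act 7 n216165 = n194663 := d14_2 (iv7 F344306) D216165 (iv6 F422075) F422072 (iv6 F363797)
theorem F483261 : act 0 n216165 = n214562 := d21_4 F339779 D212034 F464047 D216165 (iv6 D214562) (iv5 F420676) (iv1 F429885) F429883 F335764 F339781
theorem F483262 : act 5 n216165 = n192234 := d21_6 D90267 F138843 F83067 D94223 F283459 D216165 F386140 (iv5 D159824) (iv6 D76488) F65138
theorem F483263 : act 0 n189665 = n216165 := d17_0 F483262 F386140 (iv5 D159824) (iv4 F139250) D187709 F371262 F154644 F372240 (iv4 F377302)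
def n216166 : Q := act 6 n182055
theorem D216166 : act 6 n182055 = n216166 := rfl
theorem F483264 : act 3 n216166 = n182057 := d7_1 D216166 (iv6 D182057) D182055
theorem F483265 : act 4 n216166 = n188553 := d10_1 D216166 F373929 (iv4 F283463)
theorem F483266 : act 0 n216166 = n212270 := d21_4 F364508 (iv1 F456172) F456171 D216166 (iv6 D212270) (iv5 D146361) (iv1 F185936) (iv5 F335911) (iv6 F372812) F372814
theorem F483267 : act 0 n213743 = n216166 := d21_4 F391747 (iv1 F427760) F427756 D213743 (iv6 D216166) (iv5 F456171) (iv1 F456173) F452253 F369297 (iv1 F391751)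
def n216167 : Q := act 4 n182056
theorem D216167 : act 4 n182056 = n216167 := rfl
theorem F483268 : act 2 n216167 = n206739 := d1_1 D216167 F442011 F344333
theorem F483269 : act 5 n216167 = n205634 := d9_2 D182056 D216167 (iv4 F437284) D209040 (iv4 F464048) F464047 (iv4 D182051) (iv5 F338483) (iv4 F443152) F443153 F437235 D208035 F447544 (iv5 D189224) F144568
theorem F483270 : act 7 n216167 = n206969 := d11_2 F362419 D216167 F442780
theorem F483271 : act 1 n216167 = n212382 := d18_6 (iv1 F136748) (iv4 F251928) (iv1 F251931) F144568 D182056 D216167 F465603 F367764 (iv5 D98570)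
def n216168 : Q := act 6 n182056
theorem D216168 : act 6 n182056 = n216168 := rfl
theorem F483272 : act 3 n216168 = n195226 := d7_1 D216168 F456174 F456169
theorem F483273 : act 0 n216168 = n189782 := d21_10 F377731 F455980 (iv5 D208754) (iv6 D135032) (iv1 D63463) D63466 (iv5 F328109) F294194 D182056 D216168
theorem F483274 : act 0 n208512 = n216168 := d21_4 (iv5 F451487) F451489 (iv5 F431281) (iv6 F449668) (iv6 D216168) (iv5 D182056) (iv1 D86950) D86951 (iv6 F156022) F362232
def n216169 : Q := act 4 n182128
theorem D216169 : act 4 n182128 = n216169 := rfl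
def n216170 : Q := act 6 n182128
theorem D216170 : act 6 n182128 = n216170 := rfl
theorem F483275 : act 2 n216170 = n210600 := d3_1 D216170 F458172 F429588
theorem F483276 : act 3 n216170 = n182131 := d7_1 D216170 (iv6 D182131) D182128
theorem F483277 : act 0 n210852 = n216170 := d20_4 (iv4 F458449) (iv1 F459056) (iv4 D210864) (iv3 F459025) F483276 F432301 (iv1 F432292) F342722 (iv3 F287557) (iv1 F458447)
def n216171 : Q := act 0 n182138
theorem D216171 : act 0 n182138 = n216171 := rfl
theorem F483278 : act 4 n216171 = n191455 := d18_3 (iv1 F371234) F368418 D216171 F383513 F154890 D100794 F357192 (iv0 D89454) D89456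
theorem F483279 : act 6 n191454 = n216171 := d10_0 F483278 (iv6 D191455) (iv4 F383510)
theorem F483280 : act 7 n191464 = n216171 := d11_0 F483278 F383514 (iv4 F383520)
def n216172 : Q := act 1 n182138
theorem D216172 : act 1 n182138 = n216172 := rfl
theorem F483281 : act 4 n186618 = n216172 := d20_0 (iv1 D216172) (iv4 F368418) (iv3 D186887) D186885 F368414 D203731 (iv1 F431166) (iv4 D204136) D204135 F431164
theorem F483282 : act 2 n216172 = n191464 := d1_1 F483281 F383520 (iv2 F367454)
theorem F483283 : act 6 n216172 = n186617 := d10_2 D186618 F483281 F367450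
def n216173 : Q := act 2 n182138
theorem D216173 : act 2 n182138 = n216173 := rfl
theorem F483284 : act 6 n216173 = n182217 := d3_2 (iv6 F283520) D216173 (iv2 D182217)
def n216174 : Q := act 5 n182138
theorem D216174 : act 5 n182138 = n216174 := rfl
theorem F483285 : act 3 n216174 = n182139 := d6_1 D216174 (iv5 D182139) D182138
def n216175 : Q := act 6 n182139
theorem D216175 : act 6 n182139 = n216175 := rfl
theorem F483286 : act 2 n216175 = n185292 := d3_1 D216175 F393983 (iv2 F393982)
theorem F483287 : act 4 n216175 = n201360 := d10_1 D216175 F420168 (iv4 F350094)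
theorem F483288 : act 5 n216175 = n182220 := d12_1 D216175 (iv6 D182220) (iv5 D87000) (iv6 F133490) D182139
theorem F483289 : act 0 n216175 = n204934 := d21_4 F434331 (iv1 D182137) D182139 D216175 (iv6 D204934) (iv5 D124777) (iv1 F92206) D58360 D124822 D204954
def n216176 : Q := act 4 n182144
theorem D216176 : act 4 n182144 = n216176 := rfl
theorem F483290 : act 3 n216176 = n213952 := d5_1 D216176 (iv4 F472868) (iv3 F465328) F465330 F368033
theorem F483291 : act 5 n216176 = n210803 := d9_2 D182144 D216176 F458859 F438193 F239268 (iv5 F144543) F144542 D182048 D216164 F483255 F458823 F438175 F419367 F342999 (iv4 D182143)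
theorem F483292 : act 6 n197335 = n216176 := d12_0 F483291 (iv6 F458858) (iv5 D195452) F167171 D197335
def n216177 : Q := act 6 n182144
theorem D216177 : act 6 n182144 = n216177 := rfl
theorem F483293 : act 4 n216177 = n197335 := d10_1 D216177 F483292 (iv4 D216176)
theorem F483294 : act 5 n216177 = n204444 := d12_1 D216177 F432567 (iv5 D186831) F287407 D182144
theorem F483295 : act 7 n216177 = n204443 := d14_2 F364163 D216177 F432562 F429457 (iv6 F364162)
def n216178 : Q := act 4 n182151
theorem D216178 : act 4 n182151 = n216178 := rfl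
theorem F483296 : act 2 n216178 = n182155 := d1_1 D216178 (iv4 D182155) (iv2 F283605)
def n216179 : Q := act 6 n182151
theorem D216179 : act 6 n182151 = n216179 := rfl
theorem F483297 : act 2 n216179 = n182156 := d3_1 D216179 (iv6 D182156) (iv2 F283605)
theorem F483298 : act 3 n216179 = n215280 := d7_1 D216179 (iv6 D215280) F356427
def n216180 : Q := act 4 n182153
theorem D216180 : act 4 n182153 = n216180 := rfl
theorem F483299 : act 5 n216180 = n197342 := d16_1 D216180 F403990 (iv5 F466135) F466136 F429883 (iv4 D185052) F287427 (iv7 F388820) F388819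
theorem F483300 : act 0 n216180 = n210804 := d17_0 (iv5 D210804) F458824 (iv5 F483255) (iv4 D216164) (iv5 D182048) (iv0 F333363) D216142 F483163 D216180
theorem F483301 : act 3 n216180 = n197343 := d19_3 D88203 (iv5 F344234) D216180 (iv1 F415499) (iv5 D200201) F175590 (iv3 F168332) (iv1 D53199) F40787 (iv4 F81521) F328287 (iv1 F70655) (iv5 D23603) (iv4 D11060) (iv3 F35318) F63111 F63103 F35391 (iv3 F62359)
def n216181 : Q := act 6 n182153
theorem D216181 : act 6 n182153 = n216181 := rfl
def n216182 : Q := act 3 n182154
theorem D216182 : act 3 n182154 = n216182 := rfl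
theorem F483302 : act 5 n216182 = n185051 := d6_2 F287427 D216182 (iv3 D185051)
theorem F483303 : act 0 n189285 = n216182 := d17_2 F374065 D189285 F483302 (iv4 F372621) (iv5 F374082) (iv0 D188583) (iv5 D92501) D92499 D188580
theorem F483304 : act 1 n189280 = n216182 := d17_6 F251567 (iv5 F251566) (iv1 F283584) (iv5 D93841) D93840 D189280 F483302 F372527 (iv4 D159730)
def n216183 : Q := act 4 n182154
theorem D216183 : act 4 n182154 = n216183 := rfl
theorem F483305 : act 5 n216183 = n212644 := d9_2 F287427 D216183 (iv4 D212644) (iv5 F366113) (iv4 F429186) F429188 (iv4 D185047) (iv5 F344234) D216180 F483299 F403990 (iv5 F466135) F466136 F429883 (iv4 D185052)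
theorem F483306 : act 0 n210804 = n216183 := d17_2 (iv1 D210803) D210804 F483305 (iv4 D212644) (iv5 F366113) F370536 (iv5 F479991) (iv0 F479995) (iv4 F458859)
def n216184 : Q := act 6 n182154
theorem D216184 : act 6 n182154 = n216184 := rfl
theorem F483307 : act 5 n216184 = n208266 := d12_1 D216184 F448649 (iv5 F339538) F335763 F287427
def n216185 : Q := act 0 n182155
theorem D216185 : act 0 n182155 = n216185 := rfl
theorem F483308 : act 4 n216185 = n187138 := d18_3 (iv1 D182154) D182155 D216185 F369215 F139736 (iv0 F135139) F135138 D88204 F287427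
def n216186 : Q := act 1 n182155
theorem D216186 : act 1 n182155 = n216186 := rfl
def n216187 : Q := act 3 n182155
theorem D216187 : act 3 n182155 = n216187 := rfl
theorem F483309 : act 4 n216187 = n182166 := d5_2 D182155 D216187 (iv3 D182166) (iv4 D86982) (iv3 F133493)
def n216188 : Q := act 5 n182155
theorem D216188 : act 5 n182155 = n216188 := rfl
theorem F483310 : act 4 n216188 = n212505 := d16_2 D182155 D216188 (iv5 D212505) (iv4 F363649) F239332 (iv4 F283258) D216142 F483161 F283605
theorem F483311 : act 6 n214843 = n216188 := d10_0 F483310 F466144 D214843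
theorem F483312 : act 1 n201186 = n216188 := d18_6 (iv1 F419370) (iv4 D114074) (iv1 D52649) (iv4 F83195) D114069 D201186 F483310 F466147 F438175
def n216189 : Q := act 6 n182155
theorem D216189 : act 6 n182155 = n216189 := rfl
theorem F483313 : act 4 n216189 = n182156 := d10_1 D216189 (iv6 D182156) D182155
def n216190 : Q := act 1 n182156
theorem D216190 : act 1 n182156 = n216190 := rfl
theorem F483314 : act 5 n211599 = n216190 := d21_0 (iv1 D216190) (iv5 F388975) (iv6 D193157) F352685 (iv6 F268344) (iv5 D170755) (iv1 F351618) F351621 D210036 F462326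
theorem F483315 : act 3 n216190 = n211603 := d6_1 F483314 (iv5 D211603) (iv3 F462325)
theorem F483316 : act 6 n216190 = n211600 := d12_2 D211599 F483314 (iv5 D211600) (iv6 D143377) D143376
def n216191 : Q := act 7 n182156
theorem D216191 : act 7 n182156 = n216191 := rfl
theorem F483317 : act 3 n216191 = n182170 := d8_1 D216191 (iv7 D182170) (iv3 F283608)
def n216192 : Q := act 4 n182158
theorem D216192 : act 4 n182158 = n216192 := rfl
theorem F483318 : act 6 n216192 = n192511 := d10_2 F387801 D216192 (iv4 F387798)
theorem F483319 : act 7 n216192 = n189609 := d11_2 (iv7 F368135) D216192 F377104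
theorem F483320 : act 5 n216192 = n212360 := d17_5 (iv1 F290172) (iv5 F362209) (iv1 F362211) (iv5 F283609) D216192 (iv0 F465488) F422109 (iv0 F288309) (iv4 D101368)
theorem F483321 : act 0 n216192 = n214539 := d17_0 F475688 (iv1 F371391) F177082 F134948 D87959 (iv0 F352685) F155986 D182158 D216192
theorem F483322 : act 1 n216192 = n189679 := d18_6 (iv1 F371287) F371283 F391417 (iv4 D193224) (iv5 F283609) D216192 F377374 F369090 (iv5 F157417)
theorem F483323 : act 3 n216192 = n187453 := d19_3 (iv1 F362211) (iv5 F283609) D216192 (iv1 D187453) (iv5 F139404) D187792 (iv3 F446257) (iv1 F446261) (iv5 F443411) F443408 F221309 (iv1 F347014) D135161 F347119 (iv3 F468795) F468798 (iv5 D201943) (iv4 F362202) F362207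
def n216193 : Q := act 4 n182159
theorem D216193 : act 4 n182159 = n216193 := rfl
theorem F483324 : act 2 n216193 = n213330 := d1_1 D216193 F469949 F368803
theorem F483325 : act 3 n216193 = n192888 := d5_1 D216193 (iv4 F431103) F431105 (iv4 D182160) D182159
theorem F483326 : act 7 n216193 = n213329 := d11_2 F287647 D216193 F469946
theorem F483327 : act 5 n216193 = n212988 := d17_5 (iv1 F288517) (iv5 F283244) (iv1 F285543) (iv5 F283610) D216193 (iv0 F468480) F483148 F483145 F469945
theorem F483328 : act 0 n216193 = n213325 := d17_0 (iv5 D213325) (iv1 F387131) (iv5 F387136) (iv4 D185987) (iv5 D88593) D88592 D185984 F288499 D216193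
theorem F483329 : act 1 n216193 = n192576 := d18_6 (iv1 F386336) F382847 (iv1 F285543) F134927 (iv5 F283610) D216193 F387141 (iv0 F430831) F430830
def n216194 : Q := act 6 n182159
theorem D216194 : act 6 n182159 = n216194 := rfl
theorem F483330 : act 3 n216194 = n182161 := d7_1 D216194 (iv6 D182161) D182159
theorem F483331 : act 5 n216194 = n184365 := d12_1 D216194 (iv6 D184365) (iv5 D87930) D87931 (iv5 F283610)
def n216195 : Q := act 7 n182161
theorem D216195 : act 7 n182161 = n216195 := rfl
theorem F483332 : act 2 n216195 = n189198 := d4_1 D216195 (iv7 D189198) (iv2 F283615)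
theorem F483333 : act 5 n216195 = n184370 := d13_1 D216195 (iv7 D184370) (iv5 F283616)
theorem F483334 : act 6 n216195 = n208373 := d14_1 D216195 F449117 (iv6 D185418) F135249 D182161
theorem F483335 : act 1 n189196 = n216195 := d15_1 D189196 (iv7 D216195) F283615
theorem F483336 : act 1 n216195 = n189195 := d15_1 F483335 (iv7 F471083) F471081
def n216196 : Q := act 3 n182164
theorem D216196 : act 3 n182164 = n216196 := rfl
theorem F483337 : act 5 n216196 = n185081 := d6_2 F337966 D216196 (iv3 D185081)
def n216197 : Q := act 0 n182166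
theorem D216197 : act 0 n182166 = n216197 := rfl
theorem F483338 : act 5 n216197 = n185041 := d21_2 (iv5 F283628) D216197 (iv6 F470527) F470530 (iv6 F469104) F469098 F418335 D201464 (iv6 F481482) (iv1 D185229)
def n216198 : Q := act 1 n182166
theorem D216198 : act 1 n182166 = n216198 := rfl
theorem F483339 : act 3 n204115 = n216198 := d19_19 (iv1 D216198) F283628 (iv4 F287536) (iv3 D185219) (iv1 F357249) (iv5 F451148) (iv4 F468796) F468795 F366263 (iv5 D115647) (iv4 F180008) F319617 F155425 (iv5 D85954) (iv4 F131713) (iv3 F313759) F215400 F361503 D204115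
def n216199 : Q := act 2 n182166
theorem D216199 : act 2 n182166 = n216199 := rfl
theorem F483340 : act 5 n216199 = n185230 := d2_2 (iv5 F283628) D216199 (iv2 D185230)
def n216200 : Q := act 6 n182166
theorem D216200 : act 6 n182166 = n216200 := rfl
theorem F483341 : act 3 n216200 = n182167 := d7_1 D216200 (iv6 D182167) D182166
theorem F483342 : act 5 n216200 = n210058 := d12_1 D216200 (iv6 F455979) F377731 (iv6 D185231) (iv5 F283628)
def n216201 : Q := act 5 n182169
theorem D216201 : act 5 n182169 = n216201 := rfl
theorem F483343 : act 2 n216201 = n193190 := d2_1 D216201 F389125 (iv2 F368943)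
theorem F483344 : act 3 n216201 = n192101 := d6_1 D216201 F385547 (iv3 F368940)
theorem F483345 : act 4 n216201 = n210148 := d9_1 D216201 F456360 (iv4 D206079) (iv5 F331161) F285244 (iv5 F283695) F364083 (iv5 F467485) F467484 F435497 F435495 D205225 F435507 (iv5 F470239) F470240
theorem F483346 : act 6 n216201 = n192141 := d12_2 (iv6 F471067) D216201 F385725 (iv6 F449109) (iv5 F471065)
theorem F483347 : act 7 n216201 = n193191 := d13_2 (iv7 F368938) D216201 (iv5 F389130)
theorem F483348 : act 0 n193138 = n216201 := d21_10 (iv5 D216201) (iv1 D182169) (iv5 F155991) (iv6 D101250) (iv1 D47149) (iv6 F74393) (iv5 D47142) D47140 D101223 D193138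
theorem F483349 : act 1 n193193 = n216201 := d15_1 F467489 F483347 (iv2 F467483)
def n216202 : Q := act 4 n182176
theorem D216202 : act 4 n182176 = n216202 := rfl
theorem F483350 : act 2 n216202 = n204142 := d1_1 D216202 F431180 F368906
theorem F483351 : act 3 n216202 = n204022 := d5_1 D216202 F430845 (iv3 F386413) F386414 F367880
theorem F483352 : act 5 n216202 = n203719 := d9_2 D182176 D216202 (iv4 D203719) (iv5 D120376) (iv4 F87722) F297097 F132445 D98069 D191329 (iv5 F431187) F431186 F196564 (iv4 F90882) (iv5 F299000) F137163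
theorem F483353 : act 6 n216202 = n191483 := d10_2 F429585 D216202 (iv4 F429583)
theorem F483354 : act 7 n216202 = n191372 := d11_2 (iv7 F352775) D216202 (iv4 D191372)
theorem F483355 : act 0 n216202 = n194090 := d18_2 (iv1 F383068) D216202 (iv4 D194090) (iv5 D102666) (iv4 F140522) (iv0 F372667) F372663 F157212 (iv5 F383066)
theorem F483356 : act 1 n216202 = n204005 := d18_6 D56721 D122399 F336774 F137163 D182176 D216202 (iv4 D204005) (iv0 D122407) (iv5 D56723)
def n216203 : Q := act 4 n182178
theorem D216203 : act 4 n182178 = n216203 := rfl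
theorem F483357 : act 2 n216203 = n182182 := d1_1 D216203 (iv4 D182182) (iv2 F283633)
theorem F483358 : act 5 n216203 = n204136 := d9_2 D182178 D216203 (iv4 D204136) F356509 (iv4 D89518) (iv5 D41799) (iv4 F64431) D89489 D187048 (iv5 F431170) (iv4 D204138) F329110 (iv4 F111908) F329681 (iv4 F335613)
theorem F483359 : act 7 n216203 = n215279 := d11_2 F356428 D216203 (iv4 D215279)
theorem F483360 : act 0 n216203 = n204439 := d18_2 (iv1 F368912) D216203 F432540 (iv5 D187703) F292664 F74798 (iv4 F157208) F157210 (iv5 F368911)
theorem F483361 : act 1 n216203 = n192297 := d18_6 (iv1 F89711) F72613 (iv1 F126269) (iv4 F335613) D182178 D216203 (iv4 D192297) (iv0 F195849) (iv5 D122400)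
def n216204 : Q := act 4 n182181
theorem D216204 : act 4 n182181 = n216204 := rfl
theorem F483362 : act 0 n216204 = n204003 := d18_2 (iv1 F356429) D216204 (iv4 D204003) (iv5 D122405) (iv4 F335607) D89240 F137163 F335655 D171173
theorem F483363 : act 1 n216204 = n204001 := d18_6 F292661 (iv4 F356442) F356439 F153788 (iv5 F356415) D216204 (iv4 D204001) (iv0 F371252) (iv5 D187703)
theorem F483364 : act 3 n216204 = n204031 := d19_3 F356413 (iv5 F356415) D216204 (iv1 D204031) (iv5 F366895) (iv4 F430823) F430822 D204117 F431102 (iv4 F380153) (iv3 D190570) (iv1 F290883) (iv5 F142452) F142451 (iv3 F142380) (iv1 F142384) (iv5 F142963) F142962 (iv3 F157183)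
def n216205 : Q := act 1 n182182
theorem D216205 : act 1 n182182 = n216205 := rfl
theorem F483365 : act 1 n216205 = n215279 := d15_1 D216205 (iv7 F483359) F483357
theorem F483366 : act 7 n216205 = n204439 := d15_2 (iv0 F430841) D216205 F432539
theorem F483367 : act 5 n216205 = n204008 := d17_7 D204129 F431145 F431066 (iv5 F429527) (iv4 F432531) F432530 D216205 (iv0 F449137) (iv4 D204131)
theorem F483368 : act 4 n216205 = n187134 := d17_9 (iv1 F369206) (iv5 D98391) (iv1 D46028) D46029 D98395 D191483 F432532 F432530 D216205
theorem F483369 : act 3 n204009 = n216205 := d19_19 (iv1 D216205) (iv5 F432530) F432531 (iv3 F462364) (iv1 F467482) (iv5 D212782) (iv4 D149320) (iv3 F234527) F440076 F440072 F239879 (iv3 F239876) (iv1 F362958) (iv5 F362957) F348697 (iv3 F356366) F356364 (iv5 F198267) (iv4 F430811)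
theorem F483370 : act 6 n214117 = n216205 := d21_9 (iv5 F432530) (iv1 F432532) (iv5 D191483) (iv6 F195665) F302008 (iv6 F458174) (iv5 F478883) F478884 (iv5 F473556) (iv1 D216205)
theorem F483371 : act 2 n216205 = n192297 := d0_1 F483369 F387148 (iv2 F383254) (iv3 F384377) (iv2 F430810)
def n216206 : Q := act 3 n182189
theorem D216206 : act 3 n182189 = n216206 := rfl
theorem F483372 : act 2 n216206 = n191734 := d0_1 D216206 F471039 (iv2 F388608) (iv3 F469622) F469621
theorem F483373 : act 5 n216206 = n204402 := d6_2 F306666 D216206 F432404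
theorem F483374 : act 6 n216206 = n204403 := d7_2 F366796 D216206 F432405
theorem F483375 : act 7 n216206 = n191733 := d8_2 F469630 D216206 F469634
theorem F483376 : act 0 n191737 = n216206 := d20_4 F452353 F390636 (iv4 F454711) (iv3 F454712) (iv3 D216206) F364080 F240988 F338042 (iv3 F283711) F452354
theorem F483377 : act 1 n186673 = n216206 := d15_0 (iv0 F483376) (iv7 D191737) (iv2 F367622)
def n216207 : Q := act 4 n182192
theorem D216207 : act 4 n182192 = n216207 := rfl
theorem F483378 : act 2 n216207 = n182193 := d1_1 D216207 (iv4 D182193) D182192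
theorem F483379 : act 1 n216207 = n186614 := d18_6 (iv1 D188087) F139736 D90813 (iv4 F287415) F287416 D216207 (iv4 D186614) D186613 (iv5 F372295)
def n216208 : Q := act 6 n182192
theorem D216208 : act 6 n182192 = n216208 := rfl
theorem F483380 : act 2 n216208 = n182194 := d3_1 D216208 (iv6 D182194) D182192
theorem F483381 : act 5 n216208 = n213682 := d12_1 D216208 F471617 F377033 (iv6 F362651) F287416
def n216209 : Q := act 0 n182193
theorem D216209 : act 0 n182193 = n216209 := rfl
theorem F483382 : act 4 n216209 = n186615 := d18_3 F333367 D182193 D216209 F367448 F136462 (iv0 F67859) F65116 F333362 D182048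
theorem F483383 : act 5 n216209 = n201186 := d21_8 (iv5 D156042) (iv1 F167092) (iv5 F397140) (iv6 F438374) F438375 D213779 (iv5 F472060) D216209 F419363 (iv1 F245169)
theorem F483384 : act 6 n197155 = n216209 := d12_0 F483383 F419363 (iv5 D127128) (iv6 F166513) D197155
theorem F483385 : act 7 n186614 = n216209 := d11_0 F483382 (iv7 D186615) D186614
def n216210 : Q := act 1 n182193
theorem D216210 : act 1 n182193 = n216210 := rfl
theorem F483386 : act 4 n216210 = n186606 := d18_7 F288154 F287789 (iv1 F143477) F143469 F135144 D182193 D216210 (iv0 F386194) (iv5 D192245)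
theorem F483387 : act 2 n186614 = n216210 := d1_3 F483386 F367434 D186614
def n216211 : Q := act 3 n182193
theorem D216211 : act 3 n182193 = n216211 := rfl
theorem F483388 : act 4 n216211 = n182196 := d5_2 D182193 D216211 (iv3 D182196) (iv4 D86992) D86991
def n216212 : Q := act 6 n182193
theorem D216212 : act 6 n182193 = n216212 := rfl
theorem F483389 : act 4 n216212 = n182194 := d10_1 D216212 (iv6 D182194) D182193
def n216213 : Q := act 0 n182194
theorem D216213 : act 0 n182194 = n216213 := rfl
def n216214 : Q := act 1 n182194
theorem D216214 : act 1 n182194 = n216214 := rfl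
theorem F483390 : act 5 n216214 = n208758 := d17_7 D213703 F471703 F459746 (iv5 F419935) F419934 F377040 D216214 (iv0 F471714) (iv4 D213705)
def n216215 : Q := act 7 n182194
theorem D216215 : act 7 n182194 = n216215 := rfl
theorem F483391 : act 3 n216215 = n182197 := d8_1 D216215 F337951 (iv3 F283638)
theorem F483392 : act 6 n216215 = n182196 := d14_1 D216215 (iv7 F337956) F287435 (iv7 F135142) D182194
def n216216 : Q := act 3 n182195
theorem D216216 : act 3 n182195 = n216216 := rfl
theorem F483393 : act 5 n216216 = n185182 := d6_2 (iv5 F283639) D216216 (iv3 D185182)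
theorem F483394 : act 7 n216216 = n216152 := d8_2 (iv7 F283642) D216216 (iv3 D216152)
def n216217 : Q := act 0 n182196
theorem D216217 : act 0 n182196 = n216217 := rfl
def n216218 : Q := act 1 n182196
theorem D216218 : act 1 n182196 = n216218 := rfl
theorem F483395 : act 3 n204110 = n216218 := d20_3 F431095 (iv1 F431094) D204110 (iv1 D216218) (iv3 D182196) (iv4 D86992) (iv1 F133353) F133350 (iv3 F135188) D185282
def n216219 : Q := act 2 n182196
theorem D216219 : act 2 n182196 = n216219 := rfl
theorem F483396 : act 5 n216219 = n185149 := d2_2 (iv5 F283643) D216219 (iv2 D185149)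
def n216220 : Q := act 3 n182198
theorem D216220 : act 3 n182198 = n216220 := rfl
theorem F483397 : act 5 n216220 = n192532 := d6_2 F398394 D216220 (iv3 F398393)
theorem F483398 : act 6 n216220 = n211647 := d7_2 (iv6 F389414) D216220 (iv3 F462506)
theorem F483399 : act 4 n192626 = n216220 := d10_3 F483398 (iv4 D211647) (iv6 F469954)
def n216221 : Q := act 6 n182203
theorem D216221 : act 6 n182203 = n216221 := rfl
theorem F483400 : act 2 n216221 = n182205 := d3_1 D216221 (iv6 D182205) D182203
theorem F483401 : act 5 n216221 = n185074 := d12_1 D216221 F364067 (iv5 D102375) D102376 (iv5 F283645)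
theorem F483402 : act 0 n210606 = n216221 := d21_4 (iv5 D197103) (iv1 F166267) (iv5 F222631) D210606 (iv6 D216221) F283645 F356413 (iv5 F356415) (iv6 F473704) F473706
theorem F483403 : act 1 n210606 = n193846 := d15_1 (iv0 F483402) F391191 (iv2 F483400)
def n216222 : Q := act 3 n182204
theorem D216222 : act 3 n182204 = n216222 := rfl
theorem F483404 : act 4 n216222 = n182205 := d5_2 D182204 D216222 F337949 (iv4 D86995) D86994
theorem F483405 : act 6 n182204 = n216222 := d10_0 F483404 (iv6 D182205) D182204
def n216223 : Q := act 0 n182205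
theorem D216223 : act 0 n182205 = n216223 := rfl
theorem F483406 : act 6 n216223 = n210596 := d21_5 F368917 (iv1 D102382) (iv5 F133506) D182205 D216223 F458160 (iv1 F424351) (iv5 F478824) F478825 (iv1 F368915)
theorem F483407 : act 5 n216223 = n185183 := d21_8 F413557 F479174 F479171 (iv6 D193834) (iv1 D102378) F337968 F337960 D216223 F469546 (iv1 D213244)
theorem F483408 : act 7 n210606 = n216223 := d14_0 F483406 (iv7 D210596) F222629 D139429 D210606
def n216224 : Q := act 0 n182211
theorem D216224 : act 0 n182211 = n216224 := rfl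
theorem F483409 : act 1 n191437 = n216224 := d15_0 (iv0 D216224) (iv7 F287643) (iv2 F383487)
def n216225 : Q := act 2 n182211
theorem D216225 : act 2 n182211 = n216225 := rfl
theorem F483410 : act 5 n216225 = n185499 := d2_2 (iv5 F283651) D216225 (iv2 D185499)
theorem F483411 : act 7 n216225 = n191437 := d4_2 F287643 D216225 F383487
def n216226 : Q := act 4 n182211
theorem D216226 : act 4 n182211 = n216226 := rfl
theorem F483412 : act 3 n216226 = n185441 := d5_1 D216226 (iv4 D185441) F135282 (iv4 F133509) D182211
theorem F483413 : act 5 n216226 = n212418 := d16_5 (iv4 F221880) (iv5 F363546) F287751 (iv5 F283651) D216226 F465715 F426236 (iv7 F200304) (iv2 F320480)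
theorem F483414 : act 6 n216001 = n216226 := d21_5 (iv5 F233015) (iv1 D85860) D85861 (iv6 F279973) D216001 F483413 F465717 D212898 F468022 (iv1 F427322)
def n216227 : Q := act 6 n182211
theorem D216227 : act 6 n182211 = n216227 := rfl
theorem F483415 : act 3 n216227 = n182212 := d7_1 D216227 (iv6 D182212) D182211
theorem F483416 : act 4 n216227 = n216001 := d10_1 D216227 F483414 (iv4 D216226)
theorem F483417 : act 5 n216227 = n214563 := d12_1 D216227 F475810 (iv5 F465776) F329981 (iv5 F283651)
theorem F483418 : act 7 n216227 = n191435 := d14_2 F287643 D216227 (iv6 D191435) (iv7 F283277) (iv6 F329967)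
def n216228 : Q := act 0 n182213
theorem D216228 : act 0 n182213 = n216228 := rfl
theorem F483419 : act 5 n216228 = n185250 := d17_3 (iv1 D185357) (iv5 F329856) D216228 (iv4 F473247) (iv5 D214049) (iv0 D156256) D156258 D214053 F473263
theorem F483420 : act 3 n215838 = n216228 := d6_3 F483419 (iv3 F467195) D215838
theorem F483421 : act 4 n211251 = n216228 := d16_4 F472584 F472586 F460782 D211251 F483419 (iv4 F473247) (iv5 D214049) (iv7 F473095) F473097
def n216229 : Q := act 1 n182213
theorem D216229 : act 1 n182213 = n216229 := rfl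
def n216230 : Q := act 2 n182213
theorem D216230 : act 2 n182213 = n216230 := rfl
theorem F483422 : act 3 n216230 = n191437 := d0_2 D182213 D216230 F383487 (iv3 D185414) F135241
theorem F483423 : act 5 n216230 = n185340 := d2_2 (iv5 F329856) D216230 F287595
theorem F483424 : act 6 n216230 = n185341 := d3_2 (iv6 F329857) D216230 F287596
def n216231 : Q := act 4 n182213
theorem D216231 : act 4 n182213 = n216231 := rfl
theorem F483425 : act 3 n216231 = n185524 := d5_1 D216231 (iv4 D185524) F135343 F133513 D182213
theorem F483426 : act 6 n216231 = n185370 := d10_2 (iv6 F329857) D216231 (iv4 D185370)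
theorem F483427 : act 5 n210650 = n216231 := d12_5 F483426 F426208 (iv6 F426209) D212450 (iv6 F465842)
def n216232 : Q := act 0 n182215
theorem D216232 : act 0 n182215 = n216232 := rfl
theorem F483428 : act 2 n182219 = n216232 := d15_3 (iv0 D216232) (iv0 D182215) D182219
theorem F483429 : act 3 n216232 = n185281 := d0_2 (iv3 F283657) F483428 F287556 F135188 (iv2 F133520)
theorem F483430 : act 5 n216232 = n183887 := d2_2 (iv5 F283658) F483428 (iv2 D183887)
theorem F483431 : act 7 n216232 = n182217 := d4_2 D182219 F483428 (iv2 D182217)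
theorem F483432 : act 1 n182216 = n216232 := d15_1 D182216 F483431 (iv2 D182217)
def n216233 : Q := act 2 n182215
theorem D216233 : act 2 n182215 = n216233 := rfl
theorem F483433 : act 7 n182216 = n216233 := d15_2 (iv0 D182215) D182216 (iv2 D216233)
def n216234 : Q := act 3 n182215
theorem D216234 : act 3 n182215 = n216234 := rfl
def n216235 : Q := act 4 n182215
theorem D216235 : act 4 n182215 = n216235 := rfl
def n216236 : Q := act 5 n182215
theorem D216236 : act 5 n182215 = n216236 := rfl
theorem F483434 : act 1 n216236 = n185059 := d17_8 F390894 F390892 F449078 (iv5 F480609) (iv4 F480612) (iv5 F483430) (iv0 D216232) D216236 F358600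
def n216237 : Q := act 6 n182215
theorem D216237 : act 6 n182215 = n216237 := rfl
theorem F483435 : act 0 n216237 = n188278 := d21_4 F376036 (iv1 F483434) (iv5 D216236) D216237 F372935 F140171 (iv1 F139366) (iv5 F368814) (iv6 F384061) F388126
theorem F483436 : act 4 n187706 = n216237 := d18_1 (iv1 F372657) F483435 (iv4 D188278) (iv5 D91135) F66896 D90238 (iv4 F351148) F144535 (iv5 F372655)
theorem F483437 : act 6 n216235 = n187706 := d10_0 F483436 (iv6 D216237) D216235
def n216238 : Q := act 7 n182215
theorem D216238 : act 7 n182215 = n216238 := rfl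
theorem F483438 : act 2 n216238 = n182216 := d4_1 D216238 F483433 (iv2 D216233)
def n216239 : Q := act 3 n182216
theorem D216239 : act 3 n182216 = n216239 := rfl
def n216240 : Q := act 4 n182216
theorem D216240 : act 4 n182216 = n216240 := rfl
def n216241 : Q := act 5 n182216
theorem D216241 : act 5 n182216 = n216241 := rfl
theorem F483439 : act 4 n216241 = n194095 := d17_4 F480647 (iv5 F483430) (iv1 F483432) D216241 (iv5 F392037) (iv0 F392040) D208448 (iv0 F449398) (iv4 F480644)
theorem F483440 : act 6 n216241 = n185307 := d21_3 (iv5 F483430) (iv1 F483432) D216241 F287572 D185374 (iv5 F364808) F371448 F371449 D215585 F480647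
theorem F483441 : act 6 n182216 = n182931 := d12_2 (iv6 F483440) (iv5 D216241) (iv5 F287658) F287659 D185307
theorem F483442 : act 6 n191725 = n216238 := d3_2 F483441 F384282 F483438
theorem F483443 : act 6 n186613 = n216239 := d7_2 F483441 (iv3 F372296) (iv3 D216239)
theorem F483444 : act 0 n216241 = n185059 := d21_7 (iv5 D195849) D195848 F398443 (iv6 F384292) (iv1 F384290) (iv6 F483441) D216241 (iv5 F376036) (iv6 F388122) (iv1 F398450)
theorem F483445 : act 3 n210240 = n208856 := d20_3 F475893 (iv1 F392016) (iv4 F456703) (iv1 F451130) (iv3 F392038) (iv4 F483439) F483444 F358600 F358601 F475896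
def n216242 : Q := act 0 n182217
theorem D216242 : act 0 n182217 = n216242 := rfl
theorem F483446 : act 1 n182219 = n216242 := d15_0 (iv0 D216242) (iv7 F483431) (iv2 F483428)
def n216243 : Q := act 1 n182217
theorem D216243 : act 1 n182217 = n216243 := rfl
theorem F483447 : act 1 n216243 = n182219 := d15_1 D216243 (iv7 D182219) D182217
def n216244 : Q := act 5 n182217
theorem D216244 : act 5 n182217 = n216244 := rfl
theorem F483448 : act 2 n216244 = n182218 := d2_1 D216244 (iv5 D182218) D182217
theorem F483449 : act 3 n216244 = n185268 := d6_1 D216244 (iv5 F483186) F483184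
theorem F483450 : act 4 n216244 = n193565 := d9_1 D216244 (iv5 F450616) F450614 F396083 (iv4 F384005) F384006 F368792 F283658 (iv4 F285562) (iv5 F445316) F445315 (iv5 F440834) F384056 F368885 F368884
theorem F483451 : act 7 n216244 = n183887 := d13_2 F483431 D216244 (iv5 F483430)
theorem F483452 : act 1 n183886 = n216244 := d15_1 D183886 F483451 (iv2 D183887)
theorem F483453 : act 1 n216244 = n213643 := d15_1 F483452 (iv7 F480645) F480643
theorem E104024 : n216243 = n216238 := ((c21_10 D216244 (iv1 F483452) F450202 F384061 (iv1 D187007) F365785 (iv5 D185422) D185419 (iv5 F384281) F483442 (iv1 D216243))).symm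
theorem F483454 : act 0 n216238 = n182217 := (sb E104024 (iv1 D216243))
theorem F483455 : act 1 n216238 = n182219 := (sb E104024 F483447)
theorem F483456 : act 0 n191464 = n216173 := d21_4 (iv5 F365787) F144771 F290990 D191464 F483284 D216244 (iv1 F483452) F450202 F384061 (iv1 D187007)
theorem F483457 : act 1 n191464 = n214233 := d15_1 (iv0 F483456) F474125 D216173
theorem E104025 : n216242 = n216233 := (c15_2 F483455 F483446 (iv7 F483433) (iv2 F483438))
theorem F483458 : act 0 n216233 = n182219 := (sb E104025 (iv1 F483446))
theorem F483459 : act 1 n216233 = n182217 := (sb E104025 (iv0 D216242))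
theorem E104026 : n213643 = n183885 := (c15_1 F483453 (iv0 D183885) F283656 (iv2 F483448))
theorem F483460 : act 0 n183885 = n216244 := (sb E104026 (iv1 F483453))
theorem F483461 : act 6 n183885 = n154571 := (sb E104026 (iv6 D213643))
theorem F483462 : act 7 n183885 = n215585 := (sb E104026 (iv7 F480645))
def n216245 : Q := act 1 n182218
theorem D216245 : act 1 n182218 = n216245 := rfl
theorem F483463 : act 1 n216245 = n183887 := d15_1 D216245 (iv7 F483451) F483448
theorem F483464 : act 7 n216245 = n183886 := d15_2 (iv0 F480646) D216245 (iv2 F480643)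
theorem F483465 : act 4 n216245 = n191624 := d18_7 F392040 F217378 (iv1 F399266) (iv4 F441287) F480618 F480620 D216245 (iv0 F454584) (iv5 D208448)
theorem F483466 : act 6 n213490 = n216245 := d10_0 F483465 (iv6 F481726) F481725
theorem F483467 : act 2 n216245 = n183885 := d3_1 F483466 F483461 (iv2 F470645)
def n216246 : Q := act 6 n182218
theorem D216246 : act 6 n182218 = n216246 := rfl
theorem F483468 : act 3 n216246 = n182220 := d7_1 D216246 (iv6 D182220) (iv3 F283655)
theorem F483469 : act 4 n216246 = n188236 := d10_1 D216246 F480617 F480620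
theorem F483470 : act 0 n216246 = n214444 := d21_10 F475208 F392085 (iv5 F392084) F392080 (iv1 F392081) (iv6 F483440) (iv5 D216241) (iv1 D182216) D182218 D216246
def n216247 : Q := act 6 n182219
theorem D216247 : act 6 n182219 = n216247 := rfl
theorem F483471 : act 3 n216247 = n182221 := d7_1 D216247 (iv6 D182221) (iv3 F283657)
def n216248 : Q := act 6 n182225
theorem D216248 : act 6 n182225 = n216248 := rfl
theorem F483472 : act 2 n216248 = n213395 := d3_1 D216248 F470213 (iv2 F283665)
theorem F483473 : act 3 n216248 = n193456 := d7_1 D216248 F390988 (iv3 F390984)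
theorem F483474 : act 4 n216248 = n182226 := d10_1 D216248 (iv6 D182226) D182225
theorem F483475 : act 5 n216248 = n212547 := d12_1 D216248 (iv6 D212547) (iv5 F231520) (iv6 F308466) (iv5 F283666)
theorem F483476 : act 7 n216248 = n213304 := d14_2 (iv7 F283667) D216248 F469818 (iv7 F345159) F284525
theorem F483477 : act 0 n216248 = n189192 := d21_10 (iv5 D189192) (iv1 F286299) (iv5 F483333) F483334 F449118 (iv6 D187052) F137172 (iv1 F134712) (iv5 F283666) D216248
theorem F483478 : act 0 n189194 = n216248 := d21_4 F308283 F306353 D154142 (iv6 F376029) (iv6 D216248) F283666 F134711 (iv5 F337943) (iv6 D153684) (iv1 F240117)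
def n216249 : Q := act 6 n182229
theorem D216249 : act 6 n182229 = n216249 := rfl
theorem F483479 : act 3 n216249 = n203720 := d7_1 D216249 F429541 (iv3 F335706)
theorem F483480 : act 5 n216249 = n202976 := d12_1 D216249 (iv6 D202976) F321337 F335708 D182229
theorem F483481 : act 7 n216249 = n203203 := d14_2 (iv7 F335707) D216249 (iv6 D203203) (iv7 D118204) (iv6 F134112)
theorem F483482 : act 0 n216249 = n208466 := d21_4 (iv5 D87010) D87007 D182229 D216249 F449480 (iv5 D134368) D134366 D208467 F449484 (iv1 D182239)
theorem F483483 : act 1 n216249 = n213390 := d15_1 (iv0 F483482) F470194 (iv2 F449478)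
def n216250 : Q := act 4 n182236
theorem D216250 : act 4 n182236 = n216250 := rfl
theorem F483484 : act 2 n216250 = n182240 := d1_1 D216250 (iv4 D182240) (iv2 F283678)
theorem F483485 : act 3 n216250 = n213302 := d5_1 D216250 F469807 (iv3 F479865) F479868 F383431
theorem F483486 : act 6 n216250 = n209707 := d10_2 (iv6 F335589) D216250 (iv4 D209707)
theorem F483487 : act 7 n216250 = n213392 := d11_2 F368573 D216250 F470203
theorem F483488 : act 5 n216250 = n212325 := d16_1 D216250 F465325 (iv5 D186946) (iv4 D89408) (iv5 D41749) D41748 D89404 F137087 (iv2 F283678)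
def n216251 : Q := act 3 n182239
theorem D216251 : act 3 n182239 = n216251 := rfl
theorem F483489 : act 2 n216251 = n204018 := d0_1 D216251 F430833 (iv2 F371247) F371248 (iv2 F346007)
theorem F483490 : act 4 n216251 = n192315 := d5_2 F432472 D216251 (iv3 D192315) D192316 (iv3 F432469)
theorem F483491 : act 5 n216251 = n185365 := d6_2 (iv5 F346008) D216251 (iv3 D185365)
theorem F483492 : act 7 n216251 = n213380 := d8_2 (iv7 F346009) D216251 F470155
theorem F483493 : act 0 n216251 = n216134 := d20_10 F483132 (iv1 F469948) F469949 (iv3 D187004) (iv1 F137128) (iv3 F137140) D187013 (iv1 F432474) F432472 D216251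
theorem F483494 : act 0 n213331 = n216251 := d20_4 D192878 F388087 (iv4 F384274) (iv3 F469957) (iv3 D216251) (iv4 F432472) F432473 D212638 (iv3 F466827) F367878
def n216252 : Q := act 6 n182240
theorem D216252 : act 6 n182240 = n216252 := rfl
theorem F483495 : act 2 n216252 = n209707 := d3_1 D216252 (iv6 F483486) F483484
theorem F483496 : act 4 n216252 = n182241 := d10_1 D216252 (iv6 D182241) D182240
theorem F483497 : act 5 n216252 = n208153 := d12_1 D216252 (iv6 F468868) F468870 F426956 F426954
theorem F483498 : act 7 n209702 = n216252 := d13_0 F483497 (iv7 F451218) (iv5 F454673)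
def n216253 : Q := act 0 n182241
theorem D216253 : act 0 n182241 = n216253 := rfl
theorem F483499 : act 5 n216253 = n202117 := d17_3 (iv1 F218028) F352700 D216253 F422938 F179664 F97691 F99121 F99118 D64146
theorem F483500 : act 4 n216253 = n209416 := d18_1 D216253 (iv1 D209416) (iv4 D136445) (iv5 D64144) F48614 (iv0 F48346) D63751 D135576 F352700
theorem F483501 : act 2 n209495 = n216253 := d15_3 (iv0 D216253) (iv0 F352702) (iv7 F453916)
theorem F483502 : act 1 n205086 = n216253 := d15_0 (iv0 D216253) F352699 (iv2 F434922)
theorem F483503 : act 7 n216253 = n209267 := d15_2 (iv0 F434926) F483502 F452968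
theorem F483504 : act 6 n210590 = n216253 := d10_0 F483500 (iv6 F453609) D210590
theorem F483505 : act 0 n182269 = n210590 := d21_4 (iv5 D118172) D118170 (iv5 F279979) F338048 F483504 F483499 F422940 F220036 (iv6 F427271) F427273
def n216254 : Q := act 6 n182245
theorem D216254 : act 6 n182245 = n216254 := rfl
theorem F483506 : act 3 n216254 = n182247 := d7_1 D216254 (iv6 D182247) D182245
theorem F483507 : act 5 n216254 = n184322 := d12_1 D216254 (iv6 D184322) (iv5 D87913) D87914 (iv5 F283682)
def n216255 : Q := act 3 n182246
theorem D216255 : act 3 n182246 = n216255 := rfl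
theorem F483508 : act 5 n216255 = n185068 := d6_2 (iv5 F283685) D216255 (iv3 D185068)
theorem F483509 : act 7 n216255 = n193683 := d8_2 (iv7 F283684) D216255 F390678
theorem F483510 : act 0 n216255 = n186877 := d19_4 (iv1 F63248) (iv5 F133545) D182246 D216255 F368400 F368370 (iv3 D101930) (iv1 F128844) F128841 F59430 (iv3 F59406) (iv1 F128700) D175135 (iv4 F368168) F368167 F337241 F73588 F73587 F62412
theorem F483511 : act 2 n216255 = n193774 := d16_9 (iv4 F452452) (iv5 D209146) (iv4 F357918) (iv5 F479551) F479550 F468198 (iv4 D193775) (iv5 F390680) (iv7 F483509)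
def n216256 : Q := act 6 n182246
theorem D216256 : act 6 n182246 = n216256 := rfl
theorem F483512 : act 2 n216256 = n213565 := d3_1 D216256 (iv6 F471070) (iv2 F283683)
theorem F483513 : act 4 n216256 = n182247 := d10_1 D216256 (iv6 D182247) D182246
theorem F483514 : act 5 n216256 = n213547 := d12_1 D216256 (iv6 F470971) (iv5 D154399) (iv6 F353697) (iv5 F283685)
theorem F483515 : act 7 n216256 = n213564 := d14_2 (iv7 F283684) D216256 (iv6 F471067) F368938 F368936
theorem F483516 : act 0 n216256 = n204375 := d21_4 F133507 D88212 (iv5 F283685) D216256 (iv6 F432280) (iv5 F471061) F471063 (iv5 F470212) F470213 (iv1 F283641)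
theorem F483517 : act 1 n216256 = n204376 := d15_1 (iv0 F483516) F432283 (iv2 F432278)
def n216257 : Q := act 7 n182247
theorem D216257 : act 7 n182247 = n216257 := rfl
theorem F483518 : act 2 n216257 = n215412 := d4_1 D216257 F479860 F287691
theorem F483519 : act 4 n216257 = n213564 := d11_1 D216257 (iv7 F483515) F483513
theorem F483520 : act 5 n216257 = n184330 := d13_1 D216257 (iv7 D184330) (iv5 F283688)
theorem F483521 : act 6 n216257 = n213401 := d14_1 D216257 (iv7 F470242) (iv6 D185424) F135261 D182247
theorem F483522 : act 0 n213387 = n216257 := d21_4 (iv5 D72655) D72653 D153641 D213387 F483521 F470239 (iv1 F380795) (iv5 F470207) (iv6 D213393) (iv1 D153649)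
def n216258 : Q := act 4 n182248
theorem D216258 : act 4 n182248 = n216258 := rfl
theorem F483523 : act 2 n216258 = n213414 := d1_1 D216258 F470284 (iv2 F369248)
theorem F483524 : act 6 n216258 = n211638 := d10_2 F449338 D216258 F462479
theorem F483525 : act 7 n216258 = n213413 := d11_2 F287688 D216258 F470283
theorem F483526 : act 0 n216258 = n213415 := d18_2 F367609 D216258 F470288 (iv5 D189280) (iv4 D93840) (iv0 D43865) (iv4 F64177) D89024 D186670
theorem F483527 : act 3 n216258 = n211642 := d19_3 F290949 (iv5 F283689) D216258 F462490 (iv5 D210857) (iv4 F459033) F459032 F457638 F421134 (iv4 F223843) (iv3 F226864) D211851 F463258 F429557 F191803 D120400 F340899 F283987 (iv3 F140104)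
theorem F483528 : act 0 n213417 = n216258 := d20_7 D87014 (iv1 F283614) (iv4 D182160) D182159 (iv1 F288499) (iv3 F376329) (iv4 F470296) (iv4 D216258) (iv3 D182248) (iv1 D87013)
theorem F483529 : act 1 n209417 = n213415 := d15_0 (iv0 F483526) F483525 (iv2 F470287)
def n216259 : Q := act 3 n182249
theorem D216259 : act 3 n182249 = n216259 := rfl
theorem F483530 : act 4 n216259 = n211642 := d5_2 D182249 D216259 (iv3 F483527) (iv4 D216258) (iv3 D182248)
theorem F483531 : act 5 n216259 = n185070 := d6_2 (iv5 F283691) D216259 (iv3 D185070)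
theorem F483532 : act 6 n216259 = n211641 := d7_2 F364082 D216259 F462488
theorem F483533 : act 7 n216259 = n216196 := d8_2 (iv7 F283692) D216259 (iv3 D216196)
def n216260 : Q := act 7 n182250
theorem D216260 : act 7 n182250 = n216260 := rfl
theorem F483534 : act 2 n216260 = n213401 := d4_1 D216260 (iv7 F470242) F287668
theorem F483535 : act 4 n216260 = n187054 := d11_1 D216260 F368942 (iv4 F364083)
theorem F483536 : act 5 n216260 = n183501 := d13_1 D216260 (iv7 D183501) (iv5 F283695)
theorem F483537 : act 6 n216260 = n215412 := d14_1 D216260 F479860 (iv6 D185429) F135274 D182250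
theorem F483538 : act 1 n213402 = n216260 := d15_1 F470249 (iv7 D216260) (iv2 F287668)
theorem F483539 : act 1 n216260 = n213308 := d15_1 F483538 F469842 (iv2 F470244)
def n216261 : Q := act 0 n182251
theorem D216261 : act 0 n182251 = n216261 := rfl
def n216262 : Q := act 1 n182251
theorem D216262 : act 1 n182251 = n216262 := rfl
theorem F483540 : act 5 n216262 = n194105 := d17_7 F469396 (iv5 D210748) (iv1 D139642) D139643 F363548 (iv5 F283696) D216262 F469399 F469398
theorem F483541 : act 4 n216262 = n213341 := d18_7 (iv1 D117649) F85520 D54205 D117670 D203098 F426959 D216262 (iv0 F470007) (iv5 D203079)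
theorem F483542 : act 6 n213340 = n216262 := d10_0 F483541 (iv6 D213341) (iv4 F470002)
theorem F483543 : act 3 n194106 = n216262 := d6_3 F483540 (iv3 D194105) D194106
def n216263 : Q := act 2 n182251
theorem D216263 : act 2 n182251 = n216263 := rfl
theorem F483544 : act 4 n216263 = n213390 := d1_2 F426959 D216263 (iv2 F470195)
theorem F483545 : act 5 n216263 = n185261 := d2_2 (iv5 F283696) D216263 (iv2 D185261)
def n216264 : Q := act 6 n182251
theorem D216264 : act 6 n182251 = n216264 := rfl
theorem F483546 : act 3 n216264 = n182252 := d7_1 D216264 (iv6 D182252) D182251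
def n216265 : Q := act 5 n182252
theorem D216265 : act 5 n182252 = n216265 := rfl
theorem F483547 : act 2 n216265 = n188798 := d2_1 D216265 (iv5 F470247) F470244
theorem F483548 : act 6 n216265 = n183491 := d12_2 D182252 D216265 F353763 (iv6 D88276) (iv5 F133549)
theorem F483549 : act 7 n216265 = n188797 := d13_2 F469842 D216265 (iv5 F469841)
theorem F483550 : act 4 n216265 = n216069 := d16_6 F366964 (iv5 F363366) (iv4 F352696) (iv5 D182255) (iv4 F283697) D216265 F482767 F481233 (iv2 F361745)
theorem F483551 : act 1 n216265 = n188801 := d17_8 F399451 (iv5 D127366) D127364 (iv5 F331161) F285244 (iv5 F283695) (iv0 F365250) D216265 (iv4 F399449)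
theorem F483552 : act 0 n216265 = n188799 := d18_0 (iv4 F417474) (iv1 F442077) F442072 F242337 (iv4 F368946) F368950 (iv4 F364083) (iv0 F365250) D216265
def n216266 : Q := act 3 n182253
theorem D216266 : act 3 n182253 = n216266 := rfl
theorem F483553 : act 6 n216266 = n195018 := d7_2 (iv6 F365251) D216266 (iv3 D195018)
theorem F483554 : act 5 n213782 = n216266 := d12_5 F483553 F395437 F472063 (iv5 D213781) D213782
theorem F483555 : act 1 n216266 = n215617 := d17_6 (iv1 F357881) (iv5 F302454) (iv1 F472069) (iv5 D213783) (iv4 F472064) F483554 (iv5 D215617) (iv0 F479844) (iv4 D215408)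
def n216267 : Q := act 5 n182253
theorem D216267 : act 5 n182253 = n216267 := rfl
theorem F483556 : act 2 n216267 = n210161 := d2_1 D216267 (iv5 F483193) (iv2 F483197)
theorem F483557 : act 3 n216267 = n213782 := d6_1 D216267 F483554 (iv3 D216266)
theorem F483558 : act 4 n216267 = n213788 := d9_1 D216267 F472094 (iv4 F459533) F276876 F361734 D208373 F459528 (iv5 F365472) (iv4 F456407) F459526 F459522 F276430 F160974 D105056 F365252
theorem F483559 : act 6 n216267 = n209176 := d12_2 (iv6 F365251) D216267 F452591 (iv6 D193840) (iv5 F294288)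
theorem F483560 : act 7 n216267 = n194737 := d13_2 F483200 D216267 (iv5 F483201)
theorem F483561 : act 0 n216267 = n210144 := d17_2 D182253 D216267 (iv5 F469852) F469851 (iv5 D210295) F380783 (iv5 F283695) (iv0 F365250) F283697
theorem F483562 : act 0 n210074 = n216267 := d21_7 F133549 (iv1 D41195) D41197 D88282 D185287 (iv6 F454696) (iv5 F456063) (iv5 D216267) F365251 F294285
def n216268 : Q := act 3 n182254
theorem D216268 : act 3 n182254 = n216268 := rfl
theorem F483563 : act 5 n216268 = n210158 := d6_2 F365472 D216268 F456405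
theorem F483564 : act 6 n211612 = n216268 := d12_0 F483563 (iv6 D210158) F357293 D143397 D211612
def n216269 : Q := act 6 n182254
theorem D216269 : act 6 n182254 = n216269 := rfl
theorem F483565 : act 2 n216269 = n213384 := d3_1 D216269 F483203 (iv2 F483204)
theorem F483566 : act 3 n216269 = n211612 := d7_1 D216269 F483564 (iv3 D216268)
theorem F483567 : act 4 n216269 = n216195 := d10_1 D216269 F483334 F459528
theorem F483568 : act 5 n216269 = n203030 := d12_1 D216269 (iv6 D203030) F350790 D137717 F365472
theorem F483569 : act 7 n216269 = n213385 := d14_2 (iv7 F483198) D216269 (iv6 F470175) (iv7 F287450) (iv6 F483195)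
theorem F483570 : act 0 n216269 = n213301 := d21_10 (iv5 D213301) (iv1 D153389) D153390 F240951 D153422 D213310 F469852 F456342 F365472 D216269
theorem F483571 : act 0 n213299 = n216269 := d21_4 (iv5 F438515) F470896 F470895 F470180 (iv6 D216269) (iv5 F365472) (iv1 F470238) F456063 F454696 (iv1 F432311)
def n216270 : Q := act 1 n182255
theorem D216270 : act 1 n182255 = n216270 := rfl
theorem F483572 : act 1 n216270 = n209701 := d15_1 D216270 F454672 F377075
theorem F483573 : act 7 n216270 = n205855 := d15_2 (iv0 F456369) D216270 (iv2 F456366)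
theorem F483574 : act 4 n216270 = n193291 := d17_9 (iv1 D193291) (iv5 F377744) (iv1 F459531) (iv5 F472094) (iv4 F483558) (iv5 D216267) (iv0 D182253) D182255 D216270
theorem F483575 : act 2 n209700 = n216270 := d1_3 F483574 F459564 F459563
theorem F483576 : act 6 n209678 = n216270 := d10_0 F483574 F481555 F481552
theorem F483577 : act 5 n216270 = n213408 := d21_6 (iv5 D75047) F109926 (iv5 F240870) D213293 (iv1 F469767) F483576 (iv1 D213408) (iv5 F351876) (iv6 D138209) (iv1 F351597)
def n216271 : Q := act 1 n182258
theorem D216271 : act 1 n182258 = n216271 := rfl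
theorem F483578 : act 7 n216271 = n183487 := d15_2 (iv0 F378903) D216271 (iv2 F378891)
theorem F483579 : act 5 n216271 = n185311 := d17_7 (iv1 F368567) (iv5 F386838) (iv1 F386840) (iv5 F471334) F471333 F285732 D216271 F378193 F378192
theorem F483580 : act 4 n216271 = n191181 := d17_9 F382496 (iv5 F394581) (iv1 F394583) (iv5 F378201) (iv4 D189909) D189910 F378205 F285732 D216271
theorem F483581 : act 3 n192548 = n216271 := d20_3 (iv4 F339543) F376524 (iv4 F387030) (iv1 D216271) (iv3 D182258) F133558 (iv1 F70224) F70220 (iv3 F136953) (iv1 F339555)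
theorem F483582 : act 6 n183124 = n216271 := d21_3 (iv5 F354449) (iv1 F386638) F386634 (iv1 D216271) (iv6 F293842) F293841 (iv1 F366084) (iv5 D184065) (iv6 F177433) (iv1 F159626)
theorem F483583 : act 2 n216271 = n183486 := d3_1 F483582 F384399 F384400
theorem F483584 : act 0 n183481 = n216271 := d21_4 (iv5 F350435) F356272 (iv5 D183480) D183481 (iv6 F483582) (iv5 F386634) F386637 (iv5 D104140) F293905 D95396
def n216272 : Q := act 2 n182258
theorem D216272 : act 2 n182258 = n216272 := rfl
theorem F483585 : act 3 n216272 = n189030 := d0_2 D182258 D216272 (iv2 F375493) F287617 F135229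
theorem F483586 : act 4 n216272 = n186899 := d1_2 (iv4 F283702) D216272 F368457
theorem F483587 : act 5 n216272 = n194111 := d2_2 F285732 D216272 F392077
theorem F483588 : act 6 n216272 = n192610 := d3_2 F293842 D216272 F387237
theorem F483589 : act 7 n216272 = n183481 := d4_2 (iv7 F283703) D216272 F285236
theorem F483590 : act 1 n216272 = n183486 := d15_0 (iv0 D183486) (iv7 F283703) D216272
theorem F483591 : act 1 n183487 = n216272 := d15_0 F483590 (iv7 F378902) F378891
def n216273 : Q := act 3 n182265
theorem D216273 : act 3 n182265 = n216273 := rfl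
theorem F483592 : act 2 n216273 = n187702 := d0_1 D216273 F371243 (iv2 F291665) (iv3 F287796) F287800
theorem F483593 : act 5 n216273 = n187701 := d6_2 F294479 D216273 F371238
theorem F483594 : act 4 n216273 = n216186 := d20_6 D182160 F283613 (iv4 D87028) (iv3 F133583) D182265 D216273 (iv1 D216186) (iv4 D182155) F133493 D86980
def n216274 : Q := act 4 n182265
theorem D216274 : act 4 n182265 = n216274 := rfl
theorem F483595 : act 0 n216274 = n216055 := d17_0 F482689 F467781 (iv5 F467782) F383489 F151782 F151748 D191418 (iv0 F383434) D216274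
theorem F483596 : act 1 n216274 = n209762 := d15_1 (iv0 F483595) (iv7 F469988) (iv2 F482687)
theorem F483597 : act 6 n216274 = n209403 := d21_5 F219539 (iv1 F336167) (iv5 F220066) D209762 (iv1 F483596) (iv5 D209403) (iv1 D136438) D136439 F219536 D136443
def n216275 : Q := act 6 n182265
theorem D216275 : act 6 n182265 = n216275 := rfl
theorem F483598 : act 4 n216275 = n209403 := d10_1 D216275 (iv6 F483597) (iv4 D216274)
theorem F483599 : act 5 n216275 = n183408 := d12_1 D216275 (iv6 D183408) F294475 D182593 F294479
theorem F483600 : act 0 n216264 = n216275 := d21_4 F469386 (iv1 D185260) (iv5 F283696) D216264 (iv6 D216275) (iv5 F294479) F294477 F151779 D191437 F454270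
def n216276 : Q := act 3 n182266
theorem D216276 : act 3 n182266 = n216276 := rfl
theorem F483601 : act 4 n216276 = n182269 := d5_2 D182266 D216276 (iv3 D182269) (iv4 D87028) (iv3 F133583)
theorem F483602 : act 6 n216276 = n216006 := d7_2 F451859 D216276 F482503
def n216277 : Q := act 1 n182269
theorem D216277 : act 1 n182269 = n216277 := rfl
def n216278 : Q := act 3 n182271
theorem D216278 : act 3 n182271 = n216278 := rfl
def n216279 : Q := act 6 n182271
theorem D216279 : act 6 n182271 = n216279 := rfl
theorem F483603 : act 4 n216279 = n213265 := d10_1 D216279 (iv6 D213265) F381167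
theorem F483604 : act 5 n216279 = n195814 := d12_1 D216279 (iv6 F467552) F467551 (iv6 F459891) F434336
theorem F483605 : act 7 n216279 = n213397 := d14_2 F432426 D216279 (iv6 D213397) F241543 (iv6 F432425)
theorem F483606 : act 0 n216279 = n206221 := d21_4 (iv5 F459916) F459919 F434336 D216279 F470188 F470187 (iv1 F458346) F438515 F432306 F351881
theorem F483607 : act 0 n213389 = n216279 := d21_4 F366699 (iv1 F240946) D153646 D213389 (iv6 D216279) (iv5 F434336) (iv1 F459909) F459907 F358780 (iv1 F366701)
def n216280 : Q := act 3 n182272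
theorem D216280 : act 3 n182272 = n216280 := rfl
theorem F483608 : act 6 n216280 = n213396 := d7_2 (iv6 F366802) D216280 (iv3 D213396)
def n216281 : Q := act 0 n182278
theorem D216281 : act 0 n182278 = n216281 := rfl
theorem F483609 : act 5 n216281 = n194135 := d17_1 D216281 (iv1 F392163) D203578 F428969 (iv5 D138067) D138066 F419230 F365549 (iv4 F283733)
theorem F483610 : act 4 n216281 = n184962 := d18_1 D216281 (iv1 D184962) F337933 (iv5 F287546) (iv4 F442929) (iv0 F462581) (iv4 F469753) (iv0 F469756) F369417
theorem F483611 : act 2 n191302 = n216281 := d15_3 (iv0 D216281) (iv0 F354904) D191302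
theorem F483612 : act 1 n184981 = n216281 := d15_0 (iv0 D216281) (iv7 F470886) F470883
theorem F483613 : act 7 n216281 = n191301 := d15_2 F369452 F483612 (iv2 D191301)
theorem F483614 : act 3 n193759 = n216281 := d19_19 (iv1 F483612) (iv5 F369456) F369455 F212942 (iv1 F212075) (iv5 D132288) F96719 D62528 F101977 F99121 (iv4 F328967) (iv3 F357916) F354160 (iv5 F368882) F368881 F382983 (iv1 F483188) F483186 (iv4 F390924)
def n216282 : Q := act 4 n182279
theorem D216282 : act 4 n182279 = n216282 := rfl
theorem F483615 : act 3 n216282 = n212342 := d5_1 D216282 F465402 F443220 F321774 D182279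
theorem F483616 : act 7 n216282 = n208290 := d11_2 (iv7 F283735) D216282 F448762
theorem F483617 : act 0 n216282 = n188585 := d17_0 F419901 (iv1 D159715) (iv5 D76410) F55270 D34917 D76423 D159752 F283737 D216282
theorem F483618 : act 1 n216282 = n214523 := d18_6 (iv1 F372623) F371132 F289803 (iv4 F135474) (iv5 F283734) D216282 F475612 F374083 F374082
def n216283 : Q := act 2 n182285
theorem D216283 : act 2 n182285 = n216283 := rfl
theorem F483619 : act 3 n216283 = n203148 := d0_2 D182285 D216283 (iv2 F427170) (iv3 F352108) F142289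
theorem F483620 : act 4 n216283 = n187196 := d1_2 F369508 D216283 (iv2 F369515)
theorem F483621 : act 5 n216283 = n206314 := d2_2 F369516 D216283 (iv2 F440196)
theorem F483622 : act 6 n216283 = n211671 := d3_2 F479352 D216283 (iv2 F479349)
theorem F483623 : act 7 n216283 = n211665 := d4_2 F283818 D216283 F462578
theorem F483624 : act 1 n216283 = n206297 := d15_0 (iv0 F440130) F283818 D216283
theorem F483625 : act 1 n185248 = n216283 := d15_0 F483624 F440129 F368206
def n216284 : Q := act 2 n182291
theorem D216284 : act 2 n182291 = n216284 := rfl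
theorem F483626 : act 3 n216284 = n189674 := d0_2 D182291 D216284 F377342 F145466 F133607
theorem F483627 : act 4 n216284 = n189030 := d1_2 (iv4 F287619) D216284 (iv2 F375493)
theorem F483628 : act 5 n216284 = n185874 := d2_2 (iv5 F283798) D216284 (iv2 D185874)
theorem F483629 : act 6 n216284 = n187926 := d3_2 (iv6 F283799) D216284 F371847
theorem F483630 : act 7 n216284 = n188507 := d4_2 F292141 D216284 F373760
theorem F483631 : act 1 n216284 = n188508 := d15_0 (iv0 D188508) F292141 D216284
theorem F483632 : act 1 n188509 = n216284 := d15_0 F483631 (iv7 F373769) F373771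
def n216285 : Q := act 3 n182292
theorem D216285 : act 3 n182292 = n216285 := rfl
theorem F483633 : act 2 n216285 = n197616 := d0_1 D216285 F405035 (iv2 F176265) (iv3 F342191) F293279
theorem F483634 : act 5 n216285 = n185791 := d6_2 (iv5 F283809) D216285 (iv3 D185791)
theorem F483635 : act 6 n216285 = n197613 := d7_2 F336040 D216285 F405023
theorem F483636 : act 7 n216285 = n207079 := d8_2 F321775 D216285 F443220
theorem F483637 : act 0 n216285 = n215559 := d20_4 (iv4 D87042) D87041 D182292 D216285 F480498 (iv4 D181686) (iv1 F310634) F310635 (iv3 F339575) F143479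
theorem F483638 : act 0 n211476 = n216285 := d20_4 (iv4 D69534) F319988 (iv4 F225299) (iv3 F461714) (iv3 D216285) (iv4 D182292) (iv1 F133612) D92472 F352108 (iv1 D148386)
def n216286 : Q := act 0 n182386
theorem D216286 : act 0 n182386 = n216286 := rfl
theorem F483639 : act 5 n216286 = n205798 := d17_1 D216286 (iv1 D205798) (iv5 F365383) F221051 F328975 F133784 D96473 F295108 D182386
theorem F483640 : act 4 n216286 = n215310 := d18_3 F295109 D182386 D216286 F479328 (iv4 D190641) (iv0 D96294) F70691 D45044 (iv5 F295064)
theorem F483641 : act 2 n183410 = n216286 := d15_3 (iv0 D216286) (iv0 F365732) (iv7 F412713)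
theorem F483642 : act 1 n183390 = n216286 := d15_0 (iv0 D216286) (iv7 F295124) (iv2 F285104)
theorem F483643 : act 7 n216286 = n183409 := d15_2 (iv0 F363998) F483642 (iv2 F412714)
theorem F483644 : act 3 n207065 = n216286 := d19_19 (iv1 F483642) (iv5 F465645) F465644 F448047 (iv1 F251524) (iv5 F448315) F448313 F440986 F377365 F376288 (iv4 D176852) D176851 (iv1 F359856) (iv5 F379781) (iv4 F399783) F399782 (iv1 F164572) D196026 (iv4 F443168)
def n216287 : Q := act 5 n182392
theorem D216287 : act 5 n182392 = n216287 := rfl
theorem F483645 : act 2 n216287 = n207580 := d2_1 D216287 (iv5 D207580) F363959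
theorem F483646 : act 3 n216287 = n208597 := d6_1 D216287 (iv5 D208597) F363961
theorem F483647 : act 6 n216287 = n211290 := d12_2 F440765 D216287 (iv5 D211290) (iv6 F359702) (iv5 F440764)
theorem F483648 : act 7 n216287 = n207581 := d13_2 F363960 D216287 (iv5 D207581)
theorem F483649 : act 4 n216287 = n208679 := d16_2 (iv4 F363958) D216287 F450428 (iv4 D190479) D190480 (iv4 F399277) (iv5 D196066) F218394 (iv2 F218395)
theorem F483650 : act 1 n216287 = n208823 := d17_6 (iv1 F164292) (iv5 F211658) (iv1 F399280) (iv5 F349640) (iv4 F363958) D216287 F456384 F456380 (iv4 D196108)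
theorem F483651 : act 0 n216287 = n208808 := d21_1 D216287 F450963 F444155 (iv1 D189896) (iv6 D95423) F70082 F61362 D40464 D87089 D182392
def n216288 : Q := act 5 n182393
theorem D216288 : act 5 n182393 = n216288 := rfl
theorem F483652 : act 2 n216288 = n207581 := d2_1 D216288 (iv5 D207581) F363970
theorem F483653 : act 4 n216288 = n188628 := d9_1 D216288 (iv5 F377098) F379219 D190477 F379861 (iv5 F349640) (iv4 F363958) D216287 F483649 F450428 (iv4 D190479) D190480 (iv4 F399277) (iv5 D196066) (iv4 F363971)
theorem F483654 : act 7 n216288 = n207580 := d13_2 (iv7 F363972) D216288 (iv5 D207580)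
theorem F483655 : act 0 n216288 = n208823 := d17_2 F337802 D216288 F456384 F456381 F445089 F445111 F445109 (iv0 F211415) (iv4 F213538)
theorem F483656 : act 1 n216288 = n208808 := d17_6 (iv1 D106659) (iv5 F164267) F399278 (iv5 D196066) (iv4 F363971) D216288 F450963 F444148 F349654
theorem F483657 : act 6 n216288 = n188467 := d21_3 F364104 F337802 D216288 (iv1 F373584) F356700 F356701 (iv1 F356711) (iv5 F398395) (iv6 F398399) (iv1 F377015)
def n216289 : Q := act 6 n182419
theorem D216289 : act 6 n182419 = n216289 := rfl
theorem F483658 : act 2 n216289 = n216168 := d3_1 D216289 (iv6 D216168) (iv2 F344333)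
theorem F483659 : act 3 n216289 = n186799 := d7_1 D216289 (iv6 D186799) F344338
theorem F483660 : act 5 n216289 = n185030 := d12_1 D216289 (iv6 D185030) (iv5 F339542) (iv6 D182692) (iv5 F344335)
theorem F483661 : act 0 n213550 = n216289 := d21_4 (iv5 F430881) (iv1 F470862) F470858 D213550 (iv6 D216289) F344335 F294197 (iv5 F327072) F327073 D170762
theorem F483662 : act 1 n208868 = n216289 := d15_0 (iv0 F483661) F470989 (iv2 F451173)
def n216290 : Q := act 3 n182420
theorem D216290 : act 3 n182420 = n216290 := rfl
theorem F483663 : act 2 n216290 = n186796 := d0_1 D216290 F368041 F344340 D137582 (iv2 F362417)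
theorem F483664 : act 5 n216290 = n182694 := d6_2 (iv5 F362418) D216290 (iv3 D182694)
theorem F483665 : act 7 n216290 = n210104 := d8_2 (iv7 F362419) D216290 F456169
theorem F483666 : act 0 n216290 = n194179 := d19_4 D129662 D206969 F442780 D216290 (iv5 D194179) (iv4 D102893) (iv3 F293466) F293465 (iv5 F293764) F331362 (iv3 F381942) F381944 F378379 F380108 (iv3 F483077) F483081 F442766 F442764 F207835
theorem F483667 : act 0 n191680 = n216290 := d20_4 D191487 (iv1 F384135) (iv4 D191681) D191680 (iv3 D216290) (iv4 F442780) F442779 (iv4 D191580) (iv3 F357368) (iv1 F376086)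
def n216291 : Q := act 3 n182488
theorem D216291 : act 3 n182488 = n216291 := rfl
theorem F483668 : act 2 n216291 = n209239 := d0_1 D216291 F452837 F218841 (iv3 F220345) F346641
theorem F483669 : act 4 n216291 = n194774 := d5_2 (iv4 F417328) D216291 (iv3 F417332) (iv4 D200642) D200641
theorem F483670 : act 5 n216291 = n210322 := d6_2 F388174 D216291 (iv3 F457016)
theorem F483671 : act 7 n216291 = n201039 := d8_2 (iv7 F346642) D216291 F418839
theorem F483672 : act 0 n216291 = n194777 := d19_4 F395685 (iv5 F417326) (iv4 F417328) D216291 (iv5 F394428) (iv4 F397259) (iv3 D195535) (iv1 D105660) D105661 D195538 F397275 (iv1 F168910) D125831 (iv4 F360425) (iv3 F416872) (iv1 D198893) F355902 (iv4 D106209) D106208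
theorem F483673 : act 1 n216291 = n209237 := d15_1 (iv0 F483672) F452832 F394464
theorem F483674 : act 6 n216291 = n193554 := d21_5 F380112 (iv1 F295183) F357389 (iv6 F452830) (iv1 F483673) (iv5 D193554) (iv1 F386597) (iv5 F448880) (iv6 D208314) (iv1 F380115)
def n216292 : Q := act 6 n182488
theorem D216292 : act 6 n182488 = n216292 := rfl
theorem F483675 : act 2 n216292 = n208547 := d3_1 D216292 F449828 F346641
theorem F483676 : act 3 n216292 = n193554 := d7_1 D216292 (iv6 F483674) (iv3 D216291)
theorem F483677 : act 4 n216292 = n206503 := d10_1 D216292 F441116 (iv4 F417328)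
theorem F483678 : act 5 n216292 = n193553 := d12_1 D216292 (iv6 F390256) D193763 (iv6 F390938) F388174
theorem F483679 : act 7 n216292 = n209213 := d14_2 (iv7 F346642) D216292 (iv6 D209213) F218731 D137153
theorem F483680 : act 0 n216292 = n206550 := d21_4 F352526 D192906 F388174 D216292 (iv6 D206550) (iv5 F368009) F368011 D189156 (iv6 F386881) F386884
theorem F483681 : act 0 n208363 = n216292 := d21_4 F147809 D186578 (iv5 F367303) D208363 (iv6 D216292) (iv5 F388174) (iv1 F417983) (iv5 D200805) (iv6 F380027) (iv1 D190536)
theorem F483682 : act 4 n194094 = n216236 := d18_5 F483680 F441287 (iv1 F399267) (iv4 F449392) (iv5 F449396) F483434 F358600 (iv0 F390248) (iv5 F483678)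
def n216293 : Q := act 5 n182513
theorem D216293 : act 5 n182513 = n216293 := rfl
theorem F483683 : act 2 n216293 = n205407 := d2_1 D216293 F436337 (iv2 F434829)
theorem F483684 : act 3 n216293 = n205377 := d6_1 D216293 F436146 F418114
theorem F483685 : act 6 n216293 = n205376 := d12_2 F443409 D216293 (iv5 F438834) F443419 (iv5 F443411)
theorem F483686 : act 1 n216293 = n205379 := d17_8 (iv1 F416844) F202387 (iv1 F202011) F358966 D205337 F435970 (iv0 F418050) D216293 (iv4 F436155)
def n216294 : Q := act 0 n182515
theorem D216294 : act 0 n182515 = n216294 := rfl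
def n216295 : Q := act 1 n182515
theorem D216295 : act 1 n182515 = n216295 := rfl
theorem F483687 : act 1 n216295 = n205337 := d15_1 D216295 F435969 (iv2 F366131)
theorem F483688 : act 4 n216295 = n198891 := d18_7 (iv1 F435676) F435678 (iv1 F416821) (iv4 D200515) (iv5 F416829) F416828 D216295 (iv0 F477073) (iv5 D214836)
theorem F483689 : act 3 n200847 = n216295 := d19_19 (iv1 D216295) (iv5 D182515) F133720 (iv3 F133717) D182488 (iv5 F388174) F417952 (iv3 D196762) (iv1 F172206) F172204 F80777 (iv3 F80760) (iv1 F80763) (iv5 F96592) (iv4 F211706) (iv3 F342883) (iv1 F161221) D113553 D200847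
theorem F483690 : act 6 n198890 = n216295 := d21_3 F436125 (iv1 F436902) F436899 (iv1 D216295) (iv6 F366130) F202754 (iv1 F170140) D198748 F409061 D205373
def n216296 : Q := act 7 n182515
theorem D216296 : act 7 n182515 = n216296 := rfl
theorem F483691 : act 2 n216296 = n205337 := d4_1 D216296 F435969 (iv2 F366131)
theorem F483692 : act 3 n216296 = n205335 := d8_1 D216296 F435962 (iv3 F359714)
theorem F483693 : act 4 n216296 = n200533 := d11_1 D216296 (iv7 F416912) F416828
theorem F483694 : act 5 n216296 = n182516 := d13_1 D216296 (iv7 D182516) D182515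
theorem F483695 : act 6 n216296 = n205334 := d14_1 D216296 F435958 (iv6 D126047) D126048 F366130
theorem F483696 : act 1 n205337 = n216294 := d15_0 (iv0 D216294) D216296 F483691
theorem F483697 : act 1 n205478 = n216296 := d15_1 D205478 (iv7 D216296) F366131
theorem F483698 : act 1 n216296 = n205477 := d15_0 (iv0 D205477) (iv7 F435969) (iv2 F483691)
def n216297 : Q := act 4 n182518
theorem D216297 : act 4 n182518 = n216297 := rfl
theorem F483699 : act 2 n216297 = n211246 := d1_1 D216297 F460790 F352438
theorem F483700 : act 0 n216297 = n207789 := d17_0 (iv5 D207789) (iv1 F423610) (iv5 F445989) F445988 F360208 D202298 F423548 (iv0 F398044) D216297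
theorem F483701 : act 1 n216297 = n207853 := d18_8 (iv1 F438602) (iv4 D205960) (iv1 F220095) (iv4 F347269) D206902 F442557 (iv0 F398044) D216297 (iv5 D207853)
def n216298 : Q := act 3 n182519
theorem D216298 : act 3 n182519 = n216298 := rfl
theorem F483702 : act 2 n216298 = n206661 := d0_1 D216298 F441785 (iv2 F211675) (iv3 F436226) F436225
theorem F483703 : act 5 n216298 = n200571 := d6_2 F436218 D216298 (iv3 F436217)
theorem F483704 : act 6 n216298 = n206584 := d7_2 (iv6 F445548) D216298 F445550
theorem F483705 : act 0 n216298 = n200677 := d19_4 F388172 F358597 D182519 D216298 F417439 F202225 F366351 (iv1 F435246) (iv5 F435636) (iv4 D205257) F363492 F369714 (iv5 F373464) (iv4 F471740) F471739 F410002 F410001 F386622 (iv3 F388170)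
def n216299 : Q := act 3 n182701
theorem D216299 : act 3 n182701 = n216299 := rfl
theorem F483706 : act 2 n216299 = n186800 := d0_1 D216299 (iv3 D186800) F368037 (iv3 F368040) (iv2 F361058)
theorem F483707 : act 4 n216299 = n186686 := d5_2 F442786 D216299 (iv3 F367677) (iv4 F475457) F475456
theorem F483708 : act 5 n216299 = n192082 := d6_2 F339538 D216299 F385473
theorem F483709 : act 7 n216299 = n208764 := d8_2 F361057 D216299 (iv3 D208764)
theorem F483710 : act 0 n216299 = n189661 := d19_4 F465557 (iv5 F465558) F442786 D216299 (iv5 D189661) (iv4 D94280) F144586 (iv1 D43904) D43907 D93937 D189389 F380117 (iv5 D189958) (iv4 F294215) F294214 F284881 D190376 (iv4 F465616) F465613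
theorem F483711 : act 0 n186449 = n216299 := d20_4 F356310 D137985 F356318 (iv3 F289262) (iv3 D216299) (iv4 F442786) (iv1 F442787) (iv4 D191576) (iv3 F411671) F411668
def n216300 : Q := act 4 n182766
theorem D216300 : act 4 n182766 = n216300 := rfl
theorem F483712 : act 2 n216300 = n207500 := d1_1 D216300 F445159 F380708
theorem F483713 : act 6 n216300 = n205586 := d10_2 F358302 D216300 (iv4 D205586)
theorem F483714 : act 7 n216300 = n196113 := d11_2 F380713 D216300 F399467
theorem F483715 : act 5 n216300 = n196114 := d16_5 F373223 D211125 F460204 (iv5 F358301) D216300 F399484 (iv5 F410353) F410354 (iv2 F373222)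
theorem F483716 : act 0 n216300 = n196032 := d17_0 (iv5 F417174) (iv1 F417176) (iv5 F436942) F436943 F395382 F380698 (iv5 F377705) F377707 D216300
theorem F483717 : act 1 n216300 = n207501 := d18_8 F417130 F394054 (iv1 F394055) F389062 F384103 F380129 F377707 D216300 F445165
theorem F483718 : act 3 n216300 = n196115 := d19_3 F360457 (iv5 F358301) D216300 (iv1 F399490) F342964 (iv4 D62302) (iv3 D29477) (iv1 D14014) F10814 (iv4 F19755) F323904 (iv1 D17334) F296034 (iv4 F27360) (iv3 D16693) (iv1 F27357) (iv5 F33927) (iv4 F70734) D96342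
def n216301 : Q := act 3 n182767
theorem D216301 : act 3 n182767 = n216301 := rfl
theorem F483719 : act 7 n216301 = n200786 := d8_2 (iv7 F380712) D216301 F417896
theorem F483720 : act 1 n206656 = n216301 := d15_1 F441772 F483719 (iv2 F418460)
theorem F483721 : act 1 n216301 = n206657 := d15_1 F483720 F441770 (iv2 F441763)
def n216302 : Q := act 4 n182767
theorem D216302 : act 4 n182767 = n216302 := rfl
theorem F483722 : act 2 n216302 = n196113 := d1_1 D216302 F399467 (iv2 F380714)
theorem F483723 : act 6 n216302 = n196030 := d10_2 F441122 D216302 (iv4 F441121)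
theorem F483724 : act 7 n216302 = n207500 := d11_2 (iv7 F380712) D216302 F445159
theorem F483725 : act 5 n216302 = n196111 := d16_1 D216302 F399459 (iv5 F373224) F373223 D211125 F460204 (iv5 F358301) (iv7 F380713) (iv2 F380714)
theorem F483726 : act 0 n216302 = n207501 := d17_0 F445165 F417130 F342947 (iv4 F395376) F395377 (iv0 D190706) F148454 D182767 D216302
theorem F483727 : act 1 n216302 = n196032 := d18_6 (iv1 F436024) (iv4 F405660) F412915 F412913 (iv5 F380716) D216302 (iv4 F417204) (iv0 F417206) (iv5 F436020)
def n216303 : Q := act 6 n182770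
theorem D216303 : act 6 n182770 = n216303 := rfl
theorem F483728 : act 3 n216303 = n207855 := d7_1 D216303 F446737 F442277
theorem F483729 : act 4 n216303 = n211255 := d10_1 D216303 F460823 (iv4 F394026)
theorem F483730 : act 0 n216303 = n208309 := d21_4 F456818 (iv1 F380132) F380127 D216303 (iv6 D208309) (iv5 F416900) (iv1 F416902) (iv5 F400041) (iv6 F443353) F456821
theorem F483731 : act 5 n216303 = n205478 := d21_6 (iv5 F295055) (iv1 F70840) F70838 D87245 D182770 D216303 (iv1 D205478) F366132 (iv6 D125380) (iv1 F294441)
theorem F483732 : act 0 n213554 = n216303 := d21_4 (iv5 F347555) D201139 F419222 D213554 (iv6 D216303) (iv5 F380127) (iv1 D190555) (iv5 F152021) (iv6 F336401) (iv1 D183460)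
def n216304 : Q := act 0 n182772
theorem D216304 : act 0 n182772 = n216304 := rfl
theorem F483733 : act 5 n216304 = n207107 := d17_1 D216304 F443360 F367839 F295376 (iv5 F148454) (iv0 F358299) (iv5 F395382) (iv0 F395386) F364845
theorem F483734 : act 4 n216304 = n196094 := d18_1 D216304 (iv1 F417143) F211504 D206577 F441404 F378152 (iv4 F394026) (iv0 D182770) D182772
theorem F483735 : act 6 n216304 = n214925 := d21_5 F417890 (iv1 F347422) D190709 F380729 D216304 (iv5 D214925) F435987 F435983 (iv6 D200798) (iv1 F417894)
theorem F483736 : act 3 n207110 = n216304 := d7_3 F483735 F477462 (iv6 F443373)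
theorem F483737 : act 7 n191676 = n216304 := d14_0 F483735 F477464 (iv6 D209068) F330440 (iv6 F399370)
theorem F483738 : act 0 n216304 = n186735 := d21_4 F437135 (iv1 F417725) D214925 (iv6 F483735) F441674 (iv5 F469199) F469200 (iv5 F471000) (iv6 F471002) (iv1 F437137)
theorem F483739 : act 2 n216304 = n191675 := d15_3 (iv0 D191675) D191676 F483737
def n216305 : Q := act 1 n182772
theorem D216305 : act 1 n182772 = n216305 := rfl
theorem F483740 : act 1 n216305 = n186735 := d15_1 D216305 F367833 (iv2 F364844)
theorem F483741 : act 7 n216305 = n191675 := d15_2 (iv0 D216304) D216305 (iv2 F483739)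
theorem F483742 : act 4 n216305 = n196087 := d17_9 F436031 (iv5 D205350) D205349 F436020 F402714 F380127 (iv0 D182770) D182772 D216305
theorem F483743 : act 5 n216305 = n210293 := d18_9 F456890 (iv4 F389062) F394032 (iv4 F394035) (iv5 F436942) F436943 (iv0 F395386) F364845 D216305
theorem F483744 : act 3 n206114 = n216305 := d19_19 (iv1 D216305) (iv5 D182772) F133890 (iv3 F295048) D96149 D190542 F380036 F365752 (iv1 F343100) (iv5 F343102) F172617 (iv3 F172585) (iv1 F172588) (iv5 F165661) (iv4 F164308) D132249 D207728 (iv5 F453361) F453338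
theorem F483745 : act 2 n216305 = n191676 := d0_1 F483744 (iv3 F441266) F441265 (iv3 F452106) F452111
theorem F483746 : act 6 n216305 = n196083 := d7_2 (iv6 F452112) F483744 F441355
def n216306 : Q := act 7 n182772
theorem D216306 : act 7 n182772 = n216306 := rfl
theorem F483747 : act 2 n216306 = n186735 := d4_1 D216306 F367833 (iv2 F364844)
theorem F483748 : act 3 n216306 = n191674 := d8_1 D216306 (iv7 F456819) F456816
theorem F483749 : act 4 n216306 = n195007 := d11_1 D216306 F395392 F364845
theorem F483750 : act 5 n216306 = n182773 := d13_1 D216306 (iv7 D182773) D182772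
theorem F483751 : act 6 n216306 = n207610 := d14_1 D216306 F445668 (iv6 D205473) (iv7 F380730) F380729
theorem F483752 : act 1 n191676 = n216306 := d15_1 D191676 (iv7 D216306) F364844
theorem F483753 : act 1 n216306 = n191675 := d15_1 F483752 (iv7 F483741) F483745
def n216307 : Q := act 4 n182775
theorem D216307 : act 4 n182775 = n216307 := rfl
theorem F483754 : act 2 n216307 = n205789 := d1_1 D216307 (iv4 F437873) F413134
theorem F483755 : act 7 n216307 = n208947 := d11_2 (iv7 F413131) D216307 F451512
theorem F483756 : act 5 n216307 = n205785 := d16_1 D216307 F437856 D210304 F456926 (iv5 F468952) F468951 (iv5 D199689) D199690 F413134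
theorem F483757 : act 0 n216307 = n208949 := d18_2 (iv1 F413137) D216307 (iv4 F451522) F383903 F239740 D152554 (iv4 F394030) (iv0 F434955) (iv5 F449272)
theorem F483758 : act 1 n206861 = n207747 := d17_6 (iv1 F413132) (iv5 F456196) (iv1 F449290) F449288 (iv4 F443157) F443166 (iv5 F451524) (iv0 F483757) (iv4 D216307)
theorem F483759 : act 1 n216307 = n208948 := d15_1 (iv0 F483757) (iv7 F451520) F451523
def n216308 : Q := act 5 n182775
theorem D216308 : act 5 n182775 = n216308 := rfl
theorem F483760 : act 2 n216308 = n202296 := d2_1 D216308 F423536 F413134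
theorem F483761 : act 3 n216308 = n182777 := d6_1 D216308 (iv5 D182777) D182775
theorem F483762 : act 4 n216308 = n209088 := d9_1 D216308 F452195 (iv4 F453068) (iv5 D209291) (iv4 F437877) F437878 F217845 D199689 (iv4 F468951) F468952 (iv4 F456926) (iv5 D210304) (iv4 F437856) (iv5 F483756) (iv4 D216307)
theorem F483763 : act 6 n216308 = n202292 := d12_2 F450505 D216308 (iv5 D202292) (iv6 F422361) (iv5 F450504)
theorem F483764 : act 1 n216308 = n208417 := d17_6 F447106 (iv5 D207947) (iv1 F437880) (iv5 F483756) (iv4 D216307) D216308 (iv5 D208417) (iv0 D134281) (iv4 F216289)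
theorem F483765 : act 0 n216308 = n208418 := d21_1 D216308 (iv5 D208418) (iv6 F409987) (iv1 D170763) (iv6 F327073) F327072 (iv1 F294198) (iv5 F362418) F449273 (iv1 F413137)
def n216309 : Q := act 3 n182776
theorem D216309 : act 3 n182776 = n216309 := rfl
theorem F483766 : act 2 n216309 = n191615 := d0_1 D216309 (iv3 F383973) (iv2 F164302) (iv3 F399483) F399482
theorem F483767 : act 5 n216309 = n191593 := d6_2 F445158 D216309 F445162
theorem F483768 : act 7 n216309 = n191614 := d8_2 (iv7 F399461) D216309 (iv3 F399458)
theorem F483769 : act 0 n186702 = n216309 := d20_4 F147816 (iv1 F74855) D89059 D186702 (iv3 D216309) (iv4 D182776) (iv1 F332722) (iv4 F367847) (iv3 D186740) (iv1 F147814)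
theorem F483770 : act 1 n191616 = n216309 := d15_0 (iv0 F483769) F367728 D191616
def n216310 : Q := act 6 n182776
theorem D216310 : act 6 n182776 = n216310 := rfl
theorem F483771 : act 2 n216310 = n195958 := d3_1 D216310 (iv6 F399485) F399482
theorem F483772 : act 4 n216310 = n182778 := d10_1 D216310 (iv6 D182778) D182776
theorem F483773 : act 5 n216310 = n205333 := d12_1 D216310 F436102 (iv5 F436903) (iv6 F445160) F445158
theorem F483774 : act 7 n216310 = n195955 := d14_2 (iv7 F399461) D216310 (iv6 D195955) (iv7 F164295) D196111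
theorem F483775 : act 0 n216310 = n195725 := d21_4 F360821 D207500 F445158 D216310 (iv6 F397957) F336396 (iv1 D128959) (iv5 D60644) D60645 (iv1 F360820)
theorem F483776 : act 0 n195956 = n216310 := d21_4 (iv5 F330397) F398008 (iv5 F398007) (iv6 F398847) (iv6 D216310) (iv5 F445158) (iv1 F445161) (iv5 D206607) (iv6 F417132) (iv1 D184751)
def n216311 : Q := act 5 n182862
theorem D216311 : act 5 n182862 = n216311 := rfl
theorem F483777 : act 2 n216311 = n185739 := d2_1 D216311 (iv5 D185739) (iv2 F361261)
theorem F483778 : act 3 n216311 = n204743 := d6_1 D216311 (iv5 F473931) F473928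
theorem F483779 : act 6 n216311 = n187331 := d12_2 F382219 D216311 (iv5 F393676) F393677 (iv5 F382218)
theorem F483780 : act 7 n216311 = n185734 := d13_2 (iv7 F361262) D216311 (iv5 D185734)
def n216312 : Q := act 5 n182918
theorem D216312 : act 5 n182918 = n216312 := rfl
theorem F483781 : act 2 n216312 = n191381 := d2_1 D216312 (iv5 D191381) F354026
theorem F483782 : act 3 n216312 = n203985 := d6_1 D216312 (iv5 D203985) (iv3 F354028)
theorem F483783 : act 7 n216312 = n191387 := d13_2 F354027 D216312 (iv5 D191387)
theorem F483784 : act 4 n216312 = n192443 := d16_2 (iv4 F354029) D216312 F386731 (iv4 F386719) F386720 (iv4 D180112) (iv5 F342099) F351717 (iv2 F345520)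
theorem F483785 : act 1 n216312 = n213396 := d17_6 (iv1 D130156) (iv5 F320828) D86058 (iv5 F345519) (iv4 F354029) D216312 F470216 (iv0 F443312) (iv4 D207098)
def n216313 : Q := act 5 n182919
theorem D216313 : act 5 n182919 = n216313 := rfl
theorem F483786 : act 2 n216313 = n191387 := d2_1 D216313 (iv5 D191387) (iv2 F354010)
theorem F483787 : act 3 n216313 = n192303 := d6_1 D216313 (iv5 D192303) F354008
theorem F483788 : act 4 n216313 = n187140 := d9_1 D216313 F369224 (iv4 F372299) F372300 F345515 (iv5 F345519) (iv4 F354029) D216312 F483784 F386731 (iv4 F386719) F386720 (iv4 D180112) (iv5 F342099) F354009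
theorem F483789 : act 6 n216313 = n187139 := d12_2 F470726 D216313 F369218 F369221 D213503
theorem F483790 : act 7 n216313 = n191381 := d13_2 (iv7 F354011) D216313 (iv5 D191381)
theorem F483791 : act 0 n216313 = n213396 := d17_2 F354013 D216313 F470216 F434222 (iv5 F467724) (iv0 F480823) F480821 (iv0 F383228) F241416
def n216314 : Q := act 0 n182920
theorem D216314 : act 0 n182920 = n216314 := rfl
theorem F483792 : act 5 n216314 = n204253 := d17_3 (iv1 D182919) D182920 D216314 F431689 F303617 F322764 F321013 D98230 F354009
theorem F483793 : act 4 n216314 = n210524 := d18_1 D216314 F457915 F383499 (iv5 D120415) F300578 F151587 (iv4 F354029) (iv0 D182918) D182920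
theorem F483794 : act 2 n213297 = n216314 := d15_3 (iv0 D216314) (iv0 F480347) F480346
theorem F483795 : act 1 n213295 = n216314 := d15_0 (iv0 D216314) F366823 (iv2 F469777)
theorem F483796 : act 7 n216314 = n204112 := d15_2 F480348 F483795 (iv2 F480344)
theorem F483797 : act 3 n203988 = n216314 := d8_3 F483796 (iv3 D204112) (iv7 F430720)
def n216315 : Q := act 4 n182925
theorem D216315 : act 4 n182925 = n216315 := rfl
theorem F483798 : act 2 n216315 = n187143 := d1_1 D216315 (iv4 F384269) F384265
theorem F483799 : act 3 n216315 = n213340 := d5_1 D216315 F470002 (iv3 F387138) F387141 F383529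
theorem F483800 : act 7 n216315 = n187144 := d11_2 F384271 D216315 (iv4 F384274)
theorem F483801 : act 1 n216315 = n186010 := d18_6 (iv1 D172214) (iv4 F148681) F353220 (iv4 D182924) D182925 D216315 (iv4 F368802) (iv0 F390687) F390686
theorem F483802 : act 0 n216315 = n187145 := d20_1 D216315 F369236 (iv3 F368796) (iv1 D182181) F133502 D86989 (iv1 F283625) F283627 (iv3 F287661) F353219
theorem F483803 : act 6 n216315 = n194106 := d21_5 (iv5 D41520) F63727 D88603 D186010 (iv1 F483801) (iv5 D194106) (iv1 D102675) D102676 F157921 F74884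
def n216316 : Q := act 6 n182925
theorem D216316 : act 6 n182925 = n216316 := rfl
theorem F483804 : act 2 n216316 = n215617 := d3_1 D216316 F480778 F384265
theorem F483805 : act 3 n216316 = n209695 := d7_1 D216316 F454661 F383529
theorem F483806 : act 4 n216316 = n194106 := d10_1 D216316 (iv6 F483803) (iv4 D216315)
theorem F483807 : act 5 n216316 = n209694 := d12_1 D216316 F454659 F353215 (iv6 D182926) D182925
def n216317 : Q := act 6 n182927
theorem D216317 : act 6 n182927 = n216317 := rfl
theorem F483808 : act 2 n216317 = n190990 := d3_1 D216317 (iv6 D190990) (iv2 F284520)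
theorem F483809 : act 3 n216317 = n187316 := d7_1 D216317 (iv6 D187316) (iv3 F284521)
theorem F483810 : act 4 n216317 = n182929 := d10_1 D216317 (iv6 D182929) D182927
theorem F483811 : act 5 n216317 = n209484 := d12_1 D216317 F453887 (iv5 F390738) (iv6 F476572) F476571
theorem F483812 : act 7 n216317 = n215084 := d14_2 (iv7 F284522) D216317 (iv6 D215084) F300495 (iv6 F353206)
theorem F483813 : act 0 n216317 = n193737 := d21_10 (iv5 D193737) (iv1 F368769) F368763 (iv6 F386688) F386690 D192835 (iv5 F390743) (iv1 F476574) F476571 D216317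
theorem F483814 : act 0 n193740 = n216317 := d21_4 F380767 (iv1 F479300) F479297 (iv6 F390863) (iv6 D216317) (iv5 F476571) (iv1 F476573) F476434 F388075 F380769
def n216318 : Q := act 6 n182928
theorem D216318 : act 6 n182928 = n216318 := rfl
theorem F483815 : act 3 n216318 = n210811 := d7_1 D216318 F458870 F367444
def n216319 : Q := act 4 n182930
theorem D216319 : act 4 n182930 = n216319 := rfl
theorem F483816 : act 5 n216319 = n193676 := d17_5 F384267 F283682 D184323 (iv5 F368863) D216319 F390660 (iv5 F388086) F388088 (iv4 F384269)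
theorem F483817 : act 0 n216319 = n192319 := d17_0 F386415 F383647 D193964 F391538 (iv5 D182928) F152409 (iv5 F384289) F384291 D216319
theorem F483818 : act 1 n216319 = n215307 := d18_6 F363041 (iv4 F155004) D192870 F388064 (iv5 F368863) D216319 (iv4 D215307) (iv0 F387897) (iv5 D192819)
theorem F483819 : act 6 n188201 = n216319 := d21_5 F137363 (iv1 F290941) D42658 (iv6 F140109) D188201 F483816 (iv1 F390661) F367411 (iv6 D89601) D89598
def n216320 : Q := act 6 n182930
theorem D216320 : act 6 n182930 = n216320 := rfl
theorem F483820 : act 3 n216320 = n192628 := d7_1 D216320 F427405 (iv3 F386330)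
theorem F483821 : act 4 n216320 = n188201 := d10_1 D216320 F483819 (iv4 D216319)
theorem F483822 : act 7 n216320 = n216237 := d14_2 F384280 D216320 (iv6 D216237) D216238 (iv6 F483442)
theorem F483823 : act 0 n187023 = n216320 := d21_4 F369218 (iv1 F143166) F365803 D187023 (iv6 D216320) F368863 (iv1 F287655) F365783 (iv6 F288534) (iv1 F369220)
def n216321 : Q := act 4 n182931
theorem D216321 : act 4 n182931 = n216321 := rfl
theorem F483824 : act 6 n216321 = n216240 := d10_2 F483441 D216321 (iv4 D216240)
theorem F483825 : act 5 n216321 = n193674 := d17_5 F384272 (iv5 F365783) (iv1 F287657) F287658 D216321 F390654 F367411 D187144 (iv4 F384274)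
theorem F483826 : act 0 n216321 = n215307 := d18_2 (iv1 F384290) D216321 (iv4 D215307) (iv5 D172215) (iv4 F148681) (iv0 F289562) (iv4 D182927) F152409 (iv5 F384289)
theorem F483827 : act 1 n216321 = n192319 := d18_8 F383647 (iv4 F391524) (iv1 F391529) F389990 F368854 (iv4 D182932) D182931 D216321 F386415
theorem F483828 : act 5 n216240 = n194071 := d21_6 F383494 (iv1 D179819) (iv5 F311784) D192319 (iv1 F483827) F483824 F452681 F383695 (iv6 D191448) (iv1 F383492)
def n216322 : Q := act 3 n182932
theorem D216322 : act 3 n182932 = n216322 := rfl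
theorem F483829 : act 2 n216322 = n209761 := d0_1 D216322 (iv3 D209761) (iv2 F451837) F451838 F384283
theorem F483830 : act 4 n216322 = n182948 := d5_2 D182932 D216322 (iv3 D182948) (iv4 D87345) (iv3 F134097)
theorem F483831 : act 5 n216322 = n193453 := d6_2 F368854 D216322 F389886
theorem F483832 : act 7 n216322 = n193452 := d8_2 (iv7 F368853) D216322 F389882
theorem F483833 : act 0 n216322 = n209775 := d19_4 (iv1 D87338) D87339 D182932 D216322 F454912 (iv4 F354162) (iv3 F428863) (iv1 D203556) D203557 F428869 F210724 F278613 F278611 (iv4 F420493) (iv3 F429185) F429189 F420676 F251975 F283528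
theorem F483834 : act 0 n187038 = n216322 := d17_2 F354160 (iv5 F368882) F483831 F389887 (iv5 D128240) D128238 (iv5 F354152) F354150 (iv4 F275953)
def n216323 : Q := act 3 n182945
theorem D216323 : act 3 n182945 = n216323 := rfl
theorem F483835 : act 5 n216323 = n188145 := d6_2 (iv5 F345157) D216323 F446148
theorem F483836 : act 6 n216323 = n182948 := d7_2 (iv6 F284525) D216323 (iv3 D182948)
theorem F483837 : act 7 n216323 = n213312 := d8_2 (iv7 F345159) D216323 (iv3 D213312)
def n216324 : Q := act 0 n182947
theorem D216324 : act 0 n182947 = n216324 := rfl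
theorem F483838 : act 5 n216324 = n206219 := d17_3 (iv1 D188475) F295279 D216324 F439773 F237950 F139446 (iv5 F371549) F371552 (iv4 F373612)
theorem F483839 : act 4 n216324 = n193849 := d18_1 D216324 (iv1 D193849) (iv4 F391193) F391194 (iv4 D187498) D187497 (iv4 F370588) (iv0 F295277) F295279
theorem F483840 : act 0 n216324 = n185447 := d18_0 F356710 D216324 F483839 (iv5 F439745) (iv4 D206215) (iv0 D127797) D127799 D206219 (iv5 F483838)
theorem F483841 : act 6 n216324 = n213408 := d21_5 F133545 F63247 (iv5 F134099) D182947 D216324 (iv5 F483577) (iv1 D216270) (iv5 D182255) (iv6 D87015) D87012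
theorem F483842 : act 2 n185445 = n216324 := d1_3 F483839 F439749 (iv4 F391198)
theorem F483843 : act 7 n185446 = n216324 := d11_0 F483839 F439750 F377045
def n216325 : Q := act 1 n182947
theorem D216325 : act 1 n182947 = n216325 := rfl
theorem F483844 : act 1 n216325 = n185447 := d15_1 D216325 (iv7 D185447) (iv2 F284527)
theorem F483845 : act 7 n216325 = n185445 := d15_2 (iv0 D216324) D216325 F483842
theorem F483846 : act 5 n216325 = n201552 := d17_7 D127797 F205578 (iv1 F164485) (iv5 F205622) (iv4 F356660) F295279 D216325 F420927 (iv4 D127799)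
theorem F483847 : act 4 n216325 = n193848 := d18_7 F295285 (iv4 F356687) (iv1 F163377) D114353 F356712 F356710 D216325 (iv0 D193848) (iv5 F295287)
theorem F483848 : act 3 n187023 = n216325 := d19_19 (iv1 D216325) (iv5 F295279) F356660 F205621 (iv1 F94982) (iv5 D34820) (iv4 D16872) F12468 F18238 F18236 (iv4 F37417) (iv3 F77520) (iv1 F77523) D49130 D106302 F370970 (iv1 D187598) F293826 (iv4 F368867)
theorem F483849 : act 6 n187022 = n216325 := d21_3 (iv5 F242047) F399446 F374947 (iv1 D216325) (iv6 D182947) F134099 (iv1 F62417) (iv5 F133548) D182250 F362137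
theorem F483850 : act 2 n185446 = n216325 := d1_3 F483847 (iv2 F439751) F377045
def n216326 : Q := act 6 n182979
theorem D216326 : act 6 n182979 = n216326 := rfl
theorem F483851 : act 2 n216326 = n185442 := d3_1 D216326 (iv6 D185442) (iv2 F289852)
theorem F483852 : act 5 n216326 = n215995 := d12_1 D216326 (iv6 F482473) F384559 (iv6 D185438) (iv5 F289853)
theorem F483853 : act 0 n216326 = n209420 := d21_4 F362133 (iv1 F135279) (iv5 F289853) D216326 (iv6 D209420) (iv5 D136448) (iv1 F218028) F352700 (iv6 D182241) D182238
theorem F483854 : act 7 n216000 = n216326 := d13_0 F483852 F482471 D216000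
def n216327 : Q := act 5 n183001
theorem D216327 : act 5 n183001 = n216327 := rfl
theorem F483855 : act 2 n216327 = n187478 := d2_1 D216327 F370517 F295259
theorem F483856 : act 3 n216327 = n183002 := d6_1 D216327 (iv5 D183002) D183001
theorem F483857 : act 7 n216327 = n183025 := d13_2 (iv7 F284597) D216327 (iv5 D183025)
theorem F483858 : act 4 n216327 = n187999 := d18_5 F294792 D92664 (iv1 F295258) F295260 D216327 F421123 (iv4 D187611) F366976 F295022
def n216328 : Q := act 6 n183002
theorem D216328 : act 6 n183002 = n216328 := rfl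
theorem F483859 : act 2 n216328 = n183019 := d3_1 D216328 (iv6 D183019) (iv2 F284600)
theorem F483860 : act 5 n216328 = n192980 := d12_1 D216328 (iv6 D192980) (iv5 F343899) F343900 D183002
theorem F483861 : act 7 n216328 = n208828 := d14_2 (iv7 F284601) D216328 (iv6 F451030) (iv7 F246402) F337821
theorem F483862 : act 0 n216328 = n199059 := d21_4 (iv5 D87365) D87363 D183002 D216328 F449930 F449929 F410497 F424034 F424032 (iv1 D183007)
theorem F483863 : act 0 n208812 = n216328 := d21_4 (iv5 D130720) D130717 (iv5 F217349) D208812 (iv6 D216328) (iv5 D183002) (iv1 F134132) (iv5 F134154) F337795 (iv1 F212148)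
def n216329 : Q := act 3 n183006
theorem D216329 : act 3 n183006 = n216329 := rfl
theorem F483864 : act 2 n216329 = n189073 := d0_1 D216329 (iv3 D189073) F294620 F284674 (iv2 F284676)
theorem F483865 : act 5 n216329 = n187602 := d6_2 F294918 D216329 F370988
theorem F483866 : act 7 n216329 = n183041 := d8_2 (iv7 F284677) D216329 (iv3 D183041)
theorem F483867 : act 0 n216329 = n191886 := d20_10 F384667 (iv1 D187619) (iv4 D90398) F65276 (iv1 F32751) (iv3 F68560) D93242 D189103 F375761 D216329
theorem F483868 : act 1 n216329 = n186443 := d15_1 (iv0 F483867) (iv7 F374465) (iv2 F384663)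
def n216330 : Q := act 3 n183008
theorem D216330 : act 3 n183008 = n216330 := rfl
theorem F483869 : act 5 n216330 = n214952 := d6_2 F348605 D216330 (iv3 D214952)
theorem F483870 : act 6 n216330 = n212724 := d7_2 (iv6 F284615) D216330 (iv3 D212724)
def n216331 : Q := act 7 n183008
theorem D216331 : act 7 n183008 = n216331 := rfl
theorem F483871 : act 2 n216331 = n183049 := d4_1 D216331 (iv7 D183049) (iv2 F284614)
theorem F483872 : act 4 n216331 = n183009 := d11_1 D216331 (iv7 D183009) D183008
theorem F483873 : act 5 n216331 = n214785 := d13_1 D216331 F476836 F348605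
theorem F483874 : act 6 n216331 = n208805 := d14_1 D216331 (iv7 D208805) (iv6 F434618) F434619 (iv6 F284615)
theorem F483875 : act 1 n183046 = n216331 := d15_1 D183046 (iv7 D216331) F284614
theorem F483876 : act 1 n216331 = n183045 := d15_1 F483875 (iv7 F372817) F372816
def n216332 : Q := act 6 n183010
theorem D216332 : act 6 n183010 = n216332 := rfl
theorem F483877 : act 2 n216332 = n197502 := d3_1 D216332 (iv6 D197502) F315174
theorem F483878 : act 3 n216332 = n203714 := d7_1 D216332 (iv6 D203714) F301600
theorem F483879 : act 5 n216332 = n212732 := d12_1 D216332 (iv6 D212732) (iv5 F264401) (iv6 F310494) F310493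
theorem F483880 : act 0 n209513 = n216332 := d21_4 (iv5 D156668) F176832 (iv5 F219659) D209513 (iv6 D216332) (iv5 F310493) (iv1 F167409) F312682 (iv6 F337822) (iv1 F246403)
theorem F483881 : act 1 n209513 = n214386 := d15_1 (iv0 F483880) F474913 (iv2 F483877)
def n216333 : Q := act 4 n183016
theorem D216333 : act 4 n183016 = n216333 := rfl
theorem F483882 : act 2 n216333 = n188464 := d1_1 D216333 (iv4 D188464) F295224
theorem F483883 : act 5 n216333 = n203820 := d9_2 F294103 D216333 (iv4 D203820) F341231 F204201 F329583 (iv4 F135285) (iv5 F362814) (iv4 F387676) (iv5 F405838) F405837 F338715 F100483 F329014 (iv4 F294102)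
theorem F483884 : act 0 n216333 = n188263 := d17_0 (iv5 F451394) (iv1 D208916) F339515 (iv4 D87382) (iv5 D40611) D40610 D87378 F284643 D216333
theorem F483885 : act 1 n216333 = n188260 := d18_6 D42670 D91115 F295364 (iv4 F294102) F294103 D216333 (iv4 D188260) (iv0 D91125) (iv5 D42673)
theorem F483886 : act 6 n213741 = n216333 := d21_9 (iv5 F451394) (iv1 D208916) F339515 (iv6 F284631) (iv1 F389651) (iv6 F470407) (iv5 D213439) (iv1 F402331) F471871 F483884
def n216334 : Q := act 6 n183016
theorem D216334 : act 6 n183016 = n216334 := rfl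
theorem F483887 : act 2 n216334 = n188465 := d3_1 D216334 (iv6 D188465) F295224
theorem F483888 : act 3 n216334 = n212429 := d7_1 D216334 F465769 (iv3 F290131)
theorem F483889 : act 4 n216334 = n213741 := d10_1 D216334 F483886 (iv4 D216333)
theorem F483890 : act 5 n216334 = n193637 := d12_1 D216334 (iv6 D193637) (iv5 D102068) (iv6 F294104) F294103
theorem F483891 : act 7 n216334 = n208836 := d14_2 F384560 D216334 F471881 (iv7 F482471) (iv6 F482473)
theorem F483892 : act 0 n216334 = n208797 := d21_4 (iv5 F284612) F294602 F294103 D216334 (iv6 D208797) (iv5 D135110) (iv1 F98822) D63508 (iv6 F337795) (iv1 F284611)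
theorem F483893 : act 0 n208835 = n216334 := d21_4 (iv5 D215953) (iv1 F363098) (iv5 F217359) D208835 (iv6 D216334) (iv5 F294103) (iv1 F283833) F294918 (iv6 F426675) (iv1 F482250)
def n216335 : Q := act 0 n183019
theorem D216335 : act 0 n183019 = n216335 := rfl
theorem F483894 : act 5 n216335 = n199052 := d21_2 F411396 D216335 (iv6 D199052) F359133 (iv6 F171647) (iv5 F338240) (iv1 D178895) (iv5 F358659) (iv6 F470665) F470667
theorem F483895 : act 2 n199059 = n216335 := d15_3 (iv0 D216335) (iv0 F411400) F410506
theorem F483896 : act 1 n208828 = n216335 := d15_0 (iv0 D216335) (iv7 F457113) F457111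
theorem F483897 : act 7 n216335 = n208812 := d15_2 D208828 F483896 F450979
theorem F483898 : act 6 n198308 = n216335 := d21_3 (iv5 F424952) (iv1 F454380) F454377 (iv1 F483896) (iv6 F451030) (iv5 D136506) F99887 D64201 (iv6 F219656) F358543
def n216336 : Q := act 4 n183041
theorem D216336 : act 4 n183041 = n216336 := rfl
theorem F483899 : act 2 n216336 = n212888 := d1_1 D216336 F467967 F367470
theorem F483900 : act 3 n216336 = n188966 := d5_1 D216336 F375260 (iv3 F363801) (iv4 D183042) D183041
theorem F483901 : act 0 n216336 = n186444 := d18_2 F374467 D216336 (iv4 D186444) (iv5 D88801) (iv4 F136178) F157238 F136493 (iv0 F294801) D188688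
theorem F483902 : act 1 n216336 = n187616 := d18_6 (iv1 F294662) D90392 F367473 (iv4 F370497) F370493 D216336 (iv4 D187616) F140257 F294990
theorem F483903 : act 5 n188964 = n216336 := d17_7 (iv1 D90397) (iv5 D42258) D42255 D90388 D187604 F374805 (iv0 F428040) F483902 (iv4 D187616)
theorem F483904 : act 6 n216336 = n209744 := d21_5 F186827 D151709 F371723 (iv6 F448743) (iv1 F483902) (iv5 D209744) (iv1 F391848) (iv5 F452072) (iv6 F452074) (iv1 D203370)
def n216337 : Q := act 6 n183041
theorem D216337 : act 6 n183041 = n216337 := rfl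
theorem F483905 : act 2 n216337 = n210619 := d3_1 D216337 F458234 F367470
theorem F483906 : act 3 n216337 = n183044 := d7_1 D216337 (iv6 D183044) D183041
theorem F483907 : act 4 n216337 = n209744 := d10_1 D216337 (iv6 F483904) (iv4 D216336)
theorem F483908 : act 5 n210609 = n216337 := d21_2 (iv5 F460453) (iv1 F460456) (iv6 D216337) (iv1 F374475) F374474 F166824 F313751 D124089 (iv6 F407533) F407535
theorem F483909 : act 0 n216337 = n209560 := d17_2 (iv1 F460456) F483908 (iv5 D209560) (iv4 F454129) F454130 (iv0 F388313) (iv5 F462265) (iv0 D211586) (iv4 F460452)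
def n216338 : Q := act 5 n183044
theorem D216338 : act 5 n183044 = n216338 := rfl
theorem F483910 : act 2 n216338 = n183978 := d2_1 D216338 F424034 F424030
theorem F483911 : act 3 n216338 = n210609 := d6_1 D216338 F483908 F483906
theorem F483912 : act 4 n216338 = n206915 := d9_1 D216338 (iv5 D206915) (iv4 F354177) (iv5 D126714) F93854 D65929 D140467 (iv5 F424952) (iv4 F441960) (iv5 D206719) (iv4 F214714) F361154 F219936 D202443 (iv4 F424020)
theorem F483913 : act 6 n216338 = n183966 := d12_2 D183044 D216338 (iv5 D183966) (iv6 F295151) F295150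
theorem F483914 : act 7 n216338 = n209627 := d13_2 F459667 D216338 (iv5 F459666)
theorem F483915 : act 1 n216338 = n209628 := d17_6 D109200 F404829 (iv1 F180086) D202443 (iv4 F424020) D216338 F454377 (iv0 D198308) F169152
theorem F483916 : act 0 n216338 = n209194 := d21_7 F98830 (iv1 F213167) (iv5 F217339) F337820 (iv1 F284619) D183044 D216338 F452661 (iv6 F407560) (iv1 F217347)
def n216339 : Q := act 6 n183046
theorem D216339 : act 6 n183046 = n216339 := rfl
theorem F483917 : act 2 n216339 = n211315 := d3_1 D216339 F461089 F372816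
theorem F483918 : act 4 n216339 = n189102 := d10_1 D216339 (iv6 D189102) F295440
theorem F483919 : act 5 n216339 = n207847 := d12_1 D216339 F446699 (iv5 F482013) F482019 (iv5 F407366)
theorem F483920 : act 1 n201320 = n216339 := d17_6 (iv1 F219938) (iv5 F361154) (iv1 F438217) F438218 (iv4 F224899) (iv5 F420010) F483919 F446701 (iv4 D205869)
def n216340 : Q := act 4 n183083
theorem D216340 : act 4 n183083 = n216340 := rfl
theorem F483921 : act 2 n216340 = n209552 := d1_1 D216340 F454102 F384351
theorem F483922 : act 3 n216340 = n205117 := d5_1 D216340 F435046 F420921 (iv4 D183089) (iv3 F284697)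
theorem F483923 : act 5 n216340 = n205116 := d9_2 D183083 D216340 F435041 F279620 (iv4 F465904) F465907 (iv4 F277347) (iv5 F454156) (iv4 D209565) (iv5 D136630) (iv4 F314595) D86826 D181803 F344827 F273220
theorem F483924 : act 7 n216340 = n209563 := d11_2 F469774 D216340 (iv4 F469772)
theorem F483925 : act 0 n216340 = n209502 := d17_0 F453946 F453402 (iv5 F454160) F454159 F384379 (iv0 D151505) D151508 (iv0 F334743) D216340
theorem F483926 : act 1 n216340 = n209564 := d18_6 (iv1 D89108) (iv4 F128476) D174376 F273220 D183083 D216340 F454152 F367924 (iv5 D186763)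
def n216341 : Q := act 6 n183083
theorem D216341 : act 6 n183083 = n216341 := rfl
theorem F483927 : act 3 n216341 = n183090 := d7_1 D216341 (iv6 D183090) (iv3 F284697)
theorem F483928 : act 5 n216341 = n204937 := d12_1 D216341 (iv6 D204937) (iv5 D124780) F308829 D183083
def n216342 : Q := act 4 n183104
theorem D216342 : act 4 n183104 = n216342 := rfl
theorem F483929 : act 2 n216342 = n209566 := d1_1 D216342 F454159 F384378
theorem F483930 : act 5 n216342 = n214681 := d9_2 F366768 D216342 (iv4 D214681) (iv5 D160596) F115743 D83107 (iv4 F361337) (iv5 F454208) (iv4 D209577) (iv5 F366635) F279694 (iv5 F250318) F311544 (iv5 F429811) F429810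
theorem F483931 : act 7 n216342 = n209576 := d11_2 F468203 D216342 F468206
theorem F483932 : act 0 n216342 = n209497 := d17_0 (iv5 D209497) F352331 D136630 D209565 F454156 F279280 (iv5 F403465) (iv0 F403468) D216342
theorem F483933 : act 1 n216342 = n186767 := d18_6 F366674 (iv4 F240569) F429814 F429810 F366768 D216342 (iv4 D186767) D186766 (iv5 F367942)
theorem F483934 : act 3 n216342 = n209572 := d19_3 (iv1 F361344) F366768 D216342 F454191 F435033 F435027 (iv3 D196461) (iv1 D107007) D107009 F343553 (iv3 F348762) F246742 (iv5 D128980) F207217 (iv3 D30029) D30027 (iv5 F52397) (iv4 F108163) (iv3 F310707)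
theorem F483935 : act 6 n184067 = n216342 := d7_0 F483934 F454190 F383919
def n216343 : Q := act 6 n183104
theorem D216343 : act 6 n183104 = n216343 := rfl
theorem F483936 : act 3 n216343 = n183107 := d7_1 D216343 (iv6 D183107) D183104
theorem F483937 : act 4 n216343 = n184067 := d10_1 D216343 F483935 (iv4 D216342)
theorem F483938 : act 5 n185511 = n216343 := d6_0 F483936 F284725 D185511
def n216344 : Q := act 3 n183105
theorem D216344 : act 3 n183105 = n216344 := rfl
theorem F483939 : act 2 n216344 = n209573 := d0_1 D216344 F454192 (iv2 F443850) F443851 (iv2 F364050)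
theorem F483940 : act 4 n216344 = n209572 := d5_2 D183105 D216344 (iv3 F483934) (iv4 D216342) (iv3 D183104)
theorem F483941 : act 5 n216344 = n190363 := d6_2 (iv5 F364047) D216344 (iv3 D190363)
theorem F483942 : act 6 n216344 = n187501 := d7_2 (iv6 F364059) D216344 F370607
theorem F483943 : act 0 n205094 = n216344 := d20_4 (iv4 F421616) F421619 (iv4 F399549) (iv3 F434951) (iv3 D216344) (iv4 D183105) (iv1 F283433) (iv4 F356679) (iv3 F379598) F379601
def n216345 : Q := act 0 n183107
theorem D216345 : act 0 n183107 = n216345 := rfl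
theorem F483944 : act 6 n216345 = n183152 := d21_5 (iv5 D72438) (iv1 F192132) (iv5 F311630) D183107 D216345 (iv5 F424117) F424120 (iv5 F462612) F462611 (iv1 D153318)
theorem F483945 : act 1 n185508 = n216345 := d15_0 (iv0 D216345) (iv7 F374230) F374228
def n216346 : Q := act 1 n183107
theorem D216346 : act 1 n183107 = n216346 := rfl
theorem F483946 : act 1 n216346 = n185508 := d15_1 D216346 (iv7 F374217) F374215
theorem F483947 : act 4 n216346 = n188980 := d17_9 F375314 (iv5 D188618) (iv1 F251982) F356699 (iv4 D185516) (iv5 D88368) D88367 (iv5 F284725) D216346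
theorem F483948 : act 3 n209513 = n216346 := d19_19 (iv1 D216346) F284725 (iv4 F353752) (iv3 F471287) (iv1 F471291) F467689 (iv4 D159754) (iv3 F178707) (iv1 D114611) (iv5 D52902) (iv4 F77225) F77224 (iv1 F45992) D28504 D60031 (iv3 F366756) F434994 F434992 (iv4 F453983)
theorem F483949 : act 6 n209506 = n216346 := d21_3 D183137 F405227 (iv5 F453953) (iv1 D216346) (iv6 D183107) F311630 D120561 D203788 F429820 (iv1 D183136)
def n216347 : Q := act 7 n183110
theorem D216347 : act 7 n183110 = n216347 := rfl
theorem F483950 : act 3 n216347 = n212843 := d8_1 D216347 (iv7 F467745) F384385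
theorem F483951 : act 4 n216347 = n187508 := d11_1 D216347 (iv7 F462622) F462623
theorem F483952 : act 5 n216347 = n205982 := d13_1 D216347 F438693 F286220
theorem F483953 : act 6 n216347 = n185508 := d14_1 D216347 (iv7 F374217) F374216 F364046 D183110
theorem F483954 : act 1 n213495 = n216347 := d15_1 (iv0 F470672) (iv7 D216347) (iv2 F462633)
theorem F483955 : act 1 n216347 = n195833 := d15_1 F483954 (iv7 F440146) (iv2 F470669)
def n216348 : Q := act 5 n183111
theorem D216348 : act 5 n183111 = n216348 := rfl
theorem F483956 : act 4 n216348 = n189847 := d9_1 D216348 (iv5 D189847) F310158 D95892 F301295 F135077 (iv4 F284728) (iv5 F443670) F443669 F352652 F352646 (iv5 F308814) F191866 F304531 (iv4 F356684)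
theorem F483957 : act 6 n216348 = n191315 := d12_2 F374206 D216348 (iv5 D191315) F355751 D188618
theorem F483958 : act 0 n216348 = n190345 := d17_2 D183111 D216348 F421899 (iv4 F429816) (iv5 D203788) (iv0 D120561) (iv5 F311630) (iv0 D87403) D87405
theorem F483959 : act 1 n216348 = n190343 := d17_6 F306350 (iv5 D120431) D120429 F304531 (iv4 F356684) D216348 F379467 (iv0 F383103) (iv4 D191338)
def n216349 : Q := act 6 n183120
theorem D216349 : act 6 n183120 = n216349 := rfl
def n216350 : Q := act 6 n183121
theorem D216350 : act 6 n183121 = n216350 := rfl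
theorem F483960 : act 4 n216350 = n183122 := d10_1 D216350 (iv6 D183122) D183121
theorem F483961 : act 5 n216350 = n216172 := d12_1 D216350 F483283 F367451 D187669 (iv5 F371153)
def n216351 : Q := act 7 n183122
theorem D216351 : act 7 n183122 = n216351 := rfl
theorem F483962 : act 3 n216351 = n183132 := d8_1 D216351 (iv7 D183132) (iv3 F284736)
def n216352 : Q := act 0 n183128
theorem D216352 : act 0 n183128 = n216352 := rfl
theorem F483963 : act 3 n216352 = n187611 := d20_5 F145050 (iv1 D87411) D87412 D183128 D216352 (iv4 D187611) F366975 D92670 F295369 D94112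
theorem F483964 : act 4 n216352 = n184523 := d20_0 F434955 F394030 F439832 (iv1 D127815) (iv3 F356657) F145050 (iv1 D87411) D87412 D183128 D216352
theorem F483965 : act 6 n216352 = n184521 := d21_5 (iv5 D114788) (iv1 F178603) D201457 (iv6 F420578) D216352 F370605 (iv1 F370602) D193009 (iv6 F420587) F420591
theorem F483966 : act 7 n203357 = n216352 := d14_0 F483965 (iv7 F371368) F371367 (iv7 F186819) D203357
def n216353 : Q := act 1 n183134
theorem D216353 : act 1 n183134 = n216353 := rfl
theorem F483967 : act 1 n216353 = n209128 := d15_1 D216353 F452388 F379973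
theorem F483968 : act 7 n216353 = n189589 := d15_2 (iv0 F448091) D216353 (iv2 F448079)
theorem F483969 : act 5 n216353 = n201061 := d17_7 (iv1 F443394) (iv5 D207115) D207113 (iv5 F445078) (iv4 F448087) F448088 D216353 F418944 (iv4 F441316)
theorem F483970 : act 4 n216353 = n189578 := d18_7 (iv1 F389258) F481559 F481558 F389275 (iv5 D183137) (iv4 F284743) D216353 F377020 (iv5 F377057)
theorem F483971 : act 2 n189592 = n216353 := d1_3 F483970 F377023 D189592
def n216354 : Q := act 3 n183136
theorem D216354 : act 3 n183136 = n216354 := rfl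
theorem F483972 : act 2 n216354 = n209676 := d0_1 D216354 F454595 (iv2 F408397) F408398 F426550
theorem F483973 : act 4 n216354 = n207033 := d5_2 (iv4 F405231) D216354 (iv3 F466917) F466919 F429822
theorem F483974 : act 5 n216354 = n209675 := d6_2 F469764 D216354 (iv3 F469762)
theorem F483975 : act 6 n216354 = n207032 := d7_2 F429820 D216354 F443051
theorem F483976 : act 7 n216354 = n212428 := d8_2 (iv7 F426551) D216354 F465767
theorem F483977 : act 1 n210195 = n216354 := d15_1 (iv0 F465377) F483976 F465766
def n216355 : Q := act 3 n183141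
theorem D216355 : act 3 n183141 = n216355 := rfl
theorem F483978 : act 2 n216355 = n209586 := d0_1 D216355 (iv3 D209586) F454183 F454177 F375699
theorem F483979 : act 4 n216355 = n183143 := d5_2 D183141 D216355 (iv3 D183143) (iv4 D87420) D87419
theorem F483980 : act 6 n216355 = n202225 := d7_2 F460512 D216355 (iv3 F460508)
def n216356 : Q := act 5 n183141
theorem D216356 : act 5 n183141 = n216356 := rfl
theorem F483981 : act 2 n216356 = n211598 := d2_1 D216356 F462322 F375699
theorem F483982 : act 6 n216356 = n211597 := d12_2 F460512 D216356 F462317 (iv6 D211186) D211185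
theorem F483983 : act 7 n216356 = n207088 := d13_2 (iv7 F375695) D216356 F443262
theorem F483984 : act 4 n216356 = n207091 := d16_2 D183141 D216356 F443275 (iv4 F352841) (iv5 F352885) (iv4 F140144) (iv5 F372554) F372555 F152465
theorem F483985 : act 1 n216356 = n188226 := d17_6 (iv1 F379966) F379968 F370482 F294366 D183141 D216356 (iv5 D188226) D188225 (iv4 F372731)
def n216357 : Q := act 0 n183142
theorem D216357 : act 0 n183142 = n216357 := rfl
theorem F483986 : act 5 n216357 = n211286 := d17_3 (iv1 F448529) F396194 D216357 F460965 (iv5 F425749) F425751 (iv5 D144972) D144970 (iv4 F448525)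
theorem F483987 : act 4 n216357 = n202512 := d18_1 D216357 (iv1 F424339) D208232 F448494 (iv4 D195197) (iv0 D105385) (iv4 F161717) D195194 F396194
theorem F483988 : act 2 n202514 = n216357 := d15_3 (iv0 D216357) (iv0 F396200) (iv7 F424345)
theorem F483989 : act 7 n216357 = n210530 := d4_2 (iv7 F424345) F483988 F457941
theorem F483990 : act 1 n210535 = n216357 := d15_1 D210535 F483989 F457941
def n216358 : Q := act 7 n183142
theorem D216358 : act 7 n183142 = n216358 := rfl
theorem F483991 : act 2 n216358 = n210535 := d4_1 D216358 F457960 F384416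
theorem F483992 : act 3 n216358 = n183148 := d8_1 D216358 (iv7 D183148) (iv3 F284748)
theorem F483993 : act 4 n216358 = n210678 := d11_1 D216358 (iv7 F460509) F460510
theorem F483994 : act 5 n216358 = n210871 := d13_1 D216358 F459089 F396194
theorem F483995 : act 1 n210530 = n216358 := d15_1 (iv0 F457943) (iv7 D216358) (iv2 F384416)
theorem F483996 : act 1 n216358 = n202514 := d15_1 F483995 F424345 (iv2 F457941)
def n216359 : Q := act 0 n183143
theorem D216359 : act 0 n183143 = n216359 := rfl
theorem F483997 : act 3 n216359 = n188320 := d20_5 (iv4 D40632) D40630 D87420 D183143 D216359 (iv4 D188320) (iv1 D91216) (iv4 F140230) (iv3 D91186) (iv1 F295288)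
theorem F483998 : act 6 n204193 = n216359 := d7_0 F483997 (iv6 F385401) (iv3 F431428)
theorem F483999 : act 4 n216359 = n204194 := d10_1 F483998 (iv6 D204194) D204193
def n216360 : Q := act 1 n183143
theorem D216360 : act 1 n183143 = n216360 := rfl
theorem F484000 : act 4 n205095 = n216360 := d20_6 (iv4 D189081) (iv1 F295266) D186779 F434958 (iv1 D205096) (iv3 F434953) (iv1 D216360) (iv4 F483979) (iv3 D216355) (iv1 F375674)
theorem F484001 : act 6 n205094 = n216360 := d21_9 F284749 (iv1 F420535) (iv5 F428027) (iv6 D203357) (iv1 F186820) (iv6 F410069) (iv5 D198959) F399546 (iv5 F434952) (iv1 D216360)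
def n216361 : Q := act 0 n183144
theorem D216361 : act 0 n183144 = n216361 := rfl
theorem F484002 : act 5 n216361 = n200642 := d17_1 D216361 F465473 F465471 (iv4 F459062) (iv5 D210866) (iv0 F230277) (iv5 F359700) (iv0 D183145) (iv4 F284750)
theorem F484003 : act 4 n216361 = n188309 := d18_1 D216361 (iv1 F465161) (iv4 D212289) (iv5 D146460) F104875 D113393 D200735 (iv0 F417708) (iv5 F416547)
theorem F484004 : act 3 n216361 = n199712 := d20_5 (iv4 F239725) F423312 F423311 F416554 D216361 (iv4 D199712) (iv1 D111620) D111621 F349533 F365661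
theorem F484005 : act 6 n216361 = n206293 := d21_5 (iv5 F294570) F294567 (iv5 F134176) D183144 D216361 F440109 (iv1 F339354) D213031 F468683 F283436
def n216362 : Q := act 4 n183145
theorem D216362 : act 4 n183145 = n216362 := rfl
theorem F484006 : act 2 n216362 = n201336 := d1_1 D216362 (iv4 F483233) (iv2 F483235)
theorem F484007 : act 3 n216362 = n195798 := d5_1 D216362 (iv4 F475321) F475320 F418905 F359701
theorem F484008 : act 5 n216362 = n195779 := d9_2 (iv5 F359700) D216362 (iv4 F419147) F419146 F320735 D163930 (iv4 F449541) F449545 (iv4 F416556) (iv5 F397941) (iv4 F417855) (iv5 D200769) F202958 (iv5 F227723) (iv4 F230276)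
theorem F484009 : act 6 n216362 = n195831 := d10_2 (iv6 F440148) D216362 (iv4 F440145)
theorem F484010 : act 7 n216362 = n195781 := d11_2 F467017 D216362 (iv4 F467018)
theorem F484011 : act 0 n216362 = n201335 := d18_2 D183145 D216362 F420061 (iv5 F373051) (iv4 F353597) (iv0 F202963) (iv4 F311879) D153976 F359696
theorem F484012 : act 1 n216362 = n183155 := d18_6 F448874 F448871 F417242 (iv4 F230276) (iv5 F359700) D216362 (iv4 F284796) (iv0 F471088) (iv5 D213570)
def n216363 : Q := act 0 n183149
theorem D216363 : act 0 n183149 = n216363 := rfl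
theorem F484013 : act 5 n216363 = n216359 := d17_3 F420531 (iv5 F284751) D216363 F483999 (iv5 F449234) F449230 (iv5 F449288) F449290 F420532
theorem F484014 : act 4 n216363 = n209619 := d18_1 D216363 (iv1 D209619) D209621 F454346 (iv4 F394030) (iv0 F434955) (iv4 F483964) (iv0 D216352) (iv5 F284751)
theorem F484015 : act 6 n216363 = n201178 := d21_5 (iv5 F325991) (iv1 F420585) F420582 (iv6 F420470) D216363 (iv5 D201178) F177549 D114600 (iv6 F356871) F338609
theorem F484016 : act 2 n215001 = n216363 := d3_3 F484015 F419338 D215001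
def n216364 : Q := act 1 n183149
theorem D216364 : act 1 n183149 = n216364 := rfl
theorem F484017 : act 7 n216364 = n215001 := d15_2 (iv0 D216363) D216364 F484016
theorem F484018 : act 4 n209515 = n216364 := d20_0 (iv1 D216364) (iv4 F384436) (iv3 D191788) (iv1 F384420) (iv3 F388447) (iv4 F442335) (iv1 F442337) (iv4 D136692) D136691 (iv1 F454353)
theorem F484019 : act 5 n216360 = n216364 := d21_6 F464038 (iv1 F334435) F334442 D201540 F443846 F484001 (iv1 D216364) F284751 F420578 (iv1 F464041)
theorem F484020 : act 6 n209514 = n216364 := d21_5 (iv5 D63850) (iv1 F100304) D135235 D208880 (iv1 F467880) (iv5 F484019) (iv1 D216360) F284749 (iv6 F416558) (iv1 D135790)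
def n216365 : Q := act 2 n183149
theorem D216365 : act 2 n183149 = n216365 := rfl
theorem F484021 : act 4 n216365 = n207334 := d1_2 F384436 D216365 F444394
theorem F484022 : act 5 n216365 = n201537 := d2_2 (iv5 F284751) D216365 F420889
theorem F484023 : act 6 n216365 = n201538 := d3_2 (iv6 F420470) D216365 F420890
theorem F484024 : act 0 n216365 = n215001 := d21_4 F360662 (iv1 F360658) D201538 (iv6 F484023) (iv6 D215001) (iv5 D164231) F321169 D145030 F227984 (iv1 F360659)
def n216366 : Q := act 3 n183152
theorem D216366 : act 3 n183152 = n216366 := rfl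
theorem F484025 : act 7 n216366 = n212348 := d8_2 F459901 D216366 F465422
theorem F484026 : act 0 n216366 = n212350 := d19_4 D115866 (iv5 F373020) (iv4 F373022) D216366 F465432 F387507 (iv3 F229760) (iv1 F439421) (iv5 D206138) (iv4 D127472) F114799 (iv1 F193614) F193612 F88621 (iv3 F50552) (iv1 D23835) (iv5 F20705) D26229 (iv3 F84273)
theorem F484027 : act 0 n202899 = n216366 := d20_4 D91225 F372993 (iv4 F367569) (iv3 F426105) (iv3 D216366) F373022 (iv1 D188300) F140235 F66910 D42704
theorem F484028 : act 2 n216366 = n212347 := d15_3 (iv0 D212347) D212348 (iv7 F484025)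
theorem F484029 : act 3 n212347 = n210997 := d0_2 D216366 F484028 (iv2 F459686) F453954 F439686
def n216367 : Q := act 0 n183158
theorem D216367 : act 0 n183158 = n216367 := rfl
theorem F484030 : act 4 n216367 = n211389 := d18_1 D216367 (iv1 D211389) (iv4 F421575) (iv5 D201725) (iv4 F421569) (iv0 F421570) F420086 D201345 F420089
theorem F484031 : act 5 n216367 = n216163 := d21_2 F420089 D216367 F483251 F399072 (iv6 D188029) (iv5 D90747) (iv1 F176032) (iv5 F251990) (iv6 F356715) (iv1 F420087)
theorem F484032 : act 6 n216367 = n196149 := d21_5 (iv5 F444036) (iv1 F444039) (iv5 D201340) (iv6 F420090) D216367 F399622 F399933 (iv5 F439737) F444537 (iv1 F444538)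
theorem F484033 : act 2 n183162 = n216367 := d15_3 (iv0 D216367) (iv0 D183158) D183162
theorem F484034 : act 1 n183159 = n216367 := d15_0 (iv0 D216367) (iv7 F439709) F439707
theorem F484035 : act 7 n216367 = n183160 := d15_2 D183159 F484034 (iv2 D183160)
theorem F484036 : act 3 n214461 = n216367 := d8_3 F484035 (iv3 F483250) F483252
def n216368 : Q := act 3 n183158
theorem D216368 : act 3 n183158 = n216368 := rfl
theorem F484037 : act 6 n216368 = n201301 := d7_2 (iv6 F420090) D216368 (iv3 F419924)
def n216369 : Q := act 4 n183158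
theorem D216369 : act 4 n183158 = n216369 := rfl
theorem F484038 : act 2 n216369 = n212887 := d1_1 D216369 F467964 F439818
theorem F484039 : act 6 n216369 = n198106 := d10_2 (iv6 F420090) D216369 (iv4 F406845)
theorem F484040 : act 5 n216369 = n215248 := d17_5 (iv1 F205635) F356718 (iv1 F420087) F420089 D216369 F479039 F401163 (iv0 F401161) (iv4 F350587)
theorem F484041 : act 1 n216369 = n215257 := d18_8 (iv1 D199093) F171941 D197458 F404423 F461374 (iv4 F484030) (iv0 D216367) D216369 F479076
theorem F484042 : act 3 n216369 = n198107 := d19_3 (iv1 F420087) F420089 D216369 (iv1 F430672) F268484 F248790 (iv3 D86721) F296234 (iv5 F296312) (iv4 F293597) (iv3 F143786) F294514 (iv5 D96130) (iv4 F134774) F134773 F66267 D41255 D88371 D185518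
def n216370 : Q := act 3 n183159
theorem D216370 : act 3 n183159 = n216370 := rfl
theorem F484043 : act 5 n216370 = n201698 := d6_2 (iv5 F365001) D216370 F421461
theorem F484044 : act 6 n216370 = n201316 := d7_2 F365000 D216370 (iv3 D201316)
theorem F484045 : act 7 n216370 = n209088 := d8_2 F439819 D216370 F452194
theorem F484046 : act 2 n213088 = n216370 := d4_3 F484045 F452193 (iv7 F468953)
def n216371 : Q := act 4 n183161
theorem D216371 : act 4 n183161 = n216371 := rfl
theorem F484047 : act 3 n216371 = n189571 := d5_1 D216371 (iv4 D189571) F145002 (iv4 F134181) (iv3 F284755)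
theorem F484048 : act 6 n216371 = n201773 := d10_2 (iv6 F398550) D216371 F421755
theorem F484049 : act 7 n216371 = n216154 := d11_2 F284756 D216371 F483209
def n216372 : Q := act 3 n183165
theorem D216372 : act 3 n183165 = n216372 := rfl
theorem F484050 : act 2 n216372 = n204555 := d0_1 D216372 (iv3 F432853) F450081 (iv3 F450082) (iv2 F398842)
theorem F484051 : act 4 n216372 = n207096 := d5_2 F420930 D216372 F443295 F420936 (iv3 F420929)
theorem F484052 : act 5 n216372 = n188803 := d6_2 F399444 D216372 (iv3 F399442)
theorem F484053 : act 7 n216372 = n204554 := d8_2 (iv7 F398840) D216372 (iv3 F432851)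
theorem F484054 : act 0 n216372 = n204553 := d20_4 (iv4 F373003) F420931 F420930 D216372 (iv3 F432849) (iv4 F448210) F468305 F468304 F450408 F349651
theorem F484055 : act 0 n204215 = n216372 := d20_4 D208759 F450739 F431524 (iv3 F431517) (iv3 D216372) (iv4 F420930) (iv1 F450636) (iv4 D208735) (iv3 F450059) F450062
def n216373 : Q := act 4 n183166
theorem D216373 : act 4 n183166 = n216373 := rfl
theorem F484056 : act 2 n216373 = n208739 := d1_1 D216373 F450652 F398839
theorem F484057 : act 3 n216373 = n209011 := d5_1 D216373 (iv4 F451835) F457666 (iv4 D208777) F405047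
theorem F484058 : act 7 n216373 = n208740 := d11_2 F398841 D216373 F450657
theorem F484059 : act 0 n216373 = n188295 := d18_2 (iv1 F377016) D216373 F373003 F328749 F81135 D61960 D132042 F363955 (iv5 F377013)
theorem F484060 : act 1 n216373 = n208735 := d18_6 (iv1 F216830) F216828 (iv1 F164297) (iv4 F349654) F364105 D216373 (iv4 D208735) (iv0 F332733) (iv5 D134899)
theorem F484061 : act 6 n216373 = n209009 := d21_5 F335096 (iv1 F379584) F379586 (iv6 F450634) (iv1 F484060) (iv5 D209009) F361249 (iv5 F448075) F429644 (iv1 F429642)
def n216374 : Q := act 6 n183166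
theorem D216374 : act 6 n183166 = n216374 := rfl
theorem F484062 : act 2 n216374 = n209504 := d3_1 D216374 (iv6 F453951) F398839
theorem F484063 : act 3 n216374 = n208778 := d7_1 D216374 (iv6 D208778) F405047
theorem F484064 : act 4 n216374 = n209009 := d10_1 D216374 (iv6 F484061) (iv4 D216373)
theorem F484065 : act 5 n216374 = n210152 := d12_1 D216374 (iv6 D210152) (iv5 D137699) D137700 F364105
theorem F484066 : act 7 n216374 = n209505 := d14_2 F398841 D216374 F469769 F439772 (iv6 F398399)
theorem F484067 : act 0 n216374 = n209506 := d21_10 F453953 (iv1 F405229) F394282 F379979 (iv1 F483219) (iv6 F483223) F456384 (iv1 D210153) F364105 D216374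
theorem F484068 : act 0 n209501 = n216374 := d21_4 F366835 F366752 D211049 F459900 (iv6 D216374) (iv5 F364105) (iv1 F444148) (iv5 F450963) F450964 F439732
def n216375 : Q := act 3 n183167
theorem D216375 : act 3 n183167 = n216375 := rfl
theorem F484069 : act 2 n216375 = n187620 := d0_1 D216375 F371025 F145013 (iv3 F295369) F356763
theorem F484070 : act 4 n216375 = n183172 := d5_2 D183167 D216375 (iv3 D183172) (iv4 D87433) (iv3 F134188)
theorem F484071 : act 5 n216375 = n187613 := d6_2 F356762 D216375 F371015
theorem F484072 : act 6 n216375 = n212908 := d7_2 F371406 D216375 F468060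
theorem F484073 : act 0 n216375 = n214432 := d20_4 (iv4 F374800) F295017 D183167 D216375 F475156 F372149 F474356 F474357 (iv3 F421117) F421119
def n216376 : Q := act 1 n183168
theorem D216376 : act 1 n183168 = n216376 := rfl
theorem F484074 : act 1 n216376 = n188695 := d15_1 D216376 (iv7 D188695) F356756
theorem F484075 : act 7 n216376 = n188693 := d15_2 (iv0 F462279) D216376 (iv2 F462273)
theorem F484076 : act 5 n216376 = n210212 := d17_7 (iv1 D99824) (iv5 D46623) D46621 D99821 (iv4 F356746) F286690 D216376 (iv0 F456601) (iv4 D192175)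
theorem F484077 : act 4 n201091 = n216376 := d20_6 F466642 F420512 D201710 F421527 D201718 (iv3 F421537) (iv1 D216376) (iv4 F371407) (iv3 F468060) F468063
theorem F484078 : act 6 n210213 = n216376 := d21_3 (iv5 F441105) F441107 D210213 (iv1 D216376) (iv6 D183168) (iv5 D87431) (iv1 F72991) (iv5 F295171) D187617 F448745
theorem F484079 : act 2 n188694 = n216376 := d16_9 (iv4 F484077) (iv5 D201091) F391679 (iv5 D90531) (iv4 F73563) F334884 (iv4 F226070) D211588 F462276
def n216377 : Q := act 4 n183170
theorem D216377 : act 4 n183170 = n216377 := rfl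
theorem F484080 : act 2 n216377 = n188682 := d1_1 D216377 (iv4 D188682) F292927
theorem F484081 : act 3 n216377 = n191767 := d5_1 D216377 (iv4 F384398) (iv3 D191156) D191157 F382431
theorem F484082 : act 6 n216377 = n191489 := d10_2 F289368 D216377 F383557
theorem F484083 : act 7 n216377 = n188680 := d11_2 F292925 D216377 (iv4 D188680)
theorem F484084 : act 5 n216377 = n192288 := d17_5 (iv1 F143919) D99328 (iv1 F375916) (iv5 F375918) D216377 (iv0 D192288) (iv5 D100017) D100015 (iv4 F153962)
theorem F484085 : act 0 n216377 = n194400 := d17_0 F393056 (iv1 F385224) (iv5 D191266) F150973 D97953 F157303 F135058 D183170 D216377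
theorem F484086 : act 1 n216377 = n209815 := d18_6 F457338 (iv4 F453903) (iv1 F453906) F426805 (iv5 F375918) D216377 (iv4 F456222) (iv0 F456225) (iv5 F457337)
def n216378 : Q := act 0 n183172
theorem D216378 : act 0 n183172 = n216378 := rfl
theorem F484087 : act 5 n216378 = n189108 := d17_1 D216378 (iv1 F375775) (iv5 F356762) F229868 (iv5 F356645) D189109 (iv5 F475158) (iv0 F484073) F484070
theorem F484088 : act 3 n216378 = n213044 := d20_5 (iv4 D94110) (iv1 F69210) D87433 D183172 D216378 F468751 (iv1 F469088) (iv4 F469092) (iv3 D190515) F147748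
theorem F484089 : act 6 n216378 = n188018 := d21_5 F427787 (iv1 F186659) D151341 F356761 D216378 (iv5 D188018) (iv1 F142822) F335926 (iv6 F335931) (iv1 F427790)
theorem F484090 : act 2 n188019 = n216378 := d15_3 (iv0 D216378) (iv0 F475160) F475159
theorem F484091 : act 1 n216375 = n216378 := d15_0 (iv0 D216378) (iv7 F371026) (iv2 F484069)
theorem F484092 : act 4 n203360 = n216378 := d18_5 (iv1 F375775) (iv4 D183167) (iv1 F295019) F374795 D203360 (iv0 D216378) (iv4 F484070) F484091 F484087
theorem F484093 : act 7 n216378 = n195600 := d15_2 (iv0 F484073) F484091 (iv2 F475155)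
def n216379 : Q := act 2 n183172
theorem D216379 : act 2 n183172 = n216379 := rfl
theorem F484094 : act 3 n216379 = n189110 := d0_2 D183172 D216379 (iv2 D189110) (iv3 D93281) (iv2 F295291)
theorem F484095 : act 4 n216379 = n187620 := d1_2 F484070 D216379 (iv2 F484069)
theorem F484096 : act 5 n216379 = n188298 := d2_2 F295290 D216379 (iv2 D188298)
theorem F484097 : act 6 n216379 = n203303 := d3_2 F356761 D216379 F427767
theorem F484098 : act 7 n216379 = n216375 := d4_2 F371026 D216379 F484069
theorem F484099 : act 1 n216379 = n195600 := d15_0 (iv0 F397543) F371026 D216379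
theorem F484100 : act 1 n188019 = n216379 := d15_0 F484099 (iv7 F484093) (iv2 F484090)
def n216380 : Q := act 5 n183213
theorem D216380 : act 5 n183213 = n216380 := rfl
theorem F484101 : act 2 n216380 = n198722 := d2_1 D216380 F408989 F286121
theorem F484102 : act 3 n216380 = n207417 := d6_1 D216380 (iv5 D207417) (iv3 F284868)
theorem F484103 : act 6 n216380 = n183216 := d12_2 D183213 D216380 (iv5 D183216) (iv6 D87458) D87457
theorem F484104 : act 7 n216380 = n198723 := d13_2 F381295 D216380 F408992
theorem F484105 : act 0 n216380 = n198724 := d17_2 F364028 D216380 F408995 (iv4 F408983) (iv5 F415276) (iv0 F428649) F428648 F347845 (iv4 F347831)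
theorem F484106 : act 0 n190154 = n216380 := d21_1 (iv5 F378996) (iv5 D216380) (iv6 D183213) (iv1 F134838) (iv6 F308341) (iv5 F157060) D193652 (iv5 F414380) (iv6 F414382) (iv1 D198696)
def n216381 : Q := act 5 n183218
theorem D216381 : act 5 n183218 = n216381 := rfl
theorem F484107 : act 2 n216381 = n198554 := d2_1 D216381 (iv5 D198554) F362075
theorem F484108 : act 3 n216381 = n198722 := d6_1 D216381 F408989 F286122
theorem F484109 : act 6 n216381 = n183221 := d12_2 D183218 D216381 (iv5 D183221) (iv6 D87460) D87459
theorem F484110 : act 7 n216381 = n198552 := d13_2 F362086 D216381 (iv5 D198552)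
def n216382 : Q := act 4 n183221
theorem D216382 : act 4 n183221 = n216382 := rfl
def n216383 : Q := act 3 n183255
theorem D216383 : act 3 n183255 = n216383 := rfl
theorem F484111 : act 2 n216383 = n210087 := d0_1 D216383 F456102 (iv2 F439457) F439458 F332546
theorem F484112 : act 5 n216383 = n198545 := d6_2 (iv5 F332547) D216383 F408297
theorem F484113 : act 6 n216383 = n198712 := d7_2 F399835 D216383 F408963
theorem F484114 : act 7 n216383 = n210077 := d8_2 F380341 D216383 F456073
theorem F484115 : act 0 n216383 = n210086 := d19_4 (iv1 F443990) F443987 F332552 D216383 F456100 (iv4 F445255) (iv3 F473825) F473829 (iv5 D208288) F443018 (iv3 F450582) F450586 (iv5 F446095) (iv4 F450927) F450924 (iv1 F377016) (iv5 F364105) F349654 D196110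
theorem F484116 : act 0 n189845 = n216383 := d20_4 (iv4 F356912) (iv1 F377986) (iv4 D189850) (iv3 F377972) (iv3 D216383) (iv4 F332552) (iv1 F332553) F150046 F71707 (iv1 F147142)
def n216384 : Q := act 3 n183390
theorem D216384 : act 3 n183390 = n216384 := rfl
theorem F484117 : act 4 n216384 = n198907 := d5_2 D183390 D216384 (iv3 F456945) F456946 F338415
theorem F484118 : act 7 n216384 = n207072 := d8_2 F383949 D216384 F443201
theorem F484119 : act 0 n216384 = n200077 := d20_10 (iv4 D200077) F326072 (iv4 F208186) (iv3 F442969) F442972 (iv3 F380807) (iv4 D190722) F293519 D183390 D216384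
theorem F484120 : act 1 n216384 = n200079 := d15_1 (iv0 F484119) F414935 (iv2 F414928)
theorem F484121 : act 2 n207074 = n216384 := d15_3 F484120 F414936 (iv7 F443208)
def n216385 : Q := act 7 n183393
theorem D216385 : act 7 n183393 = n216385 := rfl
theorem F484122 : act 2 n216385 = n212726 := d4_1 D216385 F467280 F367498
theorem F484123 : act 3 n216385 = n215284 := d8_1 D216385 F479209 F383578
theorem F484124 : act 5 n216385 = n183394 := d13_1 D216385 (iv7 D183394) D183393
theorem F484125 : act 1 n212712 = n216385 := d15_1 (iv0 F467205) (iv7 D216385) (iv2 F367498)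
theorem F484126 : act 1 n216385 = n212738 := d15_1 F484125 F467303 (iv2 F467202)
def n216386 : Q := act 4 n183399
theorem D216386 : act 4 n183399 = n216386 := rfl
theorem F484127 : act 7 n216386 = n206963 := d11_2 F383762 D216386 F442762
theorem F484128 : act 5 n216386 = n206921 := d18_4 D207798 F446492 (iv1 F367686) D216386 F442615 (iv0 F431197) F431196 (iv0 F446500) (iv5 D207800)
theorem F484129 : act 1 n216386 = n212415 := d18_8 (iv1 F443121) F443117 (iv1 F453420) F453422 F446496 F446494 F383767 D216386 F465706
def n216387 : Q := act 6 n183399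
theorem D216387 : act 6 n183399 = n216387 := rfl
theorem F484130 : act 3 n216387 = n211571 := d7_1 D216387 (iv6 F462188) F383665
def n216388 : Q := act 6 n183404
theorem D216388 : act 6 n183404 = n216388 := rfl
theorem F484131 : act 3 n216388 = n206730 := d7_1 D216388 F441991 (iv3 F366039)
theorem F484132 : act 4 n216388 = n183405 := d10_1 D216388 (iv6 D183405) D183404
theorem F484133 : act 5 n216388 = n206729 := d12_1 D216388 (iv6 F443154) F443153 (iv6 F444125) F444124
def n216389 : Q := act 0 n183405
theorem D216389 : act 0 n183405 = n216389 := rfl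
theorem F484134 : act 4 n216389 = n207746 := d20_8 F362151 F324199 (iv4 F345870) (iv3 F414950) (iv1 F441994) (iv3 F484131) F484132 D216389 (iv3 F446224) F216291
theorem F484135 : act 5 n216389 = n209192 := d21_8 (iv5 D210517) F396784 (iv5 F373276) (iv6 D188394) F285129 F456933 (iv5 F456934) D216389 F452651 (iv1 F457891)
theorem F484136 : act 3 n207320 = n216389 := d6_3 F484135 (iv3 D209192) (iv5 F444323)
theorem F484137 : act 7 n209622 = n216389 := d13_0 F484135 F452652 D209622
def n216390 : Q := act 1 n183405
theorem D216390 : act 1 n183405 = n216390 := rfl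
theorem F484138 : act 5 n216390 = n209620 := d17_7 F477827 F467897 (iv1 F428029) F428027 F456932 (iv5 F456934) D216390 F454344 (iv4 F477826)
theorem F484139 : act 4 n216390 = n207676 := d18_7 (iv1 F451514) F451512 F456194 F456191 (iv5 F484133) F484132 D216390 F446228 D207748
theorem F484140 : act 3 n183476 = n216390 := d20_3 (iv4 F367847) (iv1 F367852) (iv4 F394246) (iv1 D216390) (iv3 F383895) F451519 (iv1 F483759) (iv4 D216307) (iv3 D182775) (iv1 F332722)
theorem F484141 : act 6 n207675 = n216390 := d21_3 F441254 (iv1 F450984) F450983 (iv1 D216390) (iv6 D183405) (iv5 D87550) (iv1 F72654) D98586 F363944 F441258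
theorem F484142 : act 2 n216390 = n209622 := d3_1 F484141 (iv6 F454351) (iv2 F445962)
def n216391 : Q := act 7 n183405
theorem D216391 : act 7 n183405 = n216391 := rfl
theorem F484143 : act 1 n209622 = n216391 := d15_1 (iv0 F454352) (iv7 D216391) (iv2 F367726)
def n216392 : Q := act 3 n183409
theorem D216392 : act 3 n183409 = n216392 := rfl
theorem F484144 : act 2 n216392 = n206981 := d0_1 D216392 F442831 F207855 D129861 F412714
theorem F484145 : act 4 n216392 = n196214 := d5_2 F450784 D216392 F399924 (iv4 F375729) (iv3 F450783)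
theorem F484146 : act 6 n216392 = n205678 := d7_2 F437854 D216392 (iv3 F437853)
theorem F484147 : act 7 n216392 = n207065 := d8_2 F483643 D216392 F483644
theorem F484148 : act 0 n216392 = n195267 := d19_4 (iv1 F483082) F483078 F450784 D216392 (iv5 F453281) F453280 F381090 (iv1 F328349) F176477 F82661 F40171 (iv1 F80976) (iv5 F80977) D63015 D134153 F356275 D137960 F350430 D190710
theorem F484149 : act 1 n216392 = n207064 := d15_1 (iv0 F484148) (iv7 F453261) F445769
def n216393 : Q := act 1 n183411
theorem D216393 : act 1 n183411 = n216393 := rfl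
theorem F484150 : act 7 n216393 = n207945 := d15_2 F467007 D216393 (iv2 F467004)
theorem F484151 : act 5 n216393 = n205751 := d17_7 (iv1 F251363) F251359 (iv1 F210020) (iv5 F418811) (iv4 F442400) F442401 D216393 F437705 F437456
theorem F484152 : act 3 n205752 = n216393 := d20_3 F208157 D205739 (iv4 F437708) (iv1 D216393) (iv3 D183411) (iv4 D87554) D87552 D183407 (iv3 F437668) F437670
theorem F484153 : act 0 n207987 = n216393 := d20_4 (iv4 F351693) (iv1 D132992) (iv4 F213634) (iv3 F447293) (iv3 F484152) F437708 (iv1 F437646) (iv4 F361168) (iv3 F414829) F414832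
def n216394 : Q := act 2 n183411
theorem D216394 : act 2 n183411 = n216394 := rfl
theorem F484154 : act 3 n216394 = n207074 := d0_2 D183411 D216394 F484121 (iv3 D216384) F285104
theorem F484155 : act 4 n216394 = n183519 := d1_2 (iv4 F285130) D216394 (iv2 D183519)
theorem F484156 : act 5 n216394 = n207658 := d2_2 F442401 D216394 F445882
theorem F484157 : act 6 n216394 = n201733 := d3_2 F419240 D216394 F421612
theorem F484158 : act 7 n216394 = n207987 := d4_2 (iv7 F400088) D216394 F447292
theorem F484159 : act 1 n207945 = n216394 := d15_1 (iv0 F447101) F484158 F447292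
def n216395 : Q := act 3 n183432
theorem D216395 : act 3 n183432 = n216395 := rfl
theorem F484160 : act 2 n216395 = n195733 := d0_1 D216395 (iv3 F436300) (iv2 F470827) F470828 F363723
theorem F484161 : act 4 n216395 = n188615 := d5_2 D183432 D216395 F374195 F360921 F285142
theorem F484162 : act 5 n216395 = n195769 := d6_2 (iv5 F339643) D216395 F398097
theorem F484163 : act 7 n216395 = n204926 := d8_2 (iv7 F363722) D216395 (iv3 D204926)
theorem F484164 : act 0 n216395 = n187760 := d20_10 (iv4 D187760) (iv1 F364338) F398192 F398190 (iv1 F179054) F357319 (iv4 D154015) F308300 D183432 D216395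
theorem F484165 : act 0 n187792 = n216395 := d20_4 (iv4 D154350) D154348 (iv4 F446258) F446257 (iv3 D216395) (iv4 D183432) (iv1 F308299) D154019 D213515 F470797
theorem F484166 : act 6 n195579 = n216395 := d14_5 F484163 (iv6 F437093) F437094 (iv6 D195727) (iv7 F397427)
def n216396 : Q := act 6 n183432
theorem D216396 : act 6 n183432 = n216396 := rfl
theorem F484167 : act 2 n216396 = n195956 := d3_1 D216396 F398847 F363723
theorem F484168 : act 3 n216396 = n195579 := d7_1 D216396 F484166 (iv3 D216395)
theorem F484169 : act 4 n216396 = n183433 := d10_1 D216396 (iv6 D183433) D183432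
theorem F484170 : act 5 n216396 = n195772 := d12_1 D216396 (iv6 D195772) (iv5 D106251) D106252 (iv5 F339643)
theorem F484171 : act 7 n216396 = n195725 := d14_2 (iv7 F363722) D216396 (iv6 F397957) F347321 F347320
theorem F484172 : act 0 n216396 = n195958 := d21_4 (iv5 F339640) F335845 (iv5 F339643) D216396 (iv6 F399485) (iv5 F483715) F483716 (iv5 F417174) F417175 F285209
theorem F484173 : act 0 n195955 = n216396 := d21_4 D196066 (iv1 F399279) F211658 D195955 (iv6 D216396) F339643 D195774 F398115 (iv6 D106616) D106612
def n216397 : Q := act 1 n183433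
theorem D216397 : act 1 n183433 = n216397 := rfl
theorem F484174 : act 1 n216397 = n190737 := d15_1 D216397 F380875 (iv2 F366819)
theorem F484175 : act 7 n216397 = n213522 := d15_2 (iv0 F460825) D216397 (iv2 F470837)
theorem F484176 : act 5 n216397 = n194700 := d17_7 F394148 (iv5 D113156) F174858 D200037 F414721 F366844 D216397 (iv0 D194700) (iv4 F394146)
theorem F484177 : act 6 n210153 = n216397 := d21_3 D216288 F483655 F456384 (iv1 D216397) (iv6 D183433) (iv5 D87559) (iv1 F306393) D72880 (iv6 F337805) F337802
theorem F484178 : act 2 n216397 = n213523 := d3_1 F484177 (iv6 F470841) (iv2 F456383)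
def n216398 : Q := act 5 n183452
theorem D216398 : act 5 n183452 = n216398 := rfl
theorem F484179 : act 2 n216398 = n205559 := d2_1 D216398 (iv5 D205559) (iv2 F345941)
theorem F484180 : act 6 n216398 = n207468 := d12_2 (iv6 F345943) D216398 F445069 (iv6 D195049) (iv5 F203057)
theorem F484181 : act 4 n216398 = n195669 := d16_2 D183452 D216398 F397799 F290375 (iv5 F200526) F304665 F134768 (iv7 F345932) F345930
theorem F484182 : act 1 n216398 = n201522 := d17_6 (iv1 F199555) (iv5 F240981) (iv1 F242044) (iv5 F310389) D183452 D216398 (iv5 F432231) F432233 F242049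
def n216399 : Q := act 5 n183457
theorem D216399 : act 5 n183457 = n216399 := rfl
theorem F484183 : act 3 n216399 = n205562 := d6_1 D216399 F437001 F345934
theorem F484184 : act 4 n216399 = n213525 := d9_1 D216399 (iv5 D213525) (iv4 D154035) F109384 (iv4 F112583) (iv5 F310389) D183452 D216398 F484181 F397799 F290375 (iv5 F200526) F304665 F134768 D183457
theorem F484185 : act 7 n216399 = n205559 := d13_2 (iv7 F345933) D216399 (iv5 D205559)
theorem F484186 : act 0 n216399 = n201522 := d17_2 F328262 D216399 (iv5 F432231) (iv4 D204365) (iv5 F240099) F304641 F156033 F328259 (iv4 F164220)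
def n216400 : Q := act 5 n183459
theorem D216400 : act 5 n183459 = n216400 := rfl
theorem F484187 : act 2 n216400 = n201684 := d2_1 D216400 F421363 F389048
theorem F484188 : act 7 n216400 = n201683 := d13_2 F389055 D216400 F421359
theorem F484189 : act 4 n216400 = n211544 := d16_2 (iv4 F285210) D216400 F462054 F422248 F339625 F309280 F135083 (iv7 F156042) F156043
theorem F484190 : act 0 n216400 = n201685 := d17_2 D183459 D216400 F421368 F242342 (iv5 F241545) (iv0 F241546) (iv5 F310389) (iv0 D87566) D87568
theorem F484191 : act 1 n216400 = n195248 := d17_6 (iv1 F308317) (iv5 F190092) D152899 F307567 (iv4 F285210) D216400 (iv5 F396463) (iv0 F389040) (iv4 D193172)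
def n216401 : Q := act 5 n183460
theorem D216401 : act 5 n183460 = n216401 := rfl
theorem F484192 : act 2 n216401 = n201683 := d2_1 D216401 F421359 F389054
theorem F484193 : act 3 n216401 = n190562 := d6_1 D216401 (iv5 F380146) F336402
theorem F484194 : act 4 n216401 = n188796 := d9_1 D216401 F374935 F373972 (iv5 F404612) F404613 F307567 (iv4 F285210) D216400 F484189 F462054 F422248 F339625 F309280 F135083 (iv4 F285211)
theorem F484195 : act 6 n216401 = n188795 := d12_2 (iv6 F336401) D216401 F380137 (iv6 D190557) (iv5 F152021)
theorem F484196 : act 7 n216401 = n201684 := d13_2 F389050 D216401 F421363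
theorem F484197 : act 0 n216401 = n195248 := d17_2 F362885 D216401 (iv5 F396463) F242338 (iv5 F240981) F311651 F134768 F310390 (iv4 F362900)
theorem F484198 : act 1 n216401 = n201685 := d17_6 D73074 (iv5 F242088) (iv1 F308316) F135083 (iv4 F285211) D216401 F421368 (iv0 D154232) (iv4 D73076)
def n216402 : Q := act 6 n183476
theorem D216402 : act 6 n183476 = n216402 := rfl
theorem F484199 : act 2 n216402 = n207285 := d3_1 D216402 F444155 (iv2 F417195)
theorem F484200 : act 3 n216402 = n207675 := d7_1 D216402 F484141 (iv3 F484140)
theorem F484201 : act 4 n216402 = n208106 := d10_1 D216402 (iv6 F447897) (iv4 F394246)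
theorem F484202 : act 7 n216402 = n210153 := d14_2 (iv7 F417193) D216402 F484177 F484175 F470835
theorem F484203 : act 0 n216402 = n195953 := d21_10 F398844 (iv1 F377015) F364104 F337805 (iv1 F310390) (iv6 F412615) F412614 F461291 F461290 D216402
theorem F484204 : act 0 n195951 = n216402 := d21_4 (iv5 F93833) D126692 F203887 (iv6 F398837) (iv6 D216402) (iv5 F461290) F461292 F453941 (iv6 D137672) F219112
def n216403 : Q := act 4 n183486
theorem D216403 : act 4 n183486 = n216403 := rfl
theorem F484205 : act 2 n216403 = n191181 := d1_1 D216403 (iv4 F483580) F483583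
theorem F484206 : act 5 n216403 = n199838 := d9_2 F378216 D216403 F413751 (iv5 F386657) F386656 (iv5 F369081) F369080 (iv5 F378214) (iv4 F379259) (iv5 F395103) F395105 (iv5 F404790) F404788 (iv5 F386226) F386225
theorem F484207 : act 6 n216403 = n191156 := d10_2 (iv6 F384399) D216403 F384398
theorem F484208 : act 7 n216403 = n215292 := d11_2 F378902 D216403 F479250
theorem F484209 : act 0 n216403 = n215293 := d17_0 F479259 (iv1 F387865) (iv5 D192809) F289691 D185307 F392081 (iv5 F483587) F483590 D216403
theorem F484210 : act 1 n216403 = n190753 := d18_6 F368441 D191987 (iv1 F387906) F386225 F378216 D216403 F380923 (iv0 F362410) D186894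
theorem F484211 : act 3 n216403 = n191158 := d20_3 (iv4 F134465) D183486 D216403 (iv1 F382437) F369064 F291284 F73736 (iv4 F291483) (iv3 F137036) F137038
def n216404 : Q := act 5 n183494
theorem D216404 : act 5 n183494 = n216404 := rfl
theorem F484212 : act 2 n216404 = n197166 := d2_1 D216404 F403360 F367666
theorem F484213 : act 3 n216404 = n196162 := d6_1 D216404 F439314 F439309
theorem F484214 : act 7 n216404 = n196154 := d13_2 (iv7 F363455) D216404 F399641
theorem F484215 : act 0 n216404 = n197164 := d17_2 F374695 D216404 (iv5 F403354) (iv4 F452252) F452253 F385475 (iv5 F483708) (iv0 F483711) (iv4 F374693)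
theorem F484216 : act 1 n216404 = n190456 := d17_6 F157686 (iv5 D102589) F293611 (iv5 F293619) D183494 D216404 F462310 F462311 (iv4 D186679)
theorem F484217 : act 6 n216404 = n197177 := d21_3 (iv5 F374694) F374695 D216404 (iv1 F448367) (iv6 D208208) F335870 (iv1 F314149) F215272 D207401 F444704
def n216405 : Q := act 1 n183496
theorem D216405 : act 1 n183496 = n216405 := rfl
theorem F484218 : act 7 n216405 = n201887 := d15_2 F482784 D216405 (iv2 F482778)
theorem F484219 : act 5 n216405 = n190655 := d17_7 (iv1 F406202) F434981 (iv1 D204727) (iv5 D124277) (iv4 F146907) (iv5 F367077) D216405 F380467 F377796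
theorem F484220 : act 4 n216405 = n185857 := d17_9 F366119 D208893 F452412 (iv5 D209133) (iv4 F452406) F452407 (iv0 D189808) (iv5 F367077) D216405
theorem F484221 : act 3 n207570 = n216405 := d19_19 (iv1 D216405) F367077 F146907 (iv3 D57937) (iv1 F55816) (iv5 F91672) (iv4 D57949) (iv3 F91665) D124301 F253460 D163960 (iv3 F327240) (iv1 F170825) (iv5 F327255) F132101 D163830 D214927 F477471 F471095
theorem F484222 : act 2 n216405 = n215180 := d0_1 F484221 F478756 F434809 (iv3 F358977) F445494
theorem F484223 : act 6 n216405 = n185856 := d7_2 F445497 F484221 F354360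
theorem F484224 : act 0 n195756 = n216405 := d20_4 (iv4 F99320) (iv1 F364717) (iv4 F377839) (iv3 F398054) (iv3 F484221) (iv4 F471095) F471097 F445632 F433987 (iv1 D131987)
def n216406 : Q := act 2 n183496
theorem D216406 : act 2 n183496 = n216406 := rfl
theorem F484225 : act 3 n216406 = n205566 := d0_2 D183496 D216406 F437014 F267336 (iv2 F293625)
theorem F484226 : act 4 n216406 = n195759 := d1_2 (iv4 F439313) D216406 F439310
theorem F484227 : act 5 n216406 = n189810 := d2_2 (iv5 F367077) D216406 (iv2 D189810)
theorem F484228 : act 6 n216406 = n209125 := d3_2 (iv6 F395407) D216406 (iv2 F452372)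
theorem F484229 : act 7 n216406 = n195756 := d4_2 F367078 D216406 F398053
theorem F484230 : act 1 n216406 = n215180 := d15_0 (iv0 D215180) F367078 D216406
theorem F484231 : act 1 n201887 = n216406 := d15_0 F484230 (iv7 F482781) F482778
def n216407 : Q := act 1 n183506
theorem D216407 : act 1 n183506 = n216407 := rfl
theorem F484232 : act 1 n216407 = n205566 := d15_1 D216407 (iv7 D205566) (iv2 F377838)
theorem F484233 : act 7 n216407 = n200931 := d15_2 (iv0 F419095) D216407 F418420
theorem F484234 : act 5 n216407 = n190653 := d17_7 (iv1 F257542) D214726 F476559 (iv5 D166681) (iv4 F146925) F364714 D216407 F380462 F377803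
theorem F484235 : act 4 n216407 = n200934 := d17_9 (iv1 F418430) F397714 (iv1 D112940) F82413 (iv4 F165921) (iv5 F383828) (iv0 D189811) F364714 D216407
theorem F484236 : act 6 n196088 = n216407 := d21_9 (iv5 F364714) D189811 F383828 (iv6 D107541) F78486 D52345 D113401 D200745 F417745 (iv1 D216407)
theorem F484237 : act 2 n216407 = n196089 := d3_1 F484236 (iv6 D196089) D196088
def n216408 : Q := act 5 n183509
theorem D216408 : act 5 n183509 = n216408 := rfl
theorem F484238 : act 2 n216408 = n213539 := d2_1 D216408 F470926 F380751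
theorem F484239 : act 6 n216408 = n210668 := d12_2 F456812 D216408 F458399 F471172 F471171
theorem F484240 : act 7 n216408 = n213540 := d13_2 F380755 D216408 F470931
theorem F484241 : act 0 n216408 = n204975 := d17_2 D183509 D216408 F434406 (iv4 F397956) F436306 F436304 F436218 F398043 F285247
theorem F484242 : act 1 n216408 = n184297 := d17_8 F438537 F402911 F321498 D180476 F348158 (iv5 F380760) F380763 D216408 (iv4 F438535)
def n216409 : Q := act 3 n183518
theorem D216409 : act 3 n183518 = n216409 := rfl
theorem F484243 : act 2 n216409 = n195765 := d0_1 D216409 F398078 (iv2 F332770) (iv3 F202289) F359012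
theorem F484244 : act 5 n216409 = n189816 := d6_2 F363214 D216409 (iv3 D189816)
theorem F484245 : act 7 n216409 = n196229 := d8_2 F400090 D216409 F422233
theorem F484246 : act 6 n195738 = n216409 := d14_5 F484245 (iv6 F441317) F441318 (iv6 D195762) (iv7 F398000)
theorem F484247 : act 1 n196231 = n216409 := d15_1 F399990 F484245 (iv2 F422232)
theorem F484248 : act 1 n216409 = n196225 := d15_1 F484247 (iv7 F439327) F439323
def n216410 : Q := act 6 n183518
theorem D216410 : act 6 n183518 = n216410 := rfl
theorem F484249 : act 2 n216410 = n205322 := d3_1 D216410 F435933 F359012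
theorem F484250 : act 3 n216410 = n195738 := d7_1 D216410 F484246 (iv3 D216409)
theorem F484251 : act 4 n216410 = n212371 := d10_1 D216410 (iv6 F465547) F443145
theorem F484252 : act 5 n216410 = n205319 := d12_1 D216410 (iv6 D205319) (iv5 D125769) (iv6 F363215) F363214
theorem F484253 : act 0 n216410 = n205408 := d21_4 F380848 (iv1 F248681) F363214 D216410 F436282 F211525 (iv1 F211345) D206484 F441038 (iv1 F380851)
theorem F484254 : act 0 n205406 = n216410 := d21_4 (iv5 F342899) (iv1 F342906) D200753 (iv6 F436280) (iv6 D216410) (iv5 F363214) (iv1 D95287) D95289 D189821 F377875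
theorem F484255 : act 7 n216410 = n195760 := d15_2 (iv0 F441338) (iv0 F484253) (iv2 F441334)
def n216411 : Q := act 6 n183526
theorem D216411 : act 6 n183526 = n216411 := rfl
theorem F484256 : act 3 n216411 = n186744 := d7_1 D216411 F367863 (iv3 F345232)
theorem F484257 : act 4 n216411 = n183527 := d10_1 D216411 (iv6 D183527) D183526
theorem F484258 : act 7 n216411 = n186739 := d14_2 F345234 D216411 (iv6 D186739) F136789 D98649
theorem F484259 : act 5 n216411 = n193837 := d21_6 (iv5 F456592) (iv1 F456595) (iv5 D137956) D137957 F356274 D216411 (iv1 F456697) (iv5 D210238) (iv6 D137996) D137992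
def n216412 : Q := act 0 n183527
theorem D216412 : act 0 n183527 = n216412 := rfl
theorem F484260 : act 5 n216412 = n191284 := d17_3 F456698 F287445 D216412 (iv4 F428219) (iv5 F428218) (iv0 D191489) D191490 (iv0 F383562) (iv4 F456696)
theorem F484261 : act 1 n216411 = n216412 := d17_6 D97964 (iv5 F289367) (iv1 F289369) F283700 D193837 (iv5 F484259) F484260 (iv0 D191284) (iv4 D97966)
def n216413 : Q := act 1 n183527
theorem D216413 : act 1 n183527 = n216413 := rfl
theorem F484262 : act 1 n216413 = n216411 := d15_1 D216413 F484258 F367844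
theorem F484263 : act 5 n216413 = n191285 := d17_7 (iv1 F150986) (iv5 F289295) (iv1 F289297) (iv5 F157123) F358598 F287445 D216413 F382875 F285563
def n216414 : Q := act 7 n183527
theorem D216414 : act 7 n183527 = n216414 := rfl
theorem F484264 : act 2 n216414 = n216411 := d4_1 D216414 F484258 F367844
theorem F484265 : act 3 n216414 = n183534 := d8_1 D216414 (iv7 D183534) (iv3 F285253)
theorem F484266 : act 4 n216414 = n186739 := d11_1 D216414 (iv7 F484258) F484257
theorem F484267 : act 6 n216414 = n186738 := d14_1 D216414 F367842 F345238 (iv7 F294429) D183527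
def n216415 : Q := act 3 n183528
theorem D216415 : act 3 n183528 = n216415 := rfl
theorem F484268 : act 5 n216415 = n183774 := d6_2 (iv5 F285254) D216415 (iv3 D183774)
theorem F484269 : act 6 n216415 = n188681 := d7_2 F292929 D216415 (iv3 D188681)
theorem F484270 : act 7 n216415 = n213743 := d8_2 (iv7 F289300) D216415 F471883
theorem F484271 : act 4 n216415 = n189356 := d20_6 F64634 F62443 (iv4 F61898) (iv3 F134469) D183528 D216415 F376460 F287619 F287617 F135233
theorem F484272 : act 2 n212270 = n216415 := d1_3 F484271 F376458 (iv4 F465065)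
def n216416 : Q := act 4 n183528
theorem D216416 : act 4 n183528 = n216416 := rfl
theorem F484273 : act 2 n216416 = n191489 := d1_1 D216416 F383557 F289366
theorem F484274 : act 3 n216416 = n186714 := d5_1 D216416 (iv4 F447437) F447436 (iv4 F484271) (iv3 D216415)
theorem F484275 : act 6 n216416 = n188682 := d10_2 F292929 D216416 (iv4 D188682)
theorem F484276 : act 7 n216416 = n191406 := d11_2 (iv7 F289300) D216416 F383378
theorem F484277 : act 5 n216416 = n192247 := d17_5 (iv1 D40846) D40847 D87682 (iv5 F285254) D216416 (iv0 F386198) (iv5 D183949) (iv0 F289777) (iv4 D87679)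
theorem F484278 : act 0 n216416 = n187071 := d17_0 (iv5 F392013) (iv1 F392015) (iv5 D191271) (iv4 D97957) D97958 (iv0 F370430) (iv5 D187459) F291154 D216416
theorem F484279 : act 1 n216416 = n191486 := d18_6 (iv1 F428210) F448792 (iv1 F448791) (iv4 D183775) (iv5 F285254) D216416 F383552 (iv0 F383390) (iv5 F428207)
def n216417 : Q := act 4 n183532
theorem D216417 : act 4 n183532 = n216417 := rfl
theorem F484280 : act 2 n216417 = n189783 := d1_1 D216417 (iv4 D189783) (iv2 F286530)
theorem F484281 : act 3 n216417 = n196240 := d5_1 D216417 (iv4 D196240) F164596 D134456 F366837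
theorem F484282 : act 5 n216417 = n206072 := d9_2 (iv5 F353717) D216417 F439120 D207002 F442929 F287546 (iv4 F337933) (iv5 F358609) (iv4 F470805) F470806 (iv4 F445581) F445580 F368207 F136964 (iv4 F285701)
theorem F484283 : act 6 n216417 = n200690 := d10_2 F444208 D216417 (iv4 F444206)
theorem F484284 : act 7 n216417 = n189785 := d11_2 (iv7 F286528) D216417 (iv4 D189785)
theorem F484285 : act 0 n216417 = n195243 := d18_2 D183532 D216417 F396439 (iv5 F358619) (iv4 D154403) F241681 (iv4 F358585) (iv0 D185061) F135148
theorem F484286 : act 1 n216417 = n189802 := d18_6 (iv1 F470593) (iv4 D213479) F355063 (iv4 F285701) (iv5 F353717) D216417 F377802 (iv0 F345938) (iv5 F364039)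
def n216418 : Q := act 5 n183753
theorem D216418 : act 5 n183753 = n216418 := rfl
theorem F484287 : act 2 n216418 = n215825 := d2_1 D216418 F481700 F374660
theorem F484288 : act 3 n216418 = n183848 := d6_1 D216418 (iv5 D183848) F285523
theorem F484289 : act 7 n216418 = n184447 := d13_2 (iv7 F290218) D216418 (iv5 D184447)
theorem F484290 : act 0 n216418 = n213668 := d17_2 D183753 D216418 F471543 F377152 (iv5 F177036) (iv0 F177037) (iv5 D88479) D88477 (iv4 F135458)
theorem F484291 : act 1 n216418 = n183774 := d17_8 (iv1 F387073) F387071 (iv1 F241803) D154650 D213665 F471527 (iv0 F288072) D216418 (iv4 F364217)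
def n216419 : Q := act 0 n183754
theorem D216419 : act 0 n183754 = n216419 := rfl
theorem F484292 : act 5 n216419 = n216166 := d17_1 D216419 F483266 F465066 (iv4 D177959) D177960 (iv0 F386512) (iv5 F392094) F392096 (iv4 F332668)
theorem F484293 : act 3 n216419 = n183853 := d20_5 (iv4 F456703) (iv1 F456704) (iv4 D183758) (iv3 F285524) D216419 (iv4 F423958) F423960 (iv4 F386158) F386156 (iv1 F392016)
theorem F484294 : act 2 n215811 = n216419 := d15_3 (iv0 D216419) (iv0 F392097) (iv7 F481666)
theorem F484295 : act 1 n213665 = n216419 := d15_0 (iv0 D216419) (iv7 F374836) (iv2 F471526)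
theorem F484296 : act 7 n216419 = n185032 := d15_2 F471529 F484295 (iv2 F390994)
def n216420 : Q := act 6 n183754
theorem D216420 : act 6 n183754 = n216420 := rfl
theorem F484297 : act 2 n216420 = n214583 := d3_1 D216420 F475908 (iv2 F332659)
theorem F484298 : act 3 n216420 = n183759 := d7_1 D216420 (iv6 D183759) (iv3 F285524)
theorem F484299 : act 4 n216420 = n212993 := d10_1 D216420 F468502 (iv4 F332668)
theorem F484300 : act 0 n203061 = n216420 := d18_2 (iv1 D203060) D203061 F484299 (iv5 D212993) (iv4 D151969) (iv0 F337192) (iv4 F428922) (iv0 F428926) (iv5 F426832)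
def n216421 : Q := act 5 n183755
theorem D216421 : act 5 n183755 = n216421 := rfl
theorem F484301 : act 2 n216421 = n214538 := d2_1 D216421 (iv5 D214538) (iv2 F285525)
theorem F484302 : act 3 n216421 = n183762 := d6_1 D216421 (iv5 D183762) (iv3 F285526)
theorem F484303 : act 7 n216421 = n214532 := d13_2 F285528 D216421 (iv5 D214532)
theorem F484304 : act 4 n216421 = n216206 := d16_2 (iv4 F285527) D216421 F483373 (iv4 F457700) F457701 (iv4 D159696) D159697 (iv7 F251621) F251599
theorem F484305 : act 0 n216421 = n191703 := d17_2 F372910 D216421 (iv5 D191703) F152155 (iv5 F107819) (iv0 F354957) F142430 D187665 (iv4 F372911)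
def n216422 : Q := act 6 n183756
theorem D216422 : act 6 n183756 = n216422 := rfl
theorem F484306 : act 3 n216422 = n192244 := d7_1 D216422 (iv6 D192244) (iv3 F285529)
theorem F484307 : act 4 n216422 = n213619 := d10_1 D216422 (iv6 F471320) F456696
theorem F484308 : act 0 n212867 = n216422 := d21_4 (iv5 D76262) (iv1 F107749) D151181 D212867 (iv6 D216422) (iv5 D183756) F157379 D193864 F391240 F186774
def n216423 : Q := act 6 n183758
theorem D216423 : act 6 n183758 = n216423 := rfl
theorem F484309 : act 2 n216423 = n210627 := d3_1 D216423 F458255 F382849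
theorem F484310 : act 3 n216423 = n213612 := d7_1 D216423 (iv6 F471296) F332669
theorem F484311 : act 4 n216423 = n183759 := d10_1 D216423 (iv6 D183759) D183758
theorem F484312 : act 5 n216423 = n210612 := d12_1 D216423 (iv6 F458213) F427116 F448787 (iv5 F448786)
theorem F484313 : act 7 n216423 = n210624 := d14_2 F382855 D216423 F458248 F237094 (iv6 F382860)
theorem F484314 : act 0 n210401 = n216423 := d21_4 F428063 (iv1 F204586) D206063 (iv6 F457405) (iv6 D216423) F448786 (iv1 F448784) (iv5 F428201) (iv6 D203417) (iv1 F428062)
def n216424 : Q := act 5 n183759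
theorem D216424 : act 5 n183759 = n216424 := rfl
theorem F484315 : act 2 n216424 = n216137 := d2_1 D216424 F483140 F382851
theorem F484316 : act 6 n216424 = n183762 := d12_2 D183759 D216424 (iv5 D183762) (iv6 D87676) D87675
def n216425 : Q := act 7 n183759
theorem D216425 : act 7 n183759 = n216425 := rfl
theorem F484317 : act 4 n216425 = n210624 := d11_1 D216425 (iv7 F484313) F484311
theorem F484318 : act 6 n216425 = n212834 := d14_1 D216425 F467690 (iv6 D191277) F160573 D183759
theorem F484319 : act 0 n185081 = n216425 := d21_4 F471162 (iv1 F471014) (iv5 F470595) F470596 F484318 F467689 F251704 (iv5 F474939) (iv6 F474941) (iv1 F471160)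
def n216426 : Q := act 5 n183764
theorem D216426 : act 5 n183764 = n216426 := rfl
theorem F484320 : act 2 n216426 = n183765 := d2_1 D216426 (iv5 D183765) D183764
theorem F484321 : act 3 n216426 = n213665 := d6_1 D216426 F471527 F288069
theorem F484322 : act 4 n216426 = n213851 := d9_1 D216426 (iv5 D213851) F245058 D200297 F415887 (iv5 D194262) F158371 D191269 (iv4 F472403) (iv5 D213853) F245065 (iv5 F202442) (iv4 F392561) (iv5 D194263) (iv4 F285545)
theorem F484323 : act 7 n216426 = n194264 := d13_2 (iv7 F285546) D216426 (iv5 D194264)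
theorem F484324 : act 0 n216426 = n185117 := d17_2 F372760 D216426 (iv5 F414239) (iv4 D199940) (iv5 F380393) F380391 F340577 F148067 (iv4 F372756)
theorem F484325 : act 1 n216426 = n210763 := d17_6 (iv1 F369581) (iv5 F160334) (iv1 F392562) (iv5 D194263) (iv4 F285545) D216426 F458723 (iv0 F415888) (iv4 F369578)
def n216427 : Q := act 6 n183765
theorem D216427 : act 6 n183765 = n216427 := rfl
theorem F484326 : act 3 n216427 = n183770 := d7_1 D216427 (iv6 D183770) (iv3 F285548)
theorem F484327 : act 4 n216427 = n213957 := d10_1 D216427 (iv6 D213957) (iv4 F359517)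
theorem F484328 : act 5 n216427 = n212438 := d12_1 D216427 F465798 (iv5 D187601) F293092 D183765
def n216428 : Q := act 5 n183775
theorem D216428 : act 5 n183775 = n216428 := rfl
theorem F484329 : act 3 n216428 = n187769 := d6_1 D216428 F371449 (iv3 F364216)
theorem F484330 : act 6 n216428 = n187768 := d21_3 D208296 (iv1 F448791) D216428 F371444 (iv6 D136828) (iv5 D64327) D64324 F103147 D64857 (iv1 F411666)
theorem F484331 : act 0 n191488 = n216428 := d19_0 (iv5 D216428) (iv4 D183775) D183774 (iv1 F484291) (iv5 D216418) F285521 (iv3 F288043) F288044 D187639 (iv4 F440943) F440940 (iv1 F211679) (iv5 F400019) (iv4 D196240) F164596 F168726 (iv5 F169026) (iv4 F341434) (iv3 F383556)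
def n216429 : Q := act 6 n183775
theorem D216429 : act 6 n183775 = n216429 := rfl
theorem F484332 : act 3 n216429 = n215585 := d7_1 D216429 (iv6 D215585) (iv3 F364216)
theorem F484333 : act 4 n216429 = n183776 := d10_1 D216429 (iv6 D183776) D183775
theorem F484334 : act 0 n210630 = n216429 := d18_2 (iv1 D210629) D210630 F484333 (iv5 F386803) (iv4 F428124) (iv0 F452476) F452473 (iv0 F457344) F458264
def n216430 : Q := act 7 n183776
theorem D216430 : act 7 n183776 = n216430 := rfl
theorem F484335 : act 2 n216430 = n213651 := d4_1 D216430 F471452 F382869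
theorem F484336 : act 3 n216430 = n215962 := d8_1 D216430 F482304 F458961
theorem F484337 : act 5 n216430 = n215961 := d13_1 D216430 F482299 F386803
theorem F484338 : act 6 n216430 = n213603 := d14_1 D216430 F471248 (iv6 D191283) F289299 D183776
theorem F484339 : act 0 n185192 = n216430 := d19_0 F484337 F482298 F453670 F341572 (iv5 F295024) F356649 (iv3 F356647) D189111 F375792 (iv4 D143755) (iv3 F346237) F346235 (iv5 D124705) F191119 D69982 F308455 D72814 F337926 D185192
theorem F484340 : act 1 n185192 = n191280 := d15_1 (iv0 F484339) (iv7 F471452) (iv2 F484335)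
theorem F484341 : act 1 n213652 = n216430 := d15_0 (iv0 F484339) F364100 D213652
theorem F484342 : act 1 n191280 = n213652 := d15_0 F484341 (iv7 D216430) (iv2 F382869)
theorem F484343 : act 0 n216216 = n216424 := d21_7 F157123 (iv1 F289370) F289367 D191280 (iv1 F484340) F364094 (iv5 F483393) (iv5 D216424) (iv6 D183759) F157644
def n216431 : Q := act 6 n183778
theorem D216431 : act 6 n183778 = n216431 := rfl
theorem F484344 : act 2 n216431 = n192257 := d3_1 D216431 F473109 (iv2 F473106)
theorem F484345 : act 3 n216431 = n183780 := d7_1 D216431 (iv6 D183780) D183778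
theorem F484346 : act 4 n216431 = n202016 := d10_1 D216431 F422712 F369580
theorem F484347 : act 0 n216431 = n192260 := d21_10 F386233 F184663 D155512 (iv6 F471967) F481882 F481880 (iv5 F414239) F414240 (iv5 F289351) D216431
theorem F484348 : act 1 n216431 = n192259 := d15_1 (iv0 F484347) (iv7 F386229) (iv2 F386231)
theorem F484349 : act 7 n192258 = n216431 := d8_0 F484345 (iv7 F471161) F471164
def n216432 : Q := act 3 n183779
theorem D216432 : act 3 n183779 = n216432 := rfl
theorem F484350 : act 2 n216432 = n215586 := d0_1 D216432 (iv3 D215586) F338089 (iv3 F382873) F382871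
theorem F484351 : act 4 n216432 = n202013 := d5_2 D183779 D216432 F422708 F369580 (iv3 D183778)
theorem F484352 : act 6 n216432 = n191499 := d7_2 F433178 D216432 F433180
def n216433 : Q := act 5 n183779
theorem D216433 : act 5 n183779 = n216433 := rfl
def n216434 : Q := act 3 n183781
theorem D216434 : act 3 n183781 = n216434 := rfl
theorem F484353 : act 0 n208360 = n216434 := d20_4 D208501 F449638 (iv4 D208362) (iv3 F449070) (iv3 D216434) (iv4 F386197) (iv1 F391242) (iv4 F450198) F450195 (iv1 F216941)
def n216435 : Q := act 5 n183781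
theorem D216435 : act 5 n183781 = n216435 := rfl
theorem F484354 : act 2 n216435 = n216412 := d2_1 D216435 F484260 (iv2 F428213)
theorem F484355 : act 7 n216435 = n216413 := d13_2 F428212 D216435 F484263
theorem F484356 : act 4 n216435 = n216433 := d16_4 D216416 F484277 F386197 D216435 (iv5 D216433) (iv4 D183779) (iv5 F136204) D186493 F289366
theorem F484357 : act 0 n186739 = n216435 := d21_10 (iv5 D216435) (iv1 F382882) F456694 (iv6 F456693) F448744 F448741 F356331 F295057 D89080 D186739
theorem F484358 : act 6 n211568 = n216435 := d21_5 F448740 F448745 (iv5 F441105) (iv6 F441108) (iv1 F462180) (iv5 D216435) (iv1 F382882) F456694 (iv6 F456693) F448744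
theorem F484359 : act 0 n216435 = n216414 := d18_0 F484266 F484357 F484356 (iv5 D216433) (iv4 D183779) F150992 (iv4 F382879) F382882 D216435
def n216436 : Q := act 6 n183781
theorem D216436 : act 6 n183781 = n216436 := rfl
theorem F484360 : act 7 n216436 = n213602 := d14_2 F428212 D216436 (iv6 D213602) F382955 F444986
theorem F484361 : act 0 n216436 = n185182 := d21_10 (iv5 F483393) F484343 (iv5 D216424) (iv6 D183759) F157644 (iv6 F358603) (iv5 F367846) F484357 (iv5 D216435) D216436
def n216437 : Q := act 3 n183782
theorem D216437 : act 3 n183782 = n216437 := rfl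
theorem F484362 : act 6 n216437 = n192253 := d7_2 (iv6 F444987) D216437 F386213
theorem F484363 : act 4 n216437 = n192254 := d20_6 F369450 F422330 F382949 (iv3 F382878) (iv1 F382881) D216437 (iv1 F386219) (iv4 F390323) F470592 F470591
theorem F484364 : act 0 n209794 = n216437 := d18_0 F484363 (iv1 F386219) (iv4 F390323) F390339 (iv4 F427242) F465079 F465076 (iv0 F454800) D209794
def n216438 : Q := act 4 n183782
theorem D216438 : act 4 n183782 = n216438 := rfl
theorem F484365 : act 2 n216438 = n203418 := d1_1 D216438 F428208 F428214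
theorem F484366 : act 3 n216438 = n185310 := d5_1 D216438 F378897 (iv3 F386215) (iv4 F484363) (iv3 D216437)
theorem F484367 : act 6 n216438 = n191300 := d10_2 (iv6 F444987) D216438 (iv4 F382942)
theorem F484368 : act 7 n216438 = n203419 := d11_2 (iv7 F428215) D216438 F428219
theorem F484369 : act 5 n216438 = n186488 := d16_1 D216438 F289354 F136204 D183779 D216433 (iv4 F484356) (iv5 D216435) (iv7 F428212) F428214
theorem F484370 : act 0 n216438 = n183949 := d17_0 (iv5 D183949) (iv1 F289776) D183756 (iv4 F456696) (iv5 D210238) (iv0 F445318) (iv5 D183784) D183782 D216438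
theorem F484371 : act 1 n216438 = n193864 := d18_8 F157376 (iv4 D87679) (iv1 D40846) F30911 D40847 D87684 D183782 D216438 (iv5 D193864)
def n216439 : Q := act 5 n183782
theorem D216439 : act 5 n183782 = n216439 := rfl
theorem F484372 : act 2 n216439 = n216413 := d2_1 D216439 F484263 F428214
theorem F484373 : act 4 n216439 = n216428 := d9_1 D216439 (iv5 D216428) (iv4 D183775) (iv5 F285254) D216416 F484277 F386197 D216435 F484356 (iv5 D216433) (iv4 D183779) (iv5 F136204) (iv4 F289354) (iv5 F484369) (iv4 D216438)
theorem F484374 : act 6 n216439 = n193354 := d12_2 (iv6 F444987) D216439 (iv5 F459076) (iv6 F459079) (iv5 F364030)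
theorem F484375 : act 7 n216439 = n216412 := d13_2 (iv7 F428215) D216439 F484260
theorem F484376 : act 0 n216439 = n186739 := d17_2 (iv1 F382881) D216439 F367846 (iv4 D185057) F135145 (iv0 F289293) F136204 F150992 (iv4 F382879)
theorem F484377 : act 1 n216439 = n216414 := d17_8 F484357 (iv5 D216435) (iv1 F382882) F456694 F456691 (iv5 D183784) D183782 D216439 F484266
def n216440 : Q := act 1 n183784
theorem D216440 : act 1 n183784 = n216440 := rfl
theorem F484378 : act 1 n216440 = n210237 := d15_1 D216440 F456695 F382876
theorem F484379 : act 7 n216440 = n210217 := d15_2 (iv0 F445318) D216440 F456622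
theorem F484380 : act 5 n216440 = n203402 := d17_7 (iv1 F160580) (iv5 D87680) (iv1 D40846) D40847 D87684 D183784 D216440 (iv0 F428157) (iv4 F358598)
theorem F484381 : act 4 n216440 = n208295 := d17_9 (iv1 F448784) (iv5 F428201) (iv1 F428206) D216433 (iv4 F484356) (iv5 D216435) (iv0 D183781) D183784 D216440
theorem F484382 : act 3 n209738 = n216440 := d19_19 (iv1 D216440) (iv5 D183784) (iv4 D87684) F61943 D40856 (iv5 F64443) (iv4 D41788) F31425 D19673 F31433 (iv4 F35110) (iv3 F74159) (iv1 F284794) (iv5 F289275) (iv4 F349057) (iv3 F396327) F396330 (iv5 F465077) F465076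
theorem F484383 : act 6 n198605 = n216440 := d21_3 (iv5 F180301) (iv1 F180640) D198605 (iv1 D216440) F445312 F445309 F368721 (iv5 D143103) (iv6 D67059) D67056
theorem F484384 : act 2 n216440 = n210239 := d3_1 F484383 F456701 (iv2 F408494)
def n216441 : Q := act 7 n183784
theorem D216441 : act 7 n183784 = n216441 := rfl
theorem F484385 : act 2 n216441 = n210237 := d4_1 D216441 F456695 F382876
theorem F484386 : act 3 n216441 = n206550 := d8_1 D216441 (iv7 F445317) F445314
theorem F484387 : act 4 n216441 = n191286 := d11_1 D216441 (iv7 F456695) F456691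
theorem F484388 : act 5 n216441 = n183785 := d13_1 D216441 (iv7 D183785) D183784
theorem F484389 : act 6 n216441 = n206549 := d14_1 D216441 (iv7 F449092) F449091 F449086 (iv6 F445312)
theorem F484390 : act 1 n210239 = n216441 := d15_1 F456702 (iv7 D216441) (iv2 F382876)
theorem F484391 : act 1 n216441 = n210217 := d15_1 F484390 (iv7 F484379) F484384
def n216442 : Q := act 6 n183850
theorem D216442 : act 6 n183850 = n216442 := rfl
theorem F484392 : act 2 n216442 = n183855 := d3_1 D216442 (iv6 D183855) (iv2 F285655)
theorem F484393 : act 3 n216442 = n185111 := d7_1 D216442 (iv6 D185111) (iv3 F285656)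
theorem F484394 : act 4 n216442 = n202001 := d10_1 D216442 F422683 F359536
theorem F484395 : act 0 n216442 = n213630 := d21_4 (iv5 D88188) (iv1 F134610) D183850 D216442 (iv6 D213630) (iv5 F448941) (iv1 F411827) (iv5 D185178) (iv6 D88250) (iv1 F285653)
def n216443 : Q := act 6 n183853
theorem D216443 : act 6 n183853 = n216443 := rfl
theorem F484396 : act 2 n216443 = n185030 := d3_1 D216443 (iv6 D185030) (iv2 F344317)
theorem F484397 : act 5 n216443 = n216168 := d12_1 D216443 (iv6 D216168) (iv5 D182056) D182057 (iv5 F344318)
theorem F484398 : act 7 n216443 = n213591 := d14_2 (iv7 F344319) D216443 F471198 F468764 F359593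
theorem F484399 : act 0 n216443 = n213592 := d21_4 (iv5 F368179) (iv1 F368181) (iv5 F344318) D216443 (iv6 F471195) (iv5 D209720) F409968 D136980 F365540 (iv1 F285694)
theorem F484400 : act 0 n208866 = n216443 := d21_4 (iv5 F466104) (iv1 D210546) F349427 F451169 (iv6 D216443) F344318 F344328 (iv5 D88249) D88250 D185176
theorem F484401 : act 6 n185228 = n185176 := d21_5 F484397 F483273 F377731 (iv6 D185231) D185228 (iv5 F466104) (iv1 D210546) F349427 F451169 F484400
theorem F484402 : act 5 n216217 = n185228 := d21_8 (iv5 D199354) D199352 F448941 D213630 (iv1 F471369) (iv6 D185150) (iv5 F283643) D216217 F484401 (iv1 F411821)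
def n216444 : Q := act 0 n183855
theorem D216444 : act 0 n183855 = n216444 := rfl
theorem F484403 : act 2 n213630 = n216444 := d15_3 (iv0 D216444) (iv0 F469415) (iv7 F471368)
theorem F484404 : act 6 n216444 = n213627 := d3_2 D213630 F484403 F471357
def n216445 : Q := act 0 n183858
theorem D216445 : act 0 n183858 = n216445 := rfl
theorem F484405 : act 2 n185073 = n216445 := d15_3 (iv0 D216445) (iv0 F432735) (iv7 F432598)
theorem F484406 : act 1 n185074 = n216445 := d15_0 (iv0 D216445) F285666 D185074
theorem F484407 : act 7 n216445 = n185072 := d15_2 (iv0 F432597) F484406 (iv2 F432594)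
theorem F484408 : act 5 n204037 = n216445 := d21_0 (iv1 F484406) (iv5 F483401) (iv6 D216221) F356422 F151424 (iv5 D45858) (iv1 F118896) D56753 D122450 D204037
def n216446 : Q := act 2 n183858
theorem D216446 : act 2 n183858 = n216446 := rfl
theorem F484409 : act 3 n216446 = n185149 := d0_2 D183858 D216446 (iv2 D185149) (iv3 D88238) (iv2 F134616)
theorem F484410 : act 6 n216446 = n204613 := d3_2 (iv6 F364066) D216446 (iv2 F433030)
theorem F484411 : act 7 n216446 = n185074 := d4_2 (iv7 F285666) D216446 (iv2 D185074)
theorem F484412 : act 1 n216446 = n185072 := d15_0 (iv0 D185072) (iv7 F285666) D216446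
theorem F484413 : act 1 n185073 = n216446 := d15_0 F484412 (iv7 F484407) (iv2 F484405)
def n216447 : Q := act 1 n183868
theorem D216447 : act 1 n183868 = n216447 := rfl
theorem F484414 : act 7 n216447 = n185229 := d15_2 (iv0 F420952) D216447 F481481
theorem F484415 : act 2 n216447 = n185228 := d15_3 (iv0 D185228) D185229 (iv7 F484414)
theorem F484416 : act 7 n185228 = n201568 := d4_2 (iv7 F484414) F484415 (iv2 F481481)
theorem F484417 : act 1 n216447 = n185230 := d15_0 F420953 (iv7 F484416) (iv2 F484415)
theorem F484418 : act 4 n213185 = n185228 := d11_3 F484416 F420951 D213185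
def n216448 : Q := act 2 n183868
theorem D216448 : act 2 n183868 = n216448 := rfl
theorem F484419 : act 3 n216448 = n185185 := d0_2 D183868 D216448 (iv2 D185185) (iv3 D88253) (iv2 F134620)
theorem F484420 : act 6 n216448 = n204597 := d3_2 F364091 D216448 F432976
theorem F484421 : act 7 n216448 = n185230 := d4_2 (iv7 F285683) D216448 (iv2 D185230)
theorem F484422 : act 1 n216448 = n185228 := d15_0 (iv0 D185228) (iv7 F285683) D216448
theorem F484423 : act 1 n185229 = n216448 := d15_0 F484422 F484416 (iv2 F481481)
def n216449 : Q := act 6 n183873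
theorem D216449 : act 6 n183873 = n216449 := rfl
theorem F484424 : act 2 n216449 = n183875 := d3_1 D216449 (iv6 D183875) D183873
theorem F484425 : act 3 n216449 = n185216 := d7_1 D216449 (iv6 D185216) (iv3 F285692)
theorem F484426 : act 0 n216449 = n204445 := d21_10 (iv5 D204445) (iv1 F241665) (iv5 F470543) F470544 (iv1 F468773) F468770 (iv5 F344330) F368180 F368179 D216449
theorem F484427 : act 0 n204447 = n216449 := d21_4 F471192 (iv1 D208407) D208408 F449224 (iv6 D216449) (iv5 F368179) (iv1 F368181) (iv5 F344318) D216443 F484399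
def n216450 : Q := act 3 n183874
theorem D216450 : act 3 n183874 = n216450 := rfl
theorem F484428 : act 2 n216450 = n215852 := d0_1 D216450 F481788 (iv2 F474085) F474086 F473003
theorem F484429 : act 4 n216450 = n183876 := d5_2 D183874 D216450 (iv3 D183876) (iv4 D87711) D87710
theorem F484430 : act 5 n216450 = n209861 := d6_2 F359541 D216450 F455180
theorem F484431 : act 7 n216450 = n185171 := d8_2 (iv7 F285696) D216450 (iv3 D185171)
theorem F484432 : act 0 n216450 = n215840 := d20_4 F463009 F285649 D183874 D216450 F481747 F458304 (iv1 F222650) D199283 F411465 (iv1 F463012)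
theorem F484433 : act 6 n208502 = n216450 := d14_5 F484431 (iv6 F364085) (iv7 F277236) D177985 (iv7 F449662)
theorem F484434 : act 0 n215837 = n216450 := d21_7 F455164 (iv1 F455134) (iv5 D152347) (iv6 F239486) (iv1 F389389) F482121 (iv5 F482120) F484430 (iv6 D209861) D209859
def n216451 : Q := act 6 n183874
theorem D216451 : act 6 n183874 = n216451 := rfl
theorem F484435 : act 3 n216451 = n208502 := d7_1 D216451 F484433 (iv3 D216450)
theorem F484436 : act 4 n216451 = n183875 := d10_1 D216451 (iv6 D183875) D183874
theorem F484437 : act 5 n216451 = n209862 := d12_1 D216451 (iv6 D209862) (iv5 D137031) D137032 F359541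
theorem F484438 : act 7 n216451 = n215842 := d14_2 (iv7 F285696) D216451 (iv6 D215842) F364088 (iv6 D185173)
def n216452 : Q := act 0 n183876
theorem D216452 : act 0 n183876 = n216452 := rfl
theorem F484439 : act 6 n216452 = n198070 := d21_5 (iv5 F363287) F363079 D208508 F449657 D216452 F406649 (iv1 F168897) D139383 F349422 (iv1 F363288)
theorem F484440 : act 5 n216452 = n210606 := d21_8 F424378 (iv1 F411721) (iv5 F448953) F448954 F363083 F368929 F368927 D216452 (iv6 D210606) (iv1 F424376)
theorem F484441 : act 1 n185185 = n216452 := d15_0 (iv0 D216452) F285699 D185185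
theorem F484442 : act 2 n185184 = n216452 := d2_3 F484440 (iv2 F473604) F473605
theorem F484443 : act 7 n185183 = n216452 := d13_0 F484440 F483408 F483407
def n216453 : Q := act 1 n183876
theorem D216453 : act 1 n183876 = n216453 := rfl
theorem F484444 : act 7 n216453 = n185184 := d15_2 (iv0 D216452) D216453 F484442
theorem F484445 : act 6 n204588 = n216453 := d21_3 (iv5 F406681) (iv1 F406684) D204588 (iv1 D216453) (iv6 F449657) (iv5 D208508) F413128 (iv5 F451151) (iv6 F451155) (iv1 F432963)
theorem F484446 : act 2 n216453 = n185183 := d3_1 F484445 F469546 (iv2 F469545)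
theorem F484447 : act 0 n185185 = n216453 := d21_4 (iv5 D120482) F301831 (iv5 F302096) F364084 (iv6 F484445) (iv5 D204588) (iv1 D124023) D124024 F198414 (iv1 F191926)
def n216454 : Q := act 2 n183876
theorem D216454 : act 2 n183876 = n216454 := rfl
theorem F484448 : act 3 n216454 = n185230 := d0_2 D183876 D216454 (iv2 D185230) (iv3 D88265) (iv2 F134624)
theorem F484449 : act 4 n216454 = n215852 := d1_2 F484429 D216454 (iv2 F484428)
theorem F484450 : act 6 n216454 = n208361 := d3_2 F449657 D216454 (iv2 F449655)
theorem F484451 : act 7 n216454 = n185185 := d4_2 (iv7 F285699) D216454 (iv2 D185185)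
theorem F484452 : act 1 n216454 = n185183 := d15_0 (iv0 D185183) (iv7 F285699) D216454
theorem F484453 : act 1 n185184 = n216454 := d15_0 F484452 F484443 (iv2 F484442)
theorem F484454 : act 4 n185183 = n215833 := d18_7 F481737 F462678 D211685 F462685 (iv5 F481789) (iv4 F484449) F484452 (iv0 D215833) D215835
theorem F484455 : act 4 n185184 = n215834 := d20_0 (iv1 D215834) F277530 (iv3 F277528) D215829 (iv3 F481721) F469057 D213240 F473088 (iv3 F484448) (iv1 F484453)
theorem F484456 : act 6 n215834 = n198044 := d10_2 F406626 F484455 F406575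
def n216455 : Q := act 2 n183881
theorem D216455 : act 2 n183881 = n216455 := rfl
theorem F484457 : act 3 n216455 = n185252 := d0_2 D183881 D216455 (iv2 D185252) (iv3 D88272) (iv2 F137691)
theorem F484458 : act 4 n216455 = n215855 := d1_2 F458688 D216455 F481804
theorem F484459 : act 6 n216455 = n212712 := d3_2 F364036 D216455 F467202
theorem F484460 : act 7 n216455 = n185261 := d4_2 (iv7 F285708) D216455 (iv2 D185261)
theorem F484461 : act 1 n216455 = n185259 := d15_0 (iv0 D185259) (iv7 F285708) D216455
theorem F484462 : act 1 n185260 = n216455 := d15_0 F484461 (iv7 F473803) F473802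
def n216456 : Q := act 0 n183883
theorem D216456 : act 0 n183883 = n216456 := rfl
theorem F484463 : act 1 n185252 = n216456 := d15_0 (iv0 D216456) F285710 D185252
theorem F484464 : act 6 n210408 = n216456 := d21_3 F471271 (iv1 F456869) (iv5 F457420) (iv1 F484463) (iv6 F338051) (iv5 F234387) F243629 (iv5 F234496) D212730 F471275
theorem F484465 : act 3 n216456 = n210410 := d7_1 F484464 (iv6 D210410) D210408
theorem F484466 : act 7 n216456 = n185250 := d14_2 (iv7 F457421) F484464 F467194 F460701 F460698
theorem F484467 : act 2 n216456 = n185251 := d16_9 (iv4 F473251) (iv5 D214050) F472584 F472586 F460782 D211251 F483421 F483419 (iv7 F484466)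
def n216457 : Q := act 1 n183883
theorem D216457 : act 1 n183883 = n216457 := rfl
theorem F484468 : act 7 n216457 = n185251 := d15_2 (iv0 D216456) D216457 (iv2 F484467)
theorem F484469 : act 2 n185250 = n216457 := d4_3 F484468 (iv2 F484467) F484466
theorem F484470 : act 1 n216457 = n185252 := d15_0 F484463 F484466 F484469
def n216458 : Q := act 2 n183883
theorem D216458 : act 2 n183883 = n216458 := rfl
theorem F484471 : act 3 n216458 = n185261 := d0_2 D183883 D216458 (iv2 D185261) (iv3 D88275) (iv2 F137689)
theorem F484472 : act 4 n216458 = n213160 := d1_2 F422316 D216458 F469275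
theorem F484473 : act 6 n216458 = n208483 := d3_2 F451065 D216458 F451066
theorem F484474 : act 7 n216458 = n185252 := d4_2 (iv7 F285710) D216458 (iv2 D185252)
theorem F484475 : act 1 n216458 = n185250 := d15_0 (iv0 D185250) (iv7 F285710) D216458
theorem F484476 : act 1 n185251 = n216458 := d15_0 F484475 (iv7 F484466) F484467
theorem F484477 : act 5 n216229 = n185251 := d17_7 F472694 (iv5 D213909) (iv1 D156059) D156060 (iv4 F329739) (iv5 F329856) D216229 F484476 F484472
def n216459 : Q := act 3 n183885
theorem D216459 : act 3 n183885 = n216459 := rfl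
theorem F484478 : act 6 n216459 = n204659 := d7_2 (iv6 F483461) D216459 F433179
theorem F484479 : act 7 n216459 = n216429 := d8_2 (iv7 F483462) D216459 F484332
theorem F484480 : act 4 n216459 = n216430 := d20_6 (iv4 D87711) (iv1 D40857) D40858 D87715 D183885 D216459 (iv1 F484341) F471457 (iv3 D185314) F135206
theorem F484481 : act 2 n215762 = n216459 := d1_3 F484480 F484335 (iv4 F481459)
theorem F484482 : act 0 n215839 = n216459 := d20_10 F484480 (iv1 F484341) F471457 (iv3 D185314) F135206 D183876 (iv4 F484429) F484432 (iv4 D215840) D215839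
def n216460 : Q := act 4 n183885
theorem D216460 : act 4 n183885 = n216460 := rfl
theorem F484483 : act 2 n216460 = n191624 := d1_1 D216460 (iv4 F483465) F483467
theorem F484484 : act 6 n216460 = n213642 := d10_2 (iv6 F483461) D216460 (iv4 D213642)
theorem F484485 : act 7 n216460 = n191502 := d11_2 (iv7 F483462) D216460 (iv4 F480644)
theorem F484486 : act 5 n216460 = n186718 := d16_1 D216460 (iv4 F384009) (iv5 D191646) F152004 D98613 D191653 (iv5 F450202) (iv7 F483464) F483467
theorem F484487 : act 1 n208795 = n216460 := d17_6 (iv1 F384025) (iv5 F380146) F384052 (iv5 F441410) F441409 D208795 F484486 (iv0 D186718) (iv4 F367778)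
def n216461 : Q := act 5 n183885
theorem D216461 : act 5 n183885 = n216461 := rfl
theorem F484488 : act 6 n216461 = n216312 := d12_2 (iv6 F483461) D216461 (iv5 D216312) (iv6 F468541) F468540
theorem F484489 : act 1 n216461 = n189199 := d17_6 (iv1 D194095) F157910 D186718 (iv5 F484486) (iv4 D216460) D216461 F376036 (iv0 F483444) F483439
def n216462 : Q := act 3 n183886
theorem D216462 : act 3 n183886 = n216462 := rfl
theorem F484490 : act 4 n216462 = n213182 := d5_2 (iv4 F450201) D216462 F469362 (iv4 D208501) D208500
theorem F484491 : act 6 n216462 = n193572 := d7_2 (iv6 F450203) D216462 (iv3 D193572)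
def n216463 : Q := act 6 n183892
theorem D216463 : act 6 n183892 = n216463 := rfl
theorem F484492 : act 2 n216463 = n183895 := d3_1 D216463 (iv6 D183895) (iv2 F285718)
theorem F484493 : act 3 n216463 = n185340 := d7_1 D216463 (iv6 D185340) (iv3 F285719)
theorem F484494 : act 5 n216463 = n191437 := d12_1 D216463 (iv6 D191437) (iv5 F151779) F135342 D183892
theorem F484495 : act 5 n185259 = n216224 := d21_0 (iv1 F483409) (iv5 F484494) (iv6 D216463) F285721 D185482 F287750 D191610 (iv5 F384042) (iv6 D185263) D185259
theorem F484496 : act 0 n185497 = n216463 := d21_4 (iv5 D209522) D209521 F454012 F433013 (iv6 D216463) (iv5 D183892) (iv1 F134639) D88354 D185473 F454021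
theorem F484497 : act 7 n185499 = n216463 := d13_0 F484494 (iv7 F483411) F483410
theorem F484498 : act 1 n185498 = n216463 := d15_1 D185498 (iv7 F484497) (iv2 D185499)
def n216464 : Q := act 6 n183893
theorem D216464 : act 6 n183893 = n216464 := rfl
theorem F484499 : act 2 n216464 = n185482 := d3_1 D216464 (iv6 D185482) F285725
theorem F484500 : act 4 n216464 = n210776 := d10_1 D216464 (iv6 D210776) F359518
theorem F484501 : act 5 n216464 = n191604 := d12_1 D216464 (iv6 D191604) (iv5 D98587) D98588 (iv5 F285724)
theorem F484502 : act 0 n216464 = n209283 := d21_1 (iv5 F484501) (iv5 D209283) (iv6 D136217) (iv1 F360511) F367704 (iv5 F387296) (iv1 F387298) (iv5 F358464) D213514 F470788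
def n216465 : Q := act 0 n183895
theorem D216465 : act 0 n183895 = n216465 := rfl
theorem F484503 : act 4 n216465 = n210783 := d18_3 (iv1 F467991) (iv4 F467992) D216465 (iv5 D210783) (iv4 D139693) (iv0 D65568) (iv4 F101271) D139642 D210748
theorem F484504 : act 2 n185498 = n216465 := d15_3 (iv0 D216465) (iv0 F392065) F392064
theorem F484505 : act 1 n185499 = n216465 := d15_0 (iv0 D216465) F329947 D185499
theorem F484506 : act 7 n216465 = n185497 := d15_2 F469399 F484505 (iv2 F392066)
def n216466 : Q := act 6 n183897
theorem D216466 : act 6 n183897 = n216466 := rfl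
theorem F484507 : act 2 n216466 = n193790 := d3_1 D216466 F392080 F392077
theorem F484508 : act 3 n216466 = n183898 := d7_1 D216466 (iv6 D183898) D183897
theorem F484509 : act 4 n216466 = n188239 := d10_1 D216466 (iv6 F471335) F471333
theorem F484510 : act 5 n216466 = n184092 := d12_1 D216466 (iv6 D184092) (iv5 F293841) F293842 (iv5 F285732)
theorem F484511 : act 7 n216466 = n193792 := d14_2 (iv7 F285733) D216466 (iv6 F471180) F471176 (iv6 D185374)
theorem F484512 : act 0 n216466 = n194126 := d21_4 (iv5 F483579) (iv1 D216271) (iv5 F285732) D216466 F392118 (iv5 D154562) (iv1 F241857) (iv5 F387060) F387061 (iv1 F378193)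
theorem F484513 : act 0 n187464 = n216466 := d21_4 (iv5 F290881) (iv1 F142454) F142452 D187464 (iv6 D216466) F285732 F378903 F378894 (iv6 F378895) (iv1 F151040)
def n216467 : Q := act 1 n183898
theorem D216467 : act 1 n183898 = n216467 := rfl
theorem F484514 : act 1 n216467 = n185388 := d15_1 D216467 (iv7 D185388) (iv2 F285734)
theorem F484515 : act 7 n216467 = n185386 := d15_2 (iv0 F366845) D216467 (iv2 F366810)
theorem F484516 : act 4 n216467 = n205857 := d17_9 F438161 (iv5 F452591) (iv1 F471481) (iv5 D213656) F394230 (iv5 F393984) (iv0 D184096) (iv5 F285735) D216467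
theorem F484517 : act 6 n203578 = n216467 := d21_3 F483609 (iv1 F392163) D203578 (iv1 D216467) (iv6 D183898) F134649 (iv1 F133559) D87034 D182278 D216281
theorem F484518 : act 3 n216467 = n203580 := d7_1 F484517 (iv6 D203580) (iv3 F428967)
theorem F484519 : act 2 n185387 = n216467 := d16_9 F484516 (iv5 D205857) (iv4 F352724) D206272 F440012 F394075 (iv4 F434243) F434244 (iv7 F366812)
def n216468 : Q := act 0 n183906
theorem D216468 : act 0 n183906 = n216468 := rfl
theorem F484520 : act 5 n216468 = n210590 := d19_1 D216468 (iv4 D210590) F222627 D139426 (iv5 F342830) (iv4 F410151) (iv3 F437163) F438169 F438168 (iv4 F213992) F363904 (iv1 D185771) (iv5 D88479) (iv4 F74044) F74043 (iv1 F61968) D40865 D87726 D183906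
theorem F484521 : act 4 n216468 = n209831 := d20_0 (iv1 F473277) F472576 F382912 F368301 (iv3 D185068) F135151 (iv1 F134644) D87726 D183906 D216468
theorem F484522 : act 1 n185340 = n216468 := d15_0 (iv0 D216468) F329858 (iv2 F287595)
theorem F484523 : act 6 n202116 = n216468 := d21_3 (iv5 D135907) (iv1 F179660) D202116 (iv1 F484522) (iv6 D185340) (iv5 D88303) (iv1 F74618) D102081 (iv6 F363006) (iv1 F218624)
theorem F484524 : act 2 n216468 = n185357 := d3_1 F484523 (iv6 F365613) (iv2 F422932)
theorem F484525 : act 7 n185356 = n216468 := d11_0 F484521 (iv7 F473264) F473257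
theorem F484526 : act 3 n216468 = n215794 := d8_1 F484525 F481604 (iv3 F482594)
def n216469 : Q := act 1 n183906
theorem D216469 : act 1 n183906 = n216469 := rfl
theorem F484527 : act 7 n216469 = n185357 := d15_2 (iv0 D216468) D216469 (iv2 F484524)
theorem F484528 : act 2 n185356 = n216469 := d4_3 F484527 (iv2 F484524) (iv7 F484525)
theorem F484529 : act 6 n203086 = n216469 := d14_5 F484527 (iv6 F365613) (iv7 F246602) (iv6 F464006) F464007
theorem F484530 : act 5 n216469 = n216277 := d21_6 (iv5 D32488) D32486 D69979 (iv6 F366788) (iv1 F426916) F484529 (iv1 D216277) F283716 F338050 (iv1 D69987)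
theorem F484531 : act 0 n185340 = n216469 := d21_4 (iv5 D69974) (iv1 F289763) D88303 D185340 (iv6 F484529) (iv5 D203086) (iv1 F184252) D117664 F345999 (iv1 D149108)
def n216470 : Q := act 2 n183906
theorem D216470 : act 2 n183906 = n216470 := rfl
theorem F484532 : act 3 n216470 = n185499 := d0_2 D183906 D216470 (iv2 D185499) (iv3 D88364) (iv2 F134656)
theorem F484533 : act 4 n216470 = n210136 := d1_2 F390541 D216470 F456305
theorem F484534 : act 7 n216470 = n185340 := d4_2 (iv7 F329858) D216470 F287595
theorem F484535 : act 1 n216470 = n185356 := d15_0 (iv0 D185356) (iv7 F329858) D216470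
theorem F484536 : act 1 n185357 = n216470 := d15_0 F484535 F484525 F484524
def n216471 : Q := act 4 n183921
theorem D216471 : act 4 n183921 = n216471 := rfl
theorem F484537 : act 3 n216471 = n188467 := d5_1 D216471 F373581 D188627 F374241 F371259
theorem F484538 : act 5 n216471 = n215589 := d9_2 D183921 D216471 F480666 F274880 (iv4 F368762) F368763 (iv4 D184064) D184065 (iv4 F390910) (iv5 D193756) (iv4 D102290) (iv5 D47469) (iv4 F74645) (iv5 F309544) F154824
theorem F484539 : act 0 n216471 = n214574 := d18_2 F372741 D216471 F475863 F372444 (iv4 F390848) (iv0 F483813) F483810 (iv0 F367650) (iv5 F372739)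
def n216472 : Q := act 0 n183930
theorem D216472 : act 0 n183930 = n216472 := rfl
theorem F484540 : act 4 n216472 = n194310 := d18_3 (iv1 F342303) F342312 D216472 (iv5 F479370) F479369 F276454 (iv4 F300731) F331881 (iv5 F320686)
theorem F484541 : act 3 n216472 = n193711 := d20_5 (iv4 F156000) F133552 D87746 D183930 D216472 (iv4 D193711) F378397 (iv4 F156261) F156260 (iv1 F155997)
theorem F484542 : act 1 n189058 = n216472 := d15_0 (iv0 D216472) (iv7 F394256) F394253
theorem F484543 : act 6 n214078 = n216472 := d21_3 D205001 F450297 (iv5 F473375) (iv1 F484542) (iv6 D189058) (iv5 F374333) (iv1 F472084) (iv5 D213786) (iv6 F434536) (iv1 D204999)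
theorem F484544 : act 7 n216472 = n193726 := d14_2 (iv7 F473376) F484543 F471895 (iv7 F478322) F478325
def n216473 : Q := act 1 n183930
theorem D216473 : act 1 n183930 = n216473 := rfl
theorem F484545 : act 4 n216473 = n215283 := d18_7 F447319 F460181 (iv1 D211119) F324355 (iv5 F342305) F342312 D216473 F479206 (iv5 F438699)
theorem F484546 : act 5 n216473 = n214945 := d18_9 F477578 (iv4 F473958) (iv1 F473962) F463284 F461547 (iv4 D203575) (iv0 F342311) F342312 D216473
theorem F484547 : act 2 n193726 = n216473 := d2_3 F484546 (iv2 F483004) F483007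
theorem F484548 : act 6 n214946 = n216473 := d12_0 F484546 (iv6 D214945) (iv5 D164003) D164004 D214946
theorem F484549 : act 0 n189058 = n216473 := d17_0 F484546 F477578 (iv5 F394274) F394273 (iv5 D166202) F331881 (iv5 F320686) F428953 F428956
def n216474 : Q := act 2 n183930
theorem D216474 : act 2 n183930 = n216474 := rfl
theorem F484550 : act 3 n216474 = n189062 := d0_2 D183930 D216474 F394121 (iv3 D194693) F159598
theorem F484551 : act 4 n216474 = n205444 := d1_2 F342312 D216474 F436454
theorem F484552 : act 6 n216474 = n205443 := d3_2 (iv6 F342321) D216474 F436451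
theorem F484553 : act 7 n216474 = n189058 := d4_2 F394256 D216474 (iv2 F394253)
theorem F484554 : act 1 n216474 = n193726 := d15_0 (iv0 F394257) F394256 D216474
def n216475 : Q := act 4 n183949
theorem D216475 : act 4 n183949 = n216475 := rfl
theorem F484555 : act 2 n216475 = n208296 := d1_1 D216475 (iv4 F448792) (iv2 F285802)
theorem F484556 : act 3 n216475 = n208461 := d5_1 D216475 F449460 F366269 F346025 (iv3 F285803)
theorem F484557 : act 5 n216475 = n208280 := d9_2 D183949 D216475 F448715 (iv5 F428201) F428200 F343276 (iv4 F157374) D193864 (iv4 F450198) (iv5 D208621) F216921 D208296 (iv4 F448792) (iv5 D177721) (iv4 F134719)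
theorem F484558 : act 6 n216475 = n193808 := d10_2 (iv6 F285804) D216475 F391053
theorem F484559 : act 7 n216475 = n203417 := d11_2 (iv7 F363005) D216475 F428200
theorem F484560 : act 0 n216475 = n191279 := d18_2 F484370 D216475 (iv4 D191279) (iv5 F289367) (iv4 F383557) (iv0 D191489) (iv4 F383552) (iv0 F383553) (iv5 F484369)
theorem F484561 : act 1 n216475 = n191282 := d18_6 (iv1 F72123) D97961 F289758 (iv4 F134719) D183949 D216475 (iv4 D191282) F150986 F134595
def n216476 : Q := act 5 n183965
theorem D216476 : act 5 n183965 = n216476 := rfl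
theorem F484562 : act 2 n216476 = n192038 := d2_1 D216476 (iv5 D192038) (iv2 F285824)
theorem F484563 : act 3 n216476 = n183966 := d6_1 D216476 (iv5 D183966) D183965
theorem F484564 : act 6 n216476 = n210609 := d12_2 F370494 D216476 F483908 (iv6 D216337) (iv5 F370493)
theorem F484565 : act 7 n216476 = n183982 := d13_2 (iv7 F285826) D216476 (iv5 D183982)
theorem F484566 : act 0 n216476 = n209575 := d17_2 F285828 D216476 F454205 F383535 F335413 F154736 (iv5 D87822) F177419 (iv4 F150961)
theorem F484567 : act 4 n216476 = n210610 := d17_4 F382804 (iv5 D191263) F285828 D216476 (iv5 F475214) (iv0 D214447) (iv5 F359929) D192046 F385336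
theorem F484568 : act 0 n209567 = n216476 := d21_10 (iv5 D216476) F285827 (iv5 F385323) (iv6 F410210) (iv1 D111740) D111742 F337459 (iv1 F314591) F314593 D209567
def n216477 : Q := act 6 n183967
theorem D216477 : act 6 n183967 = n216477 := rfl
theorem F484569 : act 2 n216477 = n183987 := d3_1 D216477 (iv6 D183987) (iv2 F285831)
theorem F484570 : act 3 n216477 = n192294 := d7_1 D216477 (iv6 D192294) (iv3 F285832)
theorem F484571 : act 5 n216477 = n208454 := d12_1 D216477 F449419 F369007 F289858 D183967
theorem F484572 : act 0 n216477 = n212012 := d21_10 (iv5 D212012) D212011 F463918 (iv6 D199063) (iv1 F345103) (iv6 D184002) F134744 (iv1 F134728) D183967 D216477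
theorem F484573 : act 0 n209629 = n216477 := d21_4 (iv5 D124144) (iv1 F305126) (iv5 F318991) D209629 (iv6 D216477) (iv5 D183967) (iv1 D87758) D87759 (iv6 F185731) (iv1 F361481)
def n216478 : Q := act 3 n183969
theorem D216478 : act 3 n183969 = n216478 := rfl
theorem F484574 : act 2 n216478 = n192039 := d0_1 D216478 F386142 F329838 (iv3 F329840) (iv2 F285848)
theorem F484575 : act 4 n216478 = n192045 := d5_2 F285877 D216478 (iv3 F420693) (iv4 F441478) (iv3 D193032)
theorem F484576 : act 6 n216478 = n192045 := d7_2 F375576 D216478 (iv3 F420693)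
theorem F484577 : act 7 n216478 = n183995 := d8_2 (iv7 F285847) D216478 (iv3 D183995)
theorem F484578 : act 0 n216478 = n192042 := d20_10 F388669 (iv1 D193074) (iv4 D101161) (iv3 D47117) (iv1 D22670) (iv3 F35218) D47100 D101113 F285877 D216478
theorem F484579 : act 0 n191263 = n216478 := d18_0 F484575 (iv1 F420692) F420687 (iv5 F335403) F293972 F285859 (iv4 F285825) (iv0 F285828) D191263
def n216479 : Q := act 1 n183973
theorem D216479 : act 1 n183973 = n216479 := rfl
theorem F484580 : act 1 n216479 = n183984 := d15_1 D216479 F285869 (iv2 F285852)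
theorem F484581 : act 7 n216479 = n192283 := d15_2 F362694 D216479 F386289
theorem F484582 : act 5 n216479 = n191844 := d17_7 (iv1 D189045) F343906 F338289 (iv5 D87763) D87762 D183973 D216479 (iv0 F384574) F375573
theorem F484583 : act 2 n192284 = n216479 := d2_3 F484582 F384570 (iv5 F386293)
theorem F484584 : act 3 n191845 = n216479 := d6_3 F484582 (iv3 D191844) D191845
def n216480 : Q := act 5 n183981
theorem D216480 : act 5 n183981 = n216480 := rfl
theorem F484585 : act 2 n216480 = n192042 := d2_1 D216480 F385323 (iv2 F285862)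
theorem F484586 : act 3 n216480 = n184065 := d6_1 D216480 (iv5 D184065) (iv3 F285864)
theorem F484587 : act 6 n216480 = n198991 := d12_2 (iv6 F285863) D216480 F410211 (iv6 F385230) F385229
theorem F484588 : act 7 n216480 = n191263 := d13_2 (iv7 F285860) D216480 (iv5 D191263)
theorem F484589 : act 4 n216480 = n210485 := d16_2 F293972 D216480 F475212 F475210 (iv5 F359929) (iv4 D99567) (iv5 D46538) D46539 (iv2 F293971)
theorem F484590 : act 0 n216480 = n183995 := d17_2 (iv1 F285859) D216480 (iv5 F393965) F393964 F372251 F385324 F385323 (iv0 F285827) F285825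
theorem F484591 : act 1 n214446 = n213653 := d17_6 F427859 (iv5 D192038) (iv1 F285859) D216480 F484589 F475212 F471463 F454201 F454199
theorem F484592 : act 1 n216480 = n192039 := d17_6 F335411 F291834 F335409 (iv5 F335403) F293972 D216480 (iv5 F458515) (iv0 F458519) F383535
theorem F484593 : act 3 n210487 = n193754 := d19_15 F484590 (iv5 F393965) F393964 (iv3 D188075) (iv1 D90781) D90783 D188077 F471787 (iv1 D213721) (iv5 D154755) D154754 (iv3 F314667) (iv1 D139160) D139161 D210487 (iv1 D193754) D193756 F390910 (iv3 F484586)
def n216481 : Q := act 1 n183982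
theorem D216481 : act 1 n183982 = n216481 := rfl
theorem F484594 : act 1 n216481 = n192038 := d15_1 D216481 F385315 F384902
theorem F484595 : act 7 n216481 = n209567 := d15_2 F427860 D216481 F454163
theorem F484596 : act 5 n216481 = n191687 := d17_7 F393967 (iv5 F454205) (iv1 F454206) (iv5 D191936) F153009 D183982 D216481 F384156 (iv4 F393964)
theorem F484597 : act 2 n209575 = n216481 := d2_3 F484596 F384153 (iv5 F454205)
theorem F484598 : act 3 n184066 = n216481 := d6_3 F484596 F384154 (iv5 F381818)
theorem F484599 : act 6 n216481 = n209582 := d21_3 (iv5 F372251) (iv1 F384156) (iv5 F484596) (iv1 F460647) (iv6 D211216) F224244 (iv1 F180517) (iv5 F410209) F410210 (iv1 F385324)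
def n216482 : Q := act 4 n183982
theorem D216482 : act 4 n183982 = n216482 := rfl
theorem F484600 : act 2 n216482 = n210621 := d1_1 D216482 F458241 F384902
theorem F484601 : act 3 n216482 = n209598 := d5_1 D216482 F454285 (iv3 D206919) F383482 (iv3 F285865)
theorem F484602 : act 6 n216482 = n209580 := d10_2 F363122 D216482 F454219
theorem F484603 : act 7 n216482 = n210610 := d11_2 F484565 D216482 (iv4 F484567)
theorem F484604 : act 1 n216482 = n192764 := d18_6 F177418 (iv4 F153299) F177414 F153009 D183982 D216482 (iv4 D192764) F154736 (iv5 D87822)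
theorem F484605 : act 0 n216482 = n192762 := d20_7 (iv4 D119213) F163524 (iv4 F383478) F383477 (iv1 F285857) (iv3 F285865) D216482 (iv4 D192762) F366025 F237953
def n216483 : Q := act 5 n183987
theorem D216483 : act 5 n183987 = n216483 := rfl
theorem F484606 : act 2 n216483 = n208454 := d2_1 D216483 (iv5 F484571) F484569
theorem F484607 : act 3 n216483 = n214523 := d6_1 D216483 (iv5 D214523) (iv3 F363123)
theorem F484608 : act 6 n216483 = n183990 := d12_2 D183987 D216483 (iv5 D183990) (iv6 D87769) D87768
theorem F484609 : act 4 n216483 = n191548 := d16_4 D216386 F484128 F442615 D216483 (iv5 D191548) (iv4 D98537) D98538 (iv7 F367685) F367683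
theorem F484610 : act 7 n216483 = n208471 := d16_8 (iv4 F439491) F439492 (iv4 D183398) D183399 D216386 F484128 F442615 D216483 (iv2 F449505)
theorem F484611 : act 1 n216483 = n207343 := d17_6 D206887 (iv5 F465706) (iv1 F484129) F484128 F442615 D216483 F444434 (iv0 F221362) F219455
theorem F484612 : act 0 n216483 = n207345 := d21_1 D216483 F453423 (iv6 F453425) (iv1 D204637) (iv6 D124149) (iv5 D57856) F199797 D123382 (iv6 F431195) F431197
def n216484 : Q := act 7 n183987
theorem D216484 : act 7 n183987 = n216484 := rfl
theorem F484613 : act 3 n216484 = n214515 := d8_1 D216484 F475569 (iv3 F363123)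
theorem F484614 : act 4 n216484 = n207723 := d11_1 D216484 F446159 F442615
theorem F484615 : act 5 n216484 = n208471 := d13_1 D216484 (iv7 F484610) (iv5 D216483)
theorem F484616 : act 6 n216484 = n209627 := d14_1 D216484 (iv7 F483914) F483913 F285830 D183987
theorem F484617 : act 1 n209629 = n216484 := d15_1 (iv0 F484573) (iv7 D216484) (iv2 F484569)
theorem F484618 : act 1 n216484 = n212012 := d15_1 F484617 F463926 (iv2 F454381)
def n216485 : Q := act 5 n183992
theorem D216485 : act 5 n183992 = n216485 := rfl
theorem F484619 : act 2 n216485 = n193033 := d2_1 D216485 (iv5 D193033) (iv2 F285876)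
theorem F484620 : act 3 n216485 = n188712 := d6_1 D216485 (iv5 F474944) F474945
theorem F484621 : act 6 n216485 = n193038 := d12_2 (iv6 F441480) D216485 (iv5 F388573) F446919 (iv5 D207896)
theorem F484622 : act 7 n216485 = n193036 := d13_2 (iv7 F285874) D216485 (iv5 D193036)
theorem F484623 : act 4 n216485 = n184110 := d16_2 D183992 D216485 (iv5 F362355) (iv4 F222526) F328894 (iv4 F343879) F343880 (iv7 F285847) F285848
theorem F484624 : act 0 n216485 = n206845 := d17_2 (iv1 F285884) D216485 (iv5 D206845) (iv4 F344184) F293909 (iv0 F375546) F375545 (iv0 D101043) D101045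
theorem F484625 : act 1 n216485 = n206923 := d17_6 (iv1 F345094) (iv5 D103927) D103924 F343867 D183992 D216485 F442621 F442372 F442371
def n216486 : Q := act 4 n183995
theorem D216486 : act 4 n183995 = n216486 := rfl
theorem F484626 : act 2 n216486 = n192046 := d1_1 D216486 F385336 F365300
theorem F484627 : act 3 n216486 = n207897 := d5_1 D216486 (iv4 D207897) (iv3 F388379) (iv4 D183996) D183995
theorem F484628 : act 7 n216486 = n192045 := d11_2 F484577 D216486 (iv4 F484575)
theorem F484629 : act 0 n216486 = n191265 := d17_0 (iv5 F428192) F458239 (iv5 D210620) F385316 (iv5 D192038) (iv0 D99547) D99549 (iv0 F385321) D216486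
theorem F484630 : act 1 n216486 = n192048 := d18_6 F292862 D191688 F384159 (iv4 F393964) F393965 D216486 F385338 F157668 (iv5 F292864)
theorem F484631 : act 6 n210259 = n216486 := d21_3 F454176 (iv1 F456525) (iv5 F456770) F484629 F382817 F219760 F219716 D64226 D136643 D209570
def n216487 : Q := act 6 n183995
theorem D216487 : act 6 n183995 = n216487 := rfl
theorem F484632 : act 2 n216487 = n208456 := d3_1 D216487 F449439 F365300
theorem F484633 : act 3 n216487 = n183997 := d7_1 D216487 (iv6 D183997) D183995
theorem F484634 : act 4 n216487 = n210259 := d10_1 D216487 F484631 (iv4 D216486)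
theorem F484635 : act 5 n216487 = n208687 := d12_1 D216487 F450451 F448884 (iv6 F393966) F393965
theorem F484636 : act 7 n216487 = n210259 := d14_2 F484577 D216487 F484631 F484628 (iv6 F484576)
theorem F484637 : act 0 n216487 = n208291 := d21_4 F454165 F393968 F393965 D216487 (iv6 F475595) F475594 F448763 (iv5 F475561) F475562 F454166
theorem F484638 : act 1 n216487 = n210222 := d15_1 (iv0 F484637) F456640 (iv2 F448765)
def n216488 : Q := act 5 n183996
theorem D216488 : act 5 n183996 = n216488 := rfl
theorem F484639 : act 2 n216488 = n193036 := d2_1 D216488 (iv5 D193036) (iv2 F285880)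
theorem F484640 : act 3 n216488 = n207898 := d6_1 D216488 (iv5 D207898) (iv3 F388379)
theorem F484641 : act 4 n216488 = n184111 := d9_1 D216488 (iv5 F385036) F385037 (iv5 F364422) (iv4 F343895) F343867 D183992 D216485 F484623 (iv5 F362355) (iv4 F222526) F328894 (iv4 F343879) F343880 D183996
theorem F484642 : act 7 n216488 = n193033 := d13_2 (iv7 F285881) D216488 (iv5 D193033)
theorem F484643 : act 0 n216488 = n206923 := d17_2 (iv1 F285883) D216488 F442621 (iv4 F362667) (iv5 F368030) (iv0 F368031) F155703 F155702 (iv4 F155777)
theorem F484644 : act 1 n216488 = n206845 := d17_6 (iv1 F345095) (iv5 F375552) F375553 F343880 D183996 D216488 (iv5 D206845) D206844 F442378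
def n216489 : Q := act 6 n183996
theorem D216489 : act 6 n183996 = n216489 := rfl
theorem F484645 : act 2 n216489 = n193037 := d3_1 D216489 (iv6 D193037) (iv2 F285880)
theorem F484646 : act 3 n216489 = n207899 := d7_1 D216489 (iv6 D207899) (iv3 F388379)
theorem F484647 : act 4 n216489 = n183997 := d10_1 D216489 (iv6 D183997) D183996
theorem F484648 : act 7 n216489 = n207899 := d14_2 (iv7 F285881) D216489 (iv6 D207899) (iv7 F388560) F441479
theorem F484649 : act 5 n215064 = n216489 := d21_2 D209609 (iv1 F478152) (iv6 D216489) F285882 (iv6 F236269) F355366 (iv1 F208176) (iv5 F219426) (iv6 F446125) (iv1 F446126)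
theorem F484650 : act 0 n215064 = n209606 := d21_7 (iv5 F450480) F450481 F388585 (iv6 D193048) (iv1 F285883) D216489 (iv5 F484649) (iv5 D209606) D209607 (iv1 F454321)
theorem F484651 : act 1 n208539 = n216489 := d18_6 (iv1 F99636) F333835 (iv1 D63250) (iv4 F98486) D134603 D208539 F484647 F375558 (iv5 D136232)
def n216490 : Q := act 7 n184041
theorem D216490 : act 7 n184041 = n216490 := rfl
theorem F484652 : act 2 n216490 = n209500 := d4_1 D216490 F453942 F384303
theorem F484653 : act 3 n216490 = n186757 := d8_1 D216490 (iv7 F375672) (iv3 F375675)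
theorem F484654 : act 5 n216490 = n200604 := d13_1 D216490 F417161 F412614
theorem F484655 : act 6 n216490 = n194661 := d14_1 D216490 F393997 (iv6 F338908) F308570 D184041
theorem F484656 : act 1 n209614 = n216490 := d15_1 F454337 (iv7 D216490) (iv2 F384303)
theorem F484657 : act 1 n216490 = n209193 := d15_1 F484656 F452655 D209614
def n216491 : Q := act 6 n184053
theorem D216491 : act 6 n184053 = n216491 := rfl
theorem F484658 : act 3 n216491 = n184055 := d7_1 D216491 (iv6 D184055) D184053
theorem F484659 : act 5 n216491 = n216280 := d12_1 D216491 F483608 F470216 (iv6 D204929) (iv5 F366801)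
def n216492 : Q := act 7 n184055
theorem D216492 : act 7 n184055 = n216492 := rfl
theorem F484660 : act 2 n216492 = n204956 := d4_1 D216492 (iv7 D204956) F366814
theorem F484661 : act 4 n216492 = n211120 := d11_1 D216492 F460187 (iv4 F360595)
theorem F484662 : act 5 n216492 = n213398 := d13_1 D216492 F470221 (iv5 F286004)
theorem F484663 : act 6 n216492 = n204938 := d14_1 D216492 (iv7 D204938) (iv6 D124785) (iv7 F308459) D184055
theorem F484664 : act 1 n204955 = n216492 := d15_1 D204955 (iv7 D216492) (iv2 F366814)
theorem F484665 : act 1 n216492 = n204954 := d15_1 F484664 (iv7 F459906) F459905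
def n216493 : Q := act 0 n184060
theorem D216493 : act 0 n184060 = n216493 := rfl
theorem F484666 : act 4 n216493 = n206830 := d20_0 (iv1 F442965) F442966 (iv3 D204522) F304363 F338898 (iv4 D184056) (iv1 D87795) D87796 D184060 D216493
theorem F484667 : act 3 n196742 = n216493 := d20_5 (iv4 D125126) (iv1 F92440) D85836 D179712 F401660 F484666 (iv1 F442965) F442966 (iv3 D204522) F304363
theorem F484668 : act 6 n216493 = n196740 := d7_2 D196742 F484667 F401652
def n216494 : Q := act 2 n184060
theorem D216494 : act 2 n184060 = n216494 := rfl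
theorem F484669 : act 3 n216494 = n214425 := d0_2 D184060 D216494 F475120 F371690 F159711
theorem F484670 : act 4 n216494 = n214430 := d1_2 F467650 D216494 F475148
theorem F484671 : act 5 n216494 = n208701 := d2_2 (iv5 F350386) D216494 F450490
theorem F484672 : act 6 n216494 = n184112 := d3_2 (iv6 F286007) D216494 (iv2 D184112)
def n216495 : Q := act 7 n184060
theorem D216495 : act 7 n184060 = n216495 := rfl
theorem F484673 : act 3 n216495 = n184062 := d8_1 D216495 (iv7 D184062) D184060
theorem F484674 : act 5 n216495 = n208587 := d13_1 D216495 F450020 (iv5 F350386)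
theorem F484675 : act 6 n216495 = n198239 := d14_1 D216495 (iv7 F448927) F448926 (iv7 D184114) (iv6 F286007)
def n216496 : Q := act 6 n184065
theorem D216496 : act 6 n184065 = n216496 := rfl
theorem F484676 : act 2 n216496 = n210675 := d3_1 D216496 F458421 F387188
theorem F484677 : act 3 n216496 = n198991 := d7_1 D216496 (iv6 F484587) F484586
theorem F484678 : act 4 n216496 = n210496 := d10_1 D216496 F457789 F390910
theorem F484679 : act 5 n216496 = n202527 := d12_1 D216496 F424381 (iv5 D194697) F177433 D184065
theorem F484680 : act 7 n216496 = n199787 := d14_2 F378181 D216496 (iv6 F443244) F443245 F433063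
theorem F484681 : act 0 n211195 = n213100 := d21_10 (iv5 F469009) F484513 F484510 (iv6 D184092) (iv1 F366084) D216496 F484679 F424386 (iv5 F224223) D211195
theorem F484682 : act 0 n215787 = n211197 := d20_1 (iv4 F481580) F460572 (iv3 F460566) F484681 (iv3 D213100) F239718 (iv1 F177186) D114543 D201463 (iv1 F458945)
theorem F484683 : act 0 n210694 = n216496 := d17_0 F484679 F424386 (iv5 F224223) (iv4 F378690) (iv5 F426171) (iv0 D202912) (iv5 F231944) (iv0 F426728) (iv4 F458462)
theorem F484684 : act 1 n202553 = n216496 := d17_6 (iv1 F425897) (iv5 F378565) F378567 (iv5 D142363) (iv4 F181200) (iv5 F424469) F484679 (iv0 F424385) (iv4 F425894)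
def n216497 : Q := act 4 n184066
theorem D216497 : act 4 n184066 = n216497 := rfl
def n216498 : Q := act 6 n184066
theorem D216498 : act 6 n184066 = n216498 := rfl
theorem F484685 : act 3 n216498 = n209582 := d7_1 D216498 (iv6 F484599) (iv3 F484598)
theorem F484686 : act 7 n216498 = n209578 := d14_2 F387199 D216498 (iv6 D209578) (iv7 F454161) (iv6 F454162)
theorem F484687 : act 0 n216498 = n210679 := d21_4 F293880 D184228 (iv5 F381818) D216498 (iv6 D210679) (iv5 D139498) D139495 D210675 F458421 F387191
theorem F484688 : act 0 n216174 = n216498 := d20_4 F373388 (iv1 F330106) (iv4 F350094) (iv3 F483285) F484685 (iv4 F475647) F475648 F470293 F470289 (iv1 F373392)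
def n216499 : Q := act 0 n184068
theorem D216499 : act 0 n184068 = n216499 := rfl
theorem F484689 : act 4 n216499 = n188141 := d18_3 (iv1 D184067) D184068 D216499 F372468 (iv4 D184400) (iv0 D87945) (iv4 F134883) D184229 (iv5 F383920)
theorem F484690 : act 2 n188142 = n216499 := d15_3 (iv0 D216499) (iv0 F394064) F394063
theorem F484691 : act 7 n216499 = n209392 := d4_2 F394063 F484690 F453542
theorem F484692 : act 3 n212449 = n216499 := d8_3 F484691 F453543 (iv7 F465835)
theorem F484693 : act 6 n216499 = n212448 := d7_2 D212449 F484692 (iv3 D212448)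
def n216500 : Q := act 3 n184068
theorem D216500 : act 3 n184068 = n216500 := rfl
theorem F484694 : act 2 n216500 = n188355 := d0_1 D216500 F373169 (iv2 F371061) (iv3 F387202) F387201
theorem F484695 : act 4 n216500 = n184074 := d5_2 D184068 D216500 (iv3 D184074) (iv4 D87803) (iv3 F134772)
theorem F484696 : act 7 n216500 = n209471 := d8_2 F393070 D216500 F453824
theorem F484697 : act 6 n188353 = n216500 := d14_5 F484696 (iv6 D209471) (iv7 D136501) (iv6 F219605) (iv7 F373158)
theorem F484698 : act 0 n193382 = n216500 := d20_1 (iv4 F470409) F484695 (iv3 D184074) (iv1 F140498) F302684 D110989 (iv1 F363681) (iv4 F339935) D196579 F470408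
def n216501 : Q := act 6 n184068
theorem D216501 : act 6 n184068 = n216501 := rfl
theorem F484699 : act 2 n216501 = n187630 := d3_1 D216501 F387204 F387201
theorem F484700 : act 3 n216501 = n188353 := d7_1 D216501 F484697 (iv3 D216500)
theorem F484701 : act 4 n216501 = n184069 := d10_1 D216501 (iv6 D184069) D184068
theorem F484702 : act 7 n216501 = n188339 := d14_2 F393070 D216501 (iv6 F373105) D209443 F453728
theorem F484703 : act 0 n216501 = n186780 := d21_4 D192002 F390905 F390903 D216501 (iv6 D186780) F357554 (iv1 D42662) D42665 D91102 F357562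
theorem F484704 : act 5 n216501 = n209438 := d21_6 F389663 F300575 (iv5 F367931) (iv6 F394062) F394064 D216501 (iv1 F453709) (iv5 F453706) (iv6 D209436) F389665
theorem F484705 : act 0 n188337 = n216501 := d21_4 (iv5 D212616) F396210 (iv5 F448494) (iv6 F448498) (iv6 D216501) (iv5 F390903) F390904 F386236 F372746 (iv1 F466717)
def n216502 : Q := act 0 n184069
theorem D216502 : act 0 n184069 = n216502 := rfl
def n216503 : Q := act 1 n184069
theorem D216503 : act 1 n184069 = n216503 := rfl
theorem F484706 : act 1 n216503 = n188340 := d15_1 D216503 F387208 F387205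
theorem F484707 : act 6 n210678 = n216503 := d21_3 F424469 D202644 (iv5 F458428) (iv1 D216503) (iv6 D184069) (iv5 D87800) D87798 D184065 D216496 (iv1 F484684)
theorem F484708 : act 3 n216503 = n213090 := d7_1 F484707 (iv6 F468960) (iv3 F458429)
def n216504 : Q := act 7 n184069
theorem D216504 : act 7 n184069 = n216504 := rfl
theorem F484709 : act 2 n216504 = n188340 := d4_1 D216504 F387208 F387205
theorem F484710 : act 3 n216504 = n184079 := d8_1 D216504 (iv7 D184079) (iv3 F286013)
theorem F484711 : act 4 n216504 = n188339 := d11_1 D216504 (iv7 F484702) F484701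
theorem F484712 : act 6 n216504 = n201212 := d14_1 D216504 F419463 (iv6 D194405) F158597 D184069
theorem F484713 : act 1 n188340 = n216502 := d15_0 (iv0 D216502) D216504 F484709
def n216505 : Q := act 0 n184074
theorem D216505 : act 0 n184074 = n216505 := rfl
theorem F484714 : act 3 n216505 = n196315 := d20_5 F140502 (iv1 D87802) D87803 D184074 D216505 F400305 (iv1 F365131) F159469 (iv3 D91370) D91368
theorem F484715 : act 6 n198127 = n216505 := d7_0 F484714 F406926 D198127
def n216506 : Q := act 6 n184083
theorem D216506 : act 6 n184083 = n216506 := rfl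
theorem F484716 : act 2 n216506 = n188105 := d3_1 D216506 F393082 F393080
theorem F484717 : act 4 n216506 = n187985 := d10_1 D216506 (iv6 F373429) (iv4 F393081)
theorem F484718 : act 5 n216506 = n216467 := d12_1 D216506 (iv6 F484517) (iv5 D203578) D203579 (iv5 F428974)
theorem F484719 : act 0 n216506 = n216175 := d21_10 F483288 (iv1 F471224) F471226 (iv6 F452575) F452574 (iv6 F440156) (iv5 D206303) F428976 (iv5 F428974) D216506
theorem F484720 : act 0 n210666 = n216506 := d21_4 F140436 (iv1 F331752) D139486 D210666 (iv6 D216506) F428974 (iv1 F428975) D206306 F440171 (iv1 D188395)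
def n216507 : Q := act 3 n184090
theorem D216507 : act 3 n184090 = n216507 := rfl
theorem F484721 : act 4 n216507 = n184093 := d5_2 D184090 D216507 (iv3 D184093) (iv4 D87810) D87809
theorem F484722 : act 0 n216507 = n213451 := d20_10 (iv4 D213451) F402337 F402336 F373573 D188467 (iv3 F484537) (iv4 D216471) F352899 D184090 D216507
theorem F484723 : act 6 n192622 = n216507 := d10_0 F484721 (iv6 F439852) F439855
theorem F484724 : act 0 n208897 = n216507 := d18_2 (iv1 F471878) F471875 F484721 (iv5 F380201) F380200 D193859 (iv4 F402225) (iv0 F402223) D196929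
def n216508 : Q := act 6 n184090
theorem D216508 : act 6 n184090 = n216508 := rfl
theorem F484725 : act 3 n216508 = n192622 := d7_1 D216508 F484723 (iv3 D216507)
theorem F484726 : act 4 n216508 = n184092 := d10_1 D216508 (iv6 D184092) D184090
theorem F484727 : act 0 n215217 = n216508 := d20_4 F351134 F478929 F478926 (iv3 F478921) F484725 (iv4 F439855) F439854 F343151 F279974 (iv1 F279922)
def n216509 : Q := act 0 n184092
theorem D216509 : act 0 n184092 = n216509 := rfl
theorem F484728 : act 3 n216509 = n192048 := d20_5 (iv4 F420174) F420177 F358490 (iv3 F286046) D216509 F385338 F157667 D101161 (iv3 F351173) (iv1 F386087)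
theorem F484729 : act 2 n213118 = n216509 := d15_3 (iv0 D216509) (iv0 F420914) (iv7 F469084)
theorem F484730 : act 7 n216509 = n192047 := d4_2 (iv7 F469084) F484729 (iv2 F420913)
theorem F484731 : act 1 n213118 = n192611 := d15_0 (iv0 F392085) (iv7 F484730) (iv2 F484729)
def n216510 : Q := act 7 n184092
theorem D216510 : act 7 n184092 = n216510 := rfl
theorem F484732 : act 3 n216510 = n184098 := d8_1 D216510 (iv7 D184098) (iv3 F286046)
theorem F484733 : act 5 n216510 = n193792 := d13_1 D216510 (iv7 F484511) F484510
theorem F484734 : act 1 n192047 = n216510 := d15_1 (iv0 F392085) (iv7 D216510) (iv2 F387245)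
theorem F484735 : act 1 n216510 = n213118 := d15_1 F484734 F469084 F420913
def n216511 : Q := act 1 n184093
theorem D216511 : act 1 n184093 = n216511 := rfl
theorem F484736 : act 7 n216511 = n187832 := d15_2 (iv0 F459435) D216511 (iv2 F459431)
theorem F484737 : act 4 n208797 = n216511 := d20_0 (iv1 D216511) (iv4 F484721) (iv3 D216507) (iv1 F372743) (iv3 F372747) (iv4 F466724) F466725 F472908 (iv3 F483888) F483892
theorem F484738 : act 3 n187519 = n216511 := d20_3 F139497 (iv1 F138883) D187519 (iv1 D216511) (iv3 D184093) (iv4 D87810) (iv1 F66964) D91344 F370666 (iv1 F370667)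
theorem F484739 : act 2 n216511 = n208833 := d0_1 F484738 (iv3 F459443) F459442 (iv3 D187838) (iv2 F370656)
theorem F484740 : act 0 n216025 = n216511 := d20_4 (iv4 F400707) (iv1 F279927) D179807 D216025 (iv3 F484738) (iv4 D187519) (iv1 D90296) D90297 (iv3 F241629) F400705
theorem F484741 : act 6 n216511 = n208796 := d21_5 (iv5 D122328) (iv1 F327463) (iv5 F370905) (iv6 F482597) F484740 F450915 (iv1 F451038) F451039 (iv6 F373053) F373055
def n216512 : Q := act 2 n184093
theorem D216512 : act 2 n184093 = n216512 := rfl
theorem F484742 : act 3 n216512 = n197600 := d0_2 D184093 D216512 F404973 F345421 (iv2 F135024)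
theorem F484743 : act 6 n216512 = n187938 := d3_2 F439852 D216512 (iv2 F439851)
theorem F484744 : act 7 n216512 = n216025 := d4_2 F286568 D216512 F482595
theorem F484745 : act 1 n216512 = n208833 := d15_0 (iv0 F459448) F286568 D216512
theorem F484746 : act 1 n187832 = n216512 := d15_0 F484745 (iv7 F459434) F459431
def n216513 : Q := act 1 n184099
theorem D216513 : act 1 n184099 = n216513 := rfl
theorem F484747 : act 1 n216513 = n197600 := d15_1 D216513 F404975 F351139
theorem F484748 : act 7 n216513 = n203768 := d15_2 (iv0 F478929) D216513 (iv2 F478924)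
theorem F484749 : act 4 n203771 = n216513 := d20_0 (iv1 D216513) (iv4 F351134) (iv3 F351135) F384366 F384364 F370588 (iv1 D187497) D187498 (iv3 F470441) (iv1 F470445)
theorem F484750 : act 3 n198018 = n216513 := d20_3 (iv4 F484623) F484624 F442384 (iv1 D216513) (iv3 D184099) (iv4 D87814) (iv1 D40917) D40918 D87818 D184110
theorem F484751 : act 6 n197592 = n216513 := d21_3 (iv5 D110123) F170128 (iv5 F404952) (iv1 D216513) (iv6 F376090) F376089 (iv1 F168552) D109016 D198191 (iv1 F407172)
theorem F484752 : act 2 n216513 = n198758 := d3_1 F484751 (iv6 D198758) F404953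
def n216514 : Q := act 3 n184103
theorem D216514 : act 3 n184103 = n216514 := rfl
theorem F484753 : act 2 n216514 = n209291 := d0_1 D216514 F453064 F359619 (iv3 F221344) (iv2 F380790)
theorem F484754 : act 5 n216514 = n209290 := d6_2 F380789 D216514 F453060
theorem F484755 : act 6 n216514 = n209004 := d7_2 F459917 D216514 (iv3 F459915)
theorem F484756 : act 7 n216514 = n210304 := d8_2 F394239 D216514 F456925
theorem F484757 : act 0 n216514 = n210306 := d19_4 (iv1 F268412) (iv5 F394056) F394028 D216514 (iv5 F456934) (iv4 F484132) F484131 F441993 F345897 F208186 (iv3 F97091) D132698 F324967 (iv4 F132216) (iv3 D75189) (iv1 F92786) F92784 (iv4 F112777) (iv3 F248776)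
theorem F484758 : act 0 n210305 = n216514 := d20_4 F380091 (iv1 F388712) F388708 F456929 (iv3 D216514) (iv4 F394028) (iv1 D194668) F159434 (iv3 F294745) D190547
theorem F484759 : act 4 n216514 = n209005 := d20_8 (iv4 F469079) F469083 F376971 (iv3 F376984) (iv1 F248618) (iv3 F420533) (iv4 F456928) F484758 F451805 (iv1 F372152)
def n216515 : Q := act 2 n184110
theorem D216515 : act 2 n184110 = n216515 := rfl
theorem F484760 : act 3 n216515 = n192753 := d0_2 (iv3 F362354) D216515 (iv2 F401117) F401114 (iv2 F165780)
theorem F484761 : act 4 n216515 = n193033 := d1_2 F484623 D216515 (iv2 F484619)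
theorem F484762 : act 5 n216515 = n192979 := d2_2 F362355 D216515 F388413
theorem F484763 : act 6 n216515 = n192751 := d3_2 F362356 D216515 F387659
theorem F484764 : act 7 n216515 = n184111 := d4_2 F401121 D216515 (iv2 F401119)
theorem F484765 : act 1 n216515 = n184112 := d15_0 (iv0 F401123) F401121 D216515
theorem F484766 : act 1 n184114 = n216515 := d15_0 F484765 (iv7 F371676) F371674
def n216516 : Q := act 6 n184111
theorem D216516 : act 6 n184111 = n216516 := rfl
theorem F484767 : act 3 n216516 = n216333 := d7_1 D216516 (iv6 F483886) F471872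
def n216517 : Q := act 3 n184117
theorem D216517 : act 3 n184117 = n216517 := rfl
theorem F484768 : act 2 n216517 = n202553 := d0_1 D216517 (iv3 D202553) F181703 D139512 F369486
theorem F484769 : act 5 n216517 = n202645 := d6_2 (iv5 F369487) D216517 F424910
theorem F484770 : act 6 n216517 = n209502 := d7_2 F404937 D216517 (iv3 D209502)
theorem F484771 : act 7 n216517 = n210694 := d8_2 F373280 D216517 F458460
theorem F484772 : act 4 n216517 = n204351 := d20_6 (iv4 F445899) (iv1 F445901) F442465 F285887 D184117 D216517 F432163 (iv4 F357472) F453508 (iv1 F453506)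
theorem F484773 : act 1 n199787 = n216517 := d17_8 F432163 (iv5 D146934) D146931 F373186 F373185 (iv5 D139498) (iv0 F390839) (iv5 F413507) F484772
theorem F484774 : act 0 n210675 = n216517 := d18_0 F484772 F432163 (iv4 F357472) F357473 D139357 F357564 (iv4 F424440) F424442 D210675
def n216518 : Q := act 4 n184117
theorem D216518 : act 4 n184117 = n216518 := rfl
theorem F484775 : act 2 n216518 = n197590 := d1_1 D216518 F404939 F369486
theorem F484776 : act 3 n216518 = n197874 := d5_1 D216518 (iv4 F426735) (iv3 F432160) (iv4 F484772) (iv3 D216517)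
theorem F484777 : act 6 n216518 = n197588 := d10_2 F404937 D216518 (iv4 F404935)
theorem F484778 : act 5 n216518 = n197873 := d16_1 D216518 F417248 (iv5 F436947) F436946 (iv5 F322390) F321557 F369483 F369485 F369486
theorem F484779 : act 0 n216518 = n198759 := d17_0 (iv5 D198759) (iv1 D110155) D110157 (iv4 F345631) F224218 F362378 (iv5 F373287) F373290 D216518
theorem F484780 : act 1 n216518 = n188403 := d18_6 (iv1 D110854) (iv4 F93774) D126636 (iv4 F224196) (iv5 F369487) D216518 F373315 D188404 F373322
def n216519 : Q := act 4 n184118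
theorem D216519 : act 4 n184118 = n216519 := rfl
theorem F484781 : act 3 n216519 = n197593 := d5_1 D216519 F404956 D198307 (iv4 F407558) (iv3 F369484)
theorem F484782 : act 5 n216519 = n197882 := d9_2 F369483 D216519 F406104 (iv5 F398169) (iv4 F437966) F437965 (iv4 F224196) (iv5 F369487) D216518 F484778 F417248 (iv5 F436947) F436946 (iv5 F322390) F321557
theorem F484783 : act 7 n216519 = n197590 := d11_2 (iv7 F369485) D216519 F404939
theorem F484784 : act 0 n216519 = n188403 := d17_0 (iv5 F373316) F406765 (iv5 F460257) F460258 (iv5 D210664) F362379 F143912 D184118 D216519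
theorem F484785 : act 1 n216519 = n198759 := d18_6 (iv1 F204117) F204115 (iv1 F321555) F321557 F369483 D216519 F409115 F373319 (iv5 F171710)
theorem F484786 : act 6 n216519 = n202662 := d21_5 F412593 (iv1 F479180) F479182 F409117 (iv1 F484785) F476251 F476252 (iv5 D204399) F198207 D123769
def n216520 : Q := act 6 n184118
theorem D216520 : act 6 n184118 = n216520 := rfl
theorem F484787 : act 2 n216520 = n206306 := d3_1 D216520 F440171 (iv2 F373281)
theorem F484788 : act 3 n216520 = n202552 := d7_1 D216520 (iv6 D202552) (iv3 F369484)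
theorem F484789 : act 4 n216520 = n202662 := d10_1 D216520 (iv6 F484786) (iv4 D216519)
theorem F484790 : act 5 n216520 = n204383 := d12_1 D216520 (iv6 F434507) (iv5 D204993) F366092 F369483
theorem F484791 : act 7 n216520 = n206303 := d14_2 (iv7 F369485) D216520 F440156 (iv7 F404932) (iv6 F404936)
theorem F484792 : act 0 n212540 = n216520 := d21_4 (iv5 F412614) F449502 F449501 (iv6 F466338) (iv6 D216520) (iv5 F369483) F410446 F410443 (iv6 F407343) F407349
def n216521 : Q := act 3 n184119
theorem D216521 : act 3 n184119 = n216521 := rfl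
theorem F484793 : act 4 n216521 = n184123 := d5_2 D184119 D216521 (iv3 D184123) (iv4 D87824) (iv3 F134789)
theorem F484794 : act 6 n216521 = n192950 := d7_2 (iv6 F462269) D216521 (iv3 F462267)
theorem F484795 : act 0 n216521 = n192775 := d19_4 (iv1 F177419) D87822 D184119 D216521 F388660 (iv4 F388661) F220117 (iv1 F218771) F218773 F172079 (iv3 D67608) (iv1 D31401) (iv5 D14798) (iv4 F24445) (iv3 F49646) D67550 (iv5 F308758) (iv4 F150958) F150957
theorem F484796 : act 1 n216521 = n193050 := d15_1 (iv0 F484795) (iv7 F394101) F394100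
def n216522 : Q := act 5 n184119
theorem D216522 : act 5 n184119 = n216522 := rfl
theorem F484797 : act 2 n216522 = n213653 := d2_1 D216522 F471463 F370856
theorem F484798 : act 4 n216522 = n192768 := d16_2 D184119 D216522 (iv5 D192768) (iv4 D100641) (iv5 D46940) F62235 D46940 (iv7 F293978) F293977
theorem F484799 : act 1 n216522 = n210484 := d17_6 (iv1 F157662) (iv5 D97947) (iv1 F177419) D87822 D184119 D216522 (iv5 D210484) (iv0 F382806) (iv4 D101161)
theorem F484800 : act 6 n216522 = n213652 := d21_3 F480531 (iv1 F387702) D216522 (iv1 F484342) (iv6 D191280) (iv5 F289367) (iv1 F289369) F283700 D193838 F480532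
def n216523 : Q := act 4 n184197
theorem D216523 : act 4 n184197 = n216523 := rfl
theorem F484801 : act 2 n216523 = n193654 := d1_1 D216523 (iv4 D193654) F359404
theorem F484802 : act 5 n216523 = n203173 := d9_2 D184197 D216523 F427302 F236049 (iv4 F210587) F337585 (iv4 F368991) F368992 (iv4 F386260) (iv5 F386261) (iv4 D169826) (iv5 D81440) (iv4 F86759) D119132 F304284
theorem F484803 : act 6 n216523 = n184205 := d10_2 (iv6 F286125) D216523 (iv4 D184205)
theorem F484804 : act 7 n216523 = n211934 := d11_2 F386269 D216523 F463641
def n216524 : Q := act 3 n184205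
theorem D216524 : act 3 n184205 = n216524 := rfl
theorem F484805 : act 4 n216524 = n184221 := d5_2 D184205 D216524 (iv3 D184221) (iv4 D87865) (iv3 F134848)
theorem F484806 : act 7 n216524 = n198394 := d8_2 (iv7 F392957) D216524 (iv3 F407867)
theorem F484807 : act 0 n216524 = n198396 := d20_4 (iv4 F187731) F365408 D184205 D216524 F407871 F169286 (iv1 F84018) F162081 (iv3 F392814) F392816
theorem F484808 : act 0 n198392 = n216524 := d20_4 (iv4 F464098) (iv1 D202048) (iv4 F422560) F422559 (iv3 D216524) (iv4 D184205) D184203 (iv4 F464117) F464116 (iv1 F464101)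
theorem F484809 : act 2 n216524 = n198393 := d15_3 (iv0 D198393) D198394 (iv7 F484806)
def n216525 : Q := act 5 n184205
theorem D216525 : act 5 n184205 = n216525 := rfl
theorem F484810 : act 2 n216525 = n212803 := d2_1 D216525 F467583 F392959
theorem F484811 : act 6 n216525 = n203172 := d12_2 F484803 D216525 (iv5 D203172) D203173 (iv5 F484802)
theorem F484812 : act 4 n216525 = n212808 := d16_2 D184205 D216525 F467587 (iv4 D192413) (iv5 D100165) D100164 D192412 F386668 F286119
def n216526 : Q := act 6 n184216
theorem D216526 : act 6 n184216 = n216526 := rfl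
theorem F484813 : act 4 n216526 = n212073 := d10_1 D216526 F464243 F393291
theorem F484814 : act 5 n216526 = n190879 := d12_1 D216526 (iv6 F381426) (iv5 F378961) (iv6 F378289) F361888
theorem F484815 : act 0 n216526 = n193673 := d21_4 (iv5 D190677) (iv1 F361891) F361888 D216526 F390649 D199139 (iv1 F420272) F420269 (iv6 F378663) (iv1 F380545)
def n216527 : Q := act 6 n184234
theorem D216527 : act 6 n184234 = n216527 := rfl
theorem F484816 : act 2 n216527 = n184983 := d3_1 D216527 (iv6 F378219) F378217
theorem F484817 : act 3 n216527 = n212725 := d7_1 D216527 (iv6 D212725) (iv3 F346018)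
def n216528 : Q := act 5 n184236
theorem D216528 : act 5 n184236 = n216528 := rfl
theorem F484818 : act 2 n216528 = n184257 := d2_1 D216528 (iv5 D184257) (iv2 F286163)
theorem F484819 : act 7 n216528 = n212808 := d13_2 F386672 D216528 F467587
theorem F484820 : act 0 n212812 = n216528 := d19_0 (iv5 D216528) (iv4 D184236) (iv3 F155640) (iv1 F364424) (iv5 F364422) (iv4 F343895) F343862 F369103 (iv5 F386302) (iv4 F386305) (iv3 F406027) F406028 F375338 (iv4 F386709) (iv3 D192426) D192424 (iv5 F467603) F467602 F467598
def n216529 : Q := act 3 n184247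
theorem D216529 : act 3 n184247 = n216529 := rfl
theorem F484821 : act 2 n216529 = n213752 := d0_1 D216529 F471926 F407030 F432115 (iv2 F432116)
theorem F484822 : act 4 n216529 = n184300 := d5_2 D184247 D216529 (iv3 D184300) (iv4 D87902) (iv3 F134893)
theorem F484823 : act 5 n216529 = n211935 := d6_2 F427576 D216529 (iv3 D211935)
theorem F484824 : act 6 n216529 = n184256 := d7_2 (iv6 F286176) D216529 (iv3 D184256)
theorem F484825 : act 7 n216529 = n214239 := d8_2 (iv7 F432111) D216529 F474154
theorem F484826 : act 0 n216529 = n215046 := d19_4 F232748 D87882 D184247 D216529 F478056 F456446 F452958 (iv1 D209263) (iv5 F384730) (iv4 D191897) F281643 (iv1 D48188) D48189 D104137 (iv3 F385593) F385596 (iv5 D100116) (iv4 D46734) D46733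
theorem F484827 : act 0 n195560 = n216529 := d20_4 F227214 F415930 (iv4 F462542) F462541 (iv3 D216529) (iv4 D184247) D184245 (iv4 F384818) F245579 (iv1 F339887)
def n216530 : Q := act 6 n184249
theorem D216530 : act 6 n184249 = n216530 := rfl
theorem F484828 : act 4 n216530 = n184250 := d10_1 D216530 (iv6 D184250) D184249
theorem F484829 : act 0 n195497 = n216530 := d21_4 F458086 (iv1 D205031) (iv5 F353530) D195497 (iv6 D216530) (iv5 F464155) (iv1 D212055) (iv5 F386768) (iv6 F386767) D210573
theorem F484830 : act 5 n216530 = n211010 := d17_3 F434693 F434690 F484829 (iv4 D211010) (iv5 F420016) (iv0 F459740) F223710 D141871 (iv4 F396676)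
def n216531 : Q := act 0 n184250
theorem D216531 : act 0 n184250 = n216531 := rfl
theorem F484831 : act 4 n216531 = n211242 := d18_1 D216531 (iv1 D211242) F224324 D141310 (iv4 F442865) F456847 F456845 F384075 F380809
theorem F484832 : act 5 n216531 = n211254 := d19_1 D216531 F460820 F445967 F442194 F388501 F388500 (iv3 F388483) (iv1 F424487) (iv5 F424486) (iv4 F424484) (iv3 F423517) F423520 (iv5 D199016) (iv4 F222796) (iv3 F357039) F357041 (iv5 F359763) F386652 F386631
theorem F484833 : act 6 n216531 = n211945 := d21_5 (iv5 D41005) D41003 D87884 D184250 D216531 F463683 (iv1 D191842) (iv5 F154147) (iv6 D100201) F134921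
theorem F484834 : act 1 n211168 = n216531 := d15_0 (iv0 D216531) (iv7 F456849) F460428
theorem F484835 : act 3 n199051 = n216531 := d6_3 F484832 (iv3 D211254) (iv5 F410477)
theorem F484836 : act 7 n216531 = n199046 := d8_2 D199051 F484835 F410464
def n216532 : Q := act 1 n184250
theorem D216532 : act 1 n184250 = n216532 := rfl
theorem F484837 : act 1 n216532 = n211168 := d15_1 D216532 F460427 F384077
theorem F484838 : act 4 n216532 = n208243 := d17_9 (iv1 F448553) (iv5 D195290) D195288 (iv5 F403886) (iv4 F456852) F456853 F384075 F380809 D216532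
theorem F484839 : act 3 n184314 = n216532 := d20_3 (iv4 F479818) F479821 (iv4 F416723) (iv1 D216532) (iv3 F386631) (iv4 F386652) F359762 D115593 F354215 (iv1 F375945)
theorem F484840 : act 2 n216532 = n199046 := d0_1 F484839 F410464 (iv2 F410449) F410450 F415401
theorem F484841 : act 6 n216532 = n199044 := d7_2 (iv6 F415402) F484839 F410456
def n216533 : Q := act 5 n184251
theorem D216533 : act 5 n184251 = n216533 := rfl
theorem F484842 : act 1 n216533 = n203250 := d17_6 (iv1 F369475) (iv5 D187203) (iv1 F286182) (iv5 D184252) D184251 D216533 F427532 (iv0 F384824) (iv4 D191915)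
def n216534 : Q := act 6 n184251
theorem D216534 : act 6 n184251 = n216534 := rfl
theorem F484843 : act 2 n216534 = n212218 := d3_1 D216534 (iv6 F464797) F384827
theorem F484844 : act 4 n216534 = n184253 := d10_1 D216534 (iv6 D184253) D184251
theorem F484845 : act 5 n212217 = n216534 := d2_0 F484843 (iv5 D212218) D212217
def n216535 : Q := act 1 n184253
theorem D216535 : act 1 n184253 = n216535 := rfl
theorem F484846 : act 3 n184338 = n216535 := d20_3 (iv4 F440138) F465943 F465942 (iv1 D216535) (iv3 F386738) (iv4 F458720) (iv1 D202394) (iv4 F423855) F423854 (iv1 F388866)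
def n216536 : Q := act 7 n184253
theorem D216536 : act 7 n184253 = n216536 := rfl
def n216537 : Q := act 5 n184254
theorem D216537 : act 5 n184254 = n216537 := rfl
theorem F484847 : act 2 n216537 = n210711 := d2_1 D216537 (iv5 D210711) F365058
theorem F484848 : act 3 n216537 = n212811 := d6_1 D216537 F467593 F464112
theorem F484849 : act 7 n216537 = n212002 := d13_2 F388094 D216537 F463877
theorem F484850 : act 4 n216537 = n203242 := d16_2 (iv4 F365059) D216537 (iv5 D203242) (iv4 F187731) F379042 (iv4 F383077) F383078 F222555 D139603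
def n216538 : Q := act 6 n184254
theorem D216538 : act 6 n184254 = n216538 := rfl
theorem F484851 : act 2 n216538 = n210712 := d3_1 D216538 (iv6 D210712) F365058
theorem F484852 : act 4 n216538 = n193439 := d10_1 D216538 (iv6 F389827) (iv4 F365059)
def n216539 : Q := act 5 n184255
theorem D216539 : act 5 n184255 = n216539 := rfl
theorem F484853 : act 2 n216539 = n212002 := d2_1 D216539 F463877 F388093
theorem F484854 : act 3 n216539 = n195370 := d6_1 D216539 (iv5 D195370) F365055
theorem F484855 : act 4 n216539 = n213815 := d9_1 D216539 F472207 F464117 F379040 (iv4 F458544) (iv5 D210714) (iv4 F365059) D216537 F484850 (iv5 D203242) (iv4 F187731) F379042 (iv4 F383077) F383078 (iv4 F365056)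
theorem F484856 : act 6 n216539 = n198397 := d12_2 F403820 D216539 F407875 D205915 F438401
theorem F484857 : act 7 n216539 = n210711 := d13_2 (iv7 F365057) D216539 (iv5 D210711)
def n216540 : Q := act 0 n184257
theorem D216540 : act 0 n184257 = n216540 := rfl
theorem F484858 : act 5 n216540 = n212918 := d17_3 (iv1 D184255) D184257 D216540 (iv4 D212918) (iv5 F349218) (iv0 D99515) D99517 F365068 (iv4 F365056)
theorem F484859 : act 4 n216540 = n203234 := d18_1 D216540 (iv1 F464162) F464160 F440459 F427347 F365066 (iv4 F365059) (iv0 D184254) D184257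
theorem F484860 : act 1 n212808 = n216540 := d15_0 (iv0 D216540) F471695 F471690
theorem F484861 : act 7 n212812 = n216540 := d11_0 F484859 F427497 D212812
def n216541 : Q := act 1 n184257
theorem D216541 : act 1 n184257 = n216541 := rfl
theorem F484862 : act 1 n216541 = n212808 := d15_1 D216541 (iv7 F484819) F484818
theorem F484863 : act 5 n216541 = n205916 := d17_7 (iv1 D100173) (iv5 D46752) F65947 D41005 D87888 D184257 D216541 (iv0 F438408) (iv4 D192422)
theorem F484864 : act 2 n212812 = n216541 := d2_3 F484863 F438402 (iv5 F467597)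
theorem F484865 : act 3 n195373 = n216541 := d6_3 F484863 (iv3 D205916) (iv5 F396848)
theorem F484866 : act 4 n212810 = n216541 := d9_15 F484863 F438403 F349225 F157789 (iv5 F358499) F244736 D203234 (iv4 F484859) F484858 (iv4 D212918) (iv5 F349218) F157793 D184199 (iv4 F358512) D212810
def n216542 : Q := act 4 n184257
theorem D216542 : act 4 n184257 = n216542 := rfl
theorem F484867 : act 5 n216542 = n211936 := d9_2 D184257 D216542 F463648 (iv5 D192412) (iv4 D100164) D100165 D192413 (iv5 F467587) (iv4 F484812) (iv5 D216525) (iv4 D184205) (iv5 D87859) F62126 D41005 D87888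
theorem F484868 : act 7 n216542 = n212803 := d11_2 (iv7 F471695) D216542 (iv4 F471692)
theorem F484869 : act 6 n184257 = n216542 := d14_5 F484868 (iv6 D212803) (iv7 F242905) D213699 (iv7 F471695)
def n216543 : Q := act 0 n184259
theorem D216543 : act 0 n184259 = n216543 := rfl
theorem F484870 : act 5 n216543 = n212274 := d17_1 D216543 F465091 (iv5 D199045) F396930 (iv5 F458038) F458036 F396783 F396781 F364961
theorem F484871 : act 4 n216543 = n211919 := d18_1 D216543 F463585 (iv4 D198071) D198072 F406661 F420505 (iv4 F454041) (iv0 F454044) F373276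
theorem F484872 : act 3 n216543 = n202234 := d20_5 (iv4 F220264) F358794 F286290 (iv3 F286187) D216543 (iv4 D202234) (iv1 F330594) F222796 (iv3 F204020) (iv1 F204025)
theorem F484873 : act 2 n199581 = n216543 := d15_3 (iv0 D216543) (iv0 F396784) (iv7 F412757)
theorem F484874 : act 1 n202536 = n216543 := d15_0 (iv0 D216543) (iv7 F474122) F474118
theorem F484875 : act 7 n216543 = n210515 := d15_2 (iv0 F424409) F484874 (iv2 D210515)
def n216544 : Q := act 6 n184295
theorem D216544 : act 6 n184295 = n216544 := rfl
theorem F484876 : act 3 n216544 = n184297 := d7_1 D216544 (iv6 D184297) D184295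
theorem F484877 : act 4 n216544 = n214348 := d10_1 D216544 (iv6 D214348) F356172
theorem F484878 : act 5 n216544 = n211596 := d12_1 D216544 (iv6 F462313) F241987 (iv6 F199453) (iv5 F356170)
def n216545 : Q := act 7 n184297
theorem D216545 : act 7 n184297 = n216545 := rfl
theorem F484879 : act 2 n216545 = n204975 := d4_1 D216545 F434407 (iv2 F366843)
theorem F484880 : act 4 n216545 = n200468 := d11_1 D216545 (iv7 F438536) F438535
theorem F484881 : act 5 n216545 = n190737 := d13_1 D216545 F380875 (iv5 F366830)
theorem F484882 : act 6 n216545 = n204915 := d14_1 D216545 (iv7 D204915) F199456 F306639 D184297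
theorem F484883 : act 1 n213540 = n216545 := d15_1 D213540 (iv7 D216545) F366843
theorem F484884 : act 1 n216545 = n213539 := d15_1 F484883 (iv7 F470930) (iv2 F470933)
def n216546 : Q := act 6 n184319
theorem D216546 : act 6 n184319 = n216546 := rfl
theorem F484885 : act 3 n216546 = n210399 := d7_1 D216546 F458262 (iv3 F387970)
theorem F484886 : act 5 n216546 = n193815 := d12_1 D216546 F391069 F378216 F384399 F384397
theorem F484887 : act 7 n216546 = n193814 := d14_2 F388051 D216546 (iv6 F416248) F416244 (iv6 F388050)
theorem F484888 : act 0 n216546 = n210395 := d21_4 (iv5 F292850) (iv1 F384395) F384397 D216546 (iv6 F478501) F478500 F310299 (iv5 F434133) (iv6 F434135) F378187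
theorem E104027 : n194022 = n193916 := (c20_2 F391802 D194022 (iv4 F457402) (iv3 F484885) F484888 (iv3 D210395) (iv4 F334430) (iv1 F233224) (iv4 F278853) (iv3 F482297) F482301)
theorem F484889 : act 1 n193916 = n102596 := (sb E104027 (iv0 D194022))
theorem F484890 : act 1 n216546 = n212542 := d15_1 (iv0 F484888) F479607 F479602
def n216547 : Q := act 0 n184322
theorem D216547 : act 0 n184322 = n216547 := rfl
theorem F484891 : act 6 n216547 = n211176 := d21_5 (iv5 D184316) (iv1 D87911) D87913 D184322 D216547 F460469 F304829 (iv5 F458508) (iv6 D210706) F365345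
theorem F484892 : act 3 n211177 = n216547 := d7_3 F484891 (iv3 D211176) D211177
def n216548 : Q := act 1 n184322
theorem D216548 : act 1 n184322 = n216548 := rfl
theorem F484893 : act 1 n216548 = n211211 := d15_1 D216548 (iv7 F468107) F468105
def n216549 : Q := act 7 n184322
theorem D216549 : act 7 n184322 = n216549 := rfl
theorem F484894 : act 2 n216549 = n211211 := d4_1 D216549 (iv7 F468107) F468105
theorem F484895 : act 3 n216549 = n184330 := d8_1 D216549 (iv7 D184330) (iv3 F286256)
theorem F484896 : act 4 n216549 = n214829 := d11_1 D216549 F477029 F393899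
theorem F484897 : act 6 n216549 = n211209 := d14_1 D216549 F460619 (iv6 D194698) F159629 D184322
theorem F484898 : act 1 n211211 = n216547 := d15_0 (iv0 D216547) D216549 F484894
def n216550 : Q := act 1 n184343
theorem D216550 : act 1 n184343 = n216550 := rfl
theorem F484899 : act 1 n216550 = n193702 := d15_1 D216550 (iv7 F467739) F467735
theorem F484900 : act 7 n216550 = n193700 := d15_2 (iv0 F361895) D216550 F390722
theorem F484901 : act 4 n216550 = n192155 := d17_9 (iv1 F385798) (iv5 F368776) (iv1 F368389) F137107 (iv4 F157700) D194030 (iv0 F421258) (iv5 F286280) D216550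
theorem F484902 : act 6 n208060 = n216550 := d21_3 (iv5 F457081) F480509 F480507 (iv1 D216550) (iv6 D184343) F134917 D183123 (iv5 F388049) F388050 F385123
theorem F484903 : act 2 n216550 = n192156 := d3_1 F484902 (iv6 F443515) (iv2 F447688)
theorem F484904 : act 3 n216550 = n214042 := d7_1 F484902 (iv6 D214042) (iv3 F447689)
def n216551 : Q := act 7 n184343
theorem D216551 : act 7 n184343 = n216551 := rfl
theorem F484905 : act 2 n216551 = n193702 := d4_1 D216551 (iv7 F467739) F467735
theorem F484906 : act 3 n216551 = n184349 := d8_1 D216551 (iv7 D184349) (iv3 F286279)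
theorem F484907 : act 4 n216551 = n192845 := d11_1 D216551 (iv7 D192845) F361894
theorem F484908 : act 5 n216551 = n216351 := d13_1 D216551 (iv7 D216351) (iv5 F286280)
theorem F484909 : act 1 n192156 = n216551 := d15_1 F467741 (iv7 D216551) (iv2 F467735)
theorem F484910 : act 1 n216551 = n193700 := d15_1 F484909 (iv7 F484900) F484903
def n216552 : Q := act 5 n184364
theorem D216552 : act 5 n184364 = n216552 := rfl
theorem F484911 : act 3 n216552 = n214440 := d6_1 D216552 (iv5 D214440) F353001
theorem F484912 : act 4 n216552 = n192493 := d16_2 D184364 D216552 (iv5 D192493) (iv4 D100236) (iv5 D46775) F65978 D46775 (iv7 F152955) F152953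
def n216553 : Q := act 6 n184364
theorem D216553 : act 6 n184364 = n216553 := rfl
theorem F484913 : act 3 n216553 = n214441 := d7_1 D216553 (iv6 D214441) F353001
theorem F484914 : act 4 n216553 = n184365 := d10_1 D216553 (iv6 D184365) D184364
theorem F484915 : act 0 n216553 = n204787 := d20_4 (iv4 F440208) F440209 (iv4 F475195) (iv3 F484913) F433586 (iv4 F433599) F455944 (iv4 F455941) F455940 F409612
def n216554 : Q := act 0 n184365
theorem D216554 : act 0 n184365 = n216554 := rfl
theorem F484916 : act 3 n216554 = n211278 := d20_5 (iv4 D83385) D83383 (iv4 F358741) (iv3 F286291) D216554 F460920 (iv1 F238095) (iv4 F244714) F358786 (iv1 D174457)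
theorem F484917 : act 4 n216554 = n211602 := d20_8 F335441 (iv1 F261452) (iv4 F462513) (iv3 F478585) F478589 (iv3 F484913) F484914 D216554 F462336 F457765
theorem F484918 : act 6 n216554 = n211276 := d21_5 F153291 F157763 D87930 D184365 D216554 (iv5 F461655) F461656 F364512 (iv6 D100969) (iv1 F157307)
theorem F484919 : act 7 n211627 = n216554 := d14_0 F484918 (iv7 F462562) F462561 F385417 (iv6 F462444)
theorem F484920 : act 2 n216554 = n211629 := d15_3 (iv0 F462446) (iv0 F462445) F484919
def n216555 : Q := act 1 n184365
theorem D216555 : act 1 n184365 = n216555 := rfl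
theorem F484921 : act 7 n216555 = n211629 := d15_2 (iv0 D216554) D216555 (iv2 F484920)
theorem F484922 : act 6 n204330 = n216555 := d21_3 F366827 (iv1 F252390) D204330 (iv1 D216555) (iv6 D184365) (iv5 D87930) F157750 D97953 (iv6 F382825) F382827
theorem F484923 : act 2 n216555 = n211627 := d3_1 F484922 F462444 (iv2 F432071)
theorem F484924 : act 3 n216555 = n204335 := d7_1 F484922 (iv6 D204335) (iv3 F432072)
theorem F484925 : act 4 n216555 = n211601 := d10_1 F484922 F462330 F456216
def n216556 : Q := act 7 n184365
theorem D216556 : act 7 n184365 = n216556 := rfl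
theorem F484926 : act 3 n216556 = n184370 := d8_1 D216556 (iv7 D184370) (iv3 F286291)
theorem F484927 : act 6 n216556 = n210211 := d14_1 D216556 F456596 (iv6 D189168) F143923 D184365
theorem F484928 : act 1 n211627 = n216556 := d15_1 (iv0 F462445) (iv7 D216556) (iv2 F384870)
theorem F484929 : act 1 n216556 = n211629 := d15_1 F484928 (iv7 F484921) F484923
def n216557 : Q := act 3 n184369
theorem D216557 : act 3 n184369 = n216557 := rfl
theorem F484930 : act 2 n216557 = n204268 := d0_1 D216557 F431766 F197600 (iv3 F358763) F358762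
theorem F484931 : act 5 n216557 = n216170 := d6_2 F286295 D216557 F483276
theorem F484932 : act 6 n216557 = n204167 := d7_2 (iv6 F358761) D216557 F431293
theorem F484933 : act 7 n216557 = n189190 := d8_2 (iv7 F358793) D216557 (iv3 D189190)
theorem F484934 : act 0 n211299 = n216557 := d20_4 F348149 F363156 (iv4 F224585) (iv3 F461022) (iv3 D216557) (iv4 F358754) (iv1 D155707) (iv4 F329674) F329673 D155681
def n216558 : Q := act 4 n184466
theorem D216558 : act 4 n184466 = n216558 := rfl
theorem F484935 : act 2 n216558 = n184498 := d1_1 D216558 (iv4 D184498) (iv2 F286360)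
theorem F484936 : act 5 n216558 = n189284 := d9_2 D184466 D216558 F376328 D191590 (iv4 F388507) (iv5 D193009) (iv4 D101094) D101095 (iv4 F375100) (iv5 F383911) (iv4 D191591) D191592 F383915 (iv5 D187501) F138868
theorem F484937 : act 6 n216558 = n203340 := d10_2 F413043 D216558 F427953
theorem F484938 : act 7 n216558 = n184508 := d11_2 (iv7 F286361) D216558 (iv4 D184508)
theorem F484939 : act 0 n216558 = n193009 := d17_0 (iv5 D193009) (iv1 F177335) D159824 F361036 (iv5 F349152) (iv0 D103945) (iv5 F293198) (iv0 F340059) D216558
theorem F484940 : act 1 n216558 = n187501 := d18_6 (iv1 F177354) F139250 F177334 F138868 D184466 D216558 (iv4 F383915) F383917 (iv5 D100546)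
theorem F484941 : act 3 n216558 = n187533 := d19_3 D87967 D184466 D216558 (iv1 D187533) (iv5 D90309) F65164 F66123 (iv1 D19281) D19282 D40918 D87818 D184110 (iv5 F362355) (iv4 F222526) (iv3 D139337) (iv1 F101096) (iv5 F328503) (iv4 F58455) (iv3 F62307)
def n216559 : Q := act 4 n184476
theorem D216559 : act 4 n184476 = n216559 := rfl
theorem F484942 : act 2 n216559 = n215270 := d1_1 D216559 (iv4 D215270) (iv2 F286391)
theorem F484943 : act 6 n216559 = n216164 := d10_2 (iv6 F286392) D216559 (iv4 D216164)
def n216560 : Q := act 5 n184486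
theorem D216560 : act 5 n184486 = n216560 := rfl
theorem F484944 : act 2 n216560 = n212823 := d2_1 D216560 (iv5 D212823) (iv2 F286424)
theorem F484945 : act 3 n216560 = n184488 := d6_1 D216560 (iv5 D184488) D184486
theorem F484946 : act 4 n216560 = n197179 := d9_1 D216560 (iv5 D197179) (iv4 F215092) (iv5 F444374) F444373 (iv5 F387077) F387078 D192985 (iv4 F470866) (iv5 D213527) (iv4 F252671) (iv5 F454215) F454214 (iv5 F384720) F384719
theorem F484947 : act 7 n216560 = n204192 := d13_2 (iv7 F286425) D216560 F431425
theorem F484948 : act 0 n216560 = n191763 := d17_2 (iv1 F385284) D216560 F384382 F197934 D192063 (iv0 F385400) F384340 F387162 F387160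
theorem F484949 : act 1 n216560 = n191761 := d17_6 (iv1 F129900) (iv5 F152455) (iv1 F277351) (iv5 F384720) F384719 D216560 (iv5 F448323) F448326 (iv4 D177818)
def n216561 : Q := act 7 n184499
theorem D216561 : act 7 n184499 = n216561 := rfl
theorem F484950 : act 4 n216561 = n215044 := d11_1 D216561 F478047 F420670
theorem F484951 : act 6 n216561 = n204182 := d14_1 D216561 F431376 (iv6 D193011) F155766 D184499
theorem F484952 : act 1 n199026 = n216561 := d15_1 (iv0 F413044) (iv7 D216561) (iv2 F413041)
theorem F484953 : act 1 n216561 = n188381 := d15_1 F484952 (iv7 F461304) F461301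
def n216562 : Q := act 4 n184504
theorem D216562 : act 4 n184504 = n216562 := rfl
theorem F484954 : act 3 n216562 = n187860 := d5_1 D216562 (iv4 D187860) (iv3 F363652) (iv4 D184508) (iv3 F286445)
def n216563 : Q := act 7 n184509
theorem D216563 : act 7 n184509 = n216563 := rfl
theorem F484955 : act 2 n216563 = n204182 := d4_1 D216563 F431376 F388515
theorem F484956 : act 3 n216563 = n212791 := d8_1 D216563 F467528 F466791
theorem F484957 : act 1 n204172 = n216563 := d15_1 (iv0 F431328) (iv7 D216563) (iv2 F388515)
theorem F484958 : act 1 n216563 = n204184 := d15_1 F484957 (iv7 D204184) (iv2 F431323)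
def n216564 : Q := act 6 n184520
theorem D216564 : act 6 n184520 = n216564 := rfl
theorem F484959 : act 2 n216564 = n191769 := d3_1 D216564 F387261 F385310
theorem F484960 : act 3 n216564 = n184523 := d7_1 D216564 (iv6 D184523) D184520
theorem F484961 : act 4 n216564 = n187608 := d10_1 D216564 (iv6 F387122) F387120
theorem F484962 : act 7 n216564 = n191768 := d14_2 F385303 D216564 (iv6 F468761) F468762 (iv6 F385302)
theorem F484963 : act 1 n188169 = n216564 := d17_8 (iv1 F384214) (iv5 D191704) F152158 D189341 (iv4 F453565) F453566 (iv0 F451619) F451618 F484961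
theorem F484964 : act 0 n188167 = n216564 := d18_0 F484961 (iv1 F384214) F384213 F379873 F216056 D135614 D209038 F454968 F454965
def n216565 : Q := act 6 n184548
theorem D216565 : act 6 n184548 = n216565 := rfl
theorem F484965 : act 3 n216565 = n184552 := d7_1 D216565 (iv6 D184552) (iv3 F286486)
theorem F484966 : act 4 n216565 = n210466 := d10_1 D216565 (iv6 D210466) F352969
theorem F484967 : act 5 n216565 = n191699 := d12_1 D216565 (iv6 F384197) F287225 (iv6 D184549) D184548
theorem F484968 : act 7 n216565 = n216123 := d14_2 F351899 D216565 (iv6 D216123) F359397 (iv6 F351896)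
theorem F484969 : act 0 n216565 = n191783 := d21_10 (iv5 F454181) (iv1 D191686) (iv5 F155857) (iv6 D101162) (iv1 F157662) (iv6 F382810) (iv5 D191264) F311973 D184548 D216565
def n216566 : Q := act 7 n184552
theorem D216566 : act 7 n184552 = n216566 := rfl
theorem F484970 : act 2 n216566 = n204410 := d4_1 D216566 (iv7 D204410) F366883
theorem F484971 : act 3 n216566 = n216123 := d8_1 D216566 (iv7 F484968) F484965
theorem F484972 : act 4 n216566 = n211028 := d11_1 D216566 (iv7 F461295) F461297
theorem F484973 : act 6 n216566 = n188376 := d14_1 D216566 F373208 (iv6 D123768) (iv7 F304668) D184552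
theorem F484974 : act 1 n199020 = n216566 := d15_1 (iv0 F410355) (iv7 D216566) (iv2 F366883)
theorem F484975 : act 1 n216566 = n188383 := d15_1 F484974 (iv7 F373225) (iv2 F410351)
def n216567 : Q := act 6 n184556
theorem D216567 : act 6 n184556 = n216567 := rfl
theorem F484976 : act 2 n216567 = n193053 := d3_1 D216567 (iv6 F388604) (iv2 F366885)
theorem F484977 : act 3 n216567 = n199803 := d7_1 D216567 F413572 F412335
theorem F484978 : act 4 n216567 = n184557 := d10_1 D216567 (iv6 D184557) D184556
theorem F484979 : act 5 n216567 = n208580 := d12_1 D216567 F449990 F386842 F412333 F412331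
theorem F484980 : act 7 n216567 = n209592 := d14_2 F366884 D216567 F454263 (iv7 F248833) F362329
theorem F484981 : act 0 n216567 = n209190 := d21_4 (iv5 F457260) F457263 F412331 D216567 F469880 F469878 (iv1 F434357) (iv5 F432414) (iv6 D204405) (iv1 F394213)
theorem F484982 : act 0 n188380 = n216567 := d21_4 (iv5 D48072) D48069 (iv5 F294497) D188380 (iv6 D216567) (iv5 F412331) F412332 F350384 F134770 F294319
def n216568 : Q := act 5 n184567
theorem D216568 : act 5 n184567 = n216568 := rfl
theorem F484983 : act 2 n216568 = n212132 := d2_1 D216568 F464445 F463400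
theorem F484984 : act 3 n216568 = n184568 := d6_1 D216568 (iv5 D184568) D184567
theorem F484985 : act 6 n216568 = n196545 := d12_2 (iv6 F286555) D216568 F401028 (iv6 F345175) F294312
theorem F484986 : act 0 n216568 = n209349 := d17_2 (iv1 F420044) D216568 (iv5 F467927) (iv4 D212880) (iv5 F398902) (iv0 F398903) (iv5 F371934) (iv0 F371935) (iv4 F420042)
theorem F484987 : act 1 n216568 = n209344 := d17_6 D196003 (iv5 F447300) F447301 (iv5 F420023) F420022 D216568 (iv5 F467919) (iv0 F467921) F237972
def n216569 : Q := act 7 n184567
theorem D216569 : act 7 n184567 = n216569 := rfl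
theorem F484988 : act 3 n216569 = n184569 := d8_1 D216569 (iv7 D184569) D184567
theorem F484989 : act 4 n216569 = n206213 := d11_1 D216569 F439736 F420022
theorem F484990 : act 1 n206214 = n216569 := d15_1 (iv0 F463404) (iv7 D216569) (iv2 F463400)
theorem F484991 : act 1 n216569 = n199184 := d15_1 F484990 (iv7 F420043) (iv2 F439739)
def n216570 : Q := act 5 n184571
theorem D216570 : act 5 n184571 = n216570 := rfl
theorem F484992 : act 2 n216570 = n193838 := d2_1 D216570 F391152 (iv2 F351177)
theorem F484993 : act 3 n216570 = n187460 := d6_1 D216570 F370433 (iv3 F351179)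
theorem F484994 : act 6 n216570 = n187459 := d12_2 F351178 D216570 (iv5 D187459) (iv6 F139701) F291834
theorem F484995 : act 4 n216570 = n193075 := d16_2 D184571 D216570 (iv5 D193075) (iv4 D101161) F74353 F72695 (iv5 F74353) (iv7 F153269) F153267
theorem F484996 : act 0 n216570 = n213601 := d21_1 D216570 F471244 (iv6 D209574) (iv1 F351902) F351896 (iv5 D139093) (iv1 F101031) D65311 D139158 F382807
def n216571 : Q := act 4 n184582
theorem D216571 : act 4 n184582 = n216571 := rfl
theorem F484997 : act 2 n216571 = n187587 := d1_1 D216571 (iv4 F482596) F482595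
theorem F484998 : act 3 n216571 = n188215 := d5_1 D216571 F372701 (iv3 D104192) (iv4 F135021) D184582
theorem F484999 : act 6 n216571 = n187583 := d10_2 F474321 D216571 (iv4 F474317)
theorem F485000 : act 7 n216571 = n216507 := d11_2 (iv7 F286568) D216571 F484721
theorem F485001 : act 0 n216571 = n213736 := d20_1 D216571 F471846 (iv3 D154778) F110089 (iv3 F109099) (iv4 D42419) D42417 D90598 D187832 F371641
theorem F485002 : act 5 n192959 = n216571 := d12_5 F484999 (iv5 D187583) F293738 D101030 D192959
def n216572 : Q := act 7 n184584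
theorem D216572 : act 7 n184584 = n216572 := rfl
theorem F485003 : act 2 n216572 = n197759 := d4_1 D216572 F405656 (iv2 F286572)
theorem F485004 : act 3 n216572 = n188254 := d8_1 D216572 (iv7 F474318) F474316
theorem F485005 : act 4 n216572 = n194720 := d11_1 D216572 (iv7 D194720) (iv4 F286573)
theorem F485006 : act 5 n216572 = n197754 := d13_1 D216572 (iv7 F474311) (iv5 F474313)
theorem F485007 : act 6 n216572 = n201362 := d14_1 D216572 F420180 F358491 F135023 D184584
theorem F485008 : act 1 n199556 = n216572 := d15_1 (iv0 F412658) (iv7 D216572) F286572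
theorem F485009 : act 1 n216572 = n199555 := d15_1 F485008 F412650 (iv2 F412653)
def n216573 : Q := act 1 n184593
theorem D216573 : act 1 n184593 = n216573 := rfl
theorem F485010 : act 1 n216573 = n200754 := d15_1 D216573 F417787 F373313
theorem F485011 : act 7 n216573 = n216518 := d15_2 (iv0 F404941) D216573 F484775
theorem F485012 : act 5 n216573 = n200869 := d17_7 (iv1 D52427) (iv5 F82757) F176610 (iv5 D113418) D113417 (iv5 F361217) D216573 F418219 (iv4 D113586)
theorem F485013 : act 4 n216573 = n188395 := d17_9 (iv1 D188395) F140436 (iv1 F331752) D139486 (iv4 F409126) F409127 (iv0 F176607) (iv5 F361217) D216573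
theorem F485014 : act 3 n203038 = n216573 := d19_19 (iv1 D216573) F361217 (iv4 D113417) D113416 (iv1 F176606) D113496 (iv4 F349661) F349660 F223852 (iv5 D67018) (iv4 D31208) D31207 (iv1 F102979) F320542 F318912 (iv3 F348006) F251049 D117592 D203038
theorem F485015 : act 2 n216573 = n216519 := d0_1 F485014 F484781 F404955 (iv3 F406071) (iv2 F426730)
def n216574 : Q := act 3 n184612
theorem D216574 : act 3 n184612 = n216574 := rfl
theorem F485016 : act 6 n216574 = n215827 := d7_2 (iv6 F286590) D216574 (iv3 D215827)
def n216575 : Q := act 5 n184612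
theorem D216575 : act 5 n184612 = n216575 := rfl
theorem F485017 : act 2 n216575 = n213179 := d2_1 D216575 F469342 F386044
theorem F485018 : act 6 n216575 = n213175 := d12_2 (iv6 F286590) D216575 (iv5 D213175) D213176 (iv5 F469336)
theorem F485019 : act 0 n216575 = n215791 := d17_2 F367270 D216575 (iv5 D215791) (iv4 D177866) (iv5 D84681) (iv0 D39115) D39117 D84689 D177892
theorem F485020 : act 1 n216575 = n215796 := d17_6 (iv1 D88231) (iv5 D41176) F289633 D88029 D184612 D216575 (iv5 D215796) (iv0 F356205) (iv4 D185123)
def n216576 : Q := act 5 n184685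
theorem D216576 : act 5 n184685 = n216576 := rfl
theorem F485021 : act 2 n216576 = n209942 := d2_1 D216576 F455465 F388855
theorem F485022 : act 3 n216576 = n209207 := d6_1 D216576 F452718 F423854
theorem F485023 : act 6 n216576 = n209206 := d12_2 F416582 D216576 F452713 (iv6 F436835) F416585
theorem F485024 : act 7 n216576 = n193329 := d13_2 F388858 D216576 F389478
theorem F485025 : act 0 n216576 = n209959 := d17_2 D184685 D216576 F455533 (iv4 F479872) F479871 (iv0 F394736) D214850 F477143 F354188
theorem F485026 : act 1 n216576 = n193277 := d17_6 F360761 (iv5 D147712) F334032 D160993 (iv4 F388856) D216576 (iv5 F410348) (iv0 F410350) F389152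
def n216577 : Q := act 5 n184688
theorem D216577 : act 5 n184688 = n216577 := rfl
theorem F485027 : act 2 n216577 = n192561 := d2_1 D216577 F387076 (iv2 F356750)
theorem F485028 : act 6 n216577 = n191305 := d12_2 F356749 D216577 (iv5 D191305) (iv6 F151056) D99821
theorem F485029 : act 4 n216577 = n192922 := d16_2 D184688 D216577 (iv5 D192922) (iv4 D100968) (iv5 F292708) F142781 F292708 (iv7 F292934) F292933
def n216578 : Q := act 1 n184689
theorem D216578 : act 1 n184689 = n216578 := rfl
theorem F485030 : act 1 n216578 = n187739 := d15_1 D216578 F371381 F356747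
theorem F485031 : act 7 n216578 = n192552 := d15_2 (iv0 F385491) D216578 (iv2 F387041)
theorem F485032 : act 5 n212364 = n216578 := d21_0 (iv1 D216578) F286690 (iv6 D183168) (iv1 F295019) (iv6 F374792) (iv5 F382857) (iv1 F474925) (iv5 D214388) F391800 (iv1 F465510)
theorem F485033 : act 6 n210324 = n216578 := d21_3 (iv5 F411878) (iv1 F426295) (iv5 F457028) (iv1 D216578) (iv6 D184689) F135058 (iv1 F288510) (iv5 F352993) F352994 (iv1 F411873)
theorem F485034 : act 2 n216578 = n192551 := d3_1 F485033 (iv6 F434402) (iv2 F457027)
theorem F485035 : act 3 n216578 = n210325 := d7_1 F485033 (iv6 D210325) D210324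
def n216579 : Q := act 5 n184690
theorem D216579 : act 5 n184690 = n216579 := rfl
theorem F485036 : act 2 n216579 = n206292 := d2_1 D216579 F440106 (iv2 F375591)
theorem F485037 : act 3 n216579 = n202666 := d6_1 D216579 F424993 F362973
theorem F485038 : act 7 n216579 = n206287 := d13_2 F362974 D216579 (iv5 D206287)
theorem F485039 : act 4 n216579 = n187923 := d16_2 (iv4 F362972) D216579 F371842 (iv4 D128051) (iv5 D60170) (iv4 F94716) D128050 (iv7 F306338) F306337
theorem F485040 : act 0 n216579 = n212781 := d17_2 D184690 D216579 F467474 F466402 F353855 F109331 (iv5 F206314) F241914 F343441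
theorem F485041 : act 1 n216579 = n191344 := d17_6 (iv1 F358553) (iv5 D174916) (iv1 F308982) (iv5 F206196) (iv4 F362972) D216579 F383135 F375803 F375801
def n216580 : Q := act 5 n184691
theorem D216580 : act 5 n184691 = n216580 := rfl
theorem F485042 : act 2 n216580 = n206287 := d2_1 D216580 (iv5 D206287) (iv2 F345608)
theorem F485043 : act 4 n216580 = n206293 := d9_1 D216580 F440109 F206228 F94782 (iv4 F94776) (iv5 F206196) (iv4 F362972) D216579 F485039 F371842 (iv4 D128051) (iv5 D60170) (iv4 F94716) D128050 F345607
theorem F485044 : act 6 n216580 = n188309 := d12_2 (iv6 F354240) D216580 (iv5 F467087) F467084 F411654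
theorem F485045 : act 7 n216580 = n206292 := d13_2 F375592 D216580 F440106
theorem F485046 : act 0 n216580 = n191344 := d17_2 (iv1 F375599) D216580 F383135 (iv4 D149281) (iv5 D70084) F190726 D72829 D153920 (iv4 F375596)
theorem F485047 : act 1 n216580 = n212781 := d17_6 F353102 (iv5 F339302) (iv1 F188818) D128050 F345607 D216580 F467474 (iv0 F466405) F375811
def n216581 : Q := act 3 n184712
theorem D216581 : act 3 n184712 = n216581 := rfl
theorem F485048 : act 2 n216581 = n188864 := d0_1 D216581 F432926 (iv2 D204572) (iv3 F430710) F430703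
theorem F485049 : act 4 n216581 = n184732 := d5_2 D184712 D216581 (iv3 D184732) (iv4 D88088) (iv3 F135071)
theorem F485050 : act 5 n216581 = n216083 := d6_2 F451324 D216581 (iv3 F482849)
theorem F485051 : act 7 n216581 = n188860 := d8_2 F482450 D216581 (iv3 F482448)
theorem F485052 : act 0 n216581 = n188668 := d19_4 (iv1 F319746) D88075 D184712 D216581 F374361 (iv4 F364779) (iv3 F389381) F469129 F469128 (iv4 F453927) F453928 (iv1 D192689) (iv5 D100514) (iv4 D46892) (iv3 F74083) D100431 F338897 (iv4 F319768) (iv3 D135363)
theorem F485053 : act 0 n189002 = n216581 := d20_4 (iv4 D124882) D124880 (iv4 F432408) F432407 (iv3 D216581) (iv4 D184712) (iv1 F366451) D213022 F468633 (iv1 F432446)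
def n216582 : Q := act 4 n184717
theorem D216582 : act 4 n184717 = n216582 := rfl
theorem F485054 : act 2 n216582 = n203743 := d1_1 D216582 F429641 F365664
theorem F485055 : act 5 n216582 = n190346 := d9_2 (iv5 F365663) D216582 (iv4 F379471) (iv5 D120584) (iv4 D55531) (iv5 D26803) (iv4 F43072) D55451 D120450 (iv5 F376610) (iv4 F381337) (iv5 D190854) F338159 F192115 (iv4 F191871)
theorem F485056 : act 6 n216582 = n216353 := d10_2 (iv6 F377021) D216582 F483970
theorem F485057 : act 7 n216582 = n203737 := d11_2 F365665 D216582 (iv4 D203737)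
theorem F485058 : act 0 n216582 = n203742 := d17_0 F429636 (iv1 F377986) F377985 (iv4 F371767) F151242 F72318 D88079 D184717 D216582
theorem F485059 : act 1 n216582 = n201545 := d18_6 (iv1 F192132) (iv4 D55521) (iv1 F87807) (iv4 F191871) (iv5 F365663) D216582 F420909 (iv0 D153317) (iv5 D72438)
theorem F485060 : act 3 n216582 = n194189 := d20_3 (iv4 D184721) (iv1 F287113) D216582 F392308 F375033 (iv4 F474957) (iv1 F474960) F421661 F460306 (iv1 F460304)
def n216583 : Q := act 5 n184722
theorem D216583 : act 5 n184722 = n216583 := rfl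
theorem F485061 : act 2 n216583 = n213265 := d2_1 D216583 F469628 (iv2 F377043)
theorem F485062 : act 3 n216583 = n188272 := d6_1 D216583 (iv5 D188272) (iv3 F367122)
theorem F485063 : act 6 n216583 = n184724 := d12_2 D184722 D216583 (iv5 D184724) (iv6 D88085) D88084
theorem F485064 : act 7 n216583 = n195815 := d13_2 (iv7 F356688) D216583 (iv5 D195815)
theorem F485065 : act 0 n216583 = n213569 := d21_4 (iv5 F306610) F309032 D184724 (iv6 F485063) (iv6 D213569) (iv5 D154323) (iv1 D73113) D73114 (iv6 F191863) (iv1 F306418)
def n216584 : Q := act 3 n184731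
theorem D216584 : act 3 n184731 = n216584 := rfl
theorem F485066 : act 2 n216584 = n201540 := d0_1 D216584 (iv3 F443840) F443839 F432015 (iv2 F364064)
theorem F485067 : act 5 n216584 = n203660 := d6_2 F378416 D216584 F429286
theorem F485068 : act 6 n216584 = n201460 := d7_2 (iv6 F374236) D216584 (iv3 F420596)
theorem F485069 : act 7 n216584 = n216344 := d8_2 (iv7 F364063) D216584 (iv3 D216344)
theorem F485070 : act 0 n209394 = n216584 := d20_4 (iv4 F372188) F372190 D195270 (iv3 F453552) (iv3 D216584) F287203 (iv1 D182031) D182032 F372191 (iv1 D188041)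
def n216585 : Q := act 7 n184749
theorem D216585 : act 7 n184749 = n216585 := rfl
theorem F485071 : act 2 n216585 = n197967 := d4_1 D216585 F406314 F389060
theorem F485072 : act 3 n216585 = n186810 := d8_1 D216585 (iv7 F384196) F384195
theorem F485073 : act 4 n216585 = n186737 := d11_1 D216585 F367840 F336400
theorem F485074 : act 5 n216585 = n216566 := d13_1 D216585 (iv7 D216566) (iv5 F287226)
theorem F485075 : act 6 n216585 = n209951 := d14_1 D216585 F455505 F349688 F156042 D184749
theorem F485076 : act 1 n194676 = n216585 := d15_1 F394055 (iv7 D216585) (iv2 F389060)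
theorem F485077 : act 1 n216585 = n194672 := d15_1 F485076 (iv7 F395424) F395423
def n216586 : Q := act 5 n184751
theorem D216586 : act 5 n184751 = n216586 := rfl
theorem F485078 : act 2 n216586 = n216399 := d2_1 D216586 (iv5 D216399) (iv2 F362139)
theorem F485079 : act 4 n216586 = n195825 := d9_1 D216586 (iv5 F420005) F420004 (iv5 F190815) D152913 (iv5 F345931) F220832 D205559 F436994 F398345 (iv4 F366154) (iv5 F190833) (iv4 F308501) F283313 (iv4 F287227)
theorem F485080 : act 7 n216586 = n216398 := d13_2 (iv7 F362138) D216586 (iv5 D216398)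
theorem F485081 : act 0 n216586 = n213518 := d17_2 (iv1 F389069) D216586 (iv5 D213518) F242048 (iv5 F190092) (iv0 F308315) F135083 F156041 (iv4 F389066)
theorem F485082 : act 1 n216586 = n211545 := d17_6 D72882 D154016 (iv1 F308500) F283313 (iv4 F287227) D216586 F462060 (iv0 D154021) (iv4 D72884)
theorem F485083 : act 6 n216586 = n201017 := d21_3 (iv5 F389067) (iv1 F389069) D216586 F418753 (iv6 F418619) (iv5 F436203) F436205 (iv5 D195740) D195741 F398009
def n216587 : Q := act 6 n184951
theorem D216587 : act 6 n184951 = n216587 := rfl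
theorem F485084 : act 2 n216587 = n184954 := d3_1 D216587 (iv6 D184954) D184951
theorem F485085 : act 3 n216587 = n208513 := d7_1 D216587 F449670 (iv3 F366820)
theorem F485086 : act 5 n216587 = n208512 := d12_1 D216587 F449668 F431281 F451437 (iv5 F451438)
theorem F485087 : act 0 n208754 = n216587 := d21_4 (iv5 F372954) F374335 D213737 F471851 (iv6 D216587) F451438 (iv1 D208926) F366444 F469416 F469415
def n216588 : Q := act 5 n184952
theorem D216588 : act 5 n184952 = n216588 := rfl
theorem F485088 : act 3 n216588 = n198032 := d6_1 D216588 (iv5 F411508) F411507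
theorem F485089 : act 7 n216588 = n214007 := d13_2 F471209 D216588 F473081
theorem F485090 : act 6 n216588 = n202329 := d21_3 D213889 F472591 D216588 (iv1 D202329) F423481 F423478 F366264 D141722 D211304 F461049
def n216589 : Q := act 6 n184952
theorem D216589 : act 6 n184952 = n216589 := rfl
theorem F485091 : act 3 n216589 = n215776 := d7_1 D216589 (iv6 F481528) F411507
theorem F485092 : act 4 n216589 = n184954 := d10_1 D216589 (iv6 D184954) D184952
theorem F485093 : act 5 n216589 = n202357 := d12_1 D216589 F423749 (iv5 F423647) (iv6 F485090) (iv5 D216588)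
theorem F485094 : act 0 n214017 = n216589 := d21_10 F485093 F458678 (iv5 F469504) F469505 (iv1 F359539) (iv6 F422683) (iv5 D202001) F347956 D156204 (iv6 F473146)
def n216590 : Q := act 1 n184954
theorem D216590 : act 1 n184954 = n216590 := rfl
theorem F485095 : act 4 n216590 = n203618 := d17_9 F434934 (iv5 D202013) D202011 (iv5 F469450) F469449 (iv5 F483660) (iv0 F483661) F470988 D216590
theorem F485096 : act 5 n208594 = n216590 := d21_0 (iv1 D216590) (iv5 F470988) (iv6 D213550) F389013 (iv6 F450498) F450497 F457024 F457019 F224337 (iv1 F450057)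
theorem F485097 : act 2 n216590 = n208754 := d2_1 F485096 (iv5 D208754) (iv2 F450053)
theorem F485098 : act 6 n216590 = n203617 := d12_2 D208594 F485096 (iv5 F471820) (iv6 F471822) F450009
def n216591 : Q := act 1 n184979
theorem D216591 : act 1 n184979 = n216591 := rfl
theorem F485099 : act 1 n216591 = n212725 := d15_1 D216591 F467276 F426933
theorem F485100 : act 2 n210408 = n216591 := d15_3 F485099 (iv0 F467277) (iv7 F457421)
theorem F485101 : act 6 n216591 = n185251 := d21_5 (iv5 F295459) (iv1 F335558) F335559 D212725 (iv1 F485099) (iv5 F484477) (iv1 D216229) F329856 (iv6 D88308) D88305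
def n216592 : Q := act 4 n184979
theorem D216592 : act 4 n184979 = n216592 := rfl
theorem F485102 : act 3 n216592 = n212711 := d5_1 D216592 (iv4 D212711) F338053 (iv4 F308729) D184979
theorem F485103 : act 6 n216592 = n213153 := d10_2 (iv6 F426623) D216592 F469235
theorem F485104 : act 7 n216592 = n212743 := d11_2 F471214 D216592 (iv4 F471211)
def n216593 : Q := act 0 n184983
theorem D216593 : act 0 n184983 = n216593 := rfl
theorem F485105 : act 6 n216593 = n185259 := d21_5 F151997 D98593 (iv5 F378218) F378219 D216593 F484495 (iv1 F483409) (iv5 F484494) (iv6 D216463) F285721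
theorem F485106 : act 2 n192822 = n216593 := d3_3 F485105 (iv2 F469380) F469382
def n216594 : Q := act 1 n184983
theorem D216594 : act 1 n184983 = n216594 := rfl
theorem F485107 : act 7 n216594 = n192822 := d15_2 (iv0 D216593) D216594 F485106
theorem F485108 : act 3 n192824 = n216594 := d20_3 (iv4 D102337) (iv1 F357248) (iv4 F387910) (iv1 D216594) (iv3 D184983) (iv4 F310893) (iv1 F109725) D73335 D154660 (iv1 F368567)
def n216595 : Q := act 4 n184987
theorem D216595 : act 4 n184987 = n216595 := rfl
theorem F485109 : act 2 n216595 = n210397 := d1_1 D216595 (iv4 D210397) F363382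
theorem F485110 : act 3 n216595 = n191284 := d5_1 D216595 (iv4 F428219) (iv3 F428217) (iv4 F386225) F386224
theorem F485111 : act 6 n216595 = n193819 := d10_2 (iv6 F366938) D216595 (iv4 D193819)
theorem F485112 : act 7 n216595 = n216437 := d11_2 (iv7 F386217) D216595 F484363
def n216596 : Q := act 4 n184988
theorem D216596 : act 4 n184988 = n216596 := rfl
theorem F485113 : act 2 n216596 = n216437 := d1_1 D216596 F484363 F386214
theorem F485114 : act 6 n216596 = n215799 := d10_2 (iv6 F363386) D216596 (iv4 D215799)
theorem F485115 : act 7 n216596 = n210397 := d11_2 (iv7 F363383) D216596 (iv4 D210397)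
def n216597 : Q := act 3 n184993
theorem D216597 : act 3 n184993 = n216597 := rfl
theorem F485116 : act 5 n216597 = n213638 := d6_2 (iv5 F337993) D216597 (iv3 D213638)
theorem F485117 : act 6 n216597 = n216535 := d7_2 (iv6 F392540) D216597 (iv3 F484846)
def n216598 : Q := act 5 n185017
theorem D216598 : act 5 n185017 = n216598 := rfl
theorem F485118 : act 2 n216598 = n185043 := d2_1 D216598 (iv5 D185043) (iv2 F287402)
theorem F485119 : act 3 n216598 = n216221 := d6_1 D216598 F483401 (iv3 F364071)
theorem F485120 : act 6 n216598 = n185020 := d12_2 D185017 D216598 (iv5 D185020) (iv6 D88196) D88195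
theorem F485121 : act 7 n216598 = n216219 := d13_2 F364072 D216598 F483396
theorem F485122 : act 0 n216217 = n216598 := d21_1 (iv5 F484402) (iv5 D216598) (iv6 D185017) (iv1 F285663) D216443 F484397 F483273 F377731 (iv6 D185231) D185228
theorem F485123 : act 1 n216218 = n216598 := d15_1 D216218 F485121 (iv2 D216219)
theorem F485124 : act 5 n216218 = n185229 := d21_2 D216598 (iv1 F485123) F481482 F420609 F351167 (iv5 F434940) F452600 F422942 F455017 (iv1 F364074)
def n216599 : Q := act 4 n185020
theorem D216599 : act 4 n185020 = n216599 := rfl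
theorem F485125 : act 2 n216599 = n185056 := d1_1 D216599 (iv4 D185056) (iv2 F287404)
theorem F485126 : act 5 n216599 = n215977 := d9_2 D185020 D216599 F482380 F355108 (iv4 D114071) (iv5 F143470) F143469 F135144 D182193 F472060 F472059 (iv5 F353774) (iv4 D114074) (iv5 F142963) F142962
theorem F485127 : act 7 n216599 = n216207 := d11_2 F287411 D216599 (iv4 D216207)
theorem F485128 : act 0 n216599 = n216210 := d18_2 (iv1 F287406) D216599 F483386 (iv5 D186606) F136438 F142256 (iv4 F283258) F283260 D182144
theorem F485129 : act 1 n216599 = n216209 := d18_8 F464715 F479996 F479994 (iv4 F458823) (iv5 F483255) (iv4 D216164) F333368 D216599 F483383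
def n216600 : Q := act 3 n185028
theorem D216600 : act 3 n185028 = n216600 := rfl
theorem F485130 : act 4 n216600 = n202270 := d5_2 D185028 D216600 F423431 (iv4 F357602) F357605
theorem F485131 : act 5 n216600 = n208523 := d6_2 F339544 D216600 (iv3 D208523)
theorem F485132 : act 0 n216600 = n202134 := d21_7 D196517 (iv1 F400937) F179708 D115501 F351526 (iv6 F449728) (iv5 F485131) (iv5 D202134) (iv6 D115397) (iv1 F164994)
def n216601 : Q := act 5 n185032
theorem D216601 : act 5 n185032 = n216601 := rfl
theorem F485133 : act 2 n216601 = n210113 := d2_1 D216601 F456218 F390994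
theorem F485134 : act 3 n216601 = n185034 := d6_1 D216601 (iv5 D185034) D185032
theorem F485135 : act 7 n216601 = n216166 := d13_2 F484296 D216601 (iv5 F484292)
theorem F485136 : act 4 n216601 = n192788 := d16_4 (iv4 F387168) (iv5 F392100) F392101 D216601 F387777 F374677 F349511 (iv7 F387092) F387089
theorem F485137 : act 0 n216601 = n189623 := d17_2 (iv1 F382977) D216601 (iv5 F471543) (iv4 D213668) F338102 (iv0 F387155) F387156 (iv0 F470641) F470638
theorem F485138 : act 1 n216601 = n216415 := d17_6 F434173 (iv5 F468536) F468537 (iv5 F392100) F392101 D216601 F484268 F387074 (iv4 F434171)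
def n216602 : Q := act 3 n185036
theorem D216602 : act 3 n185036 = n216602 := rfl
theorem F485139 : act 4 n216602 = n194092 := d5_2 (iv4 F287430) D216602 (iv3 D194092) (iv4 D102668) D102667
theorem F485140 : act 5 n216602 = n201985 := d6_2 (iv5 F359537) D216602 (iv3 F422615)
theorem F485141 : act 6 n216602 = n210746 := d7_2 F469505 D216602 (iv3 F469502)
theorem F485142 : act 7 n216602 = n210752 := d8_2 F468826 D216602 (iv3 F468821)
theorem F485143 : act 2 n216602 = n210754 := d15_3 (iv0 F479959) F479960 (iv7 F485142)
def n216603 : Q := act 0 n185038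
theorem D216603 : act 0 n185038 = n216603 := rfl
theorem F485144 : act 5 n216603 = n204812 := d19_1 D216603 F433679 (iv3 F388881) F483348 (iv5 D216201) (iv4 F470240) (iv3 F470241) (iv1 F369229) F369226 F139359 D92748 F364171 F162427 F142810 F134949 (iv1 F290202) D41163 D88201 D185038
theorem F485145 : act 3 n216603 = n204616 := d20_5 F359503 (iv1 D88200) D88201 D185038 D216603 F433036 F343247 (iv4 F422741) F422740 F359529
theorem F485146 : act 6 n204508 = n216603 := d7_0 F485145 (iv6 D204616) F432755
theorem F485147 : act 4 n216603 = n215793 := d10_1 F485146 F481600 (iv4 F432753)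
def n216604 : Q := act 1 n185038
theorem D216604 : act 1 n185038 = n216604 := rfl
theorem F485148 : act 4 n215794 = n216604 := d20_6 F135151 (iv1 F134644) D87726 D183906 D216468 F484526 (iv1 D216604) F287432 (iv3 D88214) D88212
def n216605 : Q := act 2 n185038
theorem D216605 : act 2 n185038 = n216605 := rfl
theorem F485149 : act 4 n216605 = n185074 := d1_2 (iv4 F287432) D216605 (iv2 D185074)
theorem F485150 : act 6 n216605 = n193829 := d3_2 (iv6 F364068) D216605 F391123
def n216606 : Q := act 0 n185040
theorem D216606 : act 0 n185040 = n216606 := rfl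
theorem F485151 : act 4 n216606 = n194102 := d20_8 F382988 (iv1 F390975) (iv4 D193775) F390250 (iv1 D88217) (iv3 F135140) (iv4 F287433) D216606 (iv3 D194102) (iv1 F382992)
def n216607 : Q := act 1 n185040
theorem D216607 : act 1 n185040 = n216607 := rfl
theorem F485152 : act 6 n202103 = n216607 := d21_3 (iv5 F239977) D213167 (iv5 F469296) (iv1 D216607) (iv6 D185040) (iv5 F359530) F245050 F359545 F361012 (iv1 D152874)
theorem F485153 : act 3 n216607 = n202082 := d7_1 F485152 F422851 D202103
def n216608 : Q := act 5 n185040
theorem D216608 : act 5 n185040 = n216608 := rfl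
theorem F485154 : act 2 n216608 = n210770 := d2_1 D216608 (iv5 F472848) F472846
theorem F485155 : act 3 n216608 = n193836 := d6_1 D216608 (iv5 D193836) F364069
theorem F485156 : act 6 n216608 = n201990 := d12_2 D185040 D216608 F422638 (iv6 F245048) F359530
theorem F485157 : act 0 n216608 = n213242 := d21_1 D216608 (iv5 D213242) (iv6 D152870) (iv1 D72128) D72130 (iv5 F239977) D213167 (iv5 F469296) F485152 (iv1 D216607)
theorem F485158 : act 4 n216527 = n216608 := d10_3 F485156 F422637 D216527
theorem F485159 : act 0 n216527 = n192822 := d20_7 (iv4 D215765) (iv1 F277191) (iv4 F277468) F391146 (iv1 F391145) (iv3 F485155) (iv4 F485158) F469365 F469363 (iv1 F481479)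
def n216609 : Q := act 4 n185041
theorem D216609 : act 4 n185041 = n216609 := rfl
def n216610 : Q := act 3 n185042
theorem D216610 : act 3 n185042 = n216610 := rfl
theorem F485160 : act 2 n216610 = n203061 := d0_1 D216610 (iv3 F452785) F452784 (iv3 F455018) F455088
theorem F485161 : act 4 n203050 = n216610 := d1_0 F485160 (iv4 D203061) (iv2 F426783)
theorem F485162 : act 5 n216610 = n204115 := d16_1 F485161 (iv4 D204115) (iv5 F361503) (iv4 D133627) (iv5 F313304) (iv4 F184227) (iv5 F426835) (iv7 D203062) (iv2 F426783)
theorem F485163 : act 0 n216610 = n214583 := d20_7 (iv4 F432753) (iv1 F432754) F432610 (iv3 F432577) (iv1 F470531) F470535 F485161 (iv4 D214583) F366936 D177929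
theorem F485164 : act 5 n216198 = n185042 := d6_2 F485162 F483339 D216610
def n216611 : Q := act 4 n185042
theorem D216611 : act 4 n185042 = n216611 := rfl
def n216612 : Q := act 0 n185043
theorem D216612 : act 0 n185043 = n216612 := rfl
theorem F485165 : act 5 n216612 = n201568 := d19_1 D216612 F420951 (iv3 F469341) F469345 (iv5 D194084) (iv4 D102664) F74873 D47617 F74875 F65934 F32994 D20844 (iv5 F35718) D23485 F293270 (iv1 F293440) D41171 F337957 (iv3 F287434)
theorem F485166 : act 1 n216219 = n216612 := d15_0 (iv0 D216612) F337956 D216219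
theorem F485167 : act 2 n216218 = n216612 := d2_3 F485165 (iv2 F481481) (iv5 F485124)
theorem F485168 : act 6 n201543 = n216612 := d12_0 F485165 (iv6 D201568) (iv5 D114812) (iv6 F178876) D201543
theorem F485169 : act 7 n216217 = n216612 := d13_0 F485165 (iv7 F484416) (iv5 F484402)
def n216613 : Q := act 1 n185043
theorem D216613 : act 1 n185043 = n216613 := rfl
theorem F485170 : act 1 n216613 = n216219 := d15_1 D216613 (iv7 F485121) F485118
theorem F485171 : act 7 n216613 = n216218 := d15_2 (iv0 D216612) D216613 F485167
theorem F485172 : act 2 n216217 = n216613 := d4_3 F485171 F485167 (iv7 F485169)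
theorem F485173 : act 5 n216447 = n216613 := d13_3 F485171 F485124 (iv7 F484414)
def n216614 : Q := act 4 n185043
theorem D216614 : act 4 n185043 = n216614 := rfl
theorem F485174 : act 3 n216614 = n185056 := d5_1 D216614 (iv4 D185056) F135141 F337957 (iv3 F287434)
theorem F485175 : act 6 n216614 = n185056 := d10_2 (iv6 F287435) D216614 (iv4 D185056)
theorem F485176 : act 7 n216614 = n216211 := d11_2 (iv7 F337956) D216614 F483388
theorem F485177 : act 5 n199334 = n216614 := d19_1 (iv1 F463691) (iv4 D216614) F287434 (iv1 F337954) F283293 (iv4 D88292) (iv3 F135203) D185310 (iv5 F378894) (iv4 F479250) (iv3 F479252) (iv1 F369581) (iv5 F160334) F346835 (iv3 F174618) F174620 (iv5 F169194) D138645 D210417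
def n216615 : Q := act 4 n185054
theorem D216615 : act 4 n185054 = n216615 := rfl
theorem F485178 : act 2 n216615 = n216164 := d1_1 D216615 (iv4 D216164) (iv2 F364160)
theorem F485179 : act 3 n216615 = n195339 := d5_1 D216615 (iv4 F430601) F430599 (iv4 D186793) (iv3 F364161)
theorem F485180 : act 6 n216615 = n215270 := d10_2 (iv6 F364162) D216615 (iv4 D215270)
theorem F485181 : act 7 n216615 = n216176 := d11_2 (iv7 F364163) D216615 (iv4 D216176)
theorem F485182 : act 5 n216615 = n195336 := d16_1 D216615 F396745 (iv5 F403210) F403208 F373958 F373953 (iv5 F287442) (iv7 F364165) (iv2 F364160)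
def n216616 : Q := act 3 n185055
theorem D216616 : act 3 n185055 = n216616 := rfl
theorem F485183 : act 5 n216616 = n187430 := d6_2 (iv5 F287442) D216616 F370301
theorem F485184 : act 7 n216616 = n191703 := d8_2 F364165 D216616 F384210
theorem F485185 : act 6 n211640 = n216616 := d14_5 F485184 (iv6 F469936) F469937 (iv6 F428628) (iv7 F462486)
theorem F485186 : act 1 n214538 = n216616 := d15_1 (iv0 F475684) F485184 (iv2 F469938)
theorem F485187 : act 1 n216616 = n214532 := d15_1 F485186 (iv7 F484303) F484301
def n216617 : Q := act 4 n185055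
theorem D216617 : act 4 n185055 = n216617 := rfl
theorem F485188 : act 2 n216617 = n216176 := d1_1 D216617 (iv4 D216176) F364164
theorem F485189 : act 7 n216617 = n216164 := d11_2 F364165 D216617 (iv4 D216164)
def n216618 : Q := act 6 n185055
theorem D216618 : act 6 n185055 = n216618 := rfl
theorem F485190 : act 2 n216618 = n216177 := d3_1 D216618 (iv6 D216177) F364164
theorem F485191 : act 3 n216618 = n211640 := d7_1 D216618 F485185 (iv3 D216616)
theorem F485192 : act 5 n216618 = n204177 := d12_1 D216618 F431354 (iv5 F368110) F368111 (iv5 F287442)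
theorem F485193 : act 7 n216618 = n204176 := d14_2 F364165 D216618 (iv6 F475968) F475969 F286392
theorem F485194 : act 0 n216181 = n208333 := d21_4 (iv5 D88205) D88203 (iv5 F344234) D216181 F448951 F404085 (iv1 F431356) (iv5 F485192) (iv6 D216618) (iv1 D185055)
theorem F485195 : act 1 n213571 = n216618 := d15_1 (iv0 F471091) F485193 (iv2 F432561)
theorem F485196 : act 0 n204434 = n216618 := d17_0 F485192 (iv1 F431355) D213567 (iv4 F472874) F472875 F245290 D197343 (iv0 F415496) F432519
def n216619 : Q := act 1 n185056
theorem D216619 : act 1 n185056 = n216619 := rfl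
theorem F485197 : act 1 n216619 = n216207 := d15_1 D216619 (iv7 F485127) F485125
theorem F485198 : act 7 n216619 = n216210 := d15_2 F367446 D216619 (iv2 F483387)
theorem F485199 : act 2 n216209 = n216619 := d4_3 F485198 (iv2 F483387) F483385
theorem F485200 : act 6 n216619 = n197343 := d3_2 F483384 F485199 F403992
def n216620 : Q := act 5 n185056
theorem D216620 : act 5 n185056 = n216620 := rfl
theorem F485201 : act 2 n216620 = n215977 := d2_1 D216620 (iv5 F485126) F485125
theorem F485202 : act 3 n216620 = n199334 := d6_1 D216620 F485177 F485174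
theorem F485203 : act 6 n216620 = n199332 := d12_2 F485175 D216620 F411746 D199334 F485177
theorem F485204 : act 7 n216620 = n213779 := d13_2 (iv7 F287443) D216620 (iv5 F472060)
theorem F485205 : act 4 n216620 = n204998 := d16_2 D185056 D216620 F434528 (iv4 D188567) (iv5 F143228) (iv4 F287415) F287416 F287411 F287404
def n216621 : Q := act 1 n185057
theorem D216621 : act 1 n185057 = n216621 := rfl
theorem F485206 : act 7 n216621 = n203402 := d15_2 (iv0 F475896) D216621 (iv2 F475892)
theorem F485207 : act 4 n216621 = n191271 := d17_9 F390539 F390537 (iv1 F484279) F484277 F386197 D216435 (iv0 F484357) F367846 D216621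
theorem F485208 : act 5 n216621 = n210217 := d18_9 (iv1 F484391) F484387 F456624 F456623 F382861 (iv4 D191276) F160579 D185057 D216621
theorem F485209 : act 2 n210238 = n216621 := d2_3 F485208 F456622 D210238
def n216622 : Q := act 7 n185058
theorem D216622 : act 7 n185058 = n216622 := rfl
theorem F485210 : act 2 n216622 = n193837 := d4_1 D216622 F391149 F358602
theorem F485211 : act 3 n216622 = n185063 := d8_1 D216622 (iv7 D185063) (iv3 F287444)
theorem F485212 : act 4 n216622 = n187459 := d11_1 D216622 F370429 F358598
theorem F485213 : act 5 n216622 = n216414 := d13_1 D216622 (iv7 D216414) (iv5 F287445)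
theorem F485214 : act 6 n216622 = n193075 := d14_1 D216622 F391153 (iv6 D193838) F157189 D185058
theorem F485215 : act 1 n216621 = n216622 := d15_1 D216621 (iv7 D216622) (iv2 F358602)
theorem F485216 : act 1 n216622 = n214580 := d15_1 F485215 F475895 F485209
def n216623 : Q := act 0 n185060
theorem D216623 : act 0 n185060 = n216623 := rfl
theorem F485217 : act 5 n216623 = n194134 := d17_1 D216623 (iv1 F392156) (iv5 F382946) F382945 F353721 F358578 (iv5 F358579) (iv0 D185061) (iv4 F287446)
theorem F485218 : act 4 n216623 = n185377 := d18_1 D216623 (iv1 F470603) (iv4 D213481) (iv5 F248344) (iv4 F446333) F446335 (iv4 F369416) F369514 F369509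
theorem F485219 : act 6 n216623 = n185387 := d21_5 (iv5 F283284) F283285 F144147 D185060 D216623 (iv5 F393083) F372335 (iv5 D185292) (iv6 D88283) (iv1 F134628)
theorem F485220 : act 2 n203578 = n216623 := d15_3 (iv0 D216623) (iv0 F338037) (iv7 F428968)
theorem F485221 : act 7 n216623 = n204908 := d4_2 (iv7 F428968) F485220 F434115
theorem F485222 : act 1 n213298 = n216623 := d15_1 D213298 F485221 F434115
def n216624 : Q := act 7 n185060
theorem D216624 : act 7 n185060 = n216624 := rfl
theorem F485223 : act 2 n216624 = n213298 := d4_1 D216624 F469790 F377747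
theorem F485224 : act 3 n216624 = n187212 := d8_1 D216624 F369525 (iv3 F358594)
theorem F485225 : act 4 n216624 = n185063 := d11_1 D216624 (iv7 D185063) (iv4 F287446)
theorem F485226 : act 5 n216624 = n187195 := d13_1 D216624 (iv7 F369510) F369509
theorem F485227 : act 6 n216624 = n210157 := d14_1 D216624 F456403 (iv6 D193840) F157191 D185060
theorem F485228 : act 1 n204908 = n216624 := d15_1 (iv0 F434117) (iv7 D216624) (iv2 F377747)
theorem F485229 : act 1 n216624 = n203578 := d15_1 F485228 F428968 (iv2 F434115)
def n216625 : Q := act 1 n185064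
theorem D216625 : act 1 n185064 = n216625 := rfl
theorem F485230 : act 7 n216625 = n214587 := d15_2 (iv0 F433083) D216625 F475922
theorem F485231 : act 4 n203060 = n216625 := d20_6 (iv4 D47619) D47617 D102668 D194092 F392030 F426833 (iv1 D216625) (iv4 F390955) (iv3 D193769) F157130
theorem F485232 : act 5 n216625 = n185283 := d9_2 (iv5 F426832) F485231 F346094 (iv5 D179710) (iv4 F201328) F313750 (iv4 F252526) (iv5 F426827) F426830 (iv5 F382982) F431095 F431093 F427148 F318758 (iv4 F244527)
theorem F485233 : act 3 n215795 = n216625 := d20_5 (iv4 D214054) D214052 F473257 F482594 (iv1 F481611) (iv4 F485231) (iv1 D203060) D203061 (iv3 F452785) (iv1 F473268)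
def n216626 : Q := act 2 n185064
theorem D216626 : act 2 n185064 = n216626 := rfl
def n216627 : Q := act 5 n185064
theorem D216627 : act 5 n185064 = n216627 := rfl
theorem F485234 : act 3 n216627 = n185065 := d6_1 D216627 (iv5 D185065) D185064
theorem F485235 : act 7 n216627 = n204117 := d13_2 F377750 D216627 F431102
theorem F485236 : act 4 n216627 = n213559 := d16_4 (iv4 F226158) (iv5 F390956) F390955 D216627 (iv5 D213559) (iv4 F361929) (iv5 F234773) (iv7 F424665) F424663
theorem F485237 : act 0 n216627 = n204099 := d17_2 (iv1 D216625) D216627 F431080 F426815 (iv5 D203056) (iv0 D117618) D117620 D203060 F485231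
theorem F485238 : act 1 n216627 = n203989 := d17_6 F390922 (iv5 F390918) (iv1 F356850) (iv5 F390956) F390955 D216627 F430724 F426817 (iv4 F157159)
theorem F485239 : act 2 n204118 = n216627 := d1_3 F485236 F471033 (iv4 F431107)
theorem F485240 : act 5 n216626 = n204118 := d2_0 F485239 (iv5 D216627) D216626
theorem F485241 : act 1 n214587 = n216626 := d17_6 F427310 (iv5 F361503) F361499 D204227 (iv4 F483178) F483182 F485240 F431106 (iv4 F427307)
def n216628 : Q := act 6 n185064
theorem D216628 : act 6 n185064 = n216628 := rfl
theorem F485242 : act 3 n216628 = n185066 := d7_1 D216628 (iv6 D185066) D185064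
theorem F485243 : act 2 n216552 = n216628 := d0_5 F485242 (iv2 F391156) (iv3 F472061) (iv2 F475190) (iv3 F484911)
theorem F485244 : act 7 n192493 = n216628 := d8_0 F485242 (iv7 F471382) (iv3 F471385)
theorem F485245 : act 5 n216628 = n191927 := d13_1 F485244 F384869 D192493
theorem F485246 : act 6 n216626 = n216552 := d3_0 F485243 (iv6 D216628) D216626
def n216629 : Q := act 1 n185066
theorem D216629 : act 1 n185066 = n216629 := rfl
theorem F485247 : act 1 n216629 = n210157 := d15_1 D216629 F456403 F391156
theorem F485248 : act 7 n216629 = n213639 := d15_2 (iv0 F471281) D216629 F471406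
theorem F485249 : act 4 n216629 = n185387 := d18_7 (iv1 F372012) (iv4 D187980) D187978 (iv4 F372004) F153807 (iv4 F287453) D216629 (iv0 F471186) F471184
theorem F485250 : act 6 n185377 = n216629 := d21_3 F470579 (iv1 F419256) (iv5 F365543) (iv1 D216629) (iv6 D185066) D185065 F287451 F283284 D183884 (iv1 F470581)
theorem F485251 : act 2 n216629 = n205857 := d3_1 F485250 F438160 F365544
theorem F485252 : act 5 n216629 = n205856 := d12_1 F485250 (iv6 D205856) F203888 D138061 (iv5 F365543)
def n216630 : Q := act 5 n185066
theorem D216630 : act 5 n185066 = n216630 := rfl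
theorem F485253 : act 2 n216630 = n209176 := d2_1 D216630 F452591 F391156
theorem F485254 : act 3 n216630 = n191927 := d6_1 D216630 (iv5 F485245) F485242
theorem F485255 : act 6 n216630 = n210161 := d12_2 D185066 D216630 (iv5 F483193) F483195 (iv5 D185065)
theorem F485256 : act 7 n216630 = n192492 := d13_2 F471382 D216630 (iv5 F471383)
theorem F485257 : act 4 n216630 = n191929 := d16_2 (iv4 F287453) D216630 (iv5 F393176) F393175 (iv5 D192747) (iv4 F351174) (iv5 F391174) (iv7 D193842) F157194
theorem F485258 : act 0 n216630 = n209177 := d17_2 (iv1 D216629) D216630 F452597 (iv4 F471220) F471219 (iv0 D194717) F159725 D185387 (iv4 F485249)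
theorem F485259 : act 1 n216630 = n209174 := d17_6 (iv1 F373385) F386089 (iv1 D192226) F153807 (iv4 F287453) D216630 F452579 (iv0 D185316) (iv4 F287579)
def n216631 : Q := act 4 n185068
theorem D216631 : act 4 n185068 = n216631 := rfl
theorem F485260 : act 2 n216631 = n193773 := d1_1 D216631 (iv4 D193773) (iv2 F390253)
theorem F485261 : act 3 n216631 = n194113 := d5_1 D216631 (iv4 D194113) (iv3 F157955) (iv4 F135151) D185068
theorem F485262 : act 6 n216631 = n213587 := d10_2 F353698 D216631 (iv4 D213587)
theorem F485263 : act 7 n216631 = n193775 := d11_2 F390251 D216631 (iv4 D193775)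
theorem F485264 : act 0 n216631 = n194101 := d17_0 F392060 (iv1 D153895) D153897 F390314 F390316 F390992 F390990 F382920 D216631
theorem F485265 : act 5 n216631 = n212557 := d18_4 (iv1 F390225) F377189 F368301 D216631 F466410 D215360 F479564 F429486 F429485
theorem F485266 : act 1 n216631 = n187449 := d18_8 F337506 (iv4 F242566) (iv1 F242571) F311785 D175517 (iv4 F366712) F382920 D216631 F370379
def n216632 : Q := act 1 n185070
theorem D216632 : act 1 n185070 = n216632 := rfl
theorem F485267 : act 7 n216632 = n191274 := d15_2 (iv0 F358627) D216632 F382851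
theorem F485268 : act 6 n203362 = n216632 := d21_3 F439945 F372777 D203362 (iv1 D216632) F358626 (iv5 D159411) F114291 D118871 (iv6 F428010) (iv1 F439947)
theorem F485269 : act 2 n216632 = n216425 := d3_1 F485268 F484318 F467688
theorem F485270 : act 4 n216632 = n203407 := d10_1 F485268 (iv6 D203407) (iv4 F428048)
theorem F485271 : act 0 n193772 = n216632 := d21_4 F471249 F430372 (iv5 F470627) F470628 (iv6 F485268) (iv5 D203362) (iv1 F205915) D206254 F439941 (iv1 F471247)
def n216633 : Q := act 2 n185070
theorem D216633 : act 2 n185070 = n216633 := rfl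
theorem F485272 : act 3 n216633 = n191294 := d0_2 D185070 D216633 (iv2 F390249) F390250 (iv2 F337975)
theorem F485273 : act 6 n216633 = n203397 := d3_2 (iv6 F358626) D216633 (iv2 F428146)
theorem F485274 : act 7 n216633 = n193772 := d4_2 F337983 D216633 F390966
theorem F485275 : act 1 n216633 = n216425 := d15_0 (iv0 F484319) F337983 D216633
theorem F485276 : act 1 n191274 = n216633 := d15_0 F485275 (iv7 D216425) (iv2 F382851)
theorem F485277 : act 4 n216633 = n213488 := d20_2 (iv4 F484317) (iv1 F485275) (iv3 D213488) (iv1 D153864) D153865 (iv4 F470565) F470568 F433036 (iv3 F481668) F481671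
def n216634 : Q := act 4 n185070
theorem D216634 : act 4 n185070 = n216634 := rfl
theorem F485278 : act 2 n216634 = n213488 := d1_1 D216634 (iv4 F485277) (iv2 D216633)
theorem F485279 : act 3 n216634 = n213622 := d5_1 D216634 F471333 (iv3 D183897) (iv4 F135154) D185070
theorem F485280 : act 6 n216634 = n214388 := d10_2 (iv6 F358626) D216634 F474922
theorem F485281 : act 7 n216634 = n213620 := d11_2 F337983 D216634 F471323
theorem F485282 : act 5 n194021 = n216634 := d19_1 F482301 (iv4 D216634) (iv3 D185070) (iv1 D88213) (iv5 F133507) (iv4 D86995) D86994 (iv1 F352774) (iv5 D98069) (iv4 F132445) (iv3 F281615) F289544 D186484 (iv4 F346300) F327712 (iv1 F183691) F232250 (iv4 F278853) (iv3 F482297)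
theorem F485283 : act 0 n216634 = n213619 := d21_1 F485282 (iv5 F471321) (iv6 D210236) D210234 (iv6 F471025) F471024 (iv1 F242377) (iv5 F360929) D215961 F482301
theorem F485284 : act 0 n213618 = n216634 := d21_7 (iv5 F391781) (iv1 F387047) (iv5 D192553) (iv6 F384327) (iv1 F388246) (iv6 F458955) (iv5 F471315) (iv5 F485282) (iv6 D194021) (iv1 F391780)
def n216635 : Q := act 3 n185072
theorem D216635 : act 3 n185072 = n216635 := rfl
theorem F485285 : act 6 n216635 = n204504 := d7_2 (iv6 F411839) D216635 (iv3 D204504)
def n216636 : Q := act 4 n185072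
theorem D216636 : act 4 n185072 = n216636 := rfl
theorem F485286 : act 6 n216636 = n204505 := d10_2 (iv6 F411839) D216636 (iv4 D204505)
theorem F485287 : act 5 n216636 = n204791 := d21_6 F356035 (iv1 F431617) (iv5 D204238) (iv6 F431125) (iv1 F432745) (iv6 F485286) F455944 (iv5 F481506) (iv6 D215771) (iv1 F303658)
theorem F485288 : act 0 n194085 = n216636 := d17_0 F485287 F455944 (iv5 F481506) F481505 F277232 D204013 (iv5 F430821) (iv0 D194086) (iv4 F392018)
def n216637 : Q := act 5 n185072
theorem D216637 : act 5 n185072 = n216637 := rfl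
theorem F485289 : act 2 n216637 = n204038 := d2_1 D216637 (iv5 F432596) F432594
theorem F485290 : act 6 n216637 = n204429 := d12_2 (iv6 F411839) D216637 F432508 (iv6 F411505) F411502
theorem F485291 : act 7 n216637 = n204037 := d13_2 F484407 D216637 F484408
theorem F485292 : act 0 n216637 = n203724 := d17_2 D185072 D216637 F429551 (iv4 F364090) D215851 (iv0 F481787) (iv5 F485144) (iv0 D216603) F287432
theorem F485293 : act 0 n187051 = n216637 := d21_1 (iv5 F368927) (iv5 D216637) F411839 (iv1 F198337) F366914 (iv5 F406681) (iv1 F406684) D204588 F484445 (iv1 D216453)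
def n216638 : Q := act 3 n185073
theorem D216638 : act 3 n185073 = n216638 := rfl
theorem F485294 : act 7 n216638 = n191630 := d8_2 (iv7 F432598) D216638 (iv3 F432595)
theorem F485295 : act 4 n191631 = n216638 := d19_2 (iv1 F367782) (iv5 F383984) (iv3 D216638) (iv1 D185073) F337960 (iv4 F483404) (iv3 D216222) F290096 D191483 (iv4 F429583) F429582 F386409 D192895 F388130 (iv3 F369520) (iv1 D146343) (iv5 F318943) D201678 F421344
theorem F485296 : act 2 n216638 = n193764 := d1_1 F485295 (iv4 F392046) F392045
theorem F485297 : act 6 n216638 = n209778 := d10_2 F387620 F485295 F454924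
theorem F485298 : act 0 n216638 = n192818 := d18_2 (iv1 F392044) F485295 F390897 F449830 F449827 (iv0 F445329) (iv4 F445330) D208447 (iv5 F449396)
theorem F485299 : act 1 n216638 = n193766 := d18_6 D96164 D190562 (iv1 F384040) F383978 (iv5 F383984) F485295 F390944 (iv0 D190566) (iv5 D96166)
theorem F485300 : act 1 n193766 = n194093 := d15_1 F485299 (iv7 F392034) (iv2 F485296)
def n216639 : Q := act 4 n185073
theorem D216639 : act 4 n185073 = n216639 := rfl
theorem F485301 : act 0 n216639 = n194085 := d20_7 F388034 F388033 (iv4 F366712) (iv3 F390943) (iv1 F485299) (iv3 D216638) D216639 F392018 F157901 D102674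
def n216640 : Q := act 5 n185073
theorem D216640 : act 5 n185073 = n216640 := rfl
theorem F485302 : act 2 n216640 = n204037 := d2_1 D216640 F484408 (iv2 F484405)
theorem F485303 : act 7 n216640 = n204038 := d13_2 (iv7 F432598) D216640 (iv5 F432596)
theorem F485304 : act 0 n216640 = n187051 := d21_1 D216640 F368927 (iv6 F449657) F449659 (iv6 F405401) (iv5 D197696) D197695 (iv5 F433028) (iv6 F484410) (iv1 F484413)
theorem F485305 : act 0 n203724 = n216640 := d21_10 (iv5 D216640) (iv1 D185073) F337960 (iv6 D182205) (iv1 F352774) F299273 (iv5 D81799) (iv1 F121148) D120386 D203724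
def n216641 : Q := act 6 n185073
theorem D216641 : act 6 n185073 = n216641 := rfl
theorem F485306 : act 3 n216641 = n209778 := d7_1 D216641 (iv6 F485297) (iv3 D216638)
theorem F485307 : act 7 n216641 = n204507 := d14_2 (iv7 F432598) D216641 (iv6 D204507) (iv7 F370312) D204456
theorem F485308 : act 0 n216641 = n210545 := d21_4 (iv5 F429551) F485305 (iv5 D216640) D216641 (iv6 D210545) (iv5 D139380) (iv1 F168898) (iv5 F406649) (iv6 F484439) (iv1 F484441)
theorem F485309 : act 5 n214450 = n216641 := d21_2 (iv5 F472535) F475228 (iv6 D216641) (iv1 D185073) (iv6 F337968) (iv5 D47502) D47499 D102371 D193828 (iv1 F469561)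
theorem F485310 : act 0 n208511 = n216641 := d21_4 (iv5 D134983) (iv1 F102149) D134459 D208511 (iv6 D216641) D216640 F485304 F368927 (iv6 F449657) F449659
def n216642 : Q := act 3 n185104
theorem D216642 : act 3 n185104 = n216642 := rfl
theorem F485311 : act 4 n216642 = n216594 := d5_2 D185104 D216642 (iv3 F485108) F387910 F289680
theorem F485312 : act 7 n216642 = n213184 := d8_2 F386046 D216642 F469363
theorem F485313 : act 0 n216642 = n213960 := d20_4 F481483 F356383 D185104 D216642 F472897 F277519 F341427 D208297 F448794 D215766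
theorem F485314 : act 5 n213185 = n216642 := d13_3 F485312 (iv5 D213184) D213185
def n216643 : Q := act 5 n185104
theorem D216643 : act 5 n185104 = n216643 := rfl
theorem F485315 : act 3 n216643 = n213185 := d6_1 D216643 F485314 (iv3 D216642)
theorem F485316 : act 7 n216643 = n213179 := d13_2 F386046 D216643 F469342
theorem F485317 : act 0 n216643 = n215796 := d17_2 F290121 D216643 (iv5 D215796) (iv4 D177882) (iv5 D84686) F289737 D102417 F289761 D177889
theorem F485318 : act 1 n216643 = n215791 := d17_6 (iv1 F157181) (iv5 D102375) (iv1 F74680) D88226 D185104 D216643 (iv5 D215791) (iv0 F290093) (iv4 D185118)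
def n216644 : Q := act 6 n185104
theorem D216644 : act 6 n185104 = n216644 := rfl
theorem F485319 : act 4 n216644 = n185105 := d10_1 D216644 (iv6 D185105) D185104
theorem F485320 : act 7 n216644 = n215826 := d14_2 F386046 D216644 (iv6 D215826) (iv7 F303660) (iv6 F386045)
theorem F485321 : act 1 n215868 = n216644 := d15_1 (iv0 F481865) F485320 F481706
theorem F485322 : act 0 n215865 = n216644 := d20_1 D215865 F485319 (iv3 F387914) (iv1 F422974) F422973 D202125 (iv1 F452820) (iv4 D209234) F328990 D177998
def n216645 : Q := act 3 n185110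
theorem D216645 : act 3 n185110 = n216645 := rfl
theorem F485323 : act 4 n216645 = n201999 := d5_2 D185110 D216645 F422677 F359536 F285656
theorem F485324 : act 5 n216645 = n212739 := d6_2 F391307 D216645 F467307
theorem F485325 : act 6 n213214 = n216645 := d10_0 F485323 F469455 F469457
def n216646 : Q := act 6 n185110
theorem D216646 : act 6 n185110 = n216646 := rfl
theorem F485326 : act 2 n216646 = n185130 := d3_1 D216646 (iv6 D185130) (iv2 F287479)
theorem F485327 : act 3 n216646 = n213214 := d7_1 D216646 F485325 (iv3 D216645)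
theorem F485328 : act 4 n216646 = n185111 := d10_1 D216646 (iv6 D185111) D185110
def n216647 : Q := act 5 n185118
theorem D216647 : act 5 n185118 = n216647 := rfl
def n216648 : Q := act 3 n185123
theorem D216648 : act 3 n185123 = n216648 := rfl
def n216649 : Q := act 5 n185123
theorem D216649 : act 5 n185123 = n216649 := rfl
def n216650 : Q := act 6 n185123
theorem D216650 : act 6 n185123 = n216650 := rfl
theorem F485329 : act 4 n216650 = n185125 := d10_1 D216650 (iv6 D185125) D185123
theorem F485330 : act 0 n208496 = n216650 := d18_0 F485329 F363286 D208864 F451158 F451145 (iv0 D208361) D208362 (iv0 F449638) F449636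
theorem F485331 : act 1 n208497 = n216650 := d18_6 (iv1 F167785) F167783 F101911 F98525 D134448 D208497 F485329 F363288 (iv5 D135217)
def n216651 : Q := act 3 n185126
theorem D216651 : act 3 n185126 = n216651 := rfl
theorem F485332 : act 4 n216651 = n208856 := d5_2 F364220 D216651 (iv3 F483445) F456703 (iv3 D194082)
theorem F485333 : act 1 n208867 = n216651 := d17_8 (iv1 F451130) (iv5 D135206) (iv1 D63529) D63530 D135210 (iv5 F448796) F448797 (iv5 F451171) F485332
theorem F485334 : act 0 n208864 = n216651 := d18_0 F485332 (iv1 F451130) D208859 F451138 F277519 (iv0 F341428) D135210 D208861 (iv5 F451158)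
def n216652 : Q := act 5 n185126
theorem D216652 : act 5 n185126 = n216652 := rfl
theorem F485335 : act 0 n216652 = n215807 := d17_2 D185126 D216652 (iv5 D215807) F336770 D185215 (iv0 F356400) (iv5 D185119) (iv0 D88230) D88232
theorem F485336 : act 1 n216652 = n215805 := d17_6 D84688 F277423 (iv1 F335641) F335643 F364220 D216652 (iv5 D215805) (iv0 D177894) (iv4 D84690)
def n216653 : Q := act 3 n185127
theorem D216653 : act 3 n185127 = n216653 := rfl
theorem F485337 : act 0 n216653 = n215805 := d19_4 D89520 F335638 (iv4 F287492) D216653 (iv5 D215805) F362118 (iv3 D87707) (iv1 F61961) F30992 F14160 F6007 (iv1 F3023) (iv5 F6010) (iv4 F15278) F290719 F31440 (iv5 D19680) (iv4 F31429) (iv3 F64458)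
theorem F485338 : act 5 n185127 = n216653 := d17_1 F391125 F485337 (iv5 D215805) F362118 (iv5 F137187) (iv0 F336765) F295453 F157180 D193829
theorem F485339 : act 1 n216653 = n215807 := d17_6 F289760 F335645 D89520 F335638 (iv4 F287492) F485338 (iv5 D215807) (iv0 F391245) (iv4 D193865)
def n216654 : Q := act 6 n185127
theorem D216654 : act 6 n185127 = n216654 := rfl
theorem F485340 : act 4 n216654 = n194081 := d10_1 D216654 (iv6 D194081) (iv4 F287492)
theorem F485341 : act 0 n216654 = n208864 := d21_10 F451158 (iv1 D208861) (iv5 F448796) F448795 D215775 (iv6 F481524) D215807 (iv1 F485339) (iv5 F485338) D216654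
theorem F485342 : act 0 n208867 = n216654 := d21_4 F458305 D210973 F459568 F457989 (iv6 D216654) F485338 F485337 (iv5 D215805) (iv6 F457992) (iv1 F458307)
def n216655 : Q := act 0 n185128
theorem D216655 : act 0 n185128 = n216655 := rfl
theorem F485343 : act 1 n213946 = n216655 := d15_0 (iv0 D216655) (iv7 F364070) (iv2 F472846)
def n216656 : Q := act 1 n185128
theorem D216656 : act 1 n185128 = n216656 := rfl
def n216657 : Q := act 2 n185128
theorem D216657 : act 2 n185128 = n216657 := rfl
theorem F485344 : act 4 n216657 = n185149 := d1_2 (iv4 F287494) D216657 (iv2 D185149)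
theorem F485345 : act 6 n216657 = n213803 := d3_2 (iv6 F429260) D216657 F472163
theorem F485346 : act 7 n216657 = n213946 := d4_2 F364070 D216657 F472846
theorem F485347 : act 1 n216657 = n216606 := d15_0 (iv0 D216606) F364070 D216657
theorem F485348 : act 1 n216656 = n213946 := d15_1 D216656 (iv7 F485346) (iv2 D216657)
theorem F485349 : act 1 n216607 = n216657 := d15_1 D216607 F485346 F472846
def n216658 : Q := act 5 n185128
theorem D216658 : act 5 n185128 = n216658 := rfl
theorem F485350 : act 3 n216658 = n185129 := d6_1 D216658 (iv5 D185129) D185128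
theorem F485351 : act 6 n216658 = n215440 := d12_2 (iv6 F429260) D216658 (iv5 D215440) (iv6 F347862) D203655
theorem F485352 : act 7 n216658 = n216608 := d13_2 F364070 D216658 (iv5 D216608)
def n216659 : Q := act 6 n185129
theorem D216659 : act 6 n185129 = n216659 := rfl
theorem F485353 : act 3 n216659 = n215440 := d7_1 D216659 (iv6 F485351) F485350
theorem F485354 : act 5 n216659 = n215439 := d12_1 D216659 F480001 (iv5 F429256) (iv6 D185130) D185129
theorem F485355 : act 7 n216659 = n215859 := d14_2 F391144 D216659 (iv6 D215859) F481796 (iv6 F481800)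
def n216660 : Q := act 0 n185130
theorem D216660 : act 0 n185130 = n216660 := rfl
theorem F485356 : act 4 n216660 = n210403 := d18_3 F306745 (iv4 F287495) D216660 F457409 F429779 (iv0 F362679) D216095 F482923 F429491
theorem F485357 : act 6 n210402 = n216660 := d10_0 F485356 (iv6 D210403) D210402
theorem F485358 : act 5 n213062 = n216660 := d16_3 (iv4 F449865) F449866 (iv4 F468829) F485356 F457409 F429779 F362680 (iv7 F362686) F372490
theorem F485359 : act 3 n213063 = n216660 := d20_5 (iv4 F468765) F468766 F418402 (iv3 F429046) F468831 F485356 (iv1 F481624) F481620 F429094 (iv1 F239511)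
def n216661 : Q := act 7 n185130
theorem D216661 : act 7 n185130 = n216661 := rfl
theorem F485360 : act 3 n216661 = n202302 := d8_1 D216661 (iv7 F429258) F429257
theorem F485361 : act 4 n216661 = n185134 := d11_1 D216661 (iv7 D185134) (iv4 F287495)
theorem F485362 : act 5 n216661 = n202301 := d13_1 D216661 (iv7 F429255) (iv5 F429256)
theorem F485363 : act 6 n216661 = n213949 := d14_1 D216661 F472854 F364068 F157187 D185130
def n216662 : Q := act 3 n185131
theorem D216662 : act 3 n185131 = n216662 := rfl
theorem F485364 : act 5 n216662 = n207900 := d6_2 F425021 D216662 (iv3 F446931)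
def n216663 : Q := act 4 n185131
theorem D216663 : act 4 n185131 = n216663 := rfl
theorem F485365 : act 5 n216663 = n196526 := d9_2 F425021 D216663 F400969 (iv5 F351293) (iv4 F351285) (iv5 F387519) (iv4 F429490) F429491 (iv4 F433024) F433025 F400940 (iv5 F351297) (iv4 F351299) D198185 (iv4 F425020)
theorem F485366 : act 7 n216663 = n196525 := d11_2 F429738 D216663 (iv4 F429739)
theorem F485367 : act 1 n216663 = n213203 := d18_6 F409202 F409201 (iv1 F407138) (iv4 F425020) F425021 D216663 F469427 (iv0 F429776) (iv5 D203779)
theorem F485368 : act 3 n216663 = n196535 := d19_3 F482922 F425021 D216663 (iv1 F400998) F179643 F175909 (iv3 F175907) (iv1 D63373) (iv5 F80584) (iv4 F101110) (iv3 F222575) (iv1 F339895) (iv5 F375586) (iv4 F376137) F376136 (iv1 F364370) (iv5 F139542) D187873 (iv3 F482919)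
def n216664 : Q := act 3 n185144
theorem D216664 : act 3 n185144 = n216664 := rfl
theorem F485369 : act 2 n216664 = n186772 := d0_1 D216664 F367959 F356243 (iv3 F356244) F362818
theorem F485370 : act 5 n216664 = n186440 := d6_2 F362817 D216664 (iv3 F289239)
theorem F485371 : act 7 n216664 = n191330 := d8_2 (iv7 F362819) D216664 F383073
theorem F485372 : act 0 n216664 = n189119 := d19_4 (iv1 F172619) F172612 (iv4 F362812) D216664 F375815 (iv4 D185631) (iv3 F365437) (iv1 F370934) (iv5 F481090) F481089 F447617 (iv1 F443808) (iv5 D185906) (iv4 F333826) D132885 F447204 F447202 (iv4 F301260) F343103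
def n216665 : Q := act 4 n185147
theorem D216665 : act 4 n185147 = n216665 := rfl
theorem F485373 : act 2 n216665 = n216611 := d1_1 D216665 (iv4 D216611) (iv2 F455088)
theorem F485374 : act 6 n216665 = n209822 := d10_2 F455017 D216665 (iv4 D209822)
theorem F485375 : act 7 n216665 = n216609 := d11_2 (iv7 F455086) D216665 (iv4 D216609)
def n216666 : Q := act 5 n185147
theorem D216666 : act 5 n185147 = n216666 := rfl
theorem F485376 : act 2 n216666 = n216198 := d2_1 D216666 F485164 (iv2 F455088)
theorem F485377 : act 3 n216666 = n209414 := d6_1 D216666 F453605 (iv3 F455018)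
theorem F485378 : act 7 n216666 = n216197 := d13_2 (iv7 F455086) D216666 F483338
theorem F485379 : act 0 n213419 = n216666 := d21_10 (iv5 D216666) (iv1 F364074) D216598 F485120 (iv1 F333368) (iv6 F286392) (iv5 D184476) F303721 D153681 D213419
theorem F485380 : act 6 n209412 = n216666 := d21_5 (iv5 D182048) (iv1 F333362) D86978 D182156 F483205 (iv5 D216666) (iv1 F364074) D216598 F485120 (iv1 F333368)
theorem F485381 : act 1 n216199 = n216666 := d15_0 (iv0 F485379) (iv7 F470302) D216199
def n216667 : Q := act 3 n185148
theorem D216667 : act 3 n185148 = n216667 := rfl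
theorem F485382 : act 7 n216667 = n216610 := d8_2 F455090 D216667 (iv3 D216610)
def n216668 : Q := act 4 n185148
theorem D216668 : act 4 n185148 = n216668 := rfl
theorem F485383 : act 2 n216668 = n216609 := d1_1 D216668 (iv4 D216609) F455087
theorem F485384 : act 7 n216668 = n216611 := d11_2 F455090 D216668 (iv4 D216611)
theorem F485385 : act 0 n213939 = n216668 := d20_10 (iv4 D216668) (iv1 D185148) (iv4 F287494) (iv3 D185128) D185126 D216651 F485332 (iv1 F451130) D208859 (iv3 F472815)
theorem F485386 : act 1 n213939 = n216665 := d15_1 (iv0 F485385) F485375 (iv2 F485383)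
def n216669 : Q := act 5 n185148
theorem D216669 : act 5 n185148 = n216669 := rfl
theorem F485387 : act 2 n216669 = n216197 := d2_1 D216669 F483338 F455087
theorem F485388 : act 7 n216669 = n216198 := d13_2 F455090 D216669 F485164
theorem F485389 : act 0 n216669 = n213419 := d21_1 D216669 F470301 (iv6 F364091) F388323 F388321 (iv5 D101016) (iv1 F290188) D88195 D185017 (iv1 F364076)
theorem F485390 : act 0 n216199 = n216669 := d21_1 (iv5 F483340) (iv5 D216669) (iv6 F470529) (iv1 F470546) F470544 (iv5 D200920) F176810 D114812 D201568 (iv1 F420953)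
def n216670 : Q := act 6 n185149
theorem D216670 : act 6 n185149 = n216670 := rfl
theorem F485391 : act 2 n216670 = n185150 := d3_1 D216670 (iv6 D185150) D185149
theorem F485392 : act 3 n216670 = n204613 := d7_1 D216670 (iv6 F484410) F484409
theorem F485393 : act 4 n216670 = n213803 := d10_1 D216670 (iv6 F485345) F485344
theorem F485394 : act 7 n216670 = n216442 := d14_2 (iv7 F364072) D216670 (iv6 D216442) F285657 D185017
theorem F485395 : act 0 n216670 = n213199 := d21_4 (iv5 F485165) (iv1 F485166) F483396 D216670 (iv6 F469416) (iv5 F366444) F388324 (iv5 F242483) F364091 F420952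
theorem F485396 : act 5 n213735 = n216670 := d21_8 (iv5 F485164) (iv1 D216198) F283628 D185231 F455980 (iv6 F471851) (iv5 D213737) D213735 (iv6 D216670) (iv1 F364075)
theorem F485397 : act 1 n216670 = n216444 := d15_0 (iv0 D216444) (iv7 F364065) (iv2 F485391)
def n216671 : Q := act 0 n185150
theorem D216671 : act 0 n185150 = n216671 := rfl
theorem F485398 : act 5 n216671 = n213023 := d17_3 F471821 F374246 D216671 F468639 (iv5 D210993) (iv0 F424161) F424159 F412830 D213730
theorem F485399 : act 4 n216671 = n213197 := d18_1 D216671 F469410 (iv4 F422743) F386196 (iv4 F422744) (iv0 F412829) D212587 F466562 F374246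
theorem F485400 : act 6 n216671 = n204052 := d21_5 (iv5 F485124) (iv1 D216218) F283643 D185150 D216671 (iv5 F430909) F353870 (iv5 F432977) (iv6 F484420) (iv1 F484423)
theorem F485401 : act 2 n213199 = n216671 := d15_3 (iv0 D216671) F471369 F471368
theorem F485402 : act 1 n216442 = n216671 := d15_0 (iv0 D216671) F364065 (iv2 F484392)
theorem F485403 : act 7 n216671 = n216444 := d15_2 (iv0 F484395) F485402 (iv2 F484403)
theorem F485404 : act 3 n193784 = n216671 := d7_3 F485400 F430911 F467162
def n216672 : Q := act 3 n185166
theorem D216672 : act 3 n185166 = n216672 := rfl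
theorem F485405 : act 2 n216672 = n215850 := d0_1 D216672 F481781 (iv2 F364086) (iv3 D185171) (iv2 F287505)
theorem F485406 : act 5 n216672 = n202233 := d6_2 F359538 D216672 F423341
theorem F485407 : act 6 n216672 = n215847 := d7_2 F473061 D216672 F481772
theorem F485408 : act 7 n216672 = n214226 := d8_2 F473005 D216672 F474086
theorem F485409 : act 0 n216672 = n209839 := d19_4 (iv1 F344332) (iv5 D185167) D185166 D216672 F455110 F458976 (iv3 F458977) (iv1 D140721) D140722 F324355 F127201 F126964 (iv5 F300734) F327394 (iv3 F328620) (iv1 F99572) D64676 (iv4 F339532) (iv3 F357606)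
theorem E104028 : n215847 = n214023 := ((c21_5 (iv5 D156165) F162013 D74308 (iv6 F245479) D214023 (iv6 F485407) F485406 (iv1 F429051) (iv5 F459133) (iv6 D210881) (iv1 F245436))).symm
theorem F485410 : act 2 n214023 = n177986 := (sb E104028 (iv2 D215847))
theorem F485411 : act 3 n214023 = n214004 := (sb E104028 F481772)
theorem F485412 : act 6 n214023 = n216672 := (sb E104028 (iv6 F485407))
theorem E104029 : n215773 = n214024 := ((c15_2 (iv0 D214023) D214024 F481513 (iv2 F485410))).symm
theorem F485413 : act 3 n214024 = n177768 := (sb E104029 (iv3 D215773))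
theorem F485414 : act 7 n214024 = n177986 := (sb E104029 F481513)
theorem F485415 : act 0 n215923 = n216672 := d17_2 F422655 D215923 F485406 F423342 F312471 F306030 (iv5 F307601) (iv0 F318275) (iv4 F422654)
def n216673 : Q := act 0 n185168
theorem D216673 : act 0 n185168 = n216673 := rfl
theorem F485416 : act 5 n216673 = n213631 := d17_1 D216673 (iv1 D213631) (iv5 D154526) (iv4 F198434) (iv5 F457388) F473044 F473042 F473063 F473066
theorem F485417 : act 4 n216673 = n203625 := d18_3 D214004 F473066 D216673 F429109 (iv4 F386642) (iv0 F482164) (iv4 D213999) (iv0 D156172) D156174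
theorem F485418 : act 6 n216673 = n216447 := d21_5 (iv5 F339542) (iv1 F344332) (iv5 D185167) D185168 D216673 F485173 (iv1 D216613) (iv5 D185043) (iv6 D88202) D88199
theorem F485419 : act 1 n185179 = n216673 := d15_0 (iv0 D216673) F411819 F411817
theorem F485420 : act 2 n185176 = n216673 := d3_3 F485418 F484415 F484401
theorem F485421 : act 7 n185177 = n216673 := d14_0 F485418 F484414 F481482 F420608 F424590
def n216674 : Q := act 1 n185168
theorem D216674 : act 1 n185168 = n216674 := rfl
theorem F485422 : act 1 n216674 = n185179 := d15_1 D216674 (iv7 D185179) (iv2 F287509)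
theorem F485423 : act 7 n216674 = n185176 := d15_2 (iv0 D216673) D216674 F485420
theorem F485424 : act 5 n216674 = n199015 := d17_7 F458628 F458627 (iv1 F469522) F458730 (iv4 F411824) F411825 D216674 (iv0 F450768) (iv4 F422501)
theorem F485425 : act 6 n201086 = n216674 := d21_3 F469107 F247881 D201086 (iv1 D216674) (iv6 D185168) D185167 (iv1 F339549) (iv5 D185034) (iv6 F359593) (iv1 F469105)
theorem F485426 : act 2 n216674 = n185177 := d3_1 F485425 (iv6 F424590) (iv2 F419038)
theorem F485427 : act 4 n216674 = n203428 := d10_1 F485425 (iv6 D203428) (iv4 F419040)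
def n216675 : Q := act 1 n185171
theorem D216675 : act 1 n185171 = n216675 := rfl
theorem F485428 : act 1 n216675 = n215852 := d15_1 D216675 (iv7 D215852) (iv2 F364086)
theorem F485429 : act 7 n216675 = n215837 := d15_2 (iv0 F458292) D216675 F481740
theorem F485430 : act 4 n210410 = n216675 := d20_0 (iv1 D216675) F287514 (iv3 D88253) D88251 D185180 (iv4 F387064) (iv1 F470642) (iv4 F481725) F481724 F457428
theorem F485431 : act 2 n216675 = n215840 := d1_1 F485430 (iv4 D215840) (iv2 F457426)
theorem F485432 : act 6 n216675 = n210409 := d10_2 D210410 F485430 (iv4 D210409)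
theorem F485433 : act 5 n215925 = n216675 := d12_5 F485432 (iv5 F459242) F459243 F359220 D215925
def n216676 : Q := act 5 n185171
theorem D216676 : act 5 n185171 = n216676 := rfl
theorem F485434 : act 2 n216676 = n215851 := d2_1 D216676 (iv5 D215851) (iv2 F364086)
theorem F485435 : act 3 n216676 = n185172 := d6_1 D216676 (iv5 D185172) D185171
theorem F485436 : act 6 n216676 = n193896 := d12_2 F364085 D216676 (iv5 F458621) (iv6 F481520) (iv5 D215774)
theorem F485437 : act 7 n216676 = n209861 := d13_2 F484431 D216676 (iv5 F484430)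
theorem F485438 : act 4 n193897 = n216676 := d11_3 F485437 F455181 F433602
def n216677 : Q := act 3 n185176
theorem D216677 : act 3 n185176 = n216677 := rfl
def n216678 : Q := act 4 n185176
theorem D216678 : act 4 n185176 = n216678 := rfl
theorem F485439 : act 2 n216678 = n203625 := d1_1 D216678 (iv4 F485417) (iv2 F485420)
theorem F485440 : act 6 n216678 = n213185 := d10_2 F484401 D216678 F484418
theorem F485441 : act 7 n216678 = n203428 := d11_2 F485423 D216678 (iv4 F485427)
theorem F485442 : act 0 n216678 = n203624 := d18_2 D185176 D216678 F482186 (iv5 D215939) F278675 D178813 (iv4 F466348) F411816 (iv5 D185178)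
theorem F485443 : act 5 n214168 = n216678 := d18_9 F485442 F482186 F482185 (iv4 D214005) (iv5 D156174) (iv4 F172516) D199353 F466348 F473822
theorem F485444 : act 0 n203623 = n216678 := d21_4 (iv5 D202428) F401400 F401399 (iv6 F463019) F485440 F485314 F485313 F472898 (iv6 D213939) (iv1 F423959)
def n216679 : Q := act 6 n185180
theorem D216679 : act 6 n185180 = n216679 := rfl
theorem F485445 : act 2 n216679 = n213647 := d3_1 D216679 (iv6 D213647) (iv2 F387063)
theorem F485446 : act 3 n216679 = n185181 := d7_1 D216679 (iv6 D185181) D185180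
theorem F485447 : act 4 n216679 = n213640 := d10_1 D216679 (iv6 D213640) F387064
theorem F485448 : act 7 n216679 = n193799 := d14_2 (iv7 F287520) D216679 (iv6 D193799) F368564 F366808
theorem F485449 : act 0 n216679 = n193750 := d21_10 F390901 (iv1 D192012) (iv5 F370433) (iv6 D187460) F291156 D97975 F151016 (iv1 F390981) (iv5 F287519) D216679
theorem F485450 : act 1 n193068 = n193799 := d15_1 F471439 (iv7 F485448) F485445
def n216680 : Q := act 2 n185182
theorem D216680 : act 2 n185182 = n216680 := rfl
theorem F485451 : act 3 n216680 = n193570 := d0_2 D185182 D216680 (iv2 F390313) (iv3 D183932) F135179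
theorem F485452 : act 4 n216680 = n185192 := d1_2 F391031 D216680 (iv2 F391030)
theorem F485453 : act 6 n216680 = n193796 := d3_2 F364094 D216680 F391030
theorem F485454 : act 7 n216680 = n213646 := d4_2 F287577 D216680 F471435
theorem F485455 : act 1 n216436 = n213646 := d15_1 (iv0 F484361) (iv7 F485454) (iv2 D216680)
theorem F485456 : act 1 n213602 = n216680 := d15_1 (iv0 F480533) F485454 F471435
def n216681 : Q := act 3 n185183
theorem D216681 : act 3 n185183 = n216681 := rfl
theorem F485457 : act 4 n216681 = n210750 := d20_6 (iv4 D19367) D19365 D41186 D88253 D185183 D216681 (iv1 D210750) F363548 (iv3 D88275) (iv1 D41195)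
theorem F485458 : act 2 n214035 = n216681 := d1_3 F485457 (iv2 F458686) D214035
def n216682 : Q := act 3 n185184
theorem D216682 : act 3 n185184 = n216682 := rfl
theorem F485459 : act 6 n216682 = n193793 := d7_2 F406626 D216682 (iv3 F391023)
theorem F485460 : act 4 n208448 = n216682 := d20_2 F480644 F449398 (iv3 D216682) (iv1 D185184) (iv3 D88253) (iv4 D41186) (iv1 F61963) (iv4 F133516) (iv3 F283655) F480646
theorem F485461 : act 0 n193564 = n216682 := d20_4 F481719 F480578 D215583 F480635 (iv3 D216682) F484455 (iv1 D215834) F277530 (iv3 F277528) D215829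
def n216683 : Q := act 5 n185192
theorem D216683 : act 5 n185192 = n216683 := rfl
theorem F485462 : act 3 n216683 = n185194 := d6_1 D216683 (iv5 D185194) D185192
theorem F485463 : act 7 n216683 = n212548 := d13_2 (iv7 F364100) D216683 F466370
theorem F485464 : act 6 n215411 = n216683 := d21_5 F482290 F462221 (iv5 F450578) (iv6 F458128) (iv1 F479858) (iv5 D216683) F484339 F484337 (iv6 D215961) D215960
theorem F485465 : act 4 n211617 = n216683 := d20_2 D210623 (iv1 F462398) F485462 (iv1 F352428) (iv3 F349414) F168890 (iv1 F165729) F80615 (iv3 F101158) D139448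
def n216684 : Q := act 1 n185219
theorem D216684 : act 1 n185219 = n216684 := rfl
def n216685 : Q := act 5 n185219
theorem D216685 : act 5 n185219 = n216685 := rfl
theorem F485466 : act 3 n216685 = n185220 := d6_1 D216685 (iv5 D185220) D185219
def n216686 : Q := act 6 n185219
theorem D216686 : act 6 n185219 = n216686 := rfl
theorem F485467 : act 3 n216686 = n185221 := d7_1 D216686 (iv6 D185221) D185219
theorem F485468 : act 4 n216686 = n185231 := d10_1 D216686 (iv6 D185231) (iv4 F287536)
theorem F485469 : act 7 n216686 = n216589 := d14_2 (iv7 F473086) D216686 (iv6 D216589) (iv7 F471209) F473083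
theorem F485470 : act 0 n216686 = n214030 := d19_4 F370307 (iv5 D185226) (iv4 F287537) (iv3 F485467) (iv5 D214030) (iv4 F415984) F415983 F363706 D210455 F457612 F369588 (iv1 D95804) (iv5 D44740) F33519 F31716 D19873 D42129 D90131 D187435
def n216687 : Q := act 0 n185220
theorem D216687 : act 0 n185220 = n216687 := rfl
theorem F485471 : act 5 n216687 = n191494 := d17_3 F343893 D185220 D216687 (iv4 D191494) (iv5 D98443) F277394 D171183 (iv0 F268931) (iv4 F277468)
theorem F485472 : act 2 n216653 = n216687 := d2_3 F485471 F383573 F485338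
theorem F485473 : act 7 n216652 = n216687 := d13_0 F485471 F383574 D216652
theorem F485474 : act 4 n193879 = n216687 := d16_2 D102448 D193879 F485471 (iv4 D191494) (iv5 D98443) (iv4 F295314) F295315 (iv7 F290010) F290009
theorem F485475 : act 6 n216687 = n216653 := d21_9 (iv5 D215805) (iv1 F391246) F449643 F449641 F481802 (iv6 F481800) (iv5 D193836) (iv1 F383576) (iv5 F485471) F485337
theorem F485476 : act 3 n216654 = n216687 := d7_3 F485475 (iv3 D216653) D216654
def n216688 : Q := act 1 n185220
theorem D216688 : act 1 n185220 = n216688 := rfl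
theorem F485477 : act 7 n216688 = n216653 := d15_2 (iv0 D216687) D216688 F485472
theorem F485478 : act 5 n216688 = n193835 := d17_7 (iv1 F157186) F356392 (iv1 D185223) (iv5 D88263) D88262 D185220 D216688 F391140 (iv4 D185110)
theorem F485479 : act 3 n193835 = n216688 := d19_19 (iv1 D216688) (iv5 D185220) (iv4 D88262) (iv3 D41190) (iv1 D19366) (iv5 D9092) F6006 F3019 D1764 D4096 F290750 (iv3 F7353) D10828 (iv5 F63524) (iv4 F64465) (iv3 F137229) F335646 F277451 (iv4 F391142)
theorem F485480 : act 4 n216688 = n193873 := d5_2 (iv4 F391142) F485479 F391273 F346047 F290016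
theorem F485481 : act 2 n216652 = n216688 := d16_9 F485480 (iv5 D193873) (iv4 D102443) (iv5 F295315) F295314 D98443 D191494 (iv5 F485471) (iv7 F485473)
def n216689 : Q := act 4 n185220
theorem D216689 : act 4 n185220 = n216689 := rfl
theorem F485482 : act 2 n216689 = n212734 := d1_1 D216689 (iv4 F481648) F481646
theorem F485483 : act 5 n216689 = n204780 := d16_3 D88262 D185220 D216689 (iv4 D204780) F357225 (iv4 F368952) F368953 F285677 (iv2 D88261)
theorem F485484 : act 0 n216689 = n193885 := d17_0 (iv5 D193885) (iv1 D102452) D102454 D193892 F391307 (iv0 F383575) (iv5 F485471) (iv0 D216687) D216689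
theorem F485485 : act 1 n216689 = n193883 := d18_8 (iv1 F385962) (iv4 D192198) (iv1 F153735) D102448 D193879 F485474 (iv0 D216687) D216689 (iv5 D193883)
theorem F485486 : act 3 n213166 = n216689 := d6_3 F485483 (iv3 F482125) F482126
theorem F485487 : act 6 n213165 = n216689 := d12_0 F485483 F472648 (iv5 D213900) (iv6 F366721) D213165
def n216690 : Q := act 6 n185220
theorem D216690 : act 6 n185220 = n216690 := rfl
theorem F485488 : act 4 n216690 = n213165 := d10_1 D216690 F485487 (iv4 D216689)
def n216691 : Q := act 5 n185221
theorem D216691 : act 5 n185221 = n216691 := rfl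
theorem F485489 : act 7 n216691 = n196565 := d13_2 F481526 D216691 F481529
theorem F485490 : act 4 n216691 = n196568 := d16_2 (iv4 F287537) D216691 F401101 (iv4 F363105) F362801 (iv4 F172518) D199356 F411832 F287535
def n216692 : Q := act 3 n185228
theorem D216692 : act 3 n185228 = n216692 := rfl
theorem F485491 : act 6 n216692 = n216677 := d7_2 (iv6 F484401) D216692 (iv3 D216677)
theorem F485492 : act 4 n213909 = n216692 := d20_2 F484472 F472694 (iv3 D216692) (iv1 F484422) F484419 (iv4 F364090) (iv1 F481771) (iv4 D215837) F467195 (iv1 F484475)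
theorem F485493 : act 0 n213909 = n185253 := d20_7 F133516 (iv1 F61962) D41191 D88265 D185228 D216692 (iv4 F485492) (iv4 D185253) (iv3 D88272) (iv1 F133519)
theorem E104030 : n214048 = n197418 := (c18_6 F485493 (iv4 D185253) D185250 (iv4 F473247) (iv5 D214049) D214048 (iv0 D197418) F167238 D156059 D213909)
theorem F485494 : act 4 n197418 = n156256 := (sb E104030 (iv4 D214048))
theorem F485495 : act 6 n197418 = n201970 := (sb E104030 F473246)
theorem F485496 : act 0 n214047 = n193280 := d20_4 (iv4 F167238) D197418 F485494 D214047 (iv3 D193280) (iv4 D101432) (iv1 F356387) D192214 F386039 (iv1 D156059)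
def n216693 : Q := act 3 n185229
theorem D216693 : act 3 n185229 = n216693 := rfl
theorem F485497 : act 5 n216693 = n204110 := d6_2 F485124 D216693 F483395
def n216694 : Q := act 6 n185230
theorem D216694 : act 6 n185230 = n216694 := rfl
theorem F485498 : act 2 n216694 = n185231 := d3_1 D216694 (iv6 D185231) D185230
theorem F485499 : act 3 n216694 = n208361 := d7_1 D216694 (iv6 F484450) F484448
theorem F485500 : act 7 n216694 = n216587 := d14_2 F484421 D216694 (iv6 D216587) (iv7 F432978) (iv6 F484420)
theorem F485501 : act 0 n216694 = n216590 := d21_4 D216666 (iv1 F485381) F483340 D216694 F485098 (iv5 F471820) F471821 F374246 (iv6 D185150) D185147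
theorem F485502 : act 5 n208868 = n216694 := d21_2 (iv5 F483660) (iv1 F483662) (iv6 D216694) (iv1 F484417) (iv6 F485418) F485416 (iv1 D213631) (iv5 D154526) (iv6 F242463) F431647
theorem F485503 : act 0 n208408 = n216694 := d21_4 F470543 (iv1 F241664) D204447 (iv6 F449224) (iv6 D216694) (iv5 F483340) F485390 (iv5 D216669) (iv6 F470529) (iv1 F470546)
def n216695 : Q := act 1 n185231
theorem D216695 : act 1 n185231 = n216695 := rfl
theorem F485504 : act 1 n216695 = n216587 := d15_1 D216695 (iv7 F485500) F485498
theorem F485505 : act 7 n216695 = n216590 := d15_2 (iv0 F455980) D216695 F485097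
theorem F485506 : act 4 n215831 = n216695 := d20_0 (iv1 D216695) (iv4 F485468) F485467 F433185 (iv3 D204661) (iv4 D124182) F302823 D84720 D177977 D215831
theorem F485507 : act 5 n208264 = n216695 := d21_0 (iv1 D216695) (iv5 F377731) F455979 (iv1 D210058) (iv6 D137392) F100519 D135952 (iv5 F409972) (iv6 F409975) F448645
theorem F485508 : act 6 n213464 = n216695 := d21_3 F432578 (iv1 F241657) D213464 (iv1 D216695) (iv6 D185231) (iv5 F283628) D216197 F483338 (iv6 F470527) F470530
theorem F485509 : act 2 n216695 = n208408 := d3_1 F485508 F449224 (iv2 F470521)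
def n216696 : Q := act 6 n185232
theorem D216696 : act 6 n185232 = n216696 := rfl
theorem F485510 : act 2 n216696 = n213582 := d3_1 D216696 F471140 F358611
theorem F485511 : act 3 n216696 = n214391 := d7_1 D216696 (iv6 F474935) F382878
theorem F485512 : act 5 n216696 = n187514 := d12_1 D216696 (iv6 F412725) (iv5 D199573) D199574 F412730
theorem F485513 : act 7 n216696 = n213478 := d14_2 F358612 D216696 (iv6 D213478) F354978 D154391
theorem F485514 : act 0 n216696 = n213581 := d21_4 D154409 F412732 F412730 D216696 (iv6 F471132) (iv5 D213127) (iv1 F386102) F386099 F358592 (iv1 D154407)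
theorem F485515 : act 0 n213580 = n216696 := d21_4 (iv5 F453883) (iv1 F471236) (iv5 D213599) (iv6 F471134) (iv6 D216696) (iv5 F412730) F412731 (iv5 F358579) (iv6 F389483) (iv1 F389485)
def n216697 : Q := act 3 n185251
theorem D216697 : act 3 n185251 = n216697 := rfl
theorem F485516 : act 2 n216697 = n215839 := d0_1 D216697 (iv3 D215839) (iv2 F457426) (iv3 F484465) F484467
theorem F485517 : act 1 n216697 = n216429 := d15_0 (iv0 F484334) (iv7 F481745) (iv2 F485516)
theorem F485518 : act 1 n215762 = n216697 := d15_0 F485517 (iv7 F484479) (iv2 F484481)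
def n216698 : Q := act 4 n185252
theorem D216698 : act 4 n185252 = n216698 := rfl
theorem F485519 : act 2 n216698 = n185253 := d1_1 D216698 (iv4 D185253) D185252
theorem F485520 : act 3 n216698 = n215856 := d5_1 D216698 (iv4 D215856) D215855 (iv4 F484458) F484457
theorem F485521 : act 6 n216698 = n212713 := d10_2 F338051 D216698 (iv4 D212713)
theorem F485522 : act 7 n216698 = n213160 := d11_2 F484474 D216698 (iv4 F484472)
def n216699 : Q := act 3 n185259
theorem D216699 : act 3 n185259 = n216699 := rfl
def n216700 : Q := act 3 n185260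
theorem D216700 : act 3 n185260 = n216700 := rfl
theorem F485523 : act 4 n216700 = n192816 := d5_2 F469389 D216700 F387885 F302308 (iv3 F469388)
theorem F485524 : act 5 n216700 = n191457 := d6_2 F469386 D216700 (iv3 F462511)
theorem F485525 : act 7 n216700 = n192815 := d8_2 (iv7 F469385) D216700 (iv3 F469381)
theorem F485526 : act 2 n216700 = n215829 := d15_3 (iv0 D215829) (iv0 F392070) (iv7 F485525)
theorem F485527 : act 6 n209786 = n216700 := d3_0 F485526 F481720 F469034
theorem F485528 : act 0 n216700 = n215830 := d21_4 (iv5 F387618) (iv1 F469030) (iv5 F469032) F485527 F481726 (iv5 D191624) (iv1 F367784) (iv5 F392047) (iv6 F454951) (iv1 F454953)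
theorem F485529 : act 0 n185270 = n216700 := d21_4 (iv5 F384807) (iv1 F384809) F338087 F421383 (iv6 F485527) F469032 (iv1 F469031) F387334 (iv6 D175626) (iv1 F274904)
def n216701 : Q := act 6 n185260
theorem D216701 : act 6 n185260 = n216701 := rfl
theorem F485530 : act 3 n216701 = n209786 := d7_1 D216701 F485527 (iv3 D216700)
theorem F485531 : act 5 n216701 = n214224 := d12_1 D216701 (iv6 F474074) (iv5 F454268) F453604 F469386
theorem F485532 : act 0 n216701 = n192795 := d21_4 F484494 F454270 F469386 D216701 (iv6 F454020) (iv5 D209522) D209521 F454012 F433013 F484496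
def n216702 : Q := act 6 n185261
theorem D216702 : act 6 n185261 = n216702 := rfl
theorem F485533 : act 2 n216702 = n185263 := d3_1 D216702 (iv6 D185263) D185261
theorem F485534 : act 3 n216702 = n208483 := d7_1 D216702 (iv6 F484473) F484471
theorem F485535 : act 7 n216702 = n212741 := d14_2 F484460 D216702 (iv6 D212741) (iv7 F467204) (iv6 F484459)
theorem F485536 : act 5 n213149 = n216702 := d13_3 F485535 F467317 (iv7 F469211)
def n216703 : Q := act 0 n185263
theorem D216703 : act 0 n185263 = n216703 := rfl
theorem F485537 : act 5 n216703 = n209282 := d21_2 (iv5 F384042) D216703 (iv6 F467066) (iv1 F450903) (iv6 F363944) (iv5 D98586) (iv1 D46087) D46089 D98592 D191610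
theorem F485538 : act 0 n216703 = n212741 := d21_7 (iv5 D186689) (iv1 F233027) (iv5 F285124) (iv6 F363950) (iv1 F450902) F467066 (iv5 F485537) F467317 F456188 F431853
def n216704 : Q := act 1 n185263
theorem D216704 : act 1 n185263 = n216704 := rfl
theorem F485539 : act 1 n216704 = n212741 := d15_1 D216704 (iv7 F485535) F485533
theorem F485540 : act 3 n208448 = n216704 := d20_3 (iv4 F390297) F485461 (iv4 F485460) (iv1 D216704) F287548 (iv4 F283733) D216281 F483610 (iv3 F450617) (iv1 D193565)
theorem F485541 : act 5 n216704 = n208446 := d6_2 D208448 F485540 F449387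
theorem F485542 : act 6 n191610 = n210190 := d21_3 (iv5 F485541) (iv1 D216704) F384042 (iv1 D210190) (iv6 D137821) D137820 F347248 F162008 D136217 F449389
theorem F485543 : act 2 n210190 = n209698 := d3_1 F485542 (iv6 F469210) F469209
theorem F485544 : act 3 n210190 = n216265 := d7_1 F485542 F483548 (iv3 F384041)
theorem F485545 : act 5 n210190 = n216264 := d12_1 F485542 (iv6 D216264) F283696 D185263 F384042
theorem F485546 : act 4 n206865 = n210190 := d20_8 (iv4 F417474) (iv1 F442077) F442072 (iv3 F329397) F217084 (iv3 F217088) F217089 D206865 F485544 F483552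
def n216705 : Q := act 7 n185263
theorem D216705 : act 7 n185263 = n216705 := rfl
theorem F485547 : act 2 n216705 = n212741 := d4_1 D216705 (iv7 F485535) F485533
theorem F485548 : act 3 n216705 = n185267 := d8_1 D216705 (iv7 D185267) (iv3 F287548)
theorem F485549 : act 5 n216705 = n213514 := d13_1 D216705 (iv7 F470790) (iv5 F384042)
theorem F485550 : act 6 n216705 = n212738 := d14_1 D216705 F467303 F364036 F285708 D185263
def n216706 : Q := act 6 n185268
theorem D216706 : act 6 n185268 = n216706 := rfl
theorem F485551 : act 2 n216706 = n185286 := d3_1 D216706 (iv6 D185286) F287549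
theorem F485552 : act 7 n216706 = n211200 := d14_2 (iv7 F287550) D216706 F460582 F424452 F287390
theorem F485553 : act 5 n216706 = n211201 := d21_6 F392089 F386383 (iv5 F421390) (iv6 D185273) D185268 D216706 (iv1 F460585) (iv5 F471531) (iv6 D213666) (iv1 F392091)
def n216707 : Q := act 1 n185270
theorem D216707 : act 1 n185270 = n216707 := rfl
theorem F485554 : act 1 n216707 = n215830 := d15_1 D216707 (iv7 D215830) (iv2 F421384)
theorem F485555 : act 7 n216707 = n215829 := d15_2 (iv0 F485529) D216707 (iv2 F485526)
theorem F485556 : act 4 n216707 = n186762 := d17_9 F368372 (iv5 F388030) (iv1 F429487) F429485 (iv4 F390227) D194106 (iv0 F392067) (iv5 F421392) D216707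
theorem F485557 : act 5 n216707 = n191458 := d18_9 (iv1 D191458) (iv4 F368881) F483834 F483830 (iv5 F287519) (iv4 F387064) F421381 (iv4 F421382) D216707
theorem F485558 : act 6 n191987 = n216707 := d21_3 (iv5 D210551) F457875 F457874 (iv1 D216707) (iv6 F421383) (iv5 F338087) F274584 D100122 (iv6 F386590) (iv1 F458006)
theorem F485559 : act 2 n216707 = n192815 := d3_1 F485558 F387884 (iv2 F385103)
def n216708 : Q := act 0 n185271
theorem D216708 : act 0 n185271 = n216708 := rfl
theorem F485560 : act 5 n216708 = n202682 := d17_1 D216708 F425082 (iv5 F426832) F485231 F485232 F483189 F483186 (iv0 D185268) D185271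
theorem F485561 : act 4 n216708 = n216693 := d18_3 D88277 D185271 D216708 F485497 (iv4 D204110) F431094 (iv4 F431095) (iv0 D185282) (iv5 D88280)
theorem F485562 : act 1 n185276 = n216708 := d15_0 (iv0 D216708) (iv7 F426811) F426810
theorem F485563 : act 3 n204445 = n216708 := d20_9 (iv4 D185276) (iv1 D88278) (iv4 F74673) (iv3 D47497) D47495 D102357 D193807 F472184 F472183 (iv1 F485562)
theorem F485564 : act 2 n216708 = n211295 := d0_1 F485563 F461010 (iv2 F428910) (iv3 F470511) F470510
theorem F485565 : act 7 n216708 = n214585 := d8_2 F470522 F485563 F475912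
def n216709 : Q := act 1 n185271
theorem D216709 : act 1 n185271 = n216709 := rfl
theorem F485566 : act 1 n216709 = n185276 := d15_1 D216709 (iv7 F426825) F426823
theorem F485567 : act 7 n216709 = n211295 := d15_2 (iv0 D216708) D216709 (iv2 F485564)
theorem F485568 : act 5 n216709 = n203568 := d17_7 F336877 (iv5 F336879) (iv1 D122601) D122602 F426778 F426780 D216709 (iv0 F428926) F244527
theorem F485569 : act 3 n203569 = n216709 := d19_19 (iv1 D216709) (iv5 F426780) (iv4 F426778) F196372 (iv1 F299884) F299885 (iv4 D56383) F43876 (iv1 F28238) (iv5 F30398) (iv4 F30411) (iv3 F44910) D58439 F199918 D72075 (iv3 F366383) (iv1 F428847) (iv5 F428848) (iv4 F428928)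
theorem F485570 : act 2 n216709 = n214585 := d0_1 F485569 F475912 F470521 F432575 (iv2 F428927)
def n216710 : Q := act 6 n185274
theorem D216710 : act 6 n185274 = n216710 := rfl
theorem F485571 : act 2 n216710 = n185278 := d3_1 D216710 (iv6 D185278) (iv2 F287553)
theorem F485572 : act 3 n216710 = n216460 := d7_1 D216710 F484484 F471420
theorem F485573 : act 4 n216710 = n215962 := d10_1 D216710 F482303 (iv4 F426815)
theorem F485574 : act 5 n216710 = n201678 := d12_1 D216710 (iv6 F448194) (iv5 F468046) F468045 F431080
theorem F485575 : act 7 n216710 = n193577 := d14_2 D185274 D216710 (iv6 F418873) (iv7 F421391) (iv6 D185273)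
theorem F485576 : act 1 n193547 = n216710 := d15_1 (iv0 F431882) F485575 F418874
theorem F485577 : act 1 n216710 = n193578 := d15_1 F485576 (iv7 F450804) F450802
def n216711 : Q := act 4 n185275
theorem D216711 : act 4 n185275 = n216711 := rfl
theorem F485578 : act 2 n216711 = n215836 := d1_1 D216711 F481738 F421403
theorem F485579 : act 6 n216711 = n208499 := d10_2 (iv6 F421402) D216711 (iv4 D208499)
theorem F485580 : act 7 n216711 = n215771 := d11_2 F421404 D216711 F481505
theorem F485581 : act 1 n216711 = n215833 := d18_6 D204037 F431190 (iv1 D204145) (iv4 F430823) F430824 D216711 (iv4 F484454) (iv0 D185183) (iv5 F364078)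
theorem F485582 : act 1 n215834 = n216711 := d15_1 D215834 F485580 F481503
def n216712 : Q := act 3 n185276
theorem D216712 : act 3 n185276 = n216712 := rfl
theorem F485583 : act 2 n216712 = n192258 := d0_1 D216712 (iv3 F471164) F471252 (iv3 F471251) F426810
theorem F485584 : act 5 n216712 = n204329 := d6_2 (iv5 F426782) D216712 F432067
theorem F485585 : act 7 n216712 = n192257 := d8_2 F426825 D216712 (iv3 F426824)
theorem F485586 : act 0 n216712 = n192259 := d20_10 F465809 (iv1 D210756) D210757 F458700 D216281 (iv3 F483614) F390924 (iv1 F287551) D185276 D216712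
theorem F485587 : act 0 n192260 = n216712 := d20_4 F137261 (iv1 F137259) (iv4 F153870) (iv3 F386232) (iv3 D216712) (iv4 D185276) (iv1 D88278) (iv4 F74673) (iv3 D47497) D47495
def n216713 : Q := act 5 n185278
theorem D216713 : act 5 n185278 = n216713 := rfl
theorem F485588 : act 2 n216713 = n201678 := d2_1 D216713 (iv5 F485574) F485571
theorem F485589 : act 3 n216713 = n204290 := d6_1 D216713 F431893 F421401
theorem F485590 : act 4 n216713 = n195224 := d9_1 D216713 F396353 F183682 D117318 D202937 (iv5 F458958) F458959 (iv5 F418871) (iv4 F396427) (iv5 F396362) F229682 (iv5 F232267) (iv4 F434397) (iv5 F458964) F458965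
theorem F485591 : act 6 n216713 = n207295 := d12_2 D185278 D216713 F444197 F431088 F426781
theorem F485592 : act 7 n216713 = n204288 := d13_2 (iv7 F421400) D216713 F431880
theorem F485593 : act 0 n194044 = n216713 := d21_10 (iv5 D216713) (iv1 F450807) (iv5 D208773) (iv6 D135061) (iv1 F216885) (iv6 F332666) F136719 (iv1 F136689) (iv5 F157818) D194044
def n216714 : Q := act 6 n185284
theorem D216714 : act 6 n185284 = n216714 := rfl
theorem F485594 : act 4 n216714 = n185285 := d10_1 D216714 (iv6 D185285) D185284
theorem F485595 : act 5 n216714 = n211567 := d12_1 D216714 F462177 (iv5 D210868) F340975 F346093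
def n216715 : Q := act 0 n185286
theorem D216715 : act 0 n185286 = n216715 := rfl
theorem F485596 : act 5 n216715 = n192615 := d21_0 (iv1 D192615) D192616 F387254 (iv1 F290094) (iv6 F475923) (iv5 F483182) (iv1 D216147) F283278 D185286 D216715
theorem F485597 : act 1 n211200 = n216715 := d15_0 (iv0 D216715) F458407 (iv2 F460581)
theorem F485598 : act 3 n192735 = n216715 := d6_3 F485596 F439631 D192735
def n216716 : Q := act 1 n185286
theorem D216716 : act 1 n185286 = n216716 := rfl
theorem F485599 : act 1 n216716 = n211200 := d15_1 D216716 (iv7 F485552) F485551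
theorem F485600 : act 5 n192614 = n216716 := d21_0 (iv1 D216716) (iv5 F458409) (iv6 F460558) (iv1 F460559) (iv6 F458439) (iv5 D187153) (iv1 F283725) (iv5 D100450) D100451 D192614
theorem F485601 : act 3 n216716 = n211230 := d6_1 F485600 F460713 F413436
def n216717 : Q := act 3 n185291
theorem D216717 : act 3 n185291 = n216717 := rfl
theorem F485602 : act 5 n216717 = n192725 := d6_2 F393984 D216717 (iv3 F394229)
theorem F485603 : act 7 n216717 = n192795 := d8_2 F471225 D216717 (iv3 F471229)
def n216718 : Q := act 6 n185291
theorem D216718 : act 6 n185291 = n216718 := rfl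
theorem F485604 : act 4 n216718 = n213657 := d10_1 D216718 (iv6 D213657) F394230
theorem F485605 : act 5 n216718 = n216345 := d12_1 D216718 F483944 (iv5 F424117) F424118 F393984
theorem F485606 : act 7 n216718 = n213657 := d14_2 F471225 D216718 (iv6 D213657) F452582 F471230
def n216719 : Q := act 0 n185292
theorem D216719 : act 0 n185292 = n216719 := rfl
theorem F485607 : act 5 n216719 = n185386 := d17_3 (iv1 D185291) D185292 D216719 (iv4 F471277) F471278 (iv0 F424277) F381532 F359653 F394230
theorem F485608 : act 4 n216719 = n213428 := d18_1 D216719 (iv1 F470354) (iv4 F471466) (iv5 D213654) F242658 D154589 F384919 (iv0 D185290) D185292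
theorem F485609 : act 6 n216719 = n194710 := d21_5 F459916 (iv1 F351882) (iv5 F393981) (iv6 F393983) D216719 F394186 (iv1 F198599) F308576 D184055 F459920
theorem F485610 : act 2 n204934 = n216719 := d15_3 (iv0 D216719) (iv0 F372335) (iv7 F434245)
theorem F485611 : act 3 n216719 = n201803 := d0_2 (iv3 F434242) F485610 (iv2 F454385) F454386 F444357
theorem F485612 : act 7 n216719 = n216506 := d4_2 (iv7 F434245) F485610 F484716
def n216720 : Q := act 5 n185299
theorem D216720 : act 5 n185299 = n216720 := rfl
theorem F485613 : act 3 n216720 = n185301 := d6_1 D216720 (iv5 D185301) D185299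
theorem F485614 : act 4 n216720 = n209859 := d9_1 D216720 F455164 (iv4 D209851) (iv5 D137013) (iv4 F179650) D202109 (iv4 F469558) (iv5 F472535) F472534 (iv5 F433188) F433187 (iv5 F427901) F427900 D203585 (iv4 F428995)
theorem F485615 : act 0 n216720 = n214602 := d21_1 D216720 F476004 (iv6 D204459) (iv1 D123833) F90889 (iv5 D56891) D56889 D122562 D204054 (iv1 F469562)
theorem F485616 : act 0 n214450 = n216720 := d19_0 (iv5 D216720) F428995 F428993 (iv1 F188654) (iv5 F188665) F188666 F108447 F85193 F46269 F24526 F26689 (iv1 F21194) (iv5 F26520) D32876 D70981 D150589 F346535 D159434 D214450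
theorem F485617 : act 6 n215862 = n216720 := d10_0 F485614 (iv6 F455174) D215862
def n216721 : Q := act 6 n185299
theorem D216721 : act 6 n185299 = n216721 := rfl
theorem F485618 : act 3 n216721 = n185302 := d7_1 D216721 (iv6 D185302) D185299
theorem F485619 : act 5 n216721 = n203763 := d12_1 D216721 (iv6 F450681) (iv5 F481843) F485617 (iv5 D216720)
theorem F485620 : act 0 n216721 = n197696 := d21_4 (iv5 F485309) F485616 (iv5 D216720) D216721 F405401 (iv5 D134983) (iv1 F102149) D134459 D208511 F485310
theorem F485621 : act 0 n204452 = n216721 := d21_4 (iv5 D57710) D57708 D123825 D204452 (iv6 D216721) D216720 F485615 F476004 (iv6 D204459) (iv1 D123833)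
def n216722 : Q := act 4 n185306
theorem D216722 : act 4 n185306 = n216722 := rfl
theorem F485622 : act 2 n216722 = n210551 := d1_1 D216722 F458005 F378206
theorem F485623 : act 5 n216722 = n210513 := d17_5 (iv1 D185311) (iv5 D88291) D88288 D185306 D216722 (iv0 D210513) F386222 F387908 F387901
theorem F485624 : act 0 n216722 = n194129 := d17_0 F392132 (iv1 F386593) (iv5 F369081) F369080 (iv5 F378214) F483591 F483587 (iv0 F392082) D216722
theorem F485625 : act 3 n210673 = n216722 := d20_5 (iv4 D33697) D33695 D73183 D154499 (iv1 F458410) (iv4 D216722) F392082 F392079 (iv3 D154521) (iv1 D73192)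
theorem F485626 : act 6 n193861 = n216722 := d21_9 F392132 (iv1 F386593) (iv5 F369081) (iv6 D187099) (iv1 F137259) D99943 F153873 D102408 D193861 F485624
def n216723 : Q := act 6 n185306
theorem D216723 : act 6 n185306 = n216723 := rfl
theorem F485627 : act 3 n216723 = n203363 := d7_1 D216723 F428051 (iv3 F287571)
theorem F485628 : act 4 n216723 = n193861 := d10_1 D216723 F485626 (iv4 D216722)
theorem F485629 : act 5 n216723 = n192000 := d12_1 D216723 (iv6 F385150) F286016 (iv6 F286015) D185306
theorem F485630 : act 0 n185511 = n216723 := d19_0 F485629 (iv4 D192000) (iv3 F365230) (iv1 F392547) (iv5 D194260) F158367 (iv3 F75437) (iv1 F177357) D90725 D188013 F386917 (iv1 D192514) (iv5 F375047) (iv4 F468995) F468994 (iv1 F471313) F471311 F353752 D185511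
def n216724 : Q := act 4 n185307
theorem D216724 : act 4 n185307 = n216724 := rfl
theorem F485631 : act 3 n216724 = n198058 := d5_1 D216724 (iv4 F472812) F472809 (iv4 F386151) F386149
theorem F485632 : act 6 n216724 = n194095 := d10_2 F483440 D216724 (iv4 F483439)
theorem F485633 : act 7 n216724 = n210551 := d11_2 F378208 D216724 F458005
theorem F485634 : act 5 n216724 = n198057 := d16_1 D216724 F406608 (iv5 F407659) F407658 (iv5 D192811) F289700 D185306 (iv7 F378203) F378202
theorem F485635 : act 1 n216724 = n194129 := d18_6 (iv1 F292384) (iv4 F74192) D100723 F289691 D185307 D216724 F392130 (iv0 D188232) (iv5 D91105)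
def n216725 : Q := act 6 n185309
theorem D216725 : act 6 n185309 = n216725 := rfl
theorem F485636 : act 2 n216725 = n185313 := d3_1 D216725 (iv6 D185313) (iv2 F287574)
theorem F485637 : act 3 n216725 = n216577 := d7_1 D216725 F485028 F382963
theorem F485638 : act 4 n216725 = n193799 := d10_1 D216725 (iv6 D193799) (iv4 F368568)
theorem F485639 : act 5 n216725 = n203409 := d12_1 D216725 F428175 (iv5 F331217) F153674 D185309
theorem F485640 : act 7 n216725 = n213640 := d14_2 F378191 D216725 (iv6 D213640) (iv7 F387065) F387061
theorem F485641 : act 1 n213648 = n216725 := d15_1 D213648 F485640 F471411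
theorem F485642 : act 1 n216725 = n203415 := d15_1 F485641 F428194 F471441
def n216726 : Q := act 6 n185312
theorem D216726 : act 6 n185312 = n216726 := rfl
theorem F485643 : act 2 n216726 = n193799 := d3_1 D216726 (iv6 D193799) F368566
theorem F485644 : act 3 n216726 = n216522 := d7_1 D216726 F484800 F471456
theorem F485645 : act 4 n216726 = n185313 := d10_1 D216726 (iv6 D185313) D185312
theorem F485646 : act 5 n216726 = n216521 := d12_1 D216726 F484794 (iv5 D192950) D192951 F388315
theorem F485647 : act 7 n216726 = n213647 := d14_2 (iv7 F361677) D216726 (iv6 D213647) (iv7 F390312) F390315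
theorem F485648 : act 0 n193750 = n216726 := d21_4 (iv5 D193633) F352862 F352863 D193750 (iv6 D216726) (iv5 F388315) F455555 F471328 (iv6 F471329) F390516
def n216727 : Q := act 1 n185313
theorem D216727 : act 1 n185313 = n216727 := rfl
theorem F485649 : act 1 n216727 = n213640 := d15_1 D216727 (iv7 F485640) F485636
theorem F485650 : act 7 n216727 = n213648 := d15_2 (iv0 F391169) D216727 (iv2 F471441)
theorem F485651 : act 5 n216727 = n206373 := d17_7 (iv1 F353022) (iv5 F347871) (iv1 D174563) D174564 (iv4 F394250) F394251 D216727 F440481 (iv4 F353002)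
theorem F485652 : act 2 n203415 = n216727 := d2_3 F485651 F440478 (iv5 F428193)
theorem F485653 : act 6 n193753 = n216727 := d21_5 (iv5 D90149) D90147 F290881 (iv6 F157103) D193753 F485651 F440480 D214442 F475199 F369526
def n216728 : Q := act 0 n185314
theorem D216728 : act 0 n185314 = n216728 := rfl
theorem F485654 : act 4 n216728 = n210628 := d18_3 (iv1 F484341) F471457 D216728 (iv5 F458261) F457402 F484889 (iv4 F391802) (iv0 F482301) (iv5 F484337)
theorem F485655 : act 3 n216728 = n193819 := d20_5 (iv4 F133563) F133561 D88292 D185314 D216728 (iv4 D193819) (iv1 D102364) F74673 (iv3 D41196) D41194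
theorem F485656 : act 2 n216436 = n216728 := d15_3 (iv0 D216728) (iv0 F480533) (iv7 F484360)
theorem F485657 : act 1 n216680 = n216728 := d15_0 (iv0 D216728) F287577 D216680
theorem F485658 : act 7 n216728 = n215569 := d15_2 F485456 F485657 F480551
theorem F485659 : act 6 n191284 = n216728 := d14_5 F485658 (iv6 D215569) F382952 (iv6 F444987) F428215
def n216729 : Q := act 6 n185317
theorem D216729 : act 6 n185317 = n216729 := rfl
theorem F485660 : act 2 n216729 = n213657 := d3_1 D216729 (iv6 D213657) F452584
theorem F485661 : act 3 n216729 = n209853 := d7_1 D216729 (iv6 D209853) F452585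
theorem F485662 : act 5 n216729 = n216346 := d12_1 D216729 (iv6 F483949) F453953 (iv6 F452598) F452597
def n216730 : Q := act 4 n185341
theorem D216730 : act 4 n185341 = n216730 := rfl
theorem F485663 : act 2 n216730 = n185370 := d1_1 D216730 (iv4 D185370) (iv2 F287596)
theorem F485664 : act 3 n216730 = n213299 := d5_1 D216730 (iv4 F470183) F470182 (iv4 D191436) (iv3 F287597)
theorem F485665 : act 5 n216730 = n212681 := d9_2 D185341 D216730 F467033 F432475 F337277 F136266 F135191 D88339 D185441 (iv5 F365327) F230275 F227827 (iv4 F329754) F153556 F153555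
theorem F485666 : act 7 n216730 = n212680 := d11_2 F289854 D216730 F467028
theorem F485667 : act 0 n216730 = n186793 := d17_0 (iv5 F426234) (iv1 F426953) F426954 (iv4 D182240) (iv5 D87010) F335690 D150134 F289960 D216730
def n216731 : Q := act 3 n185343
theorem D216731 : act 3 n185343 = n216731 := rfl
theorem F485668 : act 2 n216731 = n193879 := d0_1 D216731 (iv3 F469214) F469213 F423458 (iv2 F357608)
theorem F485669 : act 4 n216731 = n216653 := d5_2 D185343 D216731 (iv3 D216653) F287492 (iv3 F287493)
theorem F485670 : act 5 n216731 = n192199 := d6_2 F357607 D216731 F385964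
theorem F485671 : act 6 n216731 = n193879 := d7_2 F469219 D216731 (iv3 F469214)
theorem F485672 : act 7 n216731 = n193873 := d8_2 (iv7 F357609) D216731 F391273
theorem F485673 : act 0 n216731 = n193281 := d19_4 (iv1 F346020) F295459 D185343 D216731 (iv5 D193281) (iv4 D101432) (iv3 D47204) (iv1 D22708) (iv5 D10745) F7341 F3356 D2057 (iv5 F291410) F6100 (iv3 F13924) (iv1 F30590) (iv5 F31488) (iv4 F64634) (iv3 F137675)
def n216732 : Q := act 4 n185347
theorem D216732 : act 4 n185347 = n216732 := rfl
theorem F485674 : act 2 n216732 = n210240 := d1_1 D216732 F456703 F392012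
theorem F485675 : act 3 n216732 = n209284 := d5_1 D216732 (iv4 F453041) F225255 F329586 D185347
theorem F485676 : act 7 n216732 = n210241 := d11_2 F390538 D216732 F456706
theorem F485677 : act 0 n216732 = n191273 := d17_0 F382865 (iv1 F406330) D208621 F450198 (iv5 D193864) (iv0 F157379) D183756 (iv0 F386188) D216732
theorem F485678 : act 1 n216732 = n191276 := d18_8 F448718 F448715 (iv1 D137998) (iv4 F221264) D210238 F456696 (iv0 F386188) D216732 (iv5 F382861)
def n216733 : Q := act 5 n185347
theorem D216733 : act 5 n185347 = n216733 := rfl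
theorem F485679 : act 2 n216733 = n187071 := d2_1 D216733 (iv5 F392013) F392012
theorem F485680 : act 3 n216733 = n185349 := d6_1 D216733 (iv5 D185349) D185347
theorem F485681 : act 7 n216733 = n191486 := d13_2 F390538 D216733 (iv5 F390537)
theorem F485682 : act 0 n216733 = n191406 := d17_2 (iv1 F386189) D216733 (iv5 F428207) F428208 (iv5 F484263) F484262 F484259 F428158 F428156
theorem F485683 : act 4 n216733 = n187071 := d17_4 F157376 D183767 (iv1 F386189) D216733 (iv5 F392013) F392016 (iv5 D191275) (iv0 F157026) (iv4 F157374)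
theorem F485684 : act 1 n216733 = n191489 := d17_8 (iv1 F289369) F283700 (iv1 F157645) (iv5 D87675) D87674 D183756 (iv0 F386188) D216733 F383557
def n216734 : Q := act 6 n185347
theorem D216734 : act 6 n185347 = n216734 := rfl
theorem F485685 : act 2 n216734 = n215823 := d3_1 D216734 F481697 F392012
theorem F485686 : act 3 n216734 = n185350 := d7_1 D216734 (iv6 D185350) D185347
theorem F485687 : act 0 n216734 = n215760 := d21_4 (iv5 F428218) (iv1 F485684) (iv5 D216733) D216734 (iv6 D215760) (iv5 D177731) (iv1 D84629) D84630 (iv6 F277175) (iv1 F428216)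
theorem F485688 : act 0 n194124 = n216734 := d21_4 (iv5 F419475) F419473 F348244 D194124 (iv6 D216734) D216733 F485682 (iv5 F428207) (iv6 F480540) F480542
theorem F485689 : act 5 n192045 = n216734 := d21_8 (iv5 D183756) F157379 D193864 F391240 F186774 D159428 (iv5 F359929) D192045 (iv6 D216734) F386188
def n216735 : Q := act 1 n185350
theorem D216735 : act 1 n185350 = n216735 := rfl
theorem F485690 : act 1 n216735 = n209543 := d15_1 D216735 F454089 F390534
theorem F485691 : act 7 n216735 = n212710 := d15_2 (iv0 F346052) D216735 F467191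
theorem F485692 : act 5 n216735 = n201805 := d18_9 F454286 F454285 F453392 (iv4 F467413) (iv5 D212764) (iv4 F455095) F455102 (iv4 F365378) D216735
theorem F485693 : act 6 n203509 = n216735 := d21_3 F426931 (iv1 F355072) D203509 (iv1 D216735) (iv6 D185350) D185349 (iv1 F346049) F335595 (iv6 F345999) (iv1 F426930)
theorem F485694 : act 2 n216735 = n203580 := d3_1 F485693 (iv6 D203580) (iv2 F428625)
def n216736 : Q := act 7 n185350
theorem D216736 : act 7 n185350 = n216736 := rfl
theorem F485695 : act 2 n216736 = n209543 := d4_1 D216736 F454089 F390534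
theorem F485696 : act 4 n216736 = n209833 := d11_1 D216736 F467219 (iv4 F365378)
theorem F485697 : act 5 n216736 = n207897 := d13_1 D216736 F446922 F365612
theorem F485698 : act 6 n216736 = n209284 := d14_1 D216736 F453040 (iv6 F362120) F290013 D185350
theorem F485699 : act 1 n203580 = n216736 := d15_1 (iv0 F428978) (iv7 D216736) (iv2 F390534)
theorem F485700 : act 1 n216736 = n212710 := d15_1 F485699 (iv7 F485691) F485694
def n216737 : Q := act 5 n185356
theorem D216737 : act 5 n185356 = n216737 := rfl
theorem F485701 : act 2 n216737 = n216277 := d2_1 D216737 (iv5 F484530) (iv2 F484528)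
theorem F485702 : act 3 n216737 = n204013 := d6_1 D216737 (iv5 F430821) (iv3 F482594)
theorem F485703 : act 7 n216737 = n210590 := d13_2 (iv7 F484525) D216737 (iv5 F484520)
theorem F485704 : act 4 n216737 = n210591 := d16_4 F473256 (iv5 F473255) F473257 D216737 F458144 (iv4 F458052) (iv5 F473157) (iv7 F473159) F473160
theorem F485705 : act 0 n216737 = n203191 := d21_1 D216737 F427373 (iv6 F338051) (iv1 D149052) (iv6 F134722) (iv5 D87755) (iv1 F289749) D41215 D88308 D185356
theorem F485706 : act 1 n216737 = n216149 := d15_1 (iv0 F485705) F483192 (iv2 F427372)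
def n216738 : Q := act 6 n185356
theorem D216738 : act 6 n185356 = n216738 := rfl
theorem F485707 : act 2 n216738 = n203086 := d3_1 D216738 F484529 (iv2 F484528)
theorem F485708 : act 3 n216738 = n204121 := d7_1 D216738 F431116 (iv3 F482594)
theorem F485709 : act 4 n216738 = n202319 := d10_1 D216738 (iv6 F473254) F473257
theorem F485710 : act 7 n216738 = n203015 := d14_2 (iv7 F484525) D216738 F426643 (iv7 F422934) F484523
theorem F485711 : act 5 n216738 = n203008 := d21_6 (iv5 D87755) (iv1 F289749) D41215 D88308 D185356 D216738 (iv1 F426616) (iv5 F423427) F423426 F346034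
theorem F485712 : act 0 n216738 = n203509 := d21_10 (iv5 D203509) (iv1 F426500) (iv5 F426927) (iv6 F449461) (iv1 F451062) F451065 (iv5 F483190) (iv1 F485706) (iv5 D216737) D216738
theorem F485713 : act 0 n203507 = n216738 := d21_4 (iv5 D69909) (iv1 F304446) D123385 (iv6 F428618) (iv6 D216738) D216737 F485705 F427373 (iv6 F338051) (iv1 D149052)
def n216739 : Q := act 5 n185357
theorem D216739 : act 5 n185357 = n216739 := rfl
theorem F485714 : act 2 n216739 = n210590 := d2_1 D216739 (iv5 F484520) F484524
theorem F485715 : act 4 n216739 = n210577 := d9_1 D216739 (iv5 D210577) (iv4 F458028) (iv5 F473161) F473256 (iv5 F473255) F473257 D216737 F485704 F458144 (iv4 F458052) (iv5 F473157) (iv4 F473163) F473261 F473263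
theorem F485716 : act 6 n216739 = n209495 := d12_2 F365613 D216739 (iv5 D209495) (iv6 D136539) D136538
theorem F485717 : act 7 n216739 = n216277 := d13_2 F484527 D216739 (iv5 F484530)
theorem F485718 : act 0 n216739 = n216149 := d17_2 (iv1 F484536) D216739 F483190 (iv4 F422316) (iv5 D201907) (iv0 F391293) F455279 F456306 (iv4 F484533)
theorem F485719 : act 0 n203191 = n216739 := d21_10 (iv5 D216739) (iv1 D185357) (iv5 F329856) F329857 (iv1 F289845) F134112 (iv5 D54448) D54446 D118194 D203191
def n216740 : Q := act 4 n185369
theorem D216740 : act 4 n185369 = n216740 := rfl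
theorem F485720 : act 2 n216740 = n202920 := d1_1 D216740 F426192 F335705
theorem F485721 : act 3 n216740 = n191447 := d5_1 D216740 (iv4 D191447) F366798 D213378 F470147
theorem F485722 : act 5 n216740 = n211644 := d9_2 F335583 D216740 F462498 (iv5 D206131) F337244 (iv5 D87361) F61723 D87356 D182981 (iv5 F427066) (iv4 F439386) (iv5 D206132) F356977 F321337 F335591
theorem F485723 : act 7 n216740 = n202921 := d11_2 (iv7 F290069) D216740 F426197
theorem F485724 : act 0 n216740 = n202922 := d17_0 F426203 (iv1 F356481) (iv5 F432500) F432499 F362133 (iv0 D88309) D88311 D185369 D216740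
theorem F485725 : act 1 n216740 = n188271 := d18_6 (iv1 F337269) F135750 F335592 F335591 F335583 D216740 (iv4 D188271) F344210 (iv5 D89154)
def n216741 : Q := act 6 n185369
theorem D216741 : act 6 n185369 = n216741 := rfl
theorem F485726 : act 2 n216741 = n216249 := d3_1 D216741 (iv6 D216249) F335705
theorem F485727 : act 3 n216741 = n212904 := d7_1 D216741 F470148 F470147
theorem F485728 : act 5 n216741 = n212245 := d12_1 D216741 (iv6 D212245) F319321 (iv6 F335584) F335583
theorem F485729 : act 7 n216741 = n212898 := d14_2 (iv7 F290069) D216741 F468022 (iv7 D203177) (iv6 F236304)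
theorem F485730 : act 0 n216741 = n203101 := d21_4 (iv5 D182236) (iv1 F137085) F335583 D216741 (iv6 F443336) (iv5 D207103) F337778 (iv5 F431034) F431033 (iv1 F335588)
theorem F485731 : act 1 n216741 = n203098 := d15_1 (iv0 F485730) (iv7 F449481) F449478
def n216742 : Q := act 3 n185370
theorem D216742 : act 3 n185370 = n216742 := rfl
theorem F485732 : act 2 n216742 = n213383 := d0_1 D216742 F470165 (iv2 F469793) (iv3 F485664) F485663
theorem F485733 : act 4 n216742 = n185414 := d5_2 D185370 D216742 (iv3 D185414) (iv4 D88327) (iv3 F135218)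
theorem F485734 : act 5 n216742 = n203715 := d6_2 (iv5 F426208) D216742 (iv3 F429521)
theorem F485735 : act 6 n216742 = n185524 := d7_2 F483426 D216742 (iv3 F483425)
theorem F485736 : act 7 n216742 = n216226 := d8_2 F287708 D216742 F483412
theorem F485737 : act 0 n216742 = n203013 := d21_4 (iv5 D139474) D139472 F349147 (iv6 F485735) F426637 (iv5 D137473) D137471 (iv5 F399183) (iv6 F451210) F383474
def n216743 : Q := act 3 n185377
theorem D216743 : act 3 n185377 = n216743 := rfl
theorem F485738 : act 2 n216743 = n209283 := d0_1 D216743 F453037 F219243 (iv3 F221308) F365544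
theorem F485739 : act 5 n216743 = n209281 := d6_2 (iv5 F365543) D216743 F453034
theorem F485740 : act 0 n185482 = n216743 := d20_4 F390246 F383983 (iv4 D191630) (iv3 F287749) (iv3 D216743) (iv4 F485218) (iv1 F485222) F469792 (iv3 F380151) (iv1 F390252)
def n216744 : Q := act 0 n185383
theorem D216744 : act 0 n185383 = n216744 := rfl
theorem F485741 : act 3 n216744 = n215356 := d20_5 F391171 (iv1 F389485) F337980 (iv3 F287624) D216744 F479538 (iv1 F475193) F475192 F388663 (iv1 F391158)
theorem F485742 : act 6 n216744 = n213489 := d21_5 (iv5 F375487) F375489 (iv5 D185382) D185383 D216744 (iv5 D213489) (iv1 F241796) (iv5 F349320) F349321 (iv1 F367337)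
theorem F485743 : act 5 n216744 = n211199 := d21_8 F384390 (iv1 D100393) D100394 F154417 D100398 D192569 F387109 D216744 (iv6 F460574) (iv1 F384392)
theorem F485744 : act 2 n213666 = n216744 := d2_3 F485743 F460575 (iv5 F471531)
def n216745 : Q := act 1 n185383
theorem D216745 : act 1 n185383 = n216745 := rfl
theorem F485745 : act 7 n216745 = n213666 := d15_2 (iv0 D216744) D216745 F485744
theorem F485746 : act 5 n211198 = n216745 := d21_0 (iv1 D216745) (iv5 F387109) (iv6 D192569) (iv1 F154438) (iv6 F329671) (iv5 D65468) (iv1 F84359) (iv5 F181556) D141201 D211198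
theorem F485747 : act 6 n214584 = n216745 := d21_3 (iv5 F346092) F346109 (iv5 F475910) (iv1 D216745) (iv6 D185383) D185382 F287621 D186587 (iv6 F390921) (iv1 D193758)
theorem F485748 : act 3 n216745 = n211229 := d7_1 F485747 F460709 (iv3 F475909)
def n216746 : Q := act 7 n185383
theorem D216746 : act 7 n185383 = n216746 := rfl
theorem F485749 : act 3 n216746 = n185388 := d8_1 D216746 (iv7 D185388) (iv3 F287624)
theorem F485750 : act 4 n216746 = n194118 := d11_1 D216746 (iv7 F481662) F481658
theorem F485751 : act 0 n213666 = n216746 := d20_4 D215875 F481886 F481489 (iv3 F471530) F485749 (iv4 F470607) F471207 F471203 (iv3 F432713) F432716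
def n216747 : Q := act 0 n185414
theorem D216747 : act 0 n185414 = n216747 := rfl
theorem F485752 : act 5 n216747 = n214164 := d17_1 D216747 F473804 (iv5 F483545) F483544 (iv5 F470196) (iv0 F426409) D203013 (iv0 F485737) F485733
theorem F485753 : act 1 n216225 = n216747 := d15_0 (iv0 D216747) F287643 D216225
theorem F485754 : act 2 n203082 = n216747 := d2_3 F485752 F473802 (iv5 F469386)
theorem F485755 : act 7 n216224 = n216747 := d13_0 F485752 F473803 F484495
theorem F485756 : act 4 n202962 = n216747 := d16_0 F485752 (iv4 D214164) (iv5 D156963) F112063 (iv5 F318292) (iv4 F184238) D203074 F426886 (iv2 F426400)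
def n216748 : Q := act 1 n185414
theorem D216748 : act 1 n185414 = n216748 := rfl
theorem F485757 : act 1 n216748 = n216225 := d15_1 D216748 F483411 F383487
theorem F485758 : act 7 n216748 = n203082 := d15_2 (iv0 D216747) D216748 F485754
theorem F485759 : act 4 n203074 = n216748 := d20_6 F466848 (iv1 F372873) F372870 F366452 (iv1 F366601) (iv3 F426885) (iv1 D216748) (iv4 F485733) (iv3 D216742) (iv1 F466849)
theorem F485760 : act 5 n213191 = n216748 := d21_0 (iv1 D216748) F329966 (iv6 D183895) D183893 D216464 F484501 (iv1 F470791) F485536 (iv6 D216702) (iv1 F469384)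
theorem F485761 : act 2 n216748 = n216224 := d2_1 F485760 (iv5 F484495) (iv2 F469380)
theorem F485762 : act 3 n216748 = n194109 := d6_1 F485760 (iv5 F392069) (iv3 F469381)
def n216749 : Q := act 6 n185417
theorem D216749 : act 6 n185417 = n216749 := rfl
theorem F485763 : act 3 n216749 = n185418 := d7_1 D216749 (iv6 D185418) (iv3 F287646)
theorem F485764 : act 4 n216749 = n213773 := d10_1 D216749 F472032 F469946
theorem F485765 : act 5 n216749 = n190712 := d12_1 D216749 (iv6 D190712) (iv5 D96444) (iv6 F294372) D185417
theorem F485766 : act 0 n216749 = n216714 := d21_4 F288503 (iv1 D185416) D185417 D216749 (iv6 D216714) (iv5 F346093) (iv1 D100894) D100895 F155040 D185986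
theorem F485767 : act 0 n210691 = n216749 := d17_0 F485765 (iv1 F456794) (iv5 F472021) (iv4 D213770) (iv5 D155683) D155682 (iv5 F430835) (iv0 F430836) D210691
theorem F485768 : act 5 n211568 = n210691 := d17_1 (iv1 F462180) F485767 F485765 F380747 (iv5 F385170) F459077 F459076 F389550 D204363
def n216750 : Q := act 4 n185419
theorem D216750 : act 4 n185419 = n216750 := rfl
theorem F485769 : act 2 n216750 = n192810 := d1_1 D216750 F387867 F372521
theorem F485770 : act 3 n216750 = n190999 := d5_1 D216750 (iv4 F382841) F382840 (iv4 F382847) F382846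
theorem F485771 : act 6 n216750 = n189909 := d10_2 (iv6 F372524) D216750 (iv4 D189909)
theorem F485772 : act 7 n216750 = n192870 := d11_2 F372523 D216750 F388064
theorem F485773 : act 0 n216750 = n192835 := d17_0 (iv5 F390743) (iv1 F476574) F476571 (iv4 D182927) D182928 F390694 F390693 F287651 D216750
theorem F485774 : act 1 n216750 = n192872 := d18_8 (iv1 D214697) (iv4 F257579) (iv1 F390666) F385769 F381414 (iv4 F286255) F287651 D216750 (iv5 F476434)
theorem F485775 : act 5 n190997 = n216750 := d17_7 F357142 D102306 F289696 (iv5 D89088) (iv4 F136800) D186746 (iv0 F480210) F485774 F388074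
def n216751 : Q := act 5 n185427
theorem D216751 : act 5 n185427 = n216751 := rfl
theorem F485776 : act 2 n216751 = n185428 := d2_1 D216751 (iv5 D185428) D185427
theorem F485777 : act 3 n216751 = n193687 := d6_1 D216751 F390693 (iv3 F287674)
theorem F485778 : act 6 n216751 = n212917 := d12_2 F292314 D216751 (iv5 D212917) (iv6 D151374) (iv5 F328509)
theorem F485779 : act 7 n216751 = n187150 := d13_2 F290947 D216751 F369246
theorem F485780 : act 0 n216751 = n186670 := d17_2 F290611 D216751 (iv5 D186670) (iv4 F142399) D188582 F374079 F371141 (iv0 D187664) (iv4 F290614)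
theorem F485781 : act 1 n216751 = n186007 := d17_6 D43865 D93841 D189282 F376319 (iv4 F287675) D216751 (iv5 D186007) (iv0 F135773) F64177
theorem F485782 : act 4 n216751 = n209417 := d18_5 F372525 (iv4 D159740) (iv1 F251653) (iv4 F287675) D216751 F483529 F470288 F483304 F483302
def n216752 : Q := act 1 n185429
theorem D216752 : act 1 n185429 = n216752 := rfl
theorem F485783 : act 1 n216752 = n216257 := d15_1 D216752 (iv7 D216257) (iv2 F287691)
theorem F485784 : act 7 n216752 = n213386 := d15_2 (iv0 F470184) D216752 (iv2 F470181)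
theorem F485785 : act 5 n216752 = n215409 := d17_7 F428833 (iv5 F440120) F440121 (iv5 D155708) (iv4 F329674) (iv5 F287692) D216752 F479849 F466356
theorem F485786 : act 4 n216752 = n213301 := d17_9 (iv1 F469805) (iv5 F470767) (iv1 D213510) F242011 (iv4 F432313) (iv5 F432314) (iv0 F358471) (iv5 F287692) D216752
theorem F485787 : act 6 n195840 = n216752 := d21_3 (iv5 F398402) (iv1 D195838) D195840 (iv1 D216752) (iv6 D185429) (iv5 D88335) (iv1 D41230) D41232 D88341 D185445
theorem F485788 : act 2 n216752 = n213388 := d3_1 F485787 (iv6 F470188) F439777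
def n216753 : Q := act 6 n185435
theorem D216753 : act 6 n185435 = n216753 := rfl
theorem F485789 : act 2 n216753 = n214116 := d3_1 D216753 F473552 F362132
theorem F485790 : act 5 n216753 = n192978 := d12_1 D216753 (iv6 D192978) (iv5 D101055) F289863 D185435
theorem F485791 : act 0 n216753 = n191436 := d21_4 (iv5 D185341) (iv1 F135280) D185435 D216753 (iv6 F470166) (iv5 D213383) F426464 (iv5 F483480) (iv6 D216249) F335703
theorem F485792 : act 1 n216753 = n191434 := d15_1 (iv0 F485791) F383483 (iv2 F383486)
def n216754 : Q := act 0 n185441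
theorem D216754 : act 0 n185441 = n216754 := rfl
theorem F485793 : act 5 n216754 = n202977 := d17_1 D216754 F470761 F470760 F470203 (iv5 D186936) F137081 D182229 F335704 D185441
theorem F485794 : act 4 n216754 = n188270 := d18_1 D216754 (iv1 F372914) (iv4 F426202) F426203 F183495 F183460 (iv4 F387983) (iv0 F387985) F365327
theorem F485795 : act 2 n212326 = n216754 := d15_3 (iv0 D216754) (iv0 F368032) (iv7 F465329)
theorem F485796 : act 1 n216730 = n216754 := d15_0 (iv0 D216754) F287708 (iv2 F485663)
theorem F485797 : act 7 n216754 = n212642 := d15_2 (iv0 F485667) F485796 F466847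
def n216755 : Q := act 6 n185441
theorem D216755 : act 6 n185441 = n216755 := rfl
theorem F485798 : act 3 n216755 = n216001 := d7_1 D216755 F483414 F483412
theorem F485799 : act 4 n216755 = n185442 := d10_1 D216755 (iv6 D185442) D185441
theorem F485800 : act 5 n216755 = n212345 := d12_1 D216755 (iv6 D212345) F230146 D146894 F365327
def n216756 : Q := act 0 n185442
theorem D216756 : act 0 n185442 = n216756 := rfl
theorem F485801 : act 5 n216756 = n209685 := d21_2 F290038 D216756 (iv6 D209685) (iv1 F220026) (iv6 F452560) (iv5 D209170) D209169 F452554 F449907 F371866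
theorem F485802 : act 6 n216756 = n209019 := d21_5 (iv5 D185435) (iv1 D88337) D88339 D185442 D216756 F451873 (iv1 F218037) D136839 (iv6 F335589) F335587
theorem F485803 : act 2 n209420 = n216756 := d3_3 F485802 F451871 D209420
theorem F485804 : act 3 n216022 = n216756 := d6_3 F485801 F454624 (iv5 F482585)
theorem F485805 : act 1 n216000 = n216756 := d17_6 F394084 F394082 (iv1 F387667) (iv5 D192752) F371868 D216000 F485801 (iv0 F454627) F420054
def n216757 : Q := act 1 n185442
theorem D216757 : act 1 n185442 = n216757 := rfl
theorem F485806 : act 1 n216757 = n216000 := d15_1 D216757 F483854 F483851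
theorem F485807 : act 7 n216757 = n209420 := d15_2 (iv0 D216756) D216757 F485803
theorem F485808 : act 6 n208468 = n216757 := d21_3 (iv5 D210163) (iv1 F220958) (iv5 F449486) (iv1 D216757) (iv6 D185442) (iv5 D88339) D88336 D185431 (iv6 F431033) (iv1 F456416)
theorem F485809 : act 5 n187864 = n216757 := d21_6 (iv5 D87373) (iv1 F134135) (iv5 F284617) (iv6 F337820) (iv1 F444160) (iv6 F444162) (iv1 D216757) (iv5 F290038) (iv6 F362815) (iv1 D183017)
theorem F485810 : act 3 n216757 = n187865 := d6_1 F485809 (iv5 D187865) D187864
def n216758 : Q := act 7 n185442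
theorem D216758 : act 7 n185442 = n216758 := rfl
theorem F485811 : act 2 n216758 = n216000 := d4_1 D216758 F483854 F483851
theorem F485812 : act 3 n216758 = n185447 := d8_1 D216758 (iv7 D185447) (iv3 F287709)
theorem F485813 : act 5 n216758 = n201353 := d13_1 D216758 F420109 F290038
theorem F485814 : act 6 n216758 = n216145 := d14_1 D216758 F483170 F329857 (iv7 F135283) D185442
theorem F485815 : act 0 n209420 = n216758 := d21_4 (iv5 D205086) (iv1 F201757) D136448 D209420 F485814 F483169 D216468 F484520 F483504 (iv1 F483502)
def n216759 : Q := act 3 n185445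
theorem D216759 : act 3 n185445 = n216759 := rfl
theorem F485816 : act 7 n216759 = n187023 := d8_2 F483845 D216759 F483848
theorem F485817 : act 0 n216759 = n216237 := d20_10 (iv4 F483436) (iv1 D187706) (iv4 F368878) (iv3 F450706) F450708 F391188 (iv4 F391193) (iv1 F391197) (iv4 F391198) D216759
theorem F485818 : act 4 n187026 = n216759 := d19_2 (iv1 F370977) F370974 (iv3 D216759) (iv1 F356713) (iv5 F356701) (iv4 D159846) F114676 F55319 (iv5 D25759) (iv4 D12226) F18281 (iv1 D11241) F7698 (iv4 F18277) (iv3 F37459) (iv1 F77581) (iv5 F163376) F356687 F367122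
def n216760 : Q := act 6 n185445
theorem D216760 : act 6 n185445 = n216760 := rfl
theorem F485819 : act 2 n216760 = n213408 := d3_1 D216760 (iv6 F483841) (iv2 F483842)
theorem F485820 : act 4 n216760 = n208374 := d10_1 D216760 (iv6 F449121) (iv4 F391198)
theorem F485821 : act 7 n216760 = n213407 := d14_2 F483845 D216760 F470270 (iv7 F374945) F483849
theorem F485822 : act 0 n216760 = n213310 := d21_4 (iv5 D201334) (iv1 F398400) F398402 D216760 (iv6 D213310) F306627 F330092 (iv5 F308823) D213397 F470218
theorem F485823 : act 5 n216760 = n209700 := d21_6 (iv5 D88335) (iv1 D41230) D41232 D88341 D185445 D216760 (iv1 F454669) F377077 (iv6 D181974) (iv1 F135276)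
theorem F485824 : act 0 n209708 = n216760 := d21_4 F287692 F358471 F432314 (iv6 F454696) (iv6 D216760) (iv5 F398402) (iv1 D195838) D195840 F485787 (iv1 D216752)
def n216761 : Q := act 3 n185446
theorem D216761 : act 3 n185446 = n216761 := rfl
theorem F485825 : act 5 n216761 = n192601 := d6_2 F398395 D216761 F398398
theorem F485826 : act 0 n216761 = n188194 := d20_4 F283644 D182198 F377045 D216761 F372643 D188203 F372653 F372928 (iv3 F439753) (iv1 F391199)
theorem F485827 : act 1 n216761 = n216021 := d15_1 (iv0 F485826) F482581 F384294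
def n216762 : Q := act 6 n185446
theorem D216762 : act 6 n185446 = n216762 := rfl
theorem F485828 : act 2 n216762 = n187022 := d3_1 D216762 F483849 (iv2 F483850)
theorem F485829 : act 4 n216762 = n193295 := d10_1 D216762 (iv6 F389414) F377045
theorem F485830 : act 0 n216762 = n210295 := d21_10 (iv5 D210295) (iv1 F380796) (iv5 F470239) (iv6 F483521) (iv1 F485783) (iv6 F485787) (iv5 D195840) D195837 F398395 D216762
theorem F485831 : act 0 n213393 = n216762 := d21_4 (iv5 F470767) (iv1 D213510) F242011 D213393 (iv6 D216762) (iv5 F398395) (iv1 F398397) D201334 (iv6 F469803) (iv1 F469805)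
theorem F485832 : act 3 n208433 = n216762 := d19_19 F485830 (iv5 D210295) (iv4 F395399) (iv3 F395404) (iv1 F354303) (iv5 D124602) (iv4 D58179) F325169 F38607 (iv5 F324117) (iv4 F59247) (iv3 F128418) (iv1 F303172) (iv5 F309748) F205819 (iv3 F238388) F348666 (iv5 F462503) (iv4 F468033)
theorem F485833 : act 6 n216761 = n208433 := d7_0 F485832 (iv6 D216762) D216761
def n216763 : Q := act 3 n185466
theorem D216763 : act 3 n185466 = n216763 := rfl
theorem F485834 : act 4 n216763 = n199438 := d5_2 (iv4 F363515) D216763 F412197 F395083 (iv3 D194935)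
theorem F485835 : act 5 n216763 = n189693 := d6_2 (iv5 F363521) D216763 (iv3 F377416)
theorem F485836 : act 6 n216763 = n198606 := d7_2 (iv6 F363523) D216763 (iv3 D198606)
theorem F485837 : act 7 n216763 = n194987 := d8_2 F363527 D216763 (iv3 D194987)
theorem F485838 : act 0 n189873 = n216763 := d20_4 F173483 D147176 (iv4 F348707) (iv3 F378055) (iv3 D216763) F363515 (iv1 D104782) F340341 (iv3 F160635) F361257
theorem F485839 : act 2 n199695 = n216763 := d15_3 (iv0 F485838) (iv0 F407216) (iv7 F413152)
def n216764 : Q := act 3 n185467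
theorem D216764 : act 3 n185467 = n216764 := rfl
theorem F485840 : act 2 n216764 = n206596 := d0_1 D216764 (iv3 F441491) F407213 (iv3 D194987) (iv2 F363526)
theorem F485841 : act 4 n216764 = n206517 := d5_2 F363525 D216764 F441165 F395063 (iv3 D194932)
theorem F485842 : act 5 n216764 = n207388 := d6_2 F399687 D216764 F444642
theorem F485843 : act 6 n216764 = n198694 := d7_2 F378723 D216764 (iv3 D198694)
theorem F485844 : act 7 n216764 = n194992 := d8_2 (iv7 F363524) D216764 (iv3 D194992)
theorem F485845 : act 0 n216764 = n194794 := d19_4 (iv1 F395071) (iv5 D194933) F363525 D216764 F394500 F377582 F145563 D94416 D189748 (iv4 F479081) F479080 F415665 F375324 (iv4 F404366) (iv3 D197447) (iv1 D108167) D108169 (iv4 F399692) (iv3 D196171)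
theorem F485846 : act 0 n206587 = n216764 := d20_4 F395053 (iv1 F243900) D178833 (iv3 F441445) (iv3 D216764) (iv4 F363525) (iv1 F160523) (iv4 F340341) (iv3 F160514) D194930
def n216765 : Q := act 0 n185475
theorem D216765 : act 0 n185475 = n216765 := rfl
def n216766 : Q := act 1 n185475
theorem D216766 : act 1 n185475 = n216766 := rfl
theorem F485847 : act 1 n216766 = n185491 := d15_1 D216766 (iv7 D185491) (iv2 F287735)
theorem F485848 : act 6 n212727 = n216766 := d21_3 (iv5 F467306) F468565 F468563 (iv1 D216766) (iv6 D185475) (iv5 D88355) (iv1 F134635) D99284 (iv6 F367500) (iv1 F467304)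
theorem F485849 : act 2 n185489 = n216766 := d15_3 F485847 (iv0 F392128) F392119
theorem F485850 : act 7 n216766 = n185488 := d4_2 F392119 F485849 (iv2 F392120)
theorem E104031 : n216765 = n194127 := ((c15_4 (iv0 D216765) D216766 F485850 (iv2 F392120))).symm
theorem F485851 : act 1 n194127 = n185475 := (sb E104031 (iv0 D216765))
def n216767 : Q := act 7 n185475
theorem D216767 : act 7 n185475 = n216767 := rfl
theorem F485852 : act 2 n216767 = n185491 := d4_1 D216767 (iv7 D185491) (iv2 F287735)
theorem F485853 : act 6 n216767 = n185499 := d14_1 D216767 F484497 (iv6 D216463) F285720 D185475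
theorem F485854 : act 1 n185489 = n216767 := d15_1 D185489 (iv7 D216767) F287735
theorem F485855 : act 1 n216767 = n185488 := d15_1 F485854 (iv7 F485850) (iv2 F485849)
def n216768 : Q := act 4 n185476
theorem D216768 : act 4 n185476 = n216768 := rfl
theorem F485856 : act 2 n216768 = n185495 := d1_1 D216768 (iv4 D185495) (iv2 F287736)
theorem F485857 : act 6 n216768 = n207898 := d10_2 F465769 D216768 F472908
theorem F485858 : act 7 n216768 = n191835 := d11_2 F287738 D216768 (iv4 D191835)
def n216769 : Q := act 3 n185478
theorem D216769 : act 3 n185478 = n216769 := rfl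
theorem F485859 : act 4 n216769 = n213216 := d5_2 D185478 D216769 F469460 F361011 (iv3 D185477)
theorem F485860 : act 5 n216769 = n201992 := d6_2 F359521 D216769 (iv3 D201992)
theorem F485861 : act 7 n216769 = n210774 := d8_2 (iv7 F359520) D216769 F458743
theorem F485862 : act 6 n213215 = n216769 := d12_0 F485860 F422645 (iv5 F404265) (iv6 F393248) (iv5 F469456)
theorem F485863 : act 0 n213973 = n216769 := d21_1 D213973 F485860 F422645 F404264 F336196 F111084 (iv1 F53478) D34081 D74281 D156150
theorem F485864 : act 1 n213975 = n216769 := d15_0 (iv0 F485863) F472937 (iv2 F472946)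
def n216770 : Q := act 6 n185478
theorem D216770 : act 6 n185478 = n216770 := rfl
theorem F485865 : act 2 n216770 = n210777 := d3_1 D216770 (iv6 D210777) F359515
theorem F485866 : act 3 n216770 = n213215 := d7_1 D216770 F485862 (iv3 D216769)
theorem F485867 : act 4 n216770 = n185480 := d10_1 D216770 (iv6 D185480) D185478
theorem F485868 : act 0 n216770 = n203606 := d19_4 F366191 D152829 D213215 (iv3 F485866) (iv5 D203606) (iv4 F349185) (iv3 F349183) F166784 D146361 (iv4 F375151) F375152 (iv1 D187956) (iv5 D90696) D90695 (iv3 F351191) F351192 F351133 (iv4 F393257) (iv3 D194449)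
def n216771 : Q := act 0 n185480
theorem D216771 : act 0 n185480 = n216771 := rfl
theorem F485869 : act 5 n216771 = n207326 := d17_3 F361014 F361006 D216771 F444358 (iv5 D187561) F138962 D90489 F351317 D100705
theorem F485870 : act 6 n216771 = n207327 := d21_5 F378218 F287743 (iv5 D185479) D185480 D216771 (iv5 D207327) F348273 D186630 F367500 F378223
theorem F485871 : act 2 n213637 = n216771 := d15_3 (iv0 D216771) (iv0 F372345) F471404
theorem F485872 : act 3 n216771 = n212710 := d0_2 (iv3 F471401) F485871 F467191 F366811 (iv2 F366810)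
def n216772 : Q := act 7 n185480
theorem D216772 : act 7 n185480 = n216772 := rfl
theorem F485873 : act 3 n216772 = n213042 := d8_1 D216772 F468743 (iv3 F361007)
theorem F485874 : act 5 n216772 = n209530 := d13_1 D216772 F454053 F361006
theorem F485875 : act 0 n213637 = n216772 := d17_2 (iv1 D214224) (iv5 F471402) F485874 F454054 (iv5 D192390) (iv0 F154062) D188617 (iv0 F374202) (iv4 F474073)
def n216773 : Q := act 6 n185481
theorem D216773 : act 6 n185481 = n216773 := rfl
theorem F485876 : act 2 n216773 = n210776 := d3_1 D216773 (iv6 D210776) (iv2 F359519)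
theorem F485877 : act 4 n216773 = n185482 := d10_1 D216773 (iv6 D185482) D185481
def n216774 : Q := act 1 n185482
theorem D216774 : act 1 n185482 = n216774 := rfl
theorem F485878 : act 7 n216774 = n209283 := d15_2 (iv0 F485740) D216774 (iv2 F485738)
theorem F485879 : act 5 n208481 = n216774 := d21_0 (iv1 D216774) F287750 (iv6 D98592) F295067 D96482 (iv5 F347316) (iv1 F230307) (iv5 F250302) D214371 (iv1 F474832)
theorem F485880 : act 3 n216774 = n208482 := d6_1 F485879 (iv5 D208482) D208481
def n216775 : Q := act 7 n185482
theorem D216775 : act 7 n185482 = n216775 := rfl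
theorem F485881 : act 3 n216775 = n191631 := d8_1 D216775 (iv7 D191631) (iv3 F287749)
theorem F485882 : act 5 n216775 = n191612 := d13_1 D216775 (iv7 D191612) (iv5 F287750)
theorem F485883 : act 0 n209283 = n216775 := d20_4 D209800 F454998 (iv4 D209285) (iv3 F453037) F485881 F485295 F485298 F390897 (iv3 F449833) F449836
def n216776 : Q := act 3 n185483
theorem D216776 : act 3 n185483 = n216776 := rfl
theorem F485884 : act 2 n216776 = n204621 := d0_1 D216776 F457391 F422512 (iv3 F365194) F359525
theorem F485885 : act 5 n216776 = n201988 := d6_2 (iv5 F359526) D216776 (iv3 D201988)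
theorem F485886 : act 7 n216776 = n204620 := d8_2 (iv7 F359527) D216776 F469519
theorem F485887 : act 0 n204591 = n216776 := d20_4 (iv4 F302309) (iv1 F196272) D124025 D204591 (iv3 D216776) F390931 F392568 F392566 F360096 D177924
theorem F485888 : act 6 n201923 = n213996 := d21_5 (iv5 D115582) (iv1 D53315) D53318 D115594 (iv1 F422385) F473030 F485887 F485885 F422629 (iv1 F422495)
theorem F485889 : act 1 n204622 = n216776 := d15_0 (iv0 F485887) F432968 D204622
theorem F485890 : act 2 n214001 = n201923 := d3_3 F485888 F473033 D214001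
theorem F485891 : act 7 n201922 = n214001 := d15_2 F422385 F422393 F485890
def n216777 : Q := act 6 n185483
theorem D216777 : act 6 n185483 = n216777 := rfl
theorem F485892 : act 2 n216777 = n210765 := d3_1 D216777 (iv6 D210765) F359525
theorem F485893 : act 5 n216777 = n189175 := d12_1 D216777 F375955 (iv5 F330583) F330584 (iv5 F359526)
theorem F485894 : act 7 n193128 = n216777 := d13_0 F485893 F375956 D193128
def n216778 : Q := act 6 n185484
theorem D216778 : act 6 n185484 = n216778 := rfl
theorem F485895 : act 2 n216778 = n210764 := d3_1 D216778 (iv6 D210764) F359523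
theorem F485896 : act 5 n216778 = n202415 := d12_1 D216778 (iv6 D202415) (iv5 F422624) (iv6 D201987) (iv5 F359522)
def n216779 : Q := act 1 n185485
theorem D216779 : act 1 n185485 = n216779 := rfl
theorem F485897 : act 7 n216779 = n210748 := d15_2 (iv0 F469496) D216779 (iv2 F469492)
theorem F485898 : act 5 n216779 = n210738 := d17_7 D139681 F349390 (iv1 D159012) F318400 (iv4 F221880) (iv5 F363546) D216779 (iv0 D210738) F222806
theorem F485899 : act 4 n216635 = n216779 := d20_6 (iv4 D88210) (iv1 D41166) D41167 D88214 D185072 D216635 (iv1 D216779) F287751 (iv3 D88364) (iv1 F135150)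
theorem F485900 : act 6 n216779 = n210754 := d10_2 (iv6 F485285) F485899 (iv4 F458695)
theorem F485901 : act 2 n210746 = n216779 := d3_3 F485900 (iv2 F485143) F485141
def n216780 : Q := act 6 n185485
theorem D216780 : act 6 n185485 = n216780 := rfl
theorem F485902 : act 3 n216780 = n185487 := d7_1 D216780 (iv6 D185487) D185485
theorem F485903 : act 4 n216780 = n185491 := d10_1 D216780 F329981 (iv4 F287751)
theorem F485904 : act 5 n216780 = n209833 := d12_1 D216780 F467218 (iv5 D142325) (iv6 F221881) (iv5 F363546)
theorem F485905 : act 7 n216780 = n185487 := d14_2 F467989 D216780 (iv6 D185487) (iv7 F340575) (iv6 F467993)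
def n216781 : Q := act 0 n185487
theorem D216781 : act 0 n185487 = n216781 := rfl
def n216782 : Q := act 1 n185487
theorem D216782 : act 1 n185487 = n216782 := rfl
theorem F485906 : act 3 n196534 = n216782 := d19_19 (iv1 D216782) F363547 (iv4 F365378) (iv3 F485686) F485687 F481452 (iv4 D192762) F366025 F237953 (iv5 F372423) F372418 (iv3 F158920) (iv1 F365048) (iv5 D144290) (iv4 F226968) (iv3 D144282) F111355 D107054 D196534
theorem F485907 : act 5 n209488 = n216782 := d21_6 F225256 (iv1 F167013) (iv5 F179934) (iv6 F362128) F220149 (iv6 F453901) (iv1 D216782) F363547 (iv6 D142329) D142326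
def n216783 : Q := act 3 n185488
theorem D216783 : act 3 n185488 = n216783 := rfl
theorem F485908 : act 4 n216783 = n205850 := d20_6 (iv4 F242551) F353748 F135327 (iv3 F135322) D185488 D216783 F438141 F429259 F287501 (iv1 F337971)
def n216784 : Q := act 4 n185488
theorem D216784 : act 4 n185488 = n216784 := rfl
theorem F485909 : act 3 n216784 = n205851 := d5_1 D216784 (iv4 D205851) (iv3 F438139) (iv4 F485908) (iv3 D216783)
def n216785 : Q := act 6 n185488
theorem D216785 : act 6 n185488 = n216785 := rfl
def n216786 : Q := act 4 n185489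
theorem D216786 : act 4 n185489 = n216786 := rfl
theorem F485910 : act 3 n216786 = n215873 := d5_1 D216786 (iv4 D215873) (iv3 F432719) F391007 (iv3 F384548)
theorem F485911 : act 5 n216786 = n209546 := d16_1 D216786 (iv4 D209546) (iv5 D136593) (iv4 F219403) (iv5 F421852) D214419 (iv5 F475098) (iv7 F485850) (iv2 F485849)
def n216787 : Q := act 6 n185489
theorem D216787 : act 6 n185489 = n216787 := rfl
theorem F485912 : act 2 n216787 = n212727 := d3_1 D216787 F485848 (iv2 F485849)
theorem F485913 : act 3 n216787 = n192372 := d7_1 D216787 (iv6 F386603) (iv3 F384548)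
theorem F485914 : act 5 n216787 = n192360 := d12_1 D216787 F386561 (iv5 D191822) D191823 F384547
theorem F485915 : act 7 n192359 = n216787 := d13_0 F485914 (iv7 D192360) D192359
theorem F485916 : act 0 n207327 = n216787 := d17_2 (iv1 F348275) D207327 F485914 (iv4 F459010) F459011 (iv0 D206345) (iv5 F215322) D208217 (iv4 F448418)
theorem F485917 : act 1 n204907 = n216787 := d17_6 F428405 F381141 (iv1 F312469) F312471 (iv4 F307980) D204907 F485914 (iv0 F467315) F467312
def n216788 : Q := act 4 n185490
theorem D216788 : act 4 n185490 = n216788 := rfl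
theorem F485918 : act 2 n216788 = n207898 := d1_1 D216788 F472908 (iv2 F465770)
theorem F485919 : act 3 n216788 = n201746 := d5_1 D216788 F421656 F356697 (iv4 D185516) (iv3 F287753)
theorem F485920 : act 6 n216788 = n185495 := d10_2 (iv6 F287754) D216788 (iv4 D185495)
theorem F485921 : act 7 n216788 = n207896 := d11_2 F465774 D216788 (iv4 F465777)
theorem F485922 : act 5 n216788 = n207864 := d16_5 F365378 (iv5 F363547) F287752 D185490 D216788 (iv4 F446789) D209543 F454089 F390534
theorem F485923 : act 1 n216788 = n212388 := d18_8 F460694 F460692 F421846 (iv4 D201805) D201806 (iv4 F465780) (iv0 F465781) D216788 F465627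
theorem F485924 : act 0 n216788 = n192971 := d20_1 D216788 (iv4 F466737) F466736 F385107 F372752 F140153 (iv1 F144535) F351148 D187482 F370531
def n216789 : Q := act 4 n185494
theorem D216789 : act 4 n185494 = n216789 := rfl
theorem F485925 : act 2 n216789 = n186640 := d1_1 D216789 (iv4 D186640) F287765
theorem F485926 : act 7 n216789 = n191832 := d11_2 (iv7 F287768) D216789 (iv4 D191832)
theorem F485927 : act 0 n216789 = n191838 := d18_2 D185494 D216789 (iv4 F384567) F375815 (iv4 D185631) F138333 (iv4 F292624) (iv0 D88361) D88362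
theorem F485928 : act 1 n216789 = n191837 := d15_0 (iv0 D191837) (iv7 F367525) (iv2 F485925)
def n216790 : Q := act 0 n185495
theorem D216790 : act 0 n185495 = n216790 := rfl
theorem F485929 : act 4 n216790 = n186772 := d18_3 F135324 D185495 D216790 (iv5 D186772) (iv4 F147664) (iv0 D96051) F70407 (iv0 F69180) D46308
theorem F485930 : act 1 n191835 = n216790 := d15_0 (iv0 D216790) (iv7 F373609) (iv2 F384564)
theorem F485931 : act 3 n208539 = n216790 := d5_5 F485929 F367959 D186773 (iv3 F367961) D208539
def n216791 : Q := act 1 n185495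
theorem D216791 : act 1 n185495 = n216791 := rfl
theorem F485932 : act 1 n216791 = n191835 := d15_1 D216791 (iv7 F485858) F485856
theorem F485933 : act 4 n191330 = n216791 := d20_6 D87415 (iv1 F295281) (iv4 D91168) (iv3 F140219) F295079 (iv3 F383073) (iv1 D216791) (iv4 D185495) F135323 (iv1 F70440)
theorem F485934 : act 6 n207769 = n216791 := d21_3 (iv5 D132394) F212084 D207769 (iv1 D216791) (iv6 F485920) F485922 (iv1 D207864) (iv5 F442595) F442596 F212722
def n216792 : Q := act 3 n185495
theorem D216792 : act 3 n185495 = n216792 := rfl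
theorem F485935 : act 4 n216792 = n185518 := d5_2 D185495 D216792 (iv3 D185518) (iv4 D88371) (iv3 F135323)
theorem F485936 : act 6 n216792 = n201746 := d7_2 F485920 D216792 (iv3 F485919)
theorem F485937 : act 7 n216792 = n201745 := d8_2 F373609 D216792 F421651
theorem F485938 : act 0 n201724 = n216792 := d21_4 (iv5 F398201) F417404 F417405 D201724 F485936 (iv5 F474952) (iv1 D214394) (iv5 F250877) (iv6 F360962) (iv1 F251158)
def n216793 : Q := act 5 n185495
theorem D216793 : act 5 n185495 = n216793 := rfl
def n216794 : Q := act 3 n185497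
theorem D216794 : act 3 n185497 = n216794 := rfl
theorem F485939 : act 4 n216794 = n216607 := d5_2 (iv4 F433012) D216794 F485153 (iv4 D202082) (iv3 F422814)
def n216795 : Q := act 5 n185497
theorem D216795 : act 5 n185497 = n216795 := rfl
theorem F485940 : act 2 n216795 = n216262 := d2_1 D216795 F483540 F392066
theorem F485941 : act 0 n216795 = n216263 := d17_2 D185497 D216795 F483545 F458665 (iv5 D210740) D210739 (iv5 F469494) (iv0 F469496) F287751
theorem F485942 : act 1 n216795 = n213404 := d17_6 D213189 F469376 (iv1 D202055) D202056 (iv4 F433012) D216795 F470256 (iv0 F469383) (iv4 D213191)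
def n216796 : Q := act 5 n185498
theorem D216796 : act 5 n185498 = n216796 := rfl
theorem F485943 : act 7 n216796 = n216262 := d13_2 F392064 D216796 F483540
theorem F485944 : act 1 n216796 = n216263 := d17_6 (iv1 F469378) F469379 F458763 F481676 F481674 D216796 F483545 (iv0 F473804) (iv4 D214164)
theorem F485945 : act 0 n216796 = n213404 := d21_1 D216796 F470256 (iv6 F364036) F366779 F285108 (iv5 D87876) (iv1 F134638) D183892 D216463 (iv1 F484498)
theorem F485946 : act 6 n216754 = n216796 := d21_3 (iv5 F426954) F426952 (iv5 F485793) F485945 (iv6 D213404) (iv5 D153665) (iv1 F310594) D213288 F469739 F426957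
theorem F485947 : act 2 n216796 = n216261 := d15_3 (iv0 D216261) D216262 (iv7 F485943)
theorem F485948 : act 5 n216261 = n216465 := d2_2 D216796 F485947 (iv2 F484504)
theorem F485949 : act 6 n216261 = n212326 := d3_2 F485946 F485947 F485795
theorem F485950 : act 7 n216261 = n216795 := d4_2 (iv7 F485943) F485947 F485940
def n216797 : Q := act 6 n185498
theorem D216797 : act 6 n185498 = n216797 := rfl
theorem F485951 : act 3 n216797 = n187089 := d7_1 D216797 (iv6 F382985) F390255
theorem F485952 : act 5 n216797 = n187087 := d12_1 D216797 (iv6 F426473) (iv5 F485793) F485946 (iv5 D216796)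
theorem F485953 : act 0 n203573 = n216797 := d21_4 (iv5 D183393) F317270 D149115 (iv6 F428950) (iv6 D216797) D216796 F485945 F470256 (iv6 F364036) F366779
def n216798 : Q := act 4 n185506
theorem D216798 : act 4 n185506 = n216798 := rfl
theorem F485954 : act 2 n216798 = n216746 := d1_1 D216798 F485750 (iv2 F392109)
theorem F485955 : act 7 n216798 = n192616 := d11_2 (iv7 F392107) D216798 (iv4 F392106)
theorem F485956 : act 5 n216798 = n188606 := d16_1 D216798 F374179 (iv5 F367244) (iv4 F392103) (iv5 F469312) F469311 (iv5 F481659) F481662 (iv2 F392109)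
theorem F485957 : act 0 n216798 = n216745 := d17_0 (iv5 F485746) (iv1 F460580) F458409 (iv4 F390908) (iv5 F460970) F460973 (iv5 F392111) (iv0 F460974) D216798
theorem F485958 : act 0 n216744 = n216798 := d21_7 (iv5 F448705) (iv1 F448707) (iv5 D191740) (iv6 F277353) F384343 F460574 (iv5 F485743) F485956 (iv6 D188606) D188603
def n216799 : Q := act 5 n185506
theorem D216799 : act 5 n185506 = n216799 := rfl
theorem F485959 : act 3 n216799 = n185508 := d6_1 D216799 (iv5 D185508) D185506
theorem F485960 : act 6 n216799 = n212843 := d12_2 (iv6 F457380) D216799 F467742 F360544 D210394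
theorem F485961 : act 7 n216799 = n215787 := d13_2 (iv7 F392107) D216799 F481581
theorem F485962 : act 4 n213169 = n216799 := d16_0 (iv5 D216799) D216798 F485956 F374179 (iv5 F367244) (iv4 F392103) (iv5 F469312) F469307 (iv2 F469305)
theorem F485963 : act 0 n210669 = n216799 := d20_1 (iv4 F458401) (iv4 F485962) F469301 F375349 (iv3 F406686) F406687 (iv1 F412538) F412540 D210634 F458281
def n216800 : Q := act 1 n185511
theorem D216800 : act 1 n185511 = n216800 := rfl
def n216801 : Q := act 2 n185511
theorem D216801 : act 2 n185511 = n216801 := rfl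
theorem F485964 : act 3 n216801 = n215810 := d0_2 D185511 D216801 F481657 F392105 F338016
theorem F485965 : act 4 n193745 = n216801 := d5_0 F485964 F481658 F287624 (iv4 F337980) F390887
theorem F485966 : act 6 n193775 = n216801 := d7_0 F485964 (iv6 D215810) (iv3 F390974)
def n216802 : Q := act 4 n185511
theorem D216802 : act 4 n185511 = n216802 := rfl
theorem F485967 : act 2 n216802 = n193745 := d1_1 D216802 F485965 (iv2 D216801)
theorem F485968 : act 3 n216802 = n203397 := d5_1 D216802 (iv4 F471288) F471287 F353752 D185511
theorem F485969 : act 7 n216802 = n193744 := d11_2 (iv7 F471302) D216802 (iv4 F471301)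
theorem F485970 : act 5 n216802 = n209479 := d16_3 (iv4 F483937) (iv5 F483938) D216802 F453859 F427587 (iv4 F381816) (iv5 F381818) (iv7 F387199) (iv2 F387200)
theorem F485971 : act 4 n193863 = n216800 := d18_1 F452670 (iv1 D216800) D216802 F485970 F453859 (iv0 F427589) F393220 (iv0 D193968) D193970
theorem F485972 : act 1 n216802 = n192165 := d18_8 (iv1 D99814) (iv4 F137116) D186985 (iv4 F368768) D193861 (iv4 F485628) (iv0 F485630) D216802 (iv5 D192165)
theorem F485973 : act 1 n192164 = n216802 := d15_0 F485972 F385825 (iv2 F385820)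
theorem F485974 : act 5 n216800 = n191998 := d16_5 (iv4 F378374) F378375 (iv4 F372065) D193863 F485971 (iv4 D191998) (iv5 F380100) F380104 (iv2 F375721)
theorem F485975 : act 6 n216802 = n191294 := d21_3 (iv5 F352863) D209479 (iv5 F485970) (iv1 D191294) (iv6 D97975) (iv5 D45729) (iv1 F34320) D22800 (iv6 F74647) D102288
def n216803 : Q := act 6 n185511
theorem D216803 : act 6 n185511 = n216803 := rfl
theorem F485976 : act 2 n216803 = n193775 := d3_1 D216803 F485966 (iv2 D216801)
theorem F485977 : act 3 n216803 = n185513 := d7_1 D216803 (iv6 D185513) D185511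
theorem F485978 : act 4 n216803 = n191294 := d10_1 D216803 (iv6 F485975) (iv4 D216802)
theorem F485979 : act 5 n216803 = n203789 := d12_1 D216803 (iv6 D203789) F366768 D216343 (iv5 F483938)
theorem F485980 : act 7 n216803 = n193773 := d14_2 (iv7 F471302) D216803 (iv6 F470633) F470634 D213615
theorem F485981 : act 1 n187449 = n216803 := d15_1 F485266 F485980 (iv2 F485260)
theorem F485982 : act 1 n216803 = n194101 := d15_1 F485981 (iv7 D194101) (iv2 F370376)
def n216804 : Q := act 3 n185515
theorem D216804 : act 3 n185515 = n216804 := rfl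
theorem F485983 : act 2 n216804 = n193756 := d0_1 D216804 (iv3 F460969) F460968 (iv3 F374181) (iv2 F373588)
theorem F485984 : act 4 n216804 = n192593 := d5_2 F356716 D216804 F387189 (iv4 F370630) (iv3 D187509)
theorem F485985 : act 6 n216804 = n194139 := d7_2 (iv6 F470749) D216804 F470746
theorem F485986 : act 7 n216804 = n216471 := d8_2 (iv7 F373583) D216804 F484537
theorem F485987 : act 0 n216804 = n192000 := d20_4 (iv4 D90292) D90290 F356716 D216804 F385149 F250988 (iv1 D159395) D159396 F370639 (iv1 D187514)
theorem F485988 : act 0 n191998 = n216804 := d20_4 (iv4 D154774) D154772 D213732 F471830 (iv3 D216804) (iv4 F356716) (iv1 F142621) F362828 (iv3 F372953) F374335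
theorem F485989 : act 5 n216804 = n191303 := d19_1 F485988 F382957 (iv3 F352731) F251015 (iv5 D118863) (iv4 D54708) (iv3 F51830) D70589 F107052 (iv4 F95989) F95988 F54103 (iv5 F54096) (iv4 F94708) D128030 (iv1 F357017) F362386 D213732 F471830
def n216805 : Q := act 5 n185515
theorem D216805 : act 5 n185515 = n216805 := rfl
theorem F485990 : act 3 n216805 = n191303 := d6_1 D216805 (iv5 F485989) (iv3 D216804)
theorem F485991 : act 6 n216805 = n191302 := d12_2 (iv6 F470749) D216805 F382950 D194136 (iv5 F470745)
theorem F485992 : act 4 n216805 = n216696 := d16_2 F356716 D216805 F485512 (iv4 F467756) F467757 F376142 F144566 (iv7 F344309) F344311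
theorem F485993 : act 0 n216805 = n213657 := d21_4 (iv5 D153371) (iv1 F342781) (iv5 F382950) (iv6 F485991) (iv6 D213657) D213656 F471480 (iv5 F471383) F471381 (iv1 D213298)
def n216806 : Q := act 5 n185520
theorem D216806 : act 5 n185520 = n216806 := rfl
theorem F485994 : act 2 n216806 = n187138 := d2_1 D216806 F369215 (iv2 F287787)
theorem F485995 : act 3 n216806 = n185522 := d6_1 D216806 (iv5 D185522) D185520
theorem F485996 : act 7 n216806 = n216273 := d13_2 F371241 D216806 F483593
theorem F485997 : act 0 n216806 = n186610 := d17_2 F288154 D216806 (iv5 D186610) (iv4 F251975) (iv5 F420676) (iv0 F429189) F429188 F386177 F386173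
theorem F485998 : act 1 n216806 = n186608 := d17_6 D43273 D92489 (iv1 F239679) F239680 (iv4 F287789) D216806 (iv5 D186608) (iv0 D88914) F64050
def n216807 : Q := act 4 n185522
theorem D216807 : act 4 n185522 = n216807 := rfl
theorem F485999 : act 2 n216807 = n192433 := d1_1 D216807 (iv4 D192433) (iv2 F287793)
theorem F486000 : act 7 n216807 = n216274 := d11_2 F287802 D216807 (iv4 D216274)
theorem F486001 : act 0 n213337 = n216807 := d20_7 (iv4 F458862) F483306 (iv4 D216183) D216182 (iv1 F483304) (iv3 F381801) (iv4 F469987) (iv4 D216807) (iv3 F485995) F485997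
def n216808 : Q := act 6 n185522
theorem D216808 : act 6 n185522 = n216808 := rfl
theorem F486002 : act 2 n216808 = n192431 := d3_1 D216808 F386712 (iv2 F287793)
theorem F486003 : act 5 n216808 = n192416 := d12_1 D216808 (iv6 D192416) (iv5 D100167) (iv6 F135340) D185522
theorem F486004 : act 0 n216808 = n216231 := d21_4 (iv5 D88376) D88373 D185522 D216808 F483426 F426208 (iv1 F426206) (iv5 F383491) (iv6 D191443) (iv1 F151783)
def n216809 : Q := act 4 n185523
theorem D216809 : act 4 n185523 = n216809 := rfl
theorem F486005 : act 2 n216809 = n216274 := d1_1 D216809 (iv4 D216274) (iv2 F287800)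
theorem F486006 : act 7 n216809 = n192433 := d11_2 (iv7 F287797) D216809 (iv4 D192433)
theorem F486007 : act 0 n216809 = n213337 := d18_2 F287798 D216809 F469987 (iv5 D190984) (iv4 D97115) (iv0 D45393) (iv4 F34493) D46013 D98347
theorem F486008 : act 3 n216809 = n202571 := d19_3 (iv1 F285754) D185523 D216809 (iv1 F472035) (iv5 D213773) (iv4 D155692) (iv3 F342556) (iv1 D151184) F107751 (iv4 F307998) (iv3 D33784) (iv1 D16326) D16327 D33790 F314945 D146686 (iv5 F337255) F287566 (iv3 F285750)
theorem F486009 : act 5 n202568 = n216809 := d6_0 F486008 (iv5 D202571) (iv3 F424546)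
theorem F486010 : act 1 n209762 = n192433 := d15_1 F483596 (iv7 F486006) F486005
def n216810 : Q := act 6 n185523
theorem D216810 : act 6 n185523 = n216810 := rfl
theorem F486011 : act 2 n216810 = n216275 := d3_1 D216810 (iv6 D216275) (iv2 F287800)
theorem F486012 : act 3 n216810 = n186727 := d7_1 D216810 F367801 (iv3 F287796)
theorem F486013 : act 5 n216810 = n186722 := d12_1 D216810 (iv6 D186722) F295064 (iv6 F295066) D185523
def n216811 : Q := act 0 n185524
theorem D216811 : act 0 n185524 = n216811 := rfl
theorem F486014 : act 5 n216811 = n211236 := d17_1 D216811 F460745 D215413 F479868 (iv5 D191418) (iv0 D98335) D98336 (iv0 F151751) D185524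
theorem F486015 : act 4 n216811 = n215306 := d18_3 (iv1 F151783) D185524 D216811 (iv5 D215306) F270416 F289564 F71543 (iv0 F72597) (iv5 F151782)
theorem F486016 : act 2 n211239 = n216811 := d15_3 (iv0 D216811) F473555 F473553
theorem F486017 : act 1 n210654 = n216811 := d15_0 (iv0 D216811) (iv7 F383483) (iv2 F458349)
theorem F486018 : act 7 n216811 = n216753 := d15_2 (iv0 F473554) F486017 F485789
def n216812 : Q := act 5 n185603
theorem D216812 : act 5 n185603 = n216812 := rfl
theorem F486019 : act 2 n216812 = n189398 := d2_1 D216812 F376595 (iv2 F376594)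
theorem F486020 : act 4 n216812 = n189249 := d9_1 D216812 (iv5 F394398) F394397 (iv5 F367080) F147026 D187377 (iv4 F376533) (iv5 D189397) F144769 D93947 (iv4 F364702) (iv5 D96465) F70889 D88411 D185603
theorem F486021 : act 7 n216812 = n189246 := d13_2 F370076 D216812 (iv5 F376207)
theorem F486022 : act 0 n216812 = n189396 := d17_2 (iv1 F381947) D216812 F376895 F379616 (iv5 F380767) (iv0 F380769) (iv5 F378379) (iv0 F381944) F381945
theorem F486023 : act 1 n216812 = n187905 := d17_6 (iv1 F294710) F294696 (iv1 D88409) D88411 D185603 D216812 (iv5 F376200) (iv0 F483102) (iv4 D216128)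
theorem E104032 : n189469 = n189459 := ((c20_4 F486020 (iv1 F376217) D189403 F376635 (iv1 F376637) F144786 F69047 (iv1 F65556) D90644 D187905 (iv1 F486023))).symm
theorem F486024 : act 0 n189459 = n93980 := (sb E104032 (iv1 F376637))
theorem F486025 : act 1 n189459 = n93978 := (sb E104032 (iv0 D189469))
theorem E104033 : n189470 = n189464 := (c15_2 F486025 D189470 (iv7 D189464) D189459)
theorem F486026 : act 0 n189464 = n93978 := (sb E104033 (iv1 D189470))
theorem F486027 : act 1 n189464 = n93980 := (sb E104033 F376638)
theorem F486028 : act 6 n189375 = n216812 := d14_5 F486021 (iv6 D189246) F144609 D93917 D189375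
def n216813 : Q := act 6 n185603
theorem D216813 : act 6 n185603 = n216813 := rfl
theorem F486029 : act 4 n216813 = n185604 := d10_1 D216813 (iv6 D185604) D185603
def n216814 : Q := act 1 n185604
theorem D216814 : act 1 n185604 = n216814 := rfl
theorem F486030 : act 7 n216814 = n209904 := d15_2 (iv0 F456087) D216814 (iv2 F456085)
theorem F486031 : act 5 n216814 = n214884 := d17_7 D163288 (iv5 F443892) (iv1 D207226) D207227 (iv4 F443896) F394974 D216814 (iv0 D214884) F257603
theorem F486032 : act 1 n189526 = n216813 := d18_6 (iv1 F477286) (iv4 F477198) (iv1 F477200) D214889 F477293 F461824 F486029 D216814 F486031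
theorem F486033 : act 3 n190509 = n216814 := d20_3 (iv4 F379746) (iv1 F379747) F464049 (iv1 D216814) F287925 (iv4 F257752) (iv1 F430142) F430143 F418571 (iv1 F378519)
def n216815 : Q := act 7 n185604
theorem D216815 : act 7 n185604 = n216815 := rfl
theorem F486034 : act 3 n216815 = n185612 := d8_1 D216815 (iv7 D185612) (iv3 F287925)
theorem F486035 : act 6 n216815 = n199303 := d14_1 D216815 F411568 (iv6 D187379) F138238 D185604
theorem F486036 : act 0 n209904 = n216815 := d21_4 (iv5 D64441) D64438 D137076 D209904 F486035 (iv5 D199303) F246470 (iv5 F455345) (iv6 D209915) (iv1 D137085)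
def n216816 : Q := act 3 n185609
theorem D216816 : act 3 n185609 = n216816 := rfl
theorem F486037 : act 2 n216816 = n208181 := d0_1 D216816 (iv3 F448269) (iv2 F377665) F370191 F370193
theorem F486038 : act 7 n216816 = n208180 := d8_2 F370196 D216816 F448267
theorem F486039 : act 0 n216816 = n208179 := d19_4 D78551 D163455 (iv4 F370194) D216816 F448265 (iv4 F413102) F191548 D120295 F191549 F327207 F327743 F326997 (iv5 F326999) F31211 F31204 (iv1 D8118) D8120 D17340 D35786
theorem F486040 : act 0 n207094 = n216816 := d20_4 F402347 (iv1 F170576) (iv4 F215067) (iv3 F443285) (iv3 D216816) F370194 (iv1 F257869) F348731 (iv3 F361219) D196932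
def n216817 : Q := act 6 n185610
theorem D216817 : act 6 n185610 = n216817 := rfl
theorem F486041 : act 4 n216817 = n205244 := d10_1 D216817 (iv6 F435581) (iv4 F358961)
theorem F486042 : act 7 n216817 = n205243 := d14_2 (iv7 F370192) D216817 F435578 F425917 (iv6 F370190)
theorem F486043 : act 1 n215655 = n216817 := d18_6 F479035 (iv4 F365123) (iv1 F407334) F407336 (iv5 F476728) (iv4 F480981) F486041 (iv0 F445555) (iv5 F479033)
def n216818 : Q := act 5 n185626
theorem D216818 : act 5 n185626 = n216818 := rfl
theorem F486044 : act 2 n216818 = n187601 := d2_1 D216818 (iv5 D187601) (iv2 F357382)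
theorem F486045 : act 0 n216818 = n216664 := d17_2 (iv1 F370942) D216818 F485370 (iv4 F289238) D190813 F381211 F379917 (iv0 F372688) (iv4 D188211)
theorem F486046 : act 1 n216818 = n188221 := d17_6 (iv1 F157275) D45455 D97322 F357386 D185626 D216818 F372721 F295338 F136177
theorem F486047 : act 4 n216818 = n191837 := d18_5 (iv1 D90211) F65098 D88427 D185626 D216818 (iv0 D191837) (iv4 D98991) D98990 (iv5 F293665)
theorem F486048 : act 6 n216818 = n212619 := d21_3 F367975 (iv1 F370942) D216818 (iv1 F466731) (iv6 D197694) F167922 D134979 D208725 F450590 (iv1 F379086)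
def n216819 : Q := act 4 n185637
theorem D216819 : act 4 n185637 = n216819 := rfl
theorem F486049 : act 2 n216819 = n191141 := d1_1 D216819 (iv4 D191141) F335375
theorem F486050 : act 3 n216819 = n203667 := d5_1 D216819 F429321 (iv3 F384237) (iv4 F477703) F477702
theorem F486051 : act 6 n216819 = n203666 := d10_2 (iv6 F477695) D216819 (iv4 F477692)
theorem F486052 : act 7 n216819 = n190963 := d11_2 (iv7 F335377) D216819 (iv4 D190963)
theorem F486053 : act 1 n216819 = n207229 := d18_6 (iv1 F149507) (iv4 F151226) (iv1 F294797) F142797 (iv5 F335376) D216819 F443901 F381182 (iv5 D190810)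
def n216820 : Q := act 1 n185638
theorem D216820 : act 1 n185638 = n216820 := rfl
theorem F486054 : act 1 n216820 = n191191 := d15_1 D216820 (iv7 F473774) F473770
theorem F486055 : act 7 n216820 = n191193 := d15_2 F381232 D216820 (iv2 F382547)
theorem F486056 : act 4 n216820 = n190484 := d18_7 (iv1 F367075) F287916 (iv1 D90211) F65098 D88430 D185638 D216820 F381221 F381220
theorem F486057 : act 6 n190743 = n216820 := d21_3 F378365 (iv1 F148693) D190743 (iv1 D216820) (iv6 F468706) F468705 (iv1 F395057) (iv5 F395059) (iv6 F395060) (iv1 F380899)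
theorem F486058 : act 2 n216820 = n190487 := d3_1 F486057 F379881 (iv2 F380887)
def n216821 : Q := act 5 n185638
theorem D216821 : act 5 n185638 = n216821 := rfl
theorem F486059 : act 2 n216821 = n194981 := d2_1 D216821 (iv5 F473773) F473770
theorem F486060 : act 3 n216821 = n191022 := d6_1 D216821 F381902 F365806
theorem F486061 : act 6 n216821 = n194978 := d12_2 F468706 D216821 (iv5 D194978) F352043 (iv5 F468705)
theorem F486062 : act 7 n216821 = n191019 := d13_2 F365810 D216821 F381898
def n216822 : Q := act 3 n185666
theorem D216822 : act 3 n185666 = n216822 := rfl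
theorem F486063 : act 2 n216822 = n215665 := d0_1 D216822 F481019 F402373 (iv3 F399895) (iv2 F418573)
theorem F486064 : act 4 n216822 = n186421 := d5_2 F430137 D216822 F341813 (iv4 F254524) (iv3 F430132)
theorem F486065 : act 6 n216822 = n187410 := d7_2 F476741 D216822 (iv3 F476740)
theorem F486066 : act 7 n216822 = n191197 := d8_2 (iv7 F418574) D216822 (iv3 D191197)
theorem F486067 : act 1 n190759 = n216822 := d15_1 (iv0 F462794) F486066 F399903
def n216823 : Q := act 5 n185704
theorem D216823 : act 5 n185704 = n216823 := rfl
theorem F486068 : act 2 n216823 = n187356 := d2_1 D216823 F377121 F377118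
theorem F486069 : act 4 n216823 = n206169 := d9_1 D216823 F439550 (iv4 F383017) (iv5 D191315) (iv4 D98030) (iv5 F295516) (iv4 F367200) (iv5 F466387) F466386 (iv5 D208079) (iv4 F383022) (iv5 D191316) (iv4 D98035) (iv5 F295139) F367202
theorem F486070 : act 6 n216823 = n187311 := d12_2 (iv6 F463321) D216823 F369790 (iv6 F392786) (iv5 F463317)
theorem F486071 : act 7 n216823 = n190364 := d13_2 (iv7 F367201) D216823 (iv5 D190364)
def n216824 : Q := act 0 n185734
theorem D216824 : act 0 n185734 = n216824 := rfl
theorem F486072 : act 5 n216824 = n214768 := d17_3 D88461 D185734 D216824 (iv4 D214768) (iv5 D161010) D161008 F382705 (iv0 D185727) F135435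
theorem F486073 : act 1 n185739 = n216824 := d15_0 (iv0 D216824) (iv7 F483780) F483777
def n216825 : Q := act 1 n185734
theorem D216825 : act 1 n185734 = n216825 := rfl
theorem F486074 : act 1 n216825 = n185739 := d15_1 D216825 (iv7 F382282) F382280
def n216826 : Q := act 4 n185734
theorem D216826 : act 4 n185734 = n216826 := rfl
theorem F486075 : act 3 n216826 = n197719 := d5_1 D216826 (iv4 D197719) (iv3 F363244) D214647 (iv3 F476207)
theorem F486076 : act 6 n216826 = n215552 := d10_2 (iv6 F379289) D216826 F480462
theorem F486077 : act 5 n216826 = n213688 := d16_1 D216826 (iv4 F479043) F479042 (iv4 D205240) F358326 F358276 D185739 (iv7 F382282) F382280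
def n216827 : Q := act 4 n185739
theorem D216827 : act 4 n185739 = n216827 := rfl
theorem F486078 : act 5 n216827 = n213687 := d9_2 D185739 D216827 (iv4 F479047) F479046 (iv4 D205239) F405945 (iv4 D185733) D185734 D216826 F486077 (iv4 F479043) F479042 (iv4 D205240) F358326 F358276
theorem F486079 : act 6 n216827 = n214803 := d10_2 F379069 D216827 F476932
theorem F486080 : act 3 n214804 = n216827 := d7_3 F486079 F476930 D214804
def n216828 : Q := act 4 n185754
theorem D216828 : act 4 n185754 = n216828 := rfl
theorem F486081 : act 2 n216828 = n196056 := d1_1 D216828 F399239 F349144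
theorem F486082 : act 7 n216828 = n196223 := d11_2 (iv7 F344297) D216828 F399968
theorem F486083 : act 0 n216828 = n196097 := d17_0 (iv5 D196097) F398184 F398183 (iv4 F209517) F335788 (iv0 D88469) D88471 D185754 D216828
theorem F486084 : act 3 n216828 = n201682 := d19_3 (iv1 F370399) F370402 D216828 F421356 (iv5 D195186) (iv4 D105365) D105364 (iv1 F349030) F183723 F309259 F136190 F292330 (iv5 D87110) F61573 F31786 D19973 (iv5 F290966) (iv4 F74170) (iv3 F154770)
theorem F486085 : act 0 n196224 = n216828 := d20_10 (iv4 D216828) (iv1 D185754) (iv4 F354358) F211556 D132084 (iv3 F399355) (iv4 F434009) (iv1 F441529) (iv4 F441560) F441559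
theorem F486086 : act 5 n216828 = n201681 := d21_2 F440874 F486085 F421353 F418759 (iv6 D126248) (iv5 D59185) (iv1 F93266) (iv5 F163296) D195789 F440877
def n216829 : Q := act 4 n185778
theorem D216829 : act 4 n185778 = n216829 := rfl
theorem F486087 : act 2 n216829 = n185779 := d1_1 D216829 (iv4 D185779) D185778
theorem F486088 : act 6 n216829 = n209038 := d10_2 (iv6 F373765) D216829 (iv4 D209038)
theorem F486089 : act 7 n216829 = n215232 := d11_2 F288334 D216829 F478973
theorem F486090 : act 5 n216829 = n215271 := d16_1 D216829 F479141 F387156 F332660 D185382 (iv4 F287619) F283798 F135574 D185778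
theorem F486091 : act 1 n216829 = n187662 := d18_6 (iv1 D188554) F142236 D186586 (iv4 F373762) F373763 D216829 (iv4 D187662) D187661 (iv5 F374080)
theorem F486092 : act 3 n216829 = n193170 := d19_3 F373764 F373763 D216829 (iv1 D193170) (iv5 D101261) (iv4 F156017) (iv3 F300688) (iv1 F188396) (iv5 F128699) (iv4 F274105) (iv3 F456482) F456484 (iv5 F394630) (iv4 D194826) (iv3 F160596) (iv1 F160598) (iv5 F283805) F283804 (iv3 F145294)
def n216830 : Q := act 0 n185789
theorem D216830 : act 0 n185789 = n216830 := rfl
theorem F486093 : act 5 n216830 = n206671 := d17_1 D216830 F441820 (iv5 F466947) F466946 F233528 F135562 D90557 F288362 D185789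
theorem F486094 : act 4 n216830 = n187636 := d18_3 F288363 D185789 D216830 (iv5 D187636) (iv4 F139166) (iv0 D44931) F33699 D42391 D90561
theorem F486095 : act 3 n216830 = n196106 := d20_5 (iv4 F474668) (iv1 F474671) (iv4 F362148) (iv3 F362149) D216830 (iv4 D196106) (iv1 F207321) (iv4 F437719) (iv3 F442889) (iv1 F442893)
theorem F486096 : act 2 n187638 = n216830 := d15_3 (iv0 D216830) (iv0 F451561) F451559
theorem F486097 : act 6 n216830 = n205600 := d3_2 (iv6 F371079) F486096 F437168
theorem F486098 : act 7 n216830 = n187640 := d4_2 F451559 F486096 (iv2 F451557)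
def n216831 : Q := act 4 n185834
theorem D216831 : act 4 n185834 = n216831 := rfl
theorem F486099 : act 2 n216831 = n191107 := d1_1 D216831 F382253 (iv2 F373858)
theorem F486100 : act 3 n216831 = n207930 := d5_1 D216831 (iv4 D207930) F354319 F283777 (iv3 F288216)
theorem F486101 : act 6 n216831 = n197448 := d10_2 F401767 D216831 F404374
theorem F486102 : act 7 n216831 = n191102 := d11_2 (iv7 F288217) D216831 F382230
theorem F486103 : act 5 n216831 = n214215 := d17_5 (iv1 F142187) (iv5 F288036) F288038 D185834 D216831 F475668 (iv5 D214534) (iv0 F251660) F147493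
theorem F486104 : act 0 n216831 = n191105 := d17_0 F382250 (iv1 D190271) (iv5 D95796) F70331 (iv5 F67731) D92428 F178165 (iv0 F288218) D216831
theorem F486105 : act 1 n216831 = n191104 := d18_6 (iv1 F371815) F367164 (iv1 D103805) (iv4 F135505) D185834 D216831 F382239 F369500 (iv5 F371813)
def n216832 : Q := act 4 n185839
theorem D216832 : act 4 n185839 = n216832 := rfl
theorem F486106 : act 2 n216832 = n187667 := d1_1 D216832 (iv4 D187667) (iv2 F288235)
theorem F486107 : act 7 n216832 = n187718 := d11_2 (iv7 F288236) D216832 (iv4 D187718)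
theorem F486108 : act 5 n216832 = n214460 := d16_1 D216832 F475269 (iv5 D193228) (iv4 D101379) (iv5 D47186) (iv4 F68154) D92734 F142978 (iv2 F288235)
theorem F486109 : act 0 n216832 = n207903 := d18_2 (iv1 F288237) D216832 (iv4 F465485) (iv5 F483320) (iv4 D216192) F377068 F377064 (iv0 D94449) D94450
theorem F486110 : act 1 n216832 = n207832 := d18_6 (iv1 F370575) (iv4 D101368) (iv1 F290172) F290175 D185839 D216832 F446631 (iv0 F422098) F422096
def n216833 : Q := act 5 n185856
theorem D216833 : act 5 n185856 = n216833 := rfl
theorem F486111 : act 3 n216833 = n207595 := d6_1 D216833 F445615 (iv3 F354360)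
theorem F486112 : act 6 n216833 = n196079 := d12_2 F484223 D216833 (iv5 F477409) F477411 (iv5 F484219)
theorem F486113 : act 7 n216833 = n207588 := d13_2 F354359 D216833 (iv5 D207588)
theorem F486114 : act 0 n216833 = n195769 := d21_1 D216833 (iv5 F484162) (iv6 F484166) (iv1 F456142) F456139 F380016 F365319 (iv5 F436988) F436989 (iv1 F417348)
def n216834 : Q := act 1 n185857
theorem D216834 : act 1 n185857 = n216834 := rfl
theorem F486115 : act 1 n216834 = n201111 := d15_1 D216834 F419130 F374775
theorem F486116 : act 7 n216834 = n201888 := d15_2 (iv0 F366119) D216834 (iv2 F422230)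
theorem F486117 : act 4 n216834 = n216409 := d17_9 (iv1 F484247) F399989 (iv1 D113591) D113592 F332784 F378515 (iv0 F378514) F376466 D216834
theorem F486118 : act 3 n201066 = n216834 := d19_19 (iv1 D216834) (iv5 F376466) F464049 F486033 (iv1 D216814) (iv5 F394974) F443896 F443894 D207233 (iv5 F462825) F462823 F451669 (iv1 F451667) F447514 (iv4 F437586) F437585 D206971 F465558 F465555
theorem F486119 : act 5 n196155 = n216834 := d21_0 (iv1 D216834) (iv5 F376466) (iv6 D189358) (iv1 F335777) D189613 F377116 (iv1 D135836) D135837 (iv6 F452411) (iv1 F452413)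
theorem F486120 : act 6 n196156 = n216834 := d21_3 F371422 (iv1 F164474) D196156 (iv1 D216834) (iv6 D185857) (iv5 D88520) F290235 D92575 (iv6 F163260) F371425
theorem F486121 : act 2 n216834 = n201056 := d3_1 F486120 (iv6 D201056) (iv2 F399643)
def n216835 : Q := act 6 n185865
theorem D216835 : act 6 n185865 = n216835 := rfl
theorem F486122 : act 2 n216835 = n187167 := d3_1 D216835 F369310 (iv2 F288305)
theorem F486123 : act 3 n216835 = n185867 := d7_1 D216835 (iv6 D185867) D185865
theorem F486124 : act 4 n216835 = n187713 := d10_1 D216835 (iv6 D187713) (iv4 F288306)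
theorem F486125 : act 5 n216835 = n212243 := d12_1 D216835 F464936 (iv5 F418976) F422111 F422109
theorem F486126 : act 7 n216835 = n191313 := d14_2 (iv7 F288307) D216835 (iv6 F383001) F319719 (iv6 F139379)
theorem F486127 : act 0 n216835 = n186036 := d21_4 (iv5 D208519) F422110 F422109 D216835 (iv6 F335764) (iv5 F429883) F429884 F422162 D214539 F475690
theorem F486128 : act 0 n191314 = n216835 := d21_4 F376456 (iv1 F388813) (iv5 D193117) (iv6 F383008) (iv6 D216835) (iv5 F422109) F465488 (iv5 F483320) F483318 F386913
def n216836 : Q := act 4 n185866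
theorem D216836 : act 4 n185866 = n216836 := rfl
theorem F486129 : act 2 n216836 = n187778 := d1_1 D216836 (iv4 D187778) (iv2 F288310)
theorem F486130 : act 5 n216836 = n205779 := d9_2 D185866 D216836 F437842 (iv5 F480901) (iv4 D215639) F360320 F159055 D185868 (iv4 F363814) D205679 (iv4 F477440) (iv5 D214920) (iv4 F302348) (iv5 F331169) (iv4 F159097)
theorem F486131 : act 6 n216836 = n205686 := d10_2 F288312 D216836 F437456
theorem F486132 : act 7 n216836 = n187777 := d11_2 (iv7 F288311) D216836 (iv4 D187777)
theorem F486133 : act 0 n216836 = n205646 := d18_2 F288317 D216836 F437333 F369240 F369238 F350462 (iv4 F353198) (iv0 D94324) (iv5 F135579)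
theorem F486134 : act 1 n216836 = n205678 := d18_6 (iv1 F139164) (iv4 F75444) (iv1 F159095) (iv4 F159097) D185866 D216836 F437436 F374648 (iv5 D187636)
theorem F486135 : act 3 n205783 = n216836 := d6_3 F486130 F437841 D205783
def n216837 : Q := act 5 n185869
theorem D216837 : act 5 n185869 = n216837 := rfl
theorem F486136 : act 2 n216837 = n205638 := d2_1 D216837 (iv5 F466947) F466944
theorem F486137 : act 3 n216837 = n205615 := d6_1 D216837 (iv5 F437234) F366212
theorem F486138 : act 4 n216837 = n206560 := d9_1 D216837 F441331 (iv4 D190587) (iv5 D96222) F70615 (iv5 F106078) (iv4 F233524) (iv5 F374828) (iv4 F394540) (iv5 D194805) (iv4 D104591) (iv5 D48371) (iv4 F63673) D88527 D185869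
theorem F486139 : act 7 n216837 = n187785 := d13_2 (iv7 F288325) D216837 (iv5 D187785)
theorem F486140 : act 0 n216837 = n206953 := d17_2 F371084 D216837 (iv5 F442727) (iv4 D187640) (iv5 D90420) F139165 (iv5 F326591) F326589 D187641
theorem F486141 : act 1 n216837 = n206972 := d17_6 (iv1 F288324) (iv5 D185868) (iv1 D88525) D88527 D185869 D216837 F442788 (iv0 F442798) F442797
theorem F486142 : act 6 n212331 = n216837 := d14_5 F486139 F453355 F453352 F465547 F465545
def n216838 : Q := act 1 n185875
theorem D216838 : act 1 n185875 = n216838 := rfl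
theorem F486143 : act 1 n216838 = n216829 := d15_1 D216838 F486089 F478972
theorem F486144 : act 7 n216838 = n213662 := d15_2 F371135 D216838 F471508
theorem F486145 : act 4 n216838 = n188744 := d18_7 F377685 F377683 F375489 (iv4 F287619) F283798 D185875 D216838 F374675 (iv5 F373928)
theorem F486146 : act 5 n216838 = n189278 := d18_9 (iv1 F376314) F241758 D153877 F241794 F332662 F332661 F288080 D185875 D216838
theorem F486147 : act 6 n189279 = n216838 := d21_3 F456171 F283464 D189279 (iv1 D216838) F363974 F218743 F99525 D67122 D143276 (iv1 F456172)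
theorem F486148 : act 2 n216838 = n188747 := d3_1 F486147 F374691 (iv2 F376316)
theorem F486149 : act 3 n216838 = n207340 := d7_1 F486147 F444416 F381691
def n216839 : Q := act 5 n185875
theorem D216839 : act 5 n185875 = n216839 := rfl
theorem F486150 : act 2 n216839 = n215277 := d2_1 D216839 F479177 F478972
theorem F486151 : act 3 n216839 = n192991 := d6_1 D216839 F388457 F338463
theorem F486152 : act 4 n216839 = n191898 := d9_1 D216839 F384734 F382975 F382970 (iv4 F373762) F373763 D216829 F486090 F479141 F387156 F332660 D185382 (iv4 F287619) F283798 D185875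
theorem F486153 : act 6 n216839 = n191897 := d12_2 (iv6 F363974) D216839 F384730 (iv6 D136028) (iv5 F218743)
theorem F486154 : act 7 n216839 = n192986 := d13_2 (iv7 F288337) D216839 F388436
theorem F486155 : act 1 n216839 = n207337 := d17_6 (iv1 F288088) F376461 F376460 F283798 D185875 D216839 F471523 F471520 (iv4 D188771)
def n216840 : Q := act 4 n185882
theorem D216840 : act 4 n185882 = n216840 := rfl
theorem F486156 : act 2 n216840 = n185883 := d1_1 D216840 (iv4 D185883) D185882
theorem F486157 : act 3 n216840 = n205641 := d5_1 D216840 F437312 (iv3 F486092) (iv4 D216829) (iv3 F288357)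
theorem F486158 : act 5 n216840 = n207693 := d9_2 (iv5 F288358) D216840 F446033 (iv5 F441341) F441340 (iv5 D187284) (iv4 F145467) F145468 D185789 F446024 (iv4 F447883) (iv5 F478368) F478367 F380257 F370002
theorem F486159 : act 7 n216840 = n206974 := d11_2 (iv7 F288359) D216840 F442797
theorem F486160 : act 0 n216840 = n208958 := d17_0 (iv5 D208958) F371484 (iv5 D187785) (iv4 D90565) (iv5 D42392) D42391 D90561 F288364 D216840
theorem F486161 : act 1 n216840 = n216830 := d18_6 (iv1 F371099) F371098 (iv1 F370005) F370002 (iv5 F288358) D216840 F486094 (iv0 F371073) F369240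
def n216841 : Q := act 4 n185906
theorem D216841 : act 4 n185906 = n216841 := rfl
theorem F486162 : act 7 n216841 = n189317 := d11_2 (iv7 F288404) D216841 F376399
theorem F486163 : act 0 n216841 = n208023 := d18_2 (iv1 F443808) D216841 (iv4 D208023) (iv5 D133213) F97479 D62542 D133277 F447641 F447638
def n216842 : Q := act 6 n185906
theorem D216842 : act 6 n185906 = n216842 := rfl
theorem F486164 : act 2 n216842 = n189324 := d3_1 D216842 (iv6 F443807) F443804
theorem F486165 : act 3 n216842 = n197032 := d7_1 D216842 (iv6 F468398) F468396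
theorem F486166 : act 7 n216842 = n188815 := d14_2 (iv7 F288404) D216842 F374984 F143184 D93881
theorem F486167 : act 0 n216842 = n188936 := d21_4 (iv5 D88543) D88541 D185906 D216842 (iv6 F375215) D189416 F413803 F413802 F413804 (iv1 D185910)
theorem F486168 : act 0 n188931 = n216842 := d21_4 F364520 (iv1 F238144) (iv5 F421435) F421436 (iv6 D216842) (iv5 D185906) (iv1 F288304) (iv5 F376476) (iv6 F392370) (iv1 F392371)
theorem F486169 : act 5 n188816 = n216842 := d21_8 (iv5 F447609) F447610 (iv5 F376470) F376471 (iv1 F379714) (iv6 D189384) D189383 (iv1 F376955) (iv6 D216842) (iv1 F443802)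
def n216843 : Q := act 5 n185907
theorem D216843 : act 5 n185907 = n216843 := rfl
theorem F486170 : act 2 n216843 = n188822 := d2_1 D216843 F375004 F342155
theorem F486171 : act 3 n216843 = n209112 := d6_1 D216843 (iv5 D209112) F342157
theorem F486172 : act 6 n216843 = n188816 := d12_2 D185907 D216843 F486169 (iv6 D216842) (iv5 D185906)
theorem F486173 : act 7 n216843 = n187805 := d13_2 F342156 D216843 F371559
theorem F486174 : act 0 n216843 = n188634 := d17_2 (iv1 F443241) D216843 F374266 (iv4 F374616) F374617 D215165 F478661 F442920 (iv4 F443237)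
theorem F486175 : act 1 n216843 = n188821 := d17_6 D130788 (iv5 F370547) F447152 (iv5 D207957) (iv4 F342154) D216843 F375000 F374864 F209348
def n216844 : Q := act 3 n185909
theorem D216844 : act 3 n185909 = n216844 := rfl
theorem F486176 : act 2 n216844 = n212965 := d0_1 D216844 F468348 (iv2 F448040) F448041 F413809
theorem F486177 : act 5 n216844 = n194046 := d6_2 F447630 D216844 (iv3 F447627)
theorem F486178 : act 7 n216844 = n197043 := d8_2 (iv7 F413808) D216844 (iv3 F402804)
theorem F486179 : act 4 n216844 = n189498 := d20_6 (iv4 F364461) (iv1 D172111) F126987 (iv3 F293768) D185909 D216844 F378576 (iv4 F444752) (iv3 F444753) (iv1 F289186)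
theorem F486180 : act 6 n189497 = n216844 := d10_0 F486179 (iv6 D189498) D189497
theorem F486181 : act 1 n201112 = n216844 := d17_8 F378576 F378574 D208214 F448400 F402735 (iv5 F233636) F364606 D201112 F486179
theorem F486182 : act 0 n212966 = n216844 := d18_0 F486179 F378576 (iv4 F444752) (iv5 F463939) F463938 (iv0 F456788) F368047 F367633 (iv5 F468352)
def n216845 : Q := act 4 n185909
theorem D216845 : act 4 n185909 = n216845 := rfl
theorem F486183 : act 3 n216845 = n189500 := d5_1 D216845 F376722 (iv3 F376716) (iv4 F486179) (iv3 D216844)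
theorem F486184 : act 0 n216845 = n207972 := d18_2 D185909 D216845 (iv4 D207972) (iv5 D132870) F97233 D62359 F333826 (iv0 D88541) D88543
theorem F486185 : act 1 n216845 = n189522 := d18_6 F398455 F214051 D133266 D208048 F447630 D216845 F376798 D189524 (iv5 F398456)
theorem F486186 : act 6 n189499 = n216845 := d7_0 F486183 (iv6 D189500) D189499
def n216846 : Q := act 6 n185909
theorem D216846 : act 6 n185909 = n216846 := rfl
theorem F486187 : act 2 n216846 = n188526 := d3_1 D216846 (iv6 F376471) F413809
theorem F486188 : act 3 n216846 = n189497 := d7_1 D216846 F486180 (iv3 D216844)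
theorem F486189 : act 4 n216846 = n189499 := d10_1 D216846 F486186 (iv4 D216845)
theorem F486190 : act 7 n216846 = n188521 := d14_2 (iv7 F413808) D216846 (iv6 F474049) F474050 F402805
theorem F486191 : act 0 n216846 = n190413 := d21_4 (iv5 F444576) F447631 F447630 D216846 (iv6 F379712) (iv5 F375219) (iv1 F475004) F475001 (iv6 F443807) (iv1 F443809)
theorem F486192 : act 5 n216846 = n188505 := d21_6 (iv5 F63684) (iv1 D41332) D41333 (iv6 F135600) D185909 D216846 (iv1 D188505) F293603 (iv6 D93816) (iv1 F68935)
def n216847 : Q := act 4 n185910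
theorem D216847 : act 4 n185910 = n216847 := rfl
theorem F486193 : act 3 n216847 = n194216 := d5_1 D216847 (iv4 D194216) D194215 (iv4 F396241) (iv3 F413806)
theorem F486194 : act 6 n216847 = n208134 := d10_2 F413804 D216847 (iv4 D208134)
theorem F486195 : act 0 n216847 = n189522 := d18_2 (iv1 F376477) D216847 F376798 F144850 (iv4 F157536) (iv0 F323386) (iv4 F324721) F288299 (iv5 F376476)
theorem F486196 : act 1 n216847 = n207972 := d18_6 F442230 F214056 (iv1 F214230) D208049 F447636 D216847 (iv4 D207972) F376803 (iv5 F442229)
def n216848 : Q := act 4 n185956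
theorem D216848 : act 4 n185956 = n216848 := rfl
theorem F486197 : act 2 n216848 = n207090 := d1_1 D216848 F443271 F375680
theorem F486198 : act 7 n216848 = n190531 := d11_2 F367039 D216848 (iv4 D190531)
theorem F486199 : act 5 n216848 = n207085 := d16_7 (iv4 F483984) (iv5 D216356) (iv4 D183141) (iv5 F294366) F141494 D185956 D216848 (iv7 F451684) F451687
theorem F486200 : act 0 n216848 = n191714 := d17_0 F384238 F364212 F291469 (iv4 F329423) (iv5 D96111) (iv0 F295192) D189080 F375668 D216848
theorem F486201 : act 1 n216848 = n207194 := d18_6 F370933 (iv4 F370479) F370482 F141494 D185956 D216848 F443742 (iv0 F481091) F481090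
theorem F486202 : act 6 n207086 = n216848 := d21_3 F291544 F366225 D207086 F486200 (iv6 D191714) F152164 F87479 (iv5 F176059) F369273 (iv1 D187163)
def n216849 : Q := act 6 n185956
theorem D216849 : act 6 n185956 = n216849 := rfl
theorem F486203 : act 2 n216849 = n207094 := d3_1 D216849 F443286 F375680
theorem F486204 : act 3 n216849 = n185959 := d7_1 D216849 (iv6 D185959) (iv3 F288461)
theorem F486205 : act 4 n216849 = n207086 := d10_1 D216849 F486202 (iv4 D216848)
theorem F486206 : act 5 n216849 = n204714 := d12_1 D216849 (iv6 F433370) F378840 F294694 D185956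
theorem F486207 : act 7 n216849 = n208179 := d14_2 F367039 D216849 (iv6 D208179) F215061 (iv6 F356252)
theorem F486208 : act 0 n216849 = n208181 := d21_4 (iv5 D91097) F135733 D185956 D216849 (iv6 F448271) (iv5 D202857) F222582 (iv5 F392408) (iv6 F392414) (iv1 D188217)
theorem F486209 : act 1 n216849 = n208180 := d15_1 (iv0 F486208) (iv7 F486038) F486037
def n216850 : Q := act 0 n185959
theorem D216850 : act 0 n185959 = n216850 := rfl
theorem F486210 : act 4 n216850 = n190420 := d20_0 (iv1 F447559) (iv4 F447561) (iv3 F425711) (iv1 F425713) (iv3 F463238) F463239 F444067 (iv4 F486205) F486204 D216850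
theorem F486211 : act 6 n216850 = n199139 := d21_5 F70410 F294667 D88581 D185959 D216850 (iv5 D199139) (iv1 F340460) (iv5 D96084) (iv6 D44832) D44829
theorem F486212 : act 2 n190508 = n216850 := d15_3 (iv0 D216850) F481155 F481153
theorem F486213 : act 3 n216850 = n209904 := d0_2 (iv3 F380910) F486212 (iv2 F456085) F456086 (iv2 F380908)
theorem F486214 : act 7 n216850 = n190509 := d4_2 F481153 F486212 (iv2 F481150)
theorem F486215 : act 1 n190510 = n216850 := d15_1 (iv0 F481154) F486214 (iv2 F481150)
def n216851 : Q := act 7 n185959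
theorem D216851 : act 7 n185959 = n216851 := rfl
theorem F486216 : act 2 n216851 = n190510 := d4_1 D216851 (iv7 D190510) F367040
theorem F486217 : act 3 n216851 = n208179 := d8_1 D216851 (iv7 F486207) F486204
theorem F486218 : act 4 n216851 = n196185 := d11_1 D216851 F399779 F378555
theorem F486219 : act 5 n216851 = n214657 := d13_1 D216851 F476244 F379020
theorem F486220 : act 6 n216851 = n190532 := d14_1 D216851 (iv7 D190532) (iv6 D96131) (iv7 F294878) D185959
theorem F486221 : act 1 n190509 = n216851 := d15_1 D190509 (iv7 D216851) (iv2 F367040)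
theorem F486222 : act 1 n216851 = n190508 := d15_1 F486221 (iv7 F481153) F481150
def n216852 : Q := act 5 n185980
theorem D216852 : act 5 n185980 = n216852 := rfl
theorem F486223 : act 2 n216852 = n190984 := d2_1 D216852 (iv5 D190984) (iv2 F288479)
theorem F486224 : act 3 n216852 = n185981 := d6_1 D216852 (iv5 D185981) D185980
theorem F486225 : act 7 n216852 = n190991 := d13_2 (iv7 F288481) D216852 (iv5 D190991)
theorem F486226 : act 0 n216852 = n192867 := d17_2 F289554 D216852 (iv5 D192867) (iv4 F343085) (iv5 F378815) (iv0 D190086) (iv5 D95614) F289556 (iv4 F151220)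
theorem F486227 : act 1 n216852 = n210655 := d17_6 (iv1 F370220) D194753 F394357 (iv5 D190966) (iv4 F288480) D216852 F458352 (iv0 F391183) F388059
theorem F486228 : act 4 n216852 = n216055 := d18_5 (iv1 F72598) F72589 D97099 (iv4 F288480) D216852 (iv0 F483595) (iv4 D216274) (iv0 D182265) (iv5 D87026)
theorem F486229 : act 6 n203198 = n216852 := d10_0 F486228 (iv6 D216055) (iv4 F427386)
def n216853 : Q := act 6 n185981
theorem D216853 : act 6 n185981 = n216853 := rfl
theorem F486230 : act 2 n216853 = n192093 := d3_1 D216853 F385510 F363129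
theorem F486231 : act 3 n216853 = n203198 := d7_1 D216853 F486229 F486224
theorem F486232 : act 4 n216853 = n195607 := d10_1 D216853 F397579 (iv4 F363132)
theorem F486233 : act 5 n216853 = n192057 := d12_1 D216853 (iv6 D192057) (iv5 F288487) (iv6 D185982) D185981
theorem F486234 : act 7 n216853 = n210787 := d14_2 (iv7 F288484) D216853 (iv6 F458787) (iv7 D191737) (iv6 F363135)
theorem F486235 : act 0 n216853 = n211641 := d21_4 (iv5 D88593) D88591 D185981 D216853 (iv6 F483532) F483531 F358627 D216424 F484316 F285533
theorem F486236 : act 1 n216853 = n193684 := d15_1 (iv0 F486235) (iv7 F478213) F478210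
def n216854 : Q := act 3 n185986
theorem D216854 : act 3 n185986 = n216854 := rfl
theorem F486237 : act 5 n216854 = n194752 := d6_2 (iv5 F288503) D216854 F394349
theorem F486238 : act 7 n216854 = n216136 := d8_2 (iv7 F288504) D216854 (iv3 D216136)
theorem F486239 : act 0 n191327 = n216854 := d20_4 D194090 F392025 (iv4 D191329) (iv3 F383064) (iv3 D216854) (iv4 F481575) F481576 (iv4 F384375) F383537 (iv1 F289788)
def n216855 : Q := act 6 n185986
theorem D216855 : act 6 n185986 = n216855 := rfl
theorem F486240 : act 2 n216855 = n216135 := d3_1 D216855 (iv6 D216135) F288502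
theorem F486241 : act 5 n216855 = n187851 := d12_1 D216855 (iv6 F374813) F295018 F294292 (iv5 F288503)
theorem F486242 : act 0 n216855 = n216220 := d21_4 F368804 F292183 (iv5 F288503) D216855 F483398 F462505 (iv1 D192092) D192093 F385510 F368805
def n216856 : Q := act 1 n185987
theorem D216856 : act 1 n185987 = n216856 := rfl
theorem F486243 : act 1 n216856 = n216140 := d15_1 D216856 (iv7 D216140) (iv2 F288513)
theorem F486244 : act 7 n216856 = n216138 := d15_2 F427406 D216856 (iv2 F483142)
theorem F486245 : act 5 n216856 = n215785 := d17_7 F444675 F434309 F483154 F483152 F387133 (iv5 F387136) D216856 (iv0 F481572) F471029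
theorem F486246 : act 4 n216856 = n191474 := d17_9 (iv1 D191474) (iv5 D98381) D98379 D191469 (iv4 F387141) (iv5 D192576) D192575 (iv5 F387136) D216856
theorem F486247 : act 2 n216139 = n216856 := d16_9 F486246 (iv5 F383536) F285531 D183762 (iv4 F434321) (iv5 D204952) (iv4 F434308) F434309 (iv7 F483146)
theorem F486248 : act 3 n204041 = n216856 := d20_5 D179718 F279931 (iv4 D122462) (iv3 F195922) D204041 F486246 (iv1 D191474) (iv4 F384373) F195861 (iv1 F131694)
def n216857 : Q := act 6 n185988
theorem D216857 : act 6 n185988 = n216857 := rfl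
theorem F486249 : act 2 n216857 = n212941 := d3_1 D216857 F468232 (iv2 F288514)
theorem F486250 : act 3 n216857 = n186006 := d7_1 D216857 (iv6 D186006) (iv3 F288515)
theorem F486251 : act 5 n216857 = n186516 := d12_1 D216857 (iv6 D186516) F136208 (iv6 F135746) (iv5 F288516)
theorem F486252 : act 7 n216857 = n203333 := d14_2 D185988 D216857 F427930 (iv7 D192890) F155040
theorem F486253 : act 1 n212939 = n216857 := d15_1 D212939 F486252 F427928
theorem F486254 : act 0 n211638 = n216857 := d17_2 (iv1 F462402) D211638 F486251 F357208 F335499 F238400 (iv5 F468143) (iv0 D212924) (iv4 F462401)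
def n216858 : Q := act 0 n185992
theorem D216858 : act 0 n185992 = n216858 := rfl
theorem F486255 : act 5 n216858 = n188256 := d17_1 D216858 (iv1 D188256) D188257 F372870 (iv5 D117260) D117259 D202919 (iv0 F432490) F432486
theorem F486256 : act 4 n216858 = n191443 := d18_1 D216858 F470205 F470203 (iv5 D186936) (iv4 D89399) F136220 (iv4 F337263) (iv0 F337268) D185992
theorem F486257 : act 1 n186790 = n216858 := d15_0 (iv0 D216858) F288532 (iv2 F368025)
theorem F486258 : act 6 n191442 = n216858 := d21_9 (iv5 D186790) (iv1 D89153) D89154 (iv6 F155736) (iv1 F280236) D216055 F482689 F467781 (iv5 F467782) (iv1 F486257)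
theorem F486259 : act 7 n216858 = n187011 := d14_2 D191442 F486258 (iv6 F449744) F449745 F383468
theorem F486260 : act 2 n216858 = n187012 := d15_3 (iv0 F466825) F466826 (iv7 F486259)
def n216859 : Q := act 1 n185992
theorem D216859 : act 1 n185992 = n216859 := rfl
theorem F486261 : act 1 n216859 = n186790 := d15_1 D216859 (iv7 F466824) F466821
theorem F486262 : act 7 n216859 = n187012 := d15_2 (iv0 D216858) D216859 (iv2 F486260)
theorem F486263 : act 5 n216859 = n188251 := d17_7 (iv1 F362384) F369424 (iv1 D187190) (iv5 D89707) (iv4 F135750) D185992 D216859 (iv0 F372849) (iv4 F147017)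
theorem F486264 : act 4 n216859 = n202925 := d17_9 F426957 (iv5 F426954) F426952 (iv5 F485793) F485794 F372912 (iv0 F337268) D185992 D216859
theorem F486265 : act 2 n187011 = n216859 := d16_9 F486264 (iv5 D202925) (iv4 D117263) D117264 F344206 F344202 (iv4 F372865) (iv5 F486255) F486259
theorem F486266 : act 3 n216143 = n216859 := d20_5 D182246 (iv1 F337941) F337942 (iv3 F283263) D216143 F486264 F426957 (iv4 D182240) F133543 D87012
def n216860 : Q := act 3 n185993
theorem D216860 : act 3 n185993 = n216860 := rfl
theorem F486267 : act 2 n216860 = n208432 := d0_1 D216860 F449337 (iv2 F287668) F365786 (iv2 F288533)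
theorem F486268 : act 5 n216860 = n186685 := d6_2 (iv5 F365788) D216860 F367668
theorem F486269 : act 6 n216860 = n187150 := d7_2 (iv6 F288534) D216860 F369247
theorem F486270 : act 7 n216860 = n187015 := d8_2 (iv7 F288535) D216860 (iv3 D187015)
theorem F486271 : act 0 n216860 = n216037 := d20_4 F371185 (iv1 F292106) D185993 D216860 F482621 (iv4 F482627) F482630 (iv4 D208383) F365795 (iv1 F371188)
theorem F486272 : act 1 n216860 = n212903 := d15_1 (iv0 F486271) (iv7 F470151) (iv2 F482620)
def n216861 : Q := act 6 n185997
theorem D216861 : act 6 n185997 = n216861 := rfl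
theorem F486273 : act 3 n216861 = n185999 := d7_1 D216861 (iv6 D185999) (iv3 F288543)
theorem F486274 : act 5 n216861 = n188143 := d12_1 D216861 (iv6 D188143) F293917 F147823 D185997
theorem F486275 : act 0 n209712 = n216861 := d21_4 (iv5 F389855) (iv1 F389857) D193454 (iv6 F454715) (iv6 D216861) (iv5 D185997) F335745 D89088 (iv6 F151418) D191370
def n216862 : Q := act 6 n185998
theorem D216862 : act 6 n185998 = n216862 := rfl
theorem F486276 : act 2 n216862 = n187016 := d3_1 D216862 (iv6 D187016) (iv2 F288545)
theorem F486277 : act 3 n216862 = n216257 := d7_1 D216862 F483521 (iv3 F470241)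
theorem F486278 : act 4 n216862 = n185999 := d10_1 D216862 (iv6 D185999) D185998
theorem F486279 : act 5 n216862 = n216549 := d12_1 D216862 F484897 F460618 (iv6 D194773) (iv5 F365790)
theorem F486280 : act 7 n216862 = n216254 := d14_2 (iv7 F288546) D216862 (iv6 D216254) (iv7 F287662) (iv6 F365785)
def n216863 : Q := act 0 n185999
theorem D216863 : act 0 n185999 = n216863 := rfl
theorem F486281 : act 6 n216863 = n188274 := d21_5 (iv5 D41771) (iv1 F63713) D88598 D185999 D216863 (iv5 D188274) (iv1 D91134) D91135 F140166 (iv1 F292650)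
theorem F486282 : act 2 n187017 = n216863 := d15_3 (iv0 D216863) (iv0 F388610) F388617
theorem F486283 : act 7 n216863 = n187018 := d4_2 F388617 F486282 (iv2 F388608)
theorem F486284 : act 1 n187019 = n216863 := d15_1 (iv0 F388611) F486283 (iv2 F388608)
def n216864 : Q := act 7 n185999
theorem D216864 : act 7 n185999 = n216864 := rfl
theorem F486285 : act 2 n216864 = n187019 := d4_1 D216864 (iv7 D187019) (iv2 F288547)
theorem F486286 : act 4 n216864 = n216254 := d11_1 D216864 (iv7 F486280) F486278
theorem F486287 : act 5 n216864 = n188146 := d13_1 D216864 (iv7 D188146) F293924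
theorem F486288 : act 6 n216864 = n187010 := d14_1 D216864 (iv7 D187010) (iv6 D89466) (iv7 F135760) D185999
theorem F486289 : act 1 n187018 = n216864 := d15_1 D187018 (iv7 D216864) F288547
theorem F486290 : act 1 n216864 = n187017 := d15_1 F486289 (iv7 F388617) F388608
def n216865 : Q := act 0 n186006
theorem D216865 : act 0 n186006 = n216865 := rfl
theorem F486291 : act 5 n216865 = n203078 := d21_2 (iv5 F288565) D216865 F426895 (iv1 F352571) (iv6 F352510) D186956 (iv1 F388158) (iv5 F411610) (iv6 F411609) (iv1 D186583)
theorem F486292 : act 6 n216865 = n187041 := d21_5 (iv5 D41773) (iv1 F63722) (iv5 F135767) D186006 D216865 (iv5 F368885) F355351 (iv5 F367111) (iv6 D104446) F292189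
theorem F486293 : act 1 n186872 = n216865 := d15_0 (iv0 D216865) (iv7 F388138) F388136
theorem F486294 : act 2 n186887 = n216865 := d3_3 F486292 (iv2 D187041) (iv6 F368419)
theorem F486295 : act 3 n203079 = n216865 := d7_3 F486292 F368883 (iv6 F426897)
theorem F486296 : act 4 n216173 = n216865 := d10_3 F486292 F368884 (iv6 F483284)
theorem F486297 : act 7 n186997 = n216865 := d15_2 F371234 D186997 (iv2 F486294)
def n216866 : Q := act 1 n186006
theorem D216866 : act 1 n186006 = n216866 := rfl
theorem F486298 : act 1 n216866 = n186872 := d15_1 D216866 F368393 (iv2 F288564)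
theorem F486299 : act 7 n216866 = n186887 := d15_2 (iv0 D216865) D216866 F486294
theorem F486300 : act 3 n186873 = n216866 := d19_19 (iv1 D216866) F288565 F136280 (iv3 F157098) F357185 F350566 F94070 F45828 (iv1 F37144) F37145 F53663 D31101 (iv1 F321537) (iv5 D54453) D54452 F311747 (iv1 F74287) D89337 D186873
theorem F486301 : act 4 n216866 = n214233 := d5_2 D186873 F486300 (iv3 D214233) (iv4 D157563) F305545
theorem F486302 : act 2 n186997 = n216866 := d4_3 F486299 F486294 (iv7 F486297)
def n216867 : Q := act 4 n186007
theorem D216867 : act 4 n186007 = n216867 := rfl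
theorem F486303 : act 2 n216867 = n191729 := d1_1 D216867 (iv4 D191729) (iv2 F288566)
theorem F486304 : act 7 n216867 = n187151 := d11_2 (iv7 F288568) D216867 (iv4 D187151)
theorem F486305 : act 5 n216867 = n211216 := d16_1 D216867 F475572 (iv5 F475570) F427932 (iv5 D188582) F142399 D186670 F367608 (iv2 F288566)
def n216868 : Q := act 6 n186007
theorem D216868 : act 6 n186007 = n216868 := rfl
theorem F486306 : act 2 n216868 = n191730 := d3_1 D216868 (iv6 D191730) (iv2 F288566)
theorem F486307 : act 3 n216868 = n186010 := d7_1 D216868 (iv6 D186010) (iv3 F288567)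
theorem F486308 : act 5 n216868 = n187128 := d12_1 D216868 (iv6 D187128) (iv5 D89587) (iv6 F135771) D186007
theorem F486309 : act 0 n216268 = n216868 := d21_4 (iv5 D143529) (iv1 F321931) D211612 F483564 (iv6 D216868) (iv5 D186007) (iv1 F136672) (iv5 F152413) D191738 (iv1 F384302)
def n216869 : Q := act 3 n186009
theorem D216869 : act 3 n186009 = n216869 := rfl
theorem F486310 : act 2 n216869 = n208381 := d0_1 D216869 F449150 F363085 (iv3 F365798) (iv2 F288575)
theorem F486311 : act 5 n216869 = n194776 := d6_2 (iv5 F365796) D216869 (iv3 D194776)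
theorem F486312 : act 7 n216869 = n187154 := d8_2 (iv7 F288576) D216869 (iv3 D187154)
def n216870 : Q := act 6 n186015
theorem D216870 : act 6 n186015 = n216870 := rfl
theorem F486313 : act 2 n216870 = n187155 := d3_1 D216870 (iv6 D187155) (iv2 F288592)
theorem F486314 : act 3 n216870 = n208334 := d7_1 D216870 F448954 F365795
theorem F486315 : act 4 n216870 = n186016 := d10_1 D216870 (iv6 D186016) D186015
theorem F486316 : act 5 n216870 = n211170 := d12_1 D216870 (iv6 D211170) F394428 (iv6 D194777) (iv5 F365793)
def n216871 : Q := act 0 n186016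
theorem D216871 : act 0 n186016 = n216871 := rfl
theorem F486317 : act 6 n216871 = n188199 := d21_5 F72601 F63736 D88606 D186016 D216871 (iv5 D188199) (iv1 D91069) D91070 F140109 (iv1 F292110)
theorem F486318 : act 2 n187156 = n216871 := d15_3 (iv0 D216871) (iv0 F387445) (iv7 F387447)
theorem F486319 : act 7 n216871 = n187157 := d4_2 (iv7 F387447) F486318 (iv2 F387442)
theorem F486320 : act 1 n187159 = n216871 := d15_1 F387446 F486319 (iv2 F387442)
def n216872 : Q := act 7 n186016
theorem D216872 : act 7 n186016 = n216872 := rfl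
theorem F486321 : act 2 n216872 = n187159 := d4_1 D216872 (iv7 D187159) (iv2 F288595)
theorem F486322 : act 3 n216872 = n204647 := d8_1 D216872 F433118 F430796
theorem F486323 : act 5 n216872 = n188080 := d13_1 D216872 (iv7 D188080) F293927
theorem F486324 : act 6 n216872 = n187145 := d14_1 D216872 (iv7 D187145) (iv6 D89601) (iv7 F135784) D186016
theorem F486325 : act 1 n187157 = n216872 := d15_1 D187157 (iv7 D216872) F288595
theorem F486326 : act 1 n216872 = n187156 := d15_1 F486325 F387447 F387442
def n216873 : Q := act 6 n186050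
theorem D216873 : act 6 n186050 = n216873 := rfl
theorem F486327 : act 2 n216873 = n186054 := d3_1 D216873 (iv6 D186054) (iv2 F288658)
theorem F486328 : act 3 n216873 = n186212 := d7_1 D216873 (iv6 D186212) (iv3 F288659)
theorem F486329 : act 0 n216873 = n213133 := d21_4 F293472 (iv1 F135820) D186050 D216873 F469135 F447514 (iv1 F217922) (iv5 F359564) (iv6 D94448) D94445
theorem F486330 : act 0 n208985 = n216873 := d21_4 (iv5 D133220) (iv1 F99088) (iv5 F217945) D208985 (iv6 D216873) (iv5 D186050) (iv1 F135822) (iv5 F291610) (iv6 F359563) (iv1 F217470)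
def n216874 : Q := act 5 n186053
theorem D216874 : act 5 n186053 = n216874 := rfl
theorem F486331 : act 7 n216874 = n194167 := d13_2 (iv7 F288665) D216874 (iv5 D194167)
theorem F486332 : act 1 n216874 = n211975 := d17_6 (iv1 F292460) (iv5 F293458) (iv1 D88618) D88620 D186053 D216874 (iv5 D211975) (iv0 F377647) (iv4 D189759)
def n216875 : Q := act 6 n186053
theorem D216875 : act 6 n186053 = n216875 := rfl
theorem F486333 : act 3 n216875 = n214156 := d7_1 D216875 F473762 F377552
theorem F486334 : act 4 n216875 = n186054 := d10_1 D216875 (iv6 D186054) D186053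
theorem F486335 : act 5 n216875 = n205136 := d21_6 (iv5 D111853) F327196 D158116 D214320 (iv1 F474559) D216875 (iv1 D205136) (iv5 F377413) (iv6 D189691) F326850
def n216876 : Q := act 0 n186054
theorem D216876 : act 0 n186054 = n216876 := rfl
theorem F486336 : act 4 n216876 = n190379 := d20_8 F416465 (iv1 F415844) (iv4 F447817) (iv3 F482214) F482216 (iv3 F486333) F486334 D216876 (iv3 F382488) F416467
theorem F486337 : act 6 n216876 = n190378 := d21_5 (iv5 F293458) (iv1 D88618) D88620 D186054 D216876 F379614 (iv1 F217928) (iv5 F377651) (iv6 D189760) (iv1 F292460)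
theorem F486338 : act 5 n216876 = n203582 := d21_8 (iv5 F451775) F451774 (iv5 F372222) (iv6 D188049) F366993 D188667 F374357 D216876 F428981 (iv1 F444517)
theorem F486339 : act 2 n213133 = n216876 := d15_3 (iv0 D216876) (iv0 F447540) (iv7 F469136)
theorem F486340 : act 7 n216876 = n208985 := d4_2 (iv7 F469136) F486339 F451706
def n216877 : Q := act 7 n186054
theorem D216877 : act 7 n186054 = n216877 := rfl
theorem F486341 : act 3 n216877 = n186057 := d8_1 D216877 (iv7 D186057) (iv3 F288666)
theorem F486342 : act 6 n216877 = n194171 := d14_1 D216877 (iv7 D194171) (iv6 D102867) (iv7 F135824) D186054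
theorem F486343 : act 1 n208985 = n216877 := d15_1 (iv0 F486330) (iv7 D216877) (iv2 F486327)
theorem F486344 : act 1 n216877 = n213133 := d15_1 F486343 F469136 (iv2 F451706)
def n216878 : Q := act 5 n186056
theorem D216878 : act 5 n186056 = n216878 := rfl
theorem F486345 : act 2 n216878 = n186260 := d2_1 D216878 (iv5 D186260) (iv2 F353352)
theorem F486346 : act 4 n216878 = n204521 := d9_1 D216878 F452467 (iv4 D209149) (iv5 D135885) F99370 (iv5 F97860) (iv4 F215043) D208176 F448249 (iv5 F453857) (iv4 D209478) (iv5 D136518) (iv4 F165094) (iv5 F210043) (iv4 F353353)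
theorem F486347 : act 6 n216878 = n199780 := d12_2 F380007 D216878 (iv5 F448118) F451686 F451685
theorem F486348 : act 7 n216878 = n186255 := d13_2 (iv7 F353354) D216878 (iv5 D186255)
theorem F486349 : act 0 n216878 = n199797 := d17_2 (iv1 F288667) D216878 (iv5 F413542) (iv4 F473749) (iv5 D214153) F416305 F416300 F377499 F276238
theorem F486350 : act 1 n216878 = n201300 := d17_6 D133415 (iv5 F352959) (iv1 F175772) (iv5 F210043) (iv4 F353353) D216878 F419918 F416162 F214503
theorem F486351 : act 0 n189007 = n216368 := d21_4 (iv5 F413542) F376366 F374370 D189007 F484037 (iv5 F444531) (iv1 F448116) F448118 (iv6 F486347) F486349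
def n216879 : Q := act 1 n186087
theorem D216879 : act 1 n186087 = n216879 := rfl
theorem F486352 : act 5 n216879 = n215392 := d17_7 (iv1 D181140) D181142 (iv1 F358239) (iv5 F477052) F477053 F394518 D216879 F479753 F479750
theorem F486353 : act 4 n200717 = n216879 := d20_0 (iv1 D216879) (iv4 F418477) F418476 F276593 D177331 (iv4 F364151) F417111 F417109 (iv3 F417095) F417613
theorem F486354 : act 6 n206420 = n216879 := d21_3 (iv5 D206405) D206403 (iv5 F440702) (iv1 D216879) (iv6 F366940) (iv5 F356000) (iv1 F146955) D95320 D189836 F440635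
theorem F486355 : act 2 n216879 = n216101 := d3_1 F486354 F482957 (iv2 F477819)
def n216880 : Q := act 4 n186137
theorem D216880 : act 4 n186137 = n216880 := rfl
theorem F486356 : act 2 n216880 = n186141 := d1_1 D216880 (iv4 D186141) (iv2 F288872)
theorem F486357 : act 6 n216880 = n190523 := d10_2 F444749 D216880 (iv4 F444748)
theorem F486358 : act 7 n216880 = n189348 := d11_2 F289197 D216880 F376450
theorem F486359 : act 0 n216880 = n189244 := d17_0 (iv5 F451594) F451591 (iv5 D191713) (iv4 D98702) (iv5 D46139) D46138 D98698 F367103 D216880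
theorem F486360 : act 1 n216880 = n189343 := d18_6 (iv1 F288411) F292351 (iv1 F67964) (iv4 F136020) D186137 D216880 (iv4 D189343) F288412 (iv5 F288409)
def n216881 : Q := act 5 n186179
theorem D216881 : act 5 n186179 = n216881 := rfl
theorem F486361 : act 3 n216881 = n186181 := d6_1 D216881 (iv5 D186181) D186179
theorem F486362 : act 7 n216881 = n186199 := d13_2 (iv7 F288931) D216881 (iv5 D186199)
theorem F486363 : act 0 n216881 = n189226 := d17_2 (iv1 F355749) D216881 (iv5 D189226) (iv4 D93789) D93790 F335771 F129395 D88615 D186042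
theorem F486364 : act 0 n189220 = n216881 := d19_0 (iv5 D216881) (iv4 F374545) F374544 F251870 D94036 D189551 F376864 (iv1 F417999) F417997 F327288 F214232 (iv1 F336024) F336025 (iv4 F331842) (iv3 F331843) (iv1 F451954) F451951 (iv4 D191705) (iv3 F376140)
def n216882 : Q := act 5 n186185
theorem D216882 : act 5 n186185 = n216882 := rfl
theorem F486365 : act 3 n216882 = n186186 := d6_1 D216882 (iv5 D186186) D186185
theorem F486366 : act 6 n216882 = n216067 := d12_2 (iv6 F367234) D216882 (iv5 D216067) (iv6 D180263) (iv5 F348569)
theorem F486367 : act 7 n216882 = n190495 := d13_2 F393036 D216882 (iv5 F393035)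
theorem F486368 : act 0 n216882 = n190754 := d17_2 (iv1 F370097) D216882 (iv5 D190754) (iv4 D96542) D96543 F343053 F147605 (iv0 F293075) D182848
theorem F486369 : act 1 n216882 = n190748 := d17_8 (iv1 F382550) D210449 F481178 (iv5 D215703) (iv4 F481172) (iv5 F481174) (iv0 F288962) D216882 (iv4 F382548)
theorem F486370 : act 4 n216882 = n215698 := d18_5 (iv1 F138245) D187386 (iv1 F370175) F370171 D216882 F481162 (iv4 D189962) (iv0 F343061) F343064
def n216883 : Q := act 6 n186186
theorem D216883 : act 6 n186186 = n216883 := rfl
theorem F486371 : act 2 n216883 = n189738 := d3_1 D216883 (iv6 D189738) F291631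
theorem F486372 : act 3 n216883 = n216067 := d7_1 D216883 (iv6 F486366) F486365
theorem F486373 : act 4 n216883 = n189737 := d10_1 D216883 (iv6 D189737) F291630
theorem F486374 : act 5 n216883 = n190602 := d12_1 D216883 (iv6 D190602) (iv5 D96235) F292566 D186186
theorem F486375 : act 7 n216883 = n208085 := d14_2 F365029 D216883 (iv6 D208085) F365041 F365037
theorem F486376 : act 0 n216883 = n200343 := d21_4 (iv5 F331301) F292563 D186186 D216883 (iv6 D200343) (iv5 F415704) F415705 F382640 (iv6 D186225) (iv1 F292600)
def n216884 : Q := act 4 n186199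
theorem D216884 : act 4 n186199 = n216884 := rfl
theorem F486377 : act 2 n216884 = n211707 := d1_1 D216884 F462783 F376752
theorem F486378 : act 3 n216884 = n191143 := d5_1 D216884 (iv4 D191143) F294049 (iv4 D186203) (iv3 F288978)
theorem F486379 : act 6 n216884 = n196941 := d10_2 (iv6 F366041) D216884 F402386
theorem F486380 : act 0 n216884 = n189222 := d17_0 F379210 (iv1 D104713) (iv5 F293032) (iv4 F287996) (iv5 F373821) F373824 D189604 F377087 D216884
theorem F486381 : act 1 n216884 = n189228 := d18_6 D88614 D186037 (iv1 F288974) F288975 D186199 D216884 (iv4 D189228) F335771 F129395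
def n216885 : Q := act 3 n186211
theorem D216885 : act 3 n186211 = n216885 := rfl
theorem F486382 : act 2 n216885 = n216125 := d0_1 D216885 (iv3 D216125) F365109 F294947 (iv2 F288991)
theorem F486383 : act 5 n216885 = n189386 := d6_2 F293683 D216885 (iv3 D189386)
theorem F486384 : act 7 n216885 = n190029 := d8_2 (iv7 F365031) D216885 F378615
def n216886 : Q := act 6 n186211
theorem D216886 : act 6 n186211 = n216886 := rfl
theorem F486385 : act 2 n216886 = n186225 := d3_1 D216886 (iv6 D186225) (iv2 F288991)
theorem F486386 : act 4 n216886 = n186212 := d10_1 D216886 (iv6 D186212) D186211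
theorem F486387 : act 5 n216886 = n216126 := d12_1 D216886 (iv6 D216126) (iv5 F365108) F294584 F293683
theorem F486388 : act 0 n216886 = n206410 := d21_10 (iv5 D206410) (iv1 F331502) F331504 F331487 (iv1 F331483) F363582 (iv5 D96064) (iv1 F144761) F293683 D216886
theorem F486389 : act 0 n206413 = n216886 := d21_4 (iv5 F455390) (iv1 D158093) (iv5 F249014) (iv6 F440669) (iv6 D216886) (iv5 F293683) (iv1 D93933) D93934 D189387 (iv1 F455391)
theorem F486390 : act 0 n206411 = n209929 := d21_4 (iv5 F486387) F486388 (iv5 D206410) D206411 (iv6 D209929) D209928 (iv1 F477776) (iv5 F482952) (iv6 F482954) F483090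
def n216887 : Q := act 7 n186212
theorem D216887 : act 7 n186212 = n216887 := rfl
theorem F486391 : act 2 n216887 = n186229 := d4_1 D216887 (iv7 D186229) (iv2 F288993)
theorem F486392 : act 5 n216887 = n206228 := d13_1 D216887 F439815 F375312
theorem F486393 : act 6 n216887 = n201177 := d14_1 D216887 F419336 F259110 F292452 D186212
theorem F486394 : act 1 n186228 = n216887 := d15_1 D186228 (iv7 D216887) F288993
theorem F486395 : act 1 n216887 = n186227 := d15_1 F486394 (iv7 F439870) F439868
def n216888 : Q := act 7 n186225
theorem D216888 : act 7 n186225 = n216888 := rfl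
theorem F486396 : act 3 n216888 = n210090 := d8_1 D216888 F456112 F382638
theorem F486397 : act 4 n216888 = n186229 := d11_1 D216888 (iv7 D186229) (iv4 F288996)
theorem F486398 : act 5 n216888 = n210090 := d13_1 D216888 F456112 F382640
theorem F486399 : act 6 n216888 = n210089 := d14_1 D216888 F456111 F380230 F294588 D186225
theorem F486400 : act 1 n206413 = n216888 := d15_1 (iv0 F486389) (iv7 D216888) (iv2 F486385)
theorem F486401 : act 1 n216888 = n206410 := d15_1 F486400 F440658 (iv2 F440666)
def n216889 : Q := act 4 n186227
theorem D216889 : act 4 n186227 = n216889 := rfl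
theorem F486402 : act 2 n216889 = n211867 := d1_1 D216889 F463331 F439864
theorem F486403 : act 3 n216889 = n188447 := d5_1 D216889 (iv4 F373548) (iv3 F436877) (iv4 F474056) (iv3 F474058)
theorem F486404 : act 7 n216889 = n188460 := d11_2 F439870 D216889 (iv4 F439871)
theorem F486405 : act 5 n216889 = n200256 := d16_1 D216889 (iv4 F420314) F420312 F390791 (iv5 F364953) (iv4 F351257) F367248 (iv7 F439865) F439864
theorem F486406 : act 1 n216889 = n191175 := d18_6 (iv1 D157746) F331543 D134860 F364997 (iv5 F367231) D216889 F382483 F443820 F443818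
def n216890 : Q := act 4 n186228
theorem D216890 : act 4 n186228 = n216890 := rfl
theorem F486407 : act 2 n216890 = n188460 := d1_1 D216890 (iv4 F439871) F439868
theorem F486408 : act 3 n216890 = n215668 := d5_1 D216890 F481026 (iv3 D190342) D190343 F379468
theorem F486409 : act 5 n216890 = n200255 := d9_2 F367248 D216890 (iv4 F425825) F425828 (iv4 F390754) F351306 F364997 (iv5 F367231) D216889 F486405 (iv4 F420314) F420312 F390791 (iv5 F364953) (iv4 F351257)
theorem F486410 : act 6 n216890 = n207148 := d10_2 (iv6 F367249) D216890 F443591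
theorem F486411 : act 7 n216890 = n211867 := d11_2 F439865 D216890 F463331
theorem F486412 : act 0 n216890 = n191175 := d17_0 F382484 F416337 (iv5 D200414) F364990 (iv5 F375325) (iv0 D188983) F292041 D186228 D216890
def n216891 : Q := act 5 n186249
theorem D216891 : act 5 n186249 = n216891 := rfl
theorem F486413 : act 2 n216891 = n190461 := d2_1 D216891 F379820 F373656
theorem F486414 : act 3 n216891 = n189555 := d6_1 D216891 (iv5 F474568) F474573
theorem F486415 : act 6 n216891 = n189523 := d12_2 (iv6 F443284) D216891 (iv5 F442229) F442227 (iv5 F443283)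
theorem F486416 : act 0 n216891 = n189547 := d17_2 (iv1 F367236) D216891 (iv5 F443869) F443868 D207227 (iv0 F480959) F480958 F480954 F468509
theorem F486417 : act 4 n216891 = n189560 := d19_2 (iv1 F367236) D216891 F376884 F376536 (iv5 F382756) (iv4 D191250) (iv3 F150252) (iv1 F147202) (iv5 D44634) (iv4 D21243) F65909 (iv1 D19579) F14390 (iv4 F31342) (iv3 F64162) D89016 (iv5 F375296) F238992 (iv3 F238990)
def n216892 : Q := act 0 n186250
theorem D216892 : act 0 n186250 = n216892 := rfl
theorem F486418 : act 4 n216892 = n189480 := d18_1 D216892 (iv1 F376659) F376656 F376192 F373755 (iv0 F373785) F373783 (iv0 D186248) D186250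
theorem F486419 : act 3 n189480 = n189531 := d20_3 F376548 D216892 F486418 (iv1 D189531) (iv3 D94024) (iv4 D43944) D43942 D94019 D189521 F376899
theorem F486420 : act 3 n216892 = n195946 := d20_5 (iv4 F379660) F392402 F392399 F377643 D216892 (iv4 F445082) (iv1 D207472) F211231 (iv3 F215052) (iv1 F363792)
theorem F486421 : act 6 n216892 = n212470 := d21_5 (iv5 D43854) (iv1 F291090) D88765 (iv6 F289010) D216892 (iv5 D212470) F342090 D188557 F373945 (iv1 D93818)
theorem F486422 : act 1 n189503 = n216892 := d15_0 (iv0 D216892) (iv7 F399004) F399002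
theorem F486423 : act 2 n189501 = n216892 := d3_3 F486421 F465951 (iv6 F376725)
theorem F486424 : act 2 n189480 = n189477 := d1_3 (iv4 F376724) F486423 F486418
theorem F486425 : act 7 n189502 = n216892 := d15_2 (iv0 D189501) D189502 (iv2 F486423)
theorem F486426 : act 7 n189480 = n189478 := d11_2 F486425 F486418 F399007
theorem F486427 : act 2 n189478 = n189481 := d15_3 F376660 F376659 F486426
theorem F486428 : act 7 n189477 = n189481 := d4_2 (iv7 F486426) F486424 (iv2 F486427)
def n216893 : Q := act 1 n186250
theorem D216893 : act 1 n186250 = n216893 := rfl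
theorem F486429 : act 1 n216893 = n189503 := d15_1 D216893 (iv7 D189503) F367237
theorem F486430 : act 7 n216893 = n189501 := d15_2 (iv0 D216892) D216893 F486423
theorem F486431 : act 4 n189481 = n216893 := d20_0 (iv1 D216893) (iv4 F376548) F392398 F455351 (iv3 F483098) (iv4 D216128) (iv1 F294710) D191250 F382755 (iv1 F376660)
theorem F486432 : act 3 n203440 = n216893 := d20_3 (iv4 F215050) F333558 (iv4 F428314) (iv1 D216893) (iv3 F377643) (iv4 F392399) (iv1 F414466) (iv4 F448251) (iv3 D208177) (iv1 D133645)
theorem F486433 : act 6 n207274 = n216893 := d21_3 (iv5 F444025) F444027 D207274 (iv1 D216893) F289010 (iv5 D88765) (iv1 F291175) D43858 D93828 D189275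
theorem F486434 : act 5 n215715 = n216893 := d21_6 (iv5 D19506) D19503 D41406 D88683 (iv1 F365435) D215715 (iv1 D216893) (iv5 D186250) (iv6 D88717) (iv1 D41417)
theorem F486435 : act 2 n216893 = n189502 := d0_1 F486432 F399008 (iv2 F398815) F444813 (iv2 F444810)
def n216894 : Q := act 6 n186253
theorem D216894 : act 6 n186253 = n216894 := rfl
theorem F486436 : act 2 n216894 = n209106 := d3_1 D216894 (iv6 F452285) F448238
theorem F486437 : act 3 n216894 = n186256 := d7_1 D216894 (iv6 D186256) D186253
theorem F486438 : act 4 n216894 = n208975 := d10_1 D216894 F451653 F399765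
theorem F486439 : act 5 n216894 = n193998 := d12_1 D216894 (iv6 D193998) D193997 (iv6 F450184) (iv5 F450181)
theorem F486440 : act 0 n216894 = n209105 := d21_4 (iv5 F250991) (iv1 F450183) (iv5 F450181) D216894 F452282 (iv5 F378552) (iv1 F402737) (iv5 F448400) (iv6 F448404) F448215
theorem F486441 : act 7 n216894 = n209097 := d15_2 D209105 (iv0 F486440) F452241
theorem F486442 : act 0 n209104 = n216894 := d17_0 F486439 (iv1 F391711) D209103 F452273 (iv5 F451933) (iv0 F451934) (iv5 F475532) (iv0 F475534) F464925
def n216895 : Q := act 0 n186255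
theorem D216895 : act 0 n186255 = n216895 := rfl
theorem F486443 : act 5 n216895 = n207219 := d17_1 D216895 (iv1 D207219) (iv5 F374362) (iv4 F375375) (iv5 F375378) D193665 (iv5 F432793) (iv0 F453880) F453878
theorem F486444 : act 4 n216895 = n199486 := d18_3 (iv1 F453881) F453878 D216895 F412343 (iv4 F345432) F362583 D136431 (iv0 F390617) F390613
theorem F486445 : act 2 n201300 = n216895 := d15_3 (iv0 D216895) (iv0 F352893) (iv7 F419919)
theorem F486446 : act 1 n186260 = n216895 := d15_0 (iv0 D216895) (iv7 F486348) F486345
theorem F486447 : act 7 n216895 = n199797 := d15_2 (iv0 F387438) F486446 F413539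
theorem F486448 : act 3 n203584 = n216895 := d19_19 (iv1 F486446) (iv5 D186260) F352833 (iv3 D61522) D61520 F96043 (iv4 D29329) (iv3 F46973) (iv1 F47982) (iv5 D29814) F23686 (iv3 F22133) (iv1 D13317) D13318 D27929 D58740 D125469 D205088 (iv4 F434937)
theorem F486449 : act 6 n199763 = n216895 := d21_3 F143386 (iv1 F178070) (iv5 F413383) (iv1 F486446) (iv6 F387016) (iv5 F444526) F448109 F448106 (iv6 F413184) (iv1 D188990)
def n216896 : Q := act 6 n186255
theorem D216896 : act 6 n186255 = n216896 := rfl
theorem F486450 : act 2 n216896 = n207964 := d3_1 D216896 (iv6 F448245) F448243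
theorem F486451 : act 3 n216896 = n193997 := d7_1 D216896 (iv6 F450184) (iv3 F450182)
theorem F486452 : act 5 n216896 = n193996 := d12_1 D216896 (iv6 F391689) (iv5 F377691) (iv6 D186256) D186255
theorem F486453 : act 7 n216896 = n207956 := d14_2 F486348 D216896 F447146 (iv7 F413472) (iv6 F486347)
theorem F486454 : act 0 n216896 = n207962 := d21_10 F447170 (iv1 D187728) (iv5 F143393) (iv6 D92976) (iv1 D43495) D43497 F291270 D88718 D186255 D216896
theorem F486455 : act 0 n207265 = n216896 := d21_4 (iv5 F374403) F346736 D215624 F480812 (iv6 D216896) (iv5 D186255) (iv1 F288672) (iv5 F374366) F374367 (iv1 F374399)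
def n216897 : Q := act 4 n186280
theorem D216897 : act 4 n186280 = n216897 := rfl
theorem F486456 : act 2 n216897 = n191848 := d1_1 D216897 (iv4 D191848) F367050
theorem F486457 : act 7 n216897 = n191400 := d11_2 (iv7 F367047) D216897 (iv4 D191400)
theorem F486458 : act 0 n216897 = n199658 := d18_2 (iv1 F367084) D216897 F413035 (iv5 D184502) (iv4 F286441) (iv0 F370471) (iv4 D187471) (iv0 D90201) (iv5 F291613)
theorem F486459 : act 1 n216897 = n199664 := d18_6 (iv1 F294590) F294592 F367041 (iv4 D186279) D186280 D216897 F413048 F375765 (iv5 D186816)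
def n216898 : Q := act 4 n186285
theorem D216898 : act 4 n186285 = n216898 := rfl
theorem F486460 : act 2 n216898 = n191400 := d1_1 D216898 (iv4 D191400) (iv2 F367048)
theorem F486461 : act 3 n216898 = n199418 := d5_1 D216898 F412102 (iv3 F449296) F449299 (iv3 F367046)
theorem F486462 : act 7 n216898 = n191848 := d11_2 F367049 D216898 (iv4 D191848)
theorem F486463 : act 5 n216898 = n215511 := d16_1 D216898 F480279 F273550 (iv4 F468383) F468384 (iv4 D186279) D186280 F367047 (iv2 F367048)
theorem F486464 : act 0 n216898 = n199664 := d18_2 (iv1 F367086) D216898 F413048 F375767 F372830 (iv0 F369320) F369321 F142564 F367087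
theorem F486465 : act 1 n216898 = n199658 := d18_6 (iv1 F295435) D189099 F375747 F294789 D186285 D216898 F413035 (iv0 F294595) (iv5 D93258)
def n216899 : Q := act 4 n186287
theorem D216899 : act 4 n186287 = n216899 := rfl
theorem F486466 : act 2 n216899 = n186290 := d1_1 D216899 (iv4 D186290) (iv2 F289053)
theorem F486467 : act 7 n216899 = n191850 := d11_2 F367066 D216899 (iv4 D191850)
theorem F486468 : act 0 n216899 = n188284 := d18_2 (iv1 F367126) D216899 (iv4 D188284) (iv5 D91148) F74984 F135822 (iv4 F142560) F142562 (iv5 F367127)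
theorem F486469 : act 1 n216899 = n191856 := d18_6 F295434 F136907 (iv1 F293481) (iv4 F136082) D186287 D216899 F384595 F377035 F372886
def n216900 : Q := act 6 n186287
theorem D216900 : act 6 n186287 = n216900 := rfl
theorem F486470 : act 2 n216900 = n186291 := d3_1 D216900 (iv6 D186291) (iv2 F289053)
theorem F486471 : act 3 n216900 = n191833 := d7_1 D216900 (iv6 D191833) (iv3 F367065)
def n216901 : Q := act 3 n186288
theorem D216901 : act 3 n186288 = n216901 := rfl
theorem F486472 : act 2 n216901 = n187603 := d0_1 D216901 F370992 F379969 (iv3 F379970) (iv2 F367132)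
theorem F486473 : act 4 n216901 = n189109 := d5_2 F471840 D216901 F375777 (iv4 F419929) (iv3 F471839)
theorem F486474 : act 5 n216901 = n187470 := d6_2 (iv5 F367129) D216901 F370467
theorem F486475 : act 6 n216901 = n201302 := d7_2 F471837 D216901 (iv3 F471834)
theorem F486476 : act 7 n216901 = n187609 := d8_2 (iv7 F367136) D216901 F371007
theorem F486477 : act 0 n216901 = n186620 := d21_4 (iv5 F439083) (iv1 F475890) F475887 (iv6 F486475) (iv6 F454139) (iv5 D209561) F359425 (iv5 F428090) (iv6 D203375) (iv1 F371583)
theorem F486478 : act 1 n216901 = n216327 := d15_1 (iv0 F486477) F483857 (iv2 F367463)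
def n216902 : Q := act 4 n186289
theorem D216902 : act 4 n186289 = n216902 := rfl
theorem F486479 : act 2 n216902 = n191852 := d1_1 D216902 (iv4 D191852) F367137
theorem F486480 : act 3 n216902 = n208426 := d5_1 D216902 (iv4 D208426) D208425 (iv4 F449307) F370486
theorem F486481 : act 7 n216902 = n191854 := d11_2 F367138 D216902 (iv4 D191854)
def n216903 : Q := act 6 n186289
theorem D216903 : act 6 n186289 = n216903 := rfl
theorem F486482 : act 2 n216903 = n191853 := d3_1 D216903 (iv6 D191853) F367137
theorem F486483 : act 3 n216903 = n216349 := d7_1 D216903 (iv6 D216349) F370486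
theorem F486484 : act 0 n216903 = n189210 := d21_4 F367544 (iv1 F142563) (iv5 F367139) D216903 F376105 (iv5 D98962) (iv1 F354650) D191399 F383348 (iv1 F367546)
def n216904 : Q := act 0 n186290
theorem D216904 : act 0 n186290 = n216904 := rfl
theorem F486485 : act 4 n216904 = n188281 := d18_3 (iv1 D186289) D186290 D216904 (iv5 D188281) F140194 (iv0 D88617) (iv4 F67949) D92552 (iv5 F367139)
theorem F486486 : act 2 n188284 = n216904 := d15_3 (iv0 D216904) (iv0 F377038) F377037
theorem F486487 : act 1 n191850 = n216904 := d15_0 (iv0 D216904) (iv7 F367124) (iv2 F384587)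
theorem F486488 : act 7 n216904 = n191856 := d15_2 (iv0 F384588) F486487 (iv2 F384596)
theorem F486489 : act 3 n198261 = n216904 := d8_3 F486488 (iv3 F384597) (iv7 F407374)
def n216905 : Q := act 5 n186290
theorem D216905 : act 5 n186290 = n216905 := rfl
theorem F486490 : act 3 n216905 = n191857 := d6_1 D216905 (iv5 D191857) F367112
theorem F486491 : act 7 n216905 = n191857 := d13_2 F367124 D216905 (iv5 D191857)
theorem F486492 : act 4 n216905 = n215512 := d16_2 D186290 D216905 F480280 (iv4 D189759) (iv5 D94443) (iv4 F72973) D99010 F367066 F289053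
def n216906 : Q := act 6 n186290
theorem D216906 : act 6 n186290 = n216906 := rfl
theorem F486493 : act 3 n216906 = n191858 := d7_1 D216906 (iv6 D191858) F367112
theorem F486494 : act 4 n216906 = n186291 := d10_1 D216906 (iv6 D186291) D186290
def n216907 : Q := act 0 n186291
theorem D216907 : act 0 n186291 = n216907 := rfl
theorem F486495 : act 3 n216907 = n194011 := d20_5 D93301 F367993 (iv4 F294987) (iv3 F289054) D216907 (iv4 F451731) (iv1 F465275) F465271 F374484 (iv1 F142806)
theorem F486496 : act 5 n216907 = n194010 := d21_2 F384848 D216907 (iv6 F410200) (iv1 F422370) F422366 F274443 F274446 F332264 D214042 F473230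
def n216908 : Q := act 1 n186291
theorem D216908 : act 1 n186291 = n216908 := rfl
theorem F486497 : act 3 n204529 = n216908 := d20_3 F451821 (iv1 D204531) (iv4 F432807) (iv1 D216908) F289054 F294987 (iv1 F368002) (iv4 D93296) D93295 D189134
theorem F486498 : act 4 n216908 = n204537 := d5_2 (iv4 F432807) F486497 F432821 F198392 (iv3 F198389)
theorem F486499 : act 6 n216908 = n204528 := d7_2 D204529 F486497 (iv3 D204528)
def n216909 : Q := act 7 n186291
theorem D216909 : act 7 n186291 = n216909 := rfl
theorem F486500 : act 3 n216909 = n186294 := d8_1 D216909 (iv7 D186294) (iv3 F289054)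
theorem F486501 : act 6 n216909 = n191861 := d14_1 D216909 (iv7 D191861) (iv6 D99015) (iv7 F293938) D186291
def n216910 : Q := act 5 n186299
theorem D216910 : act 5 n186299 = n216910 := rfl
theorem F486502 : act 2 n216910 = n211748 := d2_1 D216910 F462937 F407973
theorem F486503 : act 3 n216910 = n190303 := d6_1 D216910 F379328 F345723
theorem F486504 : act 4 n216910 = n202806 := d9_1 D216910 (iv5 D202806) F182881 (iv5 F395462) (iv4 F435261) F435262 F202172 D198420 (iv4 F425659) (iv5 D202805) F182875 F176370 (iv4 F176560) (iv5 F202175) F345721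
theorem F486505 : act 6 n216910 = n202820 := d12_2 F436734 D216910 F425721 F207116 D205502
theorem F486506 : act 7 n216910 = n211743 := d13_2 (iv7 F407961) D216910 F462918
theorem F486507 : act 0 n216910 = n215482 := d17_2 (iv1 F356057) D216910 F480177 F434034 (iv5 F362940) F362937 F395120 F395121 F356053
theorem F486508 : act 1 n216910 = n190281 := d17_6 F435207 (iv5 F417035) (iv1 F202448) (iv5 F202175) F345721 D216910 (iv5 F476963) F476965 (iv4 F435206)
def n216911 : Q := act 0 n186304
theorem D216911 : act 0 n186304 = n216911 := rfl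
theorem F486509 : act 4 n216911 = n215521 := d18_3 (iv1 F433359) (iv4 F433364) D216911 F480311 F459451 F348610 F198742 F198745 D203695
theorem F486510 : act 6 n216911 = n193592 := d21_5 (iv5 D83462) (iv1 F113509) D88752 D186304 D216911 (iv5 D193592) F387930 (iv5 F387932) (iv6 F387933) (iv1 F273504)
theorem F486511 : act 1 n215710 = n216911 := d18_6 F412845 (iv4 F429969) (iv1 F433386) (iv4 D204717) (iv5 F433356) (iv4 F481195) F486509 (iv0 D215521) F345541
def n216912 : Q := act 1 n186304
theorem D216912 : act 1 n186304 = n216912 := rfl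
theorem F486512 : act 1 n216912 = n215710 := d15_1 D216912 (iv7 D215710) (iv2 F289073)
theorem F486513 : act 4 n215522 = n216912 := d20_6 (iv4 F476219) (iv1 F476220) F276266 (iv3 F431001) (iv1 F433493) F480313 (iv1 D216912) F433364 (iv3 F476307) F476311
def n216913 : Q := act 7 n186304
theorem D216913 : act 7 n186304 = n216913 := rfl
theorem F486514 : act 2 n216913 = n215710 := d4_1 D216913 (iv7 D215710) (iv2 F289073)
theorem F486515 : act 4 n216913 = n203697 := d11_1 D216913 (iv7 F433360) (iv4 F433364)
theorem F486516 : act 5 n216913 = n186323 := d13_1 D216913 (iv7 D186323) (iv5 F289074)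
theorem F486517 : act 1 n215709 = n216913 := d15_1 D215709 (iv7 D216913) F289073
theorem F486518 : act 0 n215708 = n216913 := d18_0 F486515 (iv1 D203697) F413102 (iv5 F448265) F448264 (iv0 F443281) (iv4 F443280) D211833 (iv5 F481191)
def n216914 : Q := act 6 n186305
theorem D216914 : act 6 n186305 = n216914 := rfl
theorem F486519 : act 2 n216914 = n214808 := d3_1 D216914 (iv6 D214808) F302207
theorem F486520 : act 3 n216914 = n190267 := d7_1 D216914 F463205 F463200
theorem F486521 : act 4 n216914 = n215349 := d10_1 D216914 (iv6 D215349) (iv4 F289076)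
theorem F486522 : act 5 n216914 = n190266 := d12_1 D216914 F379249 F368739 F158083 (iv5 F289077)
def n216915 : Q := act 0 n186320
theorem D216915 : act 0 n186320 = n216915 := rfl
theorem F486523 : act 4 n216915 = n190359 := d18_3 F447808 F447804 D216915 (iv5 F463184) (iv4 F463187) (iv0 F463076) (iv4 D211739) D211738 (iv5 F462902)
theorem F486524 : act 6 n190358 = n216915 := d10_0 F486523 (iv6 D190359) D190358
theorem F486525 : act 7 n211868 = n216915 := d11_0 F486523 (iv7 F463323) (iv4 F463333)
theorem F486526 : act 5 n211844 = n216915 := d17_3 (iv1 D144155) D144156 D211844 F486523 (iv5 F463184) (iv0 D211818) (iv5 D144132) D144131 F377508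
def n216916 : Q := act 1 n186320
theorem D216916 : act 1 n186320 = n216916 := rfl
theorem F486527 : act 6 n200256 = n216916 := d21_3 (iv5 F382484) (iv1 F486406) F486405 (iv1 D216916) (iv6 D186320) (iv5 D88757) D88754 (iv5 F360327) D190435 F379759
theorem F486528 : act 2 n216916 = n211868 := d3_1 F486527 (iv6 D211868) (iv2 F420319)
theorem F486529 : act 5 n216916 = n211845 := d21_6 (iv5 D28314) (iv1 F40078) D52203 D113101 (iv1 F415717) F486527 (iv1 D211845) (iv5 D144156) (iv6 D67534) F49642
def n216917 : Q := act 7 n186320
theorem D216917 : act 7 n186320 = n216917 := rfl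
theorem F486530 : act 3 n216917 = n186323 := d8_1 D216917 (iv7 D186323) (iv3 F289097)
theorem F486531 : act 4 n216917 = n207231 := d11_1 D216917 (iv7 F447807) F447804
theorem F486532 : act 6 n216917 = n215711 := d14_1 D216917 (iv7 D215711) (iv6 D176924) (iv7 F136148) D186320
theorem F486533 : act 1 n211868 = n216917 := d15_1 (iv0 F463341) (iv7 D216917) (iv2 F463338)
def n216918 : Q := act 5 n186321
theorem D216918 : act 5 n186321 = n216918 := rfl
theorem F486534 : act 2 n216918 = n215705 := d2_1 D216918 (iv5 D215705) F369375
theorem F486535 : act 7 n216918 = n215707 := d13_2 (iv7 F369377) D216918 (iv5 D215707)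
theorem F486536 : act 1 n216918 = n211834 := d17_6 F451364 (iv5 D207318) (iv1 F369370) (iv5 F369362) (iv4 F369376) D216918 (iv5 D211834) D211833 F463233
def n216919 : Q := act 3 n186322
theorem D216919 : act 3 n186322 = n216919 := rfl
theorem F486537 : act 6 n216919 = n189337 := d7_2 F377213 D216919 (iv3 F377212)
theorem F486538 : act 7 n216919 = n215704 := d8_2 F369373 D216919 (iv3 D215704)
theorem F486539 : act 1 n215297 = n216919 := d15_1 (iv0 F479270) F486538 (iv2 F481181)
theorem F486540 : act 4 n189338 = n216919 := d10_3 F486537 (iv4 D189337) D189338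
def n216920 : Q := act 5 n186322
theorem D216920 : act 5 n186322 = n216920 := rfl
theorem F486541 : act 2 n216920 = n215707 := d2_1 D216920 (iv5 D215707) (iv2 F369374)
theorem F486542 : act 7 n216920 = n215705 := d13_2 F369373 D216920 (iv5 D215705)
theorem F486543 : act 0 n216920 = n211834 := d17_2 (iv1 F289098) D216920 (iv5 D211834) F443280 F443277 (iv0 F397819) F369274 F369271 F291656
def n216921 : Q := act 0 n186369
theorem D216921 : act 0 n186369 = n216921 := rfl
theorem F486544 : act 4 n216921 = n189616 := d18_3 (iv1 F295070) D186369 D216921 F377126 F288644 F158170 (iv4 D102857) (iv0 D47702) D47705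
theorem F486545 : act 1 n186378 = n216921 := d15_0 (iv0 D216921) (iv7 F370534) F370532
theorem F486546 : act 3 n216915 = n216921 := d5_5 F486544 (iv3 D189616) (iv4 F364062) (iv3 F379541) (iv4 F486523)
def n216922 : Q := act 1 n186369
theorem D216922 : act 1 n186369 = n216922 := rfl
theorem F486547 : act 1 n216922 = n186378 := d15_1 D216922 (iv7 F377641) F377640
theorem F486548 : act 4 n216922 = n203661 := d18_7 F368122 (iv4 D186817) F295038 (iv4 D88775) D88776 D186369 D216922 (iv0 F429291) F238529
theorem F486549 : act 6 n200447 = n216922 := d10_0 F486548 (iv6 D203661) F420810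
def n216923 : Q := act 3 n186369
theorem D216923 : act 3 n186369 = n216923 := rfl
theorem F486550 : act 4 n216923 = n208132 := d5_2 D186369 D216923 F448021 F392292 F289142
theorem F486551 : act 7 n216923 = n208130 := d8_2 F370534 D216923 F448012
theorem F486552 : act 0 n189972 = n216923 := d18_2 (iv1 D190011) (iv4 F378382) F486550 F448022 F373808 (iv0 D187417) (iv4 F348090) D195001 (iv5 F395353)
def n216924 : Q := act 5 n186369
theorem D216924 : act 5 n186369 = n216924 := rfl
theorem F486553 : act 6 n216924 = n198424 := d12_2 (iv6 F413869) D216924 (iv5 D198424) F173716 D199866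
def n216925 : Q := act 3 n186378
theorem D216925 : act 3 n186378 = n216925 := rfl
theorem F486554 : act 4 n216925 = n188528 := d5_2 D186378 D216925 (iv3 D188528) (iv4 D92418) (iv3 F293539)
theorem F486555 : act 6 n216925 = n200272 := d7_2 (iv6 F367081) D216925 (iv3 D200272)
theorem F486556 : act 7 n216925 = n194222 := d8_2 F377641 D216925 F392403
theorem F486557 : act 0 n216925 = n216919 := d20_4 F474574 F294491 D186378 D216925 (iv3 D216919) F369372 (iv1 D187177) F137620 (iv3 F249056) D214323
theorem F486558 : act 0 n214987 = n216925 := d20_4 (iv4 F481138) F482205 F482203 (iv3 F481128) (iv3 D216925) (iv4 D186378) (iv1 F294490) D102866 (iv3 F276208) D215669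
def n216926 : Q := act 5 n186378
theorem D216926 : act 5 n186378 = n216926 := rfl
theorem F486559 : act 6 n216926 = n190978 := d12_2 (iv6 F367081) D216926 (iv5 D190978) D190979 (iv5 F381795)
def n216927 : Q := act 5 n186384
theorem D216927 : act 5 n186384 = n216927 := rfl
theorem F486560 : act 2 n216927 = n186399 := d2_1 D216927 (iv5 D186399) (iv2 F289170)
theorem F486561 : act 7 n216927 = n215512 := d13_2 F377646 D216927 F480280
theorem F486562 : act 4 n216927 = n191857 := d16_2 D186384 D216927 (iv5 D191857) (iv4 D99014) (iv5 D46320) F63030 D44141 (iv7 F291535) (iv2 F136164)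
theorem F486563 : act 1 n216927 = n215513 := d17_6 (iv1 F362337) (iv5 D90241) (iv1 F293481) D88783 D186384 D216927 F480284 (iv0 F468379) (iv4 D186053)
theorem F486564 : act 0 n216927 = n215502 := d21_1 D216927 F480244 (iv6 D214320) (iv1 F327739) D199864 (iv5 F413858) (iv1 D117046) D117048 F377666 (iv1 F377664)
def n216928 : Q := act 0 n186385
theorem D216928 : act 0 n186385 = n216928 := rfl
theorem F486565 : act 4 n216928 = n200433 := d18_1 D216928 (iv1 F416427) D200440 (iv5 F457674) (iv4 D210470) (iv0 F432630) (iv4 F454047) (iv0 D209529) F367396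
theorem F486566 : act 5 n216928 = n209593 := d19_1 D216928 (iv4 F457663) F457659 (iv1 F431540) D204566 F432887 D209092 F452214 (iv5 F413620) (iv4 D199816) D199815 F413616 (iv5 F355980) (iv4 F407214) F441491 (iv1 F441490) (iv5 F486374) F486373 F377581
theorem F486567 : act 6 n216928 = n200284 := d21_5 (iv5 D90241) (iv1 F293481) D88783 D186385 D216928 F432924 F432923 F374357 (iv6 D186054) (iv1 F362337)
theorem F486568 : act 2 n186401 = n216928 := d15_3 (iv0 D216928) (iv0 F402729) F402728
theorem F486569 : act 3 n216928 = n189268 := d0_2 F367388 F486568 F376840 (iv3 F376837) (iv2 F209171)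
theorem F486570 : act 7 n216928 = n186402 := d4_2 F402728 F486568 (iv2 F402726)
theorem F486571 : act 1 n186403 = n216928 := d15_1 (iv0 F402730) F486570 (iv2 F402726)
def n216929 : Q := act 7 n186385
theorem D216929 : act 7 n186385 = n216929 := rfl
theorem F486572 : act 2 n216929 = n186403 := d4_1 D216929 (iv7 D186403) (iv2 F289171)
theorem F486573 : act 3 n216929 = n200289 := d8_1 D216929 F415842 F377581
theorem F486574 : act 4 n216929 = n215949 := d11_1 D216929 F482227 F414660
theorem F486575 : act 5 n216929 = n209164 := d13_1 D216929 F452541 F367396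
theorem F486576 : act 6 n216929 = n200276 := d14_1 D216929 F415793 (iv6 D189760) F291649 D186385
theorem F486577 : act 1 n186402 = n216929 := d15_1 D186402 (iv7 D216929) F289171
theorem F486578 : act 1 n216929 = n186401 := d15_1 F486577 (iv7 F402728) F402726
def n216930 : Q := act 6 n186387
theorem D216930 : act 6 n186387 = n216930 := rfl
theorem F486579 : act 2 n216930 = n189520 := d3_1 D216930 (iv6 D189520) F366994
theorem F486580 : act 3 n216930 = n186390 := d7_1 D216930 (iv6 D186390) D186387
theorem F486581 : act 4 n216930 = n208192 := d10_1 D216930 (iv6 D208192) F376742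
theorem F486582 : act 5 n216930 = n193991 := d12_1 D216930 (iv6 D193991) (iv5 D102564) D102565 (iv5 F366992)
theorem F486583 : act 7 n216930 = n201876 := d14_2 F377656 D216930 (iv6 F448390) (iv7 F448393) (iv6 F377655)
theorem F486584 : act 0 n208975 = n216930 := d21_4 F402766 F399777 (iv5 F399766) (iv6 F451653) (iv6 D216930) F366992 F372609 (iv5 F376710) (iv6 F376713) F402767
theorem F486585 : act 1 n208973 = n216930 := d15_1 (iv0 F466699) F486583 (iv2 F466694)
def n216931 : Q := act 5 n186388
theorem D216931 : act 5 n186388 = n216931 := rfl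
theorem F486586 : act 3 n216931 = n208193 := d6_1 D216931 (iv5 D208193) (iv3 F376737)
theorem F486587 : act 7 n216931 = n211855 := d13_2 F359562 D216931 (iv5 D211855)
def n216932 : Q := act 3 n186396
theorem D216932 : act 3 n186396 = n216932 := rfl
theorem F486588 : act 2 n216932 = n208180 := d0_1 D216932 F448267 (iv2 F370198) F377671 (iv2 F377670)
theorem F486589 : act 6 n216932 = n215649 := d7_2 F463767 D216932 (iv3 F480957)
theorem F486590 : act 7 n216932 = n208181 := d8_2 (iv7 F377667) D216932 (iv3 F448269)
theorem F486591 : act 1 n207094 = n216932 := d15_1 (iv0 F486040) F486590 (iv2 F486037)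
theorem F486592 : act 1 n216932 = n208179 := d15_1 F486591 (iv7 F486207) F486203
def n216933 : Q := act 4 n186396
theorem D216933 : act 4 n186396 = n216933 := rfl
theorem F486593 : act 6 n216933 = n201856 := d10_2 F463767 D216933 (iv4 F463766)
theorem F486594 : act 7 n216933 = n189346 := d11_2 (iv7 F377667) D216933 (iv4 F377663)
theorem F486595 : act 5 n216933 = n188599 := d18_4 (iv1 D88785) D88786 D186396 D216933 (iv4 D188599) (iv0 D92551) F67949 D88618 F293458
theorem F486596 : act 1 n216933 = n189218 := d18_8 F367041 (iv4 D186279) F293933 F72973 D94443 D189759 F377648 D216933 (iv5 D189218)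
theorem F486597 : act 0 n216933 = n190410 := d20_1 D216933 F379703 F147639 D96023 D190424 F399904 (iv1 D186422) (iv4 F289174) (iv3 D186398) D186396
theorem F486598 : act 3 n216933 = n188774 := d20_3 D88786 D186396 D216933 F374839 F144604 D93809 (iv1 F144856) (iv4 D94022) F293457 (iv1 D88785)
def n216934 : Q := act 5 n186396
theorem D216934 : act 5 n186396 = n216934 := rfl
theorem F486599 : act 1 n216934 = n216874 := d17_6 F384585 F377126 F374161 (iv5 F486595) (iv4 D216933) D216934 (iv5 D216874) F474559 F474557
def n216935 : Q := act 5 n186398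
theorem D216935 : act 5 n186398 = n216935 := rfl
theorem F486600 : act 3 n216935 = n186399 := d6_1 D216935 (iv5 D186399) D186398
theorem F486601 : act 6 n216935 = n200328 := d12_2 (iv6 F367385) D216935 (iv5 D200328) (iv6 D112984) D112983
theorem F486602 : act 7 n216935 = n215701 := d13_2 (iv7 F289175) D216935 (iv5 D215701)
def n216936 : Q := act 1 n186399
theorem D216936 : act 1 n186399 = n216936 := rfl
theorem F486603 : act 1 n216936 = n215512 := d15_1 D216936 (iv7 F486561) F486560
theorem F486604 : act 7 n216936 = n215502 := d15_2 (iv0 F376739) D216936 F480242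
theorem F486605 : act 5 n216936 = n194166 := d17_7 F294491 (iv5 D88781) (iv1 D41447) D41449 D88786 D186399 D216936 F474576 F474574
theorem F486606 : act 3 n190932 = n216936 := d19_19 (iv1 D216936) (iv5 D186399) (iv4 D88786) F63891 D41450 F63892 F63763 F32424 (iv1 F32894) F32896 (iv4 F33406) F33405 (iv1 D12901) D12903 D26963 D55898 D121140 (iv5 F257591) (iv4 F381592)
theorem F486607 : act 2 n216936 = n215513 := d0_1 F486606 F480283 (iv2 F479472) F479473 (iv2 F381591)
theorem F486608 : act 6 n216936 = n190930 := d7_2 D190932 F486606 F381582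
def n216937 : Q := act 4 n186399
theorem D216937 : act 4 n186399 = n216937 := rfl
theorem F486609 : act 2 n216937 = n191857 := d1_1 D216937 (iv4 F486562) F486560
theorem F486610 : act 5 n216937 = n191850 := d9_2 D186399 D216937 (iv4 D191850) (iv5 D99010) F72973 D94443 D189759 (iv5 F480280) (iv4 F486492) (iv5 D216905) (iv4 D186290) (iv5 D88738) F63875 D41449 D88786
def n216938 : Q := act 6 n186399
theorem D216938 : act 6 n186399 = n216938 := rfl
theorem F486611 : act 3 n216938 = n200328 := d7_1 D216938 (iv6 F486601) F486600
theorem F486612 : act 5 n216938 = n200322 := d12_1 D216938 (iv6 D200322) F367386 (iv6 D186400) D186399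
def n216939 : Q := act 6 n186408
theorem D216939 : act 6 n186408 = n216939 := rfl
theorem F486613 : act 2 n216939 = n215715 := d3_1 D216939 (iv6 D215715) (iv2 F365430)
theorem F486614 : act 3 n216939 = n190010 := d7_1 D216939 F416202 (iv3 F416201)
theorem F486615 : act 4 n216939 = n211872 := d10_1 D216939 (iv6 D211872) F365429
theorem F486616 : act 5 n216939 = n189502 := d21_6 (iv5 D41362) D41360 (iv5 F63892) D88789 D186408 D216939 (iv1 D189502) (iv5 F292426) (iv6 D90995) F66455
theorem F486617 : act 0 n207220 = n216939 := d21_4 (iv5 F292000) D188669 F374362 D207220 (iv6 D216939) (iv5 F443267) (iv1 F451688) F451685 F380007 (iv1 D186056)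
theorem F486618 : act 1 n186438 = n216939 := d15_0 (iv0 F486617) F443870 F377628
def n216940 : Q := act 5 n186415
theorem D216940 : act 5 n186415 = n216940 := rfl
theorem F486619 : act 2 n216940 = n214570 := d2_1 D216940 F475842 (iv2 F376451)
theorem F486620 : act 3 n216940 = n197018 := d6_1 D216940 F402703 F379992
theorem F486621 : act 7 n216940 = n214571 := d13_2 (iv7 F289201) D216940 F475846
theorem F486622 : act 4 n216940 = n211207 := d16_2 D186415 D216940 F460608 (iv4 D188601) (iv5 D92564) (iv4 F136020) D186137 (iv7 F289197) (iv2 D186414)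
theorem F486623 : act 0 n216940 = n214569 := d17_2 F376203 D216940 F475840 (iv4 D212975) (iv5 F238549) F288411 F288409 F288413 D189244
theorem F486624 : act 1 n216940 = n189405 := d17_6 D151944 (iv5 F349276) (iv1 D91046) (iv5 F136169) D186415 D216940 (iv5 D189405) (iv0 F238931) F238930
def n216941 : Q := act 6 n186423
theorem D216941 : act 6 n186423 = n216941 := rfl
theorem F486625 : act 2 n216941 = n186424 := d3_1 D216941 (iv6 D186424) D186423
theorem F486626 : act 3 n216941 = n202845 := d7_1 D216941 (iv6 D202845) F350529
theorem F486627 : act 4 n216941 = n200319 := d10_1 D216941 (iv6 F463045) F463044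
theorem F486628 : act 5 n216941 = n197119 := d12_1 D216941 (iv6 F472324) F472323 (iv6 F382064) (iv5 F289213)
theorem F486629 : act 7 n216941 = n191085 := d14_2 (iv7 F289214) D216941 F416024 F445706 F380959
theorem F486630 : act 0 n216941 = n191084 := d21_4 F443829 (iv1 F258603) (iv5 F289213) D216941 F382160 (iv5 D108169) D108166 (iv5 F246891) F353359 D189723
theorem F486631 : act 1 n216941 = n190769 := d15_1 (iv0 F486630) F380980 (iv2 F382158)
def n216942 : Q := act 7 n186424
theorem D216942 : act 7 n186424 = n216942 := rfl
theorem F486632 : act 2 n216942 = n191085 := d4_1 D216942 (iv7 F486629) F486625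
theorem F486633 : act 3 n216942 = n186428 := d8_1 D216942 (iv7 D186428) (iv3 F289218)
theorem F486634 : act 4 n216942 = n200325 := d11_1 D216942 (iv7 D200325) F367383
theorem F486635 : act 5 n216942 = n190224 := d13_1 D216942 (iv7 F392701) F392702
theorem F486636 : act 6 n216942 = n190764 := d14_1 D216942 F380957 (iv6 D176915) (iv7 F136173) D186424
theorem F486637 : act 1 n190769 = n216942 := d15_1 F486631 (iv7 D216942) (iv2 F486625)
theorem F486638 : act 1 n216942 = n191084 := d15_1 F486637 (iv7 F482384) F482381
def n216943 : Q := act 3 n186425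
theorem D216943 : act 3 n186425 = n216943 := rfl
theorem F486639 : act 2 n216943 = n200405 := d0_1 D216943 F416313 (iv2 F380881) F380882 F367382
theorem F486640 : act 5 n216943 = n207519 := d6_2 (iv5 F367381) D216943 F445263
theorem F486641 : act 6 n216943 = n195210 := d7_2 F385805 D216943 (iv3 F396274)
theorem F486642 : act 7 n216943 = n208450 := d8_2 F367398 D216943 F449404
theorem F486643 : act 0 n215299 = n216943 := d20_4 (iv4 D133290) F175860 (iv4 F379455) (iv3 F479274) (iv3 D216943) (iv4 F369403) (iv1 F369407) F293806 (iv3 F360274) F238526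
def n216944 : Q := act 6 n186426
theorem D216944 : act 6 n186426 = n216944 := rfl
theorem F486644 : act 2 n216944 = n215712 := d3_1 D216944 (iv6 D215712) (iv2 F367399)
theorem F486645 : act 3 n216944 = n190487 := d7_1 D216944 F379881 F378353
theorem F486646 : act 4 n216944 = n190489 := d10_1 D216944 (iv6 F379887) F369399
theorem F486647 : act 7 n216944 = n215716 := d14_2 (iv7 F367397) D216944 (iv6 F481220) (iv7 D193699) F353343
theorem F486648 : act 0 n211872 = n216944 := d20_1 F486615 F486646 (iv3 D190489) F147671 D190004 F378536 (iv1 D130621) (iv4 F209197) (iv3 F443867) F486617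
theorem F486649 : act 0 n216944 = n215718 := d20_4 F443901 (iv1 D190486) D190487 (iv3 F486645) F482973 (iv4 D216103) (iv1 D180639) D180640 (iv3 F379090) F443903
def n216945 : Q := act 1 n186427
theorem D216945 : act 1 n186427 = n216945 := rfl
theorem F486650 : act 1 n216945 = n215713 := d15_1 D216945 (iv7 D215713) (iv2 F289220)
theorem F486651 : act 7 n216945 = n212766 := d15_2 (iv0 F391881) D216945 F467422
theorem F486652 : act 4 n216945 = n199267 := d17_9 F411389 F391998 (iv1 D111215) (iv5 F335713) (iv4 F367380) (iv5 F367381) (iv0 D186425) D186427 D216945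
theorem F486653 : act 3 n210813 = n216945 := d19_19 (iv1 D216945) (iv5 D186427) F136175 (iv3 F136165) D186401 (iv5 F468882) (iv4 F468884) F448226 (iv1 D193650) (iv5 D102163) (iv4 F328304) (iv3 F327122) F335866 (iv5 D69045) F51069 (iv3 F51061) D69026 (iv5 F356831) (iv4 F458876)
theorem F486654 : act 6 n210017 = n216945 := d21_3 F373095 (iv1 F244981) (iv5 F455768) (iv1 D216945) F289221 (iv5 D164087) (iv1 F325300) D109622 (iv6 F387859) (iv1 F387860)
theorem F486655 : act 2 n216945 = n199268 := d3_1 F486654 F411391 (iv2 F455771)
def n216946 : Q := act 7 n186427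
theorem D216946 : act 7 n186427 = n216946 := rfl
theorem F486656 : act 2 n216946 = n215713 := d4_1 D216946 (iv7 D215713) (iv2 F289220)
theorem F486657 : act 3 n216946 = n190224 := d8_1 D216946 (iv7 F392701) (iv3 F392706)
theorem F486658 : act 5 n216946 = n186428 := d13_1 D216946 (iv7 D186428) D186427
theorem F486659 : act 6 n216946 = n190221 := d14_1 D216946 (iv7 F432339) F432338 F390521 (iv6 F289221)
theorem F486660 : act 1 n199268 = n216946 := d15_1 (iv0 F411393) (iv7 D216946) F289220
theorem F486661 : act 1 n216946 = n212766 := d15_1 F486660 (iv7 F486651) F486655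
def n216947 : Q := act 1 n186432
theorem D216947 : act 1 n186432 = n216947 := rfl
theorem F486662 : act 1 n216947 = n186437 := d15_1 D216947 F377613 F377611
theorem F486663 : act 7 n216947 = n188806 := d15_2 F398544 D216947 (iv2 F398540)
theorem F486664 : act 4 n216947 = n197533 := d17_9 (iv1 F404785) (iv5 D197550) (iv1 F167825) (iv5 F405119) (iv4 F405122) F377635 F291643 D186432 D216947
theorem F486665 : act 3 n208874 = n216947 := d19_19 (iv1 D216947) (iv5 D186432) (iv4 F374373) F214534 D133419 F381253 F381252 (iv3 F364500) (iv1 F379810) (iv5 D190458) (iv4 F147782) (iv3 F356254) F352912 F352910 D193656 (iv3 F403728) (iv1 F434915) F434913 (iv4 F451200)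
theorem F486666 : act 6 n216947 = n188051 := d7_2 D208874 F486665 F374723
def n216948 : Q := act 4 n186432
theorem D216948 : act 4 n186432 = n216948 := rfl
theorem F486667 : act 2 n216948 = n215258 := d1_1 D216948 F479081 F377611
theorem F486668 : act 3 n216948 = n191945 := d5_1 D216948 (iv4 D191945) (iv3 F384930) (iv4 F447940) F447938
theorem F486669 : act 7 n216948 = n192664 := d11_2 F377624 D216948 F387411
theorem F486670 : act 5 n216948 = n197571 := d16_1 D216948 F404873 F368664 (iv4 F368651) F368652 F374375 D186437 F377613 F377611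
theorem F486671 : act 0 n216948 = n212874 := d20_1 D216948 F467900 F237968 D151238 F467877 F467873 (iv1 F444896) (iv4 F451200) F486665 (iv1 D216947)
theorem F486672 : act 6 n214262 = n216948 := d21_3 (iv5 D214276) (iv1 F280712) F474293 F486671 (iv6 D212874) (iv5 F401146) (iv1 D196583) (iv5 F349170) F372144 F474356
def n216949 : Q := act 6 n186432
theorem D216949 : act 6 n186432 = n216949 := rfl
theorem F486673 : act 2 n216949 = n212311 := d3_1 D216949 F468088 F377611
theorem F486674 : act 4 n216949 = n214262 := d10_1 D216949 F486672 (iv4 D216948)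
theorem F486675 : act 5 n216949 = n189007 := d12_1 D216949 (iv6 D189007) (iv5 F374370) F374371 D186432
theorem F486676 : act 7 n216949 = n188067 := d14_2 F377624 D216949 (iv6 D188067) (iv7 F376847) F377626
def n216950 : Q := act 2 n186435
theorem D216950 : act 2 n186435 = n216950 := rfl
theorem F486677 : act 6 n216950 = n190446 := d3_2 (iv6 F468079) D216950 F448410
theorem F486678 : act 7 n216950 = n212982 := d4_2 (iv7 F377612) D216950 F468448
theorem F486679 : act 1 n216950 = n212983 := d15_0 F468455 (iv7 F377612) D216950
theorem F486680 : act 1 n212930 = n216950 := d15_0 F486679 F468454 (iv2 F468178)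
def n216951 : Q := act 4 n186435
theorem D216951 : act 4 n186435 = n216951 := rfl
theorem F486681 : act 3 n216951 = n216348 := d5_1 D216951 F483956 F377978 F374375 D186435
theorem F486682 : act 6 n216951 = n189495 := d10_2 (iv6 F468079) D216951 (iv4 F448409)
theorem F486683 : act 7 n216951 = n214572 := d11_2 (iv7 F377612) D216951 F475851
theorem F486684 : act 5 n216951 = n212849 := d16_1 D216951 F467776 (iv5 F403365) F403364 F398873 F468081 F468447 (iv7 F486678) (iv2 D216950)
def n216952 : Q := act 4 n186437
theorem D216952 : act 4 n186437 = n216952 := rfl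
theorem F486685 : act 2 n216952 = n192664 := d1_1 D216952 F387411 F377623
theorem F486686 : act 5 n216952 = n188923 := d9_2 D186437 D216952 F375211 F294169 (iv4 F367280) F367281 F374373 D186432 D216948 F486670 F404873 F368664 (iv4 F368651) F368652 F374375
theorem F486687 : act 6 n216952 = n188061 := d10_2 F367257 D216952 (iv4 D188061)
theorem F486688 : act 7 n216952 = n215258 := d11_2 (iv7 F377613) D216952 F479081
theorem F486689 : act 1 n216952 = n212874 := d18_6 (iv1 F369412) (iv4 F447990) (iv1 F447993) F374375 D186437 D216952 F467900 (iv0 F377319) (iv5 D189669)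
def n216953 : Q := act 0 n186438
theorem D216953 : act 0 n186438 = n216953 := rfl
theorem F486690 : act 5 n216953 = n189501 := d17_1 D216953 F399005 F399003 (iv4 F416117) (iv5 F477199) F477201 (iv5 F443892) (iv0 F481008) F481006
theorem F486691 : act 4 n216953 = n215718 := d20_2 F481006 D216953 F482973 F482970 F473928 (iv4 F399381) F399383 F382687 (iv3 F382681) F481009
theorem F486692 : act 3 n216953 = n199860 := d20_5 (iv4 D189497) D189495 (iv4 F448409) F468080 D216953 (iv4 D199860) (iv1 F326851) (iv4 F377393) (iv3 D189685) (iv1 F376715)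
theorem F486693 : act 6 n216953 = n212473 := d21_5 (iv5 F398542) F398543 (iv5 D186437) D186438 D216953 (iv5 D212473) F392251 (iv5 D194173) D194174 F400392
theorem F486694 : act 7 n215715 = n216953 := d14_0 F486693 F465969 F444740 (iv7 F365433) D215715
theorem F486695 : act 0 n216953 = n207220 := d21_4 D194175 F392259 D212473 (iv6 F486693) (iv6 D207220) (iv5 F374362) (iv1 F374368) F292045 D186262 (iv1 F289015)
def n216954 : Q := act 5 n186438
theorem D216954 : act 5 n186438 = n216954 := rfl
theorem F486696 : act 6 n216954 = n188062 := d12_2 D186438 D216954 (iv5 D188062) F367257 (iv5 D186437)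
theorem F486697 : act 0 n216954 = n216891 := d21_1 D216954 (iv5 D216891) F443284 (iv1 D207093) (iv6 F443270) (iv5 D207090) D207089 F443267 D216939 (iv1 F486618)
theorem F486698 : act 0 n196206 = n216954 := d19_0 (iv5 D216954) (iv4 F481006) F481005 (iv1 D189234) D189236 F376175 (iv3 F378860) (iv1 F476356) F476353 (iv4 F373677) F382655 (iv1 D191227) F294702 F262091 D215105 F478375 F476460 F399880 (iv3 F399872)
def n216955 : Q := act 7 n186438
theorem D216955 : act 7 n186438 = n216955 := rfl
theorem F486699 : act 2 n216955 = n207220 := d4_1 D216955 F443870 F377628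
theorem F486700 : act 3 n216955 = n190447 := d8_1 D216955 (iv7 F448408) F468080
theorem F486701 : act 4 n216955 = n207225 := d11_1 D216955 (iv7 F481007) F481006
theorem F486702 : act 6 n216955 = n189005 := d14_1 D216955 F377603 (iv6 D189749) F377607 D186438
theorem F486703 : act 1 n215715 = n216955 := d15_1 (iv0 F481217) (iv7 D216955) (iv2 F377628)
def n216956 : Q := act 1 n186441
theorem D216956 : act 1 n186441 = n216956 := rfl
theorem F486704 : act 1 n216956 = n191140 := d15_1 D216956 F382389 F379083
theorem F486705 : act 7 n216956 = n191334 := d15_2 (iv0 F381222) D216956 F383088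
theorem F486706 : act 5 n216956 = n187600 := d17_7 (iv1 F138328) (iv5 F295136) (iv1 F335371) (iv5 D97095) (iv4 F136177) D186441 D216956 F370978 (iv4 D187404)
theorem F486707 : act 3 n188286 = n216956 := d19_19 (iv1 D216956) (iv5 D186441) F136177 (iv3 F149789) F157254 F364442 F270262 F355649 (iv1 F376473) (iv5 F376474) (iv4 D133277) D133276 (iv1 F344350) (iv5 F407049) F407048 F169008 (iv1 F168546) (iv5 F172905) (iv4 F372956)
theorem F486708 : act 2 n216956 = n186778 := d0_1 F486707 (iv3 D186778) F357557 (iv3 F357535) (iv2 F372955)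
theorem F486709 : act 6 n216956 = n212445 := d7_2 F409138 F486707 F465822
theorem F486710 : act 4 n216956 = n216153 := d20_6 D182036 (iv1 F295201) (iv4 D91182) D91181 (iv1 F372959) F486707 (iv1 D216153) (iv4 D182025) F133427 D86944
def n216957 : Q := act 0 n186444
theorem D216957 : act 0 n186444 = n216957 := rfl
theorem F486711 : act 4 n216957 = n189073 := d18_3 (iv1 F295170) D186444 D216957 F375637 (iv4 F370987) (iv0 D187602) (iv4 D90387) (iv0 D42255) D42258
theorem F486712 : act 5 n216957 = n201631 := d21_2 F465255 D216957 (iv6 D201631) (iv1 F420513) (iv6 D146520) (iv5 D68683) (iv1 F104885) (iv5 F229678) D212264 (iv1 F465256)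
theorem F486713 : act 6 n216957 = n201432 := d21_5 F370761 F360280 (iv5 F402790) (iv6 F402793) D216957 F420495 D201632 (iv5 F421311) D203349 F427996
theorem F486714 : act 1 n187616 = n216957 := d15_0 (iv0 D216957) (iv7 F373071) F373070
theorem F486715 : act 7 n216957 = n212888 := d15_2 F483902 F486714 (iv2 F483899)
theorem F486716 : act 3 n201433 = n216957 := d20_9 (iv4 D187616) (iv1 D90397) D90398 (iv3 F140236) (iv1 F295015) (iv3 F284757) (iv4 F474362) F474363 F461368 (iv1 F486714)
theorem F486717 : act 0 n212308 = n209088 := d19_8 F356728 (iv5 F461371) F461368 F486716 (iv1 F486714) (iv5 F465251) (iv4 D212309) D212308 F452195 (iv4 F453068) F453064 (iv1 F375558) (iv5 F444329) F444328 F209391 F338459 (iv5 F338715) (iv4 F405837) F405836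
theorem F486718 : act 1 n212308 = n213088 := d15_1 (iv0 F486717) F468953 (iv2 F452193)
def n216958 : Q := act 6 n186448
theorem D216958 : act 6 n186448 = n216958 := rfl
theorem F486719 : act 2 n216958 = n216166 := d3_1 D216958 (iv6 D216166) (iv2 F344264)
theorem F486720 : act 3 n216958 = n186548 := d7_1 D216958 F346010 F289260
theorem F486721 : act 4 n216958 = n186662 := d10_1 D216958 (iv6 D186662) F289261
theorem F486722 : act 5 n216958 = n215811 := d12_1 D216958 (iv6 F481667) F456179 (iv6 D210105) F344343
theorem F486723 : act 7 n216958 = n210113 := d14_2 F344262 D216958 F456219 F388523 (iv6 D186797)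
theorem F486724 : act 0 n216958 = n216415 := d21_4 D194179 F392275 F344343 D216958 F484269 F374433 F183694 D150780 (iv6 F361054) (iv1 F367152)
theorem F486725 : act 0 n189623 = n216958 := d21_4 (iv5 F349357) (iv1 F349361) F340084 D189623 (iv6 D216958) (iv5 F344343) F384132 F384130 (iv6 F357336) (iv1 F349360)
def n216959 : Q := act 6 n186484
theorem D216959 : act 6 n186484 = n216959 := rfl
theorem F486726 : act 2 n216959 = n203057 := d3_1 D216959 F426819 F356587
theorem F486727 : act 3 n216959 = n186491 := d7_1 D216959 (iv6 D186491) (iv3 F289349)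
theorem F486728 : act 4 n216959 = n202898 := d10_1 D216959 (iv6 D202898) F346300
theorem F486729 : act 5 n216959 = n216431 := d12_1 D216959 (iv6 D216431) F289351 (iv6 D186485) D186484
theorem F486730 : act 7 n216959 = n199375 := d14_2 F356603 D216959 (iv6 D199375) F356565 (iv6 F335196)
theorem F486731 : act 0 n216959 = n187441 := d21_4 (iv5 F356971) F289544 D186484 D216959 F370330 F349478 (iv1 F359469) (iv5 F425172) F425173 F340883
theorem F486732 : act 0 n212637 = n216959 := d21_4 D117260 D202920 F426191 D212637 (iv6 D216959) (iv5 D186484) D186482 (iv5 F390386) (iv6 F390390) (iv1 D117259)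
def n216960 : Q := act 7 n186485
theorem D216960 : act 7 n186485 = n216960 := rfl
theorem F486733 : act 2 n216960 = n205259 := d4_1 D216960 F435642 F379134
theorem F486734 : act 3 n216960 = n186493 := d8_1 D216960 (iv7 D186493) (iv3 F289350)
theorem F486735 : act 4 n216960 = n191158 := d11_1 D216960 F382435 F369578
theorem F486736 : act 5 n216960 = n191278 := d13_1 D216960 F382866 F289351
theorem F486737 : act 6 n216960 = n191157 := d14_1 D216960 F382429 F374426 F147448 D186485
theorem F486738 : act 1 n186906 = n216960 := d15_1 (iv0 F392569) (iv7 D216960) (iv2 F379134)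
theorem F486739 : act 1 n216960 = n215233 := d15_1 F486738 F478980 F414238
def n216961 : Q := act 4 n186542
theorem D216961 : act 4 n186542 = n216961 := rfl
theorem F486740 : act 2 n216961 = n186546 := d1_1 D216961 (iv4 D186546) (iv2 F289462)
theorem F486741 : act 3 n216961 = n202881 := d5_1 D216961 (iv4 F464024) F464025 (iv4 D186891) (iv3 F289463)
theorem F486742 : act 5 n216961 = n212822 := d9_2 D186542 D216961 F467626 F449468 (iv4 D186941) (iv5 D89404) (iv4 D41748) D41749 D89408 D186946 (iv4 F465325) (iv5 F483488) (iv4 D216250) (iv5 D182236) (iv4 F136222)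
theorem F486743 : act 6 n216961 = n203006 := d10_2 F346067 D216961 (iv4 D203006)
theorem F486744 : act 7 n216961 = n186937 := d11_2 (iv7 F289464) D216961 (iv4 D186937)
theorem F486745 : act 0 n216961 = n186945 := d17_0 F369009 D204423 F432475 F337277 F136266 F344226 F344225 F289465 D216961
theorem F486746 : act 1 n216961 = n186944 := d18_6 (iv1 D87360) F61723 F335586 (iv4 F136222) D186542 D216961 F369423 F369421 (iv5 D182995)
def n216962 : Q := act 6 n186544
theorem D216962 : act 6 n186544 = n216962 := rfl
theorem F486747 : act 2 n216962 = n186943 := d3_1 D216962 (iv6 D186943) F344223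
theorem F486748 : act 3 n216962 = n203153 := d7_1 D216962 (iv6 F429153) F429151
theorem F486749 : act 4 n216962 = n202926 := d10_1 D216962 (iv6 D202926) F344206
theorem F486750 : act 5 n216962 = n192966 := d12_1 D216962 (iv6 D192966) (iv5 D101041) (iv6 F344200) (iv5 F344202)
theorem F486751 : act 7 n216962 = n203029 := d14_2 F356787 D216962 (iv6 D203029) F184153 (iv6 F356786)
theorem F486752 : act 0 n216962 = n203077 := d21_10 F453477 (iv1 D209379) (iv5 F220643) (iv6 D137442) (iv1 F328461) (iv6 F329604) F73588 D99752 (iv5 F344202) D216962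
theorem F486753 : act 0 n208527 = n216962 := d21_4 (iv5 F331619) (iv1 F216304) (iv5 F216527) D208527 (iv6 D216962) F344202 (iv1 F287569) F337255 (iv6 F337256) (iv1 F339494)
def n216963 : Q := act 5 n186552
theorem D216963 : act 5 n186552 = n216963 := rfl
theorem F486754 : act 2 n216963 = n186924 := d2_1 D216963 (iv5 D186924) (iv2 F289482)
theorem F486755 : act 3 n216963 = n187358 := d6_1 D216963 F369949 F362113
theorem F486756 : act 6 n216963 = n192149 := d12_2 D186552 D216963 (iv5 D192149) (iv6 D99802) (iv5 F136234)
theorem F486757 : act 7 n216963 = n206168 := d13_2 F362116 D216963 (iv5 D206168)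
theorem F486758 : act 0 n216963 = n190918 := d17_2 F369057 D216963 (iv5 D190918) D190917 (iv5 F391025) (iv0 D187091) (iv5 D89534) D89533 D187088
theorem F486759 : act 1 n216963 = n190851 := d17_6 (iv1 F368359) F368363 (iv1 D102355) (iv5 F136236) (iv4 F289483) D216963 (iv5 D190851) D190848 F381318
def n216964 : Q := act 6 n186554
theorem D216964 : act 6 n186554 = n216964 := rfl
theorem F486760 : act 2 n216964 = n186930 := d3_1 D216964 (iv6 D186930) F368297
theorem F486761 : act 3 n216964 = n211636 := d7_1 D216964 (iv6 F462473) (iv3 F430373)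
theorem F486762 : act 4 n216964 = n187079 := d10_1 D216964 (iv6 F430387) F430386
theorem F486763 : act 7 n216964 = n193631 := d14_2 (iv7 F368296) D216964 (iv6 D193631) (iv7 F368292) (iv6 F368293)
theorem F486764 : act 0 n216964 = n203078 := d21_4 F307501 D193556 F390264 D216964 F426895 (iv5 D134541) F216262 F367303 F367312 (iv1 F361981)
def n216965 : Q := act 5 n186562
theorem D216965 : act 5 n186562 = n216965 := rfl
theorem F486765 : act 2 n216965 = n186889 := d2_1 D216965 (iv5 D186889) F364383
theorem F486766 : act 3 n216965 = n187222 := d6_1 D216965 (iv5 D187222) (iv3 F289499)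
theorem F486767 : act 7 n216965 = n186755 := d13_2 F364381 D216965 (iv5 D186755)
theorem F486768 : act 0 n216965 = n190238 := d17_2 F289500 D216965 F387932 F387929 F356338 (iv0 F348701) (iv5 F357339) F367597 F367596
theorem F486769 : act 1 n216965 = n190279 := d17_6 (iv1 F156944) F156941 (iv1 F156959) F335751 D186562 D216965 F390384 (iv0 D193590) (iv4 D101996)
def n216966 : Q := act 4 n186565
theorem D216966 : act 4 n186565 = n216966 := rfl
theorem F486770 : act 2 n216966 = n186569 := d1_1 D216966 (iv4 D186569) (iv2 F289502)
theorem F486771 : act 3 n216966 = n201609 := d5_1 D216966 F421132 (iv3 F368578) (iv4 D186937) (iv3 F289503)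
theorem F486772 : act 6 n216966 = n189423 := d10_2 F411573 D216966 (iv4 F411571)
theorem F486773 : act 7 n216966 = n186891 := d11_2 (iv7 F289504) D216966 (iv4 D186891)
theorem F486774 : act 5 n216966 = n187539 := d16_7 (iv4 F139594) D187919 (iv4 F378836) (iv5 D190094) F147290 D186565 D216966 (iv7 D187539) F138928
theorem F486775 : act 0 n216966 = n186903 := d18_2 (iv1 F289506) D216966 (iv4 F369144) F374166 F374164 F158638 F158634 F156944 (iv5 F357146)
theorem F486776 : act 1 n216966 = n186902 := d18_6 (iv1 F367597) F137664 (iv1 F147292) F147290 D186565 D216966 F369427 F372379 F372377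
def n216967 : Q := act 0 n186569
theorem D216967 : act 0 n186569 = n216967 := rfl
theorem F486777 : act 5 n216967 = n187969 := d17_1 D216967 F421110 (iv5 D201604) (iv4 F363409) (iv5 D101968) (iv0 F357545) (iv5 F362409) (iv0 D186567) D186569
theorem F486778 : act 4 n216967 = n189889 := d18_1 D216967 F378890 F378888 F369123 (iv4 F370841) (iv0 F420448) F420446 F178534 (iv5 F347695)
theorem F486779 : act 3 n216967 = n212920 := d20_5 (iv4 F353123) F220705 (iv4 F352664) F347694 D216967 F468126 F466034 F354322 (iv3 F401766) F401769
theorem F486780 : act 2 n186903 = n216967 := d15_3 (iv0 D216967) (iv0 F462630) F462629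
theorem F486781 : act 1 n186891 = n216967 := d15_0 (iv0 D216967) F289511 (iv2 F368423)
theorem F486782 : act 7 n216967 = n186902 := d15_2 (iv0 F462632) F486781 (iv2 F462631)
theorem F486783 : act 6 n194227 = n216967 := d14_5 F486782 F368460 (iv7 F420976) F420975 F396230
def n216968 : Q := act 5 n186581
theorem D216968 : act 5 n186581 = n216968 := rfl
theorem F486784 : act 2 n216968 = n186982 := d2_1 D216968 (iv5 D186982) (iv2 F367313)
theorem F486785 : act 3 n216968 = n190745 := d6_1 D216968 (iv5 F393205) F393202
theorem F486786 : act 6 n216968 = n192209 := d12_2 D186581 D216968 (iv5 D192209) (iv6 D99855) F136276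
theorem F486787 : act 0 n216968 = n200275 := d17_2 (iv1 F449578) D216968 F415790 F242307 (iv5 F308420) (iv0 F156325) F147809 D186579 (iv4 F449576)
def n216969 : Q := act 5 n186582
theorem D216969 : act 5 n186582 = n216969 := rfl
theorem F486788 : act 2 n216969 = n186991 := d2_1 D216969 (iv5 D186991) (iv2 F378674)
theorem F486789 : act 7 n216969 = n186994 := d13_2 (iv7 F378675) D216969 (iv5 D186994)
theorem F486790 : act 0 n193686 = n216969 := d21_10 (iv5 D216969) (iv1 F367315) D186872 F368392 F137024 (iv6 F156647) (iv5 D101782) D101780 F157086 D193686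
def n216970 : Q := act 5 n186583
theorem D216970 : act 5 n186583 = n216970 := rfl
theorem F486791 : act 2 n216970 = n186994 := d2_1 D216970 (iv5 D186994) (iv2 F378676)
theorem F486792 : act 3 n216970 = n193480 := d6_1 D216970 F411617 F411615
theorem F486793 : act 7 n216970 = n186991 := d13_2 (iv7 F378677) D216970 (iv5 D186991)
theorem F486794 : act 0 n216970 = n193686 := d17_2 (iv1 F367316) D216970 F390690 F391884 (iv5 D194051) (iv0 D102612) (iv5 F137107) F368389 F368387
theorem F486795 : act 6 n192524 = n216970 := d21_5 F292285 F291436 D46789 (iv6 F154253) D192524 (iv5 D216970) (iv1 D186583) (iv5 F288565) (iv6 D186006) (iv1 F135768)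
theorem F486796 : act 4 n216970 = n216280 := d10_1 F486795 F483608 (iv4 F470224)
def n216971 : Q := act 5 n186588
theorem D216971 : act 5 n186588 = n216971 := rfl
theorem F486797 : act 2 n216971 = n187083 := d2_1 D216971 (iv5 D187083) (iv2 F367338)
theorem F486798 : act 3 n216971 = n206159 := d6_1 D216971 (iv5 D206159) (iv3 F367339)
theorem F486799 : act 6 n216971 = n192162 := d12_2 D186588 D216971 (iv5 D192162) (iv6 D99809) (iv5 F136317)
theorem F486800 : act 0 n216971 = n213576 := d17_2 F430389 D216971 (iv5 D213576) (iv4 D154361) (iv5 F368546) (iv0 D102354) (iv5 F136236) D186554 (iv4 F430386)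
def n216972 : Q := act 7 n186588
theorem D216972 : act 7 n186588 = n216972 := rfl
theorem F486801 : act 2 n216972 = n187084 := d4_1 D216972 (iv7 D187084) (iv2 F367338)
theorem F486802 : act 3 n216972 = n189952 := d8_1 D216972 F378355 (iv3 F367339)
theorem F486803 : act 4 n216972 = n186592 := d11_1 D216972 (iv7 D186592) (iv4 F367340)
theorem F486804 : act 6 n216972 = n187122 := d14_1 D216972 (iv7 D187122) (iv6 D89575) (iv7 F136316) D186588
theorem F486805 : act 1 n186929 = n216972 := d15_1 (iv0 F368539) (iv7 D216972) F367338
theorem F486806 : act 1 n216972 = n186927 := d15_1 F486805 (iv7 F430388) (iv2 F430391)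
def n216973 : Q := act 5 n186589
theorem D216973 : act 5 n186589 = n216973 := rfl
theorem F486807 : act 2 n216973 = n187086 := d2_1 D216973 (iv5 D187086) F367342
theorem F486808 : act 6 n216973 = n193970 := d12_2 (iv6 F367341) D216973 (iv5 D193970) (iv6 D102510) D102509
theorem F486809 : act 7 n216973 = n187089 := d13_2 F367344 D216973 (iv5 D187089)
theorem F486810 : act 4 n216973 = n210414 := d16_2 F368517 D216973 (iv5 D210414) (iv4 F415570) (iv5 F476457) F476456 F381550 F368520 F368515
theorem F486811 : act 0 n216973 = n204119 := d17_2 D186589 D216973 (iv5 D204119) (iv4 F367871) (iv5 F476581) (iv0 D214732) (iv5 F414764) (iv0 F414767) F367340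
theorem F486812 : act 0 n215591 = n216973 := d21_10 (iv5 D216973) F367343 (iv5 F369063) F387907 (iv1 F387908) (iv6 F454942) (iv5 F457864) F457865 F387618 (iv6 F480677)
theorem F486813 : act 1 n215591 = n194104 := d15_1 (iv0 F486812) (iv7 F392063) (iv2 F486807)
def n216974 : Q := act 3 n186590
theorem D216974 : act 3 n186590 = n216974 := rfl
theorem F486814 : act 2 n216974 = n200183 := d0_1 D216974 (iv3 F465333) F465332 (iv3 D187087) F367347
theorem F486815 : act 4 n216974 = n200156 := d5_2 (iv4 F368522) D216974 F415284 F408983 F368521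
theorem F486816 : act 7 n216974 = n187085 := d8_2 (iv7 F367346) D216974 (iv3 D187085)
theorem F486817 : act 0 n216974 = n191409 := d20_10 F383392 (iv1 D147378) (iv4 F184086) F184085 D117515 F362114 F362115 (iv1 F368519) (iv4 F368522) D216974
theorem F486818 : act 0 n212493 = n216974 := d20_4 (iv4 D92503) (iv1 F139804) (iv4 F369075) (iv3 F466071) (iv3 D216974) F368522 (iv1 D186923) F137069 (iv3 F137039) F347698
theorem F486819 : act 5 n194097 = n216974 := d21_0 F486817 (iv5 F391050) F391051 F383396 (iv6 F383579) (iv5 D191495) F331891 (iv5 F392055) (iv6 D194100) D194097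
theorem F486820 : act 3 n194104 = n194097 := d6_3 F486819 (iv3 D216974) (iv5 F392062)
theorem F486821 : act 6 n216974 = n200158 := d21_3 F367266 D194097 F486819 (iv1 F430594) (iv6 F468272) F468268 (iv1 F448722) (iv5 D205012) (iv6 F374130) (iv1 D188593)
theorem F486822 : act 6 n194097 = n194102 := d7_2 D194104 F486820 (iv3 D194102)
def n216975 : Q := act 6 n186590
theorem D216975 : act 6 n186590 = n216975 := rfl
theorem F486823 : act 2 n216975 = n187090 := d3_1 D216975 (iv6 D187090) F367347
theorem F486824 : act 3 n216975 = n200158 := d7_1 D216975 (iv6 F486821) (iv3 D216974)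
theorem F486825 : act 4 n216975 = n199964 := d10_1 D216975 F414369 (iv4 F368522)
theorem F486826 : act 7 n216975 = n193962 := d14_2 (iv7 F367346) D216975 (iv6 D193962) F349497 (iv6 F362580)
theorem F486827 : act 0 n216975 = n211610 := d21_4 D204119 F431111 F392062 D216975 F462368 (iv5 D207517) (iv1 F211384) D134337 (iv6 F381325) F381327
theorem F486828 : act 1 n216975 = n187070 := d15_1 (iv0 F486827) (iv7 F445270) (iv2 F462367)
def n216976 : Q := act 1 n186591
theorem D216976 : act 1 n186591 = n216976 := rfl
theorem F486829 : act 1 n216976 = n187094 := d15_1 D216976 (iv7 D187094) (iv2 F367348)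
theorem F486830 : act 7 n216976 = n187091 := d15_2 F457977 D216976 (iv2 F457974)
theorem F486831 : act 5 n216976 = n193988 := d18_9 F391648 F386444 F361978 (iv4 D154361) (iv5 F368546) D193803 (iv0 F391047) F367350 D216976
theorem F486832 : act 2 n187092 = n216976 := d2_3 F486831 F391646 F381328
def n216977 : Q := act 7 n186596
theorem D216977 : act 7 n186596 = n216977 := rfl
theorem F486833 : act 2 n216977 = n187110 := d4_1 D216977 (iv7 D187110) (iv2 F367374)
theorem F486834 : act 3 n216977 = n210327 := d8_1 D216977 (iv7 F473475) F473474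
theorem F486835 : act 4 n216977 = n192159 := d11_1 D216977 (iv7 D192159) (iv4 F367375)
theorem F486836 : act 5 n216977 = n188128 := d13_1 D216977 (iv7 D188128) (iv5 F367376)
theorem F486837 : act 6 n216977 = n187131 := d14_1 D216977 (iv7 D187131) (iv6 D89588) (iv7 F136342) D186596
theorem F486838 : act 1 n187108 = n216977 := d15_1 D187108 (iv7 D216977) F367374
theorem F486839 : act 1 n216977 = n187107 := d15_1 F486838 (iv7 F390588) F390587
def n216978 : Q := act 2 n186597
theorem D216978 : act 2 n186597 = n216978 := rfl
theorem F486840 : act 3 n216978 = n187121 := d0_2 D186597 D216978 (iv2 D187121) (iv3 D89574) (iv2 F136362)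
theorem F486841 : act 4 n216978 = n211610 := d1_2 F445268 D216978 F462367
theorem F486842 : act 5 n216978 = n192155 := d2_2 (iv5 F367377) D216978 (iv2 D192155)
theorem F486843 : act 6 n216978 = n189947 := d3_2 F445266 D216978 (iv2 F445262)
theorem F486844 : act 7 n216978 = n187081 := d4_2 (iv7 F367378) D216978 (iv2 D187081)
theorem F486845 : act 1 n216978 = n187079 := d15_0 (iv0 D187079) (iv7 F367378) D216978
theorem F486846 : act 1 n187080 = n216978 := d15_0 F486845 (iv7 F391880) F391878
def n216979 : Q := act 7 n186601
theorem D216979 : act 7 n186601 = n216979 := rfl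
theorem F486847 : act 2 n216979 = n187131 := d4_1 D216979 (iv7 D187131) (iv2 F367409)
theorem F486848 : act 4 n216979 = n192163 := d11_1 D216979 (iv7 D192163) (iv4 F367410)
theorem F486849 : act 5 n216979 = n187145 := d13_1 D216979 (iv7 D187145) (iv5 F367411)
theorem F486850 : act 6 n216979 = n187110 := d14_1 D216979 (iv7 D187110) (iv6 D89547) (iv7 F136381) D186601
theorem F486851 : act 1 n187130 = n216979 := d15_1 D187130 (iv7 D216979) F367409
theorem F486852 : act 1 n216979 = n187129 := d15_1 F486851 (iv7 F390659) F390658
def n216980 : Q := act 5 n186604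
theorem D216980 : act 5 n186604 = n216980 := rfl
theorem F486853 : act 2 n216980 = n186608 := d2_1 D216980 (iv5 D186608) (iv2 F367426)
theorem F486854 : act 3 n216980 = n191722 := d6_1 D216980 (iv5 D191722) F367425
theorem F486855 : act 7 n216980 = n186610 := d13_2 (iv7 F367427) D216980 (iv5 D186610)
theorem F486856 : act 0 n216980 = n187138 := d17_2 D186604 D216980 F369215 F139736 D90814 (iv0 F139794) (iv5 D90249) (iv0 F136439) (iv4 F136438)
theorem F486857 : act 1 n216980 = n216273 := d17_6 D214528 F475637 F382256 (iv5 D189288) (iv4 F367423) D216980 F483593 F371242 F370474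
def n216981 : Q := act 5 n186605
theorem D216981 : act 5 n186605 = n216981 := rfl
theorem F486858 : act 2 n216981 = n186610 := d2_1 D216981 (iv5 D186610) (iv2 F367433)
theorem F486859 : act 3 n216981 = n191471 := d6_1 D216981 (iv5 D191471) F367431
theorem F486860 : act 7 n216981 = n186608 := d13_2 (iv7 F367430) D216981 (iv5 D186608)
theorem F486861 : act 0 n216981 = n216273 := d17_2 (iv1 F367429) D216981 F483593 F371239 (iv5 F287426) F251415 F239332 F142255 (iv4 F136462)
theorem F486862 : act 1 n216981 = n187138 := d17_6 (iv1 F374901) (iv5 F466753) F466756 (iv5 D189283) F367432 D216981 F369215 D188087 (iv4 F374898)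
def n216982 : Q := act 0 n186606
theorem D216982 : act 0 n186606 = n216982 := rfl
theorem F486863 : act 5 n216982 = n187700 := d17_3 (iv1 D186605) D186606 D216982 (iv4 F371830) F371828 F363830 (iv5 F251901) F364170 F367432
theorem F486864 : act 2 n186612 = n216982 := d15_3 (iv0 D216982) (iv0 F386194) F386193
theorem F486865 : act 7 n216982 = n186613 := d4_2 F386193 F486864 (iv2 F386191)
theorem F486866 : act 3 n191724 = n216982 := d8_3 F486865 F372296 F384277
theorem F486867 : act 1 n186615 = n216982 := d15_1 F386195 F486865 (iv2 F386191)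
def n216983 : Q := act 7 n186606
theorem D216983 : act 7 n186606 = n216983 := rfl
theorem F486868 : act 2 n216983 = n186615 := d4_1 D216983 (iv7 D186615) (iv2 F367434)
theorem F486869 : act 3 n216983 = n191421 := d8_1 D216983 (iv7 D191421) (iv3 F367435)
theorem F486870 : act 4 n216983 = n216619 := d11_1 D216983 F485198 F483386
theorem F486871 : act 5 n216983 = n186607 := d13_1 D216983 (iv7 D186607) D186606
theorem F486872 : act 1 n186613 = n216983 := d15_1 D186613 (iv7 D216983) F367434
theorem F486873 : act 1 n216983 = n186612 := d15_1 F486872 (iv7 F386193) F386191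
def n216984 : Q := act 4 n186608
theorem D216984 : act 4 n186608 = n216984 := rfl
theorem F486874 : act 0 n216984 = n216180 := d18_2 F371246 D216984 (iv4 D216180) F344234 D185047 F386177 F386173 (iv0 F367246) D187702
theorem F486875 : act 1 n216984 = n216183 := d18_6 F333363 (iv4 F144542) F333360 (iv4 F251693) D186608 D216984 (iv4 D216183) (iv0 F483162) (iv5 D216142)
def n216985 : Q := act 6 n186608
theorem D216985 : act 6 n186608 = n216985 := rfl
theorem F486876 : act 5 n216985 = n193854 := d12_1 D216985 (iv6 D193854) F367443 (iv6 D186609) D186608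
def n216986 : Q := act 3 n186612
theorem D216986 : act 3 n186612 = n216986 := rfl
theorem F486877 : act 2 n216986 = n191473 := d0_1 D216986 (iv3 F386330) F384276 F486866 (iv2 F486864)
theorem F486878 : act 5 n216986 = n187610 := d6_2 (iv5 F370476) D216986 F371009
theorem F486879 : act 7 n216986 = n191474 := d8_2 F386193 D216986 (iv3 F386192)
theorem F486880 : act 4 n216986 = n216138 := d20_6 D89479 F137143 (iv4 D88919) (iv3 F136460) D186612 D216986 (iv1 F483153) F469945 F288515 (iv1 F135768)
theorem F486881 : act 1 n191476 = n216986 := d17_8 (iv1 F483153) (iv5 D213328) (iv1 D153534) D153535 D213331 F469959 (iv0 F353211) (iv5 F383538) F486880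
theorem F486882 : act 0 n191468 = n216986 := d18_0 F486880 (iv1 F483153) F469945 F288516 F135745 F135749 D181942 (iv0 F335693) D191468
def n216987 : Q := act 4 n186612
theorem D216987 : act 4 n186612 = n216987 := rfl
theorem F486883 : act 0 n216987 = n216176 := d17_0 F483291 (iv1 D210803) D210804 F458862 (iv5 D186610) F367440 (iv5 F486871) F486873 D216987
theorem F486884 : act 1 n216987 = n216164 := d18_6 (iv1 F361043) (iv4 F370621) (iv1 F370623) (iv4 F370474) (iv5 F370476) D216987 (iv4 D216164) F333368 (iv5 D185020)
theorem F486885 : act 5 n213780 = n216987 := d19_1 F472771 (iv4 D216987) D216986 (iv1 F486881) F383538 (iv4 F368601) (iv3 D186940) (iv1 D89403) D89404 D186941 (iv3 F449479) F468023 (iv5 D212898) (iv4 F267780) F267779 F333626 (iv5 F315152) (iv4 F404122) (iv3 F472202)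
def n216988 : Q := act 6 n186612
theorem D216988 : act 6 n186612 = n216988 := rfl
theorem F486886 : act 5 n216988 = n191853 := d12_1 D216988 (iv6 D191853) F367127 D187472 (iv5 F370476)
def n216989 : Q := act 4 n186613
theorem D216989 : act 4 n186613 = n216989 := rfl
theorem F486887 : act 5 n216989 = n197235 := d16_1 D216989 F475634 (iv5 D214527) (iv4 D159721) D159722 (iv4 F370474) (iv5 F370476) (iv7 F386193) F386191
theorem F486888 : act 0 n216989 = n216164 := d18_2 (iv1 F486872) D216989 (iv4 D216164) (iv5 D182048) (iv4 F144542) F333361 F251975 F367440 (iv5 F486871)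
theorem F486889 : act 1 n216989 = n216176 := d18_6 (iv1 F344323) (iv4 F475638) (iv1 F475642) F374898 F372295 D216989 (iv4 D216176) F287410 (iv5 F135144)
def n216990 : Q := act 3 n186614
theorem D216990 : act 3 n186614 = n216990 := rfl
theorem F486890 : act 4 n216990 = n186616 := d5_2 D186614 D216990 (iv3 D186616) (iv4 D88919) (iv3 F136460)
theorem F486891 : act 6 n216990 = n200198 := d7_2 F386373 D216990 (iv3 F415490)
theorem F486892 : act 5 n209766 = n216990 := d12_5 F486891 (iv5 D200198) (iv6 F212499) F360505 D209766
def n216991 : Q := act 5 n186614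
theorem D216991 : act 5 n186614 = n216991 := rfl
theorem F486893 : act 3 n216991 = n209766 := d6_1 D216991 F486892 (iv3 D216990)
theorem F486894 : act 6 n216991 = n209765 := d12_2 F386373 D216991 F454874 F446672 F415492
theorem F486895 : act 7 n216991 = n201186 := d13_2 (iv7 F483385) D216991 (iv5 F483383)
theorem F486896 : act 4 n216991 = n201187 := d16_2 D186614 D216991 F419365 F177583 F142250 (iv4 F367438) (iv5 F486871) (iv7 D216983) F367434
def n216992 : Q := act 6 n186615
theorem D216992 : act 6 n186615 = n216992 := rfl
theorem F486897 : act 3 n216992 = n186618 := d7_1 D216992 (iv6 D186618) (iv3 F367447)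
theorem F486898 : act 4 n216992 = n197155 := d10_1 D216992 F483384 F483382
theorem F486899 : act 5 n216992 = n187062 := d12_1 D216992 (iv6 D187062) (iv5 D89501) (iv6 F136463) (iv5 F367448)
def n216993 : Q := act 0 n186616
theorem D216993 : act 0 n186616 = n216993 := rfl
def n216994 : Q := act 1 n186616
theorem D216994 : act 1 n186616 = n216994 := rfl
theorem F486900 : act 5 n210188 = n216994 := d21_6 F445232 (iv1 F391637) (iv5 F411692) (iv6 D137887) (iv1 F345912) D210188 (iv1 D216994) (iv5 F374655) F474824 (iv1 F474822)
theorem F486901 : act 3 n216994 = n210191 := d6_1 F486900 (iv5 D210191) (iv3 F456505)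
def n216995 : Q := act 2 n186616
theorem D216995 : act 2 n186616 = n216995 := rfl
theorem F486902 : act 3 n216995 = n191462 := d0_2 D186616 D216995 (iv2 D191462) (iv3 D98373) (iv2 F136467)
def n216996 : Q := act 7 n186616
theorem D216996 : act 7 n186616 = n216996 := rfl
theorem F486903 : act 3 n216996 = n186617 := d8_1 D216996 (iv7 D186617) D186616
theorem F486904 : act 5 n216996 = n187668 := d13_1 D216996 (iv7 F374656) F374655
def n216997 : Q := act 0 n186618
theorem D216997 : act 0 n186618 = n216997 := rfl
theorem F486905 : act 5 n216997 = n211610 := d17_3 (iv1 F356537) (iv5 F367455) D216997 (iv4 F486841) F486842 F385797 F156826 (iv0 F357210) (iv4 F356536)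
theorem F486906 : act 2 n191465 = n216997 := d15_3 (iv0 D216997) (iv0 F431164) F431161
theorem F486907 : act 1 n191455 = n216997 := d15_0 (iv0 D216997) (iv7 F386427) F386425
theorem F486908 : act 7 n216997 = n191466 := d15_2 (iv0 F431163) F486907 (iv2 F431162)
theorem F486909 : act 3 n211611 = n216997 := d19_19 (iv1 F486907) F383513 F154890 F74213 D95291 F339720 F206745 F203813 (iv1 F203803) F324256 (iv4 F177582) (iv3 F321381) (iv1 F303406) F366507 D213775 F472043 F440450 D210073 (iv4 F462373)
def n216998 : Q := act 0 n186620
theorem D216998 : act 0 n186620 = n216998 := rfl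
theorem F486910 : act 5 n216998 = n187468 := d17_3 F152591 D186620 D216998 (iv4 D187468) (iv5 F295018) (iv0 D93286) F294373 D46340 D99067
theorem F486911 : act 4 n216998 = n189108 := d18_1 D216998 (iv1 F375775) (iv4 D183167) (iv5 D87431) F66326 F157259 (iv4 F136178) F157238 D186620
theorem F486912 : act 2 n187609 = n216998 := d15_3 (iv0 D216998) (iv0 F486477) F486476
theorem F486913 : act 1 n216327 = n216998 := d15_0 (iv0 D216998) (iv7 F370518) (iv2 F483855)
theorem F486914 : act 7 n216998 = n187603 := d15_2 F486478 F486913 (iv2 F486472)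
theorem F486915 : act 3 n190512 = n216998 := d8_3 F486914 F370992 F379965
def n216999 : Q := act 5 n186624
theorem D216999 : act 5 n186624 = n216999 := rfl
theorem F486916 : act 2 n216999 = n186626 := d2_1 D216999 (iv5 D186626) (iv2 F367476)
theorem F486917 : act 3 n216999 = n191507 := d6_1 D216999 (iv5 D191507) (iv3 F367477)
theorem F486918 : act 6 n216999 = n187710 := d12_2 D186624 D216999 (iv5 D187710) (iv6 D90485) (iv5 F136497)
theorem F486919 : act 7 n216999 = n208941 := d13_2 F462573 D216999 F462576
theorem F486920 : act 4 n216999 = n197742 := d16_2 F389004 D216999 (iv5 D197742) (iv4 F402877) F427650 (iv4 F427647) (iv5 F389076) F389081 (iv2 F389003)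
theorem F486921 : act 0 n216999 = n208919 := d17_2 F431694 D216999 (iv5 D208919) F217617 F98979 F308708 F341213 (iv0 F330257) (iv4 F431692)
theorem F486922 : act 1 n216999 = n204098 := d17_6 F331996 D157987 F427696 F427695 F389004 D216999 (iv5 D204098) F387390 F387388
def n217000 : Q := act 5 n186625
theorem D217000 : act 5 n186625 = n217000 := rfl
theorem F486923 : act 2 n217000 = n199249 := d2_1 D217000 F431695 F431690
theorem F486924 : act 3 n217000 = n210139 := d6_1 D217000 F456316 F367480
theorem F486925 : act 7 n217000 = n199246 := d13_2 (iv7 F367478) D217000 F411311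
theorem F486926 : act 0 n217000 = n194066 := d17_2 (iv1 F462572) D217000 F391943 F387388 F331999 (iv0 F257004) D173948 (iv0 F335266) (iv4 F462570)
theorem F486927 : act 1 n217000 = n209518 := d17_6 (iv1 F217618) F330228 D173768 F330226 (iv4 F367479) D217000 F454000 (iv0 F387361) F305433
theorem F486928 : act 4 n217000 = n199237 := d18_5 D101313 F351743 F340191 (iv4 F367479) D217000 F411267 (iv4 F219578) (iv0 F351804) (iv5 D101317)
theorem F486929 : act 6 n215599 = n217000 := d7_0 F486924 (iv6 F456319) D215599
def n217001 : Q := act 7 n186626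
theorem D217001 : act 7 n186626 = n217001 := rfl
theorem F486930 : act 2 n217001 = n208941 := d4_1 D217001 (iv7 F486919) F486916
theorem F486931 : act 3 n217001 = n186629 := d8_1 D217001 (iv7 D186629) (iv3 F367482)
theorem F486932 : act 5 n217001 = n186627 := d13_1 D217001 (iv7 D186627) D186626
theorem F486933 : act 6 n217001 = n193860 := d14_1 D217001 (iv7 D193860) (iv6 D102405) (iv7 F139260) (iv6 F367483)
theorem F486934 : act 1 n204098 = n217001 := d15_1 F486922 (iv7 D217001) (iv2 F486916)
theorem F486935 : act 1 n217001 = n208919 := d15_1 F486934 (iv7 F479338) F479336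
def n217002 : Q := act 6 n186628
theorem D217002 : act 6 n186628 = n217002 := rfl
theorem F486936 : act 2 n217002 = n189154 := d3_1 D217002 F375870 F367490
theorem F486937 : act 3 n217002 = n210623 := d7_1 D217002 (iv6 F458246) F433618
theorem F486938 : act 4 n217002 = n192128 := d10_1 D217002 (iv6 D192128) (iv4 F367489)
theorem F486939 : act 5 n217002 = n186644 := d12_1 D217002 (iv6 F367532) F338820 F338819 (iv5 F367488)
theorem F486940 : act 7 n217002 = n189140 := d14_2 (iv7 F367491) D217002 F408226 F408220 F349506
def n217003 : Q := act 4 n186630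
theorem D217003 : act 4 n186630 = n217003 := rfl
theorem F486941 : act 2 n217003 = n213961 := d1_1 D217003 F472899 (iv2 F367498)
theorem F486942 : act 3 n217003 = n215828 := d5_1 D217003 F481714 F406332 (iv4 D186631) (iv3 F367499)
theorem F486943 : act 6 n217003 = n191891 := d10_2 (iv6 F367500) D217003 (iv4 D191891)
theorem F486944 : act 5 n217003 = n213987 := d16_1 D217003 F472995 F455110 F458976 F458975 (iv4 F448418) (iv5 F484124) (iv7 D216385) (iv2 F367498)
theorem F486945 : act 0 n217003 = n215800 := d18_2 F467205 D217003 F481630 F432971 (iv4 F459015) (iv0 F459018) F386544 D192358 (iv5 F467203)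
def n217004 : Q := act 5 n186634
theorem D217004 : act 5 n186634 = n217004 := rfl
theorem F486946 : act 2 n217004 = n213403 := d2_1 D217004 F470250 F467261
theorem F486947 : act 3 n217004 = n186635 := d6_1 D217004 (iv5 D186635) (iv3 F367509)
theorem F486948 : act 4 n217004 = n208531 := d9_1 D217004 F449752 F347094 (iv5 F347096) (iv4 F234641) (iv5 F403375) F403374 (iv5 F456006) (iv4 D210063) (iv5 D137395) (iv4 F203933) D205880 F438238 (iv5 F439660) F439659
theorem F486949 : act 7 n217004 = n209760 := d13_2 F403323 D217004 F454856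
theorem F486950 : act 0 n217004 = n213305 := d17_2 F367510 D217004 (iv5 D213305) (iv4 F319997) F340115 (iv0 F340117) F302807 (iv0 F309778) D131167
theorem F486951 : act 1 n217004 = n203189 := d17_6 F448450 F448447 (iv1 F361084) (iv5 F439660) F439659 D217004 (iv5 D203189) F344408 (iv4 F286166)
def n217005 : Q := act 0 n186636
theorem D217005 : act 0 n186636 = n217005 := rfl
def n217006 : Q := act 1 n186636
theorem D217006 : act 1 n186636 = n217006 := rfl
theorem F486952 : act 1 n217006 = n191826 := d15_1 D217006 (iv7 D191826) (iv2 F367515)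
def n217007 : Q := act 7 n186636
theorem D217007 : act 7 n186636 = n217007 := rfl
theorem F486953 : act 2 n217007 = n191826 := d4_1 D217007 (iv7 D191826) (iv2 F367515)
theorem F486954 : act 5 n217007 = n187465 := d13_1 D217007 F370452 (iv5 F367516)
theorem F486955 : act 6 n217007 = n191831 := d14_1 D217007 (iv7 D191831) (iv6 D98981) (iv7 F275021) D186636
theorem F486956 : act 1 n191826 = n217005 := d15_0 (iv0 D217005) D217007 F486953
theorem F486957 : act 1 n191825 = n217007 := d15_1 D191825 (iv7 D217007) F367515
theorem F486958 : act 3 n211197 = n217005 := d19_19 (iv1 F486956) F384549 D194128 F392125 F391138 (iv5 D124024) (iv4 F198412) (iv3 F432946) (iv1 F472090) (iv5 D213787) (iv4 F452592) F452593 F244824 (iv5 F428193) (iv4 F428195) F485598 (iv1 F485597) (iv5 D211200) (iv4 F460572)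
theorem F486959 : act 6 n217005 = n186656 := d7_2 D211197 F486958 (iv3 F378689)
theorem F486960 : act 2 n191824 = n217005 := d3_3 F486959 (iv2 F378687) (iv6 F387568)
theorem F486961 : act 4 n188333 = n217005 := d10_3 F486959 F378008 D188333
theorem F486962 : act 7 n191825 = n217005 := d14_0 F486959 F378688 D191879 F391392 F391391
theorem F486963 : act 2 n191825 = n217006 := d15_3 F486952 F486956 (iv7 F486962)
theorem F486964 : act 7 n217006 = n191824 := d4_2 (iv7 F486962) F486963 F486960
theorem F486965 : act 1 n217007 = n191824 := d15_1 F486957 (iv7 F486964) (iv2 F486963)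
def n217008 : Q := act 6 n186637
theorem D217008 : act 6 n186637 = n217008 := rfl
theorem F486966 : act 3 n217008 = n186638 := d7_1 D217008 (iv6 D186638) D186637
theorem F486967 : act 4 n217008 = n206685 := d10_1 D217008 (iv6 F446398) F446397
theorem F486968 : act 0 n207814 = n217008 := d21_4 (iv5 D69734) D69731 D148788 (iv6 F446570) (iv6 D217008) (iv5 F384744) (iv1 F384746) (iv5 F384481) (iv6 F384484) F230142
def n217009 : Q := act 7 n186638
theorem D217009 : act 7 n186638 = n217009 := rfl
theorem F486969 : act 2 n217009 = n191831 := d4_1 D217009 (iv7 D191831) (iv2 F367518)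
theorem F486970 : act 5 n217009 = n199039 := d13_1 D217009 F410432 F384771
theorem F486971 : act 6 n217009 = n191826 := d14_1 D217009 (iv7 D191826) (iv6 D98977) (iv7 F275017) D186638
theorem F486972 : act 1 n191830 = n217009 := d15_1 D191830 (iv7 D217009) F367518
theorem F486973 : act 1 n217009 = n191829 := d15_1 F486972 (iv7 F384856) (iv2 F384552)
def n217010 : Q := act 4 n186639
theorem D217010 : act 4 n186639 = n217010 := rfl
theorem F486974 : act 2 n217010 = n189571 := d1_1 D217010 (iv4 D189571) (iv2 F367519)
theorem F486975 : act 7 n217010 = n191417 := d11_2 (iv7 F367521) D217010 (iv4 D191417)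
theorem F486976 : act 0 n217010 = n216153 := d18_2 F367523 D217010 (iv4 F486710) F486706 F370983 F357387 F287916 F293663 F152561
theorem F486977 : act 1 n217010 = n209605 := d18_6 (iv1 F295338) F295340 (iv1 F149509) F147666 D186639 D217010 F454313 (iv0 F381222) (iv5 D186441)
def n217011 : Q := act 0 n186640
theorem D217011 : act 0 n186640 = n217011 := rfl
theorem F486978 : act 3 n217011 = n210296 := d20_5 (iv4 D191835) (iv1 D98990) D98991 (iv3 F367524) D217011 F456900 F388390 D208539 F485931 (iv1 F485930)
theorem F486979 : act 1 n191832 = n217011 := d15_0 (iv0 D217011) F367525 (iv2 F384556)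
def n217012 : Q := act 1 n186640
theorem D217012 : act 1 n186640 = n217012 := rfl
theorem F486980 : act 1 n217012 = n191832 := d15_1 D217012 (iv7 F485926) F485925
theorem F486981 : act 4 n217012 = n187601 := d18_7 (iv1 F294797) F142797 (iv1 D91849) (iv4 F294112) D88971 D186640 D217012 (iv0 F383074) (iv5 D191330)
theorem F486982 : act 2 n191837 = n217012 := d1_3 F486981 (iv2 F486044) F486047
theorem F486983 : act 3 n206377 = n217012 := d5_5 F486981 F370986 D187604 F374803 (iv4 F440495)
theorem F486984 : act 6 n206376 = n217012 := d10_0 F486981 (iv6 F465798) (iv4 F465799)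
theorem F486985 : act 7 n191838 = n217012 := d11_0 F486981 (iv7 F375816) F384567
theorem F486986 : act 2 n191838 = n217011 := d15_3 (iv0 D217011) D217012 (iv7 F486985)
theorem F486987 : act 7 n217011 = n191837 := d4_2 (iv7 F486985) F486986 F486982
def n217013 : Q := act 5 n186640
theorem D217013 : act 5 n186640 = n217013 := rfl
theorem F486988 : act 3 n217013 = n191839 := d6_1 D217013 (iv5 D191839) (iv3 F367524)
theorem F486989 : act 7 n217013 = n191839 := d13_2 (iv7 F367525) D217013 (iv5 D191839)
def n217014 : Q := act 6 n186640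
theorem D217014 : act 6 n186640 = n217014 := rfl
theorem F486990 : act 3 n217014 = n191840 := d7_1 D217014 (iv6 D191840) (iv3 F367524)
theorem F486991 : act 4 n217014 = n186641 := d10_1 D217014 (iv6 D186641) D186640
theorem F486992 : act 0 n217014 = n203122 := d20_1 (iv4 F486991) F427057 (iv3 F424661) F459035 F453781 D209462 (iv1 F454601) (iv4 D209677) (iv3 F454595) F454597
theorem F486993 : act 1 n217014 = n207788 := d15_1 (iv0 F486992) F446446 F439263
theorem F486994 : act 5 n217014 = n206682 := d19_1 (iv1 F486993) (iv4 F450325) (iv3 D208649) (iv1 F328197) F328200 D208387 F449157 F392025 (iv5 F431187) F431186 (iv3 F431089) (iv1 F431092) (iv5 F429296) F429295 F189730 (iv1 F178447) (iv5 F179099) D201713 (iv3 F446445)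
def n217015 : Q := act 7 n186641
theorem D217015 : act 7 n186641 = n217015 := rfl
theorem F486995 : act 3 n217015 = n186645 := d8_1 D217015 (iv7 D186645) (iv3 F367526)
theorem F486996 : act 6 n217015 = n191843 := d14_1 D217015 (iv7 D191843) (iv6 D98992) (iv7 F136559) D186641
theorem F486997 : act 1 n216354 = n217015 := d15_1 F483977 (iv7 D217015) (iv2 F456518)
theorem F486998 : act 1 n217015 = n212336 := d15_1 F486997 F465376 (iv2 F483972)
def n217016 : Q := act 4 n186646
theorem D217016 : act 4 n186646 = n217016 := rfl
theorem F486999 : act 2 n217016 = n186647 := d1_1 D217016 (iv4 D186647) D186646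
theorem F487000 : act 7 n217016 = n191870 := d11_2 (iv7 F367545) D217016 (iv4 D191870)
theorem F487001 : act 0 n217016 = n189105 := d18_2 (iv1 F367546) D217016 (iv4 D189105) (iv5 D93258) F293698 (iv0 F293480) (iv4 F136082) F293936 D98288
theorem F487002 : act 1 n217016 = n191872 := d18_6 (iv1 F292616) F140194 (iv1 F135817) (iv4 F138766) (iv5 F367544) D217016 F384627 F368118 (iv5 D184502)
def n217017 : Q := act 5 n186647
theorem D217017 : act 5 n186647 = n217017 := rfl
theorem F487003 : act 3 n217017 = n191873 := d6_1 D217017 (iv5 D191873) (iv3 F367548)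
theorem F487004 : act 7 n217017 = n191873 := d13_2 (iv7 F367549) D217017 (iv5 D191873)
theorem F487005 : act 6 n214671 = n217017 := d14_5 F487004 F384631 F254443 F434876 (iv7 F476326)
def n217018 : Q := act 6 n186647
theorem D217018 : act 6 n186647 = n217018 := rfl
theorem F487006 : act 3 n217018 = n191874 := d7_1 D217018 (iv6 D191874) (iv3 F367548)
theorem F487007 : act 4 n217018 = n186648 := d10_1 D217018 (iv6 D186648) D186647
theorem F487008 : act 5 n217018 = n199950 := d12_1 D217018 F414294 D214671 F487005 (iv5 D217017)
def n217019 : Q := act 4 n186652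
theorem D217019 : act 4 n186652 = n217019 := rfl
theorem F487009 : act 2 n217019 = n186653 := d1_1 D217019 (iv4 D186653) D186652
theorem F487010 : act 7 n217019 = n191864 := d11_2 (iv7 F367560) D217019 (iv4 D191864)
theorem F487011 : act 0 n217019 = n191866 := d18_2 (iv1 F367561) D217019 (iv4 F384614) (iv5 D186441) F136177 F294892 (iv4 F294589) F136555 D94097
theorem F487012 : act 1 n217019 = n191865 := d18_6 F370940 (iv4 D187404) (iv1 F138328) (iv4 F138778) (iv5 F367559) D217019 F384613 F382390 (iv5 F370937)
def n217020 : Q := act 1 n186653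
theorem D217020 : act 1 n186653 = n217020 := rfl
theorem F487013 : act 1 n217020 = n191864 := d15_1 D217020 (iv7 F487010) F487009
theorem F487014 : act 7 n217020 = n191866 := d15_2 F447010 D217020 (iv2 F447005)
theorem F487015 : act 4 n217020 = n188316 := d18_7 F367113 (iv4 D185631) (iv1 D88428) (iv4 F65098) (iv5 F294040) D186653 D217020 F383091 F383089
theorem F487016 : act 6 n206818 = n217020 := d21_3 (iv5 D195278) (iv1 F207589) D206818 (iv1 D217020) F465368 (iv5 D212335) D212332 F465357 (iv6 D206864) (iv1 F442299)
theorem F487017 : act 2 n217020 = n191865 := d3_1 F487016 F404703 (iv2 F442302)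
def n217021 : Q := act 5 n186653
theorem D217021 : act 5 n186653 = n217021 := rfl
theorem F487018 : act 3 n217021 = n191867 := d6_1 D217021 (iv5 D191867) (iv3 F367563)
theorem F487019 : act 6 n217021 = n190253 := d12_2 (iv6 F465368) D217021 (iv5 F452058) F452059 D212335
theorem F487020 : act 7 n217021 = n191867 := d13_2 (iv7 F367564) D217021 (iv5 D191867)
theorem F487021 : act 4 n217021 = n190254 := d16_2 D186653 D217021 F382541 (iv4 D191191) (iv5 F291953) (iv4 F292624) F152561 (iv7 F367560) (iv2 D186652)
def n217022 : Q := act 5 n186656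
theorem D217022 : act 5 n186656 = n217022 := rfl
theorem F487022 : act 2 n217022 = n191880 := d2_1 D217022 (iv5 D191880) F378687
theorem F487023 : act 3 n217022 = n211196 := d6_1 D217022 (iv5 D211196) F378689
theorem F487024 : act 4 n217022 = n197782 := d9_1 D217022 (iv5 D197782) D197781 (iv5 F439395) F439396 (iv5 D188328) (iv4 F378246) (iv5 F413423) (iv4 F413425) (iv5 D197779) D197778 (iv5 F405761) F387991 F368787 (iv4 F378008)
theorem F487025 : act 7 n217022 = n191878 := d13_2 (iv7 F378688) D217022 (iv5 D191878)
theorem F487026 : act 0 n217022 = n191805 := d17_2 (iv1 F367567) D217022 (iv5 D191805) F354742 (iv5 D146914) D146912 (iv5 F373126) F367556 F367553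
theorem F487027 : act 1 n217022 = n192680 := d17_6 F375843 F372782 F368788 F368787 (iv4 F378008) D217022 F387454 F384496 (iv4 F384497)
theorem F487028 : act 6 n217022 = n191959 := d21_3 F384659 (iv1 F367567) D217022 (iv1 F385002) (iv6 F385020) F385019 (iv1 F367746) D191601 (iv6 F383946) (iv1 F384662)
def n217023 : Q := act 6 n186664
theorem D217023 : act 6 n186664 = n217023 := rfl
theorem F487029 : act 2 n217023 = n216951 := d3_1 D217023 F486682 (iv2 F376706)
theorem F487030 : act 3 n217023 = n191711 := d7_1 D217023 (iv6 D191711) F367589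
theorem F487031 : act 4 n217023 = n216950 := d10_1 D217023 F486677 F379787
theorem F487032 : act 5 n217023 = n212946 := d12_1 D217023 (iv6 D212946) F335916 (iv6 F360980) (iv5 F367588)
theorem F487033 : act 7 n217023 = n212955 := d14_2 F376709 D217023 F468303 F430299 F376713
theorem F487034 : act 0 n217023 = n189351 := d21_4 F377654 (iv1 F360978) (iv5 F367588) D217023 (iv6 D189351) D189350 (iv1 F451627) F451632 F376693 F377658
theorem F487035 : act 0 n212606 = n217023 := d17_0 F487032 F468258 (iv5 F444701) (iv4 F444700) (iv5 F468252) F468255 F421741 F468428 F468426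
def n217024 : Q := act 3 n186666
theorem D217024 : act 3 n186666 = n217024 := rfl
theorem F487036 : act 4 n217024 = n214220 := d5_2 D186666 D217024 (iv3 D214220) F247675 F162593
theorem F487037 : act 6 n217024 = n186667 := d7_2 (iv6 F367593) D217024 (iv3 D186667)
theorem F487038 : act 5 n200410 = n217024 := d16_3 (iv4 F443552) F443551 F416322 F487036 F474048 (iv4 D199309) (iv5 F411539) F411589 (iv2 F411592)
theorem F487039 : act 0 n201193 = n217024 := d18_2 F357305 D201193 F487036 F474048 (iv4 D199309) (iv0 D111181) D111183 (iv0 F395447) (iv5 F163789)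
def n217025 : Q := act 5 n186666
theorem D217025 : act 5 n186666 = n217025 := rfl
theorem F487040 : act 3 n217025 = n200410 := d6_1 D217025 F487038 (iv3 D217024)
theorem F487041 : act 4 n217025 = n200354 := d16_2 D186666 D217025 (iv5 D200354) (iv4 D113017) (iv5 D52166) F78490 (iv5 F163767) F163766 F139173
theorem F487042 : act 0 n217025 = n189306 := d17_2 (iv1 F367595) D217025 (iv5 D189306) (iv4 D93876) (iv5 D43885) (iv0 D20788) D20790 D43889 D93882
theorem F487043 : act 1 n217025 = n189312 := d17_6 F161588 F77989 F69002 D89019 D186666 D217025 (iv5 D189312) F376378 F376377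
def n217026 : Q := act 0 n186667
theorem D217026 : act 0 n186667 = n217026 := rfl
def n217027 : Q := act 1 n186667
theorem D217027 : act 1 n186667 = n217027 := rfl
def n217028 : Q := act 2 n186667
theorem D217028 : act 2 n186667 = n217028 := rfl
def n217029 : Q := act 4 n186670
theorem D217029 : act 4 n186670 = n217029 := rfl
theorem F487044 : act 2 n217029 = n187151 := d1_1 D217029 (iv4 D187151) (iv2 F367606)
theorem F487045 : act 5 n217029 = n211220 := d9_2 D186670 D217029 F475565 F475561 (iv4 D187433) (iv5 D90129) (iv4 F135770) D186007 D216867 F486305 F475572 (iv5 F475570) F427932 (iv5 D188582) F142399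
theorem F487046 : act 7 n217029 = n191729 := d11_2 (iv7 F367608) D217029 (iv4 D191729)
theorem F487047 : act 3 n217029 = n211224 := d19_3 (iv1 F136669) D186670 D217029 (iv1 F460684) F431167 D204646 (iv3 F433114) (iv1 F470360) (iv5 D213429) F362352 F362353 (iv1 F366534) D210452 F457597 F381439 F369740 (iv5 D187293) (iv4 F152408) F152407
def n217030 : Q := act 6 n186670
theorem D217030 : act 6 n186670 = n217030 := rfl
theorem F487048 : act 2 n217030 = n187152 := d3_1 D217030 (iv6 D187152) (iv2 F367606)
theorem F487049 : act 3 n217030 = n191478 := d7_1 D217030 (iv6 D191478) (iv3 F367607)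
theorem F487050 : act 5 n217030 = n192599 := d12_1 D217030 (iv6 D192599) (iv5 F367614) (iv6 D186671) D186670
def n217031 : Q := act 4 n186672
theorem D217031 : act 4 n186672 = n217031 := rfl
theorem F487051 : act 2 n217031 = n191456 := d1_1 D217031 (iv4 D191456) F367620
theorem F487052 : act 3 n217031 = n204229 := d5_1 D217031 (iv4 F478856) F478855 (iv4 D191479) F367621
theorem F487053 : act 6 n217031 = n204227 := d10_2 (iv6 F483179) D217031 (iv4 F483178)
theorem F487054 : act 7 n217031 = n191731 := d11_2 (iv7 F367618) D217031 (iv4 D191731)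
theorem F487055 : act 5 n217031 = n204226 := d16_1 D217031 F475555 (iv5 D214512) F251581 F355733 F140087 D91066 (iv7 F367220) F367620
def n217032 : Q := act 0 n186673
theorem D217032 : act 0 n186673 = n217032 := rfl
theorem F487056 : act 2 n191733 = n217032 := d15_3 (iv0 D217032) F483377 F483375
theorem F487057 : act 1 n191737 = n217032 := d15_0 (iv0 D217032) (iv7 F475626) F475624
theorem F487058 : act 7 n217032 = n191734 := d15_2 (iv0 F483376) F487057 (iv2 F483372)
theorem F487059 : act 3 n216863 = n217032 := d8_3 F487058 F471039 (iv7 F486283)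
def n217033 : Q := act 3 n186673
theorem D217033 : act 3 n186673 = n217033 := rfl
theorem F487060 : act 4 n217033 = n216152 := d5_2 D186673 D217033 (iv3 D216152) (iv4 D181977) (iv3 F136682)
theorem F487061 : act 5 n217033 = n210856 := d6_2 F387698 D217033 F459042
theorem F487062 : act 6 n217033 = n189285 := d7_2 (iv6 F367623) D217033 F376329
def n217034 : Q := act 5 n186676
theorem D217034 : act 5 n186676 = n217034 := rfl
theorem F487063 : act 2 n217034 = n209818 := d2_1 D217034 F455056 (iv2 F367635)
theorem F487064 : act 3 n217034 = n204050 := d6_1 D217034 (iv5 D204050) (iv3 F367637)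
theorem F487065 : act 4 n217034 = n216418 := d9_1 D217034 (iv5 D216418) F285521 D187657 (iv4 F371127) (iv5 D124712) (iv4 F199505) D204919 F434171 (iv5 D191964) F153122 D100345 F367641 (iv5 D186677) D186676
theorem F487066 : act 6 n217034 = n209813 := d12_2 F431747 D217034 (iv5 D209813) D209814 (iv5 F455043)
theorem F487067 : act 7 n217034 = n213470 := d13_2 (iv7 F367636) D217034 (iv5 D213470)
theorem F487068 : act 1 n217034 = n192253 := d17_6 (iv1 F387169) (iv5 F418868) F418869 (iv5 D186677) D186676 D217034 (iv5 F468536) (iv0 F468538) F467150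
theorem F487069 : act 0 n217034 = n192556 := d18_0 (iv4 D192556) (iv1 D100388) D100389 F349320 (iv4 F242741) (iv0 F403418) (iv4 F434164) F434162 D217034
def n217035 : Q := act 5 n186679
theorem D217035 : act 5 n186679 = n217035 := rfl
theorem F487070 : act 2 n217035 = n190449 := d2_1 D217035 (iv5 F379797) (iv2 F367652)
theorem F487071 : act 3 n217035 = n208973 := d6_1 D217035 (iv5 D208973) F391773
theorem F487072 : act 4 n217035 = n194182 := d9_1 D217035 F392285 (iv4 D187174) F137617 (iv4 F294175) D89037 D186681 F367657 F210445 (iv5 F108015) (iv4 F360285) (iv5 D94288) F69421 D89035 D186679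
theorem F487073 : act 7 n217035 = n207401 := d13_2 F391857 D217035 (iv5 F444705)
theorem F487074 : act 0 n217035 = n207409 := d17_2 F391772 D217035 (iv5 F463939) F463938 F456784 F294969 D186796 F452255 F452252
theorem F487075 : act 1 n217035 = n207408 := d17_6 (iv1 D89040) (iv5 D41586) D41584 D89035 D186679 D217035 (iv5 F463931) (iv0 D212013) F363454
theorem F487076 : act 6 n190448 = n217035 := d21_5 F468465 F448213 F448211 F448404 (iv1 F448403) (iv5 D217035) (iv1 F462311) (iv5 F462310) (iv6 F468299) (iv1 F468468)
def n217036 : Q := act 6 n186679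
theorem D217036 : act 6 n186679 = n217036 := rfl
theorem F487077 : act 2 n217036 = n214571 := d3_1 D217036 (iv6 F475848) (iv2 F367652)
theorem F487078 : act 3 n217036 = n201843 := d7_1 D217036 (iv6 F451602) F391773
theorem F487079 : act 4 n217036 = n186680 := d10_1 D217036 (iv6 D186680) D186679
theorem F487080 : act 5 n217036 = n216880 := d12_1 D217036 F486357 F379990 F487076 (iv5 D217035)
theorem F487081 : act 0 n217036 = n189405 := d21_4 F463931 (iv1 F487075) (iv5 D217035) D217036 F376545 F193612 (iv1 F88623) D67897 D144854 D212013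
theorem F487082 : act 0 n214569 = n217036 := d21_4 (iv5 D203933) (iv1 F193605) (iv5 F252184) D214569 (iv6 D217036) D217035 F487074 (iv5 F463939) (iv6 F463941) F451227
theorem F487083 : act 7 n217036 = n214570 := d15_2 F486624 (iv0 F487081) (iv2 F486619)
def n217037 : Q := act 1 n186680
theorem D217037 : act 1 n186680 = n217037 := rfl
theorem F487084 : act 1 n217037 = n211207 := d15_1 D217037 F460611 (iv2 F367653)
theorem F487085 : act 7 n217037 = n191598 := d15_2 (iv0 F367655) D217037 F383924
theorem F487086 : act 5 n217037 = n188176 := d17_7 F294920 F294858 (iv1 D42651) D42653 D91062 (iv5 F367654) D217037 F372587 (iv4 D98872)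
theorem F487087 : act 4 n217037 = n200143 := d17_9 F475514 F475511 F376446 (iv5 D135615) (iv4 F216056) (iv5 F379873) (iv0 D188190) (iv5 F367654) D217037
theorem F487088 : act 3 n186705 = n217037 := d19_19 (iv1 D217037) F367654 (iv4 D91062) F66695 (iv1 F293268) (iv5 D22146) (iv4 F293136) (iv3 F293693) F293692 (iv5 D19482) (iv4 F27363) (iv3 D16695) (iv1 D7779) D7780 D16697 D34428 D75181 (iv5 F332752) (iv4 F367740)
theorem F487089 : act 6 n197514 = n217037 := d21_3 D208597 F450070 (iv5 F404651) (iv1 D217037) (iv6 D186680) (iv5 D89035) (iv1 F136700) F364853 (iv6 D134784) D134780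
theorem F487090 : act 2 n217037 = n191792 := d3_1 F487089 (iv6 F384457) D197514
def n217038 : Q := act 7 n186682
theorem D217038 : act 7 n186682 = n217038 := rfl
theorem F487091 : act 3 n217038 = n189899 := d8_1 D217038 (iv7 D189899) (iv3 F367658)
theorem F487092 : act 6 n217038 = n211207 := d14_1 D217038 F460611 (iv6 D183467) (iv7 F136712) D186682
theorem F487093 : act 1 n191626 = n217038 := d15_1 (iv0 F418875) (iv7 D217038) (iv2 F391858)
theorem F487094 : act 1 n217038 = n216713 := d15_1 F487093 F485592 F431877
def n217039 : Q := act 4 n186689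
theorem D217039 : act 4 n186689 = n217039 := rfl
theorem F487095 : act 2 n217039 = n216386 := d1_1 D217039 (iv4 D216386) (iv2 F367683)
theorem F487096 : act 3 n217039 = n200665 := d5_1 D217039 F417399 (iv3 F383700) (iv4 D186691) (iv3 F367684)
theorem F487097 : act 7 n217039 = n191550 := d11_2 (iv7 F367685) D217039 (iv4 D191550)
def n217040 : Q := act 6 n186689
theorem D217040 : act 6 n186689 = n217040 := rfl
theorem F487098 : act 2 n217040 = n216387 := d3_1 D217040 (iv6 D216387) (iv2 F367683)
theorem F487099 : act 3 n217040 = n186692 := d7_1 D217040 (iv6 D186692) (iv3 F367684)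
theorem F487100 : act 5 n217040 = n192378 := d12_1 D217040 (iv6 D192378) F346705 F346702 D186689
theorem F487101 : act 0 n211254 = n217040 := d21_4 (iv5 F467062) (iv1 F467064) F450971 (iv6 F460821) (iv6 D217040) (iv5 D186689) (iv1 F233027) (iv5 F285124) (iv6 F363950) (iv1 F450902)
theorem E104034 : n210283 = n192378 := (c21_8 F434205 (iv1 F456451) (iv5 D210170) (iv6 D137786) (iv1 F347222) D64889 D138101 D210283 (iv5 F487100) (iv6 D217040) F434207)
theorem F487102 : act 1 n192378 = n138101 := (sb E104034 (iv0 D210283))
def n217041 : Q := act 3 n186693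
theorem D217041 : act 3 n186693 = n217041 := rfl
theorem F487103 : act 2 n217041 = n200958 := d0_1 D217041 (iv3 D200958) (iv2 F204689) F383698 (iv2 F367699)
theorem F487104 : act 5 n217041 = n190396 := d6_2 F389612 D217041 (iv3 F389616)
theorem F487105 : act 7 n217041 = n191541 := d8_2 (iv7 F367700) D217041 (iv3 D191541)
theorem F487106 : act 0 n201012 = n217041 := d20_4 F82738 D52519 D113745 D201012 (iv3 D217041) (iv4 D186693) (iv1 F367687) F417849 (iv3 D200767) (iv1 D113436)
def n217042 : Q := act 6 n186696
theorem D217042 : act 6 n186696 = n217042 := rfl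
theorem F487107 : act 2 n217042 = n210255 := d3_1 D217042 F456923 (iv2 F442812)
theorem F487108 : act 3 n217042 = n186697 := d7_1 D217042 (iv6 D186697) D186696
theorem F487109 : act 4 n217042 = n208402 := d10_1 D217042 (iv6 F449206) F437407
theorem F487110 : act 7 n217042 = n208452 := d14_2 (iv7 F367713) D217042 F449412 F383802 (iv6 D191558)
theorem F487111 : act 0 n210256 = n217042 := d18_0 F487109 (iv1 D208402) F216289 D134283 D208420 F449283 F361023 D192741 (iv5 F456759)
theorem F487112 : act 0 n217042 = n208289 := d20_4 (iv4 F389585) (iv1 F389598) F389594 (iv3 F487108) F448759 F357344 F294438 (iv4 F352441) (iv3 F434822) F434825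
def n217043 : Q := act 3 n186700
theorem D217043 : act 3 n186700 = n217043 := rfl
theorem F487113 : act 2 n217043 = n207731 := d0_1 D217043 F446176 F212996 (iv3 F366039) (iv2 F367724)
theorem F487114 : act 4 n217043 = n186702 := d5_2 D186700 D217043 (iv3 D186702) (iv4 D89059) (iv3 F136733)
theorem F487115 : act 5 n217043 = n207730 := d6_2 F442783 D217043 F446173
theorem F487116 : act 7 n217043 = n191607 := d8_2 (iv7 F367725) D217043 (iv3 D191607)
theorem F487117 : act 0 n217043 = n208961 := d19_4 (iv1 F72653) D89057 D186700 D217043 (iv5 D208961) F384037 (iv3 F440901) F440905 F398177 (iv4 F295060) (iv3 F285220) F383929 (iv5 F383927) (iv4 F372808) F372807 F338427 (iv5 D93238) (iv4 F295223) F133371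
def n217044 : Q := act 6 n186700
theorem D217044 : act 6 n186700 = n217044 := rfl
theorem F487118 : act 2 n217044 = n216388 := d3_1 D217044 (iv6 D216388) (iv2 F367724)
theorem F487119 : act 4 n217044 = n186701 := d10_1 D217044 (iv6 D186701) D186700
def n217045 : Q := act 0 n186701
theorem D217045 : act 0 n186701 = n217045 := rfl
theorem F487120 : act 3 n217045 = n189895 := d20_5 D191696 F384181 F367731 (iv3 F367727) D217045 (iv4 F417182) (iv1 F384160) F284338 (iv3 F295377) (iv1 F152086)
theorem F487121 : act 2 n216389 = n217045 := d15_3 (iv0 D217045) (iv0 F454352) F484137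
theorem F487122 : act 7 n217045 = n216390 := d4_2 F484137 F487121 F484142
theorem F487123 : act 1 n216391 = n217045 := d15_1 F484143 F487122 F484142
def n217046 : Q := act 7 n186701
theorem D217046 : act 7 n186701 = n217046 := rfl
theorem F487124 : act 2 n217046 = n216391 := d4_1 D217046 (iv7 D216391) (iv2 F367726)
theorem F487125 : act 3 n217046 = n186706 := d8_1 D217046 (iv7 D186706) (iv3 F367727)
theorem F487126 : act 5 n217046 = n210305 := d13_1 D217046 (iv7 F456930) F385011
theorem F487127 : act 6 n217046 = n191612 := d14_1 D217046 (iv7 D191612) (iv6 D98592) (iv7 F136734) D186701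
theorem F487128 : act 1 n216390 = n217046 := d15_1 D216390 (iv7 D217046) F367726
theorem F487129 : act 1 n217046 = n216389 := d15_1 F487128 (iv7 F484137) (iv2 F484142)
def n217047 : Q := act 2 n186702
theorem D217047 : act 2 n186702 = n217047 := rfl
theorem F487130 : act 3 n217047 = n191595 := d0_2 D186702 D217047 (iv2 D191595) (iv3 D98581) (iv2 F136739)
theorem F487131 : act 4 n217047 = n207731 := d1_2 F487114 D217047 (iv2 F487113)
theorem F487132 : act 5 n217047 = n195638 := d2_2 F367820 D217047 F397688
theorem F487133 : act 6 n217047 = n206649 := d3_2 F381096 D217047 F441733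
theorem F487134 : act 7 n217047 = n191616 := d4_2 (iv7 F367728) D217047 (iv2 D191616)
theorem F487135 : act 1 n217047 = n191614 := d15_0 (iv0 D191614) (iv7 F367728) D217047
theorem F487136 : act 1 n191615 = n217047 := d15_0 F487135 (iv7 F483768) F483766
def n217048 : Q := act 4 n186708
theorem D217048 : act 4 n186708 = n217048 := rfl
theorem F487137 : act 2 n217048 = n186712 := d1_1 D217048 (iv4 D186712) (iv2 F367754)
theorem F487138 : act 3 n217048 = n207733 := d5_1 D217048 (iv4 D207733) (iv3 F383956) (iv4 D191603) (iv3 F367755)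
theorem F487139 : act 5 n217048 = n205758 := d9_2 D186708 D217048 F437732 (iv5 F376250) (iv4 D189263) (iv5 D93817) F68937 D46081 D98574 D191585 F383900 F376871 (iv4 D189554) (iv5 D94041) (iv4 F136745)
theorem F487140 : act 7 n217048 = n191578 := d11_2 (iv7 F367756) D217048 (iv4 D191578)
theorem F487141 : act 0 n217048 = n189773 := d18_2 (iv1 F367757) D217048 (iv4 D189773) F292473 F76400 D88687 (iv4 F284089) (iv0 F367097) F251755
theorem F487142 : act 1 n217048 = n191583 := d18_6 (iv1 F294195) (iv4 F136151) F293186 (iv4 F136745) D186708 D217048 F383896 (iv0 F338482) F338483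
def n217049 : Q := act 6 n186708
theorem D217049 : act 6 n186708 = n217049 := rfl
theorem F487143 : act 2 n217049 = n186713 := d3_1 D217049 (iv6 D186713) (iv2 F367754)
theorem F487144 : act 3 n217049 = n191604 := d7_1 D217049 (iv6 D191604) (iv3 F367755)
def n217050 : Q := act 4 n186710
theorem D217050 : act 4 n186710 = n217050 := rfl
theorem F487145 : act 2 n217050 = n191581 := d1_1 D217050 (iv4 D191581) F367769
theorem F487146 : act 5 n217050 = n206105 := d9_2 F380803 D217050 (iv4 D206105) F364868 (iv4 F464935) (iv5 F486125) F486124 (iv5 F371292) (iv4 F465603) F465604 (iv4 D206107) F347380 (iv4 F227972) (iv5 F339779) F380799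
theorem F487147 : act 6 n217050 = n207699 := d10_2 (iv6 F448816) D217050 (iv4 F448815)
theorem F487148 : act 7 n217050 = n191580 := d11_2 (iv7 F367768) D217050 (iv4 D191580)
theorem F487149 : act 0 n217050 = n207061 := d17_0 F443153 (iv1 F437239) (iv5 F437568) F437567 (iv5 D186707) F136748 D98570 F367763 D217050
theorem F487150 : act 1 n217050 = n216167 := d18_6 (iv1 F160957) (iv4 F288642) F339781 F380799 F380803 D217050 (iv4 D216167) F344327 (iv5 D182415)
def n217051 : Q := act 3 n186712
theorem D217051 : act 3 n186712 = n217051 := rfl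
theorem F487151 : act 4 n217051 = n186716 := d5_2 D186712 D217051 (iv3 D186716) (iv4 D89066) (iv3 F136751)
theorem F487152 : act 5 n217051 = n208955 := d6_2 (iv5 F437391) D217051 (iv3 F451544)
theorem F487153 : act 7 n217051 = n191584 := d8_2 (iv7 F367770) D217051 (iv3 D191584)
def n217052 : Q := act 6 n186712
theorem D217052 : act 6 n186712 = n217052 := rfl
theorem F487154 : act 4 n217052 = n186713 := d10_1 D217052 (iv6 D186713) D186712
def n217053 : Q := act 0 n186713
theorem D217053 : act 0 n186713 = n217053 := rfl
def n217054 : Q := act 1 n186713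
theorem D217054 : act 1 n186713 = n217054 := rfl
theorem F487155 : act 3 n201690 = n217054 := d19_19 (iv1 D217054) (iv5 F392027) (iv4 F469503) F469502 (iv1 F469397) (iv5 D213194) (iv4 D152788) (iv3 F320549) F316928 (iv5 F183672) F332527 F338646 F338674 (iv5 F231616) F338678 F339584 (iv1 D175645) D175647 (iv4 F421424)
theorem F487156 : act 5 n215586 = n217054 := d21_6 (iv5 D192238) (iv1 D99922) D99923 (iv6 F383579) (iv1 F471427) (iv6 F480649) (iv1 D217054) (iv5 F392027) (iv6 D194091) (iv1 F386159)
theorem F487157 : act 6 n217054 = n191527 := d7_2 F470690 F487155 F470693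
def n217055 : Q := act 7 n186713
theorem D217055 : act 7 n186713 = n217055 := rfl
theorem F487158 : act 3 n217055 = n186720 := d8_1 D217055 (iv7 D186720) (iv3 F367772)
theorem F487159 : act 5 n217055 = n213119 := d13_1 D217055 F469087 F392027
theorem F487160 : act 6 n217055 = n191589 := d14_1 D217055 (iv7 D191589) (iv6 D98575) (iv7 F136752) D186713
def n217056 : Q := act 0 n186716
theorem D217056 : act 0 n186716 = n217056 := rfl
theorem F487161 : act 3 n217056 = n216302 := d20_5 F147811 F73677 D89066 D186716 D217056 (iv4 D216302) (iv1 D182767) (iv4 F295376) (iv3 D96147) D96145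
theorem F487162 : act 4 n217056 = n207729 := d20_0 (iv1 D207729) (iv4 F398794) (iv3 D195942) F165620 (iv3 F327931) F147811 F73677 D89066 D186716 D217056
theorem F487163 : act 5 n217056 = n191614 := d21_2 F367789 D217056 F383976 (iv1 F164362) (iv6 F363270) (iv5 F395625) F395626 F352192 (iv6 F440868) (iv1 F440869)
theorem F487164 : act 6 n217056 = n207687 := d21_5 (iv5 F362918) (iv1 F211971) (iv5 F445425) (iv6 F445426) D217056 F446012 F398950 D196052 F399217 (iv1 F362923)
theorem F487165 : act 1 n191595 = n217056 := d15_0 (iv0 D217056) F367776 D191595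
theorem F487166 : act 2 n191594 = n217056 := d3_3 F487164 F446010 F417739
theorem E104035 : n207729 = n207689 := ((c10_3 F487164 (iv4 D207687) D207689 (iv4 F487162))).symm
theorem F487167 : act 0 n207689 = n132249 := (sb E104035 (iv1 D207729))
theorem F487168 : act 4 n207689 = n217056 := (sb E104035 (iv4 F487162))
theorem F487169 : act 7 n191593 = n217056 := d13_0 F487163 (iv7 F483768) F483767
def n217057 : Q := act 1 n186716
theorem D217057 : act 1 n186716 = n217057 := rfl
theorem F487170 : act 7 n217057 = n191594 := d15_2 (iv0 D217056) D217057 F487166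
theorem F487171 : act 4 n207728 = n217057 := d20_0 (iv1 D217057) (iv4 F487151) (iv3 D217051) (iv1 F407078) (iv3 D198167) (iv4 D108983) F165662 (iv4 F164308) D132249 D207728
theorem F487172 : act 3 n195941 = n217057 := d20_3 (iv4 F398484) (iv1 F398487) (iv4 F398790) (iv1 D217057) (iv3 D186716) (iv4 D89066) (iv1 F74856) (iv4 F147816) F327929 D131855
theorem F487173 : act 5 n191615 = n217057 := d21_0 (iv1 D217057) (iv5 F367789) F367798 (iv1 F362881) (iv6 F362858) (iv5 D157777) (iv1 F343671) D206649 (iv6 F487133) (iv1 F487136)
theorem F487174 : act 2 n217057 = n191593 := d2_1 F487173 (iv5 F483767) F483766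
theorem F487175 : act 1 n217057 = n191595 := d15_0 F487165 (iv7 F487169) (iv2 F487174)
def n217058 : Q := act 2 n186716
theorem D217058 : act 2 n186716 = n217058 := rfl
theorem F487176 : act 3 n217058 = n191616 := d0_2 D186716 D217058 (iv2 D191616) (iv3 D98596) (iv2 F136755)
theorem F487177 : act 5 n217058 = n206449 := d2_2 F367789 D217058 (iv2 F440862)
theorem F487178 : act 6 n217058 = n206487 := d3_2 (iv6 F445426) D217058 F445428
theorem F487179 : act 7 n217058 = n191595 := d4_2 (iv7 F367776) D217058 (iv2 D191595)
theorem F487180 : act 1 n217058 = n191593 := d15_0 (iv0 D191593) (iv7 F367776) D217058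
theorem F487181 : act 1 n191594 = n217058 := d15_0 F487180 F487169 (iv2 F487166)
def n217059 : Q := act 7 n186717
theorem D217059 : act 7 n186717 = n217059 := rfl
theorem F487182 : act 2 n217059 = n191621 := d4_1 D217059 (iv7 D191621) (iv2 F367777)
theorem F487183 : act 3 n217059 = n206489 := d8_1 D217059 (iv7 F445424) F445427
theorem F487184 : act 4 n217059 = n186720 := d11_1 D217059 (iv7 D186720) (iv4 F367778)
theorem F487185 : act 5 n217059 = n206488 := d13_1 D217059 (iv7 F446279) F446277
theorem F487186 : act 6 n217059 = n191597 := d14_1 D217059 (iv7 D191597) (iv6 D98582) (iv7 F136756) D186717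
theorem F487187 : act 1 n191619 = n217059 := d15_1 D191619 (iv7 D217059) F367777
theorem F487188 : act 1 n217059 = n191618 := d15_1 F487187 (iv7 F384022) F384015
def n217060 : Q := act 6 n186718
theorem D217060 : act 6 n186718 = n217060 := rfl
theorem F487189 : act 2 n217060 = n191625 := d3_1 D217060 (iv6 D191625) F383713
theorem F487190 : act 3 n217060 = n187771 := d7_1 D217060 F448194 F421344
theorem F487191 : act 4 n217060 = n191620 := d10_1 D217060 (iv6 F384008) F384009
theorem F487192 : act 7 n217060 = n191536 := d14_2 (iv7 F383712) D217060 (iv6 D191536) (iv7 F367688) F367690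
theorem F487193 : act 0 n206475 = n217060 := d21_4 F323234 D93146 (iv5 F332681) D206475 (iv6 D217060) (iv5 F484486) (iv1 F484487) (iv5 D208795) (iv6 D135093) (iv1 D63491)
def n217061 : Q := act 1 n186721
theorem D217061 : act 1 n186721 = n217061 := rfl
theorem F487194 : act 1 n217061 = n190722 := d15_1 D217061 F380805 (iv2 F367785)
theorem F487195 : act 7 n217061 = n191656 := d15_2 F465618 D217061 (iv2 F465612)
theorem F487196 : act 5 n217061 = n207695 := d17_7 F448051 F448048 (iv1 F452031) (iv5 D209051) F384124 (iv5 F384122) D217061 F446041 F379624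
theorem F487197 : act 4 n217061 = n190212 := d17_9 (iv1 F450786) (iv5 F483078) F483081 F442766 F442764 (iv5 F437587) F437590 (iv5 F384122) D217061
theorem F487198 : act 2 n191655 = n217061 := d1_3 F487197 (iv2 F381690) (iv4 F384063)
theorem F487199 : act 3 n210257 = n217061 := d5_5 F487197 F379093 (iv4 D138035) D138034 D210257
def n217062 : Q := act 3 n186721
theorem D217062 : act 3 n186721 = n217062 := rfl
theorem F487200 : act 2 n217062 = n207735 := d0_1 D217062 (iv3 D207735) (iv2 F437667) F437668 (iv2 F367785)
theorem F487201 : act 4 n217062 = n186723 := d5_2 D186721 D217062 (iv3 D186723) (iv4 D89069) D89068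
theorem F487202 : act 5 n217062 = n207830 := d6_2 (iv5 F384122) D217062 (iv3 D207830)
theorem F487203 : act 7 n217062 = n191657 := d8_2 (iv7 F367786) D217062 (iv3 D191657)
theorem F487204 : act 6 n207574 = n217062 := d12_0 F487202 (iv6 F446624) (iv5 F445765) (iv6 F445766) F445757
def n217063 : Q := act 6 n186721
theorem D217063 : act 6 n186721 = n217063 := rfl
theorem F487205 : act 2 n217063 = n206725 := d3_1 D217063 F442749 (iv2 F367785)
theorem F487206 : act 3 n217063 = n207574 := d7_1 D217063 F487204 (iv3 D217062)
theorem F487207 : act 4 n217063 = n186722 := d10_1 D217063 (iv6 D186722) D186721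
theorem F487208 : act 0 n206721 = n217063 := d21_4 F212967 (iv1 F96835) D129145 D206721 (iv6 D217063) F384122 (iv1 F437590) F437587 (iv6 D129656) D129653
theorem F487209 : act 1 n206728 = n217063 := d15_0 (iv0 F487208) (iv7 F441969) (iv2 F441987)
theorem F487210 : act 7 n206726 = n217063 := d8_0 F487206 F445513 F441980
theorem F487211 : act 6 n212376 = n206726 := d14_5 F487210 (iv6 D217063) F367786 D191659 (iv7 F465573)
def n217064 : Q := act 0 n186722
theorem D217064 : act 0 n186722 = n217064 := rfl
theorem F487212 : act 6 n217064 = n209290 := d21_5 F328975 (iv1 F133786) (iv5 F295064) D186722 D217064 (iv5 F484754) F484757 (iv5 F456934) (iv6 D183405) F329335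
theorem F487213 : act 2 n208465 = n217064 := d15_3 (iv0 D217064) (iv0 F380824) D208465
theorem F487214 : act 3 n217064 = n190718 := d0_2 (iv3 F449474) F487213 (iv2 F380781) F221345 (iv2 F333888)
theorem F487215 : act 4 n217064 = n205784 := d1_2 (iv4 F449475) F487213 F442851
theorem F487216 : act 7 n217064 = n205780 := d4_2 D208465 F487213 F437844
theorem F487217 : act 1 n208463 = n217064 := d15_1 D208463 F487216 F437844
theorem F487218 : act 5 n209602 = n217064 := d6_0 F487214 (iv5 F470266) F470264
theorem F487219 : act 0 n209602 = n210191 := d21_1 (iv5 F487218) (iv5 D210191) (iv6 D137821) (iv1 D64768) D64770 F328975 (iv1 F133786) (iv5 F295064) D186722 D217064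
def n217065 : Q := act 7 n186722
theorem D217065 : act 7 n186722 = n217065 := rfl
theorem F487220 : act 2 n217065 = n208463 := d4_1 D217065 F449469 (iv2 F367787)
theorem F487221 : act 3 n217065 = n186728 := d8_1 D217065 (iv7 D186728) (iv3 F367788)
theorem F487222 : act 4 n217065 = n206726 := d11_1 D217065 F487210 F487207
theorem F487223 : act 6 n217065 = n191662 := d14_1 D217065 (iv7 D191662) (iv6 D98618) (iv7 F136760) D186722
theorem F487224 : act 1 n205780 = n217065 := d15_1 (iv0 F437847) (iv7 D217065) F367787
theorem F487225 : act 1 n217065 = n208465 := d15_1 F487224 (iv7 D208465) (iv2 F437844)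
def n217066 : Q := act 1 n186724
theorem D217066 : act 1 n186724 = n217066 := rfl
theorem F487226 : act 1 n217066 = n191647 := d15_1 D217066 (iv7 D191647) (iv2 F367791)
theorem F487227 : act 7 n217066 = n191644 := d15_2 (iv0 F441292) D217066 (iv2 F441288)
theorem F487228 : act 5 n217066 = n196064 := d17_7 (iv1 D208447) D208448 F454584 (iv5 D191624) (iv4 F384028) F384029 D217066 F399265 (iv4 F449392)
theorem F487229 : act 4 n217066 = n187042 := d17_9 F368889 (iv5 F371232) F371233 (iv5 F389555) (iv4 F434012) F434013 F380144 F384029 D217066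
theorem F487230 : act 3 n187694 = n217066 := d20_3 F399239 F349142 D187694 (iv1 D217066) (iv3 F367797) D207574 F445514 (iv4 D206472) (iv3 F440940) F440945
theorem F487231 : act 2 n217066 = n191645 := d0_1 F487230 (iv3 F384055) F211554 (iv3 F211556) (iv2 F371204)
theorem F487232 : act 6 n217066 = n201883 := d7_2 (iv6 F371205) F487230 (iv3 D201883)
theorem F487233 : act 0 n187668 = n191639 := d20_4 (iv4 D94057) (iv1 F69119) D90440 D187668 F383993 (iv4 F384043) (iv1 F487226) F487229 F368887 F291717
def n217067 : Q := act 7 n186724
theorem D217067 : act 7 n186724 = n217067 := rfl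
theorem F487234 : act 2 n217067 = n191647 := d4_1 D217067 (iv7 D191647) (iv2 F367791)
theorem F487235 : act 3 n217067 = n196237 := d8_1 D217067 F400010 F367797
theorem F487236 : act 4 n217067 = n186728 := d11_1 D217067 (iv7 D186728) (iv4 F367792)
theorem F487237 : act 5 n217067 = n206675 := d13_1 D217067 F441836 F384029
theorem F487238 : act 6 n217067 = n191669 := d14_1 D217067 (iv7 D191669) (iv6 D98620) (iv7 F136762) D186724
theorem F487239 : act 1 n191645 = n217067 := d15_1 D191645 (iv7 D217067) F367791
theorem F487240 : act 1 n217067 = n191644 := d15_1 F487239 (iv7 F487227) F487231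
def n217068 : Q := act 5 n186725
theorem D217068 : act 5 n186725 = n217068 := rfl
theorem F487241 : act 2 n217068 = n191650 := d2_1 D217068 (iv5 D191650) (iv2 F377969)
theorem F487242 : act 3 n217068 = n207526 := d6_1 D217068 F445298 F367794
theorem F487243 : act 7 n217068 = n191651 := d13_2 F377968 D217068 (iv5 D191651)
theorem F487244 : act 0 n217068 = n216240 := d18_0 (iv4 D216240) (iv1 D182216) (iv4 F137146) D187042 (iv4 F487229) F487226 F384043 F367804 D217068
def n217069 : Q := act 5 n186726
theorem D217069 : act 5 n186726 = n217069 := rfl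
theorem F487245 : act 2 n217069 = n191651 := d2_1 D217069 (iv5 D191651) F377964
theorem F487246 : act 3 n217069 = n208430 := d6_1 D217069 (iv5 D208430) (iv3 F367807)
theorem F487247 : act 6 n217069 = n216997 := d12_2 (iv6 F367809) D217069 F486905 F462368 (iv5 D207517)
theorem F487248 : act 7 n217069 = n191650 := d13_2 (iv7 F377970) D217069 (iv5 D191650)
theorem F487249 : act 0 n216240 = n217069 := d21_10 (iv5 D217069) (iv1 D186726) D186727 F367801 (iv1 D89599) D89601 (iv5 F367411) (iv1 F390654) (iv5 F483825) F483824
def n217070 : Q := act 1 n186727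
theorem D217070 : act 1 n186727 = n217070 := rfl
theorem F487250 : act 1 n217070 = n191654 := d15_1 D217070 (iv7 D191654) (iv2 F367800)
theorem F487251 : act 7 n217070 = n191448 := d15_2 (iv0 F386393) D217070 (iv2 F386391)
theorem F487252 : act 5 n217070 = n217060 := d17_7 F396088 (iv5 D190560) D190558 F384029 F367792 D186727 D217070 (iv0 F487193) F441002
theorem F487253 : act 3 n212903 = n217070 := d19_19 (iv1 D217070) (iv5 D186727) (iv4 F367792) (iv3 F367797) (iv1 F362881) (iv5 D128825) F95205 F48375 F101992 D63682 D135470 (iv3 F340916) F340902 (iv5 D106181) D106180 (iv3 F178978) F340893 D151331 D212903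
theorem F487254 : act 2 n217070 = n191652 := d0_1 F487253 (iv3 F430826) (iv2 F444198) F444199 (iv2 F468044)
def n217071 : Q := act 4 n186727
theorem D217071 : act 4 n186727 = n217071 := rfl
theorem F487255 : act 2 n217071 = n191653 := d1_1 D217071 (iv4 D191653) (iv2 F367800)
theorem F487256 : act 6 n217071 = n187141 := d10_2 (iv6 F367801) D217071 (iv4 D187141)
theorem F487257 : act 5 n217071 = n215585 := d16_1 D217071 F480644 F383591 (iv4 F384033) (iv5 F384044) F384043 (iv5 F384062) (iv7 D191654) (iv2 F367800)
theorem F487258 : act 1 n217071 = n195018 := d18_6 (iv1 F368892) (iv4 F487229) (iv1 D217066) F367792 D186727 D217071 F395436 F394486 F394484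
theorem F487259 : act 7 n216461 = n217071 := d13_0 F487257 (iv7 F483462) D216461
def n217072 : Q := act 7 n186727
theorem D217072 : act 7 n186727 = n217072 := rfl
theorem F487260 : act 2 n217072 = n191654 := d4_1 D217072 (iv7 D191654) (iv2 F367800)
theorem F487261 : act 4 n217072 = n216461 := d11_1 D217072 F487259 (iv4 D217071)
theorem F487262 : act 5 n217072 = n186728 := d13_1 D217072 (iv7 D186728) D186727
theorem F487263 : act 6 n217072 = n192443 := d14_1 D217072 (iv7 D192443) F154130 (iv7 F137367) (iv6 F367801)
theorem F487264 : act 1 n191652 = n217072 := d15_1 D191652 (iv7 D217072) F367800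
theorem F487265 : act 1 n217072 = n191448 := d15_1 F487264 (iv7 F487251) F487254
def n217073 : Q := act 6 n186729
theorem D217073 : act 6 n186729 = n217073 := rfl
theorem F487266 : act 2 n217073 = n186731 := d3_1 D217073 (iv6 D186731) D186729
theorem F487267 : act 3 n217073 = n190723 := d7_1 D217073 (iv6 D190723) (iv3 F367811)
theorem F487268 : act 4 n217073 = n207853 := d10_1 D217073 F446729 F437804
theorem F487269 : act 5 n217073 = n192393 := d12_1 D217073 (iv6 D192393) (iv5 D100145) (iv6 F291555) (iv5 F367812)
theorem F487270 : act 0 n210219 = n217073 := d21_4 F402443 F402441 F402231 D210219 (iv6 D217073) F367812 (iv1 F371293) (iv5 F371292) (iv6 F411280) F411282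
theorem F487271 : act 1 n210247 = n217073 := d15_0 (iv0 F487270) (iv7 F456630) D210247
theorem F487272 : act 7 n217073 = n210246 := d15_2 F466910 F487271 (iv2 F456730)
def n217074 : Q := act 3 n186730
theorem D217074 : act 3 n186730 = n217074 := rfl
theorem F487273 : act 4 n217074 = n186732 := d5_2 D186730 D217074 (iv3 D186732) (iv4 D89072) D89071
theorem F487274 : act 7 n217074 = n191634 := d8_2 (iv7 F367816) D217074 (iv3 D191634)
theorem F487275 : act 0 n217074 = n208956 := d19_4 (iv1 D100152) (iv5 F136766) D186730 D217074 (iv5 D208956) F217874 F163710 (iv1 F164038) (iv5 F328766) F82660 (iv3 F83104) F139352 F293441 (iv4 F126987) (iv3 F270259) F376514 F376512 F287961 (iv3 F371294)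
theorem F487276 : act 6 n195704 = n217074 := d10_0 F487273 (iv6 F367825) D195704
def n217075 : Q := act 6 n186730
theorem D217075 : act 6 n186730 = n217075 := rfl
theorem F487277 : act 2 n217075 = n207853 := d3_1 D217075 F446729 (iv2 F437805)
theorem F487278 : act 3 n217075 = n195704 := d7_1 D217075 F487276 (iv3 D217074)
theorem F487279 : act 4 n217075 = n186731 := d10_1 D217075 (iv6 D186731) D186730
theorem F487280 : act 5 n217075 = n205962 := d12_1 D217075 (iv6 F442676) F442675 (iv6 F439273) F439272
theorem F487281 : act 7 n207789 = n217075 := d13_0 F487280 F438607 D207789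
theorem F487282 : act 1 n211246 = n217075 := d17_6 F347025 (iv5 F220098) (iv1 D126630) D126632 D205825 (iv5 F460791) F487280 F442178 F442175
theorem F487283 : act 0 n210274 = n195704 := d20_4 F360517 F360510 D138093 D210274 (iv3 F487278) F487279 F384098 D210248 F456733 (iv1 D206891)
theorem F487284 : act 1 n210274 = n195706 := d15_1 (iv0 F487283) F397902 (iv2 F397898)
def n217076 : Q := act 1 n186731
theorem D217076 : act 1 n186731 = n217076 := rfl
theorem F487285 : act 1 n217076 = n210246 := d15_1 D217076 (iv7 F487272) F487266
theorem F487286 : act 7 n217076 = n210247 := d15_2 (iv0 F384098) D217076 (iv2 D210247)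
theorem F487287 : act 4 n217076 = n214495 := d17_9 (iv1 D214495) F251351 (iv1 F350879) (iv5 F418826) F418827 F386815 (iv0 D192401) (iv5 F367819) D217076
theorem F487288 : act 3 n201107 = n217076 := d19_19 (iv1 D217076) F367819 (iv4 F386645) (iv3 F401108) (iv1 F422473) (iv5 D201940) F220501 F220496 (iv1 F220498) (iv5 F225704) (iv4 F361551) F361550 (iv1 D110865) D110867 (iv4 F349534) (iv3 F349533) F371121 (iv5 F371120) (iv4 F419107)
theorem F487289 : act 6 n199209 = n217076 := d21_3 F453001 (iv1 D199207) D199209 (iv1 D217076) (iv6 D186731) F136766 D100151 F251755 F357369 F453005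
theorem F487290 : act 2 n217076 = n210219 := d3_1 F487289 (iv6 D210219) (iv2 F411177)
def n217077 : Q := act 0 n186732
theorem D217077 : act 0 n186732 = n217077 := rfl
theorem F487291 : act 3 n217077 = n205547 := d20_5 F72688 (iv1 F64194) D89072 D186732 D217077 F436943 (iv1 D195006) (iv4 F367832) (iv3 D186735) (iv1 F136775)
theorem F487292 : act 4 n217077 = n208962 := d20_0 (iv1 F451581) F437678 (iv3 D205254) (iv1 D125649) F326582 F72688 (iv1 F64194) D89072 D186732 D217077
theorem F487293 : act 5 n217077 = n206448 := d21_2 (iv5 F367820) D217077 (iv6 D206448) (iv1 F206901) (iv6 F396537) D132014 F211511 F96579 D106456 F367729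
theorem F487294 : act 2 n191641 = n217077 := d15_3 (iv0 D217077) (iv0 F417208) F417207
theorem F487295 : act 1 n191642 = n217077 := d15_0 (iv0 D217077) F367821 D191642
theorem F487296 : act 7 n217077 = n191640 := d15_2 F417210 F487295 (iv2 F417211)
def n217078 : Q := act 5 n186741
theorem D217078 : act 5 n186741 = n217078 := rfl
theorem F487297 : act 2 n217078 = n190560 := d2_1 D217078 (iv5 D190560) (iv2 F367854)
theorem F487298 : act 3 n217078 = n204887 := d6_1 D217078 F434022 (iv3 F367855)
theorem F487299 : act 6 n217078 = n191618 := d12_2 D186741 D217078 F384020 (iv6 D186736) (iv5 F136794)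
theorem F487300 : act 7 n217078 = n204884 := d13_2 (iv7 F367857) D217078 F434013
theorem F487301 : act 4 n217078 = n209758 := d16_6 F386950 F376036 F358600 F157128 (iv4 F367856) D217078 F454849 F394482 F386953
theorem F487302 : act 1 n217078 = n207627 := d17_6 F483681 F483678 F390248 F157128 (iv4 F367856) D217078 (iv5 D207627) (iv0 F399264) (iv4 F449077)
def n217079 : Q := act 4 n186746
theorem D217079 : act 4 n186746 = n217079 := rfl
theorem F487303 : act 6 n217079 = n215122 := d10_2 F476582 D217079 F478470
theorem F487304 : act 0 n217079 = n190923 := d17_0 F381560 (iv1 F385819) (iv5 F476553) (iv4 F476554) F476434 (iv0 F393740) F393737 (iv0 F393742) D217079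
theorem F487305 : act 1 n217079 = n190887 := d18_6 (iv1 F137981) (iv4 F135757) F335745 (iv4 F136800) D186746 D217079 (iv4 D190887) (iv0 F369739) (iv5 D187293)
theorem F487306 : act 7 n215491 = n217079 := d14_0 F487303 (iv7 F478471) (iv6 F479450) F479451 D215491
theorem F487307 : act 3 n217079 = n211840 := d8_1 F487306 F481193 (iv3 F480211)
def n217080 : Q := act 7 n186746
theorem D217080 : act 7 n186746 = n217080 := rfl
theorem F487308 : act 3 n217080 = n186889 := d8_1 D217080 (iv7 F479308) F479307
theorem F487309 : act 4 n217080 = n215491 := d11_1 D217080 F487306 (iv4 D217079)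
theorem F487310 : act 5 n217080 = n186747 := d13_1 D217080 (iv7 D186747) D186746
theorem F487311 : act 0 n190184 = n215491 := d18_2 F158656 D190184 (iv4 F487309) F487310 F367873 (iv0 F289551) (iv4 F70259) (iv0 F136448) D97044
theorem F487312 : act 6 n215490 = n217080 := d10_0 F487309 (iv6 D215491) D215490
def n217081 : Q := act 6 n186749
theorem D217081 : act 6 n186749 = n217081 := rfl
theorem F487313 : act 2 n217081 = n187021 := d3_1 D217081 (iv6 D187021) F367879
theorem F487314 : act 4 n217081 = n187024 := d10_1 D217081 F368868 (iv4 F368860)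
theorem F487315 : act 0 n187036 = n217081 := d21_4 F292380 (iv1 F143039) (iv5 F292676) D187036 (iv6 D217081) F370955 F370953 F368798 (iv6 F368801) F288577
def n217082 : Q := act 0 n186750
theorem D217082 : act 0 n186750 = n217082 := rfl
theorem F487316 : act 5 n217082 = n187130 := d17_1 D217082 (iv1 D187130) (iv5 F288579) (iv4 F368802) (iv5 F368798) (iv0 F370953) (iv5 F370955) (iv0 D186749) D186750
theorem F487317 : act 4 n217082 = n191724 := d18_3 F289696 D186750 D217082 F384275 (iv4 F393736) (iv0 F393741) F387973 F357141 D102306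
theorem F487318 : act 1 n191450 = n217082 := d15_0 (iv0 D217082) (iv7 F386416) F386412
theorem F487319 : act 2 n216319 = n217082 := d1_3 F487317 (iv2 F384276) D216319
theorem F487320 : act 7 n216321 = n217082 := d11_0 F487317 (iv7 F384277) D216321
theorem F487321 : act 6 n217082 = n187705 := d3_2 F483819 F487319 F375652
def n217083 : Q := act 1 n186750
theorem D217083 : act 1 n186750 = n217083 := rfl
theorem F487322 : act 1 n217083 = n191450 := d15_1 D217083 (iv7 F479315) F479314
theorem F487323 : act 7 n217083 = n216319 := d15_2 (iv0 D217082) D217083 F487319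
theorem F487324 : act 4 n217083 = n191725 := d18_7 (iv1 F152402) (iv4 F152403) (iv1 F353210) F136800 D89088 D186750 D217083 F384279 (iv5 D182224)
theorem F487325 : act 5 n217083 = n187129 := d18_9 (iv1 F486852) F486848 (iv1 F385818) (iv4 D102228) D102229 (iv4 F368860) (iv0 D186749) D186750 D217083
theorem F487326 : act 2 n216321 = n217083 := d2_3 F487325 (iv2 F390655) (iv5 F483825)
def n217084 : Q := act 5 n186750
theorem D217084 : act 5 n186750 = n217084 := rfl
theorem F487327 : act 2 n217084 = n193946 := d2_1 D217084 (iv5 F479316) F479314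
theorem F487328 : act 3 n217084 = n210504 := d6_1 D217084 F457826 F430849
theorem F487329 : act 6 n217084 = n192189 := d12_2 F383241 D217084 (iv5 F385917) (iv6 F384765) (iv5 F384758)
theorem F487330 : act 7 n217084 = n191517 := d13_2 F386416 D217084 (iv5 F386415)
theorem F487331 : act 0 n217084 = n193965 := d17_2 (iv1 D217083) D217084 F391543 (iv4 F384269) (iv5 D191722) (iv0 D98849) D98851 D191725 (iv4 F487324)
theorem F487332 : act 1 n217084 = n192195 := d17_6 F368821 (iv5 D185997) F335745 D89088 D186750 D217084 F385952 (iv0 F388087) (iv4 D192878)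
def n217085 : Q := act 5 n186753
theorem D217085 : act 5 n186753 = n217085 := rfl
theorem F487333 : act 3 n217085 = n189942 := d6_1 D217085 (iv5 D189942) (iv3 F367886)
theorem F487334 : act 6 n217085 = n186755 := d12_2 D186753 D217085 (iv5 D186755) (iv6 D89092) D89091
def n217086 : Q := act 7 n186753
theorem D217086 : act 7 n186753 = n217086 := rfl
theorem F487335 : act 3 n217086 = n189943 := d8_1 D217086 (iv7 D189943) (iv3 F367886)
theorem F487336 : act 4 n217086 = n192723 := d11_1 D217086 F387599 (iv4 F367887)
theorem F487337 : act 6 n217086 = n212776 := d14_1 D217086 (iv7 D212776) (iv6 D149274) (iv7 F136805) D186753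
theorem F487338 : act 1 n190221 = n217086 := d15_1 F379119 (iv7 D217086) (iv2 F368382)
theorem F487339 : act 1 n217086 = n190266 := d15_1 F487338 (iv7 F475663) F475661
def n217087 : Q := act 5 n186754
theorem D217087 : act 5 n186754 = n217087 := rfl
theorem F487340 : act 2 n217087 = n190274 := d2_1 D217087 (iv5 D190274) F367889
theorem F487341 : act 3 n217087 = n187231 := d6_1 D217087 (iv5 D187231) F367892
theorem F487342 : act 6 n217087 = n215481 := d12_2 F479254 D217087 F480175 F476392 (iv5 F479251)
theorem F487343 : act 7 n217087 = n190231 := d13_2 (iv7 F367891) D217087 (iv5 D190231)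
theorem F487344 : act 0 n217087 = n193591 := d17_2 D186754 D217087 (iv5 D193591) (iv4 D101996) (iv5 F357146) (iv0 D89365) (iv5 D41732) F289521 (iv4 F136808)
theorem F487345 : act 1 n217087 = n193592 := d17_6 (iv1 D189888) D189889 F378890 (iv5 D190114) (iv4 F367888) D217087 (iv5 D193592) F390381 F390379
def n217088 : Q := act 0 n186755
theorem D217088 : act 0 n186755 = n217088 := rfl
theorem F487346 : act 5 n217088 = n194902 := d17_3 (iv1 F289525) D186755 D217088 F394942 (iv5 F380669) (iv0 F206234) (iv5 F306631) D95635 (iv4 F251834)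
theorem F487347 : act 2 n190279 = n217088 := d15_3 (iv0 D217088) (iv0 F475711) F475710
theorem F487348 : act 1 n186889 = n217088 := d15_0 (iv0 D217088) (iv7 F486767) F486765
theorem F487349 : act 7 n217088 = n190238 := d15_2 F475712 F487348 (iv2 F475707)
theorem F487350 : act 3 n187235 = n217088 := d8_3 F487349 (iv3 D190238) (iv7 F369594)
theorem F487351 : act 4 n190132 = n217088 := d20_2 D95656 D190132 (iv3 F487350) (iv1 D187235) F137898 D89837 (iv1 F147309) (iv4 D95629) D95628 F147307
def n217089 : Q := act 4 n186755
theorem D217089 : act 4 n186755 = n217089 := rfl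
theorem F487352 : act 5 n217089 = n187917 := d16_1 D217089 F371836 (iv5 F370845) F336778 (iv5 D89354) D89353 D186889 (iv7 F479308) F479306
theorem F487353 : act 0 n217089 = n190947 := d18_2 F475711 D217089 (iv4 D190947) (iv5 F156948) F156947 (iv0 F335341) (iv4 F385143) (iv0 F385145) D214543
def n217090 : Q := act 4 n186756
theorem D217090 : act 4 n186756 = n217090 := rfl
theorem F487354 : act 2 n217090 = n186767 := d1_1 D217090 (iv4 D186767) (iv2 F367894)
theorem F487355 : act 3 n217090 = n194661 := d5_1 D217090 (iv4 F405191) F405189 (iv4 D193375) (iv3 F367895)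
theorem F487356 : act 6 n217090 = n186757 := d10_2 (iv6 F367896) D217090 (iv4 D186757)
theorem F487357 : act 7 n217090 = n209497 := d11_2 (iv7 F367897) D217090 F453924
theorem F487358 : act 5 n217090 = n201108 := d16_1 D217090 F419112 F352326 F342688 F342647 F272217 (iv5 F367951) (iv7 D186768) (iv2 F367894)
theorem F487359 : act 0 n217090 = n209566 := d17_0 F454160 (iv1 F453399) (iv5 F454151) F454152 F366169 F429479 F429476 F367937 D217090
theorem F487360 : act 1 n217090 = n209576 := d18_6 (iv1 F319023) (iv4 F383200) F383203 F187916 D186756 D217090 F468206 F468205 (iv5 D175734)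
def n217091 : Q := act 1 n186759
theorem D217091 : act 1 n186759 = n217091 := rfl
theorem F487361 : act 1 n217091 = n198953 := d15_1 D217091 F410038 F378236
theorem F487362 : act 5 n217091 = n199848 := d17_7 (iv1 F411781) (iv5 D199342) (iv1 F172470) F380321 F367408 D186759 D217091 (iv0 D199848) (iv4 F361300)
theorem F487363 : act 3 n211697 = n217091 := d20_3 F478040 (iv1 F396244) (iv4 F462741) (iv1 D217091) F367904 (iv4 F332567) (iv1 F171465) (iv4 F358381) D190775 (iv1 F478043)
theorem F487364 : act 4 n192801 = n217091 := d20_6 D195981 F398950 F164151 (iv3 F112349) (iv1 F319885) (iv3 F387828) (iv1 D217091) (iv4 F377260) F377259 (iv1 F164410)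
theorem F487365 : act 6 n208230 = n217091 := d21_3 (iv5 D142363) F215906 D208230 (iv1 D217091) F367905 (iv5 D89105) F70176 D95548 D190016 F378567
def n217092 : Q := act 6 n186763
theorem D217092 : act 6 n186763 = n217092 := rfl
theorem F487366 : act 2 n217092 = n215217 := d3_1 D217092 (iv6 D215217) (iv2 F367919)
theorem F487367 : act 3 n217092 = n207885 := d7_1 D217092 (iv6 D207885) (iv3 F367920)
theorem F487368 : act 4 n217092 = n202130 := d10_1 D217092 (iv6 D202130) (iv4 F367922)
def n217093 : Q := act 6 n186766
theorem D217093 : act 6 n186766 = n217093 := rfl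
theorem F487369 : act 2 n217093 = n202665 := d3_1 D217093 F424992 (iv2 F367943)
theorem F487370 : act 3 n217093 = n207708 := d7_1 D217093 (iv6 D207708) F367945
theorem F487371 : act 4 n217093 = n207716 := d10_1 D217093 (iv6 D207716) (iv4 F367944)
theorem F487372 : act 5 n217093 = n202664 := d12_1 D217093 F424988 (iv5 D192830) (iv6 F366673) F367942
theorem F487373 : act 7 n217093 = n212448 := d14_2 (iv7 F367941) D217093 (iv6 F484693) F484691 (iv6 D209392)
def n217094 : Q := act 7 n186767
theorem D217094 : act 7 n186767 = n217094 := rfl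
theorem F487374 : act 2 n217094 = n209497 := d4_1 D217094 (iv7 F487357) F487354
theorem F487375 : act 3 n217094 = n208776 := d8_1 D217094 F450823 F372592
theorem F487376 : act 4 n217094 = n186768 := d11_1 D217094 (iv7 D186768) D186767
theorem F487377 : act 5 n217094 = n209421 := d13_1 D217094 F453617 (iv5 F367947)
theorem F487378 : act 6 n217094 = n213024 := d14_1 D217094 F468643 (iv6 D189089) (iv7 F295268) (iv6 F367946)
theorem F487379 : act 1 n209576 = n217094 := d15_1 F487360 (iv7 D217094) (iv2 F487354)
theorem F487380 : act 1 n217094 = n209566 := d15_1 F487379 F454161 D209576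
def n217095 : Q := act 0 n186770
theorem D217095 : act 0 n186770 = n217095 := rfl
theorem F487381 : act 5 n217095 = n199683 := d17_3 (iv1 F449295) (iv5 F374782) D217095 F413118 (iv5 F367058) F365435 F291523 (iv0 F233577) (iv4 F449291)
theorem F487382 : act 4 n217095 = n190513 := d18_1 D217095 (iv1 D190513) (iv4 F372729) (iv5 F419118) (iv4 F419119) F374713 (iv4 F406306) (iv0 F406311) (iv5 F374782)
theorem F487383 : act 3 n217095 = n192220 := d20_5 (iv4 F387623) (iv1 F387625) F362334 (iv3 F367956) D217095 (iv4 F412831) (iv1 F412833) (iv4 D134354) (iv3 F216348) F377962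
theorem F487384 : act 1 n186773 = n217095 := d15_0 (iv0 D217095) (iv7 F372718) F372717
theorem F487385 : act 2 n192001 = n217095 := d0_5 F487383 F386058 (iv3 F428447) F428446 F420759
theorem F487386 : act 6 n188136 = n217095 := d7_0 F487383 (iv6 D192220) (iv3 F372435)
theorem F487387 : act 7 n208425 = n217095 := d8_0 F487383 (iv7 F386062) D208425
def n217096 : Q := act 1 n186770
theorem D217096 : act 1 n186770 = n217096 := rfl
theorem F487388 : act 1 n217096 = n186773 := d15_1 D217096 (iv7 F372724) F372723
theorem F487389 : act 7 n217096 = n192001 := d15_2 (iv0 D217095) D217096 F487385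
theorem F487390 : act 4 n217096 = n190512 := d17_9 (iv1 F379963) (iv5 D98903) (iv1 F147740) D190511 (iv4 F431520) F431521 (iv0 F406311) (iv5 F374782) D217096
theorem F487391 : act 5 n217096 = n208685 := d18_9 F452393 (iv4 F452391) F463909 F463906 F378146 (iv4 D188214) F343088 D186770 D217096
theorem F487392 : act 2 n208425 = n217096 := d2_3 F487391 (iv2 D208685) (iv5 F449306)
def n217097 : Q := act 6 n186770
theorem D217097 : act 6 n186770 = n217097 := rfl
theorem F487393 : act 2 n217097 = n204530 := d3_1 D217097 (iv6 F432811) F372723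
theorem F487394 : act 3 n217097 = n193055 := d7_1 D217097 F388696 (iv3 F367956)
theorem F487395 : act 4 n217097 = n186771 := d10_1 D217097 (iv6 D186771) D186770
theorem F487396 : act 5 n217097 = n186998 := d12_1 D217097 F368791 F293262 D188767 (iv5 F374782)
theorem F487397 : act 0 n204525 = n217097 := d21_4 (iv5 D204206) (iv1 F197320) D123962 D204525 (iv6 D217097) F374782 F406311 (iv5 F431521) (iv6 D204216) (iv1 F431487)
theorem F487398 : act 1 n204533 = n217097 := d15_0 (iv0 F487397) (iv7 F451819) F451817
theorem F487399 : act 7 n204531 = n217097 := d11_0 F487395 F390212 F451821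
def n217098 : Q := act 0 n186772
theorem D217098 : act 0 n186772 = n217098 := rfl
theorem F487400 : act 5 n217098 = n187404 := d17_3 F294796 D186772 D217098 (iv4 D187404) D187405 (iv0 F370211) F138378 D91849 (iv4 F142797)
theorem F487401 : act 4 n217098 = n217011 := d18_1 D217098 (iv1 F486979) (iv4 D191832) (iv5 D98988) F72953 F157284 (iv4 F147420) (iv0 F157292) D186772
theorem F487402 : act 3 n217098 = n192621 := d20_5 (iv4 F487382) (iv1 F487384) (iv4 D186773) (iv3 F367959) D217098 F387260 (iv1 D191769) (iv4 D98907) (iv3 F152457) (iv1 F379966)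
theorem F487403 : act 2 n189119 = n217098 := d15_3 (iv0 D217098) F379868 (iv7 F375816)
theorem F487404 : act 1 n191330 = n217098 := d15_0 (iv0 D217098) (iv7 F372722) (iv2 F383072)
theorem F487405 : act 7 n217098 = n216818 := d15_2 (iv0 F383074) F487404 F486044
theorem F487406 : act 6 n192619 = n217098 := d7_0 F487402 (iv6 D192621) D192619
def n217099 : Q := act 6 n186773
theorem D217099 : act 6 n186773 = n217099 := rfl
theorem F487407 : act 2 n217099 = n204482 := d3_1 D217099 (iv6 F432675) F372717
theorem F487408 : act 3 n217099 = n208537 := d7_1 D217099 F449777 F367961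
theorem F487409 : act 4 n217099 = n186774 := d10_1 D217099 (iv6 D186774) D186773
theorem F487410 : act 5 n217099 = n208535 := d12_1 D217099 (iv6 D208535) (iv5 D134597) D134598 (iv5 F367960)
theorem F487411 : act 0 n217099 = n201223 := d21_4 F431521 F406309 (iv5 F367960) D217099 F419512 (iv5 D133981) (iv1 F101073) D139285 (iv6 F367974) F431522
theorem F487412 : act 1 n217099 = n201218 := d15_1 (iv0 F487411) F419484 (iv2 F419510)
theorem F487413 : act 7 n204481 = n217099 := d13_0 F487410 (iv7 F480753) F480754
def n217100 : Q := act 1 n186774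
theorem D217100 : act 1 n186774 = n217100 := rfl
theorem F487414 : act 1 n217100 = n209441 := d15_1 D217100 F453718 F372719
theorem F487415 : act 7 n217100 = n209686 := d15_2 (iv0 F426721) D217100 F454628
theorem F487416 : act 5 n217100 = n193501 := d17_7 F438257 (iv5 F420983) (iv1 D173680) (iv5 F270130) F354521 (iv5 F367962) D217100 (iv0 F390094) (iv4 F438254)
theorem F487417 : act 6 n209435 = n217100 := d21_3 F367931 F404582 (iv5 F453700) (iv1 D217100) (iv6 D186774) (iv5 D89119) (iv1 D41636) D41637 (iv6 F136825) D186765
theorem F487418 : act 2 n217100 = n189128 := d3_1 F487417 F375845 (iv2 F453702)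
theorem F487419 : act 3 n217100 = n198580 := d7_1 F487417 F408380 F453701
def n217101 : Q := act 7 n186774
theorem D217101 : act 7 n186774 = n217101 := rfl
theorem F487420 : act 2 n217101 = n209441 := d4_1 D217101 F453718 F372719
theorem F487421 : act 4 n217101 = n204481 := d11_1 D217101 F487413 F487409
theorem F487422 : act 5 n217101 = n193443 := d13_1 D217101 F389843 (iv5 F367962)
theorem F487423 : act 1 n189128 = n217101 := d15_1 F375846 (iv7 D217101) (iv2 F372719)
theorem F487424 : act 1 n217101 = n209686 := d15_1 F487423 (iv7 F487415) F487418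
def n217102 : Q := act 1 n186776
theorem D217102 : act 1 n186776 = n217102 := rfl
theorem F487425 : act 1 n217102 = n186779 := d15_1 D217102 (iv7 F375691) F375689
theorem F487426 : act 7 n217102 = n207127 := d15_2 (iv0 F431522) D217102 F443445
theorem F487427 : act 4 n217102 = n190112 := d17_9 F378877 F367098 (iv1 F367240) (iv5 F367241) F449307 F449306 (iv0 F380035) F380044 D217102
theorem F487428 : act 5 n217102 = n208422 := d18_9 (iv1 F449295) F374781 (iv1 F177285) (iv4 F419123) F419124 (iv4 D189081) (iv0 F295265) D186776 D217102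
theorem F487429 : act 6 n193650 = n217102 := d21_3 (iv5 D115391) D115388 (iv5 F390561) (iv1 D217102) F367974 (iv5 D139285) (iv1 D65374) D65376 (iv6 F356109) (iv1 F354217)
theorem F487430 : act 2 n217102 = n208423 := d3_1 F487429 F449297 F390562
theorem F487431 : act 3 n217102 = n207336 := d7_1 F487429 (iv6 F448228) F448226
def n217103 : Q := act 0 n186777
theorem D217103 : act 0 n186777 = n217103 := rfl
theorem F487432 : act 5 n217103 = n199310 := d17_1 D217103 F411603 (iv5 F231944) (iv4 F357528) (iv5 F357530) (iv0 D115925) D115928 F386895 F367973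
theorem F487433 : act 4 n217103 = n210676 := d18_1 D217103 (iv1 F460444) F460442 F457961 (iv4 F226337) (iv0 F355642) F355645 (iv0 F355610) (iv5 F367972)
theorem F487434 : act 3 n217103 = n211514 := d20_5 (iv4 F461557) F461559 F412694 (iv3 F367971) D217103 F461921 (iv1 D197877) D197878 F406085 (iv1 F431158)
theorem F487435 : act 2 n188363 = n217103 := d15_3 (iv0 D217103) (iv0 F426174) (iv7 F378691)
theorem F487436 : act 1 n202913 = n217103 := d15_0 (iv0 D217103) (iv7 F448495) F448493
theorem F487437 : act 7 n217103 = n212442 := d15_2 (iv0 F426182) F487436 F465810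
def n217104 : Q := act 4 n186778
theorem D217104 : act 4 n186778 = n217104 := rfl
theorem F487438 : act 2 n217104 = n216153 := d1_1 D217104 (iv4 F486710) F486708
theorem F487439 : act 3 n217104 = n207713 := d5_1 D217104 F446120 (iv3 F434958) (iv4 D186779) D186778
theorem F487440 : act 7 n217104 = n209605 := d11_2 (iv7 F367976) D217104 F454313
theorem F487441 : act 0 n217104 = n191417 := d18_2 (iv1 F379086) D217104 (iv4 D191417) (iv5 D98334) (iv4 F149504) (iv0 F149506) F147664 (iv0 F294796) (iv5 F373068)
theorem F487442 : act 1 n217104 = n189571 := d18_6 F67941 (iv4 F141527) F372689 (iv4 D188211) (iv5 F367975) D217104 (iv4 D189571) (iv0 F145004) F293094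
def n217105 : Q := act 6 n186778
theorem D217105 : act 6 n186778 = n217105 := rfl
theorem F487443 : act 2 n217105 = n212445 := d3_1 D217105 (iv6 F486709) F486708
theorem F487444 : act 3 n217105 = n186780 := d7_1 D217105 (iv6 D186780) D186778
theorem F487445 : act 5 n217105 = n203469 := d12_1 D217105 (iv6 D203469) (iv5 F372423) F372419 (iv5 F367975)
theorem F487446 : act 7 n217105 = n202914 := d14_2 (iv7 F367976) D217105 (iv6 D202914) F183489 D146942
theorem F487447 : act 1 n211202 = n217105 := d15_1 (iv0 F460588) F487446 F426184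
theorem F487448 : act 0 n212443 = n217105 := d17_0 F487445 (iv1 F467893) F467891 F458481 (iv5 F465357) (iv0 D212332) D212335 (iv0 F465367) (iv4 F465816)
def n217106 : Q := act 6 n186779
theorem D217106 : act 6 n186779 = n217106 := rfl
theorem F487449 : act 2 n217106 = n188153 := d3_1 D217106 F375684 F375681
theorem F487450 : act 3 n217106 = n193006 := d7_1 D217106 F444228 (iv3 F434958)
theorem F487451 : act 4 n217106 = n186780 := d10_1 D217106 (iv6 D186780) D186779
theorem F487452 : act 7 n217106 = n210493 := d14_2 F375691 D217106 (iv6 D210493) F222477 (iv6 F375690)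
theorem F487453 : act 0 n191992 = n217106 := d20_10 F487451 F373113 D188340 (iv3 F387218) (iv1 F387221) F181215 (iv4 F341349) (iv1 F409233) (iv4 F410388) (iv3 F410392)
def n217107 : Q := act 5 n186780
theorem D217107 : act 5 n186780 = n217107 := rfl
theorem F487454 : act 2 n217107 = n191992 := d2_1 D217107 F385133 F375685
theorem F487455 : act 3 n217107 = n203469 := d6_1 D217107 (iv5 F487445) F487444
theorem F487456 : act 6 n217107 = n188134 := d12_2 D186780 D217107 (iv5 D188134) F357552 (iv5 F357554)
theorem F487457 : act 0 n217107 = n188153 := d21_1 D217107 F480725 (iv6 F480724) (iv1 D197595) (iv6 F333443) D192002 F390905 F390903 D216501 F484703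
theorem F487458 : act 0 n210493 = n217107 := d21_10 (iv5 D217107) F373113 D188341 (iv6 F373108) F357404 F356109 (iv5 D65376) D65373 D139282 D210493
def n217108 : Q := act 7 n186780
theorem D217108 : act 7 n186780 = n217108 := rfl
theorem F487459 : act 2 n217108 = n188337 := d4_1 D217108 (iv7 F409135) F375685
theorem F487460 : act 3 n217108 = n202914 := d8_1 D217108 (iv7 F487446) F487444
theorem F487461 : act 4 n217108 = n210493 := d11_1 D217108 (iv7 F487452) F487451
theorem F487462 : act 6 n217108 = n202913 := d14_1 D217108 F426181 (iv6 F347753) (iv7 F357555) D186780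
theorem F487463 : act 1 n187630 = n217108 := d15_1 F375688 (iv7 D217108) (iv2 F375685)
theorem F487464 : act 1 n217108 = n188339 := d15_1 F487463 (iv7 F484702) F484699
def n217109 : Q := act 5 n186781
theorem D217109 : act 5 n186781 = n217109 := rfl
theorem F487465 : act 2 n217109 = n207088 := d2_1 D217109 F443262 (iv2 F375694)
theorem F487466 : act 3 n217109 = n191681 := d6_1 D217109 F384134 (iv3 F372637)
theorem F487467 : act 4 n217109 = n207085 := d9_1 D217109 (iv5 F486199) (iv4 D216848) (iv5 D185956) (iv4 F141494) F294366 D183141 D216356 F483984 F443275 (iv4 F352841) (iv5 F352885) (iv4 F140144) (iv5 F372554) F372556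
theorem F487468 : act 7 n217109 = n211598 := d13_2 F375697 D217109 F462322
theorem F487469 : act 0 n217109 = n188226 := d17_2 F375673 D217109 (iv5 D188226) (iv4 D91101) (iv5 D42665) D42662 (iv5 F357554) F295266 D189081
theorem F487470 : act 6 n217109 = n207084 := d21_3 F419124 F375673 D217109 F443249 (iv6 D187774) (iv5 F140171) (iv1 F367453) F367451 D187669 (iv1 F419127)
theorem F487471 : act 6 n216502 = n186781 := d21_5 (iv5 D183921) F177361 D87800 D184069 D216502 D217109 F487469 (iv5 D188226) D188227 F372741
theorem F487472 : act 3 n209589 = n216502 := d7_3 F487471 F372637 D209589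
def n217110 : Q := act 6 n186784
theorem D217110 : act 6 n186784 = n217110 := rfl
theorem F487473 : act 2 n217110 = n193391 := d3_1 D217110 (iv6 D193391) (iv2 F367988)
theorem F487474 : act 3 n217110 = n203739 := d7_1 D217110 F429622 F412717
theorem F487475 : act 4 n217110 = n186785 := d10_1 D217110 (iv6 D186785) D186784
theorem F487476 : act 5 n217110 = n186975 := d12_1 D217110 (iv6 D186975) (iv5 F354705) F354703 (iv5 F367990)
theorem F487477 : act 7 n217110 = n188238 := d14_2 (iv7 F367989) D217110 (iv6 D188238) F370915 F370910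
theorem F487478 : act 0 n217110 = n189159 := d21_4 F294781 F332684 (iv5 F367990) D217110 (iv6 D189159) F295174 F352560 D137150 (iv6 F352558) (iv1 D91212)
theorem F487479 : act 0 n186863 = n217110 := d21_4 (iv5 F74505) (iv1 F156395) D89320 (iv6 F368339) (iv6 D217110) F367990 (iv1 F332690) F352557 (iv6 F295271) (iv1 F136845)
def n217111 : Q := act 3 n186786
theorem D217111 : act 3 n186786 = n217111 := rfl
theorem F487480 : act 2 n217111 = n214437 := d0_1 D217111 F475175 F412722 F332712 (iv2 F368008)
theorem F487481 : act 4 n217111 = n214433 := d5_2 D186786 D217111 F475162 (iv4 D184721) (iv3 F155421)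
theorem F487482 : act 5 n217111 = n206549 := d6_2 (iv5 F368009) D217111 (iv3 D206549)
theorem F487483 : act 6 n217111 = n188235 := d7_2 F368012 D217111 (iv3 D188235)
theorem F487484 : act 7 n217111 = n193390 := d8_2 (iv7 F368010) D217111 (iv3 D193390)
theorem F487485 : act 0 n217111 = n210213 := d19_4 (iv1 F64260) D89133 D186786 D217111 (iv5 D210213) F221173 (iv3 F221114) (iv1 F448890) F448889 (iv4 F363164) F278782 F130592 F87961 F44926 F312258 (iv1 F167156) (iv5 F313761) (iv4 F155129) F74501
def n217112 : Q := act 4 n186787
theorem D217112 : act 4 n186787 = n217112 := rfl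
theorem F487486 : act 2 n217112 = n193395 := d1_1 D217112 (iv4 D193395) (iv2 F368014)
theorem F487487 : act 7 n217112 = n193480 := d11_2 (iv7 F368016) D217112 (iv4 D193480)
theorem F487488 : act 5 n217112 = n186990 := d16_1 D217112 F396374 F396372 F374871 (iv5 F307529) F307528 D192104 F385564 (iv2 F368014)
theorem F487489 : act 0 n217112 = n192313 := d17_0 F386390 F388131 (iv5 D192895) (iv4 D100908) (iv5 D47034) D47033 D100905 (iv0 F368018) D217112
theorem F487490 : act 1 n217112 = n192311 := d18_6 (iv1 F275094) F275089 (iv1 F274615) F249607 D186787 D217112 (iv4 D192311) F384534 F384533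
theorem F487491 : act 3 n186991 = n217112 := d6_3 F487488 (iv3 D186990) D186991
def n217113 : Q := act 1 n186788
theorem D217113 : act 1 n186788 = n217113 := rfl
theorem F487492 : act 1 n217113 = n188359 := d15_1 D217113 (iv7 F373181) (iv2 F368019)
theorem F487493 : act 7 n217113 = n187633 := d15_2 (iv0 F373150) D217113 F371061
theorem F487494 : act 6 n188351 = n217113 := d21_3 D93307 D189160 (iv5 F375888) (iv1 D217113) (iv6 D186788) F319338 F317059 (iv5 F156363) (iv6 F295176) (iv1 D93306)
theorem F487495 : act 2 n217113 = n188361 := d3_1 F487494 (iv6 F390426) F390420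
def n217114 : Q := act 7 n186789
theorem D217114 : act 7 n186789 = n217114 := rfl
theorem F487496 : act 2 n217114 = n193399 := d4_1 D217114 (iv7 D193399) (iv2 F368022)
theorem F487497 : act 3 n217114 = n212781 := d8_1 D217114 F467476 (iv3 F368023)
theorem F487498 : act 4 n217114 = n193523 := d11_1 D217114 F390159 (iv4 F368024)
theorem F487499 : act 5 n217114 = n189142 := d13_1 D217114 F385049 F385046
theorem F487500 : act 6 n217114 = n188359 := d14_1 D217114 (iv7 F373181) (iv6 D101580) (iv7 F156877) D186789
theorem F487501 : act 1 n188365 = n217114 := d15_1 (iv0 F374456) (iv7 D217114) F368022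
theorem F487502 : act 1 n217114 = n193398 := d15_1 F487501 F389708 (iv2 F378693)
def n217115 : Q := act 6 n186790
theorem D217115 : act 6 n186790 = n217115 := rfl
theorem F487503 : act 2 n217115 = n187014 := d3_1 D217115 (iv6 D187014) (iv2 F368025)
theorem F487504 : act 5 n217115 = n193002 := d12_1 D217115 (iv6 D193002) (iv5 F368030) (iv6 D186791) D186790
theorem F487505 : act 7 n217115 = n207718 := d14_2 F466824 D217115 F446136 (iv7 F390629) (iv6 F466823)
theorem F487506 : act 0 n209405 = n217115 := d21_4 (iv5 D179934) D179932 (iv5 F469963) (iv6 F469965) (iv6 D217115) (iv5 D186790) (iv1 D89153) D89154 (iv6 F155736) (iv1 F280236)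
theorem F487507 : act 1 n209406 = n217115 := d15_1 D209406 F487505 F446135
def n217116 : Q := act 6 n186792
theorem D217116 : act 6 n186792 = n217116 := rfl
theorem F487508 : act 2 n217116 = n187029 := d3_1 D217116 (iv6 D187029) (iv2 F372874)
theorem F487509 : act 5 n217116 = n214054 := d12_1 D217116 F473267 (iv5 D191289) (iv6 F372880) F372879
def n217117 : Q := act 6 n186794
theorem D217117 : act 6 n186794 = n217117 := rfl
theorem F487510 : act 3 n217117 = n216177 := d7_1 D217117 (iv6 D216177) (iv3 F368033)
theorem F487511 : act 4 n217117 = n216261 := d10_1 D217117 F485949 F465330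
theorem F487512 : act 5 n217117 = n186935 := d12_1 D217117 (iv6 D186935) (iv5 D89397) (iv6 F337240) (iv5 F368034)
theorem F487513 : act 0 n217117 = n203079 := d21_4 F466822 (iv1 F337237) (iv5 F368034) D217117 F426897 (iv5 D134550) D134548 D208529 F449744 (iv1 F466826)
theorem F487514 : act 1 n217117 = n203076 := d15_1 (iv0 F487513) F426892 (iv2 F426896)
def n217118 : Q := act 6 n186796
theorem D217118 : act 6 n186796 = n217118 := rfl
theorem F487515 : act 3 n217118 = n186798 := d7_1 D217118 (iv6 D186798) (iv3 F368041)
theorem F487516 : act 4 n217118 = n200142 := d10_1 D217118 F447632 (iv4 F391859)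
theorem F487517 : act 5 n217118 = n191769 := d12_1 D217118 F387261 F385307 (iv6 D186797) D186796
theorem F487518 : act 0 n217118 = n210216 := d21_4 (iv5 D189279) F157630 D186796 D217118 (iv6 D210216) (iv5 F326863) (iv1 F350018) (iv5 F350019) F450755 (iv1 F450756)
def n217119 : Q := act 1 n186797
theorem D217119 : act 1 n186797 = n217119 := rfl
theorem F487519 : act 7 n217119 = n189664 := d15_2 (iv0 F376332) D217119 F377298
theorem F487520 : act 4 n217119 = n187933 := d17_9 (iv1 F371874) (iv5 F370747) (iv1 F370750) (iv5 D90518) (iv4 F73531) D99545 D192036 F385307 D217119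
theorem F487521 : act 3 n211863 = n217119 := d20_3 (iv4 F291422) F352751 D211863 (iv1 D217119) F368044 (iv4 F357581) (iv1 F357619) F362781 (iv3 F362780) (iv1 F283715)
theorem F487522 : act 5 n192999 = n217119 := d21_0 (iv1 D217119) (iv5 F385307) (iv6 F387261) (iv1 D191769) D191772 F427200 (iv1 F427199) D212632 F466792 (iv1 F388479)
theorem F487523 : act 6 n217119 = n210110 := d21_3 D184504 (iv1 F388479) F487522 (iv1 D210110) (iv6 F349211) (iv5 D150754) (iv1 F114987) D160071 F349197 F177397
theorem F487524 : act 2 n217119 = n189666 := d0_1 F487521 F377304 F364432 (iv3 F379629) (iv2 F463310)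
def n217120 : Q := act 0 n186805
theorem D217120 : act 0 n186805 = n217120 := rfl
theorem F487525 : act 5 n217120 = n207338 := d17_3 (iv1 F348289) D186805 D217120 F444406 (iv5 D156542) (iv0 D74438) (iv5 F311028) (iv0 F308876) (iv4 F166779)
theorem F487526 : act 4 n217120 = n210207 := d18_1 D217120 (iv1 D210207) F430644 (iv5 D203970) F195541 F311023 F153349 (iv0 F348288) D186805
theorem F487527 : act 6 n217120 = n216413 := d21_5 F450126 (iv1 D159679) (iv5 F355778) (iv6 F368070) D217120 F484263 (iv1 D191285) D191286 F406339 (iv1 F450128)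
theorem F487528 : act 2 n193354 = n217120 := d15_3 (iv0 D217120) (iv0 F459070) (iv7 F459073)
theorem F487529 : act 1 n192061 = n217120 := d15_0 (iv0 D217120) F368071 (iv2 F385391)
theorem F487530 : act 7 n217120 = n193353 := d15_2 F459072 F487529 (iv2 F459068)
theorem F487531 : act 3 n204163 = n217120 := d20_5 D123448 (iv1 F329061) F329063 (iv3 F197245) D204163 F487526 (iv1 D210207) F430644 F430641 (iv1 F302127)
def n217121 : Q := act 0 n186810
theorem D217121 : act 0 n186810 = n217121 := rfl
theorem F487532 : act 5 n217121 = n193078 := d17_1 D217121 (iv1 D193078) F155857 F345235 (iv5 D87183) D87181 (iv5 F357349) F357347 D186810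
theorem F487533 : act 4 n217121 = n191467 := d18_1 D217121 F383525 F221292 F219803 F219802 D136659 D209588 (iv0 F483074) F483073
theorem F487534 : act 3 n217121 = n209791 := d20_5 (iv4 F443358) F443360 (iv4 F485073) F485072 D217121 F454966 (iv1 F451627) F451629 F441547 F441545
theorem F487535 : act 2 n210252 = n217121 := d15_3 (iv0 D217121) (iv0 F450150) (iv7 F456745)
theorem F487536 : act 1 n190711 = n217121 := d15_0 (iv0 D217121) (iv7 F384196) F384194
theorem F487537 : act 7 n217121 = n210253 := d15_2 F450151 F487536 F456748
theorem F487538 : act 6 n210266 = n217121 := d14_5 F487537 F456750 (iv7 D208607) D208606 (iv7 F456793)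
def n217122 : Q := act 5 n186817
theorem D217122 : act 5 n186817 = n217122 := rfl
theorem F487539 : act 2 n217122 = n189218 := d2_1 D217122 (iv5 D189218) (iv2 F368119)
theorem F487540 : act 3 n217122 = n212034 := d6_1 D217122 F464047 (iv3 F368120)
theorem F487541 : act 7 n217122 = n190410 := d13_2 F375746 D217122 F379704
theorem F487542 : act 1 n217122 = n189346 := d17_6 (iv1 F372829) F292413 F368126 (iv5 D186818) D186817 D217122 F376447 F370472 (iv4 F372830)
theorem F487543 : act 4 n217122 = n190412 := d18_5 (iv1 F293477) (iv4 F294390) D89200 D186817 D217122 F379710 F359561 F292460 (iv5 D94443)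
def n217123 : Q := act 4 n186818
theorem D217123 : act 4 n186818 = n217123 := rfl
theorem F487544 : act 0 n217123 = n191854 := d18_2 F368126 D217123 (iv4 D191854) (iv5 F367070) (iv4 F369321) (iv0 F370483) F286441 (iv0 F292412) F292413
theorem F487545 : act 1 n217123 = n191852 := d18_6 F157224 (iv4 F144664) F368122 (iv4 D186817) D186818 D217123 (iv4 D191852) (iv0 D99012) (iv5 D46320)
def n217124 : Q := act 6 n186818
theorem D217124 : act 6 n186818 = n217124 := rfl
theorem F487546 : act 2 n217124 = n208711 := d3_1 D217124 F450526 (iv2 F372949)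
theorem F487547 : act 0 n217124 = n199029 := d21_4 (iv5 D89202) D89200 D186818 D217124 (iv6 F412806) F412805 F413044 (iv5 D199662) (iv6 F368144) (iv1 D186824)
theorem F487548 : act 0 n208702 = n217124 := d21_4 F365167 (iv1 F216809) D134943 D208702 (iv6 D217124) (iv5 D186818) F295038 (iv5 F364231) (iv6 D135038) D135035
theorem F487549 : act 7 n208712 = n217124 := d15_2 (iv0 D208711) D208712 F487546
def n217125 : Q := act 5 n186820
theorem D217125 : act 5 n186820 = n217125 := rfl
theorem F487550 : act 2 n217125 = n191707 := d2_1 D217125 (iv5 D191707) (iv2 F368127)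
theorem F487551 : act 3 n217125 = n186821 := d6_1 D217125 (iv5 D186821) D186820
theorem F487552 : act 4 n217125 = n188603 := d9_1 D217125 (iv5 F448705) F448704 (iv5 F451969) F451968 F367099 (iv4 F143809) (iv5 F372883) F374177 F448681 F448678 D209035 F451946 F367105 (iv4 F368128)
theorem F487553 : act 7 n217125 = n191704 := d13_2 (iv7 F368129) D217125 (iv5 D191704)
theorem F487554 : act 0 n217125 = n192621 := d17_2 F368131 D217125 (iv5 F387258) F371003 F288409 F288413 (iv5 D93807) D93805 (iv4 F152588)
theorem F487555 : act 1 n217125 = n189120 := d17_6 (iv1 D88679) D88681 D186139 F367105 (iv4 F368128) D217125 F375817 (iv0 F370463) F140157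
def n217126 : Q := act 6 n186820
theorem D217126 : act 6 n186820 = n217126 := rfl
theorem F487556 : act 2 n217126 = n191708 := d3_1 D217126 (iv6 D191708) (iv2 F368127)
theorem F487557 : act 3 n217126 = n186822 := d7_1 D217126 (iv6 D186822) D186820
theorem F487558 : act 4 n217126 = n187115 := d10_1 D217126 F369139 (iv4 F368128)
theorem F487559 : act 7 n217126 = n210109 := d14_2 (iv7 F368129) D217126 F456207 F361589 F349205
theorem F487560 : act 0 n217126 = n210110 := d21_4 (iv5 F375817) (iv1 F487555) (iv5 D217125) D217126 (iv6 F487523) (iv5 F487522) (iv1 D192999) (iv5 D101084) (iv6 F338423) F370463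
theorem F487561 : act 5 n217126 = n209269 := d21_6 (iv5 F368048) F456788 F456784 F294971 F368131 D217126 (iv1 F452979) (iv5 F362224) (iv6 F367150) (iv1 F369299)
theorem F487562 : act 0 n191889 = n217126 := d17_0 F487561 (iv1 F452979) (iv5 F362224) (iv4 F153434) D187738 (iv0 F371379) F159972 (iv0 F288415) (iv4 F384679)
def n217127 : Q := act 4 n186821
theorem D217127 : act 4 n186821 = n217127 := rfl
theorem F487563 : act 0 n217127 = n191852 := d18_2 (iv1 F372946) D217127 (iv4 D191852) F367127 D187471 F370472 (iv4 F372830) F372828 D188281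
theorem F487564 : act 1 n217127 = n191854 := d18_6 F293935 D99007 F152533 F145092 D186821 D217127 (iv4 D191854) F367068 (iv5 D186287)
def n217128 : Q := act 6 n186821
theorem D217128 : act 6 n186821 = n217128 := rfl
theorem F487565 : act 2 n217128 = n209456 := d3_1 D217128 F453778 (iv2 F372888)
theorem F487566 : act 5 n217128 = n209455 := d12_1 D217128 F453774 (iv5 F368134) (iv6 D186822) D186821
theorem F487567 : act 0 n217128 = n189588 := d21_10 (iv5 F389175) (iv1 D136860) D136861 (iv6 F361062) (iv1 D135036) D135038 F364231 (iv1 F295037) D186821 D217128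
theorem F487568 : act 0 n209727 = n217128 := d21_4 (iv5 D152158) (iv1 F316614) (iv5 F429466) (iv6 F454774) (iv6 D217128) (iv5 D186821) (iv1 D89201) D89202 F136910 (iv1 F366451)
def n217129 : Q := act 4 n186823
theorem D217129 : act 4 n186823 = n217129 := rfl
theorem F487569 : act 2 n217129 = n199664 := d1_1 D217129 F413048 (iv2 F375768)
theorem F487570 : act 7 n217129 = n199658 := d11_2 F368139 D217129 F413035
theorem F487571 : act 0 n217129 = n191848 := d18_2 D186823 D217129 (iv4 D191848) (iv5 D99008) D99007 (iv0 F368121) (iv4 D186817) (iv0 D89200) D89202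
theorem F487572 : act 1 n217129 = n191400 := d18_6 D92551 D188599 F374160 (iv4 D188249) (iv5 F368137) D217129 (iv4 D191400) F177443 F292416
theorem F487573 : act 6 n199617 = n217129 := d14_5 F487570 (iv6 D199658) (iv7 F412039) (iv6 F412522) (iv7 F412869)
def n217130 : Q := act 6 n186823
theorem D217130 : act 6 n186823 = n217130 := rfl
theorem F487574 : act 2 n217130 = n200048 := d3_1 D217130 F414769 (iv2 F375768)
theorem F487575 : act 3 n217130 = n188253 := d7_1 D217130 (iv6 D188253) F368138
theorem F487576 : act 4 n217130 = n199617 := d10_1 D217130 F487573 (iv4 D217129)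
theorem F487577 : act 5 n217130 = n203027 := d12_1 D217130 F426692 (iv5 F372840) (iv6 D188250) (iv5 F368137)
def n217131 : Q := act 3 n186825
theorem D217131 : act 3 n186825 = n217131 := rfl
theorem F487578 : act 4 n217131 = n186826 := d5_2 D186825 D217131 (iv3 D186826) (iv4 D89203) (iv3 F136909)
theorem F487579 : act 6 n217131 = n216581 := d7_2 (iv6 F368146) D217131 (iv3 D216581)
theorem F487580 : act 0 n217131 = n199444 := d20_4 (iv4 F368143) (iv1 D186824) D186825 D217131 F412229 (iv4 F215929) (iv1 F343843) (iv4 F357724) F412254 F384586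
def n217132 : Q := act 5 n186825
theorem D217132 : act 5 n186825 = n217132 := rfl
theorem F487581 : act 4 n217132 = n216924 := d16_2 D186825 D217132 (iv5 D216924) (iv4 D186369) (iv5 D88776) D88775 (iv5 F364231) (iv7 F368117) F368114
theorem F487582 : act 0 n217132 = n216905 := d17_2 F384625 D217132 (iv5 D216905) (iv4 D186290) (iv5 D88738) D88736 D186285 F367086 D191870
theorem F487583 : act 1 n217132 = n216937 := d17_6 (iv1 F372946) (iv5 D186821) (iv1 D89201) D89202 D186825 D217132 F486610 F486487 F486485
def n217133 : Q := act 0 n186826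
theorem D217133 : act 0 n186826 = n217133 := rfl
theorem F487584 : act 5 n217133 = n187557 := d17_3 F377003 F373001 D217133 F370800 (iv5 D180385) D180383 F474293 F474291 (iv4 F375260)
theorem F487585 : act 2 n188001 = n217133 := d2_3 F487584 F376973 D188001
theorem F487586 : act 3 n201448 = n217133 := d6_3 F487584 (iv3 F370802) D201448
theorem F487587 : act 7 n188006 = n217133 := d13_0 F487584 F376974 D188006
theorem F487588 : act 6 n214420 = n217133 := d21_5 F139460 (iv1 F83433) (iv5 F143175) D188809 (iv1 F475110) F487584 (iv1 F370801) (iv5 F143193) (iv6 D92828) (iv1 F139458)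
def n217134 : Q := act 1 n186826
theorem D217134 : act 1 n186826 = n217134 := rfl
theorem F487589 : act 7 n217134 = n188001 := d15_2 (iv0 D217133) D217134 F487585
theorem F487590 : act 5 n187558 = n217134 := d21_0 (iv1 D217134) (iv5 F373001) (iv6 F377316) F377319 (iv6 D151235) F107771 (iv1 F65156) (iv5 F65527) D90605 (iv1 F370804)
theorem F487591 : act 6 n194432 = n217134 := d21_3 (iv5 F420996) F420997 (iv5 F393182) (iv1 D217134) F368148 (iv5 F377217) (iv1 F377221) (iv5 F375034) (iv6 F421708) (iv1 F421709)
theorem F487592 : act 2 n217134 = n188006 := d3_1 F487591 (iv6 F375051) F393183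
theorem F487593 : act 3 n217134 = n212264 := d7_1 F487591 (iv6 D212264) F393184
def n217135 : Q := act 6 n186832
theorem D217135 : act 6 n186832 = n217135 := rfl
theorem F487594 : act 2 n217135 = n186836 := d3_1 D217135 (iv6 D186836) (iv2 F368172)
theorem F487595 : act 3 n217135 = n199357 := d7_1 D217135 F411836 F411528
theorem F487596 : act 4 n217135 = n215984 := d10_1 D217135 F482418 F430488
theorem F487597 : act 5 n217135 = n216449 := d12_1 D217135 (iv6 D216449) (iv5 F368179) (iv6 D186833) D186832
theorem F487598 : act 7 n217135 = n199351 := d14_2 F411519 D217135 (iv6 D199351) F172514 D199294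
theorem F487599 : act 0 n217135 = n203002 := d21_4 F304522 (iv1 F337266) D186832 D217135 (iv6 D203002) (iv5 F365528) F365535 F383422 F383420 F348705
theorem F487600 : act 1 n217135 = n203005 := d15_1 (iv0 F487599) (iv7 D203005) (iv2 F426597)
def n217136 : Q := act 6 n186834
theorem D217136 : act 6 n186834 = n217136 := rfl
theorem F487601 : act 2 n217136 = n208412 := d3_1 D217136 F449243 F368185
theorem F487602 : act 3 n217136 = n186943 := d7_1 D217136 (iv6 D186943) F368186
theorem F487603 : act 4 n217136 = n215559 := d10_1 D217136 (iv6 D215559) (iv4 F368183)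
theorem F487604 : act 5 n217136 = n193011 := d12_1 D217136 (iv6 D193011) (iv5 D101095) D101096 (iv5 F368184)
theorem F487605 : act 7 n217136 = n208413 := d14_2 (iv7 F368187) D217136 (iv6 F470952) F470954 F426692
theorem F487606 : act 0 n217136 = n208414 := d21_4 (iv5 D101383) (iv1 F344235) (iv5 F368184) D217136 F449252 (iv5 F432520) F485196 F485192 F431354 F363839
theorem F487607 : act 0 n208409 = n217136 := d21_4 F448628 (iv1 F216013) D134275 D208409 (iv6 D217136) F368184 (iv1 F373441) F373438 F368218 D208261
def n217137 : Q := act 1 n186836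
theorem D217137 : act 1 n186836 = n217137 := rfl
theorem F487608 : act 1 n217137 = n199351 := d15_1 D217137 (iv7 F487598) F487594
theorem F487609 : act 7 n217137 = n203002 := d15_2 (iv0 F369513) D217137 F426597
theorem F487610 : act 4 n217137 = n197985 := d17_9 (iv1 F406395) (iv5 F428824) F428826 (iv5 F403125) (iv4 F355103) D213462 (iv0 F470513) (iv5 F368198) D217137
theorem F487611 : act 3 n203051 = n217137 := d19_19 (iv1 D217137) F368198 (iv4 F484436) F484435 (iv1 F449650) (iv5 D208505) (iv4 D134452) (iv3 F216391) D208483 F449558 (iv4 D152707) (iv3 F239910) (iv1 F464200) (iv5 D212064) F228253 F108126 D71645 (iv5 F313502) (iv4 F426786)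
theorem F487612 : act 5 n204448 = n217137 := d21_0 (iv1 D217137) F368198 (iv6 D183875) (iv1 F290194) (iv6 F388321) (iv5 D192954) F302300 D122559 (iv6 F198289) D204448
theorem F487613 : act 2 n217137 = n203005 := d2_1 F487612 (iv5 F470524) F470528
theorem F487614 : act 6 n217137 = n197988 := d21_3 D123820 D204448 F487612 (iv1 F415461) (iv6 F415462) F360775 (iv1 F216024) (iv5 F352309) F365395 (iv1 D123819)
def n217138 : Q := act 6 n186856
theorem D217138 : act 6 n186856 = n217138 := rfl
theorem F487615 : act 2 n217138 = n193631 := d3_1 D217138 (iv6 D193631) (iv2 F368306)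
theorem F487616 : act 3 n217138 = n208370 := d7_1 D217138 F449109 F368305
theorem F487617 : act 4 n217138 = n187080 := d10_1 D217138 (iv6 F382036) F382032
theorem F487618 : act 7 n217138 = n186930 := d14_2 (iv7 F368303) D217138 (iv6 D186930) F368295 F289484
theorem F487619 : act 0 n203078 = n217138 := d21_4 (iv5 F367294) (iv1 D134539) D134541 (iv6 F426895) (iv6 D217138) F368304 (iv1 F153579) (iv5 F156989) F156990 (iv1 F367293)
def n217139 : Q := act 1 n186863
theorem D217139 : act 1 n186863 = n217139 := rfl
theorem F487620 : act 1 n217139 = n189159 := d15_1 D217139 (iv7 F389677) F389674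
theorem F487621 : act 7 n217139 = n193391 := d15_2 (iv0 F487479) D217139 (iv2 F487473)
theorem F487622 : act 5 n217139 = n213574 := d17_7 F407212 (iv5 F378014) F378015 (iv5 D95461) (iv4 F307587) D186863 D217139 F471110 (iv4 F407211)
theorem F487623 : act 4 n217139 = n193393 := d17_9 (iv1 F389693) (iv5 D188155) (iv1 F370884) F370880 (iv4 F140265) F368338 (iv0 D186862) D186863 D217139
theorem F487624 : act 3 n212615 = n217139 := d19_19 (iv1 D217139) (iv5 D186863) F307587 F70123 D44599 D95470 F337332 F174511 (iv1 F81767) F344546 F74601 (iv3 F74566) (iv1 F329375) D137384 F347720 (iv3 F347722) F318935 (iv5 F251012) (iv4 F466708)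
theorem F487625 : act 2 n217139 = n188238 := d0_1 F487624 F372781 (iv2 F429628) (iv3 F439936) F466709
theorem F487626 : act 6 n217139 = n187589 := d7_2 F466710 F487624 F370921
def n217140 : Q := act 6 n186866
theorem D217140 : act 6 n186866 = n217140 := rfl
theorem F487627 : act 2 n217140 = n214536 := d3_1 D217140 (iv6 D214536) F368349
theorem F487628 : act 3 n217140 = n199360 := d7_1 D217140 F411850 F368350
theorem F487629 : act 4 n217140 = n216946 := d10_1 D217140 F486659 F379118
theorem F487630 : act 5 n217140 = n186957 := d12_1 D217140 (iv6 F400200) F400199 D210920 F459298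
theorem F487631 : act 7 n217140 = n186978 := d14_2 (iv7 F368348) D217140 (iv6 D186978) (iv7 F352820) (iv6 F355152)
theorem F487632 : act 0 n186995 = n217140 := d17_0 F487630 (iv1 F375538) F375536 F367903 (iv5 F377619) F377621 (iv5 F413816) (iv0 F413818) F387990
def n217141 : Q := act 5 n186870
theorem D217141 : act 5 n186870 = n217141 := rfl
theorem F487633 : act 2 n217141 = n217085 := d2_1 D217141 (iv5 D217085) (iv2 F368382)
theorem F487634 : act 3 n217141 = n214732 := d6_1 D217141 F476581 (iv3 F368383)
theorem F487635 : act 6 n217141 = n215305 := d12_2 D186870 D217141 (iv5 D215305) (iv6 D172207) (iv5 F307542)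
theorem F487636 : act 4 n217141 = n196352 := d16_2 (iv4 F368384) D217141 (iv5 D196352) (iv4 F400443) (iv5 F400444) F400454 D192723 F387599 (iv2 F255566)
def n217142 : Q := act 7 n186870
theorem D217142 : act 7 n186870 = n217142 := rfl
theorem F487637 : act 2 n217142 = n217086 := d4_1 D217142 (iv7 D217086) (iv2 F368382)
theorem F487638 : act 3 n217142 = n213575 := d8_1 D217142 F471114 (iv3 F368383)
theorem F487639 : act 4 n217142 = n213757 := d11_1 D217142 F471954 (iv4 F368384)
theorem F487640 : act 6 n217142 = n213575 := d14_1 D217142 F471114 (iv6 D186745) (iv7 F307543) D186870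
theorem F487641 : act 1 n214533 = n217142 := d15_1 (iv0 F475664) (iv7 D217142) F368382
theorem F487642 : act 1 n217142 = n204386 := d15_1 F487641 F432339 (iv2 F475661)
def n217143 : Q := act 4 n186872
theorem D217143 : act 4 n186872 = n217143 := rfl
theorem F487643 : act 5 n217143 = n204531 := d9_2 D186872 D217143 (iv4 F451821) F390211 F390209 F156826 (iv4 F136280) (iv5 F288565) (iv4 F394470) (iv5 F432810) (iv4 F432812) F372727 F368775 (iv5 F368776) F368387
theorem F487644 : act 6 n217143 = n186873 := d10_2 (iv6 F368392) D217143 (iv4 D186873)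
theorem F487645 : act 7 n217143 = n186998 := d11_2 (iv7 F368393) D217143 (iv4 D186998)
def n217144 : Q := act 6 n186874
theorem D217144 : act 6 n186874 = n217144 := rfl
theorem F487646 : act 3 n217144 = n186877 := d7_1 D217144 (iv6 D186877) (iv3 F368395)
theorem F487647 : act 4 n217144 = n194791 := d10_1 D217144 F394485 F386948
theorem F487648 : act 5 n217144 = n215584 := d12_1 D217144 (iv6 D215584) F368398 (iv6 D186875) D186874
theorem F487649 : act 7 n217144 = n194789 := d14_2 F383230 D217144 (iv6 D194789) (iv7 F292381) F383232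
def n217145 : Q := act 1 n186876
theorem D217145 : act 1 n186876 = n217145 := rfl
theorem F487650 : act 1 n217145 = n186878 := d15_1 D217145 (iv7 F388116) F388115
theorem F487651 : act 7 n217145 = n191817 := d15_2 F397814 D217145 (iv2 F397811)
theorem F487652 : act 5 n217145 = n195846 := d17_7 D201400 F420345 (iv1 F374886) F374876 (iv4 F419888) (iv5 F419890) D217145 F398439 (iv4 F178464)
theorem F487653 : act 4 n217145 = n191818 := d18_7 (iv1 D46718) (iv4 F58744) D82505 F271105 D89341 D186876 D217145 F384535 (iv5 D100054)
theorem F487654 : act 2 n195849 = n217145 := d1_3 F487653 F384532 (iv4 F398449)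
def n217146 : Q := act 6 n186876
theorem D217146 : act 6 n186876 = n217146 := rfl
theorem F487655 : act 3 n217146 = n216151 := d7_1 D217146 (iv6 F483203) (iv3 F470170)
theorem F487656 : act 4 n217146 = n186877 := d10_1 D217146 (iv6 D186877) D186876
theorem F487657 : act 5 n217146 = n215918 := d12_1 D217146 F482089 F394292 D201292 (iv5 F419890)
theorem F487658 : act 7 n217146 = n216266 := d14_2 F388123 D217146 F483553 F395438 (iv6 F388122)
theorem F487659 : act 0 n217146 = n216316 := d21_4 D192321 (iv1 F419891) (iv5 F419890) D217146 (iv6 D216316) (iv5 D182925) (iv1 F152410) (iv5 F384289) F384292 F368407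
def n217147 : Q := act 0 n186877
theorem D217147 : act 0 n186877 = n217147 := rfl
theorem F487660 : act 5 n217147 = n191294 := d17_1 D217147 (iv1 D191294) F151016 (iv4 F368872) (iv5 F455439) (iv0 F455440) (iv5 F483807) (iv0 F487659) F487656
theorem F487661 : act 4 n217147 = n215630 := d20_8 D209413 (iv1 F454675) (iv4 D209702) F352698 (iv1 F483199) (iv3 F487655) F487656 D217147 F480846 (iv1 F390631)
theorem F487662 : act 6 n217147 = n187008 := d21_5 (iv5 D41727) D41725 D89341 D186877 D217147 (iv5 F385554) (iv1 D192102) (iv5 F368410) (iv6 D186884) (iv1 D89349)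
theorem F487663 : act 2 n193683 = n217147 := d15_3 (iv0 D217147) (iv0 F483510) F483509
theorem F487664 : act 7 n217147 = n193774 := d4_2 F483509 F487663 (iv2 F483511)
def n217148 : Q := act 7 n186877
theorem D217148 : act 7 n186877 = n217148 := rfl
theorem F487665 : act 3 n217148 = n194789 := d8_1 D217148 (iv7 F487649) F487646
theorem F487666 : act 4 n217148 = n216266 := d11_1 D217148 (iv7 F487658) F487656
theorem F487667 : act 5 n217148 = n215583 := d13_1 D217148 F480636 (iv5 F368400)
theorem F487668 : act 6 n217148 = n194788 := d14_1 D217148 F394478 F386952 (iv7 F366705) D186877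
theorem F487669 : act 1 n193774 = n217148 := d15_1 (iv0 F390973) (iv7 D217148) (iv2 F388118)
theorem F487670 : act 1 n217148 = n193683 := d15_1 F487669 (iv7 F483509) F483511
def n217149 : Q := act 6 n186878
theorem D217149 : act 6 n186878 = n217149 := rfl
theorem F487671 : act 2 n217149 = n189199 := d3_1 D217149 (iv6 F388122) F388120
theorem F487672 : act 4 n217149 = n186879 := d10_1 D217149 (iv6 D186879) D186878
theorem F487673 : act 5 n217149 = n190568 := d12_1 D217149 F380150 (iv5 F347709) D187455 (iv5 F370411)
theorem F487674 : act 0 n217071 = n217149 := d21_4 (iv5 F365803) (iv1 F143165) (iv5 F369226) (iv6 F487256) (iv6 D217149) F370411 (iv1 F386420) (iv5 D192321) F153983 (iv1 F137142)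
def n217150 : Q := act 4 n186880
theorem D217150 : act 4 n186880 = n217150 := rfl
theorem F487675 : act 3 n217150 = n213304 := d5_1 D217150 (iv4 D213304) F368857 (iv4 D186881) D186880
theorem F487676 : act 7 n217150 = n193456 := d11_2 (iv7 F368402) D217150 (iv4 D193456)
theorem F487677 : act 5 n217150 = n192952 := d16_1 D217150 (iv4 F400163) F400164 F281418 F355392 (iv4 F324281) D193444 F389851 (iv2 F383239)
theorem F487678 : act 0 n217150 = n186882 := d17_0 F384879 (iv1 D191932) (iv5 F368812) F427439 (iv5 D203214) F303377 D120415 F368403 D217150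
theorem F487679 : act 6 n213312 = n217150 := d21_3 (iv5 F159460) D194680 (iv5 F469860) F487678 (iv6 D186882) F156664 (iv1 F156669) D192104 F385563 (iv1 D187018)
def n217151 : Q := act 6 n186880
theorem D217151 : act 6 n186880 = n217151 := rfl
theorem F487680 : act 3 n217151 = n186882 := d7_1 D217151 (iv6 D186882) D186880
theorem F487681 : act 4 n217151 = n213312 := d10_1 D217151 F487679 (iv4 D217150)
theorem F487682 : act 0 n217151 = n214125 := d19_4 F304714 D153362 F368858 (iv3 F487680) (iv5 D214125) F246044 (iv3 D133384) (iv1 F112219) (iv5 F247463) (iv4 F474025) (iv3 F476971) F476974 F381313 F362491 (iv3 F434748) (iv1 F434751) F322455 D172368 (iv3 F304715)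
def n217152 : Q := act 0 n186882
theorem D217152 : act 0 n186882 = n217152 := rfl
theorem F487683 : act 4 n217152 = n193444 := d18_3 (iv1 D213297) F368858 D217152 (iv5 D193444) F324281 F430033 (iv4 F434222) (iv0 F443312) F469789
theorem F487684 : act 6 n217152 = n187033 := d21_5 (iv5 D186787) F156659 (iv5 F156664) D186882 D217152 (iv5 F390316) (iv1 D193570) (iv5 F388119) (iv6 D192892) (iv1 F368017)
theorem F487685 : act 2 n193456 = n217152 := d15_3 (iv0 D217152) (iv0 F487678) F487676
def n217153 : Q := act 4 n186889
theorem D217153 : act 4 n186889 = n217153 := rfl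
theorem F487686 : act 3 n217153 = n215457 := d5_1 D217153 F480080 (iv3 F480211) (iv4 F487309) F487308
theorem F487687 : act 5 n217153 = n187918 := d9_2 D186889 D217153 (iv4 F372354) (iv5 D114125) (iv4 F303373) (iv5 D89095) (iv4 F136808) D186755 D217089 F487352 F371836 (iv5 F370845) F336778 (iv5 D89354) D89353
theorem F487688 : act 1 n217153 = n190947 := d18_6 F136666 (iv4 D41731) D41728 D89353 D186889 D217153 (iv4 D190947) F289951 (iv5 D95645)
theorem F487689 : act 6 n217153 = n215456 := d21_5 F433486 (iv1 F430242) D214933 (iv6 F477512) (iv1 F487688) (iv5 D215456) D215452 F480062 (iv6 D204763) D204760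
def n217154 : Q := act 6 n186889
theorem D217154 : act 6 n186889 = n217154 := rfl
theorem F487690 : act 3 n217154 = n215490 := d7_1 D217154 F487312 F487308
theorem F487691 : act 4 n217154 = n215456 := d10_1 D217154 (iv6 F487689) (iv4 D217153)
theorem F487692 : act 5 n217154 = n215490 := d12_1 D217154 F487312 F487310 F367874 D186889
def n217155 : Q := act 4 n186896
theorem D217155 : act 4 n186896 = n217155 := rfl
theorem F487693 : act 2 n217155 = n204715 := d1_1 D217155 F433373 (iv2 F378842)
theorem F487694 : act 6 n217155 = n204711 := d10_2 F368450 D217155 (iv4 F433369)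
theorem F487695 : act 1 n217155 = n188114 := d15_0 (iv0 F393117) (iv7 F433375) (iv2 F487693)
def n217156 : Q := act 0 n186897
theorem D217156 : act 0 n186897 = n217156 := rfl
theorem F487696 : act 4 n217156 = n193591 := d18_3 (iv1 D186896) D186897 D217156 (iv5 D193591) (iv4 D101996) (iv0 D47376) (iv4 F74565) D101973 (iv5 F368449)
theorem F487697 : act 1 n187919 = n217156 := d15_0 (iv0 D217156) (iv7 F378849) F378848
def n217157 : Q := act 1 n186897
theorem D217157 : act 1 n186897 = n217157 := rfl
theorem F487698 : act 1 n217157 = n187919 := d15_1 D217157 (iv7 F378943) F378941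
theorem F487699 : act 4 n217157 = n193592 := d18_7 (iv1 F289525) F136808 (iv1 F289521) D41731 D89363 D186897 D217157 (iv0 F475739) (iv5 D214548)
theorem F487700 : act 6 n215521 = n217157 := d10_0 F487699 (iv6 F486510) F486509
def n217158 : Q := act 5 n186897
theorem D217158 : act 5 n186897 = n217158 := rfl
theorem F487701 : act 2 n217158 = n187920 := d2_1 D217158 (iv5 F378942) F378941
theorem F487702 : act 3 n217158 = n198592 := d6_1 D217158 (iv5 F480238) F480237
theorem F487703 : act 4 n217158 = n187539 := d9_1 D217158 (iv5 F486774) (iv4 D216966) (iv5 D186565) (iv4 F147290) D190094 F378836 (iv5 D187919) F139594 (iv5 F347696) (iv4 D89367) (iv5 D41732) D41731 D89363 D186897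
theorem F487704 : act 7 n217158 = n187537 := d13_2 F378849 D217158 (iv5 F378850)
theorem F487705 : act 0 n217158 = n187918 := d17_2 (iv1 D217157) D217158 (iv5 F487687) (iv4 D217153) (iv5 D186889) F367890 D217087 F487345 (iv4 F487699)
theorem F487706 : act 0 n187917 = n217158 := d19_0 (iv5 D217158) (iv4 D186897) F137035 (iv1 F76137) (iv5 D48420) (iv4 D23556) (iv3 F63292) F68974 (iv5 D22338) (iv4 F35635) D43363 D92703 (iv5 F349108) (iv4 F452161) F452160 F418793 F179041 F418443 F418441
theorem F487707 : act 6 n187891 = n217158 := d14_5 F487704 (iv6 D187537) F138927 D90639 D187891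
def n217159 : Q := act 6 n186897
theorem D217159 : act 6 n186897 = n217159 := rfl
theorem F487708 : act 4 n217159 = n186898 := d10_1 D217159 (iv6 D186898) D186897
theorem F487709 : act 0 n217159 = n215467 := d20_7 (iv4 F119663) F119664 F115800 (iv3 F122828) (iv1 F344660) (iv3 F368451) (iv4 F487708) F480125 F353316 F248767
def n217160 : Q := act 1 n186898
theorem D217160 : act 1 n186898 = n217160 := rfl
theorem F487710 : act 1 n217160 = n215518 := d15_1 D217160 F480300 F378944
theorem F487711 : act 7 n217160 = n215338 := d15_2 (iv0 F368453) D217160 F479463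
theorem F487712 : act 5 n217160 = n215132 := d17_7 (iv1 F248769) D170872 (iv1 F474291) (iv5 F474293) (iv4 F280708) (iv5 F368452) D217160 F478524 (iv4 D214258)
theorem F487713 : act 6 n215517 = n217160 := d21_3 (iv5 D215143) (iv1 F476648) (iv5 F480295) (iv1 D217160) (iv6 D186898) (iv5 D89363) F70257 (iv5 F147354) D190137 F480960
theorem F487714 : act 2 n217160 = n215519 := d3_1 F487713 F480304 (iv2 F480294)
def n217161 : Q := act 5 n186902
theorem D217161 : act 5 n186902 = n217161 := rfl
theorem F487715 : act 2 n217161 = n201419 := d2_1 D217161 (iv5 F462627) F462631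
theorem F487716 : act 3 n217161 = n201721 := d6_1 D217161 F421554 (iv3 F420993)
theorem F487717 : act 6 n217161 = n187836 := d12_2 (iv6 F368460) D217161 F371655 (iv6 D114829) D114828
theorem F487718 : act 7 n217161 = n187969 := d13_2 F486782 D217161 (iv5 F486777)
theorem F487719 : act 1 n217161 = n188007 := d17_6 (iv1 F421255) (iv5 F380672) (iv1 D190702) (iv5 F369426) (iv4 F369427) D217161 F372056 D193595 (iv4 F421252)
def n217162 : Q := act 5 n186903
theorem D217162 : act 5 n186903 = n217162 := rfl
theorem F487720 : act 2 n217162 = n187969 := d2_1 D217162 (iv5 F486777) (iv2 F486780)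
theorem F487721 : act 3 n217162 = n189117 := d6_1 D217162 F375808 F368465
theorem F487722 : act 7 n217162 = n201419 := d13_2 F462629 D217162 (iv5 F462627)
theorem F487723 : act 4 n217162 = n197537 := d16_2 F369144 D217162 F404721 (iv4 D194416) (iv5 D103357) F291777 (iv5 F369426) (iv7 F378119) F378117
theorem F487724 : act 0 n217162 = n188007 := d17_2 F486775 D217162 F372056 (iv4 D102006) (iv5 D47378) D47377 (iv5 F347749) F289505 D216966
theorem F487725 : act 6 n217162 = n187549 := d21_3 (iv5 F486774) F486775 D217162 (iv1 F370777) (iv6 F370742) F370741 (iv1 F288348) (iv5 F371839) (iv6 D187922) (iv1 F370729)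
def n217163 : Q := act 2 n186912
theorem D217163 : act 2 n186912 = n217163 := rfl
theorem F487726 : act 3 n217163 = n202714 := d0_2 D186912 D217163 F425244 (iv3 F382174) F156963
theorem F487727 : act 4 n217163 = n189291 := d1_2 F475798 D217163 (iv2 F475796)
theorem F487728 : act 5 n217163 = n202713 := d2_2 F375894 D217163 F425240
theorem F487729 : act 6 n217163 = n189290 := d3_2 F382244 D217163 F382240
theorem F487730 : act 7 n217163 = n190318 := d4_2 F390446 D217163 (iv2 F390444)
theorem F487731 : act 1 n217163 = n193721 := d15_0 (iv0 F390789) F390446 D217163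
theorem F487732 : act 1 n189977 = n217163 := d15_0 F487731 (iv7 D193721) (iv2 F378393)
def n217164 : Q := act 0 n186913
theorem D217164 : act 0 n186913 = n217164 := rfl
theorem F487733 : act 4 n217164 = n187077 := d20_2 (iv4 F368493) D217164 (iv3 F391345) F356515 (iv3 F421019) (iv4 D201582) (iv1 F421005) (iv4 F432177) F432176 (iv1 D186915)
theorem F487734 : act 3 n217164 = n206154 := d20_5 F439475 (iv1 F369500) (iv4 F382239) (iv3 F382241) D217164 F439502 F427109 (iv4 F439634) F439633 F439479
theorem F487735 : act 6 n217164 = n187081 := d21_5 F74753 (iv1 F294828) F294830 D186913 D217164 F369050 (iv1 F368774) (iv5 D186988) (iv6 D89453) (iv1 F74755)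
theorem F487736 : act 2 n187082 = n217164 := d15_3 (iv0 D217164) F449411 F449410
theorem F487737 : act 7 n217164 = n206157 := d4_2 F449410 F487736 (iv2 F449407)
theorem F487738 : act 1 n213835 = n217164 := d15_1 F472309 F487737 (iv2 F449407)
def n217165 : Q := act 5 n186913
theorem D217165 : act 5 n186913 = n217165 := rfl
theorem F487739 : act 3 n217165 = n190270 := d6_1 D217165 F382243 (iv3 F382241)
theorem F487740 : act 6 n217165 = n215485 := d12_2 D186913 D217165 (iv5 F480189) F375893 F294830
theorem F487741 : act 1 n217165 = n217141 := d17_6 (iv1 D186866) F154739 (iv1 D100648) (iv5 F137059) (iv4 F368493) D217165 (iv5 D217141) F379119 F379118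
def n217166 : Q := act 7 n186913
theorem D217166 : act 7 n186913 = n217166 := rfl
theorem F487742 : act 2 n217166 = n213835 := d4_1 D217166 F472308 F390405
theorem F487743 : act 3 n217166 = n189292 := d8_1 D217166 F382242 (iv3 F382241)
theorem F487744 : act 4 n217166 = n186916 := d11_1 D217166 (iv7 D186916) (iv4 F368493)
theorem F487745 : act 6 n217166 = n190317 := d14_1 D217166 F379367 F373096 F156972 D186913
theorem F487746 : act 1 n206157 = n217166 := d15_1 F439517 (iv7 D217166) (iv2 F390405)
theorem F487747 : act 1 n217166 = n187082 := d15_1 F487746 (iv7 F449410) F449407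
def n217167 : Q := act 3 n186914
theorem D217167 : act 3 n186914 = n217167 := rfl
theorem F487748 : act 2 n217167 = n203077 := d0_1 D217167 F480757 F480751 (iv3 F466790) F432175
theorem F487749 : act 7 n217167 = n208527 := d8_2 (iv7 F432174) D217167 F449740
theorem F487750 : act 4 n217167 = n206176 := d20_6 F448762 (iv1 F283584) (iv4 F368491) F368490 D186914 D217167 F439586 (iv4 F449504) (iv3 F449506) F448764
theorem F487751 : act 6 n202960 = n217167 := d10_0 F487750 (iv6 D206176) (iv4 F426389)
theorem F487752 : act 5 n209448 = n217167 := d17_3 F431367 (iv5 F453482) (iv1 F453748) F487750 F439912 (iv0 F478782) (iv5 D215184) F359382 (iv4 F359381)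
theorem F487753 : act 0 n186943 = n217167 := d18_2 (iv1 F354313) (iv4 F368608) F487750 F439912 (iv4 F439910) F358462 (iv4 F358461) F187524 D130880
theorem F487754 : act 0 n217167 = n203029 := d20_7 (iv4 F314088) (iv1 F307259) F314928 (iv3 F341019) (iv1 F341021) (iv3 F439584) (iv4 F487750) F426698 F184156 F183564
def n217168 : Q := act 4 n186914
theorem D217168 : act 4 n186914 = n217168 := rfl
theorem F487755 : act 3 n217168 = n189932 := d5_1 D217168 F378288 (iv3 F439584) (iv4 F487750) (iv3 D217167)
theorem F487756 : act 0 n217168 = n189920 := d18_2 D186914 D217168 F378252 F369045 (iv4 F387597) F387725 (iv4 D192774) (iv0 D100647) (iv5 F137059)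
theorem F487757 : act 0 n186918 = n217168 := d20_10 (iv4 D217168) (iv1 F391577) (iv4 F472307) F472306 F378451 (iv3 D147799) (iv4 D69249) D69246 F229477 (iv3 F368502)
theorem F487758 : act 5 n217168 = n215526 := d21_0 (iv1 D215526) F348934 F348933 (iv1 F329860) F156987 F74606 (iv1 F74734) (iv5 F137062) D186918 F487757
theorem F487759 : act 6 n206177 = n217168 := d21_5 F329862 (iv1 F81637) (iv5 F320046) D190629 F439590 F487758 (iv1 D215526) F348934 F348933 (iv1 F329860)
def n217169 : Q := act 5 n186914
theorem D217169 : act 5 n186914 = n217169 := rfl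
theorem F487760 : act 3 n217169 = n209448 := d6_1 D217169 F487752 (iv3 D217167)
theorem F487761 : act 7 n217169 = n193081 := d13_2 (iv7 F432174) D217169 F391569
theorem F487762 : act 1 n217169 = n193101 := d17_6 (iv1 D190064) D190067 (iv1 F480328) (iv5 F487758) (iv4 D217168) D217169 F388748 F368353 (iv4 F378755)
theorem F487763 : act 0 n217169 = n204387 := d18_0 (iv4 F459308) (iv1 F474388) F474385 F410566 (iv4 F449409) F472309 F472307 F391577 D217169
theorem F487764 : act 6 n217169 = n193056 := d21_3 (iv5 F137059) D186914 D217169 (iv1 D193056) (iv6 D101145) D101144 F311761 D154173 F357954 (iv1 D100648)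
def n217170 : Q := act 6 n186914
theorem D217170 : act 6 n186914 = n217170 := rfl
theorem F487765 : act 3 n217170 = n202960 := d7_1 D217170 F487751 (iv3 D217167)
theorem F487766 : act 4 n217170 = n206177 := d10_1 D217170 F487759 (iv4 D217168)
theorem F487767 : act 7 n217170 = n203078 := d14_2 (iv7 F432174) D217170 F426895 (iv7 F368375) F391570
theorem F487768 : act 0 n217170 = n186930 := d21_4 (iv5 F388748) (iv1 F487762) (iv5 D217169) D217170 (iv6 D186930) F368299 (iv1 F390272) F372803 F368362 (iv1 F368353)
theorem F487769 : act 5 n217170 = n186997 := d21_6 (iv5 D22769) (iv1 F35555) (iv5 F64374) D89377 D186914 D217170 (iv1 D186997) (iv5 D89456) (iv6 D41770) (iv1 F35336)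
theorem F487770 : act 0 n193631 = n217170 := d21_4 (iv5 D47393) D47391 D102036 D193631 (iv6 D217170) D217169 F487763 (iv5 D204387) F355152 (iv1 D102043)
def n217171 : Q := act 5 n186915
theorem D217171 : act 5 n186915 = n217171 := rfl
theorem F487771 : act 2 n217171 = n193081 := d2_1 D217171 F391569 (iv2 F432172)
theorem F487772 : act 3 n217171 = n204482 := d6_1 D217171 F432674 F432176
theorem F487773 : act 6 n217171 = n190547 := d12_2 F432171 D217171 (iv5 F389578) F410179 (iv5 F432167)
theorem F487774 : act 1 n217171 = n204387 := d17_6 D95649 (iv5 F348934) D215525 F480325 F477872 D217171 (iv5 D204387) (iv0 F355153) F147346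
theorem F487775 : act 0 n217171 = n193101 := d21_1 D217171 F388748 D214536 (iv1 F475677) F465308 (iv5 D188328) (iv1 F140268) F368338 (iv6 F391574) (iv1 F391576)
theorem F487776 : act 4 n214286 = n217171 := d17_9 F487775 F388748 F359379 F307497 F387718 (iv5 F389243) (iv0 F389241) D196747 (iv0 F474405)
theorem F487777 : act 0 n196820 = n214286 := d18_0 F487776 F487775 (iv4 F459277) (iv5 F459278) F389280 F389287 F165412 D107357 D196820
def n217172 : Q := act 1 n186924
theorem D217172 : act 1 n186924 = n217172 := rfl
theorem F487778 : act 1 n217172 = n206168 := d15_1 D217172 (iv7 F486757) F486754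
theorem F487779 : act 7 n217172 = n190918 := d15_2 (iv0 F394657) D217172 F381547
theorem F487780 : act 5 n217172 = n190849 := d17_7 (iv1 F368380) F368549 (iv1 D186932) (iv5 D89386) (iv4 F137069) D186924 D217172 F381323 (iv4 F368379)
theorem F487781 : act 4 n202827 = n217172 := d20_6 (iv4 F478551) (iv1 D215139) (iv4 F369896) F369895 (iv1 F182926) (iv3 F425754) (iv1 D217172) (iv4 F393919) F393917 D194650
theorem F487782 : act 2 n190851 = n217172 := d16_9 (iv4 F487781) (iv5 D202827) F182922 D139373 D210541 F457976 (iv4 D190138) D190139 (iv7 F381330)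
def n217173 : Q := act 7 n186924
theorem D217173 : act 7 n186924 = n217173 := rfl
theorem F487783 : act 2 n217173 = n206168 := d4_1 D217173 (iv7 F486757) F486754
theorem F487784 : act 5 n217173 = n186925 := d13_1 D217173 (iv7 D186925) D186924
theorem F487785 : act 1 n190851 = n217173 := d15_1 F486759 (iv7 D217173) (iv2 F486754)
theorem F487786 : act 1 n217173 = n190918 := d15_1 F487785 (iv7 F487779) (iv2 F487782)
def n217174 : Q := act 3 n186929
theorem D217174 : act 3 n186929 = n217174 := rfl
theorem F487787 : act 2 n217174 = n201587 := d0_1 D217174 (iv3 D201587) (iv2 F193536) D203917 (iv2 F430391)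
theorem F487788 : act 6 n217174 = n190339 := d7_2 F391889 D217174 (iv3 F391887)
theorem F487789 : act 0 n215979 = n217174 := d20_4 (iv4 D188543) F367228 (iv4 F382230) (iv3 F482389) (iv3 D217174) (iv4 D186929) (iv1 D89385) (iv4 F137069) (iv3 F368511) (iv1 F373885)
def n217175 : Q := act 5 n186930
theorem D217175 : act 5 n186930 = n217175 := rfl
theorem F487790 : act 3 n217175 = n216256 := d6_1 D217175 F483514 (iv3 F470970)
theorem F487791 : act 6 n217175 = n216255 := d12_2 D186930 D217175 F483508 (iv6 F353698) (iv5 F368299)
theorem F487792 : act 0 n217175 = n216970 := d17_2 F487768 D217175 (iv5 D216970) (iv4 F378921) (iv5 F448491) (iv0 F469650) F469647 (iv0 F439589) (iv4 F487766)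
theorem F487793 : act 1 n217175 = n216969 := d17_6 D102272 (iv5 F385926) (iv1 F385940) D194053 (iv4 F391890) D217175 (iv5 D216969) (iv0 D186582) F136280
def n217176 : Q := act 6 n186931
theorem D217176 : act 6 n186931 = n217176 := rfl
theorem F487794 : act 2 n217176 = n188237 := d3_1 D217176 (iv6 F372780) F368544
theorem F487795 : act 3 n217176 = n214392 := d7_1 D217176 (iv6 F474941) (iv3 F470615)
theorem F487796 : act 5 n217176 = n187589 := d12_1 D217176 (iv6 F487626) F487622 (iv6 D213574) (iv5 F368540)
theorem F487797 : act 7 n217176 = n188236 := d14_2 F368542 D217176 F480617 F480616 F368366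
theorem F487798 : act 0 n217176 = n193752 := d21_4 (iv5 F307501) F361980 (iv5 F368540) D217176 (iv6 D193752) (iv5 F359415) (iv1 F352864) D193633 F390514 (iv1 D193557)
def n217177 : Q := act 1 n186933
theorem D217177 : act 1 n186933 = n217177 := rfl
theorem F487799 : act 1 n217177 = n192820 := d15_1 D217177 F387900 (iv2 F368552)
theorem F487800 : act 7 n217177 = n193794 := d15_2 F393908 D217177 F391021
theorem F487801 : act 4 n217177 = n216976 := d17_9 (iv1 D216976) (iv5 D186591) D186589 D216973 F486810 (iv5 D210414) F411558 F411555 D217177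
theorem F487802 : act 5 n210534 = n217177 := d21_0 (iv1 D217177) (iv5 F411555) (iv6 D199300) F357668 D111186 (iv5 F389792) F389793 (iv5 F389837) (iv6 F393169) (iv1 F457959)
theorem F487803 : act 2 n217177 = n193793 := d2_1 F487802 (iv5 F391024) (iv2 F457957)
def n217178 : Q := act 0 n186941
theorem D217178 : act 0 n186941 = n217178 := rfl
theorem F487804 : act 5 n217178 = n192838 := d17_1 D217178 (iv1 F467036) (iv5 F485665) (iv4 D216730) (iv5 D185341) F135277 D185431 F343876 D186941
theorem F487805 : act 4 n217178 = n187011 := d18_1 D217178 (iv1 F466826) (iv4 D212638) (iv5 D148536) F105889 D69614 D148544 (iv0 F449466) F449468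
theorem F487806 : act 1 n216250 = n217178 := d15_0 (iv0 D217178) F368606 (iv2 F483484)
theorem F487807 : act 3 n191455 = n217178 := d20_3 F368418 D216171 F483278 (iv1 F487806) F483485 F469807 F358782 F283662 (iv3 F137119) (iv1 F371234)
theorem F487808 : act 6 n191428 = n217178 := d21_3 (iv5 D203189) F344407 (iv5 F383470) (iv1 F487806) F483486 F454693 (iv1 F452359) (iv5 F452726) (iv6 F456005) F456007
theorem F487809 : act 2 n217178 = n202925 := d3_1 F487808 (iv6 F469739) F469738
theorem F487810 : act 7 n217178 = n191443 := d14_2 D191428 F487808 (iv6 D191443) (iv7 D98352) (iv6 F151773)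
def n217179 : Q := act 1 n186941
theorem D217179 : act 1 n186941 = n217179 := rfl
theorem F487811 : act 1 n217179 = n216250 := d15_1 D217179 F483487 F470202
theorem F487812 : act 7 n217179 = n202925 := d15_2 (iv0 D217178) D217179 (iv2 F487809)
theorem F487813 : act 5 n217179 = n202906 := d17_7 (iv1 F432479) (iv5 F368611) (iv1 F486746) F486742 F467626 F449468 D217179 F467035 F467033
theorem F487814 : act 4 n217179 = n187012 := d17_9 (iv1 D187012) (iv5 D89471) F337234 D153539 (iv4 F466848) (iv5 D212642) (iv0 F449466) F449468 D217179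
theorem F487815 : act 6 n191421 = n217179 := d21_3 (iv5 D98346) (iv1 F151758) (iv5 F383442) (iv1 D217179) (iv6 F449472) (iv5 D208464) F380824 (iv5 F486013) (iv6 D216810) (iv1 F287799)
theorem F487816 : act 2 n217179 = n191443 := d3_1 F487815 (iv6 D191443) (iv2 F383441)
def n217180 : Q := act 7 n186943
theorem D217180 : act 7 n186943 = n217180 := rfl
theorem F487817 : act 2 n217180 = n203029 := d4_1 D217180 (iv7 F486751) F486747
theorem F487818 : act 3 n217180 = n208413 := d8_1 D217180 (iv7 F487605) F487602
theorem F487819 : act 4 n217180 = n202995 := d11_1 D217180 F426571 (iv4 F368608)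
theorem F487820 : act 5 n217180 = n193016 := d13_1 D217180 (iv7 D193016) (iv5 F368609)
theorem F487821 : act 6 n217180 = n202994 := d14_1 D217180 F426566 (iv6 F346004) F346005 D186943
theorem F487822 : act 1 n208527 = n217180 := d15_1 (iv0 F486753) (iv7 D217180) (iv2 F486747)
theorem F487823 : act 1 n217180 = n203077 := d15_1 F487822 F426893 (iv2 F449739)
def n217181 : Q := act 6 n186945
theorem D217181 : act 6 n186945 = n217181 := rfl
theorem F487824 : act 2 n217181 = n191548 := d3_1 D217181 F383764 F369013
theorem F487825 : act 3 n217181 = n190575 := d7_1 D217181 (iv6 F431200) F431198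
theorem F487826 : act 4 n217181 = n208454 := d10_1 D217181 F449419 F369008
theorem F487827 : act 5 n217181 = n190573 := d12_1 D217181 (iv6 D190573) F147885 D123777 (iv5 F369009)
theorem F487828 : act 7 n217181 = n206152 := d14_2 (iv7 F478789) D217181 (iv6 D206152) F348016 D215185
theorem F487829 : act 0 n217181 = n206176 := d21_4 (iv5 F227827) F340878 (iv5 F369009) D217181 (iv6 D206176) F341009 (iv1 F424572) F424576 (iv6 D146014) (iv1 F243207)
theorem F487830 : act 0 n208536 = n217181 := d21_4 (iv5 F331669) (iv1 F346394) (iv5 F349369) D208536 (iv6 D217181) F369009 D204423 F432475 (iv6 F352610) (iv1 F331666)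
def n217182 : Q := act 5 n186960
theorem D217182 : act 5 n186960 = n217182 := rfl
theorem F487831 : act 2 n217182 = n186964 := d2_1 D217182 (iv5 D186964) (iv2 F368665)
theorem F487832 : act 3 n217182 = n201594 := d6_1 D217182 (iv5 D201594) (iv3 F368667)
theorem F487833 : act 7 n217182 = n201604 := d13_2 (iv7 F368666) D217182 (iv5 D201604)
theorem F487834 : act 0 n217182 = n217162 := d17_2 F368668 D217182 (iv5 D217162) (iv4 F369144) F374166 F380665 (iv5 F380669) (iv0 F206234) (iv4 F178469)
theorem F487835 : act 1 n217182 = n217161 := d17_6 D89365 F357146 (iv1 F156944) F156941 D186960 D217182 (iv5 D217161) (iv0 D186902) (iv4 D89367)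
def n217183 : Q := act 5 n186969
theorem D217183 : act 5 n186969 = n217183 := rfl
theorem F487836 : act 3 n217183 = n190854 := d6_1 D217183 (iv5 D190854) F368712
def n217184 : Q := act 5 n186970
theorem D217184 : act 5 n186970 = n217184 := rfl
def n217185 : Q := act 5 n186973
theorem D217185 : act 5 n186973 = n217185 := rfl
theorem F487837 : act 2 n217185 = n200272 := d2_1 D217185 (iv5 F449586) F449585
theorem F487838 : act 3 n217185 = n196006 := d6_1 D217185 F419602 F419599
theorem F487839 : act 7 n217185 = n194218 := d13_2 (iv7 F449579) D217185 (iv5 F449575)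
theorem F487840 : act 1 n217185 = n216943 := d17_6 D154190 F368373 (iv1 F355061) (iv5 F367305) D186973 D217185 F486640 F445265 F242307
def n217186 : Q := act 7 n186976
theorem D217186 : act 7 n186976 = n217186 := rfl
theorem F487841 : act 2 n217186 = n207465 := d4_1 D217186 F445062 F380019
theorem F487842 : act 3 n217186 = n191132 := d8_1 D217186 (iv7 F443988) F443986
theorem F487843 : act 4 n217186 = n186977 := d11_1 D217186 (iv7 D186977) D186976
theorem F487844 : act 5 n217186 = n191131 := d13_1 D217186 (iv7 F477397) F477395
theorem F487845 : act 6 n217186 = n209264 := d14_1 D217186 F452961 (iv6 F365316) (iv7 F147840) (iv6 F368728)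
theorem F487846 : act 1 n196117 = n217186 := d15_1 F399499 (iv7 D217186) (iv2 F380019)
theorem F487847 : act 1 n217186 = n207458 := d15_1 F487846 (iv7 F473464) F473462
def n217187 : Q := act 5 n186981
theorem D217187 : act 5 n186981 = n217187 := rfl
theorem F487848 : act 2 n217187 = n211830 := d2_1 D217187 (iv5 F467425) F467422
theorem F487849 : act 3 n217187 = n186982 := d6_1 D217187 (iv5 D186982) (iv3 F368746)
theorem F487850 : act 6 n217187 = n194055 := d12_2 D186981 D217187 (iv5 D194055) (iv6 D102615) (iv5 F137107)
theorem F487851 : act 7 n217187 = n215673 := d13_2 F411392 D217187 F481045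
theorem F487852 : act 4 n217187 = n187968 := d16_2 (iv4 F368747) D217187 (iv5 D187968) D187967 (iv5 F371965) (iv4 F172340) D199267 (iv7 F411780) F411778
theorem F487853 : act 0 n217187 = n215050 := d17_2 F391881 D217187 (iv5 D215050) (iv4 F307590) (iv5 F155573) D192902 (iv5 F411610) (iv0 F411612) F368734
theorem F487854 : act 1 n217187 = n189656 := d17_6 D89576 F356538 (iv1 D111208) D111210 (iv4 F368747) D217187 (iv5 F377278) (iv0 F368657) F137323
def n217188 : Q := act 4 n186982
theorem D217188 : act 4 n186982 = n217188 := rfl
theorem F487855 : act 6 n217188 = n194057 := d10_2 (iv6 F368748) D217188 (iv4 D194057)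
def n217189 : Q := act 5 n186985
theorem D217189 : act 5 n186985 = n217189 := rfl
theorem F487856 : act 2 n217189 = n193737 := d2_1 D217189 (iv5 D193737) F385849
theorem F487857 : act 3 n217189 = n189033 := d6_1 D217189 F375503 F368767
theorem F487858 : act 4 n217189 = n190549 := d9_1 D217189 F380100 D191998 (iv5 F485974) (iv4 F485971) (iv5 D193863) F372065 (iv5 F378375) F378374 F375723 D192000 (iv5 F485629) F485628 (iv5 D193861) F368768
theorem F487859 : act 6 n217189 = n215293 := d12_2 (iv6 F479587) D217189 F479259 F302360 D215364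
theorem F487860 : act 7 n217189 = n193740 := d13_2 (iv7 F385851) D217189 (iv5 D193740)
theorem F487861 : act 0 n217189 = n215084 := d17_2 D186985 D217189 F478258 F390513 D193633 (iv0 F390516) (iv5 D192164) (iv0 D99813) (iv4 F137116)
theorem F487862 : act 1 n217189 = n190990 := d17_8 F387241 (iv5 D192610) (iv1 F387192) (iv5 D192593) (iv4 F372059) (iv5 F372064) F368765 D217189 (iv4 F381816)
def n217190 : Q := act 0 n186991
theorem D217190 : act 0 n186991 = n217190 := rfl
theorem F487863 : act 5 n217190 = n216964 := d17_3 D89454 D186991 D217190 F486762 (iv5 F369047) (iv0 F365366) (iv5 F157448) F357214 F137118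
theorem F487864 : act 1 n186994 = n217190 := d15_0 (iv0 D217190) (iv7 F486793) F486791
theorem F487865 : act 6 n193774 = n217190 := d21_9 (iv5 D186994) (iv1 D89455) D89456 F137120 F74664 (iv6 F157138) (iv5 D102317) D102315 D193774 (iv1 F487864)
theorem F487866 : act 2 n217190 = n217175 := d3_1 F487865 F487791 F483511
theorem F487867 : act 7 n217190 = n193686 := d14_2 F487664 F487865 (iv6 D193686) F368833 (iv6 F487662)
def n217191 : Q := act 1 n186991
theorem D217191 : act 1 n186991 = n217191 := rfl
theorem F487868 : act 1 n217191 = n186994 := d15_1 D217191 (iv7 F486789) F486788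
theorem F487869 : act 7 n217191 = n217175 := d15_2 (iv0 D217190) D217191 (iv2 F487866)
theorem F487870 : act 5 n217191 = n217138 := d17_7 (iv1 D199962) D199963 F414365 (iv5 D192841) F357192 D186991 D217191 (iv0 F487619) F426894
theorem F487871 : act 3 n213564 = n217191 := d19_19 (iv1 D217191) (iv5 D186991) (iv4 F357192) (iv3 F346748) (iv1 D164463) D164464 D215033 F477992 (iv1 D193287) D193289 F461429 F461430 F394358 (iv5 F378818) F460756 (iv3 F460755) (iv1 F358789) (iv5 F483520) F483519
theorem F487872 : act 6 n187009 = n217191 := d21_9 (iv5 D186991) (iv1 F289457) (iv5 F388137) (iv6 D192897) (iv1 F155051) D186884 F368410 D192101 F385547 (iv1 D217191)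
theorem F487873 : act 2 n217191 = n193686 := d3_1 F487872 (iv6 D193686) (iv2 F368832)
theorem F487874 : act 4 n217191 = n216861 := d10_1 F487872 (iv6 D216861) F368820
def n217192 : Q := act 4 n186991
theorem D217192 : act 4 n186991 = n217192 := rfl
theorem F487875 : act 3 n217192 = n213398 := d5_1 D217192 F470222 (iv3 F368015) D217112 (iv3 F487491)
theorem F487876 : act 7 n217192 = n216280 := d11_2 F486793 D217192 (iv4 F486796)
def n217193 : Q := act 6 n186991
theorem D217193 : act 6 n186991 = n217193 := rfl
theorem F487877 : act 5 n217193 = n188333 := d12_1 D217193 (iv6 D188333) (iv5 F368787) (iv6 D186992) D186991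
theorem F487878 : act 0 n217193 = n188274 := d21_10 (iv5 D188274) (iv1 D91134) D91135 F140166 (iv1 F292650) (iv6 F137120) (iv5 D89456) D89454 D186991 D217193
theorem F487879 : act 0 n188272 = n217193 := d21_4 (iv5 F137028) (iv1 F156668) D186787 (iv6 F372920) (iv6 D217193) (iv5 D186991) (iv1 F289457) (iv5 F388137) (iv6 D192897) (iv1 F155051)
def n217194 : Q := act 4 n186994
theorem D217194 : act 4 n186994 = n217194 := rfl
theorem F487880 : act 2 n217194 = n216280 := d1_1 D217194 (iv4 F486796) F486791
def n217195 : Q := act 6 n186994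
theorem D217195 : act 6 n186994 = n217195 := rfl
theorem F487881 : act 2 n217195 = n192524 := d3_1 D217195 F486795 F486791
theorem F487882 : act 3 n217195 = n191439 := d7_1 D217195 F464240 F426899
theorem F487883 : act 0 n217195 = n192526 := d21_4 F388137 (iv1 F289456) D186994 D217195 (iv6 F394485) F394484 (iv1 F368892) (iv5 D187042) (iv6 F368419) F388140
theorem F487884 : act 0 n187006 = n217195 := d21_4 (iv5 D47480) (iv1 F291376) (iv5 F292187) D187006 (iv6 D217195) (iv5 D186994) (iv1 D89455) D89456 F137120 F74664
theorem F487885 : act 7 n192525 = n217195 := d15_2 (iv0 D192524) D192525 F487881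
def n217196 : Q := act 5 n186995
theorem D217196 : act 5 n186995 = n217196 := rfl
theorem F487886 : act 2 n217196 = n192902 := d2_1 D217196 (iv5 F411610) F411608
theorem F487887 : act 3 n217196 = n211886 := d6_1 D217196 F463407 (iv3 F368790)
theorem F487888 : act 7 n217196 = n189071 := d13_2 F465309 D217196 (iv5 F465307)
theorem F487889 : act 1 n217196 = n192903 := d17_8 (iv1 F167793) D197633 F405115 F370795 (iv4 F368660) (iv5 F487630) (iv0 F487632) D217196 F388160
theorem F487890 : act 4 n217196 = n210363 := d18_5 F411389 (iv4 F413792) F413795 F387990 D217196 (iv0 F457206) (iv4 D199341) F172469 D199267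
theorem F487891 : act 0 n217196 = n191978 := d18_0 (iv4 F385064) (iv1 D108430) (iv4 F80849) D111129 D199268 F486660 (iv4 F487629) (iv0 F487632) D217196
def n217197 : Q := act 3 n186997
theorem D217197 : act 3 n186997 = n217197 := rfl
theorem F487892 : act 2 n217197 = n203076 := d0_1 D217197 F426891 F388132 F486300 (iv2 F486302)
theorem F487893 : act 5 n217197 = n202960 := d6_2 F487769 D217197 (iv3 F487765)
theorem F487894 : act 7 n217197 = n203079 := d8_2 (iv7 F486297) D217197 F486295
def n217198 : Q := act 4 n186997
theorem D217198 : act 4 n186997 = n217198 := rfl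
theorem F487895 : act 2 n217198 = n214233 := d1_1 D217198 (iv4 F486301) (iv2 F486302)
theorem F487896 : act 7 n217198 = n216173 := d11_2 (iv7 F486297) D217198 F486296
theorem F487897 : act 0 n217198 = n216172 := d18_2 (iv1 F388139) D217198 (iv4 F483281) F367455 (iv4 F368997) F369001 F357198 F289456 (iv5 F388137)
theorem F487898 : act 1 n217198 = n216171 := d18_6 F466846 F466842 F439590 (iv4 F487766) F487769 D217198 F483278 F486907 F486905
theorem F487899 : act 5 n210679 = n217198 := d21_0 F487897 (iv5 F483961) (iv6 D216350) (iv1 F372697) F372699 F293880 D184228 (iv5 F381818) D216498 F484687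
theorem F487900 : act 3 n217198 = n210687 := d6_1 F487899 (iv5 D210687) (iv3 F458430)
theorem F487901 : act 6 n217198 = n210681 := d12_2 D210679 F487899 (iv5 D210681) (iv6 D139499) D139498
def n217199 : Q := act 6 n186997
theorem D217199 : act 6 n186997 = n217199 := rfl
theorem F487902 : act 4 n217199 = n210681 := d10_1 D217199 (iv6 F487901) (iv4 D217198)
theorem F487903 : act 5 n217199 = n193056 := d12_1 D217199 (iv6 F487764) (iv5 D217169) D217170 F487769
theorem F487904 : act 0 n217199 = n213312 := d21_10 F469860 (iv1 F394071) (iv5 F486287) F486288 (iv1 F368826) D193686 F390690 F487770 F487769 D217199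
def n217200 : Q := act 0 n186998
theorem D217200 : act 0 n186998 = n217200 := rfl
theorem F487905 : act 4 n217200 = n191465 := d18_3 (iv1 D186997) D186998 D217200 (iv5 F445269) F445268 F391891 (iv4 F391890) (iv0 F487768) F487769
def n217201 : Q := act 1 n186998
theorem D217201 : act 1 n186998 = n217201 := rfl
theorem F487906 : act 4 n217201 = n191466 := d18_7 (iv1 F391563) (iv4 F391566) F357193 F137118 D89456 D186998 D217201 F386428 F386426
def n217202 : Q := act 3 n186998
theorem D217202 : act 3 n186998 = n217202 := rfl
theorem F487907 : act 4 n217202 = n216247 := d5_2 D186998 D217202 F483471 F283662 (iv3 F137119)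
theorem F487908 : act 5 n217202 = n193055 := d6_2 F487396 D217202 (iv3 F487394)
theorem F487909 : act 6 n217202 = n186999 := d7_2 (iv6 F368791) D217202 (iv3 D186999)
theorem F487910 : act 0 n213312 = n217202 := d20_4 F365221 (iv1 D153423) D153424 D213312 (iv3 D217202) (iv4 D186998) (iv1 F371234) F368418 (iv3 D182138) D182136
def n217203 : Q := act 1 n186999
theorem D217203 : act 1 n186999 = n217203 := rfl
theorem F487911 : act 7 n217203 = n187040 := d15_2 (iv0 F456163) D217203 (iv2 F456159)
theorem F487912 : act 5 n217203 = n208667 := d17_7 F434014 (iv5 D195172) D195171 F396083 (iv4 F384005) F384006 D217203 (iv0 F450386) (iv4 F434012)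
theorem F487913 : act 3 n208374 = n217203 := d19_19 (iv1 D217203) (iv5 F384006) F384005 (iv3 F384003) (iv1 F374774) D200646 F445417 F445415 D207552 F445418 (iv4 D132275) D132274 (iv1 F329389) F329392 F100290 D136836 D209700 (iv5 F485823) F485820
theorem F487914 : act 6 n217203 = n187025 := d7_2 F449121 F487913 (iv3 F398386)
theorem F487915 : act 0 n187041 = n217203 := d20_4 (iv4 F334126) (iv1 F449758) (iv4 D208532) (iv3 F368883) (iv3 F487913) (iv4 F485820) F485822 F469851 F456897 F221357
theorem F487916 : act 2 n187039 = n217203 := d15_3 (iv0 F487915) (iv0 F456162) F456161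
def n217204 : Q := act 2 n186999
theorem D217204 : act 2 n186999 = n217204 := rfl
theorem F487917 : act 3 n217204 = n208533 := d0_2 D186999 D217204 F449761 F394466 (iv2 F293261)
theorem F487918 : act 4 n217204 = n216232 := d1_2 (iv4 F368792) D217204 (iv2 F483428)
theorem F487919 : act 5 n217204 = n191701 := d2_2 F384006 D217204 (iv2 F384201)
theorem F487920 : act 7 n217204 = n187041 := d4_2 (iv7 F368793) D217204 (iv2 D187041)
theorem F487921 : act 1 n217204 = n187039 := d15_0 (iv0 D187039) (iv7 F368793) D217204
theorem F487922 : act 1 n187040 = n217204 := d15_0 F487921 (iv7 F456161) F456159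
theorem F487923 : act 0 n217069 = n216235 := d18_0 (iv4 D216235) D216232 (iv4 F487918) F487919 (iv4 F441293) (iv0 F441292) F367792 D186726 D217069
theorem F487924 : act 1 n217068 = n216235 := d15_0 (iv0 F487923) F487248 (iv2 F487241)
def n217205 : Q := act 6 n187000
theorem D217205 : act 6 n187000 = n217205 := rfl
theorem F487925 : act 2 n217205 = n192876 := d3_1 D217205 F388079 F368795
theorem F487926 : act 3 n217205 = n214145 := d7_1 D217205 F473704 F368796
theorem F487927 : act 4 n217205 = n216872 := d10_1 D217205 F486324 F369236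
theorem F487928 : act 5 n217205 = n192837 := d12_1 D217205 (iv6 D192837) (iv5 D100785) D100786 (iv5 F368794)
theorem F487929 : act 7 n217205 = n216870 := d14_2 (iv7 F369233) D217205 (iv6 D216870) F288593 D187142
def n217206 : Q := act 3 n187001
theorem D217206 : act 3 n187001 = n217206 := rfl
theorem F487930 : act 2 n217206 = n210655 := d0_1 D217206 F458353 F368918 (iv3 F369231) F369230
theorem F487931 : act 5 n217206 = n192868 := d6_2 F368798 D217206 F388062
theorem F487932 : act 6 n217206 = n216869 := d7_2 F368801 D217206 (iv3 D216869)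
theorem F487933 : act 7 n217206 = n192867 := d8_2 (iv7 F368797) D217206 F388061
theorem F487934 : act 0 n217206 = n190984 := d20_4 (iv4 F391538) F391539 (iv4 F368802) D217206 F381801 (iv4 F470288) (iv1 F483529) (iv4 F485782) F485777 (iv1 F390694)
theorem F487935 : act 4 n217206 = n210645 := d20_6 (iv4 F426190) (iv1 F432491) F432496 F390689 F390687 D217206 F479870 F479868 F383431 F335587
theorem F487936 : act 0 n190991 = n217206 := d20_4 (iv4 D213380) (iv1 F366923) F363127 (iv3 F381822) (iv3 D217206) F368802 (iv1 F483801) (iv4 D216315) (iv3 F383529) (iv1 F470158)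
def n217207 : Q := act 0 n187003
theorem D217207 : act 0 n187003 = n217207 := rfl
theorem F487937 : act 5 n217207 = n210054 := d17_1 D217207 (iv1 F455959) D210317 F456992 (iv5 F390316) (iv0 F480637) (iv5 F487667) F487670 F390679
theorem F487938 : act 7 n210053 = n217207 := d13_0 F487937 (iv7 D210054) D210053
theorem F487939 : act 1 n209146 = n217207 := d17_6 F375909 D213783 F479554 F479551 F357918 D209146 F487937 F455960 F389887
def n217208 : Q := act 1 n187003
theorem D217208 : act 1 n187003 = n217208 := rfl
theorem F487940 : act 1 n217208 = n209146 := d15_1 D217208 (iv7 F480848) F480845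
theorem F487941 : act 5 n217208 = n210045 := d17_7 (iv1 F456981) (iv5 F470111) F470110 F302454 (iv4 F357915) (iv5 F368800) D217208 (iv0 F455907) (iv4 F456977)
theorem F487942 : act 4 n217208 = n192312 := d17_9 F392067 (iv5 D194106) (iv1 D102675) D102676 (iv4 F363625) (iv5 D136918) (iv0 F357913) (iv5 F368800) D217208
theorem F487943 : act 3 n203176 = n217208 := d19_19 (iv1 D217208) F368800 F357915 F354138 (iv1 F206082) F94836 F46212 F22814 (iv1 F18165) D23920 D49036 D106095 (iv1 F383055) (iv5 D191325) F344401 F344403 (iv1 D118171) D118172 D203176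
theorem F487944 : act 6 n192311 = n217208 := d21_3 D192895 F419905 F419906 (iv1 D217208) (iv6 D187003) (iv5 D89461) F289551 (iv5 F367881) F386411 F386409
theorem F487945 : act 2 n217208 = n210053 := d3_1 F487944 F455953 (iv2 F386385)
def n217209 : Q := act 7 n187003
theorem D217209 : act 7 n187003 = n217209 := rfl
theorem F487946 : act 2 n217209 = n209146 := d4_1 D217209 (iv7 F480848) F480845
theorem F487947 : act 3 n217209 = n187010 := d8_1 D217209 (iv7 D187010) (iv3 F368799)
theorem F487948 : act 4 n217209 = n216255 := d11_1 D217209 F483509 F390679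
theorem F487949 : act 5 n217209 = n192145 := d13_1 D217209 (iv7 D192145) (iv5 F368800)
theorem F487950 : act 1 n210053 = n217209 := d15_1 F480849 (iv7 D217209) (iv2 F480845)
def n217210 : Q := act 6 n187004
theorem D217210 : act 6 n187004 = n217210 := rfl
theorem F487951 : act 2 n217210 = n216194 := d3_1 D217210 (iv6 D216194) (iv2 F368803)
theorem F487952 : act 3 n217210 = n187006 := d7_1 D217210 (iv6 D187006) D187004
theorem F487953 : act 4 n217210 = n209756 := d10_1 D217210 (iv6 F469952) F469949
theorem F487954 : act 5 n217210 = n191928 := d12_1 D217210 (iv6 D191928) (iv5 D99328) (iv6 F292186) (iv5 F368804)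
def n217211 : Q := act 1 n187006
theorem D217211 : act 1 n187006 = n217211 := rfl
theorem F487955 : act 1 n217211 = n192526 := d15_1 D217211 (iv7 D192526) (iv2 F368811)
theorem F487956 : act 7 n217211 = n192524 := d15_2 (iv0 F487884) D217211 (iv2 F487881)
theorem F487957 : act 5 n189067 = n217211 := d21_6 (iv5 D43552) (iv1 D20604) D20606 D43562 D93107 D189067 (iv1 D217211) F368812 (iv6 D99331) F293215
theorem F487958 : act 2 n192525 = n217211 := d4_3 F487956 (iv2 F487881) (iv7 F487885)
def n217212 : Q := act 7 n187006
theorem D217212 : act 7 n187006 = n217212 := rfl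
theorem F487959 : act 2 n217212 = n192526 := d4_1 D217212 (iv7 D192526) (iv2 F368811)
theorem F487960 : act 4 n217212 = n191365 := d11_1 D217212 (iv7 F427436) (iv4 F427439)
theorem F487961 : act 5 n217212 = n191933 := d13_1 D217212 (iv7 D191933) (iv5 F368812)
theorem F487962 : act 1 n192525 = n217212 := d15_1 D192525 (iv7 D217212) F368811
theorem F487963 : act 1 n217212 = n192524 := d15_1 F487962 (iv7 F487956) (iv2 F487958)
def n217213 : Q := act 3 n187007
theorem D217213 : act 3 n187007 = n217213 := rfl
theorem F487964 : act 5 n217213 = n187682 := d6_2 (iv5 F368814) D217213 (iv3 D187682)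
theorem F487965 : act 0 n217213 = n191638 := d20_4 (iv4 D186015) F291677 (iv4 F368815) D217213 F383991 D191653 F388126 (iv4 F386950) (iv3 D192527) (iv1 F288594)
def n217214 : Q := act 3 n187011
theorem D217214 : act 3 n187011 = n217214 := rfl
theorem F487966 : act 2 n217214 = n216182 := d0_1 D217214 (iv3 D216182) F483165 F486266 (iv2 F486265)
theorem F487967 : act 5 n217214 = n188269 := d6_2 (iv5 F368835) D217214 (iv3 D188269)
theorem F487968 : act 0 n217214 = n213382 := d19_4 F387985 (iv5 F487804) F487805 D217214 F470161 (iv4 D159747) D159746 F283525 (iv5 F342999) (iv4 F419367) F419368 (iv1 D125101) F92375 F53335 (iv3 F85529) D117678 (iv5 F426236) (iv4 F465715) F465714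
theorem F487969 : act 1 n217214 = n214541 := d15_1 (iv0 F487968) F475699 F470164
def n217215 : Q := act 6 n187012
theorem D217215 : act 6 n187012 = n217215 := rfl
theorem F487970 : act 2 n217215 = n191442 := d3_1 D217215 F486258 F486260
theorem F487971 : act 3 n217215 = n216181 := d7_1 D217215 (iv6 D216181) (iv3 F368837)
theorem F487972 : act 4 n217215 = n191421 := d10_1 D217215 F487815 F487814
theorem F487973 : act 5 n217215 = n191967 := d12_1 D217215 (iv6 D191967) (iv5 D99431) (iv6 F344229) F368836
theorem F487974 : act 7 n191420 = n217215 := d13_0 F487973 (iv7 F455572) F455571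
theorem F487975 : act 0 n217215 = n191439 := d21_7 F362455 F368584 (iv5 F368585) (iv6 F368589) F368590 D191967 (iv5 F487973) (iv5 F464239) F464238 F463408
theorem F487976 : act 0 n212072 = n214128 := d17_2 F487975 (iv5 F464239) F473616 (iv4 D192433) (iv5 D100177) (iv0 F285749) F151779 F383443 (iv4 F487972)
theorem F487977 : act 1 n217215 = n191438 := d15_0 (iv0 D191438) D191442 (iv2 F487970)
def n217216 : Q := act 6 n187013
theorem D217216 : act 6 n187013 = n217216 := rfl
theorem F487978 : act 4 n217216 = n187014 := d10_1 D217216 (iv6 D187014) D187013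
theorem F487979 : act 5 n217216 = n198981 := d12_1 D217216 (iv6 D198981) F336959 D158940 (iv5 F368838)
theorem F487980 : act 7 n217216 = n209407 := d14_2 (iv7 F432488) D217216 F453597 (iv7 F390648) F432487
theorem F487981 : act 0 n217216 = n188205 := d21_1 (iv5 F487979) F372659 (iv6 F371197) F445948 F445946 (iv5 F366348) (iv1 D141308) D141310 (iv6 F442846) F442848
def n217217 : Q := act 0 n187014
theorem D217217 : act 0 n187014 = n217217 := rfl
theorem F487982 : act 1 n207718 = n217217 := d15_0 (iv0 D217217) F368841 (iv2 F446135)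
def n217218 : Q := act 1 n187014
theorem D217218 : act 1 n187014 = n217218 := rfl
theorem F487983 : act 1 n217218 = n207718 := d15_1 D217218 (iv7 F487505) F487503
theorem F487984 : act 6 n203206 = n217218 := d21_3 (iv5 F280155) (iv1 F385526) (iv5 F427410) (iv1 D217218) (iv6 D187014) (iv5 D89471) F337234 D153539 F241329 D153544
theorem F487985 : act 5 n212825 = n217218 := d21_6 (iv5 D101041) (iv1 D47074) D47075 (iv6 F107114) D150115 D212825 (iv1 D217218) F368840 F344186 (iv1 F344196)
theorem F487986 : act 2 n217218 = n209405 := d2_1 F487985 F453596 (iv2 F467641)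
theorem F487987 : act 7 n217218 = n209406 := d13_2 (iv7 F467643) F487985 (iv5 F453773)
theorem F487988 : act 2 n209406 = n217217 := d15_3 (iv0 D217217) D217218 F487987
theorem F487989 : act 7 n209405 = n217217 := d4_2 (iv7 F487987) F487986 (iv2 F487988)
theorem F487990 : act 4 n210191 = n217218 := d18_7 F420900 F420898 D201735 (iv4 F453289) F393977 F449473 (iv0 F456510) F487983 (iv5 D207718)
def n217219 : Q := act 2 n187015
theorem D217219 : act 2 n187015 = n217219 := rfl
theorem F487991 : act 3 n217219 = n216260 := d0_2 D187015 D217219 F483534 (iv3 F470241) F288545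
theorem F487992 : act 5 n217219 = n208429 := d2_2 (iv5 F368842) D217219 F449330
theorem F487993 : act 6 n217219 = n213771 := d3_2 F460630 D217219 F472022
theorem F487994 : act 7 n217219 = n208432 := d4_2 F486270 D217219 (iv2 F486267)
theorem F487995 : act 1 n217219 = n216037 := d15_0 (iv0 F486271) F486270 D217219
theorem F487996 : act 1 n212903 = n217219 := d15_0 F487995 F482624 (iv2 F468044)
def n217220 : Q := act 0 n187016
theorem D217220 : act 0 n187016 = n217220 := rfl
def n217221 : Q := act 1 n187016
theorem D217221 : act 1 n187016 = n217221 := rfl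
theorem F487997 : act 1 n217221 = n216254 := d15_1 D217221 (iv7 F486280) F486276
theorem F487998 : act 6 n195849 = n217221 := d21_3 (iv5 F368859) F240922 D195849 (iv1 D217221) (iv6 D187016) (iv5 F365789) F160058 (iv5 F365792) (iv6 F153983) (iv1 F368405)
theorem F487999 : act 3 n217221 = n209757 := d7_1 F487998 F454841 F421491
theorem F488000 : act 4 n217221 = n192674 := d10_1 F487998 F387444 (iv4 F398449)
def n217222 : Q := act 7 n187016
theorem D217222 : act 7 n187016 = n217222 := rfl
theorem F488001 : act 2 n217222 = n216254 := d4_1 D217222 (iv7 F486280) F486276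
theorem F488002 : act 3 n217222 = n212917 := d8_1 D217222 F468109 F460629
theorem F488003 : act 4 n217222 = n187019 := d11_1 D217222 (iv7 D187019) (iv4 F368843)
theorem F488004 : act 5 n217222 = n212916 := d13_1 D217222 F468107 F460628
theorem F488005 : act 6 n217222 = n193687 := d14_1 D217222 (iv7 D193687) (iv6 F288534) F288535 D187016
theorem F488006 : act 1 n216254 = n217220 := d15_0 (iv0 D217220) D217222 F488001
def n217223 : Q := act 4 n187017
theorem D217223 : act 4 n187017 = n217223 := rfl
theorem F488007 : act 0 n217223 = n217205 := d18_2 D187017 D217223 F487927 F486323 (iv4 F461092) (iv0 D211316) F394072 (iv0 D194680) F159460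
theorem F488008 : act 3 n217223 = n217211 := d20_3 F368843 D187017 D217223 (iv1 D217211) (iv3 F487952) F487953 (iv1 D209756) D209757 (iv3 F487999) (iv1 D217221)
theorem F488009 : act 5 n202517 = n217223 := d6_0 F488008 (iv5 F487957) (iv3 F473472)
theorem F488010 : act 0 n187155 = n217223 := d21_1 F388082 (iv5 F488009) (iv6 F473471) F390214 (iv6 D193545) (iv5 F275069) (iv1 F275071) (iv5 F357630) D210497 F457794
def n217224 : Q := act 6 n187017
theorem D217224 : act 6 n187017 = n217224 := rfl
theorem F488011 : act 2 n217224 = n188274 := d3_1 D217224 (iv6 F486281) (iv2 F486282)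
theorem F488012 : act 3 n217224 = n195815 := d7_1 D217224 F398300 F388616
theorem F488013 : act 5 n217224 = n187598 := d12_1 D217224 (iv6 F389692) F389691 (iv6 F388614) (iv5 F388615)
theorem F488014 : act 7 n217224 = n188272 := d14_2 F388617 D217224 F372920 F368016 (iv6 F388609)
def n217225 : Q := act 4 n187018
theorem D217225 : act 4 n187018 = n217225 := rfl
theorem F488015 : act 5 n202516 = n217225 := d19_1 D202516 (iv4 D217225) (iv3 F471039) (iv1 D191734) D191736 (iv4 F475582) F475581 (iv1 F465410) (iv5 D212343) (iv4 F425527) F425526 F182691 (iv5 F320875) F49748 F168253 (iv1 D29832) (iv5 F40921) (iv4 F84345) (iv3 F180501)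
theorem F488016 : act 0 n217205 = n217225 := d20_1 (iv4 F487927) (iv4 D217225) (iv3 F471039) (iv1 D191734) D191735 F451842 F451840 (iv4 F451916) F451914 (iv1 F486326)
theorem F488017 : act 1 n187155 = n217225 := d15_0 (iv0 F488016) F487929 F486313
def n217226 : Q := act 3 n187020
theorem D217226 : act 3 n187020 = n217226 := rfl
theorem F488018 : act 2 n217226 = n193295 := d0_1 D217226 F462506 F462504 F390676 F368849
theorem F488019 : act 4 n217226 = n187022 := d5_2 D187020 D217226 (iv3 D187022) (iv4 D89476) D89475
theorem F488020 : act 5 n217226 = n192153 := d6_2 (iv5 F368848) D217226 (iv3 D192153)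
theorem F488021 : act 6 n217226 = n193848 := d7_2 F372926 D217226 F439753
theorem F488022 : act 7 n217226 = n193293 := d8_2 (iv7 F368847) D217226 F389407
theorem F488023 : act 0 n208376 = n217226 := d17_0 F488020 (iv1 F388985) F155991 (iv4 F283629) (iv5 F377739) (iv0 F377740) (iv5 F449120) (iv0 D208374) D208376
theorem F488024 : act 0 n217226 = n193192 := d21_1 (iv5 F488020) (iv5 D193192) (iv6 D101329) D101326 (iv6 F351887) (iv5 F351893) (iv1 F373352) (iv5 F388968) F388969 (iv1 F388986)
def n217227 : Q := act 0 n187021
theorem D217227 : act 0 n187021 = n217227 := rfl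
theorem F488025 : act 4 n217227 = n187707 := d18_3 D188276 (iv4 F372928) D217227 F371253 (iv4 F370924) F370928 (iv4 F368013) (iv0 D91133) D91135
theorem F488026 : act 6 n217227 = n209775 := d21_5 (iv5 D100870) (iv1 F343084) F291782 D187021 D217227 F454912 (iv1 F354161) D215630 F480847 F367878
theorem F488027 : act 7 n187036 = n217227 := d14_0 F488026 (iv7 D209775) F220101 (iv7 F292677) D187036
def n217228 : Q := act 7 n187021
theorem D217228 : act 7 n187021 = n217228 := rfl
theorem F488028 : act 3 n217228 = n187026 := d8_1 D217228 (iv7 D187026) (iv3 F368866)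
theorem F488029 : act 4 n217228 = n187025 := d11_1 D217228 F372929 (iv4 F372928)
theorem F488030 : act 1 n187036 = n217228 := d15_1 (iv0 F487315) (iv7 D217228) (iv2 F487313)
def n217229 : Q := act 1 n187022
theorem D217229 : act 1 n187022 = n217229 := rfl
theorem F488031 : act 7 n217229 = n210295 := d15_2 (iv0 F470268) D217229 (iv2 F470263)
theorem F488032 : act 5 n217229 = n190719 := d17_7 (iv1 D206437) D206438 F441553 F441550 F399449 F374947 D217229 F380775 F440798
theorem F488033 : act 3 n207103 = n217229 := d19_19 (iv1 D217229) (iv5 F374947) (iv4 F399449) F399448 (iv1 F177002) D201020 F418764 (iv3 D176530) F129200 F127226 F127225 D98247 F357801 (iv5 D172552) (iv4 F312611) F153972 (iv1 F344408) D203189 (iv4 F443338)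
theorem F488034 : act 6 n213303 = n217229 := d21_3 (iv5 F470174) F467504 (iv5 F469814) (iv1 D217229) F483849 F483846 F420926 (iv5 F470192) (iv6 D213389) (iv1 F470173)
theorem F488035 : act 2 n217229 = n213393 := d3_1 F488034 (iv6 D213393) F469815
def n217230 : Q := act 1 n187023
theorem D217230 : act 1 n187023 = n217230 := rfl
theorem F488036 : act 4 n217230 = n188202 := d18_7 (iv1 F144539) F367227 (iv1 D92570) (iv4 F139098) F293826 (iv4 F368867) D217230 F372650 F371253
theorem F488037 : act 2 n216237 = n217230 := d1_3 F488036 F375649 F483436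
theorem F488038 : act 6 n217230 = n216233 := d3_2 D216237 F488037 (iv2 D216233)
def n217231 : Q := act 5 n187023
theorem D217231 : act 5 n187023 = n217231 := rfl
theorem F488039 : act 3 n217231 = n201552 := d6_1 D217231 (iv5 F483846) (iv3 F483848)
theorem F488040 : act 6 n217231 = n216372 := d12_2 D187023 D217231 F484052 (iv6 D188803) F365803
theorem F488041 : act 4 n201554 = n217231 := d10_3 F488040 F484051 (iv6 F443299)
def n217232 : Q := act 3 n187024
theorem D217232 : act 3 n187024 = n217232 := rfl
theorem F488042 : act 2 n217232 = n216220 := d0_1 D217232 (iv3 D216220) F439751 F439753 (iv2 F372927)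
theorem F488043 : act 6 n217232 = n193682 := d7_2 (iv6 F368868) D217232 F390676
theorem F488044 : act 4 n212789 = n217232 := d10_3 F488043 F390677 D212789
theorem F488045 : act 0 n216135 = n217232 := d21_4 F283610 (iv1 F295164) F295167 D216135 F488043 (iv5 D193682) (iv1 F390673) (iv5 F486233) (iv6 D216853) F288485
def n217233 : Q := act 5 n187024
theorem D217233 : act 5 n187024 = n217233 := rfl
theorem F488046 : act 6 n217233 = n193523 := d12_2 (iv6 F368868) D217233 (iv5 D193523) F368864 D102229
theorem F488047 : act 7 n217233 = n189097 := d13_2 F372931 D217233 F375738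
theorem F488048 : act 4 n217233 = n188359 := d17_4 (iv1 D187598) F293826 D187024 D217233 F373179 (iv0 D102331) (iv5 F293739) D187589 F370971
theorem F488049 : act 1 n217233 = n188333 := d17_8 (iv1 F486956) F384549 (iv1 F370455) F370448 (iv4 F140167) (iv5 F372937) F372940 D217233 F486961
def n217234 : Q := act 0 n187029
theorem D217234 : act 0 n187029 = n217234 := rfl
theorem F488050 : act 6 n217234 = n209402 := d21_5 F486263 F372848 F292283 D187029 D217234 (iv5 D209402) (iv1 F388493) (iv5 F487504) (iv6 D217115) (iv1 F486261)
def n217235 : Q := act 1 n187029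
theorem D217235 : act 1 n187029 = n217235 := rfl
def n217236 : Q := act 7 n187029
theorem D217236 : act 7 n187029 = n217236 := rfl
theorem F488051 : act 3 n217236 = n187034 := d8_1 D217236 (iv7 D187034) (iv3 F368870)
def n217237 : Q := act 1 n187030
theorem D217237 : act 1 n187030 = n217237 := rfl
theorem F488052 : act 7 n217237 = n208430 := d15_2 (iv0 F391855) D217237 F449331
theorem F488053 : act 5 n191648 = n217237 := d21_0 (iv1 D217237) F368871 (iv6 F371430) F391768 F391766 (iv5 D102589) F293611 (iv5 F293619) (iv6 F367673) (iv1 F384048)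
theorem F488054 : act 2 n217237 = n208435 := d2_1 F488053 F449342 (iv2 F384045)
theorem F488055 : act 3 n217237 = n191650 := d6_1 F488053 (iv5 D191650) D191648
theorem F488056 : act 0 n208433 = n217237 := d21_10 (iv5 F488053) (iv1 F384047) (iv5 F368842) (iv6 F460630) (iv1 F463745) F463741 (iv5 D192606) (iv1 F387212) (iv5 F485825) F485833
def n217238 : Q := act 2 n187030
theorem D217238 : act 2 n187030 = n217238 := rfl
theorem F488057 : act 4 n217238 = n212936 := d1_2 F468052 D217238 F468214
theorem F488058 : act 5 n217238 = n187772 := d2_2 (iv5 F368871) D217238 (iv2 D187772)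
theorem F488059 : act 7 n217238 = n208433 := d4_2 F372942 D217238 (iv2 F449340)
theorem F488060 : act 1 n217238 = n208435 := d15_0 (iv0 F449386) F372942 D217238
theorem F488061 : act 1 n208430 = n217238 := d15_0 F488060 (iv7 D208435) (iv2 F449331)
def n217239 : Q := act 6 n187030
theorem D217239 : act 6 n187030 = n217239 := rfl
theorem F488062 : act 3 n217239 = n187031 := d7_1 D217239 (iv6 D187031) D187030
theorem F488063 : act 0 n213381 = n217239 := d21_4 (iv5 D204952) (iv1 F433130) F433127 D213381 (iv6 D217239) F368871 D187770 (iv5 F482623) (iv6 D216037) (iv1 F434323)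
def n217240 : Q := act 1 n187031
theorem D217240 : act 1 n187031 = n217240 := rfl
theorem F488064 : act 7 n217240 = n211650 := d15_2 F479484 D217240 (iv2 F479483)
theorem F488065 : act 5 n217240 = n213775 := d17_7 F456980 F456979 (iv1 F242571) (iv5 F354152) (iv4 F455438) F455439 D217240 F472066 F472064
theorem F488066 : act 4 n217240 = n194109 := d18_7 (iv1 F382991) F390227 (iv1 F390225) F377189 F151016 (iv4 F368872) D217240 F392068 F383516
theorem F488067 : act 3 n204114 = n217240 := d19_19 (iv1 D217240) (iv5 F455439) F455438 (iv3 F354155) (iv1 F471502) (iv5 F478668) F478667 F447359 (iv1 F447346) (iv5 F465892) (iv4 D212460) F242951 (iv1 D148545) (iv5 D69615) (iv4 F105889) (iv3 F317789) (iv1 F321592) (iv5 F226218) F440454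
theorem F488068 : act 6 n204112 = n217240 := d21_3 F470216 F443304 (iv5 F443305) (iv1 D217240) (iv6 D187031) F293346 D90545 (iv5 F369218) (iv6 F483789) F483791
def n217241 : Q := act 7 n187031
theorem D217241 : act 7 n187031 = n217241 := rfl
theorem F488069 : act 4 n217241 = n187034 := d11_1 D217241 (iv7 D187034) (iv4 F368872)
theorem F488070 : act 5 n217241 = n215408 := d13_1 D217241 F479843 F455439
theorem F488071 : act 0 n211650 = n217241 := d17_2 F482091 F478588 F488070 (iv4 D215408) (iv5 D174427) F307640 D206316 F440210 D215918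
def n217242 : Q := act 3 n187033
theorem D217242 : act 3 n187033 = n217242 := rfl
theorem F488072 : act 2 n217242 = n216216 := d0_1 D217242 (iv3 D216216) (iv2 F283665) F390984 F390986
theorem F488073 : act 5 n217242 = n216680 := d6_2 F390316 D217242 F485451
theorem F488074 : act 0 n217242 = n216137 := d21_1 (iv5 F488073) F483140 (iv6 D191274) F157660 D185058 F287445 D216412 F484260 F485659 (iv1 F485657)
def n217243 : Q := act 0 n187037
theorem D217243 : act 0 n187037 = n217243 := rfl
theorem F488075 : act 5 n217243 = n206724 := d17_1 D217243 F441977 D208381 (iv4 F458355) (iv5 D209599) (iv0 F393979) F393977 (iv0 F454294) (iv4 F454296)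
theorem F488076 : act 4 n217243 = n217115 := d18_3 D209600 (iv4 F454296) D217243 F487504 F388490 F445851 (iv4 F446146) (iv0 D136677) D136679
theorem F488077 : act 3 n217243 = n211645 := d20_5 F367450 (iv1 F136470) (iv4 F137145) D187037 D217243 (iv4 F468342) F468343 F468227 (iv3 D188280) (iv1 F367453)
theorem F488078 : act 2 n217216 = n217243 := d15_3 (iv0 D217243) (iv0 F454297) (iv7 F487980)
theorem F488079 : act 1 n208384 = n217243 := d15_0 (iv0 D217243) (iv7 F372660) (iv2 F449153)
theorem F488080 : act 6 n217243 = n204426 := d3_2 D217216 F488078 F432494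
def n217244 : Q := act 2 n187037
theorem D217244 : act 2 n187037 = n217244 := rfl
theorem F488081 : act 3 n217244 = n208270 := d0_2 D187037 D217244 (iv2 F448663) F365673 F292181
theorem F488082 : act 4 n217244 = n204638 := d1_2 (iv4 F454296) D217244 F454293
theorem F488083 : act 5 n217244 = n187691 := d2_2 (iv5 F368879) D217244 (iv2 D187691)
theorem F488084 : act 7 n217244 = n208384 := d4_2 F372660 D217244 F449153
theorem F488085 : act 1 n217216 = n217244 := d15_1 (iv0 F487981) F488084 F449153
theorem F488086 : act 6 n204640 = n217244 := d10_0 F488082 F433096 D204640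
def n217245 : Q := act 6 n187037
theorem D217245 : act 6 n187037 = n217245 := rfl
theorem F488087 : act 2 n217245 = n204640 := d3_1 D217245 F488086 (iv2 D217244)
theorem F488088 : act 3 n217245 = n187038 := d7_1 D217245 (iv6 D187038) D187037
theorem F488089 : act 4 n217245 = n204633 := d10_1 D217245 (iv6 F454292) (iv4 F454296)
theorem F488090 : act 5 n217245 = n209236 := d12_1 D217245 (iv6 D209236) (iv5 F220569) F220570 (iv5 F368879)
theorem F488091 : act 7 n215997 = n217245 := d13_0 F488090 (iv7 F461648) (iv5 F482479)
theorem F488092 : act 0 n213335 = n217245 := d19_0 F488090 F452828 (iv3 F397046) (iv1 F472634) F472632 F245171 (iv3 F163573) (iv1 F163576) (iv5 F78141) D61270 D130591 (iv1 F365461) (iv5 F369050) F369049 (iv3 D143512) D143510 D211652 (iv4 F462557) (iv3 F469974)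
theorem F488093 : act 1 n213333 = n217245 := d15_0 (iv0 F488092) F469976 (iv2 F469966)
def n217246 : Q := act 7 n187038
theorem D217246 : act 7 n187038 = n217246 := rfl
theorem F488094 : act 2 n217246 = n209775 := d4_1 D217246 (iv7 D209775) (iv2 F368880)
theorem F488095 : act 3 n217246 = n215997 := d8_1 D217246 F488091 F488088
theorem F488096 : act 4 n217246 = n191459 := d11_1 D217246 (iv7 D191459) (iv4 F368881)
theorem F488097 : act 5 n217246 = n192144 := d13_1 D217246 F385743 (iv5 F368882)
theorem F488098 : act 1 n193452 = n217246 := d15_1 (iv0 F389884) (iv7 D217246) F368880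
theorem F488099 : act 1 n217246 = n209761 := d15_1 F488098 (iv7 F456991) F456988
def n217247 : Q := act 3 n187039
theorem D217247 : act 3 n187039 = n217247 := rfl
theorem F488100 : act 5 n217247 = n204363 := d6_2 (iv5 F441112) D217247 (iv3 F441109)
def n217248 : Q := act 4 n187039
theorem D217248 : act 4 n187039 = n217248 := rfl
def n217249 : Q := act 3 n187040
theorem D217249 : act 3 n187040 = n217249 := rfl
theorem F488101 : act 4 n217249 = n213407 := d5_2 (iv4 F390942) D217249 F470269 F374949 (iv3 F390940)
theorem F488102 : act 5 n217249 = n208670 := d6_2 F368890 D217249 F450397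
theorem F488103 : act 6 n217249 = n193293 := d7_2 (iv6 F368891) D217249 F389407
theorem F488104 : act 7 n217249 = n208374 := d8_2 F487911 D217249 F487913
theorem F488105 : act 2 n217249 = n208375 := d15_3 F449123 F449122 (iv7 F488104)
theorem F488106 : act 0 n208377 = n217249 := d21_4 (iv5 F306666) F394061 (iv5 F394060) F449127 F488103 (iv5 D193293) (iv1 F388991) F388988 (iv6 F469617) F469619
theorem F488107 : act 0 n217249 = n208368 := d21_4 F137174 D101437 D193293 (iv6 F488103) F449103 (iv5 F242414) F388922 D214234 F474127 (iv1 D187054)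
def n217250 : Q := act 5 n187044
theorem D217250 : act 5 n187044 = n217250 := rfl
theorem F488108 : act 3 n217250 = n187045 := d6_1 D217250 (iv5 D187045) D187044
theorem F488109 : act 6 n217250 = n204427 := d12_2 F379028 D217250 F432500 (iv6 F429563) F429562
theorem F488110 : act 7 n217250 = n191327 := d13_2 (iv7 F368902) D217250 (iv5 D191327)
theorem F488111 : act 0 n217250 = n216136 := d17_2 F368905 D217250 F483136 F382841 (iv5 D190999) F381770 F381769 (iv0 F149822) D97115
theorem F488112 : act 4 n217250 = n214116 := d17_4 F487934 (iv5 D190984) F368905 D217250 F473551 F460769 D215413 (iv0 F479870) (iv4 F487935)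
def n217251 : Q := act 3 n187046
theorem D217251 : act 3 n187046 = n217251 := rfl
theorem F488113 : act 2 n217251 = n192867 := d0_1 D217251 F388061 F368795 (iv3 F368796) F368913
theorem F488114 : act 5 n217251 = n192016 := d6_2 (iv5 F368911) D217251 F385216
theorem F488115 : act 7 n217251 = n210655 := d8_2 F368914 D217251 F458353
theorem F488116 : act 4 n217251 = n210656 := d20_6 D182249 F283693 (iv4 D89491) (iv3 F137165) D187046 D217251 (iv1 F458358) (iv4 D182266) F133583 (iv1 F133547)
theorem F488117 : act 1 n190991 = n217251 := d17_8 (iv1 F458358) (iv5 F455743) F460746 (iv5 F486014) F486015 (iv5 D215306) F353223 D190991 F488116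
theorem F488118 : act 0 n190984 = n217251 := d18_0 F488116 (iv1 F458358) (iv4 D182266) (iv5 D87026) (iv4 F71543) D97072 (iv4 F368904) (iv0 F368905) D190984
def n217252 : Q := act 4 n187046
theorem D217252 : act 4 n187046 = n217252 := rfl
theorem F488119 : act 2 n217252 = n216204 := d1_1 D217252 (iv4 D216204) F368913
theorem F488120 : act 3 n217252 = n208444 := d5_1 D217252 F449380 (iv3 F458356) (iv4 F488116) (iv3 D217251)
theorem F488121 : act 6 n217252 = n214119 := d10_2 (iv6 F448960) D217252 F473566
theorem F488122 : act 7 n217252 = n210662 := d11_2 F368914 D217252 F458371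
theorem F488123 : act 5 n217252 = n208443 := d16_1 D217252 F449379 (iv5 D208436) (iv4 F363027) (iv5 F372664) F372663 (iv5 F368917) F368916 F368913
theorem F488124 : act 0 n217252 = n191477 := d18_2 D187046 D217252 (iv4 D191477) (iv5 D98391) (iv4 F335702) F335730 (iv4 F335738) (iv0 D89486) D89489
theorem F488125 : act 1 n217252 = n187136 := d18_6 F290023 (iv4 F140522) (iv1 F352771) (iv4 F352769) (iv5 F368911) D217252 (iv4 D187136) D187135 (iv5 F369212)
def n217253 : Q := act 4 n187047
theorem D217253 : act 4 n187047 = n217253 := rfl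
theorem F488126 : act 2 n217253 = n210662 := d1_1 D217253 F458371 F368918
theorem F488127 : act 6 n217253 = n215210 := d10_2 F368919 D217253 (iv4 D215210)
theorem F488128 : act 7 n217253 = n216204 := d11_2 (iv7 F368916) D217253 (iv4 D216204)
theorem F488129 : act 0 n217253 = n187136 := d17_0 F431177 (iv1 D204140) D204142 F431180 (iv5 D187045) (iv0 D89486) D89489 D187047 D217253
theorem F488130 : act 1 n217253 = n191477 := d18_6 (iv1 F291474) (iv4 F283987) F372668 F372663 (iv5 F368917) D217253 (iv4 D191477) F369206 F369205
def n217254 : Q := act 3 n187048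
theorem D217254 : act 3 n187048 = n217254 := rfl
theorem F488131 : act 4 n217254 = n187051 := d5_2 D187048 D217254 (iv3 D187051) (iv4 D89491) (iv3 F137165)
theorem F488132 : act 7 n217254 = n204036 := d8_2 (iv7 F368920) D217254 F430866
theorem F488133 : act 0 n210605 = n217254 := d20_4 (iv4 D210603) (iv1 D139427) D139428 D210605 (iv3 D217254) (iv4 D187048) D187046 D217252 F488120 (iv1 F458185)
theorem F488134 : act 6 n215207 = n217254 := d14_5 F488132 (iv6 D204036) F304424 D170659 D215207
def n217255 : Q := act 6 n187048
theorem D217255 : act 6 n187048 = n217255 := rfl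
theorem F488135 : act 3 n217255 = n215207 := d7_1 D217255 F488134 (iv3 D217254)
theorem F488136 : act 4 n217255 = n187049 := d10_1 D217255 (iv6 D187049) D187048
theorem F488137 : act 7 n217255 = n215205 := d14_2 (iv7 F368920) D217255 (iv6 D215205) (iv7 F430864) (iv6 F430865)
def n217256 : Q := act 0 n187049
theorem D217256 : act 0 n187049 = n217256 := rfl
theorem F488138 : act 4 n217256 = n203722 := d20_8 (iv4 D170671) F125747 D170647 (iv3 F449182) (iv1 F478875) (iv3 F488135) F488136 D217256 (iv3 D203722) (iv1 F268155)
theorem F488139 : act 6 n217256 = n204037 := d21_5 (iv5 D98165) (iv1 F335735) D89489 D187049 D217256 F484408 (iv1 F484406) (iv5 F483401) (iv6 D216221) F356422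
theorem F488140 : act 7 n203200 = n217256 := d14_0 F488139 (iv7 F485291) F485290 (iv7 F449133) F449132
theorem F488141 : act 3 n217256 = n203202 := d8_1 F488140 (iv7 D203202) D203200
def n217257 : Q := act 1 n187049
theorem D217257 : act 1 n187049 = n217257 := rfl
theorem F488142 : act 4 n204032 = n217257 := d20_6 (iv4 D208395) F365659 (iv4 F430825) (iv3 F449146) F478626 F478624 (iv1 D217257) (iv4 F488136) F488135 (iv1 F478874)
theorem F488143 : act 5 n210051 = n217257 := d21_0 (iv1 D217257) F368922 (iv6 D101433) (iv1 F356387) F302073 F301397 F119077 D124326 D204776 F455943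
theorem F488144 : act 6 n204428 = n217257 := d21_3 F429573 (iv1 F368214) (iv5 F432503) (iv1 D217257) (iv6 D187049) (iv5 D89489) D89486 D187045 F368907 (iv1 F429571)
theorem F488145 : act 2 n217257 = n203200 := d3_1 F488144 (iv6 F449132) F449130
theorem F488146 : act 3 n217257 = n210053 := d7_1 F488144 F455953 F432505
def n217258 : Q := act 7 n187049
theorem D217258 : act 7 n187049 = n217258 := rfl
theorem F488147 : act 3 n217258 = n187055 := d8_1 D217258 (iv7 D187055) (iv3 F368921)
theorem F488148 : act 4 n217258 = n215205 := d11_1 D217258 (iv7 F488137) F488136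
theorem F488149 : act 5 n217258 = n193285 := d13_1 D217258 (iv7 D193285) (iv5 F368922)
theorem F488150 : act 6 n217258 = n213267 := d14_1 D217258 F469637 (iv6 D182183) (iv7 F137166) D187049
theorem F488151 : act 1 n203200 = n217258 := d15_1 (iv0 F479191) (iv7 D217258) (iv2 F479189)
def n217259 : Q := act 2 n187051
theorem D217259 : act 2 n187051 = n217259 := rfl
theorem F488152 : act 3 n217259 = n216199 := d0_2 D187051 D217259 (iv2 D216199) (iv3 D182166) (iv2 F137170)
theorem F488153 : act 5 n217259 = n216454 := d2_2 (iv5 F368927) D217259 (iv2 D216454)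
theorem F488154 : act 6 n217259 = n204048 := d3_2 F368929 D217259 F430888
theorem F488155 : act 7 n217259 = n203724 := d4_2 (iv7 F368928) D217259 F429550
theorem F488156 : act 1 n217259 = n204037 := d15_0 (iv0 D204037) (iv7 F368928) D217259
theorem F488157 : act 1 n204038 = n217259 := d15_0 F488156 (iv7 F485291) F485289
def n217260 : Q := act 6 n187063
theorem D217260 : act 6 n187063 = n217260 := rfl
theorem F488158 : act 2 n217260 = n190051 := d3_1 D217260 F378652 (iv2 F368990)
theorem F488159 : act 3 n217260 = n187064 := d7_1 D217260 (iv6 D187064) D187063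
theorem F488160 : act 4 n217260 = n203481 := d10_1 D217260 F428482 (iv4 F368991)
theorem F488161 : act 7 n217260 = n190048 := d14_2 (iv7 F368993) D217260 (iv6 D190048) F147246 (iv6 F308341)
theorem F488162 : act 0 n217260 = n190050 := d21_4 (iv5 F386271) (iv1 D192275) (iv5 F368992) D217260 (iv6 F378647) F169515 D109871 (iv5 F320036) D190676 F380542
theorem F488163 : act 5 n217260 = n203422 := d21_6 (iv5 F416034) (iv1 F416037) F415813 F408318 F368995 D217260 F428236 F348114 D215101 (iv1 F478351)
theorem F488164 : act 0 n190049 = n217260 := d21_4 (iv5 D110763) D110760 (iv5 F409923) (iv6 F409927) (iv6 D217260) F368992 D192274 (iv5 F478340) (iv6 F478344) (iv1 D198963)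
def n217261 : Q := act 5 n187064
theorem D217261 : act 5 n187064 = n217261 := rfl
theorem F488165 : act 2 n217261 = n192845 := d2_1 D217261 F387994 (iv2 F368996)
theorem F488166 : act 3 n217261 = n203422 := d6_1 D217261 (iv5 F488163) F488159
theorem F488167 : act 6 n217261 = n191522 := d12_2 D187064 D217261 (iv5 D191522) F151903 (iv5 F137213)
theorem F488168 : act 7 n217261 = n190121 := d13_2 (iv7 F368998) D217261 (iv5 D190121)
theorem F488169 : act 1 n217261 = n192843 := d17_6 F466845 (iv5 F431160) F431164 F367455 (iv4 F368997) D217261 (iv5 F439587) (iv0 F439590) (iv4 F466842)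
theorem F488170 : act 4 n217261 = n193702 := d18_5 (iv1 F368389) (iv4 F356536) (iv1 F356537) (iv4 F368997) D217261 (iv0 D193702) (iv4 D102247) D102245 (iv5 F368776)
theorem F488171 : act 0 n217261 = n192844 := d18_0 (iv4 F457011) F457012 F221530 (iv5 F357189) (iv4 F289454) F289457 (iv4 F357192) F368999 D217261
def n217262 : Q := act 5 n187065
theorem D217262 : act 5 n187065 = n217262 := rfl
def n217263 : Q := act 2 n187069
theorem D217263 : act 2 n187069 = n217263 := rfl
theorem F488172 : act 3 n217263 = n187190 := d0_2 D187069 D217263 (iv2 F378120) F378121 (iv2 F335631)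
theorem F488173 : act 4 n217263 = n203464 := d1_2 F466572 D217263 (iv2 F466570)
theorem F488174 : act 5 n217263 = n193900 := d2_2 (iv5 F369021) D217263 (iv2 D193900)
theorem F488175 : act 6 n217263 = n203021 := d3_2 (iv6 F369022) D217263 F426669
theorem F488176 : act 7 n217263 = n215560 := d4_2 F391623 D217263 F480505
theorem F488177 : act 1 n217263 = n204249 := d15_0 (iv0 F431670) F391623 D217263
theorem F488178 : act 1 n191405 = n217263 := d15_0 F488177 (iv7 F431669) (iv2 F383371)
def n217264 : Q := act 6 n187075
theorem D217264 : act 6 n187075 = n217264 := rfl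
theorem F488179 : act 3 n217264 = n187076 := d7_1 D217264 (iv6 D187076) D187075
theorem F488180 : act 4 n217264 = n206788 := d10_1 D217264 (iv6 F473729) F473727
theorem F488181 : act 0 n217264 = n199968 := d21_4 F173702 F391447 (iv5 F369040) D217264 (iv6 D199968) D199967 F414391 (iv5 F378651) F378652 F361278
def n217265 : Q := act 0 n187076
theorem D217265 : act 0 n187076 = n217265 := rfl
theorem F488182 : act 4 n217265 = n193975 := d20_2 (iv4 F369044) D217265 F466790 (iv1 F466788) F432694 (iv4 F411448) (iv1 D199278) F172373 (iv3 F216347) F354735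
theorem F488183 : act 3 n217265 = n201231 := d20_5 F482390 F442188 (iv4 F488180) F488179 D217265 F419553 (iv1 F193464) D121342 (iv3 F382030) F482392
theorem F488184 : act 1 n190674 = n217265 := d15_0 (iv0 D217265) (iv7 F378253) (iv2 F380529)
theorem F488185 : act 2 n217168 = n217265 := d0_5 F488183 (iv2 F419555) F380363 F380362 (iv3 F487755)
theorem F488186 : act 7 n215010 = n217265 := d8_0 F488183 (iv7 F419556) D215010
theorem F488187 : act 6 n217265 = n199961 := d3_2 F487759 F488185 (iv2 F439591)
def n217266 : Q := act 1 n187076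
theorem D217266 : act 1 n187076 = n217266 := rfl
theorem F488188 : act 1 n217266 = n190674 := d15_1 D217266 F380531 (iv2 F369043)
theorem F488189 : act 7 n217266 = n217168 := d15_2 (iv0 D217265) D217266 F488185
theorem F488190 : act 4 n217266 = n193976 := d17_9 (iv1 D193976) F157470 D104014 (iv5 F368352) (iv4 F378755) (iv5 F379277) F379282 F378937 D217266
theorem F488191 : act 3 n190622 = n217266 := d20_9 F369044 D187077 (iv4 F487733) F487734 (iv1 D206154) F363404 F341011 (iv1 F340994) (iv4 F380336) (iv1 D217266)
theorem F488192 : act 2 n217266 = n215010 := d0_1 F488191 (iv3 D215010) F419562 (iv3 F419560) (iv2 F380335)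
theorem F488193 : act 6 n217266 = n190620 := d7_2 D190622 F488191 (iv3 D190620)
def n217267 : Q := act 5 n187077
theorem D217267 : act 5 n187077 = n217267 := rfl
theorem F488194 : act 3 n217267 = n211655 := d6_1 D217267 (iv5 D211655) F391345
theorem F488195 : act 7 n217267 = n192743 := d13_2 F391609 D217267 F391611
theorem F488196 : act 0 n217267 = n213758 := d18_0 F471959 F482879 F482877 F391569 (iv4 F488190) F488188 (iv4 F391616) F391620 D217267
theorem F488197 : act 6 n217267 = n192673 := d21_3 (iv5 F137236) D187077 D217267 (iv1 D192673) (iv6 D100506) (iv5 F272728) F310437 D161574 F366785 (iv1 D100558)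
theorem F488198 : act 0 n192761 = n217267 := d21_10 (iv5 D217267) (iv1 F391620) F391617 F384994 (iv1 F384644) (iv6 F384647) (iv5 D110882) D110879 F350405 D192761
def n217268 : Q := act 5 n187082
theorem D217268 : act 5 n187082 = n217268 := rfl
theorem F488199 : act 3 n217268 = n187083 := d6_1 D217268 (iv5 D187083) (iv3 F369051)
theorem F488200 : act 6 n217268 = n193706 := d12_2 D187082 D217268 (iv5 D193706) (iv6 D102248) (iv5 F137244)
theorem F488201 : act 4 n217268 = n211434 := d18_5 F477874 F368503 D193981 F391604 D217268 F480141 F480139 F480326 F480325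
theorem F488202 : act 0 n217268 = n216914 := d21_1 D217268 F486522 F379249 F368741 (iv6 D89446) F64409 (iv1 F74593) D102012 D193597 F390407
def n217269 : Q := act 1 n187083
theorem D217269 : act 1 n187083 = n217269 := rfl
theorem F488203 : act 7 n217269 = n213576 := d15_2 F477943 D217269 (iv2 F477941)
theorem F488204 : act 5 n190976 = n217269 := d21_6 (iv5 F294830) F294827 F136276 D186581 (iv1 F449581) F449587 (iv1 D217269) (iv5 D187083) (iv6 D89531) (iv1 F137058)
theorem F488205 : act 3 n217269 = n190978 := d6_1 F488204 (iv5 D190978) D190976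
def n217270 : Q := act 4 n187083
theorem D217270 : act 4 n187083 = n217270 := rfl
theorem F488206 : act 6 n217270 = n193709 := d10_2 (iv6 F369052) D217270 (iv4 D193709)
def n217271 : Q := act 7 n187083
theorem D217271 : act 7 n187083 = n217271 := rfl
theorem F488207 : act 5 n217271 = n187084 := d13_1 D217271 (iv7 D187084) D187083
theorem F488208 : act 0 n213576 = n217271 := d17_2 F361978 D213576 F488207 F369054 (iv5 F369063) F457978 F457976 (iv0 F386446) F386444
def n217272 : Q := act 2 n187085
theorem D217272 : act 2 n187085 = n217272 := rfl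
theorem F488209 : act 3 n217272 = n203017 := d0_2 D187085 D217272 (iv2 F427073) F427074 (iv2 F367342)
theorem F488210 : act 4 n217272 = n200184 := d1_2 F408969 D217272 F415450
theorem F488211 : act 6 n217272 = n203016 := d3_2 F408966 D217272 F426646
theorem F488212 : act 7 n217272 = n200183 := d4_2 F486816 D217272 (iv2 F486814)
theorem F488213 : act 1 n217272 = n191409 := d15_0 (iv0 F486817) F486816 D217272
theorem F488214 : act 1 n212493 = n217272 := d15_0 F488213 F383393 (iv2 F466070)
theorem F488215 : act 5 n194098 = n217272 := d17_7 (iv1 D147378) D147379 (iv1 F406387) F406389 F374016 F367266 D194098 F488213 F383392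
def n217273 : Q := act 5 n187085
theorem D217273 : act 5 n187085 = n217273 := rfl
theorem F488216 : act 2 n217273 = n194098 := d2_1 D217273 F488215 (iv2 D217272)
theorem F488217 : act 3 n217273 = n187086 := d6_1 D217273 (iv5 D187086) D187085
theorem F488218 : act 7 n217273 = n194097 := d13_2 F486816 D217273 F486819
theorem F488219 : act 0 n217273 = n194099 := d17_2 F372388 D217273 F392051 (iv4 F420956) (iv5 F422846) F422844 F364895 D212491 (iv4 F466061)
theorem F488220 : act 1 n217273 = n187463 := d17_6 F415425 (iv5 D200180) (iv1 F415294) F415291 F408969 D217273 (iv5 F374138) (iv0 F374139) (iv4 F233683)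
def n217274 : Q := act 1 n187086
theorem D217274 : act 1 n187086 = n217274 := rfl
theorem F488221 : act 1 n217274 = n187089 := d15_1 D217274 (iv7 F486809) F486807
theorem F488222 : act 7 n217274 = n204119 := d15_2 (iv0 F386447) D217274 F431108
theorem F488223 : act 5 n217274 = n204120 := d17_7 F366340 (iv5 F381556) (iv1 F381557) F365915 F362581 D187086 D217274 F431114 (iv4 D190138)
theorem F488224 : act 4 n217274 = n213613 := d17_9 (iv1 D213613) (iv5 F466345) (iv1 F484890) F484886 F391081 F391077 F367355 D187086 D217274
theorem F488225 : act 3 n204124 = n217274 := d20_5 F468018 F351964 (iv4 F392112) (iv3 F432607) (iv1 F431130) F488224 (iv1 D213613) F368538 F368536 (iv1 F468019)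
theorem F488226 : act 6 n217274 = n215594 := d7_2 (iv6 F431128) F488225 F480688
theorem F488227 : act 2 n215591 = n217274 := d3_3 F488226 F480687 (iv6 F480677)
def n217275 : Q := act 4 n187086
theorem D217275 : act 4 n187086 = n217275 := rfl
theorem F488228 : act 2 n217275 = n210414 := d1_1 D217275 (iv4 F486810) F486807
theorem F488229 : act 5 n217275 = n199305 := d16_1 D217275 F415575 (iv5 F478476) F478475 F378992 (iv4 D187088) D187089 (iv7 F486809) F486807
theorem F488230 : act 0 n217275 = n193555 := d17_0 (iv5 F457952) (iv1 D139372) D139373 D210541 F457976 (iv0 F386446) F386445 (iv0 F386447) D217275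
theorem F488231 : act 1 n217275 = n209789 := d18_6 (iv1 D186554) (iv4 F289483) F362117 F362581 D187086 D217275 F454956 F426859 F390264
def n217276 : Q := act 6 n187086
theorem D217276 : act 6 n187086 = n217276 := rfl
theorem F488232 : act 2 n217276 = n193970 := d3_1 D217276 (iv6 F486808) F486807
theorem F488233 : act 5 n217276 = n192197 := d12_1 D217276 (iv6 D192197) F344558 (iv6 F362580) D187086
def n217277 : Q := act 4 n187089
theorem D217277 : act 4 n187089 = n217277 := rfl
theorem F488234 : act 5 n217277 = n199286 := d9_2 D187089 D217277 F411477 F404488 (iv4 F254050) F365915 F362581 D187086 D217275 F488229 F415575 (iv5 F478476) F478475 F378992 (iv4 D187088)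
theorem F488235 : act 6 n217277 = n193548 := d10_2 F382985 D217277 (iv4 F390236)
theorem F488236 : act 7 n217277 = n210414 := d11_2 F486809 D217277 (iv4 F486810)
theorem F488237 : act 0 n217277 = n209789 := d17_0 F454957 (iv1 F457959) F487802 F487801 F486831 F431113 (iv5 F488223) F488221 D217277
theorem F488238 : act 1 n217277 = n193555 := d18_6 (iv1 F289489) (iv4 F368525) (iv1 F369059) (iv4 D187088) D187089 D217277 F390263 D193557 F390269
theorem F488239 : act 3 n217277 = n199287 := d19_3 (iv1 F367354) D187089 D217277 F411487 (iv5 D139380) F168899 F168900 (iv1 F93851) F49690 (iv4 F80486) F326090 (iv1 F92635) (iv5 F132050) F317630 (iv3 F306885) (iv1 F337186) F332502 D117806 (iv3 F367352)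
def n217278 : Q := act 5 n187090
theorem D217278 : act 5 n187090 = n217278 := rfl
theorem F488240 : act 3 n217278 = n216754 := d6_1 D217278 F485793 (iv3 F426474)
theorem F488241 : act 0 n217278 = n204128 := d17_2 F426475 D217278 (iv5 D204128) F356536 F137107 D102613 D194053 F391892 F369049
theorem F488242 : act 1 n217278 = n217262 := d17_6 (iv1 F368999) D192841 F391811 (iv5 F465946) F465945 D217278 (iv5 D217262) (iv0 D187065) (iv4 F368997)
def n217279 : Q := act 3 n187092
theorem D217279 : act 3 n187092 = n217279 := rfl
theorem F488243 : act 5 n217279 = n202910 := d6_2 F381328 D217279 F426159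
theorem F488244 : act 6 n217279 = n216704 := d7_2 F449397 D217279 (iv3 F485540)
theorem F488245 : act 7 n217279 = n202909 := d8_2 F457975 D217279 F457981
theorem F488246 : act 0 n217279 = n210757 := d19_4 F457949 F391024 F391016 D217279 F458702 (iv4 D204867) (iv3 D124552) (iv1 F297822) (iv5 D124171) (iv4 D57878) (iv3 D27626) F297763 D18584 D39169 D84769 D178084 D215876 F481889 F457948
theorem F488247 : act 0 n203089 = n217279 := d20_4 D213753 F471933 F423429 (iv3 F426920) (iv3 D217279) (iv4 F391016) (iv1 F391017) F157156 (iv3 F157154) F346064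
theorem F488248 : act 2 n212436 = n217279 := d15_3 (iv0 F488247) F426921 D212436
def n217280 : Q := act 1 n187096
theorem D217280 : act 1 n187096 = n217280 := rfl
theorem F488249 : act 1 n217280 = n191505 := d15_1 D217280 F383597 (iv2 F369069)
theorem F488250 : act 5 n217280 = n193969 := d17_7 (iv1 D103353) (iv5 D47894) (iv1 F75213) D95451 F352887 (iv5 F369071) D217280 F393105 (iv4 D194412)
theorem F488251 : act 4 n217280 = n193754 := d18_7 F484539 F475863 (iv1 D188137) D188138 F391029 F391027 D217280 F480668 (iv5 F484538)
theorem E104036 : n193969 = n193919 := ((c21_6 (iv5 D88896) F63996 (iv5 F35955) D47539 D102479 D193919 (iv5 F488250) (iv1 D217280) F369071 (iv6 D99819) (iv1 F136383))).symm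
theorem F488252 : act 0 n193919 = n102510 := (sb E104036 (iv1 D193969))
theorem F488253 : act 1 n193919 = n194412 := (sb E104036 F393105)
theorem F488254 : act 5 n193919 = n217280 := (sb E104036 (iv5 F488250))
def n217281 : Q := act 0 n187097
theorem D217281 : act 0 n187097 = n217281 := rfl
theorem F488255 : act 3 n217281 = n216976 := d20_5 F157148 (iv1 D89537) D89538 D187097 D217281 (iv4 F487801) (iv1 D217177) (iv4 D186933) F347702 D102339
theorem F488256 : act 2 n193805 = n217281 := d15_3 (iv0 D217281) (iv0 F465790) F465764
theorem F488257 : act 1 n193806 = n217281 := d15_0 (iv0 D217281) F369072 D193806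
theorem F488258 : act 7 n217281 = n193804 := d15_2 (iv0 F465765) F488257 (iv2 F465762)
def n217282 : Q := act 3 n187100
theorem D217282 : act 3 n187100 = n217282 := rfl
theorem F488259 : act 2 n217282 = n210110 := d0_1 D217282 (iv3 F480917) (iv2 F480920) (iv3 D191887) F369085
theorem F488260 : act 4 n217282 = n189667 := d5_2 F384606 D217282 (iv3 F384610) (iv4 D191863) D191862
theorem F488261 : act 5 n217282 = n192055 := d6_2 (iv5 F369084) D217282 (iv3 D192055)
theorem F488262 : act 6 n217282 = n189666 := d7_2 F369086 D217282 F377304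
theorem F488263 : act 7 n217282 = n191889 := d8_2 (iv7 F369083) D217282 (iv3 D191889)
theorem F488264 : act 0 n217282 = n210109 := d19_4 (iv1 F427853) F427855 F384606 D217282 (iv5 D210109) (iv4 F362215) D194025 (iv1 F410504) F410505 (iv4 F451024) F451023 F398721 (iv5 D106951) F78138 F37781 D30440 F48856 D64135 F320513
theorem F488265 : act 0 n191708 = n217282 := d20_4 (iv4 F136230) D186548 (iv4 F357598) (iv3 F384222) (iv3 D217282) (iv4 F384606) (iv1 F391283) F391280 F220772 F335573
def n217283 : Q := act 0 n187105
theorem D217283 : act 0 n187105 = n217283 := rfl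
theorem F488266 : act 4 n217283 = n192215 := d18_3 (iv1 F343265) D187105 D217283 F386041 (iv4 F289630) (iv0 D47499) F35394 F289717 D46690
theorem F488267 : act 2 n193248 = n217283 := d15_3 (iv0 D217283) F369105 (iv7 F389318)
theorem F488268 : act 1 n192277 = n217283 := d15_0 (iv0 D217283) (iv7 F433564) F433562
theorem F488269 : act 7 n217283 = n192214 := d15_2 (iv0 F386273) F488268 F386037
theorem F488270 : act 3 n213843 = n217283 := d20_9 (iv4 D192277) (iv1 D99971) D99972 F343270 (iv1 F239490) (iv3 F318478) (iv4 F167109) D197300 F472357 (iv1 F488268)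
theorem F488271 : act 5 n193890 = n217283 := d16_7 (iv4 D184626) (iv5 D88033) (iv4 F73698) D99867 D192216 (iv5 F469342) (iv4 F469343) F488269 F386037
def n217284 : Q := act 3 n187107
theorem D217284 : act 3 n187107 = n217284 := rfl
theorem F488272 : act 4 n217284 = n205100 := d5_2 (iv4 F377500) D217284 (iv3 D205100) (iv4 F415748) (iv3 D200265)
theorem F488273 : act 0 n217284 = n208161 := d19_4 (iv1 F352939) (iv5 F352935) (iv4 F377500) D217284 (iv5 F454170) F454169 (iv3 F443840) F443844 (iv5 D164231) (iv4 D78895) (iv3 F82483) (iv1 D52169) (iv5 D25338) (iv4 F65513) F65512 F18076 D13861 D29127 D61522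
theorem F488274 : act 0 n205100 = n209371 := d20_7 D209390 F453534 (iv4 D209368) F343227 D187107 D217284 F488272 (iv4 D209371) D209370 (iv1 F453430)
theorem F488275 : act 0 n193260 = n205100 := d20_1 (iv4 F389340) (iv4 F488272) (iv3 D217284) (iv1 F486839) F486834 (iv4 D210327) (iv1 F245977) F245975 (iv3 F389360) (iv1 D193262)
theorem F488276 : act 0 n193856 = n217284 := d20_4 D136387 F342682 D214681 F476369 (iv3 D217284) F377500 (iv1 F329297) F157064 (iv3 F157059) F328533
theorem F488277 : act 5 n217284 = n209556 := d17_1 F488276 (iv1 D209556) (iv5 D136608) (iv4 F219722) D205110 F441228 (iv5 D206537) F227047 (iv4 F441215)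
def n217285 : Q := act 5 n187107
theorem D217285 : act 5 n187107 = n217285 := rfl
theorem F488278 : act 2 n217285 = n209524 := d2_1 D217285 F454025 F390579
theorem F488279 : act 3 n217285 = n209556 := d6_1 D217285 (iv5 F488277) (iv3 D217284)
theorem F488280 : act 4 n217285 = n209480 := d9_1 D217285 F453865 F375067 (iv5 F367190) (iv4 F352931) F352832 (iv4 F377224) (iv5 F387685) F453870 (iv5 F453874) F374272 F142642 (iv4 F145481) (iv5 F352935) (iv4 F377500)
theorem F488281 : act 7 n217285 = n210526 := d13_2 F390588 D217285 F457922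
theorem F488282 : act 1 n217285 = n199792 := d17_6 (iv1 D107116) (iv5 F96053) (iv1 F352939) (iv5 F352935) (iv4 F377500) D217285 F413522 F391934 F391930
def n217286 : Q := act 4 n187126
theorem D217286 : act 4 n187126 = n217286 := rfl
theorem F488283 : act 2 n217286 = n187127 := d1_1 D217286 (iv4 D187127) (iv2 F369184)
theorem F488284 : act 7 n217286 = n192549 := d11_2 (iv7 F369186) D217286 (iv4 D192549)
theorem F488285 : act 5 n217286 = n197193 := d17_5 D47585 D102593 (iv1 F157696) D187126 D217286 (iv0 D197193) F366725 (iv0 D102597) (iv4 D47587)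
theorem F488286 : act 0 n217286 = n192953 := d17_0 (iv5 F424971) F451769 (iv5 D192178) (iv4 D99825) (iv5 D46623) (iv0 F68110) D90523 (iv0 F369187) D217286
theorem F488287 : act 0 n210340 = n217286 := d21_10 F488285 (iv1 F403479) (iv5 D194026) F362227 D210399 F458262 (iv5 F484084) F484085 F393056 (iv6 F457104)
theorem F488288 : act 6 n217286 = n202532 := d21_3 (iv5 F366725) D197193 (iv5 F488285) (iv1 D202532) (iv6 D115936) (iv5 F101831) (iv1 F224186) (iv5 D141163) (iv6 F333136) D102597
def n217287 : Q := act 6 n187126
theorem D217287 : act 6 n187126 = n217287 := rfl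
theorem F488289 : act 2 n217287 = n187128 := d3_1 D217287 (iv6 D187128) (iv2 F369184)
theorem F488290 : act 3 n217287 = n192278 := d7_1 D217287 (iv6 D192278) (iv3 F369185)
theorem F488291 : act 4 n217287 = n202532 := d10_1 D217287 (iv6 F488288) (iv4 D217286)
theorem F488292 : act 5 n217287 = n191730 := d12_1 D217287 (iv6 D191730) (iv5 D98858) (iv6 F137344) D187126
def n217288 : Q := act 0 n187127
theorem D217288 : act 0 n187127 = n217288 := rfl
theorem F488293 : act 5 n217288 = n194031 := d17_1 D217288 (iv1 F450190) F450187 (iv4 D192172) (iv5 D99822) F73645 D46850 (iv0 F137346) D187127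
theorem F488294 : act 4 n217288 = n192029 := d18_3 (iv1 F139329) D187127 D217288 (iv5 D192029) F153294 (iv0 F290205) F35573 D22881 D47582
theorem F488295 : act 3 n217288 = n210342 := d20_5 F368775 (iv1 D102245) D102247 (iv3 F369189) D217288 F457106 F455665 (iv4 F455628) (iv3 F455629) (iv1 D192883)
theorem F488296 : act 2 n192953 = n217288 := d15_3 (iv0 D217288) (iv0 F369190) (iv7 F388318)
theorem F488297 : act 1 n192549 = n217288 := d15_0 (iv0 D217288) F473492 F473486
theorem F488298 : act 7 n217288 = n210340 := d15_2 (iv0 F387036) F488297 (iv2 D210340)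
def n217289 : Q := act 5 n187127
theorem D217289 : act 5 n187127 = n217289 := rfl
theorem F488299 : act 2 n217289 = n197193 := d2_1 D217289 (iv5 F488285) F488283
theorem F488300 : act 3 n217289 = n193703 := d6_1 D217289 (iv5 D193703) (iv3 F369189)
theorem F488301 : act 7 n217289 = n197194 := d13_2 (iv7 F473492) D217289 (iv5 F473490)
theorem F488302 : act 0 n217289 = n197195 := d17_2 F369190 D217289 F403477 (iv4 F452976) (iv5 F487561) (iv0 F487562) F384677 (iv0 F385469) F385471
theorem F488303 : act 1 n217289 = n197184 := d17_6 (iv1 F153692) (iv5 F153696) (iv1 D89585) D89587 D187127 D217289 F403440 (iv0 F331223) (iv4 D102586)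
theorem F488304 : act 6 n217289 = n187863 := d21_3 F391814 F369190 D217289 (iv1 D187863) D187866 (iv5 F371718) (iv1 F365742) F411688 D208619 F450188
def n217290 : Q := act 0 n187128
theorem D217290 : act 0 n187128 = n217290 := rfl
theorem F488305 : act 3 n217290 = n209937 := d20_5 D102228 F385781 (iv4 F137347) (iv3 F369191) D217290 F455438 F354149 (iv4 F385749) F385748 (iv1 F153645)
theorem F488306 : act 5 n217290 = n217239 := d21_2 F486308 D217290 (iv6 D217239) F391855 F365286 (iv5 D143529) (iv1 F321931) D211612 F483564 F486309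
theorem F488307 : act 6 n217290 = n209936 := d21_5 (iv5 F153696) (iv1 D89585) D89587 D187128 D217290 F455433 F391768 (iv5 D194013) (iv6 D102587) (iv1 F153692)
def n217291 : Q := act 1 n187128
theorem D217291 : act 1 n187128 = n217291 := rfl
theorem F488308 : act 3 n216270 = n217291 := d20_3 (iv4 F459537) (iv1 F459542) (iv4 F483574) (iv1 D217291) F369191 F137347 (iv1 F381561) (iv4 D102223) (iv3 F365507) (iv1 F388991)
def n217292 : Q := act 7 n187128
theorem D217292 : act 7 n187128 = n217292 := rfl
theorem F488309 : act 3 n217292 = n187131 := d8_1 D217292 (iv7 D187131) (iv3 F369191)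
theorem F488310 : act 4 n217292 = n202531 := d11_1 D217292 (iv7 F473528) F473526
theorem F488311 : act 6 n217292 = n210327 := d14_1 D217292 (iv7 F473475) F473479 F367368 D187128
def n217293 : Q := act 3 n187130
theorem D217293 : act 3 n187130 = n217293 := rfl
theorem F488312 : act 0 n217293 = n193854 := d20_4 (iv4 F157082) (iv1 F385763) F385936 D217293 (iv3 F428077) F428078 (iv1 F306077) (iv4 F385501) (iv3 F385503) (iv1 F153644)
def n217294 : Q := act 6 n187130
theorem D217294 : act 6 n187130 = n217294 := rfl
theorem F488313 : act 4 n217294 = n211741 := d10_1 D217294 (iv6 F462910) F385936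
theorem F488314 : act 0 n217294 = n189140 := d21_4 (iv5 D217084) D217082 F487316 D217294 F408226 F408219 (iv1 F380375) F380372 D192195 (iv1 F487332)
theorem F488315 : act 0 n189154 = n217294 := d21_4 (iv5 D191948) F338814 (iv5 F338818) (iv6 F375870) (iv6 D217294) (iv5 F487316) (iv1 F487318) (iv5 F480698) (iv6 D215596) (iv1 F384955)
def n217295 : Q := act 6 n187136
theorem D217295 : act 6 n187136 = n217295 := rfl
theorem F488316 : act 2 n217295 = n204030 := d3_1 D217295 (iv6 F449437) F430788
theorem F488317 : act 3 n217295 = n217253 := d7_1 D217295 F488127 F478887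
theorem F488318 : act 4 n217295 = n187137 := d10_1 D217295 (iv6 D187137) D187136
theorem F488319 : act 0 n204032 = n217295 := d21_4 F431170 (iv1 F386351) (iv5 F478619) (iv6 F478622) (iv6 D217295) F431177 (iv1 D204140) D204142 F431179 (iv1 F431172)
theorem F488320 : act 0 n217295 = n203722 := d20_7 (iv4 D213338) (iv1 D153545) D153546 (iv3 F463704) (iv1 D187144) (iv3 F369214) (iv4 F488318) (iv4 F488138) F488141 (iv1 F469994)
theorem F488321 : act 7 n204031 = n217295 := d8_0 F488317 F488128 F483364
def n217296 : Q := act 0 n187137
theorem D217296 : act 0 n187137 = n217296 := rfl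
theorem F488322 : act 5 n217296 = n204793 := d19_1 D217296 (iv4 F455181) F455180 F245596 (iv5 F359537) F287430 (iv3 D102667) (iv1 F74876) (iv5 D22928) (iv4 D10825) D10824 F66796 D20750 (iv4 F65273) (iv3 F139096) D187597 F370961 F369232 (iv3 F369214)
theorem F488323 : act 3 n217296 = n216253 := d20_5 (iv4 F368820) (iv1 F369235) F369232 (iv3 F369214) D217296 F483500 (iv1 D209416) (iv4 D136445) (iv3 F329600) (iv1 F368818)
theorem F488324 : act 6 n217296 = n215160 := d21_5 (iv5 D46029) (iv1 F335671) D89597 D187137 D217296 (iv5 F481605) (iv1 D215794) (iv5 F383542) (iv6 D191480) (iv1 D98394)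
def n217297 : Q := act 1 n187137
theorem D217297 : act 1 n187137 = n217297 := rfl
theorem F488325 : act 3 n211657 = n217297 := d20_3 F458786 (iv1 F384302) D211657 (iv1 D217297) F369214 (iv4 F369232) (iv1 F369234) (iv4 F368816) (iv3 F478211) F478214
theorem F488326 : act 5 n204792 = n217297 := d21_0 (iv1 D217297) (iv5 F433569) (iv6 D204783) (iv1 D124356) F91734 (iv5 D27663) D27661 D57978 D124367 D204792
theorem F488327 : act 6 n208436 = n217297 := d21_3 F329110 D134323 D208436 (iv1 D217297) (iv6 D187137) (iv5 D89597) F335670 (iv5 F195856) (iv6 F429541) (iv1 F429542)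
def n217298 : Q := act 7 n187137
theorem D217298 : act 7 n187137 = n217298 := rfl
theorem F488328 : act 3 n217298 = n187145 := d8_1 D217298 (iv7 D187145) (iv3 F369214)
theorem F488329 : act 4 n217298 = n204031 := d11_1 D217298 F488321 F488318
theorem F488330 : act 6 n217298 = n204647 := d14_1 D217298 F433118 (iv6 D204004) F335609 D187137
def n217299 : Q := act 6 n187138
theorem D217299 : act 6 n187138 = n217299 := rfl
theorem F488331 : act 3 n217299 = n187140 := d7_1 D217299 (iv6 D187140) D187138
theorem F488332 : act 5 n217299 = n188086 := d12_1 D217299 (iv6 D188086) (iv5 D90792) D90793 (iv5 F369215)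
def n217300 : Q := act 3 n187139
theorem D217300 : act 3 n187139 = n217300 := rfl
theorem F488333 : act 5 n217300 = n187767 := d6_2 (iv5 F369218) D217300 (iv3 D187767)
theorem F488334 : act 6 n217300 = n192303 := d7_2 F483789 D217300 (iv3 F483787)
theorem F488335 : act 7 n217300 = n217213 := d8_2 (iv7 F369217) D217300 (iv3 D217213)
def n217301 : Q := act 0 n187140
theorem D217301 : act 0 n187140 = n217301 := rfl
theorem F488336 : act 5 n217301 = n199343 := d17_3 (iv1 D188090) (iv5 F369224) D217301 F411786 (iv5 F431962) (iv0 D204303) F384876 (iv0 F434768) F434767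
theorem F488337 : act 4 n217301 = n193454 := d18_1 D217301 F389892 (iv4 F386948) F386949 (iv4 F386932) (iv0 F478185) F478181 (iv0 D188089) (iv5 F369224)
theorem F488338 : act 2 n192441 = n217301 := d15_3 (iv0 D217301) (iv0 F458196) F458194
theorem F488339 : act 3 n217301 = n213769 := d0_2 F386730 F488338 (iv2 F472017) F246016 (iv2 F172476)
theorem F488340 : act 7 n217301 = n192442 := d4_2 F458194 F488338 (iv2 F458192)
theorem F488341 : act 1 n192443 = n217301 := d15_1 (iv0 F458197) F488340 (iv2 F458192)
def n217302 : Q := act 7 n187140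
theorem D217302 : act 7 n187140 = n217302 := rfl
theorem F488342 : act 2 n217302 = n192443 := d4_1 D217302 (iv7 D192443) (iv2 F369223)
theorem F488343 : act 4 n217302 = n191381 := d11_1 D217302 (iv7 F483790) F483788
theorem F488344 : act 5 n217302 = n188091 := d13_1 D217302 (iv7 D188091) (iv5 F369224)
theorem F488345 : act 6 n217302 = n191654 := d14_1 D217302 (iv7 D191654) (iv6 F291066) (iv7 F291435) D187140
theorem F488346 : act 1 n192442 = n217302 := d15_1 D192442 (iv7 D217302) F369223
theorem F488347 : act 1 n217302 = n192441 := d15_1 F488346 (iv7 F458194) F458192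
def n217303 : Q := act 3 n187141
theorem D217303 : act 3 n187141 = n217303 := rfl
theorem F488348 : act 4 n217303 = n202571 := d5_2 D187141 D217303 (iv3 F486008) (iv4 D216809) F287796
theorem F488349 : act 5 n217303 = n187768 := d6_2 (iv5 F369226) D217303 (iv3 D187768)
theorem F488350 : act 7 n217303 = n192444 := d8_2 (iv7 F369227) D217303 (iv3 D192444)
theorem F488351 : act 2 n217303 = n210864 := d15_3 F459056 F456754 (iv7 F488350)
def n217304 : Q := act 3 n187143
theorem D217304 : act 3 n187143 = n217304 := rfl
def n217305 : Q := act 6 n187143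
theorem D217305 : act 6 n187143 = n217305 := rfl
theorem F488352 : act 2 n217305 = n194106 := d3_1 D217305 (iv6 F483803) F483798
theorem F488353 : act 4 n217305 = n215617 := d10_1 D217305 F480778 F384269
theorem F488354 : act 5 n217305 = n191310 := d21_6 (iv5 D21991) (iv1 F63557) D41846 D89601 D187143 D217305 (iv1 D191310) (iv5 F151794) (iv6 D98370) (iv1 D46021)
theorem F488355 : act 0 n191446 = n217305 := d21_4 (iv5 D46018) D46016 D98356 D191446 (iv6 D217305) (iv5 F391543) (iv1 F480701) F480698 (iv6 D191450) (iv1 D98364)
theorem F488356 : act 7 n194103 = n217305 := d13_0 F488354 (iv7 F390234) D194103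
def n217306 : Q := act 6 n187144
theorem D217306 : act 6 n187144 = n217306 := rfl
theorem F488357 : act 3 n217306 = n212642 := d7_1 D217306 (iv6 F466850) (iv3 F463704)
theorem F488358 : act 5 n217306 = n212641 := d12_1 D217306 F466843 F380372 D192195 F385952
theorem F488359 : act 7 n217278 = n217306 := d13_0 F488358 F466844 D217278
def n217307 : Q := act 3 n187146
theorem D217307 : act 3 n187146 = n217307 := rfl
theorem F488360 : act 2 n217307 = n206126 := d0_1 D217307 F439360 F204776 (iv3 F371087) F371086
theorem F488361 : act 4 n217307 = n206126 := d5_2 F369981 D217307 F439360 (iv4 F369716) (iv3 F369980)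
theorem F488362 : act 5 n217307 = n206124 := d6_2 (iv5 F369983) D217307 F439353
theorem F488363 : act 6 n217307 = n189743 := d7_2 (iv6 F369984) D217307 (iv3 D189743)
theorem F488364 : act 0 n189227 = n217307 := d20_4 (iv4 F471884) F483267 F483265 (iv3 F376154) (iv3 D217307) (iv4 F369981) (iv1 F369982) (iv4 F377343) (iv3 F483626) (iv1 F483632)
def n217308 : Q := act 4 n187148
theorem D217308 : act 4 n187148 = n217308 := rfl
theorem F488365 : act 2 n217308 = n205646 := d1_1 D217308 F437333 (iv2 F369242)
theorem F488366 : act 3 n217308 = n206986 := d5_1 D217308 F442857 (iv3 D194783) (iv4 F290705) (iv3 F369243)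
theorem F488367 : act 6 n217308 = n212256 := d10_2 (iv6 F397673) D217308 F464994
theorem F488368 : act 7 n217308 = n205678 := d11_2 F374646 D217308 F437436
theorem F488369 : act 0 n217308 = n187777 := d18_2 (iv1 F369244) D217308 (iv4 D187777) (iv5 D90557) (iv4 F135565) (iv0 D48016) F36276 D42279 D90420
theorem F488370 : act 1 n217308 = n187778 := d18_6 D189673 F377336 (iv1 D187281) F350464 D187148 D217308 (iv4 D187778) F288364 F288358
def n217309 : Q := act 1 n187149
theorem D217309 : act 1 n187149 = n217309 := rfl
theorem F488371 : act 1 n217309 = n199781 := d15_1 D217309 F413477 F374652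
theorem F488372 : act 7 n217309 = n187655 := d15_2 (iv0 F374629) D217309 (iv2 F374627)
theorem F488373 : act 5 n217309 = n189021 := d17_7 D199441 F412221 (iv1 F410280) F354409 (iv4 F374505) F374506 D217309 F419833 (iv4 D199443)
theorem F488374 : act 3 n200906 = n217309 := d20_3 (iv4 F446627) (iv1 F452435) F452054 (iv1 D217309) (iv3 F397674) (iv4 F464994) (iv1 D212256) F229454 (iv3 F183414) D202894
theorem F488375 : act 6 n208516 = n217309 := d21_3 (iv5 F419533) (iv1 F419538) (iv5 F449690) (iv1 D217309) (iv6 D187149) (iv5 D89607) F290985 F68177 D92749 D188758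
theorem F488376 : act 2 n217309 = n215595 := d3_1 F488375 (iv6 D215595) F449693
def n217310 : Q := act 7 n187149
theorem D217310 : act 7 n187149 = n217310 := rfl
theorem F488377 : act 2 n217310 = n199781 := d4_1 D217310 F413477 F374652
theorem F488378 : act 3 n217310 = n201004 := d8_1 D217310 (iv7 F418690) F397674
theorem F488379 : act 4 n217310 = n209237 := d11_1 D217310 F452832 F394465
theorem F488380 : act 5 n217310 = n199777 := d13_1 D217310 F413447 F374506
theorem F488381 : act 6 n217310 = n208018 := d14_1 D217310 F447464 (iv6 D188738) F290983 D187149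
theorem F488382 : act 1 n215595 = n217310 := d15_1 (iv0 F480696) (iv7 D217310) (iv2 F374652)
theorem F488383 : act 1 n217310 = n187655 := d15_1 F488382 (iv7 F488372) F488376
def n217311 : Q := act 0 n187151
theorem D217311 : act 0 n187151 = n217311 := rfl
theorem F488384 : act 4 n217311 = n216182 := d18_3 F287690 D187151 D217311 F483302 (iv4 F372621) (iv0 D188187) F140087 (iv0 F290948) D185428
theorem F488385 : act 1 n191729 = n217311 := d15_0 (iv0 D217311) (iv7 F486304) F486303
def n217312 : Q := act 1 n187151
theorem D217312 : act 1 n187151 = n217312 := rfl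
theorem F488386 : act 1 n217312 = n191729 := d15_1 D217312 (iv7 F487046) F487044
theorem F488387 : act 3 n191464 = n217312 := d19_19 (iv1 D217312) (iv5 F454283) F454219 (iv3 F363123) F428980 (iv5 D203581) F188637 (iv3 F131172) (iv1 F106158) F87860 F54517 (iv3 F101050) (iv1 F222358) F313498 (iv4 F261541) F391565 (iv1 D193974) F157447 (iv4 F383520)
theorem F488388 : act 6 n217312 = n191463 := d7_2 D191464 F488387 F383518
def n217313 : Q := act 6 n187151
theorem D217313 : act 6 n187151 = n217313 := rfl
theorem F488389 : act 4 n217313 = n187152 := d10_1 D217313 (iv6 D187152) D187151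
def n217314 : Q := act 0 n187152
theorem D217314 : act 0 n187152 = n217314 := rfl
def n217315 : Q := act 1 n187152
theorem D217315 : act 1 n187152 = n217315 := rfl
theorem F488390 : act 3 n204408 = n217315 := d19_19 (iv1 D217315) (iv5 F458442) (iv4 F458438) (iv3 D209464) (iv1 D136499) (iv5 D64165) F48629 (iv3 F48620) D64149 D136456 D209424 F453632 F474248 F474245 (iv4 F389104) F389103 F308443 D123757 D204408
theorem F488391 : act 6 n204952 = n217315 := d21_3 F195865 (iv1 F366943) D204952 (iv1 D217315) (iv6 D187152) (iv5 D89611) F136449 D46265 (iv6 F152412) (iv1 F363134)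
theorem F488392 : act 5 n204951 = n217315 := d21_6 (iv5 D100397) (iv1 D46856) D46857 (iv6 F154417) (iv1 F364538) D204951 (iv1 D217315) (iv5 F458442) (iv6 F458439) F369254
theorem F488393 : act 4 n217315 = n216424 := d16_2 (iv4 F434317) F488392 (iv5 D216424) (iv4 F484311) F484312 F458215 (iv5 F427122) (iv7 F482516) F482512
theorem F488394 : act 7 n217315 = n216278 := d8_2 (iv7 F432426) F488390 (iv3 D216278)
theorem F488395 : act 2 n216278 = n217314 := d15_3 (iv0 D217314) D217315 F488394
def n217316 : Q := act 7 n187152
theorem D217316 : act 7 n187152 = n217316 := rfl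
theorem F488396 : act 3 n217316 = n187159 := d8_1 D217316 (iv7 D187159) (iv3 F369250)
theorem F488397 : act 5 n217316 = n211191 := d13_1 D217316 F460549 F458442
theorem F488398 : act 0 n216278 = n217316 := d19_0 F488397 F460547 F452699 F219615 F219614 F99881 (iv3 F99861) (iv1 F165263) (iv5 F173466) (iv4 F409466) (iv3 F433255) F433259 F383313 F351630 F156099 (iv1 F156465) (iv5 F308283) F381167 D216278
def n217317 : Q := act 4 n187153
theorem D217317 : act 4 n187153 = n217317 := rfl
theorem F488399 : act 2 n217317 = n192598 := d1_1 D217317 (iv4 D192598) (iv2 F369251)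
theorem F488400 : act 3 n217317 = n209466 := d5_1 D217317 F453798 (iv3 D194684) F159467 (iv3 F369252)
theorem F488401 : act 6 n217317 = n209464 := d10_2 (iv6 F458439) D217317 F458438
theorem F488402 : act 7 n217317 = n188124 := d11_2 (iv7 F369253) D217317 (iv4 D188124)
theorem F488403 : act 0 n217317 = n216562 := d18_2 F369255 D217317 (iv4 D216562) (iv5 D184504) (iv4 F143347) (iv0 D92948) F68347 (iv0 F66350) D90618
theorem F488404 : act 1 n217317 = n193000 := d18_6 (iv1 D217119) F374098 (iv1 D188587) F142407 D187153 D217317 (iv4 D193000) D192999 F487522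
def n217318 : Q := act 0 n187154
theorem D217318 : act 0 n187154 = n217318 := rfl
theorem F488405 : act 1 n208381 = n217318 := d15_0 (iv0 D217318) (iv7 F486312) F486310
def n217319 : Q := act 1 n187154
theorem D217319 : act 1 n187154 = n217319 := rfl
theorem F488406 : act 1 n217319 = n208381 := d15_1 D217319 (iv7 F478879) F478876
theorem F488407 : act 6 n204083 = n217319 := d21_9 (iv5 F394462) (iv1 F441978) (iv5 F488075) F488080 (iv1 D204426) F198261 (iv5 D122622) D122620 D204083 (iv1 D217319)
def n217320 : Q := act 6 n187154
theorem D217320 : act 6 n187154 = n217320 := rfl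
theorem F488408 : act 2 n217320 = n211251 := d3_1 D217320 (iv6 F478878) F478876
theorem F488409 : act 3 n217320 = n187155 := d7_1 D217320 (iv6 D187155) D187154
theorem F488410 : act 5 n217320 = n211249 := d12_1 D217320 (iv6 D211249) (iv5 F456657) (iv6 F456660) F394462
theorem F488411 : act 0 n217320 = n210587 := d21_10 (iv5 D210587) (iv1 D139417) D139418 F453609 (iv1 D209416) (iv6 F453597) F453598 (iv1 F449148) F394462 D217320
theorem F488412 : act 0 n210585 = n217320 := d21_4 (iv5 D123780) D123778 (iv5 F368869) (iv6 F458135) (iv6 D217320) (iv5 F394462) (iv1 F441978) (iv5 F488075) F488080 (iv1 D204426)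
def n217321 : Q := act 4 n187156
theorem D217321 : act 4 n187156 = n217321 := rfl
theorem F488413 : act 7 n217321 = n217221 := d11_2 (iv7 F387447) D217321 F488000
theorem F488414 : act 5 n217321 = n193704 := d18_4 (iv1 F488017) F369256 D187156 D217321 F390724 D193705 (iv4 F473590) F473593 F488015
theorem F488415 : act 0 n216862 = n217321 := d20_10 (iv4 D217321) (iv1 F486326) (iv4 F487927) F487926 F473706 (iv3 F471077) (iv4 D213566) D213564 (iv4 F483519) (iv3 F486277)
theorem F488416 : act 1 n217222 = n217321 := d15_0 (iv0 F488415) F486280 (iv2 F488001)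
theorem F488417 : act 2 n217321 = n217220 := d15_3 (iv0 D217220) D217221 (iv7 F488413)
theorem F488418 : act 4 n217220 = n216871 := d1_2 D217321 F488417 (iv2 F486318)
def n217322 : Q := act 3 n187157
theorem D217322 : act 3 n187157 = n217322 := rfl
theorem F488419 : act 5 n217322 = n212024 := d6_2 F384958 D217322 (iv3 F463999)
theorem F488420 : act 6 n217322 = n215354 := d7_2 F384536 D217322 F479526
theorem F488421 : act 4 n197496 = n217322 := d16_2 (iv4 F167385) D197496 F488419 (iv4 D212024) (iv5 D144978) F104081 (iv5 F86008) (iv7 F315138) F167376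
def n217323 : Q := act 4 n187157
theorem D217323 : act 4 n187157 = n217323 := rfl
theorem F488422 : act 2 n217323 = n217221 := d1_1 D217323 F488000 F387442
theorem F488423 : act 6 n217323 = n217145 := d10_2 F384536 D217323 F487653
theorem F488424 : act 7 n217323 = n217220 := d11_2 F486319 D217323 F488418
theorem F488425 : act 5 n217323 = n210680 := d18_4 F488007 F487927 (iv1 F486325) D217323 F473595 (iv0 D144151) (iv4 F180502) D202517 F488009
theorem F488426 : act 0 n217222 = n217323 := d21_7 (iv5 D201289) F251382 F352978 (iv6 F388050) F388052 D212916 (iv5 F488004) F488425 F473596 F443513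
theorem F488427 : act 0 n217323 = n216862 := d21_1 (iv5 F488425) F486279 F484897 (iv1 F460620) F456742 (iv5 F458221) (iv1 F458224) (iv5 D139498) D139499 D210680
def n217324 : Q := act 7 n187158
theorem D217324 : act 7 n187158 = n217324 := rfl
theorem F488428 : act 2 n217324 = n188080 := d4_1 D217324 (iv7 D188080) (iv2 F369257)
theorem F488429 : act 3 n217324 = n211191 := d8_1 D217324 F460549 F458441
theorem F488430 : act 5 n217324 = n187159 := d13_1 D217324 (iv7 D187159) D187158
theorem F488431 : act 6 n217324 = n188128 := d14_1 D217324 (iv7 D188128) (iv6 D90830) F292301 (iv6 F369258)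
theorem F488432 : act 1 n188079 = n217324 := d15_1 D188079 (iv7 D217324) F369257
theorem F488433 : act 1 n217324 = n188078 := d15_1 F488432 (iv7 F469042) F469040
def n217325 : Q := act 6 n187168
theorem D217325 : act 6 n187168 = n217325 := rfl
theorem F488434 : act 2 n217325 = n189662 := d3_1 D217325 (iv6 D189662) (iv2 F369314)
theorem F488435 : act 3 n217325 = n212242 := d7_1 D217325 F464930 F464053
theorem F488436 : act 5 n217325 = n187743 := d12_1 D217325 (iv6 D187743) (iv5 D90531) (iv6 F292541) D187168
theorem F488437 : act 7 n217325 = n212241 := d14_2 (iv7 F369315) D217325 (iv6 D212241) F229194 (iv6 F339782)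
theorem F488438 : act 0 n217325 = n187185 := d21_10 (iv5 F451956) (iv1 F451958) F444620 (iv6 F471991) F471993 (iv6 D194181) (iv5 D102901) (iv1 F137481) D187168 D217325
theorem F488439 : act 0 n197055 = n217325 := d21_4 F420252 (iv1 D114941) (iv5 F165961) D197055 (iv6 D217325) (iv5 D187168) (iv1 D89659) (iv5 F292544) D94337 D189688
def n217326 : Q := act 5 n187169
theorem D217326 : act 5 n187169 = n217326 := rfl
theorem F488440 : act 2 n217326 = n216933 := d2_1 D217326 F486595 F374156
theorem F488441 : act 3 n217326 = n187170 := d6_1 D217326 (iv5 D187170) D187169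
theorem F488442 : act 6 n217326 = n201072 := d12_2 (iv6 F369318) D217326 (iv5 D201072) F327977 (iv5 F339548)
theorem F488443 : act 7 n217326 = n189675 := d13_2 (iv7 F369319) D217326 F377349
theorem F488444 : act 0 n217326 = n189608 := d17_2 F370483 D217326 (iv5 D189608) F145092 D186821 F372946 (iv5 D188281) F292616 (iv4 F286441)
theorem F488445 : act 1 n217326 = n217122 := d17_6 (iv1 F293936) D186287 (iv1 F367068) (iv5 F367070) (iv4 F369321) D217326 (iv5 D217122) (iv0 F368122) F144664
theorem F488446 : act 4 n217326 = n189764 := d18_5 (iv1 F135820) (iv4 F142560) (iv1 F142564) (iv4 F369321) D217326 F377668 (iv4 D186384) (iv0 F291646) F293472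
def n217327 : Q := act 3 n187176
theorem D217327 : act 3 n187176 = n217327 := rfl
theorem F488447 : act 4 n217327 = n191718 := d5_2 F369376 D217327 F384251 (iv4 F482232) F482231
theorem F488448 : act 5 n217327 = n208140 := d6_2 (iv5 F369362) D217327 F448060
theorem F488449 : act 6 n217327 = n190440 := d7_2 (iv6 F369361) D217327 (iv3 F379772)
theorem F488450 : act 7 n217327 = n189682 := d8_2 F369363 D217327 (iv3 D189682)
theorem F488451 : act 0 n217327 = n209108 := d20_4 F137449 D186321 F369376 D217327 F452291 D209109 F452297 F379728 (iv3 F369276) (iv1 D187163)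
theorem F488452 : act 0 n189613 = n217327 := d20_4 (iv4 D190958) (iv1 F157798) D190407 (iv3 F379693) (iv3 D217327) (iv4 F369376) (iv1 F289101) (iv4 F291656) (iv3 F377675) (iv1 F381707)
def n217328 : Q := act 1 n187181
theorem D217328 : act 1 n187181 = n217328 := rfl
theorem F488453 : act 1 n217328 = n197058 := d15_1 D217328 F402853 (iv2 F369395)
theorem F488454 : act 7 n217328 = n195969 := d15_2 (iv0 F399555) D217328 (iv2 F399551)
theorem F488455 : act 5 n217328 = n195982 := d18_9 (iv1 F398962) (iv4 F467913) (iv1 F467916) F450959 (iv5 F399820) (iv4 F400072) F445382 F445377 D217328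
theorem F488456 : act 6 n197052 = n217328 := d21_3 (iv5 F398820) F447982 F447981 (iv1 D217328) (iv6 D187181) F137621 D92328 (iv5 F293779) F293780 (iv1 F398817)
theorem F488457 : act 2 n217328 = n212879 := d3_1 F488456 F467922 (iv2 F410117)
def n217329 : Q := act 2 n187185
theorem D217329 : act 2 n187185 = n217329 := rfl
theorem F488458 : act 3 n217329 = n197056 := d0_2 D187185 D217329 (iv2 F410125) F410126 (iv2 F364457)
theorem F488459 : act 5 n217329 = n201664 := d2_2 F451956 D217329 F451957
theorem F488460 : act 7 n217329 = n197055 := d4_2 (iv7 F475535) D217329 (iv2 F475530)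
theorem F488461 : act 1 n217329 = n189662 := d15_0 (iv0 F475533) (iv7 F475535) D217329
theorem F488462 : act 1 n212241 = n217329 := d15_0 F488461 (iv7 F420307) (iv2 F464923)
theorem F488463 : act 6 n217329 = n208191 := d21_5 (iv5 D47724) D47721 (iv5 F293769) D189662 (iv1 F488461) (iv5 D208191) F376740 (iv5 F392285) (iv6 D194182) (iv1 D102904)
def n217330 : Q := act 6 n187185
theorem D217330 : act 6 n187185 = n217330 := rfl
theorem F488464 : act 2 n217330 = n208191 := d3_1 D217330 (iv6 F488463) (iv2 D217329)
theorem F488465 : act 3 n217330 = n187187 := d7_1 D217330 (iv6 D187187) D187185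
theorem F488466 : act 4 n217330 = n212972 := d10_1 D217330 (iv6 F468392) F452006
theorem F488467 : act 5 n217330 = n189519 := d12_1 D217330 (iv6 F465133) (iv5 D212283) F451960 F451956
theorem F488468 : act 7 n217330 = n212953 := d14_2 (iv7 F475535) D217330 (iv6 D212953) F259153 D214509
theorem F488469 : act 0 n217330 = n212974 := d21_4 (iv5 F444726) D209037 F451956 D217330 (iv6 D212974) F421767 (iv1 F421768) F402797 (iv6 F349261) (iv1 F444723)
theorem F488470 : act 1 n217330 = n194184 := d15_1 (iv0 F488469) F392297 (iv2 F468401)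
def n217331 : Q := act 0 n187186
theorem D217331 : act 0 n187186 = n217331 := rfl
theorem F488471 : act 5 n217331 = n189644 := d17_1 D217331 F377244 (iv5 F367916) (iv4 F419123) F419124 F375674 D216356 F483985 F372734
theorem F488472 : act 4 n217331 = n190541 := d18_1 D217331 F380035 (iv4 F217932) F367060 (iv4 F364461) F270260 (iv4 F276292) F276296 D187186
theorem F488473 : act 3 n217331 = n208986 := d20_5 (iv4 F179235) D201843 (iv4 F451955) (iv3 F451961) D217331 F451708 F463892 F463889 (iv3 D208974) (iv1 D135517)
theorem F488474 : act 1 n187188 = n217331 := d15_0 (iv0 D217331) (iv7 F481213) F481210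
theorem F488475 : act 7 n217331 = n209129 := d15_2 (iv0 F451361) F488474 F452389
theorem F488476 : act 6 n188905 = n217331 := d21_3 (iv5 D92901) D92899 D188905 (iv1 F488474) F369414 (iv5 D105453) D105449 (iv5 F334806) F375180 (iv1 D188911)
def n217332 : Q := act 1 n187187
theorem D217332 : act 1 n187187 = n217332 := rfl
theorem F488477 : act 1 n217332 = n197051 := d15_1 D217332 F402830 (iv2 F376667)
theorem F488478 : act 7 n217332 = n189671 := d15_2 (iv0 F379889) D217332 (iv2 F379884)
theorem F488479 : act 6 n189638 = n217332 := d21_3 (iv5 F142642) D188637 (iv5 F377227) (iv1 D217332) (iv6 D187187) D187186 D217331 F488471 F377243 (iv1 D94355)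
theorem F488480 : act 2 n217332 = n190415 := d3_1 F488479 F379720 F377228
theorem F488481 : act 5 n217332 = n189384 := d12_1 F488479 (iv6 D189384) D189383 F376489 (iv5 F377227)
def n217333 : Q := act 4 n187188
theorem D217333 : act 4 n187188 = n217333 := rfl
theorem F488482 : act 3 n217333 = n189897 := d5_1 D217333 (iv4 F441404) F441402 F347540 (iv3 F369413)
theorem F488483 : act 6 n217333 = n195236 := d10_2 (iv6 F369414) D217333 (iv4 D195236)
theorem F488484 : act 7 n217333 = n189894 := d11_2 F463908 D217333 (iv4 F463906)
theorem F488485 : act 0 n217333 = n217109 := d17_0 (iv5 D217109) (iv1 D186781) D186782 (iv4 F367979) F177212 D189645 (iv5 F451359) (iv0 F451361) D217333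
theorem F488486 : act 1 n217333 = n216356 := d18_6 F365434 (iv4 F372714) (iv1 D188217) (iv4 F343052) D187188 D217333 F483984 (iv0 F443276) (iv5 F367058)
def n217334 : Q := act 5 n187202
theorem D217334 : act 5 n187202 = n217334 := rfl
theorem F488487 : act 2 n217334 = n192423 := d2_1 D217334 (iv5 F465492) F465489
theorem F488488 : act 3 n217334 = n187204 := d6_1 D217334 (iv5 D187204) (iv3 F369469)
theorem F488489 : act 4 n217334 = n197313 := d9_1 D217334 F403931 (iv4 D179222) (iv5 F350975) F360155 (iv5 F432061) (iv4 F432058) (iv5 F426924) F410251 (iv5 F403940) (iv4 D179227) (iv5 F330654) F225421 (iv5 F432052) F432053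
theorem F488490 : act 6 n217334 = n187203 := d12_2 D187202 D217334 (iv5 D187203) (iv6 D89724) D89723
theorem F488491 : act 7 n217334 = n199333 := d13_2 F369470 D217334 (iv5 F411751)
theorem F488492 : act 0 n217334 = n212367 := d17_2 F465854 D217334 (iv5 D212367) (iv4 D146835) (iv5 F321864) F320306 (iv5 F320309) (iv0 F239156) D212453
theorem F488493 : act 1 n217334 = n199347 := d17_6 (iv1 F331623) F423665 F423663 (iv5 F432052) F432053 D217334 F411797 F243397 F233610
def n217335 : Q := act 4 n187203
theorem D217335 : act 4 n187203 = n217335 := rfl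
theorem F488494 : act 2 n217335 = n192422 := d1_1 D217335 (iv4 D192422) (iv2 F369472)
theorem F488495 : act 3 n217335 = n203651 := d5_1 D217335 (iv4 D203651) F338747 F144135 (iv3 F369473)
theorem F488496 : act 6 n217335 = n197313 := d10_2 F488490 D217335 (iv4 F488489)
theorem F488497 : act 7 n217335 = n192420 := d11_2 (iv7 F369474) D217335 (iv4 D192420)
theorem F488498 : act 0 n217335 = n192863 := d17_0 (iv5 F467597) F484820 (iv5 D216528) (iv4 D184236) (iv5 D87877) F73868 D100167 (iv0 F369476) D217335
theorem F488499 : act 1 n217335 = n197358 := d18_6 (iv1 F465063) F383077 (iv1 D190178) F147375 D187203 D217335 F404038 (iv0 F365253) D212269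
def n217336 : Q := act 1 n187207
theorem D217336 : act 1 n187207 = n217336 := rfl
theorem F488500 : act 1 n217336 = n189423 := d15_1 D217336 (iv7 D189423) (iv2 F369503)
theorem F488501 : act 7 n217336 = n188805 := d15_2 (iv0 F369507) D217336 F374958
theorem F488502 : act 4 n217336 = n210390 := d18_7 F385123 (iv4 F246812) F246814 (iv4 F357670) D199299 (iv4 F411552) D217336 (iv0 F457357) F352978
theorem F488503 : act 5 n217336 = n208133 := d18_9 (iv1 D208133) D208134 F448030 (iv4 D201193) (iv5 D114100) (iv4 F177696) (iv0 F411550) (iv4 F411552) D217336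
theorem F488504 : act 3 n201890 = n217336 := d20_3 (iv4 F253034) (iv1 F313171) (iv4 F422243) (iv1 D217336) F369504 F259095 (iv1 D164452) F120153 F105273 D147299
theorem F488505 : act 6 n201889 = n217336 := d21_3 (iv5 F452149) F452151 (iv5 F422237) (iv1 D217336) (iv6 D187207) F137752 (iv1 F290722) (iv5 F291047) D94244 D189628
theorem F488506 : act 2 n217336 = n189422 := d3_1 F488505 (iv6 F376576) (iv2 F422236)
def n217337 : Q := act 1 n187209
theorem D217337 : act 1 n187209 = n217337 := rfl
theorem F488507 : act 1 n217337 = n212784 := d15_1 D217337 F467492 F370408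
theorem F488508 : act 7 n217337 = n192321 := d15_2 F383509 D217337 F386418
theorem F488509 : act 5 n217337 = n192322 := d17_7 (iv1 F155050) (iv5 D89337) (iv1 F74281) D100905 D192893 F388124 D217337 F386424 F383502
theorem F488510 : act 4 n217337 = n188579 := d17_9 (iv1 D188579) (iv5 F142936) F357306 (iv5 D106356) D106355 D195849 F398450 F388124 D217337
theorem F488511 : act 3 n203959 = n217337 := d19_19 (iv1 D217337) (iv5 F388124) (iv4 D192893) (iv3 F383229) F383231 (iv5 D123974) (iv4 F198388) F198387 F300598 (iv5 F329120) (iv4 F248749) (iv3 F474262) (iv1 F478254) (iv5 D215083) (iv4 D166172) D166171 F363261 F406403 (iv4 F430590)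
def n217338 : Q := act 7 n187215
theorem D217338 : act 7 n187215 = n217338 := rfl
theorem F488512 : act 2 n217338 = n187321 := d4_1 D217338 F369835 (iv2 F369540)
theorem F488513 : act 3 n217338 = n187220 := d8_1 D217338 (iv7 D187220) (iv3 F369541)
theorem F488514 : act 4 n217338 = n187318 := d11_1 D217338 F369824 (iv4 F369542)
theorem F488515 : act 6 n217338 = n190038 := d14_1 D217338 (iv7 D190038) F147240 (iv7 F137857) D187215
theorem F488516 : act 1 n191041 = n217338 := d15_1 D191041 (iv7 D217338) F369540
theorem F488517 : act 1 n217338 = n191040 := d15_1 F488516 (iv7 F381953) (iv2 F381957)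
def n217339 : Q := act 0 n187216
theorem D217339 : act 0 n187216 = n217339 := rfl
theorem F488518 : act 5 n217339 = n194485 := d17_3 F365880 (iv5 F369543) D217339 (iv4 F433251) F436426 (iv0 F436427) (iv5 F406082) (iv0 F406083) F277633
theorem F488519 : act 4 n217339 = n198724 := d18_3 F436738 F379104 D217339 F408995 (iv4 F408983) F408986 D205435 (iv0 F436409) D205503
theorem F488520 : act 3 n217339 = n190281 := d20_5 F147462 (iv1 F71550) D89820 D187216 D217339 F415583 F415581 F361798 (iv3 D95778) D95776
theorem F488521 : act 6 n217339 = n187234 := d21_5 F379036 (iv1 F425791) F425796 F379113 D217339 F369589 F161633 (iv5 F369638) (iv6 F369642) (iv1 F379037)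
theorem F488522 : act 2 n190110 = n217339 := d15_3 (iv0 D217339) (iv0 F476958) F476955
theorem F488523 : act 1 n190111 = n217339 := d15_0 (iv0 D217339) F369544 D190111
theorem F488524 : act 7 n217339 = n190109 := d15_2 F476957 F488523 (iv2 F476953)
def n217340 : Q := act 5 n187217
theorem D217340 : act 5 n187217 = n217340 := rfl
theorem F488525 : act 2 n217340 = n202808 := d2_1 D217340 (iv5 F425676) F369749
theorem F488526 : act 3 n217340 = n202837 := d6_1 D217340 F425796 F379112
theorem F488527 : act 6 n217340 = n189937 := d12_2 D187217 D217340 (iv5 D189937) F147113 (iv5 F137858)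
theorem F488528 : act 4 n217340 = n196961 := d16_2 (iv4 F369545) D217340 F402455 (iv4 F440371) (iv5 F477548) (iv4 F477550) F379011 (iv7 D187301) F137990
theorem F488529 : act 0 n206313 = n217340 := d21_1 (iv5 F440192) (iv5 D217340) (iv6 D187217) F137860 (iv6 F340373) (iv5 F71658) (iv1 F62975) (iv5 F64851) D89912 D187342
theorem F488530 : act 1 n196942 = n217340 := d15_0 (iv0 F488529) F440190 (iv2 F402390)
theorem F488531 : act 7 n217340 = n211708 := d15_2 (iv0 F402397) F488530 (iv2 F462788)
def n217341 : Q := act 7 n187217
theorem D217341 : act 7 n187217 = n217341 := rfl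
theorem F488532 : act 2 n217341 = n211754 := d4_1 D217341 F462965 F369749
theorem F488533 : act 3 n217341 = n211853 := d8_1 D217341 F463276 F379112
theorem F488534 : act 4 n217341 = n187220 := d11_1 D217341 (iv7 D187220) (iv4 F369545)
theorem F488535 : act 5 n217341 = n211708 := d13_1 D217341 (iv7 F488531) (iv5 D217340)
theorem F488536 : act 6 n217341 = n190081 := d14_1 D217341 (iv7 D190081) F147278 (iv7 F137859) D187217
theorem F488537 : act 1 n190247 = n217341 := d15_1 (iv0 F379182) (iv7 D217341) (iv2 F369749)
theorem F488538 : act 1 n217341 = n194581 := d15_1 F488537 F393748 F381968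
def n217342 : Q := act 3 n187218
theorem D217342 : act 3 n187218 = n217342 := rfl
def n217343 : Q := act 5 n187218
theorem D217343 : act 5 n187218 = n217343 := rfl
theorem F488539 : act 0 n217343 = n214814 := d17_2 D187218 D217343 F476976 (iv4 F369896) F369897 F393321 F476703 (iv0 F476702) F369545
def n217344 : Q := act 5 n187221
theorem D217344 : act 5 n187221 = n217344 := rfl
theorem F488540 : act 3 n217344 = n190863 := d6_1 D217344 (iv5 D190863) (iv3 F369547)
theorem F488541 : act 7 n217344 = n189941 := d13_2 (iv7 F369548) D217344 (iv5 D189941)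
theorem F488542 : act 1 n217344 = n214552 := d17_6 F343082 (iv5 F147459) F369553 (iv5 D187222) D187221 D217344 F475752 (iv0 F394923) F393234
theorem F488543 : act 0 n217344 = n190833 := d21_1 D217344 (iv5 F482760) (iv6 D216068) (iv1 F348573) F289687 D194817 F394579 (iv5 F475745) (iv6 D214550) F369550
def n217345 : Q := act 4 n187222
theorem D217345 : act 4 n187222 = n217345 := rfl
theorem F488544 : act 7 n217345 = n189944 := d11_2 (iv7 F369551) D217345 (iv4 D189944)
def n217346 : Q := act 6 n187222
theorem D217346 : act 6 n187222 = n217346 := rfl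
def n217347 : Q := act 3 n187223
theorem D217347 : act 3 n187223 = n217347 := rfl
theorem F488545 : act 2 n217347 = n193591 := d0_1 D217347 F390745 F390742 F388068 (iv2 F369778)
theorem F488546 : act 5 n217347 = n191995 := d6_2 (iv5 F369554) D217347 F385142
theorem F488547 : act 7 n217347 = n193592 := d8_2 (iv7 F369775) D217347 F390385
theorem F488548 : act 0 n190274 = n217347 := d17_2 F335747 D190274 F488546 F385143 F362403 F289510 (iv5 D89361) F335723 (iv4 F270403)
theorem F488549 : act 1 n190231 = n217347 := d17_6 (iv1 D190702) (iv5 F369426) F475467 F475465 (iv4 F367604) D190231 F488546 (iv0 F385145) F380674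
def n217348 : Q := act 4 n187223
theorem D217348 : act 4 n187223 = n217348 := rfl
def n217349 : Q := act 6 n187223
theorem D217349 : act 6 n187223 = n217349 := rfl
theorem F488550 : act 5 n217349 = n194235 := d12_1 D217349 (iv6 D194235) (iv5 D103026) D103027 (iv5 F369554)
def n217350 : Q := act 4 n187224
theorem D217350 : act 4 n187224 = n217350 := rfl
def n217351 : Q := act 6 n187224
theorem D217351 : act 6 n187224 = n217351 := rfl
theorem F488551 : act 5 n217351 = n189967 := d12_1 D217351 (iv6 D189967) F343042 (iv6 F343048) F369557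
theorem F488552 : act 0 n215689 = n217351 := d21_1 D215689 F488551 (iv6 D189967) (iv1 F293079) D188446 (iv5 F378389) (iv1 F414791) F416144 F481131 (iv1 D215688)
def n217352 : Q := act 0 n187225
theorem D217352 : act 0 n187225 = n217352 := rfl
theorem F488553 : act 1 n190201 = n217352 := d15_0 (iv0 D217352) (iv7 F369780) (iv2 F379064)
def n217353 : Q := act 1 n187225
theorem D217353 : act 1 n187225 = n217353 := rfl
theorem F488554 : act 1 n217353 = n190201 := d15_1 D217353 (iv7 F381501) F381500
def n217354 : Q := act 3 n187225
theorem D217354 : act 3 n187225 = n217354 := rfl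
theorem F488555 : act 4 n217354 = n187227 := d5_2 D187225 D217354 (iv3 D187227) (iv4 D89826) (iv3 F137864)
theorem F488556 : act 0 n217354 = n205804 := d19_4 (iv1 F289565) D89824 D187225 D217354 (iv5 D205804) F203666 (iv3 F208654) (iv1 F344111) F363408 (iv4 F396166) F396165 F356473 (iv5 F426203) F426202 (iv3 F387893) F387897 (iv5 D172215) (iv4 F148681) F148680
theorem F488557 : act 3 n212090 = n217353 := d20_3 F464385 (iv1 F402259) (iv4 F464289) (iv1 D217353) D217354 F488555 F369560 (iv4 F335982) (iv3 F335983) D212120
theorem F488558 : act 7 n217353 = n212088 := d8_2 D212090 F488557 (iv3 D212088)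
theorem F488559 : act 2 n212088 = n217352 := d15_3 (iv0 D217352) D217353 F488558
def n217355 : Q := act 5 n187225
theorem D217355 : act 5 n187225 = n217355 := rfl
def n217356 : Q := act 2 n187227
theorem D217356 : act 2 n187227 = n217356 := rfl
theorem F488560 : act 3 n217356 = n187271 := d0_2 D187227 D217356 (iv2 D187271) (iv3 D89851) (iv2 F137867)
theorem F488561 : act 5 n217356 = n188476 := d2_2 (iv5 F369559) D217356 F373613
theorem F488562 : act 7 n217356 = n215094 := d4_2 F369789 D217356 F478310
theorem F488563 : act 1 n217356 = n194974 := d15_0 (iv0 F395260) F369789 D217356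
theorem F488564 : act 1 n194976 = n217356 := d15_0 F488563 F395259 (iv2 F395267)
theorem F488565 : act 6 n217356 = n215689 := d21_5 (iv5 D214760) (iv1 F366247) D210292 F456885 (iv1 F488563) (iv5 D215689) D215687 (iv5 F481129) (iv6 D215065) (iv1 F476692)
def n217357 : Q := act 6 n187227
theorem D217357 : act 6 n187227 = n217357 := rfl
theorem F488566 : act 2 n217357 = n215689 := d3_1 D217357 (iv6 F488565) (iv2 D217356)
theorem F488567 : act 3 n217357 = n187228 := d7_1 D217357 (iv6 D187228) D187227
theorem F488568 : act 5 n217357 = n214362 := d12_1 D217357 (iv6 D214362) (iv5 F254079) D164093 (iv5 F369559)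
def n217358 : Q := act 6 n187230
theorem D217358 : act 6 n187230 = n217358 := rfl
theorem F488569 : act 2 n217358 = n190234 := d3_1 D217358 (iv6 D190234) (iv2 F369570)
theorem F488570 : act 3 n217358 = n190278 := d7_1 D217358 (iv6 D190278) (iv3 F369571)
theorem F488571 : act 5 n217358 = n194323 := d12_1 D217358 (iv6 D194323) F349217 F349226 D187230
theorem F488572 : act 7 n217358 = n209302 := d14_2 (iv7 F369572) D217358 F453112 F414025 (iv6 D190230)
def n217359 : Q := act 6 n187231
theorem D217359 : act 6 n187231 = n217359 := rfl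
theorem F488573 : act 2 n217359 = n190230 := d3_1 D217359 (iv6 D190230) (iv2 F369574)
theorem F488574 : act 3 n217359 = n215481 := d7_1 D217359 (iv6 F487342) F487341
theorem F488575 : act 5 n217359 = n194269 := d12_1 D217359 (iv6 D194269) (iv5 F369579) (iv6 D187232) D187231
theorem F488576 : act 7 n217359 = n195331 := d14_2 (iv7 F369575) D217359 (iv6 F453191) (iv7 F453200) (iv6 D190234)
theorem F488577 : act 0 n217359 = n187276 := d21_4 (iv5 D95739) F137893 D187231 D217359 (iv6 F369903) F369902 F393405 (iv5 F488518) F488521 (iv1 F369590)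
theorem F488578 : act 1 n217359 = n198701 := d15_1 (iv0 F488577) F408933 F369685
def n217360 : Q := act 6 n187233
theorem D217360 : act 6 n187233 = n217360 := rfl
theorem F488579 : act 2 n217360 = n187237 := d3_1 D217360 (iv6 D187237) (iv2 F369582)
theorem F488580 : act 3 n217360 = n190839 := d7_1 D217360 F381285 F369823
theorem F488581 : act 5 n217360 = n190838 := d12_1 D217360 F381773 F381769 F149819 D187233
def n217361 : Q := act 6 n187236
theorem D217361 : act 6 n187236 = n217361 := rfl
theorem F488582 : act 4 n217361 = n187237 := d10_1 D217361 (iv6 D187237) D187236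
theorem F488583 : act 5 n217361 = n209315 := d12_1 D217361 (iv6 F461801) (iv5 F461799) (iv6 F408447) F408449
theorem F488584 : act 0 n214206 = n217361 := d21_1 D214206 F488583 (iv6 F461801) (iv1 D211491) F355194 (iv5 F178457) (iv1 F178461) (iv5 F361834) D207151 F443535
def n217362 : Q := act 0 n187237
theorem D217362 : act 0 n187237 = n217362 := rfl
theorem F488585 : act 3 n217362 = n190836 := d20_5 (iv4 F381606) F381607 F369601 (iv3 F369598) D217362 F381281 (iv1 F369826) (iv4 F488514) F488513 (iv1 F369751)
def n217363 : Q := act 1 n187237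
theorem D217363 : act 1 n187237 = n217363 := rfl
def n217364 : Q := act 7 n187237
theorem D217364 : act 7 n187237 = n217364 := rfl
theorem F488586 : act 3 n217364 = n187242 := d8_1 D217364 (iv7 D187242) (iv3 F369598)
theorem F488587 : act 6 n217364 = n190228 := d14_1 D217364 (iv7 D190228) F147443 (iv7 F137899) D187237
def n217365 : Q := act 1 n187238
theorem D217365 : act 1 n187238 = n217365 := rfl
theorem F488588 : act 1 n217365 = n190260 := d15_1 D217365 (iv7 F462970) F462968
theorem F488589 : act 7 n217365 = n190046 := d15_2 F475760 D217365 (iv2 F475754)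
theorem F488590 : act 5 n217365 = n194868 := d17_7 D198900 (iv5 F416237) F416238 (iv5 F392631) F392630 (iv5 F369599) D217365 F395254 F395251
theorem F488591 : act 4 n217365 = n197486 := d17_9 (iv1 F425661) (iv5 D202805) (iv1 F182878) (iv5 F226775) (iv4 F435776) (iv5 D205286) (iv0 F369671) (iv5 F369599) D217365
theorem F488592 : act 3 n215903 = n217365 := d19_19 (iv1 D217365) F369599 (iv4 F392630) (iv3 D194279) D194277 F392617 (iv4 F418764) F418763 F418490 F418488 (iv4 F211442) (iv3 D131968) (iv1 F164228) (iv5 F399293) F399292 F218507 D135849 D209136 (iv4 F482006)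
theorem F488593 : act 6 n208084 = n217365 := d21_3 F443917 (iv1 F214428) D208084 (iv1 D217365) (iv6 F462883) (iv5 D211729) (iv1 D144052) D144053 F447823 (iv1 F447827)
theorem F488594 : act 2 n217365 = n190258 := d3_1 F488593 (iv6 F443908) (iv2 F447814)
def n217366 : Q := act 7 n187239
theorem D217366 : act 7 n187239 = n217366 := rfl
theorem F488595 : act 4 n217366 = n187242 := d11_1 D217366 (iv7 D187242) (iv4 F369601)
theorem F488596 : act 6 n217366 = n190252 := d14_1 D217366 (iv7 D190252) F147457 (iv7 F137901) D187239
theorem F488597 : act 1 n190074 = n217366 := d15_1 (iv0 F378777) (iv7 D217366) (iv2 F369839)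
theorem F488598 : act 1 n217366 = n194646 := d15_1 F488597 F393932 F381605
def n217367 : Q := act 3 n187240
theorem D217367 : act 3 n187240 = n217367 := rfl
def n217368 : Q := act 5 n187240
theorem D217368 : act 5 n187240 = n217368 := rfl
theorem F488599 : act 6 n217368 = n216824 := d12_2 (iv6 F476697) D217368 F486072 F476741 (iv5 F476694)
def n217369 : Q := act 5 n187241
theorem D217369 : act 5 n187241 = n217369 := rfl
theorem F488600 : act 6 n217369 = n194363 := d12_2 F369792 D217369 F392949 F206345 D128261
def n217370 : Q := act 6 n187243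
theorem D217370 : act 6 n187243 = n217370 := rfl
theorem F488601 : act 2 n217370 = n211813 := d3_1 D217370 (iv6 F463173) (iv2 F381805)
theorem F488602 : act 3 n217370 = n187245 := d7_1 D217370 (iv6 D187245) D187243
theorem F488603 : act 5 n217370 = n192419 := d12_1 D217370 (iv6 D192419) (iv5 D100170) D100171 (iv5 F369603)
theorem F488604 : act 0 n217370 = n211816 := d21_10 F463180 (iv1 F397195) D198422 F407977 (iv1 F408860) (iv6 D191000) D190999 F381836 (iv5 F369603) D217370
theorem F488605 : act 4 n214653 = n217370 := d20_0 F488604 (iv4 F479501) F479499 (iv1 F273404) (iv3 F479974) F479978 F406277 F196335 (iv3 F253464) D214653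
theorem F488606 : act 3 n215520 = n214653 := d20_5 F273403 (iv1 D83476) D83477 D174709 D215520 F488605 F488604 (iv4 F479501) F479499 (iv1 F273404)
theorem F488607 : act 7 n217370 = n211814 := d15_2 F463181 (iv0 F488604) F463176
theorem F488608 : act 6 n214653 = n215464 := d7_2 F480310 F488606 (iv3 F480112)
theorem F488609 : act 0 n211801 = n217370 := d21_1 D211801 F488603 (iv6 D192419) F360496 (iv6 D125663) (iv5 D58842) F45237 D50439 D109301 F397194
def n217371 : Q := act 6 n187244
theorem D217371 : act 6 n187244 = n217371 := rfl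
theorem F488610 : act 2 n217371 = n193269 := d3_1 D217371 (iv6 D193269) (iv2 F369605)
theorem F488611 : act 4 n217371 = n187245 := d10_1 D217371 (iv6 D187245) D187244
theorem F488612 : act 5 n217371 = n204391 := d12_1 D217371 (iv6 F432360) F407609 (iv6 D193153) (iv5 F369607)
def n217372 : Q := act 0 n187245
theorem D217372 : act 0 n187245 = n217372 := rfl
theorem F488613 : act 5 n217372 = n204385 := d21_2 (iv5 F369611) D217372 F432336 (iv1 F369954) (iv6 F378405) (iv5 F378429) (iv1 F378431) F366334 F392490 (iv1 D194249)
theorem F488614 : act 2 n194363 = n217372 := d2_3 F488613 F432335 (iv5 F392949)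
theorem F488615 : act 7 n194364 = n217372 := d13_0 F488613 (iv7 F454460) F454461
theorem F488616 : act 0 n217372 = n194365 := d21_7 D194336 F392867 F379520 F369944 (iv1 F369946) (iv6 F432336) (iv5 F488613) F392950 (iv6 F372125) (iv1 F372126)
def n217373 : Q := act 1 n187245
theorem D217373 : act 1 n187245 = n217373 := rfl
theorem F488617 : act 1 n217373 = n194365 := d15_1 D217373 (iv7 D194365) (iv2 F369610)
theorem F488618 : act 7 n217373 = n194363 := d15_2 (iv0 D217372) D217373 F488614
theorem F488619 : act 5 n194385 = n217373 := d21_6 (iv5 D87937) F292239 F64858 D47853 D103269 D194385 (iv1 D217373) F369611 (iv6 D103045) (iv1 F291899)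
theorem F488620 : act 2 n217373 = n194364 := d2_1 F488619 (iv5 F454461) F454458
theorem F488621 : act 3 n217373 = n187260 := d6_1 F488619 (iv5 F369650) (iv3 F393011)
theorem F488622 : act 4 n217373 = n204399 := d16_2 (iv4 F393012) F488619 (iv5 D204399) (iv4 D123727) (iv5 D57674) (iv4 F90861) D123713 F347137 (iv2 F347136)
def n217374 : Q := act 7 n187245
theorem D217374 : act 7 n187245 = n217374 := rfl
theorem F488623 : act 2 n217374 = n194365 := d4_1 D217374 (iv7 D194365) (iv2 F369610)
theorem F488624 : act 3 n217374 = n211814 := d8_1 D217374 (iv7 F488607) F488602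
theorem F488625 : act 5 n217374 = n194250 := d13_1 D217374 (iv7 D194250) (iv5 F369611)
theorem F488626 : act 6 n217374 = n190433 := d14_1 D217374 (iv7 D190433) F290799 (iv7 F290773) D187245
theorem F488627 : act 1 n194364 = n217374 := d15_1 D194364 (iv7 D217374) F369610
theorem F488628 : act 1 n217374 = n194363 := d15_1 F488627 (iv7 F488618) F488620
def n217375 : Q := act 6 n187247
theorem D217375 : act 6 n187247 = n217375 := rfl
theorem F488629 : act 2 n217375 = n190432 := d3_1 D217375 F379754 (iv2 F369616)
theorem F488630 : act 4 n217375 = n187248 := d10_1 D217375 (iv6 D187248) D187247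
theorem F488631 : act 0 n217375 = n199750 := d21_4 F367196 F159823 (iv5 F369617) D217375 F413356 F378978 (iv1 F381882) (iv5 D191015) F149864 (iv1 F147376)
theorem F488632 : act 0 n199748 = n217375 := d21_4 F224957 (iv1 F224924) D211358 F461266 (iv6 D217375) F369617 (iv1 F159601) (iv5 F367197) D190195 F379059
def n217376 : Q := act 1 n187248
theorem D217376 : act 1 n187248 = n217376 := rfl
theorem F488633 : act 1 n217376 = n190433 := d15_1 D217376 (iv7 D190433) (iv2 F369621)
theorem F488634 : act 7 n217376 = n190292 := d15_2 (iv0 F381867) D217376 (iv2 F381864)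
theorem F488635 : act 6 n187271 = n217376 := d21_3 F381907 D198577 F408370 (iv1 D217376) (iv6 D187248) F290599 F74928 (iv5 F290647) D97143 D191023
theorem F488636 : act 5 n215685 = n217376 := d21_6 F33527 (iv1 F33461) D44623 D95534 F363510 D215685 (iv1 D217376) F369622 (iv6 D95537) (iv1 F70160)
theorem F488637 : act 2 n217376 = n187273 := d2_1 F488636 (iv5 F379686) (iv2 F481118)
theorem F488638 : act 3 n217376 = n215689 := d6_1 F488636 (iv5 D215689) (iv3 F481119)
theorem F488639 : act 4 n204723 = n217376 := d1_0 F488637 (iv4 F461629) F461627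
def n217377 : Q := act 7 n187248
theorem D217377 : act 7 n187248 = n217377 := rfl
theorem F488640 : act 2 n217377 = n190433 := d4_1 D217377 (iv7 D190433) (iv2 F369621)
theorem F488641 : act 5 n217377 = n190001 := d13_1 D217377 (iv7 D190001) (iv5 F369622)
theorem F488642 : act 6 n217377 = n194365 := d14_1 D217377 (iv7 D194365) F158494 (iv7 F137906) D187248
theorem F488643 : act 1 n187273 = n217377 := d15_1 (iv0 F379329) (iv7 D217377) F369621
theorem F488644 : act 1 n217377 = n190292 := d15_1 F488643 (iv7 F488634) F488637
def n217378 : Q := act 3 n187249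
theorem D217378 : act 3 n187249 = n217378 := rfl
theorem F488645 : act 2 n217378 = n204751 := d0_1 D217378 (iv3 F433468) F225019 F359656 F369626
theorem F488646 : act 5 n217378 = n193162 := d6_2 (iv5 F369623) D217378 (iv3 D193162)
theorem F488647 : act 7 n217378 = n193301 := d8_2 F369627 D217378 F389420
theorem F488648 : act 0 n217378 = n204752 := d20_4 (iv4 D95676) D95674 (iv4 F369624) D217378 F433469 (iv4 F433512) (iv1 F433514) (iv4 F461429) F389404 F360814
theorem F488649 : act 6 n198575 = n217378 := d14_5 F488647 (iv6 F476255) F476256 F480270 F480266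
theorem F488650 : act 0 n204742 = n217378 := d21_7 F389661 (iv1 D193386) F343123 D108456 D197563 F433459 F433457 F488646 (iv6 F388994) (iv1 F403605)
def n217379 : Q := act 6 n187249
theorem D217379 : act 6 n187249 = n217379 := rfl
theorem F488651 : act 2 n217379 = n193296 := d3_1 D217379 (iv6 D193296) F369626
theorem F488652 : act 3 n217379 = n198575 := d7_1 D217379 F488649 (iv3 D217378)
theorem F488653 : act 4 n217379 = n190164 := d10_1 D217379 (iv6 D190164) (iv4 F369624)
theorem F488654 : act 0 n204399 = n217379 := d20_7 (iv4 F435776) F435779 (iv4 D200224) (iv3 F369895) (iv1 F369900) (iv3 F488621) F488622 F488653 (iv3 F415969) (iv1 F415972)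
def n217380 : Q := act 7 n187251
theorem D217380 : act 7 n187251 = n217380 := rfl
theorem F488655 : act 2 n217380 = n197924 := d4_1 D217380 F406206 F381507
theorem F488656 : act 3 n217380 = n204721 := d8_1 D217380 (iv7 F461630) F461628
theorem F488657 : act 4 n217380 = n187254 := d11_1 D217380 (iv7 D187254) (iv4 F369635)
theorem F488658 : act 5 n217380 = n198115 := d13_1 D217380 F412081 F412068
theorem F488659 : act 1 n197909 = n217380 := d15_1 (iv0 F429961) (iv7 D217380) (iv2 F381507)
theorem F488660 : act 1 n217380 = n197925 := d15_1 F488659 (iv7 D197925) (iv2 F406175)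
def n217381 : Q := act 3 n187253
theorem D217381 : act 3 n187253 = n217381 := rfl
theorem F488661 : act 4 n217381 = n208190 := d5_2 F476109 D217381 F448292 F433369 (iv3 F476108)
theorem F488662 : act 5 n217381 = n194878 := d6_2 F369636 D217381 F394843
theorem F488663 : act 7 n217381 = n208189 := d8_2 (iv7 F381512) D217381 F448289
theorem F488664 : act 0 n217381 = n190277 := d19_4 (iv1 F253363) D214627 F476109 D217381 (iv5 F395116) F395115 (iv3 F435535) (iv1 F435537) F358326 F358276 (iv3 F358275) F376517 (iv5 F379263) (iv4 F477971) F477970 F476577 (iv5 D214720) (iv4 F433289) (iv3 D204699)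
theorem F488665 : act 1 n217381 = n214210 := d15_1 (iv0 F488664) (iv7 F475729) F475726
def n217382 : Q := act 6 n187253
theorem D217382 : act 6 n187253 = n217382 := rfl
theorem F488666 : act 5 n217382 = n187347 := d12_1 D217382 (iv6 D187347) F138075 D104666 F369636
def n217383 : Q := act 6 n187257
theorem D217383 : act 6 n187257 = n217383 := rfl
theorem F488667 : act 2 n217383 = n187340 := d3_1 D217383 F462960 (iv2 F462958)
theorem F488668 : act 3 n217383 = n187258 := d7_1 D217383 (iv6 D187258) D187257
theorem F488669 : act 4 n217383 = n187339 := d10_1 D217383 F404504 F404500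
def n217384 : Q := act 5 n187258
theorem D217384 : act 5 n187258 = n217384 := rfl
theorem F488670 : act 6 n217384 = n190871 := d12_2 D187258 D217384 F381404 (iv6 D104823) (iv5 F137910)
theorem F488671 : act 0 n217384 = n217343 := d17_2 (iv1 F478548) D217384 (iv5 D217343) (iv4 F393933) (iv5 D194646) (iv0 D103911) D103913 D194651 (iv4 F478549)
theorem F488672 : act 1 n217384 = n215146 := d17_6 F462966 F393315 (iv1 D194464) F158977 (iv4 F369649) D217384 F478564 F369755 F462967
def n217385 : Q := act 3 n187259
theorem D217385 : act 3 n187259 = n217385 := rfl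
def n217386 : Q := act 4 n187259
theorem D217386 : act 4 n187259 = n217386 := rfl
def n217387 : Q := act 5 n187259
theorem D217387 : act 5 n187259 = n217387 := rfl
theorem F488673 : act 2 n217387 = n206313 := d2_1 D217387 F440192 (iv2 F402396)
theorem F488674 : act 7 n217387 = n196942 := d13_2 (iv7 F402394) D217387 F402392
theorem F488675 : act 0 n217387 = n202808 := d17_2 D187259 D217387 (iv5 F425676) F369750 (iv5 F147384) D190200 F478552 F478550 F369649
theorem F488676 : act 4 n217387 = n212204 := d19_2 D187259 D217387 F464734 (iv1 F415065) F415067 (iv4 F384912) F475564 F475567 F251638 F114560 F55275 (iv1 F55135) D76316 F158481 (iv3 F159062) F161633 (iv5 F369638) (iv4 F369645) F369644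
theorem F488677 : act 6 n217387 = n206324 := d21_3 F158977 D187259 D217387 (iv1 F440250) (iv6 F361618) (iv5 F334492) (iv1 F334496) (iv5 F334498) F393314 (iv1 D194464)
theorem F488678 : act 5 n213708 = n194580 := d17_3 F471730 (iv5 D213709) D213708 (iv4 D194580) D194581 (iv0 F393749) F425676 (iv0 F488675) F488676
theorem F488679 : act 0 n211708 = n217387 := d20_7 (iv4 F424773) (iv1 D202139) (iv4 F402273) F402272 D196916 F410814 (iv4 F462790) F488676 F464734 (iv1 F415065)
theorem F488680 : act 5 n217386 = n190314 := d17_5 (iv1 F488538) F488535 F488679 (iv5 D217387) D217386 F381892 F381890 F369844 F393751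
theorem F488681 : act 0 n187267 = n217386 := d21_10 F488680 (iv1 D190314) F147515 (iv6 D89902) F64837 (iv6 F76071) (iv5 D48404) D48402 (iv5 F340364) D187267
theorem F488682 : act 6 n187259 = n217386 := d21_5 (iv5 D23536) D23534 (iv5 F64760) D89845 D187259 F488680 (iv1 D190314) F147515 (iv6 D89902) F64837
theorem F488683 : act 0 n217386 = n187279 := d21_4 F488535 F488679 (iv5 D217387) F488682 (iv6 D187279) (iv5 F358136) F333996 D166719 (iv6 F393750) (iv1 F488538)
def n217388 : Q := act 4 n187260
theorem D217388 : act 4 n187260 = n217388 := rfl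
theorem F488684 : act 5 n217388 = n190313 := d17_5 F379182 F425676 F425675 F369650 D217388 (iv0 D190313) F147515 D187326 (iv4 F379181)
theorem F488685 : act 0 n217388 = n187267 := d20_1 D217388 F369661 (iv3 F394964) (iv1 F462896) F462893 (iv4 F435776) F435779 (iv4 D200224) (iv3 F369895) (iv1 F369900)
theorem F488686 : act 1 n217388 = n187279 := d15_1 (iv0 F488685) (iv7 F369910) F369908
def n217389 : Q := act 6 n187260
theorem D217389 : act 6 n187260 = n217389 := rfl
theorem F488687 : act 5 n217389 = n211707 := d12_1 D217389 (iv6 D211707) (iv5 D144004) D144005 F369650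
theorem F488688 : act 0 n217389 = n212551 := d21_4 F425676 F425675 F369650 D217389 (iv6 D212551) (iv5 D147800) F105519 (iv5 F317111) D190247 F379182
theorem F488689 : act 0 n216823 = n217389 := d21_4 (iv5 F392775) (iv1 F392778) (iv5 F369790) (iv6 F486070) (iv6 D217389) (iv5 F369650) D211708 (iv5 F488535) F488536 (iv1 F378803)
def n217390 : Q := act 4 n187262
theorem D217390 : act 4 n187262 = n217390 := rfl
theorem F488690 : act 2 n217390 = n187263 := d1_1 D217390 (iv4 D187263) D187262
theorem F488691 : act 3 n217390 = n215137 := d5_1 D217390 F478545 (iv3 F457552) F457553 F369862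
theorem F488692 : act 7 n217390 = n217383 := d11_2 F369885 D217390 F488669
theorem F488693 : act 0 n217390 = n190825 := d18_2 F369812 D217390 (iv4 D190825) (iv5 D96971) (iv4 F142162) (iv0 D92427) (iv4 F71646) F138025 D187315
theorem F488694 : act 1 n217390 = n190829 := d18_6 F371802 F367170 (iv1 F288169) F288133 (iv5 F369651) D217390 (iv4 D190829) F381256 F381254
theorem F488695 : act 6 n214746 = n217390 := d21_3 (iv5 D214706) (iv1 F262305) (iv5 F476636) F488693 F462832 (iv5 F462865) (iv1 F462867) (iv5 F477190) (iv6 D214864) F476464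
def n217391 : Q := act 6 n187262
theorem D217391 : act 6 n187262 = n217391 := rfl
theorem F488696 : act 2 n217391 = n187264 := d3_1 D217391 (iv6 D187264) D187262
theorem F488697 : act 4 n217391 = n214746 := d10_1 D217391 F488695 (iv4 D217390)
theorem F488698 : act 5 n217391 = n197472 := d12_1 D217391 F404479 (iv5 D185656) (iv6 F293471) (iv5 F369651)
theorem F488699 : act 7 n217391 = n197471 := d14_2 F369885 D217391 F404475 D197479 (iv6 F404504)
theorem F488700 : act 0 n217391 = n215026 := d21_4 F251681 (iv1 F160380) (iv5 F369651) D217391 (iv6 D215026) (iv5 D164447) (iv1 D78977) D78978 F120149 D97165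
def n217392 : Q := act 0 n187263
theorem D217392 : act 0 n187263 = n217392 := rfl
theorem F488701 : act 4 n217392 = n188536 := d18_3 (iv1 F367229) D187263 D217392 (iv5 D188536) (iv4 D92431) (iv0 D43231) (iv4 F34119) D45410 D97163
theorem F488702 : act 1 n217383 = n217392 := d15_0 (iv0 D217392) (iv7 F369888) (iv2 F488667)
theorem F488703 : act 2 n190825 = n217392 := d1_3 F488701 F373854 D190825
theorem F488704 : act 7 n190829 = n217392 := d11_0 F488701 F373855 D190829
theorem F488705 : act 6 n217392 = n208087 := d3_2 (iv6 F462832) F488703 F462829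
def n217393 : Q := act 1 n187263
theorem D217393 : act 1 n187263 = n217393 := rfl
theorem F488706 : act 1 n217393 = n217383 := d15_1 D217393 (iv7 F488692) F488690
theorem F488707 : act 7 n217393 = n190825 := d15_2 (iv0 D217392) D217393 F488703
theorem F488708 : act 4 n217393 = n188542 := d18_7 F370168 F370165 (iv1 F288037) F135487 (iv5 F137911) D187263 D217393 F373883 (iv5 D187910)
theorem F488709 : act 3 n211753 = n217393 := d19_19 (iv1 D217393) (iv5 F480289) F480288 F463093 (iv1 D190287) (iv5 D95810) (iv4 F322039) (iv3 F104670) (iv1 F306062) (iv5 D105946) F77286 F37305 D28609 (iv5 F312034) F58272 (iv3 F70191) D95570 D190030 (iv4 F462961)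
theorem F488710 : act 6 n217393 = n211732 := d7_2 D211753 F488709 F462893
theorem F488711 : act 2 n190829 = n217393 := d1_3 F488708 F373880 D190829
def n217394 : Q := act 0 n187264
theorem D217394 : act 0 n187264 = n217394 := rfl
theorem F488712 : act 4 n217394 = n214546 := d18_1 D217394 F475730 (iv4 D208189) (iv5 D133655) F97862 D62735 D133662 F376681 (iv5 F369656)
theorem F488713 : act 6 n217394 = n201239 := d21_5 F369833 (iv1 D104697) (iv5 F137911) D187264 D217394 (iv5 D201239) (iv1 D114176) D114177 F177924 (iv1 F369831)
theorem F488714 : act 1 n197471 = n217394 := d15_0 (iv0 D217394) (iv7 F402357) (iv2 F404474)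
theorem F488715 : act 2 n215026 = n217394 := d3_3 F488713 F419593 D215026
def n217395 : Q := act 1 n187264
theorem D217395 : act 1 n187264 = n217395 := rfl
theorem F488716 : act 1 n217395 = n197471 := d15_1 D217395 (iv7 F488699) F488696
theorem F488717 : act 7 n217395 = n215026 := d15_2 (iv0 D217394) D217395 F488715
theorem F488718 : act 5 n217395 = n216923 := d17_7 D190010 (iv5 F395350) (iv1 F395351) F376733 F361221 (iv5 F369656) D217395 (iv0 F486552) F378382
theorem F488719 : act 3 n216924 = n217395 := d20_3 D216937 (iv1 F487583) F487581 (iv1 D217395) F369654 F348733 D160903 (iv4 F381592) F486606 (iv1 D216936)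
theorem F488720 : act 6 n208098 = n217395 := d21_3 (iv5 F394558) (iv1 F394561) (iv5 F447857) (iv1 D217395) (iv6 D187264) F137911 (iv1 F178370) (iv5 F369827) (iv6 F473997) F473995
def n217396 : Q := act 0 n187266
theorem D217396 : act 0 n187266 = n217396 := rfl
theorem F488721 : act 5 n217396 = n189939 := d17_3 F394627 (iv5 F369660) D217396 (iv4 F412503) F412504 F405320 (iv5 F433248) (iv0 D204683) (iv4 F394624)
theorem F488722 : act 3 n217396 = n210029 := d20_5 (iv4 D97069) (iv1 F76137) (iv4 F137914) D187266 D217396 F455825 (iv1 D197478) (iv4 F369869) (iv3 D187336) (iv1 F149737)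
theorem F488723 : act 2 n214807 = n217396 := d15_3 (iv0 D217396) (iv0 F392212) (iv7 F476948)
theorem F488724 : act 1 n198743 = n217396 := d15_0 (iv0 D217396) (iv7 F369904) (iv2 F409042)
theorem F488725 : act 6 n190219 = n217396 := d21_3 (iv5 D95748) D95746 D190219 (iv1 F488724) (iv6 D198743) (iv5 D109921) (iv1 F169929) D155960 (iv6 F379122) (iv1 D190226)
def n217397 : Q := act 2 n187266
theorem D217397 : act 2 n187266 = n217397 := rfl
theorem F488726 : act 3 n217397 = n208100 := d0_2 D187266 D217397 F447867 (iv3 D187346) (iv2 F138076)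
theorem F488727 : act 5 n217397 = n194887 := d2_2 (iv5 F369660) D217397 (iv2 D194887)
theorem F488728 : act 7 n217397 = n198743 := d4_2 F369904 D217397 F409042
theorem F488729 : act 4 n206165 = n217397 := d11_3 F488728 (iv4 F466383) F466382
theorem F488730 : act 1 n214807 = n217397 := d15_1 (iv0 F476950) F488728 F409042
def n217398 : Q := act 4 n187266
theorem D217398 : act 4 n187266 = n217398 := rfl
theorem F488731 : act 2 n217398 = n206165 := d1_1 D217398 F488729 (iv2 D217397)
theorem F488732 : act 3 n217398 = n194907 := d5_1 D217398 (iv4 D194907) F160414 (iv4 F137914) D187266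
theorem F488733 : act 5 n217398 = n206164 := d16_5 D212554 F466399 (iv4 D194888) (iv5 F369660) D217398 F439535 (iv5 F408978) F434602 F434603
def n217399 : Q := act 6 n187266
theorem D217399 : act 6 n187266 = n217399 := rfl
theorem F488734 : act 3 n217399 = n187267 := d7_1 D217399 (iv6 D187267) D187266
theorem F488735 : act 7 n217399 = n198740 := d14_2 F369904 D217399 (iv6 D198740) (iv7 F369684) (iv6 F369903)
def n217400 : Q := act 5 n187267
theorem D217400 : act 5 n187267 = n217400 := rfl
theorem F488736 : act 2 n217400 = n217382 := d2_1 D217400 F488666 F369908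
theorem F488737 : act 6 n217400 = n190909 := d12_2 D187267 D217400 F381517 (iv6 D104683) (iv5 F340364)
theorem F488738 : act 0 n217400 = n217368 := d17_2 F488685 D217400 (iv5 D217368) (iv4 F476699) (iv5 F476703) (iv0 D194463) F158977 D187260 D217388
theorem F488739 : act 0 n217369 = n217400 := d21_1 D217369 (iv5 D217400) (iv6 D187267) (iv1 F138002) (iv6 F358004) (iv5 D95763) (iv1 F71655) (iv5 F149920) (iv6 F369843) (iv1 F369845)
theorem F488740 : act 4 n214630 = n217400 := d10_3 F488737 (iv4 F381519) D214630
def n217401 : Q := act 6 n187269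
theorem D217401 : act 6 n187269 = n217401 := rfl
theorem F488741 : act 4 n217401 = n212845 := d10_1 D217401 (iv6 D212845) (iv4 F369665)
theorem F488742 : act 5 n217401 = n214926 := d12_1 D217401 (iv6 D214926) (iv5 D163753) (iv6 F340616) F369666
theorem F488743 : act 7 n217401 = n217400 := d14_2 (iv7 F378099) D217401 F488737 F381516 F378104
def n217402 : Q := act 4 n187276
theorem D217402 : act 4 n187276 = n217402 := rfl
theorem F488744 : act 2 n217402 = n198505 := d1_1 D217402 F408162 F369685
theorem F488745 : act 7 n217402 = n198504 := d11_2 (iv7 F369684) D217402 F408161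
theorem F488746 : act 5 n217402 = n198945 := d16_1 D217402 F410012 (iv5 F177100) F327972 F83894 D109870 D198701 F408933 F369685
theorem F488747 : act 0 n217402 = n198379 := d17_0 (iv5 F451286) (iv1 F451288) F413887 (iv4 F408184) (iv5 D198380) (iv0 F174002) D199895 F414027 D217402
theorem F488748 : act 1 n217402 = n198508 := d18_6 (iv1 F169863) F80048 (iv1 F83899) (iv4 F169745) (iv5 F369683) D217402 F408168 F407813 F407812
def n217403 : Q := act 6 n187277
theorem D217403 : act 6 n187277 = n217403 := rfl
theorem F488749 : act 3 n217403 = n187279 := d7_1 D217403 (iv6 D187279) D187277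
theorem F488750 : act 0 n211824 = n217403 := d21_4 (iv5 D200211) F175998 (iv5 F226849) D211824 (iv6 D217403) F369686 (iv1 D160642) D160644 (iv6 F404486) (iv1 F415532)
def n217404 : Q := act 3 n187278
theorem D217404 : act 3 n187278 = n217404 := rfl
theorem F488751 : act 5 n217404 = n216815 := d6_2 (iv5 F369689) D217404 F486034
theorem F488752 : act 7 n217404 = n194912 := d8_2 (iv7 F369688) D217404 F394973
def n217405 : Q := act 5 n187279
theorem D217405 : act 5 n187279 = n217405 := rfl
theorem F488753 : act 2 n217405 = n217401 := d2_1 D217405 F488742 F477467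
theorem F488754 : act 6 n217405 = n187349 := d12_2 D187279 D217405 (iv5 F378090) F378092 F358136
theorem F488755 : act 7 n217405 = n217382 := d13_2 F369910 D217405 F488666
theorem F488756 : act 0 n217405 = n217369 := d17_2 F488683 D217405 (iv5 D217369) (iv4 F381970) F393315 F393313 (iv5 F369897) F369901 D217386
theorem F488757 : act 1 n217405 = n217368 := d17_6 F476614 (iv5 F476615) (iv1 F393380) (iv5 F393954) F393953 D217405 (iv5 D217368) (iv0 D187240) (iv4 F369601)
def n217406 : Q := act 3 n187282
theorem D217406 : act 3 n187282 = n217406 := rfl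
theorem F488758 : act 2 n217406 = n215640 := d0_1 D217406 (iv3 F480906) F369717 (iv3 F369980) F369998
theorem F488759 : act 4 n217406 = n215640 := d5_2 F371089 D217406 (iv3 F480906) (iv4 F369459) (iv3 F371087)
theorem F488760 : act 5 n217406 = n194801 := d6_2 F369999 D217406 (iv3 D194801)
theorem F488761 : act 6 n217406 = n190496 := d7_2 F370000 D217406 (iv3 D190496)
theorem F488762 : act 7 n217406 = n215641 := d8_2 (iv7 F369997) D217406 (iv3 F480912)
theorem F488763 : act 0 n217406 = n215629 := d19_4 D90422 D187642 F371089 D217406 F480842 F280583 (iv3 D180182) (iv1 D86087) D86089 (iv4 F320010) (iv3 F196442) F268093 D215191 F478818 F394466 F292345 F291470 (iv4 D42300) (iv3 F65284)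
theorem F488764 : act 0 n190755 = n217406 := d20_4 F369578 F415888 (iv4 D199941) (iv3 F380930) (iv3 D217406) (iv4 F371089) (iv1 F371090) F369238 (iv3 F414493) F414498
def n217407 : Q := act 4 n187294
theorem D217407 : act 4 n187294 = n217407 := rfl
theorem F488765 : act 2 n217407 = n190887 := d1_1 D217407 (iv4 D190887) F369742
theorem F488766 : act 5 n217407 = n192154 := d9_2 (iv5 F369741) D217407 (iv4 D192154) (iv5 F368848) (iv4 D187020) (iv5 F291782) F291781 F158650 D190184 (iv5 F385780) (iv4 D192151) D192152 (iv4 F387895) (iv5 D192819) F289670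
theorem F488767 : act 7 n217407 = n190923 := d11_2 (iv7 F369744) D217407 (iv4 D190923)
theorem F488768 : act 0 n215491 = n217407 := d21_10 F488766 F385790 D192162 (iv6 F486799) F486800 F471116 (iv5 D210019) F365989 D174663 D215491
def n217408 : Q := act 6 n187294
theorem D217408 : act 6 n187294 = n217408 := rfl
theorem F488769 : act 2 n217408 = n190888 := d3_1 D217408 (iv6 D190888) F369742
theorem F488770 : act 5 n217408 = n189925 := d12_1 D217408 (iv6 D189925) (iv5 D95463) D95464 (iv5 F369741)
theorem F488771 : act 7 n217408 = n191049 := d14_2 (iv7 F369744) D217408 (iv6 F394769) F443893 (iv6 D190924)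
theorem F488772 : act 0 n217408 = n191050 := d21_4 (iv5 D104722) (iv1 F158654) (iv5 F369741) D217408 F381988 (iv5 F408104) (iv1 F408107) F389986 (iv6 D190875) (iv1 F356255)
theorem F488773 : act 1 n217408 = n187323 := d15_1 (iv0 F488772) F369838 D191050
def n217409 : Q := act 0 n187295
theorem D217409 : act 0 n187295 = n217409 := rfl
theorem F488774 : act 5 n217409 = n192148 := d17_1 D217409 (iv1 D192148) D192149 F385769 F381414 F158655 (iv5 F369741) (iv0 D187294) D187295
theorem F488775 : act 4 n217409 = n190997 := d18_3 F147377 D187295 D217409 F485775 (iv4 D216750) (iv0 D185419) F135258 (iv0 F158653) F158650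
theorem F488776 : act 1 n190916 = n217409 := d15_0 (iv0 D217409) F369745 (iv2 F381542)
theorem F488777 : act 2 n190926 = n217409 := d2_3 F488774 (iv2 F385765) (iv5 F381566)
theorem F488778 : act 7 n190925 = n217409 := d13_0 F488774 F385764 (iv5 F383642)
def n217410 : Q := act 1 n187295
theorem D217410 : act 1 n187295 = n217410 := rfl
theorem F488779 : act 1 n217410 = n190916 := d15_1 D217410 F381975 (iv2 F381974)
theorem F488780 : act 7 n217410 = n190926 := d15_2 (iv0 D217409) D217410 F488777
theorem F488781 : act 5 n217410 = n192147 := d17_7 D99803 D192152 F385784 (iv5 F385558) (iv4 F408102) F408104 D217410 (iv0 D192147) F153640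
theorem F488782 : act 4 n217410 = n191038 := d18_7 F353209 (iv4 F152400) F152401 F133538 D89884 D187295 D217410 (iv0 F393742) (iv5 D186746)
theorem F488783 : act 6 n214885 = n217410 := d21_9 (iv5 F408104) (iv1 F408107) F389986 (iv6 D190875) (iv1 F356255) D194912 F394974 F456087 F477280 (iv1 D217410)
theorem F488784 : act 2 n217410 = n190925 := d3_1 F488783 F430183 (iv2 F477281)
def n217411 : Q := act 0 n187296
theorem D217411 : act 0 n187296 = n217411 := rfl
theorem F488785 : act 4 n217411 = n215488 := d20_8 F462977 (iv1 F226820) D208092 (iv3 F475755) F475759 (iv3 F381986) F381987 D217411 F480201 F462981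
theorem F488786 : act 5 n217411 = n215516 := d21_0 (iv1 D215516) (iv5 F366948) (iv6 D160912) F115974 (iv6 F365878) (iv5 D95672) F70260 D89884 D187296 D217411
theorem F488787 : act 6 n203871 = n217411 := d21_5 F115969 F59870 D55899 D121145 D203871 F488786 (iv1 D215516) (iv5 F366948) (iv6 D160912) F115974
def n217412 : Q := act 1 n187296
theorem D217412 : act 1 n187296 = n217412 := rfl
theorem F488788 : act 4 n217412 = n215489 := d17_9 (iv1 D215489) (iv5 D174663) D174660 (iv5 F478558) (iv4 D215142) D215143 (iv0 F480960) F378954 D217412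
theorem F488789 : act 5 n215515 = n217412 := d21_0 (iv1 D217412) (iv5 F378954) (iv6 D190137) (iv1 F378867) F378865 (iv5 D174608) F298313 (iv5 F298314) D174706 D215515
theorem F488790 : act 6 n217409 = n217412 := d21_3 F390664 (iv1 F385763) (iv5 F488774) (iv1 D217412) (iv6 D187296) (iv5 D89884) D89882 D187292 (iv6 F476632) (iv1 F476633)
theorem F488791 : act 3 n217412 = n190903 := d19_3 (iv1 F478941) (iv5 F480206) (iv4 F488788) (iv1 D190903) F149640 (iv4 F369545) (iv3 F379112) (iv1 F457599) (iv5 D210452) F366535 (iv3 D150853) F317006 (iv5 F324398) D211137 F460275 F340160 F335984 (iv4 F352059) F353296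
def n217413 : Q := act 7 n187296
theorem D217413 : act 7 n187296 = n217413 := rfl
theorem F488792 : act 3 n217413 = n187301 := d8_1 D217413 (iv7 D187301) (iv3 F369746)
theorem F488793 : act 6 n217413 = n190922 := d14_1 D217413 (iv7 D190922) F149715 (iv7 F137984) D187296
def n217414 : Q := act 3 n187299
theorem D217414 : act 3 n187299 = n217414 := rfl
theorem F488794 : act 7 n217414 = n215147 := d8_2 (iv7 F393939) D217414 (iv3 F478566)
theorem F488795 : act 5 n215140 = n217414 := d13_3 F488794 (iv5 D215147) F478554
theorem F488796 : act 2 n217414 = n215143 := d15_3 (iv0 F480960) (iv0 F478560) (iv7 F488794)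
def n217415 : Q := act 5 n187299
theorem D217415 : act 5 n187299 = n217415 := rfl
theorem F488797 : act 2 n217415 = n217343 := d2_1 D217415 (iv5 D217343) F393938
theorem F488798 : act 3 n217415 = n215140 := d6_1 D217415 F488795 (iv3 D217414)
theorem F488799 : act 7 n217415 = n215146 := d13_2 (iv7 F393939) D217415 F478564
def n217416 : Q := act 3 n187300
theorem D217416 : act 3 n187300 = n217416 := rfl
theorem F488800 : act 6 n217416 = n211982 := d7_2 F379188 D217416 F463823
theorem F488801 : act 7 n217416 = n217342 := d8_2 F393936 D217416 (iv3 D217342)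
theorem F488802 : act 4 n217416 = n190896 := d20_6 F381281 (iv1 F369826) (iv4 F488514) F488513 (iv1 F369751) D217416 (iv1 D190896) (iv4 F381283) (iv3 D190838) D190836
def n217417 : Q := act 5 n187300
theorem D217417 : act 5 n187300 = n217417 := rfl
theorem F488803 : act 2 n217417 = n215146 := d2_1 D217417 F478564 (iv2 F393937)
theorem F488804 : act 7 n217417 = n217343 := d13_2 F393936 D217417 (iv5 D217343)
def n217418 : Q := act 5 n187302
theorem D217418 : act 5 n187302 = n217418 := rfl
theorem F488805 : act 2 n217418 = n217080 := d2_1 D217418 F487310 (iv2 F369757)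
theorem F488806 : act 3 n217418 = n187304 := d6_1 D217418 (iv5 D187304) D187302
theorem F488807 : act 7 n217418 = n190738 := d13_2 (iv7 F369759) D217418 (iv5 D190738)
theorem F488808 : act 0 n217418 = n190997 := d17_2 F369761 D217418 F485775 (iv4 D216750) (iv5 F384281) F384279 (iv5 D182224) (iv0 F152401) F152400
theorem F488809 : act 1 n217418 = n191038 := d17_6 F370954 (iv5 F370955) (iv1 F390945) F390947 (iv4 F369760) D217418 (iv5 F393737) (iv0 F393741) F387973
def n217419 : Q := act 5 n187303
theorem D217419 : act 5 n187303 = n217419 := rfl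
theorem F488810 : act 2 n217419 = n217344 := d2_1 D217419 (iv5 D217344) (iv2 F369763)
theorem F488811 : act 3 n217419 = n190083 := d6_1 D217419 (iv5 D190083) (iv3 F369767)
theorem F488812 : act 7 n217419 = n190739 := d13_2 (iv7 F369765) D217419 (iv5 D190739)
theorem F488813 : act 0 n217419 = n190045 := d17_2 F373852 D217419 F394503 (iv4 F482759) F482760 (iv0 F488543) (iv5 D217344) (iv0 F369550) (iv4 F373850)
theorem F488814 : act 1 n214552 = n190739 := d15_1 F488542 (iv7 F488812) F488810
def n217420 : Q := act 4 n187304
theorem D217420 : act 4 n187304 = n217420 := rfl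
theorem F488815 : act 2 n217420 = n217345 := d1_1 D217420 (iv4 D217345) (iv2 F369768)
theorem F488816 : act 7 n217420 = n190740 := d11_2 (iv7 F369769) D217420 (iv4 D190740)
def n217421 : Q := act 6 n187304
theorem D217421 : act 6 n187304 = n217421 := rfl
theorem F488817 : act 2 n217421 = n217346 := d3_1 D217421 (iv6 D217346) (iv2 F369768)
theorem F488818 : act 5 n217421 = n217346 := d12_1 D217421 (iv6 D217346) (iv5 D187222) F289568 D187304
def n217422 : Q := act 4 n187305
theorem D217422 : act 4 n187305 = n217422 := rfl
theorem F488819 : act 2 n217422 = n217350 := d1_1 D217422 (iv4 D217350) F369774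
theorem F488820 : act 7 n217422 = n217348 := d11_2 F369775 D217422 (iv4 D217348)
theorem F488821 : act 5 n207858 = n217422 := d19_1 (iv1 F474831) (iv4 D217422) (iv3 F390385) (iv1 F487345) (iv5 D217087) F367888 F147315 (iv1 F335652) F336784 (iv4 F349042) F319323 (iv1 F316450) F362420 (iv4 F409747) F409746 F203463 (iv5 D126540) D126539 D205704
theorem F488822 : act 5 n217350 = n207013 := d2_2 F488821 F488819 (iv2 F446753)
theorem F488823 : act 5 n217348 = n205622 := d13_3 (iv7 F446754) F488821 F488820
theorem F488824 : act 0 n205812 = n205622 := d19_0 (iv5 F488823) (iv4 D217348) D217347 (iv1 F488549) (iv5 D190231) F367604 (iv3 F367603) (iv1 D182984) (iv5 F305317) F186611 (iv3 F107062) (iv1 F338682) F338685 (iv4 F399120) F399119 F203685 (iv5 D126620) D126619 D205812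
theorem F488825 : act 1 n205812 = n207013 := d15_1 (iv0 F488824) F442961 F437630
def n217423 : Q := act 6 n187305
theorem D217423 : act 6 n187305 = n217423 := rfl
theorem F488826 : act 2 n217423 = n217351 := d3_1 D217423 (iv6 D217351) F369774
theorem F488827 : act 3 n217423 = n216911 := d7_1 D217423 F486510 F390385
theorem F488828 : act 5 n217423 = n190759 := d12_1 D217423 (iv6 D190759) (iv5 F343077) F343078 (iv5 F369772)
theorem F488829 : act 0 n217357 = n217423 := d21_4 (iv5 F430546) F430547 (iv5 F369559) D217357 (iv6 D217423) F369772 (iv1 F160293) (iv5 F147504) D190302 (iv1 F395281)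
def n217424 : Q := act 4 n187306
theorem D217424 : act 4 n187306 = n217424 := rfl
theorem F488830 : act 2 n217424 = n217348 := d1_1 D217424 (iv4 D217348) F369778
theorem F488831 : act 7 n217424 = n217350 := d11_2 (iv7 F369777) D217424 (iv4 D217350)
theorem F488832 : act 5 n205735 = n217424 := d13_3 F488831 F488822 F442961
def n217425 : Q := act 6 n187306
theorem D217425 : act 6 n187306 = n217425 := rfl
theorem F488833 : act 2 n217425 = n217349 := d3_1 D217425 (iv6 D217349) F369778
theorem F488834 : act 5 n217425 = n194444 := d12_1 D217425 (iv6 D194444) (iv5 D103593) D103594 F369779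
def n217426 : Q := act 0 n187307
theorem D217426 : act 0 n187307 = n217426 := rfl
theorem F488835 : act 1 n190904 = n217426 := d15_0 (iv0 D217426) F369780 (iv2 F381500)
def n217427 : Q := act 1 n187307
theorem D217427 : act 1 n187307 = n217427 := rfl
theorem F488836 : act 1 n217427 = n190904 := d15_1 D217427 F381501 F379064
def n217428 : Q := act 3 n187307
theorem D217428 : act 3 n187307 = n217428 := rfl
theorem F488837 : act 4 n217428 = n187310 := d5_2 D187307 D217428 (iv3 D187310) (iv4 D89891) (iv3 F137994)
theorem F488838 : act 7 n217428 = n217354 := d8_2 (iv7 F369780) D217428 (iv3 D217354)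
theorem E104037 : n217427 = n212088 := ((c20_4 (iv4 D212085) (iv1 D145308) D145309 D212088 (iv1 D217427) D217428 F488837 F395260 (iv4 F452438) (iv3 F464394) (iv1 F464397))).symm
theorem F488839 : act 0 n212088 = n187307 := (sb E104037 (iv1 D217427))
theorem F488840 : act 1 n212088 = n190904 := (sb E104037 F488836)
theorem F488841 : act 7 n217426 = n217352 := d15_2 F488840 F488835 (iv2 F488559)
theorem F488842 : act 2 n217353 = n217426 := d4_3 F488841 (iv2 F488559) (iv7 F488558)
theorem F488843 : act 0 n205696 = n217428 := d18_0 F488837 F395260 (iv4 F452438) F452439 F218512 F99354 D135657 F364262 D205696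
def n217429 : Q := act 5 n187307
theorem D217429 : act 5 n187307 = n217429 := rfl
theorem F488844 : act 7 n217429 = n217355 := d13_2 (iv7 F369780) D217429 (iv5 D217355)
def n217430 : Q := act 6 n187307
theorem D217430 : act 6 n187307 = n217430 := rfl
theorem F488845 : act 4 n217430 = n187308 := d10_1 D217430 (iv6 D187308) D187307
def n217431 : Q := act 0 n187308
theorem D217431 : act 0 n187308 = n217431 := rfl
theorem F488846 : act 5 n217431 = n211836 := d21_8 F415909 F382166 (iv5 F393227) (iv6 D194440) (iv1 F350175) D194328 F392837 D217431 F463241 (iv1 F443511)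
theorem F488847 : act 3 n211838 = n217431 := d6_3 F488846 (iv3 D211836) D211838
def n217432 : Q := act 1 n187308
theorem D217432 : act 1 n187308 = n217432 := rfl
theorem F488848 : act 3 n192162 = n217432 := d19_19 (iv1 D217432) (iv5 F392837) (iv4 F458673) F458672 (iv1 F422611) (iv5 F485140) F485139 (iv3 D194092) (iv1 F292342) (iv5 F144688) F144687 (iv3 F144679) (iv1 F193579) (iv5 F193580) (iv4 F158401) (iv3 F387866) F387868 D192871 F388069
theorem F488849 : act 0 n217430 = n206824 := d20_1 (iv4 F488845) (iv4 F463058) F463057 (iv1 D198480) (iv3 F365778) F254104 (iv1 F388071) F388069 F488848 (iv1 D217432)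
theorem F488850 : act 6 n206159 = n217432 := d21_3 (iv5 F439508) (iv1 F439510) D206159 (iv1 D217432) (iv6 D187308) (iv5 D89889) F289535 D95494 (iv6 F378319) (iv1 F381870)
theorem F488851 : act 5 n192161 = n217432 := d21_6 (iv5 D103593) (iv1 D47982) D47983 (iv6 F158905) F353152 D192161 (iv1 D217432) (iv5 F392837) (iv6 D194328) F350174
def n217433 : Q := act 7 n187308
theorem D217433 : act 7 n187308 = n217433 := rfl
theorem F488852 : act 3 n217433 = n187313 := d8_1 D217433 (iv7 D187313) (iv3 F369781)
theorem F488853 : act 5 n217433 = n210741 := d13_1 D217433 F458668 F392837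
theorem F488854 : act 6 n217433 = n214892 := d14_1 D217433 F477306 (iv6 D187226) (iv7 F137995) D187308
def n217434 : Q := act 4 n187309
theorem D217434 : act 4 n187309 = n217434 := rfl
theorem F488855 : act 2 n217434 = n203489 := d1_1 D217434 F428527 F369784
theorem F488856 : act 3 n217434 = n190177 := d5_1 D217434 (iv4 F458544) F458541 (iv4 F374413) F369787
theorem F488857 : act 6 n217434 = n215629 := d10_2 (iv6 F369782) D217434 (iv4 D215629)
theorem F488858 : act 7 n217434 = n190749 := d11_2 (iv7 F369786) D217434 F380905
theorem F488859 : act 5 n217434 = n203488 := d17_5 (iv1 D47765) D47766 D103028 (iv5 F369783) D217434 F428523 (iv5 F365050) F176027 (iv4 D103025)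
theorem F488860 : act 0 n217434 = n190496 := d17_0 (iv5 F393841) F393842 F366637 (iv4 D103589) D103590 (iv0 F373306) (iv5 D188401) F369785 D217434
theorem F488861 : act 1 n217434 = n190042 := d18_6 F380207 (iv4 F422854) (iv1 F422857) (iv4 D194237) (iv5 F369783) D217434 (iv4 F381265) (iv0 F381266) F380906
def n217435 : Q := act 3 n187311
theorem D217435 : act 3 n187311 = n217435 := rfl
theorem F488862 : act 5 n217435 = n193732 := d6_2 (iv5 F369790) D217435 F390805
theorem F488863 : act 7 n217435 = n187357 := d8_2 (iv7 F369933) D217435 (iv3 D187357)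
theorem F488864 : act 0 n217435 = n214869 := d20_4 F361147 (iv1 F361119) (iv4 F369791) D217435 F477213 (iv4 F365875) (iv1 F381412) (iv4 F385769) F385768 (iv1 D190099)
theorem F488865 : act 4 n200246 = n217435 := d19_2 F415657 D200246 (iv3 D217435) (iv1 F369793) (iv5 F358006) (iv4 D174569) (iv3 D83423) (iv1 D38429) (iv5 D18326) F13546 (iv3 F13544) F296460 (iv5 F56996) F325073 (iv3 F168024) F93414 F93413 D112861 D200228
theorem F488866 : act 0 n191037 = n217435 := d17_2 F464630 F392881 F488862 (iv4 F424076) (iv5 F431941) (iv0 D204300) D204302 (iv0 F431959) (iv4 F464629)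
def n217436 : Q := act 3 n187312
theorem D217436 : act 3 n187312 = n217436 := rfl
theorem F488867 : act 5 n217436 = n194305 := d6_2 F369797 D217436 F392758
theorem F488868 : act 6 n217436 = n206165 := d7_2 F369796 D217436 F439539
theorem F488869 : act 7 n217436 = n187353 := d8_2 F369934 D217436 (iv3 D187353)
theorem F488870 : act 0 n217436 = n217358 := d20_4 (iv4 D190069) (iv1 F364591) (iv4 F369795) D217436 F488570 (iv4 F447864) (iv1 D208099) (iv4 D133382) (iv3 F214425) (iv1 F378770)
theorem F488871 : act 1 n217436 = n209316 := d15_1 (iv0 F488870) (iv7 F453200) (iv2 F488569)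
def n217437 : Q := act 4 n187315
theorem D217437 : act 4 n187315 = n217437 := rfl
theorem F488872 : act 2 n217437 = n191036 := d1_1 D217437 (iv4 D191036) (iv2 F369810)
theorem F488873 : act 7 n217437 = n191035 := d11_2 (iv7 F369811) D217437 (iv4 D191035)
def n217438 : Q := act 6 n187315
theorem D217438 : act 6 n187315 = n217438 := rfl
theorem F488874 : act 2 n217438 = n191037 := d3_1 D217438 (iv6 D191037) (iv2 F369810)
theorem F488875 : act 3 n217438 = n193708 := d7_1 D217438 (iv6 F476572) F476570
theorem F488876 : act 7 n217438 = n214869 := d14_2 (iv7 F369811) D217438 (iv6 D214869) F257544 F353179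
theorem F488877 : act 0 n187357 = n217438 := d21_4 F419604 (iv1 F379548) (iv5 F477946) F477949 (iv6 D217438) (iv5 D187315) (iv1 F138025) D97157 (iv6 F177924) D201241
def n217439 : Q := act 4 n187317
theorem D217439 : act 4 n187317 = n217439 := rfl
theorem F488878 : act 2 n217439 = n191035 := d1_1 D217439 (iv4 D191035) (iv2 F369817)
theorem F488879 : act 6 n217439 = n214201 := d10_2 F476563 D217439 (iv4 F476562)
theorem F488880 : act 7 n217439 = n191036 := d11_2 (iv7 F369819) D217439 (iv4 D191036)
theorem F488881 : act 3 n217439 = n215475 := d19_3 F138028 D187317 D217439 (iv1 D215475) (iv5 F474432) (iv4 F476438) F476437 F394847 F369559 F258625 F257631 (iv1 F340627) (iv5 F292807) (iv4 F137671) D182962 (iv1 F284558) (iv5 D87540) (iv4 F70297) (iv3 F71645)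
def n217440 : Q := act 3 n187319
theorem D217440 : act 3 n187319 = n217440 := rfl
theorem F488882 : act 2 n217440 = n190997 := d0_1 D217440 (iv3 D190997) F381761 (iv3 F381760) F369829
theorem F488883 : act 5 n217440 = n192810 := d6_2 (iv5 F369827) D217440 F387866
theorem F488884 : act 6 n217440 = n215478 := d7_2 F473997 D217440 F480165
theorem F488885 : act 7 n217440 = n191038 := d8_2 F369830 D217440 (iv3 D191038)
theorem F488886 : act 4 n217440 = n190926 := d20_6 (iv4 F147462) (iv1 F147463) (iv4 D89901) (iv3 F138036) D187319 D217440 (iv1 D190926) (iv4 D97054) F71523 D45378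
theorem F488887 : act 0 n217080 = n217440 := d20_4 D190947 (iv1 F487688) (iv4 D217153) (iv3 F487308) (iv3 D217440) (iv4 F473999) F474001 F379285 F149552 (iv1 F289951)
theorem F488888 : act 1 n190738 = n217440 := d15_0 (iv0 F488887) (iv7 D217080) (iv2 F380876)
def n217441 : Q := act 4 n187320
theorem D217441 : act 4 n187320 = n217441 := rfl
theorem F488889 : act 2 n217441 = n190836 := d1_1 D217441 F381281 F369834
theorem F488890 : act 7 n217441 = n190837 := d11_2 (iv7 F369832) D217441 F381282
theorem F488891 : act 0 n217441 = n190840 := d18_2 (iv1 F369831) D217441 F381288 F149575 F71434 F114671 F138026 (iv0 F138028) D97157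
theorem F488892 : act 1 n217441 = n190285 := d18_6 F371803 F371800 F369339 F369335 (iv5 F369833) D217441 F379285 (iv0 F377930) (iv5 D189835)
theorem F488893 : act 6 n211847 = n217441 := d14_5 F488890 F381686 F214441 (iv6 F226859) D211847
def n217442 : Q := act 6 n187320
theorem D217442 : act 6 n187320 = n217442 := rfl
theorem F488894 : act 2 n217442 = n191039 := d3_1 D217442 (iv6 D191039) F369834
theorem F488895 : act 3 n217442 = n190996 := d7_1 D217442 (iv6 D190996) (iv3 F370216)
theorem F488896 : act 4 n217442 = n211847 := d10_1 D217442 F488893 (iv4 D217441)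
theorem F488897 : act 5 n217442 = n211715 := d12_1 D217442 (iv6 D211715) (iv5 F350512) (iv6 F350515) (iv5 F369833)
theorem F488898 : act 7 n217442 = n211846 := d14_2 (iv7 F369832) D217442 F463248 (iv7 F381682) F381685
theorem F488899 : act 1 n194905 = n211846 := d15_1 (iv0 F394953) (iv7 F488898) F488894
def n217443 : Q := act 3 n187321
theorem D217443 : act 3 n187321 = n217443 := rfl
theorem F488900 : act 2 n217443 = n217413 := d0_1 D217443 F488792 F369752 (iv3 F488513) F488512
theorem F488901 : act 4 n217443 = n187323 := d5_2 D187321 D217443 (iv3 D187323) (iv4 D89901) (iv3 F138036)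
theorem F488902 : act 6 n217443 = n215131 := d7_2 F475778 D217443 (iv3 F478523)
theorem F488903 : act 7 n217443 = n191042 := d8_2 (iv7 F369835) D217443 (iv3 D191042)
theorem F488904 : act 1 n217412 = n217443 := d15_1 D217412 F488903 F381958
theorem F488905 : act 0 n217411 = n217443 := d18_2 D215488 (iv4 F488785) F488901 F369837 (iv4 F393426) (iv0 F480196) (iv4 D215486) (iv0 D174660) D174663
def n217444 : Q := act 0 n187322
theorem D217444 : act 0 n187322 = n217444 := rfl
theorem F488906 : act 5 n217444 = n217439 := d17_3 F474001 F379286 D217444 (iv4 D217439) (iv5 D187317) (iv0 F138028) D97157 F369828 (iv4 F473999)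
theorem F488907 : act 4 n217444 = n190271 := d18_1 D217444 (iv1 D190271) D190272 F379254 (iv4 D187321) D187320 D217441 F488892 F379286
theorem F488908 : act 1 n190037 = n217444 := d15_0 (iv0 D217444) (iv7 F475764) F475761
def n217445 : Q := act 1 n187322
theorem D217445 : act 1 n187322 = n217445 := rfl
theorem F488909 : act 1 n217445 = n190037 := d15_1 D217445 F381287 F381284
theorem F488910 : act 4 n217445 = n190270 := d18_7 D95794 (iv4 F251678) (iv1 F193578) (iv4 F251962) (iv5 F475777) F475776 D217445 (iv0 D190270) (iv5 D95796)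
theorem F488911 : act 5 n217437 = n217445 := d9_0 F488910 F382243 F382239 (iv5 D159838) F138026 D187317 D217439 (iv5 F488906) F488907 (iv5 F382250) F382246 (iv5 D159842) (iv4 F138024) D187315 D217437
def n217446 : Q := act 1 n187323
theorem D217446 : act 1 n187323 = n217446 := rfl
theorem F488912 : act 7 n217446 = n190888 := d15_2 F488773 D217446 (iv2 F488769)
theorem F488913 : act 3 n190891 = n217446 := d20_3 F381908 F321275 (iv4 F381468) (iv1 D217446) (iv3 D187323) (iv4 D89901) F64837 F340377 (iv3 F149874) D191023
theorem F488914 : act 5 n194967 = n217446 := d21_0 (iv1 D217446) F369837 (iv6 F382086) F460626 F482796 F482792 (iv1 F487710) F487712 (iv6 F478527) (iv1 F395210)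
theorem F488915 : act 2 n217446 = n191049 := d2_1 F488914 F394768 F395213
theorem F488916 : act 1 n217446 = n191050 := d17_8 D217411 F488786 (iv1 D215516) (iv5 F366948) F254110 (iv5 F348742) D194967 F488914 F381987
theorem F488917 : act 6 n217446 = n214865 := d21_9 (iv5 F468511) (iv1 F480954) (iv5 F480958) (iv6 D215144) (iv1 F476648) F476645 F476493 (iv1 F395210) F488914 (iv1 F477196)
def n217447 : Q := act 2 n187323
theorem D217447 : act 2 n187323 = n217447 := rfl
theorem F488918 : act 3 n217447 = n211755 := d0_2 D187323 D217447 F462968 (iv3 D187238) (iv2 F138038)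
theorem F488919 : act 4 n217447 = n217413 := d1_2 F488901 D217447 (iv2 F488900)
theorem F488920 : act 5 n217447 = n194497 := d2_2 (iv5 F369837) D217447 (iv2 D194497)
theorem F488921 : act 6 n217447 = n214300 := d3_2 (iv6 F478487) D217447 F478489
theorem F488922 : act 7 n217447 = n191050 := d4_2 (iv7 F369838) D217447 (iv2 D191050)
theorem F488923 : act 1 n217447 = n191049 := d15_0 (iv0 D191049) (iv7 F369838) D217447
theorem F488924 : act 1 n190888 = n217447 := d15_0 F488923 (iv7 F488771) F488769
def n217448 : Q := act 5 n187324
theorem D217448 : act 5 n187324 = n217448 := rfl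
theorem F488925 : act 2 n217448 = n211728 := d2_1 D217448 (iv5 F462880) (iv2 F369839)
theorem F488926 : act 3 n217448 = n211962 := d6_1 D217448 F478490 F478488
theorem F488927 : act 6 n217448 = n191069 := d12_2 D187324 D217448 (iv5 D191069) F149954 (iv5 F138039)
theorem F488928 : act 4 n217448 = n213709 := d18_5 (iv1 F488537) F379181 (iv1 D187326) (iv4 F369840) D217448 (iv0 F471730) (iv4 F488676) (iv0 F488679) (iv5 F488535)
theorem F488929 : act 0 n217448 = n196959 := d18_0 F402451 (iv1 F406836) F401016 D211754 (iv4 F462967) F369756 (iv4 F393933) (iv0 F393935) D217448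
def n217449 : Q := act 7 n187324
theorem D217449 : act 7 n187324 = n217449 := rfl
theorem F488930 : act 2 n217449 = n217366 := d4_1 D217449 (iv7 D217366) (iv2 F369839)
theorem F488931 : act 3 n217449 = n214299 := d8_1 D217449 (iv7 F478486) F478488
theorem F488932 : act 4 n217449 = n187327 := d11_1 D217449 (iv7 D187327) (iv4 F369840)
theorem F488933 : act 6 n217449 = n191047 := d14_1 D217449 (iv7 D191047) F149918 (iv7 F138040) D187324
theorem F488934 : act 1 n190935 = n217449 := d15_1 (iv0 F381607) (iv7 D217449) F369839
theorem F488935 : act 1 n217449 = n214741 := d15_1 F488934 F476613 (iv2 F381605)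
def n217450 : Q := act 5 n187325
theorem D217450 : act 5 n187325 = n217450 := rfl
theorem F488936 : act 2 n217450 = n217368 := d2_1 D217450 (iv5 D217368) (iv2 F378790)
theorem F488937 : act 3 n217450 = n217388 := d6_1 D217450 F488684 (iv3 F399905)
theorem F488938 : act 7 n217450 = n217369 := d13_2 (iv7 F378788) D217450 (iv5 D217369)
theorem F488939 : act 0 n217450 = n217401 := d17_2 D187325 D217450 F488742 F477469 F394968 F393386 D194646 (iv0 F393935) F369840
theorem F488940 : act 0 n217382 = n217450 := d21_10 (iv5 D217450) (iv1 F369844) (iv5 F381890) (iv6 D191017) (iv1 F149868) D190295 (iv5 F382078) F382079 F369636 D217382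
def n217451 : Q := act 3 n187326
theorem D217451 : act 3 n187326 = n217451 := rfl
theorem F488941 : act 7 n217451 = n217367 := d8_2 F378789 D217451 (iv3 D217367)
def n217452 : Q := act 5 n187326
theorem D217452 : act 5 n187326 = n217452 := rfl
theorem F488942 : act 2 n217452 = n217369 := d2_1 D217452 (iv5 D217369) F378787
theorem F488943 : act 6 n217452 = n217372 := d12_2 (iv6 F378786) D217452 F488613 F432336 (iv5 F378782)
theorem F488944 : act 7 n217452 = n217368 := d13_2 F378789 D217452 (iv5 D217368)
theorem F488945 : act 0 n217452 = n217382 := d17_2 (iv1 F369841) D217452 F488666 F369909 (iv5 D103913) D103912 (iv5 F378778) F488597 F488595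
theorem F488946 : act 0 n217401 = n217452 := d21_10 (iv5 D217452) (iv1 D187326) (iv5 F147515) (iv6 D95829) (iv1 F71615) D97143 F149875 D104644 F369666 D217401
def n217453 : Q := act 6 n187329
theorem D217453 : act 6 n187329 = n217453 := rfl
theorem F488947 : act 2 n217453 = n193235 := d3_1 D217453 (iv6 D193235) (iv2 F369851)
theorem F488948 : act 3 n217453 = n211153 := d7_1 D217453 F460352 (iv3 F369852)
theorem F488949 : act 4 n217453 = n190911 := d10_1 D217453 (iv6 D190911) (iv4 F369853)
theorem F488950 : act 0 n211439 = n217453 := d18_0 F488949 F381528 (iv4 F389144) F415102 F415092 F393333 F359488 D196965 (iv5 F461540)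
def n217454 : Q := act 0 n187330
theorem D217454 : act 0 n187330 = n217454 := rfl
def n217455 : Q := act 5 n187330
theorem D217455 : act 5 n187330 = n217455 := rfl
theorem F488951 : act 2 n217455 = n207564 := d2_1 D217455 F445462 F379067
theorem F488952 : act 3 n217455 = n214228 := d6_1 D217455 F474094 F379296
theorem F488953 : act 4 n194564 = n217455 := d16_0 (iv5 D217455) F369857 F352785 (iv4 F352783) D215548 (iv4 F480449) F463256 (iv7 F415740) F415742
theorem F488954 : act 0 n217455 = n194567 := d20_1 F488953 F393707 (iv3 F389988) (iv1 D193476) (iv3 F357907) (iv4 D154540) F305714 D174569 (iv3 F373270) (iv1 F393701)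
def n217456 : Q := act 7 n187330
theorem D217456 : act 7 n187330 = n217456 := rfl
theorem F488955 : act 3 n217456 = n191009 := d8_1 D217456 F381863 F379296
theorem F488956 : act 4 n217456 = n187333 := d11_1 D217456 (iv7 D187333) (iv4 F369857)
theorem F488957 : act 6 n217456 = n217380 := d14_1 D217456 (iv7 D217380) (iv6 D187251) (iv7 F138046) D187330
theorem F488958 : act 1 n199140 = n217456 := d15_1 (iv0 F410851) (iv7 D217456) (iv2 F379067)
def n217457 : Q := act 4 n187331
theorem D217457 : act 4 n187331 = n217457 := rfl
theorem F488959 : act 2 n217457 = n214803 := d1_1 D217457 F476932 F379073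
theorem F488960 : act 3 n217457 = n204771 := d5_1 D217457 (iv4 D204771) (iv3 F433462) F473938 F473933
theorem F488961 : act 5 n217457 = n214802 := d18_4 F402435 F369857 D187331 D217457 F476925 F440249 (iv4 F407859) (iv0 D196951) D196953
theorem F488962 : act 0 n190180 = n217457 := d21_1 F480036 F488961 F476926 F471730 F471729 (iv5 D154736) D154734 D213711 (iv6 F471744) D215446
def n217458 : Q := act 6 n187334
theorem D217458 : act 6 n187334 = n217458 := rfl
theorem F488963 : act 2 n217458 = n187335 := d3_1 D217458 (iv6 D187335) D187334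
theorem F488964 : act 3 n217458 = n217391 := d7_1 D217458 (iv6 D217391) (iv3 F369862)
theorem F488965 : act 5 n217458 = n191192 := d12_1 D217458 (iv6 D191192) (iv5 F291953) F291954 (iv5 F369863)
theorem F488966 : act 7 n217458 = n210449 := d14_2 (iv7 F369864) D217458 F457583 F362037 F369642
def n217459 : Q := act 0 n187335
theorem D217459 : act 0 n187335 = n217459 := rfl
theorem F488967 : act 5 n217459 = n189971 := d17_3 (iv1 D191195) (iv5 F369868) D217459 F416022 F416021 (iv0 F284400) (iv5 F382644) F382646 F382553
theorem F488968 : act 1 n210449 = n217459 := d17_6 F293078 F343046 F293075 (iv5 F147605) F348071 D210449 F488967 F378381 (iv4 D188445)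
def n217460 : Q := act 7 n187335
theorem D217460 : act 7 n187335 = n217460 := rfl
theorem F488969 : act 2 n217460 = n210449 := d4_1 D217460 (iv7 F488966) F488963
theorem F488970 : act 3 n217460 = n187338 := d8_1 D217460 (iv7 D187338) (iv3 F369867)
theorem F488971 : act 4 n217460 = n217458 := d11_1 D217460 F488966 F457584
theorem F488972 : act 5 n217460 = n187387 := d13_1 D217460 F370118 (iv5 F369868)
theorem F488973 : act 6 n217460 = n210442 := d14_1 D217460 F457554 (iv6 D187256) (iv7 F138054) D187335
def n217461 : Q := act 1 n187336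
theorem D217461 : act 1 n187336 = n217461 := rfl
theorem F488974 : act 1 n217461 = n211752 := d15_1 D217461 F462959 F415598
theorem F488975 : act 7 n217461 = n202807 := d15_2 F404496 D217461 F425668
theorem F488976 : act 5 n217461 = n194950 := d17_7 (iv1 F356058) (iv5 D113205) F175700 F394791 F394788 (iv5 F369870) D217461 F395152 F392647
theorem F488977 : act 4 n217461 = n200315 := d17_9 (iv1 D200315) (iv5 D112978) F171778 D197482 (iv4 F475756) F475757 (iv0 F380264) (iv5 F369870) D217461
theorem F488978 : act 3 n215093 = n217461 := d20_3 (iv4 F335982) D209140 (iv4 F478309) (iv1 D217461) (iv3 D187336) (iv4 D89908) (iv1 F64845) D89826 D187227 F369560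
theorem F488979 : act 6 n214560 = n217461 := d21_3 F251891 D159835 D214560 (iv1 D217461) (iv6 F476474) (iv5 D214709) (iv1 F262306) (iv5 F477261) (iv6 F477262) (iv1 D214556)
theorem F488980 : act 2 n217461 = n205286 := d3_1 F488979 F435777 (iv2 F475792)
def n217462 : Q := act 3 n187337
theorem D217462 : act 3 n187337 = n217462 := rfl
theorem F488981 : act 6 n217462 = n191044 := d7_2 (iv6 F369873) D217462 F381966
theorem F488982 : act 7 n217462 = n217357 := d8_2 (iv7 F369875) D217462 F488567
theorem F488983 : act 0 n217351 = n217462 := d21_4 F290794 D104220 F369557 D217351 F488981 (iv5 D191044) F362064 D189942 F378319 (iv1 F289705)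
def n217463 : Q := act 5 n187340
theorem D217463 : act 5 n187340 = n217463 := rfl
theorem F488984 : act 3 n217463 = n215517 := d6_1 D217463 F480295 F476643
theorem F488985 : act 7 n217463 = n215514 := d13_2 (iv7 F369888) D217463 F480289
theorem F488986 : act 4 n217463 = n191106 := d16_2 D187340 D217463 (iv5 D191106) (iv4 F259112) (iv5 F288171) F288133 (iv5 F369651) (iv7 F369885) (iv2 D187339)
theorem F488987 : act 1 n217463 = n211753 := d17_6 F369825 (iv5 F251668) (iv1 D103805) (iv5 F138060) D187340 D217463 F462962 F488516 F488514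
def n217464 : Q := act 0 n187341
theorem D217464 : act 0 n187341 = n217464 := rfl
theorem F488988 : act 5 n217464 = n190903 := d17_1 D217464 (iv1 D190903) F149640 (iv4 F369545) D217340 (iv0 F488529) F440192 (iv0 D187342) (iv4 F369891)
theorem F488989 : act 1 n215137 = n217464 := d15_0 (iv0 D217464) F369892 (iv2 F478544)
theorem F488990 : act 4 n217464 = n194909 := d18_7 D194478 (iv4 F393931) F410677 F410672 F393324 (iv4 F478545) F488989 (iv0 D194909) F160417
theorem F488991 : act 2 n215139 = n217464 := d1_3 F488990 F410811 (iv4 F478551)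
theorem F488992 : act 6 n194650 = n217464 := d10_0 F488990 (iv6 F478553) F478551
theorem F488993 : act 7 n215138 = n217464 := d11_0 F488990 F410809 (iv4 F478549)
theorem F488994 : act 7 n190903 = n190199 := d13_2 F488993 F488988 (iv5 F478547)
theorem F488995 : act 2 n190199 = n190902 := d15_3 (iv0 D190902) D190903 F488994
theorem F488996 : act 2 n190903 = n190200 := d15_3 F381366 F381367 (iv7 F488994)
theorem F488997 : act 7 n190200 = n190902 := d4_2 (iv7 F488994) F488996 (iv2 F488995)
theorem F488998 : act 3 n215515 = n217464 := d6_3 F488988 (iv3 F488791) (iv5 F488789)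
def n217465 : Q := act 1 n187341
theorem D217465 : act 1 n187341 = n217465 := rfl
theorem F488999 : act 1 n217465 = n215137 := d15_1 D217465 F478546 (iv2 F369889)
theorem F489000 : act 7 n217465 = n215139 := d15_2 (iv0 D217464) D217465 F488991
theorem F489001 : act 4 n217465 = n194910 := d18_7 (iv1 F391376) F393743 (iv1 D194578) F159235 (iv5 F138066) (iv4 F369891) D217465 F394966 F393954
theorem F489002 : act 6 n215694 = n217465 := d21_3 (iv5 F481146) (iv1 D215693) D215694 (iv1 D217465) (iv6 D187341) F138063 (iv1 F148099) F148096 F376176 (iv1 F378862)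
theorem F489003 : act 3 n217465 = n215696 := d7_1 F489002 (iv6 D215696) (iv3 F481148)
theorem F489004 : act 2 n215138 = n217465 := d1_3 F489001 (iv2 F410808) (iv4 F478549)
theorem F489005 : act 5 n190902 = n217465 := d17_3 (iv1 D187219) (iv5 F149640) D190902 F489001 (iv5 F402452) (iv0 F488929) (iv5 D217448) (iv0 F378777) (iv4 F393940)
def n217466 : Q := act 5 n187341
theorem D217466 : act 5 n187341 = n217466 := rfl
theorem F489006 : act 2 n217466 = n217384 := d2_1 D217466 (iv5 D217384) (iv2 F369889)
theorem F489007 : act 3 n217466 = n214818 := d6_1 D217466 F476981 (iv3 F369890)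
theorem F489008 : act 6 n217466 = n190169 := d12_2 D187341 D217466 F379024 (iv6 D104651) (iv5 F138063)
theorem F489009 : act 7 n217466 = n214814 := d13_2 (iv7 F369892) D217466 F476976
theorem F489010 : act 4 n217466 = n197919 := d16_2 (iv4 F369891) D217466 (iv5 D197919) (iv4 F406193) (iv5 F410673) F410672 F393324 (iv7 D187261) (iv2 F138065)
theorem F489011 : act 0 n217466 = n217415 := d17_2 (iv1 D217465) D217466 (iv5 D217415) (iv4 F476612) (iv5 F476615) (iv0 D194478) (iv5 F160417) D194910 (iv4 F489001)
theorem F489012 : act 1 n217466 = n217417 := d17_6 (iv1 F488537) F379183 (iv1 D103810) (iv5 F138066) (iv4 F369891) D217466 (iv5 D217417) F369751 (iv4 F488534)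
def n217467 : Q := act 4 n187342
theorem D217467 : act 4 n187342 = n217467 := rfl
theorem F489013 : act 2 n217467 = n217386 := d1_1 D217467 (iv4 D217386) F402396
theorem F489014 : act 7 n217467 = n217388 := d11_2 (iv7 F402395) D217467 (iv4 D217388)
theorem F489015 : act 5 n217467 = n191033 := d17_5 F476701 (iv5 D211754) F440191 F440192 D217467 F381940 F379322 F369846 (iv4 F476699)
theorem F489016 : act 0 n217467 = n214926 := d17_0 (iv5 F488742) F488946 (iv5 D217452) (iv4 F379181) F379183 F393326 F393324 F369899 D217467
theorem F489017 : act 3 n217467 = n217369 := d19_3 F440191 F440192 D217467 F488739 (iv5 D217400) F369661 (iv3 F394964) (iv1 F462896) F462894 F226769 F223676 F169648 F337412 (iv4 F203098) F203097 F103360 (iv5 D67500) D67499 D144066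
theorem F489018 : act 6 n187342 = n217467 := d7_0 F489017 F488600 (iv3 F440193)
theorem F489019 : act 0 n187347 = n217467 := d21_4 (iv5 D48400) D48397 (iv5 F138075) D187347 (iv6 F489018) (iv5 F440192) F488529 (iv5 D217340) (iv6 D187217) F137860
def n217468 : Q := act 3 n187343
theorem D217468 : act 3 n187343 = n217468 := rfl
theorem F489020 : act 7 n217468 = n217385 := d8_2 F402394 D217468 (iv3 D217385)
def n217469 : Q := act 4 n187343
theorem D217469 : act 4 n187343 = n217469 := rfl
theorem F489021 : act 2 n217469 = n217388 := d1_1 D217469 (iv4 D217388) (iv2 F402393)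
theorem F489022 : act 7 n217469 = n217386 := d11_2 F402394 D217469 (iv4 D217386)
theorem F489023 : act 5 n217469 = n191032 := d17_5 F381971 D217340 (iv1 F488530) F402392 D217469 (iv0 D191032) F149882 D187241 (iv4 F381970)
theorem F489024 : act 0 n217469 = n187347 := d17_0 (iv5 F488666) F488940 (iv5 D217450) F393751 (iv5 D194581) (iv0 D103809) (iv5 F138066) D187343 D217469
theorem F489025 : act 1 n217469 = n214926 := d15_1 (iv0 F489024) F477470 (iv2 F369908)
def n217470 : Q := act 6 n187343
theorem D217470 : act 6 n187343 = n217470 := rfl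
theorem F489026 : act 2 n217470 = n217389 := d3_1 D217470 (iv6 D217389) (iv2 F402393)
theorem F489027 : act 5 n217470 = n216884 := d12_1 D217470 F486379 (iv5 D196941) D196942 F402392
theorem F489028 : act 0 n217470 = n190364 := d21_4 D217340 (iv1 F488530) F402392 D217470 F379556 (iv5 D95940) D95938 F149923 D191045 F381971
theorem F489029 : act 0 n187356 = n217470 := d21_4 (iv5 F378794) F369945 (iv5 D187355) D187356 (iv6 D217470) (iv5 F402392) F402397 D211754 F462964 (iv1 F381613)
def n217471 : Q := act 0 n187345
theorem D217471 : act 0 n187345 = n217471 := rfl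
theorem F489030 : act 5 n217471 = n194157 := d19_1 D217471 F406095 (iv3 F434391) F434394 (iv5 D202492) F180226 (iv3 F180215) D202482 F425941 F420787 F367884 F289945 (iv5 F74570) (iv4 F156947) F156946 (iv1 F75584) D48411 (iv4 F138068) D187345
theorem F489031 : act 3 n217471 = n202833 := d20_5 (iv4 D95622) (iv1 F76085) (iv4 F138068) D187345 D217471 (iv4 D202833) (iv1 F404503) F404500 (iv3 D187257) (iv1 F147299)
theorem F489032 : act 2 n194159 = n217471 := d15_3 (iv0 D217471) (iv0 F476950) F476948
theorem F489033 : act 1 n217397 = n217471 := d15_0 (iv0 D217471) F369904 D217397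
theorem F489034 : act 7 n217471 = n217396 := d15_2 F488730 F489033 (iv2 F488723)
def n217472 : Q := act 4 n187345
theorem D217472 : act 4 n187345 = n217472 := rfl
theorem F489035 : act 2 n217472 = n212550 := d1_1 D217472 F466383 F409042
theorem F489036 : act 3 n217472 = n194899 := d5_1 D217472 (iv4 D194899) F160388 (iv4 F138068) D187345
theorem F489037 : act 6 n217472 = n217402 := d10_2 (iv6 F369903) D217472 (iv4 D217402)
theorem F489038 : act 7 n217472 = n217398 := d11_2 (iv7 F369904) D217472 (iv4 D217398)
theorem F489039 : act 5 n217472 = n205435 := d17_5 (iv1 F476957) (iv5 D214809) F365703 (iv5 F369902) D217472 (iv0 F436409) D205503 (iv0 F436739) F379131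
theorem F489040 : act 0 n217472 = n190223 := d17_0 (iv5 D190223) (iv1 D95747) D95748 D190227 (iv5 F379125) F392204 (iv5 F489030) (iv0 D217471) D217472
theorem F489041 : act 0 n190219 = n217472 := d17_2 D95746 D190219 F489039 (iv4 D205435) (iv5 F434598) (iv0 D205013) (iv5 F229436) F347826 (iv4 F310752)
def n217473 : Q := act 6 n187346
theorem D217473 : act 6 n187346 = n217473 := rfl
theorem F489042 : act 3 n217473 = n187347 := d7_1 D217473 (iv6 D187347) D187346
theorem F489043 : act 4 n217473 = n211792 := d10_1 D217473 (iv6 D211792) (iv4 F369905)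
theorem F489044 : act 7 n217473 = n217403 := d14_2 (iv7 F369907) D217473 (iv6 D217403) F443914 F443912
def n217474 : Q := act 2 n187353
theorem D217474 : act 2 n187353 = n217474 := rfl
theorem F489045 : act 5 n217474 = n202814 := d2_2 (iv5 F443534) D217474 (iv2 F443530)
theorem F489046 : act 1 n217474 = n217358 := d15_0 (iv0 F488870) F488869 D217474
theorem F489047 : act 1 n209316 = n217474 := d15_0 F489046 F488572 (iv2 F453190)
theorem F489048 : act 4 n198740 = n217474 := d18_7 (iv1 F453179) F453180 (iv1 D195510) F162238 D109348 D198481 (iv0 F451276) F489046 F488571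
theorem F489049 : act 6 n217474 = n198504 := d21_5 (iv5 D89836) D89833 D187230 D217358 (iv1 F489046) F420334 F420333 D208032 F447529 (iv1 D187235)
def n217475 : Q := act 4 n187353
theorem D217475 : act 4 n187353 = n217475 := rfl
theorem F489050 : act 2 n217475 = n198740 := d1_1 D217475 F489048 (iv2 D217474)
theorem F489051 : act 6 n198701 = n217475 := d3_0 F489050 (iv6 D198740) (iv2 F408932)
def n217476 : Q := act 6 n187353
theorem D217476 : act 6 n187353 = n217476 := rfl
theorem F489052 : act 2 n217476 = n198504 := d3_1 D217476 (iv6 F489049) (iv2 D217474)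
theorem F489053 : act 3 n217476 = n187356 := d7_1 D217476 (iv6 D187356) D187353
theorem F489054 : act 4 n217476 = n198701 := d10_1 D217476 F489051 (iv4 D217475)
theorem F489055 : act 5 n217476 = n200443 := d12_1 D217476 (iv6 D200443) (iv5 F361834) D207151 (iv5 F443534)
theorem F489056 : act 7 n217476 = n198505 := d14_2 F488869 D217476 (iv6 F466381) F466382 (iv6 F488868)
theorem F489057 : act 1 n198508 = n217476 := d15_1 F488748 F489056 (iv2 F488744)
theorem F489058 : act 1 n217476 = n198379 := d15_1 F489057 (iv7 F451281) F451278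
def n217477 : Q := act 3 n187354
theorem D217477 : act 3 n187354 = n217477 := rfl
theorem F489059 : act 5 n217477 = n206149 := d6_2 (iv5 F369938) D217477 (iv3 D206149)
theorem F489060 : act 7 n217477 = n206175 := d8_2 (iv7 F369937) D217477 F439580
theorem F489061 : act 0 n217477 = n201189 := d20_4 F138083 D89918 D187354 D217477 F419374 F290521 D190039 (iv4 F477947) (iv3 F477948) (iv1 D187352)
theorem F489062 : act 6 n208088 = n217477 := d21_9 (iv5 D201189) F177603 (iv5 F251891) (iv6 D159821) D159818 (iv6 F443905) (iv5 D207230) (iv1 F214436) (iv5 F447826) F489061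
theorem F489063 : act 1 n217477 = n214560 := d15_1 (iv0 F489061) F475794 (iv2 F419373)
def n217478 : Q := act 6 n187354
theorem D217478 : act 6 n187354 = n217478 := rfl
theorem F489064 : act 2 n217478 = n206169 := d3_1 D217478 (iv6 D206169) (iv2 F369936)
theorem F489065 : act 3 n217478 = n208088 := d7_1 D217478 F489062 (iv3 D217477)
theorem F489066 : act 4 n217478 = n187356 := d10_1 D217478 (iv6 D187356) D187354
theorem F489067 : act 5 n217478 = n189618 := d12_1 D217478 F380300 (iv5 D190615) F352649 (iv5 F369938)
theorem F489068 : act 7 n217478 = n208079 := d14_2 (iv7 F369937) D217478 F447796 (iv7 F381651) (iv6 F381654)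
theorem F489069 : act 0 n217478 = n215694 := d21_4 (iv5 F148328) F320029 (iv5 F369938) D217478 F489002 (iv5 F489005) (iv1 F381498) F379011 F369753 (iv1 F149731)
def n217479 : Q := act 1 n187356
theorem D217479 : act 1 n187356 = n217479 := rfl
theorem F489070 : act 1 n217479 = n190364 := d15_1 D217479 (iv7 F486071) F486068
theorem F489071 : act 7 n217479 = n217389 := d15_2 (iv0 F489029) D217479 (iv2 F489026)
theorem F489072 : act 5 n217479 = n190431 := d17_7 F344301 F129395 D88614 (iv5 F335768) D189614 (iv5 F377121) D217479 (iv0 F476725) (iv4 D189222)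
theorem F489073 : act 4 n217479 = n217389 := d17_9 F488688 F466387 (iv1 F395306) (iv5 D194984) F160695 F367203 (iv0 F377120) (iv5 F377121) D217479
theorem F489074 : act 6 n217388 = n217479 := d21_3 (iv5 F147515) D190313 (iv5 F488684) (iv1 D217479) (iv6 D187356) D187355 (iv1 F369946) (iv5 F378782) (iv6 F378786) (iv1 D187326)
def n217480 : Q := act 1 n187357
theorem D217480 : act 1 n187357 = n217480 := rfl
theorem F489075 : act 7 n217480 = n191037 := d15_2 (iv0 F488877) D217480 (iv2 F488874)
theorem F489076 : act 6 n214867 = n217480 := d21_3 (iv5 D198511) F365804 D214867 (iv1 D217480) (iv6 F477949) F477946 (iv1 F379547) (iv5 F419613) F419617 F408177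
theorem F489077 : act 5 n209310 = n217480 := d21_6 D47463 D102267 F325807 (iv6 D136303) D136300 D209310 (iv1 D217480) (iv5 F378408) (iv6 D102263) (iv1 D47461)
theorem F489078 : act 3 n217480 = n211505 := d6_1 F489077 (iv5 D211505) (iv3 F453156)
theorem F489079 : act 2 n214869 = n217480 := d0_5 F489078 F473959 F473957 (iv2 F257546) (iv3 F477213)
def n217481 : Q := act 2 n187357
theorem D217481 : act 2 n187357 = n217481 := rfl
theorem F489080 : act 4 n217481 = n194908 := d1_2 F462884 D217481 F462886
theorem F489081 : act 5 n217481 = n193724 := d2_2 F378408 D217481 F390792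
theorem F489082 : act 6 n217481 = n194907 := d3_2 F477949 D217481 F477950
theorem F489083 : act 1 n217481 = n214869 := d15_0 (iv0 F488864) F488863 D217481
theorem F489084 : act 1 n191037 = n217481 := d15_0 F489083 (iv7 F488876) F488874
def n217482 : Q := act 3 n187373
theorem D217482 : act 3 n187373 = n217482 := rfl
theorem F489085 : act 2 n217482 = n214693 := d0_1 D217482 (iv3 D214693) (iv2 F370045) F276107 (iv2 F370049)
theorem F489086 : act 4 n217482 = n216119 := d5_2 F370048 D217482 (iv3 D216119) (iv4 F474723) (iv3 D214354)
theorem F489087 : act 6 n217482 = n210026 := d7_2 F477221 D217482 (iv3 F477224)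
theorem F489088 : act 7 n217482 = n215650 := d8_2 (iv7 F370047) D217482 (iv3 D215650)
theorem F489089 : act 0 n217482 = n194942 := d20_10 F395115 (iv1 D163423) (iv4 F193183) (iv3 D121135) F88431 D78468 F119667 D158868 F370048 D217482
theorem F489090 : act 0 n199894 = n217482 := d20_4 D109357 F169871 (iv4 F174000) (iv3 F414021) (iv3 D217482) (iv4 F370048) (iv1 F250127) (iv4 F326721) (iv3 F326235) (iv1 F169234)
theorem F489091 : act 1 n214719 = n194942 := d15_0 (iv0 F489089) F489088 F480962
def n217483 : Q := act 5 n187373
theorem D217483 : act 5 n187373 = n217483 := rfl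
theorem F489092 : act 2 n217483 = n194763 := d2_1 D217483 F394376 (iv2 F370049)
theorem F489093 : act 4 n217483 = n214633 := d9_1 D217483 (iv5 D214633) (iv4 F327277) F348769 F341830 (iv5 F348777) (iv4 F370039) (iv5 F429431) (iv4 D203692) (iv5 D120273) (iv4 F122732) (iv5 F294903) F348786 F348783 F370048
theorem F489094 : act 7 n217483 = n215651 := d13_2 (iv7 F370047) D217483 (iv5 D215651)
theorem F489095 : act 0 n217483 = n191013 := d17_2 (iv1 F392643) D217483 F381875 F254192 D176887 F445656 (iv5 F477640) (iv0 F477645) (iv4 F392640)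
theorem F489096 : act 6 n217483 = n191020 := d21_3 (iv5 F392641) (iv1 F392643) D217483 (iv1 F381904) (iv6 F363593) (iv5 F340350) (iv1 F378100) (iv5 F378103) (iv6 F378104) (iv1 F381525)
def n217484 : Q := act 0 n187378
theorem D217484 : act 0 n187378 = n217484 := rfl
theorem F489097 : act 4 n217484 = n190211 := d18_3 (iv1 F356268) D187378 D217484 (iv5 D190211) F147423 F157628 F63048 D45518 D97469
theorem F489098 : act 2 n189251 = n217484 := d15_3 (iv0 D217484) (iv0 F376584) (iv7 F376231)
theorem F489099 : act 1 n189430 = n217484 := d15_0 (iv0 D217484) F370076 F376594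
theorem F489100 : act 7 n217484 = n189431 := d15_2 D189430 F489099 (iv2 D189431)
theorem F489101 : act 3 n189396 = n217484 := d19_19 (iv1 F489099) (iv5 F376595) F376534 F157674 (iv1 D61295) (iv5 F49860) (iv4 F103897) (iv3 F332780) F332778 (iv5 F332800) F161412 (iv3 F161399) F202000 (iv5 F202261) F202262 D130701 F367056 F376294 (iv4 F376894)
def n217485 : Q := act 6 n187378
theorem D217485 : act 6 n187378 = n217485 := rfl
theorem F489102 : act 2 n217485 = n189411 := d3_1 D217485 F376552 F376532
theorem F489103 : act 3 n217485 = n207481 := d7_1 D217485 F445105 F382601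
theorem F489104 : act 4 n217485 = n187379 := d10_1 D217485 (iv6 D187379) D187378
theorem F489105 : act 5 n217485 = n189252 := d12_1 D217485 (iv6 D189252) F144613 D189246 (iv5 F376207)
theorem F489106 : act 0 n189320 = n217485 := d19_0 F489105 F376233 (iv3 F376225) (iv1 F443795) F443792 (iv4 F455807) F455806 F346720 F346718 (iv4 D110756) (iv3 F163353) D195810 F398282 (iv4 F164462) F164463 (iv1 D62614) F83010 D93882 D189320
def n217486 : Q := act 3 n187381
theorem D217486 : act 3 n187381 = n217486 := rfl
theorem F489107 : act 2 n217486 = n200025 := d0_1 D217486 F414664 F352930 F377491 F377490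
theorem F489108 : act 5 n217486 = n200002 := d6_2 F434972 D217486 (iv3 F434971)
theorem F489109 : act 7 n217486 = n200001 := d8_2 (iv7 F377489) D217486 F414562
theorem F489110 : act 0 n217486 = n200023 := d19_4 D49271 D106632 F370082 D217486 (iv5 F415995) F415994 (iv3 F176181) (iv1 F167051) (iv5 D108054) F78944 F48165 F23761 (iv5 D7678) D7677 F11923 (iv1 D5201) D5202 D11281 D24044
theorem F489111 : act 0 n200022 = n217486 := d20_4 D210448 (iv1 F482756) F482754 (iv3 F434488) (iv3 D217486) (iv4 F370082) (iv1 F358255) F257695 (iv3 F348760) F319043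
def n217487 : Q := act 5 n187384
theorem D217487 : act 5 n187384 = n217487 := rfl
theorem F489112 : act 2 n217487 = n215702 := d2_1 D217487 (iv5 F481174) (iv2 F370094)
theorem F489113 : act 3 n217487 = n190815 := d6_1 D217487 F381220 (iv3 F370096)
theorem F489114 : act 7 n217487 = n200332 := d13_2 (iv7 F370095) D217487 F416021
theorem F489115 : act 0 n217487 = n216885 := d17_2 F370174 D217487 F486383 F376500 (iv5 F483083) (iv0 F483086) (iv5 F481174) (iv0 F288962) (iv4 F370171)
theorem F489116 : act 1 n217487 = n190818 := d17_6 (iv1 D45079) D45080 D96545 (iv5 F343077) D187384 D217487 (iv5 D190818) F205508 (iv4 D96542)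
theorem F489117 : act 4 n217487 = n190763 := d18_5 (iv1 D89994) F64942 D89993 D187384 D217487 (iv0 D190763) (iv4 D96547) D96546 (iv5 F343072)
theorem F489118 : act 6 n215700 = n217487 := d10_0 F489117 F380959 D215700
def n217488 : Q := act 5 n187386
theorem D217488 : act 5 n187386 = n217488 := rfl
theorem F489119 : act 2 n217488 = n200332 := d2_1 D217488 F416021 (iv2 F370105)
theorem F489120 : act 3 n217488 = n190642 := d6_1 D217488 (iv5 D190642) (iv3 F370108)
theorem F489121 : act 6 n217488 = n200325 := d12_2 (iv6 F370106) D217488 F416005 F392425 (iv5 D194229)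
theorem F489122 : act 7 n217488 = n215702 := d13_2 (iv7 F370107) D217488 (iv5 F481174)
theorem F489123 : act 0 n217488 = n190818 := d17_2 F393037 D217488 (iv5 D190818) F149542 D190029 (iv0 F416023) F416021 (iv0 F284400) (iv4 F393034)
theorem F489124 : act 1 n217488 = n216885 := d17_6 (iv1 F70979) (iv5 F147138) (iv1 F148708) (iv5 F343072) D187386 D217488 F486383 (iv0 F376504) (iv4 D96537)
theorem F489125 : act 4 n217488 = n190764 := d18_5 (iv1 F138240) F133982 (iv1 F138245) D187386 D217488 F380955 F378385 F148713 (iv5 F343077)
def n217489 : Q := act 0 n187387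
theorem D217489 : act 0 n187387 = n217489 := rfl
theorem F489126 : act 4 n217489 = n189964 := d18_3 (iv1 F291967) D187387 D217489 (iv5 D189964) (iv4 D95508) F294336 F67265 (iv0 F294337) D95505
theorem F489127 : act 3 n217489 = n202819 := d20_5 F370189 (iv1 D163607) (iv4 F327101) (iv3 F370117) D217489 F425717 (iv1 F425651) (iv4 F425640) F370186 D187401
theorem F489128 : act 1 n191192 = n217489 := d15_0 (iv0 D217489) F370118 (iv2 F382543)
theorem F489129 : act 6 n211810 = n217489 := d7_0 F489127 F425718 (iv3 F463162)
theorem F489130 : act 7 n191194 = n217489 := d8_0 F489127 (iv7 D202819) F382551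
theorem F489131 : act 2 n217489 = n191195 := d15_3 F382552 F382550 F489130
def n217490 : Q := act 1 n187387
theorem D217490 : act 1 n187387 = n217490 := rfl
theorem F489132 : act 1 n217490 = n191192 := d15_1 D217490 F382545 (iv2 F370116)
theorem F489133 : act 7 n217490 = n191195 := d15_2 (iv0 D217489) D217490 (iv2 F489131)
theorem F489134 : act 4 n217490 = n189960 := d18_7 F393037 (iv4 D187386) (iv1 D89994) F64942 D89996 D187387 D217490 (iv0 F393039) (iv5 F393035)
theorem F489135 : act 3 n211826 = n217490 := d19_19 (iv1 D217490) (iv5 F488972) F488971 F488964 F488700 F477955 F448013 (iv3 F377392) (iv1 D189684) D189686 F403347 (iv3 F403339) (iv1 F465144) (iv5 D212285) (iv4 F397374) F397373 (iv1 F366057) D207270 (iv4 F463214)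
theorem F489136 : act 6 n202812 = n217490 := d21_3 (iv5 D144108) (iv1 F182903) D202812 (iv1 D217490) (iv6 F370119) (iv5 D138923) (iv1 F112014) (iv5 F340019) (iv6 D144206) (iv1 F340511)
theorem F489137 : act 2 n217490 = n191194 := d3_1 F489136 F382549 (iv2 F425694)
def n217491 : Q := act 3 n187390
theorem D217491 : act 3 n187390 = n217491 := rfl
theorem F489138 : act 4 n217491 = n188446 := d5_2 F370134 D217491 F373506 F141184 (iv3 F347527)
theorem F489139 : act 5 n217491 = n198382 := d6_2 F444946 D217491 F444948
theorem F489140 : act 6 n217491 = n188445 := d7_2 F373499 D217491 F373504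
theorem F489141 : act 7 n217491 = n187419 := d8_2 (iv7 F370132) D217491 (iv3 D187419)
theorem F489142 : act 0 n217491 = n191147 := d19_4 (iv1 F213155) (iv5 F213571) F370134 D217491 (iv5 F382409) F173487 (iv3 D58969) (iv1 D28024) F22240 (iv4 F45290) (iv3 F93153) D125893 F330422 D135687 (iv3 F349620) F349618 (iv5 F332609) (iv4 F332617) D131976
theorem F489143 : act 1 n217491 = n199823 := d15_1 (iv0 F489142) F413653 F407766
theorem F489144 : act 2 n198515 = n217491 := d15_3 F489143 (iv0 F413906) F413904
def n217492 : Q := act 3 n187394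
theorem D217492 : act 3 n187394 = n217492 := rfl
theorem F489145 : act 2 n217492 = n216882 := d0_1 D217492 F486365 (iv2 F291631) (iv3 F293679) F370156
theorem F489146 : act 4 n217492 = n215948 := d5_2 (iv4 F370155) D217492 F482220 F463044 (iv3 F350529)
theorem F489147 : act 5 n217492 = n187397 := d6_2 (iv5 F370154) D217492 (iv3 D187397)
theorem F489148 : act 7 n217492 = n191224 := d8_2 (iv7 F370153) D217492 (iv3 D191224)
theorem F489149 : act 0 n217492 = n189964 := d19_4 (iv1 F158078) (iv5 F350530) (iv4 F370155) D217492 (iv5 D189964) (iv4 D95508) (iv3 F335315) (iv1 F335317) D190960 F451699 (iv3 D208983) (iv1 D135528) (iv5 D63723) F48330 (iv3 F40712) F81417 (iv5 D51585) D51584 (iv3 F327946)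
theorem F489150 : act 0 n189960 = n217492 := d20_4 F364265 D208025 F447503 (iv3 F378376) (iv3 D217492) F370155 (iv1 F306988) F306989 (iv3 F226893) F360342
theorem F489151 : act 6 n217492 = n213750 := d21_5 (iv5 D144083) (iv1 F182868) (iv5 F425537) (iv6 F425539) F489150 (iv5 D213750) F365887 D200008 F414597 (iv1 F365097)
def n217493 : Q := act 6 n187394
theorem D217493 : act 6 n187394 = n217493 := rfl
theorem F489152 : act 2 n217493 = n191223 := d3_1 D217493 (iv6 D191223) F370156
theorem F489153 : act 3 n217493 = n213750 := d7_1 D217493 (iv6 F489151) (iv3 D217492)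
theorem F489154 : act 4 n217493 = n202845 := d10_1 D217493 (iv6 D202845) (iv4 F370155)
theorem F489155 : act 5 n217493 = n189836 := d12_1 D217493 (iv6 D189836) (iv5 D95320) (iv6 F292555) (iv5 F370154)
theorem F489156 : act 0 n217493 = n206396 := d21_4 (iv5 D181897) (iv1 F138310) (iv5 F370154) D217493 (iv6 D206396) D206395 F440579 (iv5 F382640) (iv6 D191222) (iv1 F365034)
def n217494 : Q := act 4 n187398
theorem D217494 : act 4 n187398 = n217494 := rfl
theorem F489157 : act 2 n217494 = n187399 := d1_1 D217494 (iv4 D187399) (iv2 F370176)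
theorem F489158 : act 5 n217494 = n214894 := d9_2 D187398 D217494 (iv4 D214894) F367210 (iv4 D94349) F292529 F64566 D86878 D181900 (iv5 F283197) F276104 (iv5 F392331) (iv4 D194193) (iv5 D102927) (iv4 F138307)
theorem F489159 : act 6 n217494 = n202801 := d10_2 (iv6 F370181) D217494 (iv4 F425644)
theorem F489160 : act 7 n217494 = n216100 := d11_2 (iv7 F370178) D217494 F482953
theorem F489161 : act 0 n217494 = n190393 := d17_0 F379655 (iv1 F474491) F474488 (iv4 D187395) (iv5 D90004) D90002 F365108 (iv0 F370179) D217494
theorem F489162 : act 1 n217494 = n190262 := d18_6 (iv1 F350522) (iv4 F350504) (iv1 F137494) (iv4 F138307) D187398 D217494 (iv4 D190262) F177441 (iv5 F76243)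
def n217495 : Q := act 6 n187402
theorem D217495 : act 6 n187402 = n217495 := rfl
theorem F489163 : act 2 n217495 = n216817 := d3_1 D217495 (iv6 D216817) F370198
theorem F489164 : act 3 n217495 = n188525 := d7_1 D217495 F448268 F448267
theorem F489165 : act 4 n217495 = n214918 := d10_1 D217495 (iv6 D214918) (iv4 F370197)
theorem F489166 : act 0 n217495 = n211735 := d21_4 F445638 (iv1 F476609) F476608 D217495 F462898 F348783 (iv1 F250127) D176733 (iv6 F478398) F478400
def n217496 : Q := act 4 n187408
theorem D217496 : act 4 n187408 = n217496 := rfl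
theorem F489167 : act 2 n217496 = n191146 := d1_1 D217496 (iv4 D191146) (iv2 F370228)
theorem F489168 : act 3 n217496 = n208887 := d5_1 D217496 (iv4 D208887) (iv3 F367061) (iv4 F364461) (iv3 F370229)
theorem F489169 : act 7 n217496 = n191148 := d11_2 (iv7 F370230) D217496 (iv4 D191148)
def n217497 : Q := act 4 n187409
theorem D217497 : act 4 n187409 = n217497 := rfl
theorem F489170 : act 2 n217497 = n187410 := d1_1 D217497 (iv4 D187410) D187409
theorem F489171 : act 6 n217497 = n215665 := d10_2 (iv6 F370235) D217497 (iv4 D215665)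
theorem F489172 : act 7 n217497 = n191143 := d11_2 (iv7 F370236) D217497 (iv4 D191143)
theorem F489173 : act 0 n217497 = n191150 := d18_2 (iv1 F370237) D217497 (iv4 F382741) F382739 F287916 F293663 F292624 F138331 (iv5 F357386)
theorem F489174 : act 1 n217497 = n190499 := d18_6 (iv1 D96052) F70407 (iv1 F136555) F294589 (iv5 F370234) D217497 (iv4 D190499) (iv0 F379869) (iv5 D190483)
def n217498 : Q := act 1 n187410
theorem D217498 : act 1 n187410 = n217498 := rfl
theorem F489175 : act 1 n217498 = n191143 := d15_1 D217498 (iv7 F489172) F489170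
theorem F489176 : act 7 n217498 = n191150 := d15_2 (iv0 F373638) D217498 F382742
theorem F489177 : act 4 n217498 = n190498 := d18_7 (iv1 F149509) F147666 (iv1 D88969) F294112 (iv5 F138378) D187410 D217498 (iv0 F381196) (iv5 D190811)
theorem F489178 : act 2 n190499 = n217498 := d1_3 F489177 (iv2 D190498) D190499
theorem F489179 : act 6 n200051 = n217498 := d10_0 F489177 (iv6 F379918) D200051
def n217499 : Q := act 5 n187410
theorem D217499 : act 5 n187410 = n217499 := rfl
theorem F489180 : act 3 n217499 = n216824 := d6_1 D217499 F486072 F476740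
theorem F489181 : act 7 n217499 = n191152 := d13_2 (iv7 F370239) D217499 (iv5 D191152)
def n217500 : Q := act 3 n187415
theorem D217500 : act 3 n187415 = n217500 := rfl
theorem F489182 : act 2 n217500 = n211712 := d0_1 D217500 (iv3 D211712) (iv2 F306963) (iv3 F372120) F379937
theorem F489183 : act 7 n217500 = n191169 := d8_2 (iv7 F379938) D217500 (iv3 D191169)
theorem F489184 : act 0 n217500 = n190751 := d20_4 (iv4 F382717) (iv1 F477339) F477341 D217500 F380912 F357465 (iv1 F151169) D103014 F355616 (iv1 F294707)
theorem F489185 : act 4 n195513 = n217500 := d19_2 (iv1 F347191) D195513 (iv3 D217500) (iv1 D187415) F291961 (iv4 F158505) (iv3 F367015) (iv1 D126712) D126714 F354177 F354193 F411284 F411286 (iv4 F453503) (iv3 F453508) (iv1 F222490) (iv5 D133981) (iv4 F176145) (iv3 F176209)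
theorem F489186 : act 6 n217500 = n198366 := d10_2 (iv6 F397191) F489185 (iv4 D198366)
theorem F489187 : act 1 n217500 = n214361 := d18_6 (iv1 F414210) F391906 (iv1 D105645) (iv4 F162241) D195513 F489185 F474765 F455317 F425545
def n217501 : Q := act 6 n187415
theorem D217501 : act 6 n187415 = n217501 := rfl
theorem F489188 : act 2 n217501 = n191172 := d3_1 D217501 (iv6 D191172) F379937
theorem F489189 : act 3 n217501 = n198366 := d7_1 D217501 (iv6 F489186) (iv3 D217500)
theorem F489190 : act 4 n217501 = n207592 := d10_1 D217501 F477342 F477341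
theorem F489191 : act 0 n217501 = n200413 := d21_4 F381017 D194298 F392729 D217501 (iv6 F477251) (iv5 D214879) (iv1 F476674) F476673 (iv6 F454476) F454475
theorem F489192 : act 0 n187421 = n217501 := d21_4 D132116 F370270 (iv5 D187420) D187421 (iv6 D217501) (iv5 F392729) (iv1 F461810) F461806 F382342 (iv1 D132115)
def n217502 : Q := act 6 n187418
theorem D217502 : act 6 n187418 = n217502 := rfl
theorem F489193 : act 2 n217502 = n205398 := d3_1 D217502 F436244 F373475
theorem F489194 : act 4 n217502 = n208199 := d10_1 D217502 (iv6 D208199) (iv4 F370267)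
theorem F489195 : act 5 n217502 = n197839 := d12_1 D217502 (iv6 F435124) (iv5 D205141) (iv6 F373481) (iv5 F373480)
theorem F489196 : act 7 n217502 = n205399 := d14_2 (iv7 F373476) D217502 (iv6 F440981) F440982 F358222
theorem F489197 : act 0 n197046 = n217502 := d21_4 F211428 D133389 (iv5 F343683) D197046 (iv6 D217502) F373480 (iv1 D188438) (iv5 F141242) (iv6 F359022) F373565
def n217503 : Q := act 6 n187419
theorem D217503 : act 6 n187419 = n217503 := rfl
theorem F489198 : act 2 n217503 = n200411 := d3_1 D217503 (iv6 F416327) F413903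
theorem F489199 : act 3 n217503 = n187421 := d7_1 D217503 (iv6 D187421) D187419
theorem F489200 : act 4 n217503 = n190747 := d10_1 D217503 F477672 F477670
theorem F489201 : act 7 n217503 = n190746 := d14_2 F489141 D217503 F380894 (iv7 F373505) (iv6 F489140)
theorem F489202 : act 0 n217503 = n200425 := d21_4 (iv5 F354547) (iv1 F409396) (iv5 F409394) D217503 (iv6 D200425) (iv5 D113100) (iv1 F347194) (iv5 F365093) (iv6 F365094) F354550
theorem F489203 : act 0 n214155 = n217503 := d21_4 (iv5 D74601) D74599 D156870 D214155 (iv6 D217503) F409394 F409393 (iv5 F413660) (iv6 F413664) (iv1 D156876)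
def n217504 : Q := act 1 n187421
theorem D217504 : act 1 n187421 = n217504 := rfl
theorem F489204 : act 1 n217504 = n200413 := d15_1 D217504 F416333 F379864
theorem F489205 : act 7 n217504 = n191172 := d15_2 (iv0 F489192) D217504 (iv2 F489188)
theorem F489206 : act 4 n217504 = n197047 := d17_9 F444545 F359028 F217214 (iv5 F359026) (iv4 F141184) F293081 D190014 (iv5 F378560) D217504
theorem F489207 : act 5 n190392 = n217504 := d21_0 (iv1 D217504) F378560 (iv6 F481100) (iv1 D215681) (iv6 F356891) (iv5 F395178) (iv1 F399745) F399747 F379631 F399750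
theorem F489208 : act 6 n191098 = n217504 := d21_3 (iv5 F295476) D110998 F382213 (iv1 D217504) (iv6 D187421) D187420 F370269 (iv5 F382297) F382299 (iv1 D97387)
def n217505 : Q := act 1 n187422
theorem D217505 : act 1 n187422 = n217505 := rfl
theorem F489209 : act 7 n217505 = n191177 := d15_2 (iv0 F477743) D217505 (iv2 F477737)
theorem F489210 : act 5 n217505 = n199884 := d17_7 F362943 (iv5 D60632) D60628 D128912 D206583 F441431 D217505 (iv0 D199884) F173977
theorem F489211 : act 4 n217505 = n200268 := d17_9 F421778 (iv5 D201778) (iv1 F250876) F250872 (iv4 F444636) F444637 F441432 F441431 D217505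
theorem F489212 : act 2 n207241 = n217505 := d1_3 F489211 F415762 (iv4 F443933)
theorem F489213 : act 6 n200267 = n217505 := d10_0 F489211 (iv6 D200268) D200267
theorem F489214 : act 0 n200412 = n217505 := d20_1 (iv4 F416329) F489211 (iv3 F468425) (iv1 F468428) (iv3 F414662) (iv4 D200024) D200022 F414660 (iv3 F377581) F415881
def n217506 : Q := act 2 n187422
theorem D217506 : act 2 n187422 = n217506 := rfl
theorem F489215 : act 3 n217506 = n198515 := d0_2 D187422 D217506 F489144 (iv3 D217491) (iv2 F370133)
theorem F489216 : act 5 n217506 = n198512 := d2_2 F441431 D217506 (iv2 F441427)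
theorem F489217 : act 7 n217506 = n200412 := d4_2 (iv7 F416468) D217506 (iv2 F416463)
theorem F489218 : act 1 n217506 = n207241 := d15_0 (iv0 F443935) (iv7 F416468) D217506
theorem F489219 : act 4 n217506 = n189740 := d16_0 (iv5 F377589) (iv4 F475019) F475018 (iv4 D206444) D206445 F440842 (iv5 F416466) (iv7 F416468) D217506
theorem F489220 : act 6 n190469 = n217506 := d10_0 F489219 (iv6 F377585) D190469
theorem F489221 : act 1 n191177 = n217506 := d17_8 (iv1 D189740) D189741 F419777 (iv5 D201269) (iv4 F419772) F419773 (iv0 F413955) F393451 F489219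
def n217507 : Q := act 4 n187422
theorem D217507 : act 4 n187422 = n217507 := rfl
theorem F489222 : act 2 n217507 = n189740 := d1_1 D217507 (iv4 F489219) (iv2 D217506)
theorem F489223 : act 3 n217507 = n207989 := d5_1 D217507 (iv4 D207989) F213648 (iv4 F361706) D187422
theorem F489224 : act 5 n217507 = n195870 := d9_2 F441431 D217507 (iv4 F421753) F421754 (iv4 D128916) D128917 (iv4 F395747) (iv5 F416330) F416329 F415879 (iv4 F421755) (iv5 F421756) (iv4 D128911) D128912 D206583
theorem F489225 : act 7 n217507 = n189739 := d11_2 (iv7 F416468) D217507 (iv4 F416465)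
theorem F489226 : act 0 n217507 = n189737 := d17_0 (iv5 F441470) F443725 (iv5 D207191) F413981 (iv5 D199886) D199885 (iv5 F477738) (iv0 F477743) D217507
theorem F489227 : act 1 n217507 = n189742 := d18_6 (iv1 D206634) (iv4 D129046) (iv1 F362191) D206583 F441431 D217507 F441496 (iv0 F441497) F441678
theorem F489228 : act 6 n190466 = n217507 := d21_3 (iv5 F165812) (iv1 F359040) D190466 F489226 (iv6 D189737) (iv5 D94399) F292628 F292598 (iv6 F292599) (iv1 F176052)
def n217508 : Q := act 6 n187422
theorem D217508 : act 6 n187422 = n217508 := rfl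
theorem F489229 : act 2 n217508 = n190469 := d3_1 D217508 F489220 (iv2 D217506)
theorem F489230 : act 3 n217508 = n187424 := d7_1 D217508 (iv6 D187424) D187422
theorem F489231 : act 4 n217508 = n190466 := d10_1 D217508 F489228 (iv4 D217507)
theorem F489232 : act 5 n217508 = n214863 := d12_1 D217508 (iv6 F477187) F476449 (iv6 F441429) F441431
theorem F489233 : act 7 n217508 = n200415 := d14_2 (iv7 F416468) D217508 (iv6 D200415) (iv7 F364993) D200450
theorem F489234 : act 0 n216923 = n217508 := d17_2 (iv1 F488716) F488718 F489232 (iv4 D214863) (iv5 D163238) D163236 (iv5 F447849) (iv0 F476476) F476473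
def n217509 : Q := act 0 n187433
theorem D217509 : act 0 n187433 = n217509 := rfl
theorem F489235 : act 5 n217509 = n214520 := d17_1 D217509 (iv1 D214520) (iv5 D159709) (iv4 F317464) (iv5 F372613) (iv0 F372615) (iv5 F371141) (iv0 D187432) D187433
theorem F489236 : act 4 n217509 = n189282 := d18_3 F369492 D187433 D217509 F376319 (iv4 F287675) (iv0 F290611) F290614 D187665 (iv5 F372618)
theorem F489237 : act 6 n217509 = n212959 := d21_5 (iv5 F385365) F385366 D193984 (iv6 F391626) D217509 F468319 (iv1 F468050) F468048 (iv6 F349048) (iv1 F336780)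
theorem F489238 : act 2 n216282 = n217509 := d15_3 (iv0 D217509) (iv0 F448763) (iv7 F483616)
theorem F489239 : act 1 n203335 = n217509 := d15_0 (iv0 D217509) (iv7 F374094) (iv2 F427931)
theorem F489240 : act 7 n217509 = n212951 := d15_2 (iv0 F448764) F489239 F468284
def n217510 : Q := act 4 n187438
theorem D217510 : act 4 n187438 = n217510 := rfl
theorem F489241 : act 2 n217510 = n217337 := d1_1 D217510 F488510 (iv2 F374060)
theorem F489242 : act 3 n217510 = n212959 := d5_1 D217510 F468320 (iv3 F238513) (iv4 F178439) F370324
theorem F489243 : act 5 n217510 = n191454 := d9_2 (iv5 F370323) D217510 F383510 F151787 (iv4 F128282) (iv5 F339474) (iv4 F208655) (iv5 F370319) (iv4 F386419) (iv5 D192321) (iv4 D100058) (iv5 D46719) (iv4 F58744) D82507 (iv4 F339452)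
theorem F489244 : act 7 n217510 = n191453 := d11_2 (iv7 F374056) D217510 F383508
theorem F489245 : act 0 n217510 = n187455 := d17_0 (iv5 F370411) (iv1 F487650) F487652 (iv4 D195846) (iv5 F371354) (iv0 D187733) F139299 D187438 D217510
theorem F489246 : act 1 n217510 = n201292 := d18_6 F371491 F371487 F344100 (iv4 F339452) (iv5 F370323) D217510 F419888 F370423 F370412
def n217511 : Q := act 4 n187446
theorem D217511 : act 4 n187446 = n217511 := rfl
theorem F489247 : act 2 n217511 = n193823 := d1_1 D217511 F391103 F370363
theorem F489248 : act 3 n217511 = n199321 := d5_1 D217511 F411659 F179021 (iv4 F179032) (iv3 F370362)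
theorem F489249 : act 5 n217511 = n201284 := d9_2 (iv5 F370361) D217511 (iv4 D201284) (iv5 D114257) (iv4 F90767) D123607 F329635 D130664 D207261 (iv5 F448102) (iv4 D208146) (iv5 F355685) (iv4 F419404) F419405 F216162
theorem F489250 : act 6 n217511 = n210199 := d10_2 (iv6 F419499) D217511 F456535
theorem F489251 : act 7 n217511 = n193824 := d11_2 (iv7 F370364) D217511 F391106
theorem F489252 : act 0 n217511 = n193825 := d17_0 F391112 F374659 (iv5 F419851) (iv4 D201283) F332256 D135245 (iv5 F374124) F374127 D217511
theorem F489253 : act 1 n217511 = n187448 := d18_6 F418300 F220579 (iv1 F347386) F216162 (iv5 F370361) D217511 F370374 (iv0 F368698) F418301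
def n217512 : Q := act 4 n187453
theorem D217512 : act 4 n187453 = n217512 := rfl
theorem F489254 : act 3 n217512 = n193993 := d5_1 D217512 (iv4 F456206) F456205 D216192 F483323
theorem F489255 : act 6 n217512 = n192512 := d10_2 F370401 D217512 (iv4 D192512)
theorem F489256 : act 7 n217512 = n189611 := d11_2 (iv7 F370400) D217512 F377112
theorem F489257 : act 5 n217512 = n193992 := d16_1 D217512 F391665 D200646 F445417 (iv5 D207551) (iv4 F349140) (iv5 F335769) (iv7 F373977) F373980
theorem F489258 : act 0 n217512 = n201018 := d17_0 (iv5 D201018) F374843 (iv5 D188615) F142604 D92575 F364339 F139404 D187453 D217512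
theorem F489259 : act 0 n217307 = n217512 := d20_10 (iv4 D217512) (iv1 D187453) F138606 F138605 (iv1 F65058) (iv3 F69439) (iv4 F138098) D187364 F369981 D217307
def n217513 : Q := act 1 n187463
theorem D217513 : act 1 n187463 = n217513 := rfl
theorem F489260 : act 7 n217513 = n194098 := d15_2 F488220 D217513 (iv2 F488216)
theorem F489261 : act 5 n217513 = n200183 := d17_7 (iv1 F376353) F402919 F422839 (iv5 F471484) F471485 F374138 D217513 (iv0 F415448) F274460
theorem F489262 : act 2 n194097 = n217513 := d2_3 F489261 (iv2 F486814) (iv5 F486819)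
theorem F489263 : act 0 n194099 = n217513 := d19_0 F489261 (iv4 D200183) (iv3 F366008) (iv1 F323514) F323517 F110859 F317313 (iv1 D30579) D30580 D65134 (iv3 F323547) (iv1 D38624) (iv5 D18386) (iv4 F29561) (iv3 F59425) D83795 D175482 (iv4 F430312) F430311
def n217514 : Q := act 2 n187463
theorem D217514 : act 2 n187463 = n217514 := rfl
theorem F489264 : act 3 n217514 = n194123 := d0_2 D187463 D217514 (iv2 D194123) (iv3 D102703) (iv2 F290884)
theorem F489265 : act 4 n217514 = n203608 := d1_2 F469434 D217514 (iv2 F469432)
theorem F489266 : act 6 n217514 = n201560 := d3_2 (iv6 F469016) D217514 (iv2 F469010)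
theorem F489267 : act 7 n217514 = n194099 := d4_2 (iv7 F370441) D217514 (iv2 D194099)
theorem F489268 : act 1 n217514 = n194097 := d15_0 (iv0 D194097) (iv7 F370441) D217514
theorem F489269 : act 1 n194098 = n217514 := d15_0 F489268 (iv7 F488218) F488216
def n217515 : Q := act 1 n187464
theorem D217515 : act 1 n187464 = n217515 := rfl
theorem F489270 : act 1 n217515 = n194126 := d15_1 D217515 (iv7 D194126) (iv2 F370442)
theorem F489271 : act 7 n217515 = n193790 := d15_2 (iv0 F484513) D217515 (iv2 F484507)
theorem F489272 : act 4 n217515 = n188240 := d18_7 (iv1 F370927) (iv4 F370917) (iv1 D91134) F66896 (iv5 F138619) (iv4 F370443) D217515 F372783 (iv5 F370925)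
theorem F489273 : act 2 n193792 = n217515 := d1_3 F489272 F372786 D193792
theorem F489274 : act 3 n216798 = n217515 := d5_5 F489272 F372787 F353736 D185506 D216798
theorem F489275 : act 6 n193551 = n217515 := d10_0 F489272 (iv6 F372784) D193551
def n217516 : Q := act 7 n187464
theorem D217516 : act 7 n187464 = n217516 := rfl
theorem F489276 : act 2 n217516 = n194126 := d4_1 D217516 (iv7 D194126) (iv2 F370442)
theorem F489277 : act 3 n217516 = n201555 := d8_1 D217516 (iv7 F469013) F469011
theorem F489278 : act 4 n217516 = n187467 := d11_1 D217516 (iv7 D187467) (iv4 F370443)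
theorem F489279 : act 5 n217516 = n201554 := d13_1 D217516 (iv7 F469008) (iv5 F469009)
theorem F489280 : act 6 n217516 = n194101 := d14_1 D217516 (iv7 D194101) (iv6 D102673) F290982 D187464
theorem F489281 : act 1 n193792 = n217516 := d15_1 (iv0 F391015) (iv7 D217516) F370442
theorem F489282 : act 1 n217516 = n193790 := d15_1 F489281 (iv7 F489271) (iv2 F489273)
def n217517 : Q := act 3 n187465
theorem D217517 : act 3 n187465 = n217517 := rfl
theorem F489283 : act 2 n217517 = n216783 := d0_1 D217517 (iv3 D216783) (iv2 F392120) (iv3 D194127) (iv2 F370453)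
theorem F489284 : act 7 n217517 = n194130 := d8_2 (iv7 F370452) D217517 (iv3 D194130)
def n217518 : Q := act 2 n187480
theorem D217518 : act 2 n187480 = n217518 := rfl
theorem F489285 : act 3 n217518 = n212432 := d0_2 D187480 D217518 F465779 (iv3 D188610) (iv2 F366186)
theorem F489286 : act 4 n217518 = n188657 := d1_2 F472085 D217518 (iv2 F472080)
theorem F489287 : act 7 n217518 = n212426 := d4_2 F374188 D217518 F465758
theorem F489288 : act 1 n217518 = n213733 := d15_0 F471836 F374188 D217518
theorem F489289 : act 1 n213732 = n217518 := d15_0 F489288 F471835 (iv2 F471829)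
theorem F489290 : act 5 n217518 = n214019 := d19_1 (iv1 F489288) (iv4 D214019) F245477 (iv1 F179656) (iv5 D115377) (iv4 D53227) (iv3 F111208) (iv1 D12287) (iv5 F11945) F312702 (iv3 F25327) D32918 F77108 D76762 F115153 F106658 (iv5 F178129) D201302 (iv3 F471834)
def n217519 : Q := act 5 n187480
theorem D217519 : act 5 n187480 = n217519 := rfl
theorem F489291 : act 2 n217519 = n214019 := d2_1 D217519 (iv5 F489290) (iv2 D217518)
theorem F489292 : act 3 n217519 = n187481 := d6_1 D217519 (iv5 D187481) D187480
theorem F489293 : act 4 n217519 = n213257 := d16_2 F472085 D217519 F469584 F359960 (iv5 F359963) F328605 D213784 F472072 (iv2 F472080)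
def n217520 : Q := act 0 n187481
theorem D217520 : act 0 n187481 = n217520 := rfl
theorem F489294 : act 5 n217520 = n217005 := d17_3 D90237 D187481 D217520 (iv4 F486961) (iv5 F487877) (iv0 F487879) (iv5 D188272) (iv0 D91133) F66896
theorem F489295 : act 1 n187483 = n217520 := d15_0 (iv0 D217520) (iv7 F374190) F374189
theorem F489296 : act 4 n214444 = n217520 := d20_0 (iv1 F489295) F457980 F457971 D210542 (iv3 F469117) F469120 F310897 (iv4 F283660) (iv3 F483468) F483470
theorem F489297 : act 6 n214443 = n217520 := d21_3 F370440 D191959 (iv5 F475204) (iv1 F489295) (iv6 F457979) F457976 (iv1 F431114) (iv5 F488223) F488226 (iv1 F480690)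
def n217521 : Q := act 1 n187481
theorem D217521 : act 1 n187481 = n217521 := rfl
theorem F489298 : act 1 n217521 = n187483 := d15_1 D217521 (iv7 F374187) F374186
theorem F489299 : act 5 n217006 = n217521 := d21_0 (iv1 D217521) (iv5 D187481) F354762 (iv1 F357791) (iv6 F359446) D191846 (iv1 F410431) (iv5 F486970) F486971 (iv1 F486952)
theorem F489300 : act 6 n217521 = n192263 := d21_3 (iv5 F384549) (iv1 F486952) F489299 (iv1 D192263) (iv6 D99943) F73773 F66539 D22928 D47638 D102705
def n217522 : Q := act 4 n187481
theorem D217522 : act 4 n187481 = n217522 := rfl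
def n217523 : Q := act 6 n187481
theorem D217523 : act 6 n187481 = n217523 := rfl
theorem F489301 : act 2 n217523 = n208795 := d3_1 D217523 F450911 F374186
theorem F489302 : act 5 n217523 = n206542 := d12_1 D217523 (iv6 D206542) (iv5 F354759) (iv6 F354762) D187481
theorem F489303 : act 0 n217523 = n191502 := d21_4 F138619 D90237 D187481 D217523 (iv6 D191502) (iv5 F274977) (iv1 F274978) (iv5 F386600) (iv6 F386603) (iv1 D187466)
theorem F489304 : act 1 n217523 = n191624 := d15_1 (iv0 F489303) (iv7 F449633) F449630
def n217524 : Q := act 1 n187482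
theorem D217524 : act 1 n187482 = n217524 := rfl
theorem F489305 : act 1 n217524 = n212432 := d15_1 D217524 (iv7 D212432) F370530
theorem F489306 : act 7 n217524 = n212429 := d15_2 (iv0 F370531) D217524 (iv2 F465770)
theorem F489307 : act 3 n208836 = n217524 := d20_3 (iv4 F471875) (iv1 F471879) F471880 (iv1 D217524) (iv3 D187482) (iv4 F351148) (iv1 D93771) (iv4 F139085) (iv3 F370908) F451304
theorem F489308 : act 6 n217524 = n215999 := d7_2 (iv6 F471881) F489307 (iv3 D215999)
theorem F489309 : act 2 n212430 = n217524 := d3_3 F489308 F482485 F475810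
theorem F489310 : act 5 n217524 = n216767 := d2_2 F465776 F489309 F485852
def n217525 : Q := act 5 n187482
theorem D217525 : act 5 n187482 = n217525 := rfl
theorem F489311 : act 2 n217525 = n212431 := d2_1 D217525 (iv5 D212431) F370530
theorem F489312 : act 3 n217525 = n187483 := d6_1 D217525 (iv5 D187483) D187482
theorem F489313 : act 6 n217525 = n202909 := d12_2 (iv6 F370528) D217525 (iv5 D202909) (iv6 D117246) D117245
def n217526 : Q := act 0 n187485
theorem D217526 : act 0 n187485 = n217526 := rfl
theorem F489314 : act 4 n217526 = n189230 := d18_3 (iv1 F362337) D187485 D217526 F376159 (iv4 F372830) F372828 F140194 (iv0 D88617) D88620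
theorem F489315 : act 1 n189757 = n217526 := d15_0 (iv0 D217526) F370534 (iv2 F377640)
theorem F489316 : act 2 n216922 = n217526 := d1_3 F489314 (iv2 F429288) (iv4 F486548)
theorem F489317 : act 3 n211868 = n217526 := d5_5 F489314 (iv3 D189230) F367202 (iv3 F463322) (iv4 F463333)
theorem F489318 : act 6 n211494 = n217526 := d10_0 F489314 (iv6 F420627) (iv4 F461811)
theorem F489319 : act 7 n216921 = n217526 := d11_0 F489314 (iv7 F377127) (iv4 F486544)
def n217527 : Q := act 1 n187485
theorem D217527 : act 1 n187485 = n217527 := rfl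
theorem F489320 : act 1 n217527 = n189757 := d15_1 D217527 F377641 (iv2 F370532)
theorem F489321 : act 7 n217527 = n216922 := d15_2 (iv0 D217526) D217527 F489316
theorem F489322 : act 4 n217527 = n203283 := d18_7 F375748 (iv4 D189099) F295434 F136907 D90241 D187485 D217527 F468386 F468384
theorem F489323 : act 2 n216921 = n217527 := d1_3 F489322 F427658 (iv4 F486544)
def n217528 : Q := act 5 n187485
theorem D217528 : act 5 n187485 = n217528 := rfl
theorem F489324 : act 2 n217528 = n216926 := d2_1 D217528 (iv5 D216926) (iv2 F370532)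
theorem F489325 : act 3 n217528 = n215026 := d6_1 D217528 F477955 F448012
theorem F489326 : act 6 n217528 = n215025 := d12_2 (iv6 F370533) D217528 (iv5 D215025) (iv6 F393609) F393606
theorem F489327 : act 7 n217528 = n216924 := d13_2 (iv7 F370534) D217528 (iv5 D216924)
theorem F489328 : act 1 n217528 = n190411 := d17_6 (iv1 D94446) (iv5 D44141) (iv1 F69480) D90241 D187485 D217528 (iv5 D190411) F377662 (iv4 D189762)
def n217529 : Q := act 4 n187491
theorem D217529 : act 4 n187491 = n217529 := rfl
theorem F489329 : act 2 n217529 = n192512 := d1_1 D217529 (iv4 D192512) F370557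
theorem F489330 : act 5 n217529 = n192534 := d9_2 (iv5 F370556) D217529 F386990 F370632 (iv4 F471128) F471129 F362834 (iv5 F144566) (iv4 F376142) (iv5 F467757) F467756 (iv5 F485512) (iv4 F485992) (iv5 D216805) (iv4 F356716)
theorem F489331 : act 7 n217529 = n189605 := d11_2 (iv7 F370559) D217529 F377093
theorem F489332 : act 0 n217529 = n189518 := d17_0 F376783 F375314 (iv5 D188618) (iv4 D92579) D92580 D188619 (iv5 F374213) F370558 D217529
theorem F489333 : act 1 n217529 = n188541 := d18_6 (iv1 D201355) (iv4 F373590) (iv1 F373593) (iv4 F356716) (iv5 F370556) D217529 F373879 (iv0 F377094) F420123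
theorem F489334 : act 3 n217529 = n188586 := d20_3 F138830 D187491 D217529 (iv1 F374095) F372310 (iv4 F387806) (iv1 F387809) (iv4 F376137) F376136 (iv1 F364370)
def n217530 : Q := act 2 n187509
theorem D217530 : act 2 n187509 = n217530 := rfl
theorem F489335 : act 3 n217530 = n201503 := d0_2 D187509 D217530 (iv2 F420751) (iv3 D188625) F344311
theorem F489336 : act 4 n217530 = n191953 := d1_2 (iv4 F370630) D217530 F384975
theorem F489337 : act 5 n217530 = n194663 := d2_2 F449724 D217530 (iv2 F449721)
theorem F489338 : act 6 n217530 = n201082 := d3_2 (iv6 F445182) D217530 F445181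
theorem F489339 : act 7 n217530 = n192234 := d4_2 F374240 D217530 F386139
theorem F489340 : act 1 n217530 = n187735 := d15_0 (iv0 F374242) F374240 D217530
theorem F489341 : act 1 n192708 = n217530 := d15_0 F489340 F371368 (iv2 F387576)
def n217531 : Q := act 7 n187510
theorem D217531 : act 7 n187510 = n217531 := rfl
theorem F489342 : act 3 n217531 = n201080 := d8_1 D217531 F445183 F445184
theorem F489343 : act 4 n217531 = n212523 := d11_1 D217531 (iv7 F470744) F470748
theorem F489344 : act 5 n217531 = n201079 := d13_1 D217531 (iv7 F449718) F449717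
theorem F489345 : act 0 n187943 = n217531 := d17_0 F489344 F419023 (iv5 F484002) F484003 (iv5 F467087) (iv0 F467086) (iv5 F429621) (iv0 D203739) (iv4 F371901)
def n217532 : Q := act 4 n187511
theorem D217532 : act 4 n187511 = n217532 := rfl
theorem F489346 : act 0 n217532 = n188707 := d18_2 (iv1 F464187) D217532 (iv4 D188707) (iv5 D92682) F68091 D47131 (iv4 F138871) F235267 (iv5 F464185)
def n217533 : Q := act 6 n187511
theorem D217533 : act 6 n187511 = n217533 := rfl
theorem F489347 : act 3 n217533 = n187512 := d7_1 D217533 (iv6 D187512) D187511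
theorem F489348 : act 5 n217533 = n200434 := d12_1 D217533 (iv6 F416415) (iv5 D189218) D189219 (iv5 F376138)
theorem F489349 : act 0 n201436 = n217533 := d21_4 (iv5 D201538) (iv1 F349971) (iv5 F349969) D201436 (iv6 D217533) F376138 F377353 (iv5 F465023) F465024 (iv1 F420893)
def n217534 : Q := act 3 n187517
theorem D217534 : act 3 n187517 = n217534 := rfl
theorem F489350 : act 2 n217534 = n216505 := d0_1 D217534 F484714 (iv2 F400304) (iv3 D187826) (iv2 F370650)
theorem F489351 : act 4 n217534 = n214386 := d5_2 D187517 D217534 (iv3 D214386) (iv4 D159332) (iv3 F138881)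
theorem F489352 : act 5 n217534 = n209718 := d6_2 (iv5 F401049) D217534 F454738
theorem F489353 : act 7 n217534 = n187816 := d8_2 (iv7 F370651) D217534 (iv3 D187816)
theorem F489354 : act 0 n217534 = n194406 := d20_4 F401826 F178489 D187517 D217534 (iv3 D194406) (iv4 D103343) (iv1 F293561) (iv4 F294496) D188379 F401830
theorem F489355 : act 0 n208561 = n217534 := d20_4 F221906 F449616 (iv4 F457225) F457224 (iv3 D217534) (iv4 D187517) (iv1 F178484) D201409 F457518 (iv1 D210435)
def n217535 : Q := act 6 n187519
theorem D217535 : act 6 n187519 = n217535 := rfl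
theorem F489356 : act 2 n217535 = n187840 := d3_1 D217535 (iv6 D187840) (iv2 F370656)
theorem F489357 : act 3 n217535 = n208796 := d7_1 D217535 (iv6 F484741) (iv3 F484738)
theorem F489358 : act 4 n217535 = n187520 := d10_1 D217535 (iv6 D187520) D187519
theorem F489359 : act 5 n217535 = n188924 := d12_1 D217535 F464443 F464437 F419958 F419954
theorem F489360 : act 7 n217535 = n208813 := d14_2 (iv7 F370657) D217535 F450982 F450226 (iv6 D187834)
theorem F489361 : act 0 n196355 = n217535 := d21_4 (iv5 D65920) D65917 (iv5 F225650) D196355 (iv6 D217535) (iv5 F419954) F419955 F400793 (iv6 F371640) (iv1 D140439)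
def n217536 : Q := act 1 n187520
theorem D217536 : act 1 n187520 = n217536 := rfl
theorem F489362 : act 1 n217536 = n187843 := d15_1 D217536 (iv7 D187843) (iv2 F370660)
theorem F489363 : act 7 n217536 = n187841 := d15_2 F482548 D217536 (iv2 F482543)
theorem F489364 : act 4 n217536 = n203774 := d17_9 (iv1 F482536) (iv5 F475124) (iv1 D199784) (iv5 F364225) (iv4 F376937) (iv5 F376388) (iv0 D189308) (iv5 F370661) D217536
theorem F489365 : act 5 n187902 = n217536 := d21_0 (iv1 D217536) F370661 (iv6 D93877) D93874 D189301 F376374 F374960 (iv5 F376237) F376238 (iv1 F371786)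
theorem F489366 : act 6 n187541 = n217536 := d21_3 F346550 (iv1 F444270) F444272 (iv1 D217536) (iv6 D187520) F138885 (iv1 F69006) D52841 D114481 F346552
theorem F489367 : act 2 n217536 = n187842 := d3_1 F489366 F413463 (iv2 F412184)
theorem F489368 : act 3 n217536 = n194191 := d7_1 F489366 F392318 (iv3 F412185)
def n217537 : Q := act 7 n187520
theorem D217537 : act 7 n187520 = n217537 := rfl
theorem F489369 : act 2 n217537 = n187843 := d4_1 D217537 (iv7 D187843) (iv2 F370660)
theorem F489370 : act 3 n217537 = n208615 := d8_1 D217537 F450172 F402769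
theorem F489371 : act 4 n217537 = n208813 := d11_1 D217537 (iv7 F489360) F489358
theorem F489372 : act 5 n217537 = n189310 := d13_1 D217537 (iv7 D189310) (iv5 F370661)
theorem F489373 : act 6 n217537 = n187837 := d14_1 D217537 (iv7 D187837) (iv6 D90599) (iv7 F138884) D187520
theorem F489374 : act 1 n187842 = n217537 := d15_1 D187842 (iv7 D217537) F370660
theorem F489375 : act 1 n217537 = n187841 := d15_1 F489374 (iv7 F489363) F489367
def n217538 : Q := act 6 n187522
theorem D217538 : act 6 n187522 = n217538 := rfl
theorem F489376 : act 2 n217538 = n187849 := d3_1 D217538 (iv6 D187849) (iv2 F370668)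
theorem F489377 : act 3 n217538 = n188288 := d7_1 D217538 (iv6 F407569) (iv3 F407574)
theorem F489378 : act 4 n217538 = n187523 := d10_1 D217538 (iv6 D187523) (iv4 F370669)
theorem F489379 : act 5 n217538 = n197786 := d12_1 D217538 F405789 (iv5 F407282) (iv6 F436699) F436698
theorem F489380 : act 7 n217538 = n187556 := d14_2 D187522 D217538 (iv6 D187556) (iv7 D90323) (iv6 F138889)
theorem F489381 : act 1 n187996 = n217538 := d15_1 D187996 F489380 F370796
theorem F489382 : act 1 n217538 = n187995 := d15_0 (iv0 D187995) (iv7 F371693) (iv2 F489376)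
def n217539 : Q := act 5 n187526
theorem D217539 : act 5 n187526 = n217539 := rfl
theorem F489383 : act 2 n217539 = n187890 := d2_1 D217539 (iv5 D187890) (iv2 F370684)
theorem F489384 : act 3 n217539 = n204218 := d6_1 D217539 F431529 F407140
theorem F489385 : act 6 n217539 = n188854 := d12_2 D187526 D217539 (iv5 F375378) F157070 (iv5 F357541)
theorem F489386 : act 4 n217539 = n189546 := d16_6 (iv4 F376838) (iv5 D189434) F144783 (iv5 F138914) (iv4 F370685) D217539 (iv5 D189546) (iv7 F376841) F376840
theorem F489387 : act 1 n217539 = n188812 := d17_8 D188813 F375219 (iv1 D188939) (iv5 D92914) (iv4 F143282) (iv5 F376854) F387430 D217539 F374981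
def n217540 : Q := act 7 n187526
theorem D217540 : act 7 n187526 = n217540 := rfl
theorem F489388 : act 2 n217540 = n187891 := d4_1 D217540 (iv7 D187891) (iv2 F370684)
theorem F489389 : act 4 n217540 = n187529 := d11_1 D217540 (iv7 D187529) (iv4 F370685)
theorem F489390 : act 6 n217540 = n187920 := d14_1 D217540 (iv7 D187920) (iv6 D90672) (iv7 F138912) D187526
theorem F489391 : act 1 n187889 = n217540 := d15_1 D187889 (iv7 D217540) F370684
theorem F489392 : act 1 n217540 = n187888 := d15_1 F489391 F376856 F376857
def n217541 : Q := act 4 n187527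
theorem D217541 : act 4 n187527 = n217541 := rfl
theorem F489393 : act 2 n217541 = n187894 := d1_1 D217541 (iv4 D187894) (iv2 F376941)
theorem F489394 : act 3 n217541 = n204576 := d5_1 D217541 (iv4 D204576) D204575 (iv4 F432917) F376991
theorem F489395 : act 6 n217541 = n197639 := d10_2 F377324 D217541 F405140
theorem F489396 : act 7 n217541 = n187898 := d11_2 (iv7 F376942) D217541 (iv4 D187898)
theorem F489397 : act 5 n217541 = n188655 := d16_1 D217541 F374323 (iv5 D94028) (iv4 F144859) D189536 F376934 F376388 F376939 (iv2 F376941)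
theorem F489398 : act 0 n217541 = n188058 := d20_1 D217541 F372230 (iv3 F251153) F399074 (iv3 F416205) F416207 F401144 F401141 F370682 D187527
theorem F489399 : act 0 n187563 = n217541 := d20_10 (iv4 D217541) (iv1 F370690) (iv4 F371764) (iv3 F450939) F450942 (iv3 F338873) F338874 (iv1 F310401) D204933 F434236
def n217542 : Q := act 4 n187531
theorem D217542 : act 4 n187531 = n217542 := rfl
theorem F489400 : act 2 n217542 = n187534 := d1_1 D217542 (iv4 D187534) (iv2 F370698)
theorem F489401 : act 3 n217542 = n205497 := d5_1 D217542 (iv4 D205497) F202860 (iv4 F335535) (iv3 F370699)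
theorem F489402 : act 6 n217542 = n201607 := d10_2 F370702 D217542 (iv4 D201607)
theorem F489403 : act 7 n217542 = n187853 := d11_2 (iv7 F370700) D217542 (iv4 D187853)
theorem F489404 : act 0 n217542 = n187863 := d18_2 (iv1 F370701) D217542 (iv4 F372325) F372324 F372311 F292010 (iv4 F371850) (iv0 F371851) F288160
theorem F489405 : act 1 n217542 = n187862 := d18_6 (iv1 D92949) F68347 (iv1 F74056) (iv4 F138917) D187531 D217542 F371714 (iv0 F375281) (iv5 D188971)
def n217543 : Q := act 4 n187532
theorem D217543 : act 4 n187532 = n217543 := rfl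
theorem F489406 : act 2 n217543 = n187860 := d1_1 D217543 (iv4 D187860) (iv2 F370711)
theorem F489407 : act 7 n217543 = n187858 := d11_2 (iv7 F370709) D217543 (iv4 D187858)
def n217544 : Q := act 4 n187533
theorem D217544 : act 4 n187533 = n217544 := rfl
theorem F489408 : act 2 n217544 = n187858 := d1_1 D217544 (iv4 D187858) F370708
theorem F489409 : act 6 n217544 = n188323 := d10_2 F370707 D217544 F425055
theorem F489410 : act 7 n217544 = n187860 := d11_2 F370710 D217544 (iv4 D187860)
def n217545 : Q := act 0 n187534
theorem D217545 : act 0 n187534 = n217545 := rfl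
theorem F489411 : act 4 n217545 = n188094 := d18_3 (iv1 D187533) D187534 D217545 (iv5 D188094) F139767 D90826 F292005 F371854 (iv5 F370706)
theorem F489412 : act 6 n217545 = n197193 := d21_5 (iv5 F463523) F463524 (iv5 F453960) (iv6 F453962) D217545 (iv5 F488285) F488286 (iv5 F424971) F424979 F421161
theorem F489413 : act 1 n187853 = n217545 := d15_0 (iv0 D217545) F370713 (iv2 F371696)
theorem F489414 : act 2 n187863 = n217545 := d3_3 F489412 (iv2 F488299) F488304
theorem F489415 : act 7 n187862 = n217545 := d15_2 (iv0 F489404) F489405 (iv2 F489414)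
def n217546 : Q := act 1 n187534
theorem D217546 : act 1 n187534 = n217546 := rfl
theorem F489416 : act 1 n217546 = n187853 := d15_1 D217546 (iv7 F489403) F489400
theorem F489417 : act 7 n217546 = n187863 := d15_2 (iv0 D217545) D217546 F489414
theorem F489418 : act 4 n217546 = n188985 := d18_7 (iv1 F143355) F143352 (iv1 F74061) (iv4 F65164) D90309 D187534 D217546 F375333 (iv5 D100352)
theorem F489419 : act 2 n187862 = n217546 := d1_3 F489418 (iv2 D188985) (iv4 F371714)
def n217547 : Q := act 5 n187534
theorem D217547 : act 5 n187534 = n217547 := rfl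
theorem F489420 : act 3 n217547 = n209420 := d6_1 D217547 (iv5 F453967) F453965
theorem F489421 : act 6 n217547 = n209419 := d12_2 (iv6 F453962) D217547 (iv5 D209419) (iv6 F408425) (iv5 F453960)
theorem F489422 : act 7 n217547 = n187865 := d13_2 (iv7 F370713) D217547 (iv5 D187865)
theorem F489423 : act 4 n217547 = n192602 := d16_2 D187534 D217547 (iv5 D192602) (iv4 D100441) (iv5 D46872) F65530 D90616 (iv7 F370700) F370698
theorem F489424 : act 0 n217547 = n192539 := d17_2 (iv1 D217546) D217547 (iv5 D192539) (iv4 D100361) (iv5 D46827) D46826 D100357 F375334 (iv4 F489418)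
def n217548 : Q := act 4 n187541
theorem D217548 : act 4 n187541 = n217548 := rfl
theorem F489425 : act 2 n217548 = n187944 := d1_1 D217548 (iv4 D187944) (iv2 F412184)
theorem F489426 : act 3 n217548 = n199552 := d5_1 D217548 F417472 F417468 (iv4 F412183) (iv3 F412185)
theorem F489427 : act 5 n217548 = n196548 := d9_2 F444272 D217548 (iv4 D196548) F220042 D107374 D196829 (iv4 F444264) F444263 (iv4 F451082) F451079 (iv4 D196551) F223614 D107379 (iv5 F359105) (iv4 F444273)
theorem F489428 : act 6 n217548 = n203774 := d10_2 (iv6 F489366) D217548 (iv4 F489364)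
theorem F489429 : act 7 n217548 = n187949 := d11_2 (iv7 F412186) D217548 (iv4 D187949)
theorem F489430 : act 0 n217548 = n187977 := d17_0 F371996 (iv1 F165394) D107352 D196816 F401882 F288355 F288353 F370743 D217548
theorem F489431 : act 1 n217548 = n187553 := d18_6 (iv1 F444057) F444054 (iv1 F359761) (iv4 F444273) F444272 D217548 F370787 D192807 (iv5 F387853)
def n217549 : Q := act 1 n187545
theorem D217549 : act 1 n187545 = n217549 := rfl
theorem F489432 : act 1 n217549 = n187925 := d15_1 D217549 F371844 (iv2 F370753)
theorem F489433 : act 7 n217549 = n187929 := d15_2 (iv0 F370755) D217549 F371861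
theorem F489434 : act 4 n217549 = n188972 := d18_7 (iv1 F374095) F372311 F292009 F134455 (iv5 F138934) D187545 D217549 F375287 F375288
theorem F489435 : act 6 n216998 = n217549 := d21_3 F375637 F370458 (iv5 F486910) (iv1 D217549) (iv6 F370757) (iv5 D133774) F98042 (iv5 F166824) (iv6 F374474) F375640
theorem F489436 : act 2 n217549 = n187928 := d3_1 F489435 F374809 F486912
theorem F489437 : act 5 n217549 = n192628 := d12_1 F489435 F427405 F386329 F386326 (iv5 F486910)
theorem F489438 : act 0 n192628 = n217547 := d21_7 (iv5 D136623) D136621 D209561 F454139 D216998 F489435 F489437 (iv5 D217547) F453962 (iv1 F453963)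
def n217550 : Q := act 5 n187545
theorem D217550 : act 5 n187545 = n217550 := rfl
theorem F489439 : act 2 n217550 = n213018 := d2_1 D217550 (iv5 D213018) (iv2 F370753)
theorem F489440 : act 3 n217550 = n215996 := d6_1 D217550 (iv5 D215996) F370756
theorem F489441 : act 6 n217550 = n208218 := d12_2 F370757 D217550 (iv5 D208218) (iv6 D133775) D133774
theorem F489442 : act 7 n217550 = n187931 := d13_2 (iv7 F370754) D217550 (iv5 D187931)
theorem F489443 : act 4 n217550 = n192613 := d16_2 D187545 D217550 (iv5 D192613) (iv4 D100449) D100450 (iv4 F371850) (iv5 D187926) (iv7 F370748) (iv2 D187544)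
def n217551 : Q := act 7 n187548
theorem D217551 : act 7 n187548 = n217551 := rfl
theorem F489444 : act 2 n217551 = n187964 := d4_1 D217551 (iv7 D187964) (iv2 F370768)
theorem F489445 : act 3 n217551 = n197559 := d8_1 D217551 F404820 (iv3 F370769)
theorem F489446 : act 4 n217551 = n187551 := d11_1 D217551 (iv7 D187551) (iv4 F370770)
theorem F489447 : act 5 n217551 = n197558 := d13_1 D217551 (iv7 F405235) F405233
theorem F489448 : act 6 n217551 = n187941 := d14_1 D217551 (iv7 D187941) (iv6 D90688) (iv7 F138937) D187548
theorem F489449 : act 1 n187962 = n217551 := d15_1 D187962 (iv7 D217551) F370768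
theorem F489450 : act 1 n217551 = n187961 := d15_1 F489449 (iv7 F387834) F387833
def n217552 : Q := act 5 n187549
theorem D217552 : act 5 n187549 = n217552 := rfl
theorem F489451 : act 2 n217552 = n187968 := d2_1 D217552 (iv5 D187968) (iv2 F371966)
theorem F489452 : act 4 n217552 = n211830 := d9_1 D217552 (iv5 F467425) F467424 (iv5 D199342) F172466 D197633 (iv4 F405116) (iv5 F392345) (iv4 F481044) F481045 (iv4 D199268) (iv5 D111129) F80849 D108432 (iv4 F370771)
theorem F489453 : act 6 n217552 = n211829 := d12_2 F487725 D217552 F463219 F420613 D217162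
theorem F489454 : act 7 n217552 = n187970 := d13_2 (iv7 F371967) D217552 (iv5 D187970)
theorem F489455 : act 1 n217552 = n187821 := d17_6 F404784 (iv5 D197536) (iv1 D108430) D108432 (iv4 F370771) D217552 (iv5 D187821) D187820 (iv4 F404783)
theorem F489456 : act 0 n217552 = n189650 := d18_0 F377260 F474528 F474526 (iv5 D192804) D192803 F387836 F371959 F370777 D217552
def n217553 : Q := act 4 n187554
theorem D217553 : act 4 n187554 = n217553 := rfl
theorem F489457 : act 3 n217553 = n189744 := d5_1 D217553 (iv4 D189744) F145564 F138941 D187554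
theorem F489458 : act 7 n217553 = n187973 := d11_2 (iv7 F370791) D217553 (iv4 D187973)
theorem F489459 : act 1 n217553 = n193092 := d18_6 (iv1 F371881) (iv4 F372907) (iv1 F387275) F387273 (iv5 F370790) D217553 (iv4 D193092) F388717 F388715
theorem F489460 : act 0 n217553 = n193088 := d20_1 D217553 (iv4 D193088) F372026 (iv1 D114365) (iv3 D52778) (iv4 D25618) D25616 D52771 D114348 F370792
def n217554 : Q := act 6 n187554
theorem D217554 : act 6 n187554 = n217554 := rfl
theorem F489461 : act 2 n217554 = n205001 := d3_1 D217554 (iv6 F434546) F420560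
theorem F489462 : act 3 n217554 = n187555 := d7_1 D217554 (iv6 D187555) D187554
theorem F489463 : act 5 n217554 = n197549 := d12_1 D217554 F404777 F400194 (iv6 D192756) (iv5 F370790)
theorem F489464 : act 7 n205008 = n217554 := d13_0 F489463 F404778 D205008
theorem F489465 : act 1 n215998 = n217554 := d15_1 (iv0 F482484) (iv7 F489464) (iv2 F449196)
def n217555 : Q := act 0 n187556
theorem D217555 : act 0 n187556 = n217555 := rfl
theorem F489466 : act 4 n217555 = n188021 := d18_1 D217555 (iv1 F372152) (iv4 F469079) F469081 (iv4 F262393) D215132 (iv4 F478526) (iv0 D197784) (iv5 F370799)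
theorem F489467 : act 3 n217555 = n194668 := d20_5 (iv4 F343087) (iv1 D185145) (iv4 F362810) (iv3 F370797) D217555 F394028 (iv1 D184103) (iv4 F286050) (iv3 F376088) F376092
theorem F489468 : act 5 n217555 = n215242 := d21_2 (iv5 F370799) D217555 F479784 F480402 (iv6 D215539) F273812 (iv1 F128641) D174139 F405787 (iv1 D197785)
theorem F489469 : act 6 n217555 = n211053 := d21_5 (iv5 F139619) (iv1 F139621) (iv5 F138947) D187556 D217555 F459912 F361896 (iv5 F371752) (iv6 D187878) F139546
theorem F489470 : act 1 n187849 = n217555 := d15_0 (iv0 D217555) (iv7 F489380) F489376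
theorem F489471 : act 7 n187996 = n217555 := d13_0 F489468 F479015 F474301
theorem F489472 : act 2 n217555 = n187995 := d15_3 (iv0 D187995) D187996 F489471
def n217556 : Q := act 1 n187556
theorem D217556 : act 1 n187556 = n217556 := rfl
theorem F489473 : act 1 n217556 = n187849 := d15_1 D217556 F371693 (iv2 F370796)
theorem F489474 : act 7 n217556 = n187995 := d15_2 (iv0 D217555) D217556 (iv2 F489472)
theorem F489475 : act 4 n188022 = n217556 := d20_0 (iv1 D217556) F370798 F362825 (iv1 F147749) D190515 F469092 (iv1 D213120) F239740 (iv3 F239730) (iv1 F372145)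
theorem F489476 : act 6 n217556 = n214456 := d10_2 F372146 F489475 (iv4 D214456)
theorem F489477 : act 2 n187996 = n217556 := d4_3 F489474 (iv2 F489472) (iv7 F489471)
def n217557 : Q := act 6 n187557
theorem D217557 : act 6 n187557 = n217557 := rfl
theorem F489478 : act 2 n217557 = n188002 := d3_1 D217557 (iv6 D188002) (iv2 F376973)
theorem F489479 : act 3 n217557 = n201449 := d7_1 D217557 (iv6 D201449) F370802
theorem F489480 : act 4 n217557 = n216075 := d10_1 D217557 (iv6 D216075) (iv4 F370800)
theorem F489481 : act 7 n217557 = n213504 := d14_2 (iv7 F376974) D217557 F470728 F372057 (iv6 D188007)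
theorem F489482 : act 0 n217557 = n187951 := d21_4 F373001 D217133 F487584 D217557 (iv6 D187951) D187950 (iv1 F438615) (iv5 F459602) F459603 F377003
theorem F489483 : act 5 n217557 = n188793 := d21_6 (iv5 D20032) (iv1 F31761) (iv5 F65178) D90324 D187557 D217557 (iv1 D188793) F143155 (iv6 D90634) (iv1 D42433)
theorem F489484 : act 0 n193351 = n217557 := d17_0 F489483 (iv1 D188793) F143155 (iv4 F371751) F371752 (iv0 F361896) (iv5 F459912) (iv0 F482552) F482551
def n217558 : Q := act 0 n187559
theorem D217558 : act 0 n187559 = n217558 := rfl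
theorem F489485 : act 4 n217558 = n187995 := d18_1 D217558 (iv1 F489382) F489378 (iv5 F371574) (iv4 F419940) F419944 (iv4 F471639) F419932 F374349
theorem F489486 : act 5 n217558 = n216368 := d21_2 F374349 D217558 F484037 (iv1 F419921) F413225 F374394 (iv1 F419341) (iv5 F482054) F482057 (iv1 F419931)
theorem F489487 : act 1 n188023 = n217558 := d15_0 (iv0 D217558) F370808 (iv2 F372148)
theorem F489488 : act 3 n201345 = n217558 := d6_3 F489486 (iv3 D216368) (iv5 F420089)
theorem F489489 : act 2 n217558 = n188021 := d0_1 F489488 (iv3 F451805) F451804 (iv3 F428455) F421469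
theorem F489490 : act 7 n217558 = n188022 := d8_2 (iv7 F420088) F489488 F372147
def n217559 : Q := act 1 n187559
theorem D217559 : act 1 n187559 = n217559 := rfl
theorem F489491 : act 1 n217559 = n188023 := d15_1 D217559 (iv7 D188023) (iv2 F370805)
theorem F489492 : act 7 n217559 = n188021 := d15_2 (iv0 D217558) D217559 (iv2 F489489)
theorem F489493 : act 4 n217559 = n187996 := d18_7 (iv1 F413239) F476591 (iv1 D214735) F254054 D170870 (iv4 F370807) D217559 F489381 F489379
theorem F489494 : act 3 n203474 = n217559 := d20_9 F370807 F354683 (iv4 F370800) (iv3 F370802) (iv1 D114519) (iv3 F178584) (iv4 F385010) F456927 F456926 (iv1 D217559)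
theorem F489495 : act 6 n201206 = n217559 := d21_3 (iv5 F370845) (iv1 F355673) D201206 (iv1 D217559) (iv6 D187559) (iv5 D90325) (iv1 F65198) D42237 D90346 D187572
theorem F489496 : act 2 n217559 = n188022 := d3_1 F489495 (iv6 F372146) (iv2 F419452)
def n217560 : Q := act 4 n187560
theorem D217560 : act 4 n187560 = n217560 := rfl
theorem F489497 : act 2 n217560 = n188096 := d1_1 D217560 (iv4 D188096) (iv2 F370809)
theorem F489498 : act 7 n217560 = n187717 := d11_2 (iv7 F370810) D217560 (iv4 D187717)
theorem F489499 : act 0 n217560 = n217532 := d18_2 F370812 D217560 (iv4 D217532) F376138 F376137 F387809 F387806 F362398 (iv5 F154815)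
def n217561 : Q := act 6 n187560
theorem D217561 : act 6 n187560 = n217561 := rfl
theorem F489500 : act 2 n217561 = n188097 := d3_1 D217561 (iv6 D188097) (iv2 F370809)
theorem F489501 : act 3 n217561 = n189108 := d7_1 D217561 F375784 F375284
theorem F489502 : act 5 n217561 = n213044 := d12_1 D217561 F468752 F239757 (iv6 F142702) D187560
theorem F489503 : act 7 n217561 = n201814 := d14_2 (iv7 F370810) D217561 (iv6 D201814) F179177 (iv6 F139261)
theorem F489504 : act 0 n217561 = n203475 := d21_4 (iv5 D90328) D90326 D187560 D217561 (iv6 F428454) F217414 (iv1 F214634) (iv5 F375352) (iv6 D188993) F283823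
theorem F489505 : act 0 n203474 = n217561 := d21_4 F375420 (iv1 F177563) D152391 (iv6 F428451) (iv6 D217561) (iv5 D187560) (iv1 F138956) D90807 (iv6 F239578) (iv1 F375422)
def n217562 : Q := act 5 n187563
theorem D217562 : act 5 n187563 = n217562 := rfl
theorem F489506 : act 2 n217562 = n188057 := d2_1 D217562 (iv5 D188057) (iv2 F370821)
theorem F489507 : act 3 n217562 = n204578 := d6_1 D217562 (iv5 F434237) F434236
theorem F489508 : act 6 n217562 = n204575 := d12_2 D187563 D217562 F432920 (iv6 D194683) F362669
theorem F489509 : act 7 n217562 = n204221 := d13_2 F470676 D217562 (iv5 F470674)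
theorem F489510 : act 4 n217562 = n189383 := d16_6 D189378 F376924 (iv4 F144912) F144913 (iv4 F370822) D217562 (iv5 D189383) (iv7 F376946) F376945
theorem F489511 : act 0 n217562 = n204223 := d17_2 F377005 D217562 (iv5 F482538) F482541 F371796 (iv0 D93969) (iv5 F138914) D187528 F376937
theorem F489512 : act 1 n217562 = n203775 := d17_8 F376832 (iv5 D189546) (iv1 D94027) D94028 (iv4 F374323) (iv5 F489397) (iv0 F489399) D217562 F429766
def n217563 : Q := act 3 n187564
theorem D217563 : act 3 n187564 = n217563 := rfl
theorem F489513 : act 4 n217563 = n192658 := d5_2 (iv4 F376852) D217563 F387384 (iv4 F387416) F387415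
theorem F489514 : act 5 n217563 = n211499 := d6_2 F399063 D217563 F461832
theorem F489515 : act 6 n217563 = n192657 := d7_2 (iv6 F377626) D217563 (iv3 F387382)
theorem F489516 : act 7 n217563 = n188064 := d8_2 (iv7 F376847) D217563 (iv3 D188064)
def n217564 : Q := act 3 n187565
theorem D217564 : act 3 n187565 = n217564 := rfl
theorem F489517 : act 4 n217564 = n201769 := d5_2 F376851 D217564 (iv3 F421745) D212880 F467930
theorem F489518 : act 5 n217564 = n197030 := d6_2 F376829 D217564 F402749
theorem F489519 : act 7 n217564 = n188060 := d8_2 (iv7 F376844) D217564 (iv3 D188060)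
theorem F489520 : act 0 n217564 = n212849 := d20_4 (iv4 F489389) (iv1 F489391) F376851 D217564 F467775 F356684 (iv1 F151245) F371767 (iv3 D187893) (iv1 F370692)
theorem F489521 : act 6 n212276 = n217564 := d21_3 F484071 (iv1 F373010) (iv5 F465096) F489520 (iv6 D212849) (iv5 F340078) (iv1 F142821) D188018 (iv6 F484089) (iv1 F484091)
theorem F489522 : act 2 n217564 = n212310 := d3_1 F489521 (iv6 D212310) F465098
def n217565 : Q := act 6 n187565
theorem D217565 : act 6 n187565 = n217565 := rfl
theorem F489523 : act 2 n217565 = n188067 := d3_1 D217565 (iv6 D188067) (iv2 F376843)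
theorem F489524 : act 3 n217565 = n212276 := d7_1 D217565 F489521 (iv3 D217564)
theorem F489525 : act 4 n217565 = n214261 := d10_1 D217565 F474286 F376851
theorem F489526 : act 7 n217565 = n212311 := d14_2 (iv7 F376844) D217565 F468088 (iv7 F377613) (iv6 F367257)
def n217566 : Q := act 3 n187568
theorem D217566 : act 3 n187568 = n217566 := rfl
theorem F489527 : act 2 n217566 = n206202 := d0_1 D217566 F439691 (iv2 F205463) (iv3 F251140) F370832
theorem F489528 : act 5 n217566 = n188541 := d6_2 (iv5 F370831) D217566 F373878
theorem F489529 : act 6 n217566 = n188300 := d7_2 F419979 D217566 (iv3 F419978)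
theorem F489530 : act 7 n217566 = n188032 := d8_2 F370833 D217566 (iv3 D188032)
theorem F489531 : act 0 n217566 = n188621 := d19_4 (iv1 F475011) (iv5 F475051) F475052 D217566 (iv5 D188621) (iv4 D92583) F134997 (iv1 F177352) D187735 F371369 F385300 F385304 (iv5 D187850) (iv4 D90608) (iv3 F139640) (iv1 D43453) D43456 D92876 D188878
theorem F489532 : act 4 n217566 = n216345 := d20_6 (iv4 F372331) F444360 F444358 F370814 (iv1 F370830) D217566 (iv1 F483945) F356717 (iv3 F370616) (iv1 F376457)
theorem F489533 : act 0 n188618 = n217566 := d20_4 (iv4 D71329) D71327 (iv4 F237329) (iv3 F374204) (iv3 D217566) (iv4 F475052) (iv1 D214410) F360964 (iv3 F360957) (iv1 D151350)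
def n217567 : Q := act 3 n187569
theorem D217567 : act 3 n187569 = n217567 := rfl
theorem F489534 : act 4 n217567 = n187570 := d5_2 D187569 D217567 (iv3 D187570) (iv4 D90345) (iv3 F139015)
theorem F489535 : act 6 n217567 = n201644 := d7_2 (iv6 F370836) D217567 (iv3 D201644)
theorem F489536 : act 7 n217567 = n188037 := d8_2 (iv7 F370837) D217567 (iv3 D188037)
theorem F489537 : act 0 n198180 = n217567 := d20_4 (iv4 F458605) F458607 (iv4 F421824) (iv3 F421822) (iv3 D217567) (iv4 D187569) D187567 (iv4 F475043) F475044 F442605
theorem F489538 : act 1 n212402 = n217567 := d15_1 F465674 F489536 (iv2 F421837)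
def n217568 : Q := act 5 n187569
theorem D217568 : act 5 n187569 = n217568 := rfl
theorem F489539 : act 6 n217568 = n196256 := d12_2 (iv6 F370836) D217568 (iv5 D196256) D196257 (iv5 F400081)
theorem F489540 : act 7 n217568 = n188038 := d13_2 (iv7 F370837) D217568 (iv5 D188038)
theorem F489541 : act 4 n217568 = n208641 := d16_2 D187569 D217568 (iv5 D208641) F372082 (iv5 D188010) F139634 D90747 F251134 F251131
theorem F489542 : act 0 n217568 = n213740 := d17_2 F375112 D217568 F471868 (iv4 D159828) (iv5 D76493) (iv0 F177333) D43456 D92875 D188876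
def n217569 : Q := act 6 n187570
theorem D217569 : act 6 n187570 = n217569 := rfl
theorem F489543 : act 3 n217569 = n187571 := d7_1 D217569 (iv6 D187571) D187570
theorem F489544 : act 4 n217569 = n201644 := d10_1 D217569 (iv6 F489535) F489534
def n217570 : Q := act 5 n187571
theorem D217570 : act 5 n187571 = n217570 := rfl
theorem F489545 : act 2 n217570 = n188114 := d2_1 D217570 (iv5 D188114) (iv2 F370840)
theorem F489546 : act 4 n217570 = n214548 := d16_2 (iv4 F370841) D217570 (iv5 D214548) F251834 D190116 F378907 F372382 (iv7 D90821) (iv2 F139021)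
theorem F489547 : act 0 n217570 = n204715 := d17_2 F420448 D217570 F433374 (iv4 F420444) (iv5 F462627) (iv0 F462632) F368424 (iv0 F178533) (iv4 F420446)
def n217571 : Q := act 3 n187574
theorem D217571 : act 3 n187574 = n217571 := rfl
theorem F489548 : act 2 n217571 = n192999 := d0_1 D217571 (iv3 F388480) (iv2 F239588) (iv3 F366025) (iv2 F370855)
theorem F489549 : act 5 n217571 = n189666 := d6_2 F370854 D217571 F377304
theorem F489550 : act 6 n217571 = n208779 := d7_2 (iv6 F433057) D217571 F450827
theorem F489551 : act 7 n217571 = n192763 := d8_2 (iv7 F370853) D217571 (iv3 D192763)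
theorem F489552 : act 0 n217571 = n192032 := d20_4 (iv4 F458241) (iv1 F458242) F433059 D217571 F385287 D216558 F484939 F388507 (iv3 F454203) (iv1 F454206)
theorem F489553 : act 4 n217571 = n208780 := d20_6 (iv4 F294498) (iv1 F140456) (iv4 D91352) (iv3 F140447) (iv1 F370852) D217571 F450831 (iv4 D187856) F139507 (iv1 F293565)
theorem F489554 : act 0 n192033 = n217571 := d20_4 D194655 F393973 (iv4 D192965) (iv3 F385292) (iv3 D217571) (iv4 F433059) F458203 (iv4 F484567) F484563 (iv1 F345094)
def n217572 : Q := act 0 n187575
theorem D217572 : act 0 n187575 = n217572 := rfl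
theorem F489555 : act 4 n217572 = n216481 := d18_3 (iv1 D187574) D187575 D217572 F484596 (iv4 D191687) (iv0 D98650) F72695 D98651 F370854
theorem F489556 : act 2 n192767 = n217572 := d15_3 (iv0 D217572) F454201 (iv7 F454202)
theorem F489557 : act 1 n188397 = n217572 := d15_0 (iv0 D217572) F370857 (iv2 F373291)
theorem F489558 : act 7 n217572 = n192766 := d15_2 (iv0 F454200) F489557 (iv2 F454197)
theorem F489559 : act 3 n210831 = n217572 := d8_3 F489558 F469308 F469307
theorem F489560 : act 6 n214529 = n217572 := d14_5 F489558 (iv6 F454168) F388598 F387710 (iv7 F475646)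
def n217573 : Q := act 6 n187575
theorem D217573 : act 6 n187575 = n217573 := rfl
theorem F489561 : act 2 n217573 = n211586 := d3_1 D217573 (iv6 F462269) (iv2 F370856)
theorem F489562 : act 3 n217573 = n198245 := d7_1 D217573 (iv6 F471467) F471465
theorem F489563 : act 4 n217573 = n187576 := d10_1 D217573 (iv6 D187576) D187575
theorem F489564 : act 5 n217573 = n205931 := d12_1 D217573 (iv6 F466371) F466370 D213653 F471463
theorem F489565 : act 7 n217573 = n211587 := d14_2 (iv7 F370857) D217573 (iv6 F470292) F470294 (iv6 D192769)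
theorem F489566 : act 0 n217573 = n210039 := d21_4 (iv5 F428113) F471462 F471463 D217573 F455875 F454248 F356274 (iv5 F388681) F388682 F385334
theorem F489567 : act 1 n217573 = n210040 := d15_1 (iv0 F489566) F455880 (iv2 F455873)
def n217574 : Q := act 7 n187576
theorem D217574 : act 7 n187576 = n217574 := rfl
theorem F489568 : act 2 n217574 = n211354 := d4_1 D217574 F461251 (iv2 F370858)
theorem F489569 : act 3 n217574 = n187581 := d8_1 D217574 (iv7 D187581) (iv3 F370859)
theorem F489570 : act 4 n217574 = n211587 := d11_1 D217574 (iv7 F489565) F489563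
theorem F489571 : act 5 n217574 = n187624 := d13_1 D217574 (iv7 D187624) (iv5 F370860)
theorem F489572 : act 6 n217574 = n192772 := d14_1 D217574 (iv7 D192772) (iv6 D100642) (iv7 F293978) D187576
theorem F489573 : act 1 n210617 = n217574 := d15_1 (iv0 F458230) (iv7 D217574) F370858
theorem F489574 : act 1 n217574 = n210616 := d15_1 F489573 (iv7 F460447) F460445
def n217575 : Q := act 3 n187579
theorem D217575 : act 3 n187579 = n217575 := rfl
theorem F489575 : act 2 n217575 = n193006 := d0_1 D217575 (iv3 F487450) F487449 (iv3 D188153) (iv2 F380053)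
theorem F489576 : act 4 n217575 = n209610 := d5_2 F387523 D217575 F454327 (iv4 D198175) (iv3 F387527)
theorem F489577 : act 5 n217575 = n208565 := d6_2 F389685 D217575 F449913
theorem F489578 : act 6 n217575 = n209399 := d7_2 (iv6 F380052) D217575 (iv3 F453583)
theorem F489579 : act 7 n217575 = n188158 := d8_2 (iv7 F380054) D217575 (iv3 D188158)
theorem F489580 : act 0 n217575 = n193008 := d20_4 (iv4 F154602) D192700 F387523 D217575 F388503 (iv4 D141484) (iv1 F223263) (iv4 F387213) (iv3 F387214) (iv1 D100537)
theorem F489581 : act 0 n192964 = n217575 := d21_4 (iv5 D47075) D47073 D101038 D192964 F489578 (iv5 F453584) F388391 (iv5 F388389) (iv6 D192970) (iv1 D101044)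
def n217576 : Q := act 4 n187585
theorem D217576 : act 4 n187585 = n217576 := rfl
theorem F489582 : act 2 n217576 = n188260 := d1_1 D217576 (iv4 D188260) F370901
theorem F489583 : act 5 n217576 = n214951 := d9_2 (iv5 F370900) D217576 F477598 F347058 F344346 (iv5 F344342) (iv4 F294777) (iv5 F370894) (iv4 F474393) (iv5 D214283) (iv4 F258185) (iv5 F348609) (iv4 D137583) (iv5 F338481) (iv4 F294779)
theorem F489584 : act 7 n217576 = n188263 := d11_2 (iv7 F370899) D217576 (iv4 D188263)
theorem F489585 : act 0 n217576 = n188464 := d17_0 (iv5 F482880) (iv1 F482886) F363990 F338450 F338447 (iv0 D90371) D90374 D187585 D217576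
theorem F489586 : act 3 n217576 = n198259 := d19_3 (iv1 F140049) (iv5 F370900) D217576 (iv1 F467832) (iv5 F467831) (iv4 F478356) (iv3 D215102) (iv1 D166554) (iv5 F135433) (iv4 F287995) (iv3 D185701) (iv1 F294019) F70461 (iv4 F70460) (iv3 F147779) F147780 (iv5 D95643) F70243 (iv3 F295161)
def n217577 : Q := act 6 n187585
theorem D217577 : act 6 n187585 = n217577 := rfl
theorem F489587 : act 2 n217577 = n188261 := d3_1 D217577 (iv6 D188261) F370901
theorem F489588 : act 3 n217577 = n217124 := d7_1 D217577 (iv6 D217124) F370902
theorem F489589 : act 5 n217577 = n191970 := d12_1 D217577 (iv6 D191970) (iv5 F349310) F349309 (iv5 F370900)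
theorem F489590 : act 7 n217577 = n189149 := d14_2 (iv7 F370899) D217577 (iv6 F452488) F452485 (iv6 F356801)
theorem F489591 : act 0 n217577 = n188697 := d21_4 (iv5 D93238) (iv1 F140049) (iv5 F370900) D217577 F407614 (iv5 F407613) F411155 (iv5 F372823) (iv6 D188247) F338427
theorem F489592 : act 0 n189150 = n217577 := d21_4 F373060 F214807 D206774 (iv6 F442143) (iv6 D217577) F370900 (iv1 D91001) (iv5 F66917) D91210 D188313
theorem F489593 : act 3 n189149 = n208712 := d8_1 F489590 F487549 (iv3 F489588)
theorem F489594 : act 4 n212142 = n208712 := d19_2 (iv1 D212141) D212142 (iv3 F489593) (iv1 D189149) D189152 F401628 (iv3 F462067) (iv1 F462070) (iv5 F459309) F459308 F432343 F432227 (iv5 F432225) (iv4 F479545) F479544 (iv1 D212552) (iv5 F409646) D214789 F476852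
theorem F489595 : act 0 n212142 = n204537 := d20_1 (iv4 F489594) (iv4 F486498) (iv3 F486497) F443444 F284736 (iv4 F284742) F375799 (iv4 D189114) D189113 (iv1 F450530)
def n217578 : Q := act 7 n187587
theorem D217578 : act 7 n187587 = n217578 := rfl
theorem F489596 : act 2 n217578 = n216507 := d4_1 D217578 (iv7 F485000) F484997
theorem F489597 : act 3 n217578 = n187590 := d8_1 D217578 (iv7 D187590) (iv3 F370908)
theorem F489598 : act 4 n217578 = n216512 := d11_1 D217578 F484744 F482596
theorem F489599 : act 5 n217578 = n193785 := d13_1 D217578 (iv7 D193785) (iv5 F370909)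
theorem F489600 : act 6 n217578 = n188268 := d14_1 D217578 (iv7 D188268) (iv6 D91128) (iv7 F139081) D187587
theorem F489601 : act 0 n213736 = n217578 := d20_10 F489598 (iv1 F484746) (iv4 F427835) (iv3 D203315) (iv1 F419928) (iv3 F471834) (iv4 D213733) (iv1 D154773) D154774 D213736
def n217579 : Q := act 5 n187588
theorem D217579 : act 5 n187588 = n217579 := rfl
theorem F489602 : act 2 n217579 = n188236 := d2_1 D217579 (iv5 D188236) F370911
theorem F489603 : act 3 n217579 = n213582 := d6_1 D217579 F471139 F370912
theorem F489604 : act 6 n217579 = n193565 := d12_2 (iv6 F370910) D217579 (iv5 F450616) (iv6 D208732) F332709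
theorem F489605 : act 7 n217579 = n188237 := d13_2 F370915 D217579 (iv5 D188237)
theorem F489606 : act 0 n193752 = n217579 := d21_10 (iv5 D217579) (iv1 F370922) (iv5 F372799) F372800 (iv1 F382915) (iv6 F485975) F485970 (iv1 F453863) F359415 D193752
def n217580 : Q := act 4 n187593
theorem D217580 : act 4 n187593 = n217580 := rfl
theorem F489607 : act 2 n217580 = n187595 := d1_1 D217580 (iv4 D187595) (iv2 F370944)
theorem F489608 : act 3 n217580 = n194720 := d5_1 D217580 (iv4 F485005) F485004 (iv4 D188254) (iv3 F370945)
theorem F489609 : act 5 n217580 = n217333 := d9_2 D187593 D217580 (iv4 D217333) (iv5 D187188) F343052 (iv5 D91097) (iv4 D42664) D42665 D91101 D188226 F372734 (iv5 D187186) (iv4 F343054) F356265 F283179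
theorem F489610 : act 7 n217580 = n188214 := d11_2 (iv7 F370946) D217580 (iv4 D188214)
theorem F489611 : act 0 n217580 = n188225 := d17_0 (iv5 F374706) F375703 (iv5 D189088) (iv4 D93214) (iv5 D43608) D43605 (iv5 F356248) (iv0 F370948) D217580
theorem F489612 : act 1 n217580 = n188224 := d18_6 F370482 F141494 (iv1 F283181) F283179 D187593 D217580 F372729 D190513 F379968
theorem F489613 : act 6 n216510 = n217580 := d21_9 (iv5 F374706) F375703 (iv5 D189088) D189089 (iv1 F443298) (iv6 F443299) (iv5 F489279) (iv1 F489281) (iv5 F484733) F489611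
def n217581 : Q := act 6 n187593
theorem D217581 : act 6 n187593 = n217581 := rfl
theorem F489614 : act 2 n217581 = n187596 := d3_1 D217581 (iv6 D187596) (iv2 F370944)
theorem F489615 : act 3 n217581 = n188255 := d7_1 D217581 (iv6 D188255) (iv3 F370945)
theorem F489616 : act 4 n217581 = n216510 := d10_1 D217581 F489613 (iv4 D217580)
theorem F489617 : act 5 n217581 = n217081 := d12_1 D217581 (iv6 D217081) F370955 (iv6 D187594) D187593
theorem F489618 : act 7 n217581 = n216508 := d14_2 (iv7 F370946) D217581 (iv6 D216508) F372702 (iv6 D188215)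
theorem F489619 : act 0 n217581 = n217092 := d21_4 F357558 (iv1 F139091) D187593 D217581 (iv6 D217092) (iv5 D186763) (iv1 D89108) D89109 F136825 D89121
def n217582 : Q := act 5 n187595
theorem D217582 : act 5 n187595 = n217582 := rfl
theorem F489620 : act 2 n217582 = n217333 := d2_1 D217582 (iv5 F489609) F489607
theorem F489621 : act 3 n217582 = n188605 := d6_1 D217582 (iv5 D188605) (iv3 F370956)
theorem F489622 : act 4 n217582 = n215714 := d9_1 D217582 (iv5 D215714) (iv4 F372695) (iv5 D188213) (iv4 D91093) D91094 D188214 (iv5 F378146) (iv4 F463906) F463907 F364456 F292816 F133281 D90381 D187595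
theorem F489623 : act 7 n217582 = n188226 := d13_2 (iv7 F370957) D217582 (iv5 D188226)
theorem F489624 : act 0 n217582 = n207088 := d17_2 F456782 D217582 F443262 F375692 F283446 D184071 (iv5 F367241) F372517 (iv4 F456779)
theorem F489625 : act 1 n217582 = n211598 := d17_6 F295262 F347752 (iv1 D90379) D90381 D187595 D217582 F462322 F375696 (iv4 D186757)
def n217583 : Q := act 6 n187595
theorem D217583 : act 6 n187595 = n217583 := rfl
theorem F489626 : act 2 n217583 = n216510 := d3_1 D217583 F489613 F489607
theorem F489627 : act 3 n217583 = n188606 := d7_1 D217583 (iv6 D188606) (iv3 F370956)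
theorem F489628 : act 4 n217583 = n187596 := d10_1 D217583 (iv6 D187596) D187595
theorem F489629 : act 7 n217583 = n192611 := d14_2 (iv7 F370957) D217583 (iv6 D192611) (iv7 F372742) (iv6 D188227)
theorem F489630 : act 0 n217583 = n201546 := d21_4 (iv5 F462322) (iv1 F489625) (iv5 D217582) D217583 F454150 (iv5 D209563) F419114 (iv5 F487358) F487356 (iv1 F375696)
theorem F489631 : act 1 n217583 = n216509 := d15_1 (iv0 F489630) F484730 (iv2 F420913)
theorem F489632 : act 5 n217583 = n217515 := d19_1 (iv1 F489631) F489272 F372787 F308377 (iv5 F294573) (iv4 F362828) F142617 (iv1 F68003) D43469 (iv4 F68322) F33538 (iv1 F291399) (iv5 D19287) D19286 D40935 F177418 (iv5 F153303) (iv4 F385338) (iv3 F484728)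
def n217584 : Q := act 1 n187596
theorem D217584 : act 1 n187596 = n217584 := rfl
theorem F489633 : act 1 n217584 = n216508 := d15_1 D217584 (iv7 F489618) F489614
theorem F489634 : act 7 n217584 = n217092 := d15_2 (iv0 F478923) D217584 F487366
def n217585 : Q := act 7 n187596
theorem D217585 : act 7 n187596 = n217585 := rfl
theorem F489635 : act 2 n217585 = n216508 := d4_1 D217585 (iv7 F489618) F489614
theorem F489636 : act 3 n217585 = n187599 := d8_1 D217585 (iv7 D187599) (iv3 F370959)
theorem F489637 : act 4 n217585 = n192611 := d11_1 D217585 (iv7 F489629) F489628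
theorem F489638 : act 5 n217585 = n217228 := d13_1 D217585 (iv7 D217228) (iv5 F370960)
theorem F489639 : act 6 n217585 = n188230 := d14_1 D217585 (iv7 D188230) (iv6 D91102) (iv7 F139095) D187596
theorem F489640 : act 0 n217092 = n217585 := d19_0 F489638 F488029 (iv3 F398386) (iv1 D182199) (iv5 F145048) (iv4 F371548) F371547 (iv1 F139467) (iv5 F68290) (iv4 F55038) (iv3 D34819) (iv1 F27679) (iv5 F55112) (iv4 F114342) (iv3 F251169) F446889 (iv5 D207887) (iv4 F446884) (iv3 F487367)
def n217586 : Q := act 4 n187597
theorem D217586 : act 4 n187597 = n217586 := rfl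
theorem F489641 : act 2 n217586 = n192872 := d1_1 D217586 F388074 F370963
theorem F489642 : act 3 n217586 = n188210 := d5_1 D217586 F372682 (iv3 F372662) F372663 F370966
theorem F489643 : act 5 n217586 = n214728 := d9_2 (iv5 F370961) D217586 (iv4 F476568) F390746 (iv4 F369192) (iv5 F388086) (iv4 D192878) (iv5 D100870) (iv4 F155004) D192871 F388069 (iv5 D192162) (iv4 F367410) F367411 (iv4 F369232)
theorem F489644 : act 6 n217586 = n188208 := d10_2 (iv6 F370962) D217586 F372676
theorem F489645 : act 7 n217586 = n192835 := d11_2 (iv7 F370965) D217586 F387973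
theorem F489646 : act 0 n217586 = n192810 := d17_0 (iv5 F488883) (iv1 F488888) (iv5 D190738) F148681 D172215 (iv0 F387897) (iv5 D192819) F370964 D217586
theorem F489647 : act 1 n217586 = n192870 := d18_6 (iv1 F384273) F384274 (iv1 D187144) (iv4 F369232) (iv5 F370961) D217586 F388064 (iv0 D184323) (iv5 F283682)
def n217587 : Q := act 5 n187611
theorem D217587 : act 5 n187611 = n217587 := rfl
theorem F489648 : act 2 n217587 = n188838 := d2_1 D217587 F375039 F374799
theorem F489649 : act 4 n217587 = n195600 := d9_1 D217587 F397542 F374477 (iv5 D187603) (iv4 D90387) D90388 D187604 F374805 (iv4 F372136) F374806 F374478 (iv5 D187609) (iv4 D90392) D90393 D187611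
theorem F489650 : act 6 n217587 = n188640 := d12_2 (iv6 F374798) D217587 (iv5 D188640) (iv6 F177384) D187530
theorem F489651 : act 7 n217587 = n203360 := d13_2 F374797 D217587 (iv5 D203360)
theorem F489652 : act 0 n217587 = n188964 := d17_2 F420537 D217587 F483903 (iv4 D216336) (iv5 F370493) F370495 (iv5 F486910) (iv0 D216998) (iv4 F420536)
theorem F489653 : act 1 n217587 = n201631 := d17_6 F295169 F294990 (iv1 F294662) D90393 D187611 D217587 (iv5 F486712) (iv0 D216957) (iv4 D186444)
def n217588 : Q := act 1 n187612
theorem D217588 : act 1 n187612 = n217588 := rfl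
theorem F489654 : act 1 n217588 = n188769 := d15_1 D217588 F374787 F374790
theorem F489655 : act 7 n217588 = n192536 := d15_2 (iv0 F371013) D217588 F386993
theorem F489656 : act 4 n217588 = n188974 := d18_7 (iv1 F143356) (iv4 F143350) (iv1 F177398) F177400 D187530 F374791 D217588 F375300 (iv5 D100347)
theorem F489657 : act 3 n188290 = n217588 := d20_3 (iv4 D114353) F162646 (iv4 F372973) (iv1 D217588) F387121 F387120 (iv1 F387113) (iv4 F384365) F384364 (iv1 F356708)
theorem F489658 : act 6 n212998 = n217588 := d21_3 (iv5 F375825) D210478 (iv5 F468522) (iv1 D217588) (iv6 D187612) (iv5 D90393) (iv1 D42256) D42258 D90399 D187622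
theorem F489659 : act 2 n217588 = n188273 := d0_1 F489657 (iv3 D188273) F370969 (iv3 F370970) F372974
def n217589 : Q := act 7 n187614
theorem D217589 : act 7 n187614 = n217589 := rfl
theorem F489660 : act 2 n217589 = n187624 := d4_1 D217589 (iv7 D187624) (iv2 F371017)
theorem F489661 : act 3 n217589 = n188293 := d8_1 D217589 (iv7 D188293) (iv3 F371018)
theorem F489662 : act 4 n217589 = n202954 := d11_1 D217589 F426364 (iv4 F371019)
theorem F489663 : act 5 n217589 = n211354 := d13_1 D217589 F461251 (iv5 F371020)
theorem F489664 : act 6 n217589 = n203341 := d14_1 D217589 F427956 (iv6 D188321) F140254 D187614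
theorem F489665 : act 1 n187623 = n217589 := d15_1 D187623 (iv7 D217589) F371017
theorem F489666 : act 1 n217589 = n187622 := d15_1 F489665 (iv7 F428018) F428016
def n217590 : Q := act 6 n187615
theorem D217590 : act 6 n187615 = n217590 := rfl
theorem F489667 : act 2 n217590 = n209396 := d3_1 D217590 (iv6 F453562) F376434
theorem F489668 : act 3 n217590 = n187617 := d7_1 D217590 (iv6 D187617) D187615
theorem F489669 : act 4 n217590 = n209395 := d10_1 D217590 (iv6 F453558) F384418
theorem F489670 : act 5 n217590 = n208752 := d12_1 D217590 (iv6 F456785) F456784 F294971 (iv5 F371021)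
theorem F489671 : act 0 n208900 = n217590 := d17_0 F489670 (iv1 D208752) (iv5 F450509) F450508 F413533 (iv0 F391829) F391828 F450834 (iv4 F451321)
theorem F489672 : act 1 n208756 = n217590 := d17_6 (iv1 F179370) F347574 (iv1 F364735) (iv5 F251498) (iv4 F449997) (iv5 F450726) F489670 F450713 F217528
def n217591 : Q := act 3 n187616
theorem D217591 : act 3 n187616 = n217591 := rfl
theorem F489673 : act 4 n217591 = n208417 := d5_2 D187616 D217591 F449263 F384418 (iv3 D187615)
theorem F489674 : act 7 n217591 = n216359 := d8_2 F373080 D217591 F483997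
theorem F489675 : act 0 n216161 = n217591 := d20_4 F134185 (iv1 F133451) D182039 D216161 (iv3 D217591) (iv4 D187616) (iv1 D90397) D90398 (iv3 F140236) (iv1 F295015)
theorem F489676 : act 1 n207372 = n217591 := d15_0 (iv0 F489675) F483243 (iv2 F444559)
theorem F489677 : act 2 n217591 = n216360 := d16_9 (iv4 F484000) F434954 (iv4 F443074) (iv5 F456920) (iv4 D210303) (iv5 F454356) (iv4 F484014) F484013 (iv7 F489674)
def n217592 : Q := act 3 n187618
theorem D217592 : act 3 n187618 = n217592 := rfl
theorem F489678 : act 4 n217592 = n207336 := d5_2 (iv4 F371024) D217592 (iv3 F487431) F487427 F378874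
theorem F489679 : act 5 n217592 = n212308 := d6_2 (iv5 F371023) D217592 (iv3 D212308)
theorem F489680 : act 6 n217592 = n213076 := d7_2 F443774 D217592 (iv3 F468883)
theorem F489681 : act 7 n217592 = n207332 := d8_2 F374468 D217592 (iv3 F444385)
def n217593 : Q := act 3 n187619
theorem D217593 : act 3 n187619 = n217593 := rfl
theorem F489682 : act 2 n217593 = n189007 := d0_1 D217593 (iv3 F432836) (iv2 F444383) (iv3 F444385) F374470
theorem F489683 : act 5 n217593 = n212311 := d6_2 F373012 D217593 (iv3 D212311)
theorem F489684 : act 6 n217593 = n188670 := d7_2 F450155 D217593 (iv3 F450158)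
def n217594 : Q := act 6 n187620
theorem D217594 : act 6 n187620 = n217594 := rfl
theorem F489685 : act 2 n217594 = n212908 := d3_1 D217594 (iv6 F484072) F484069
theorem F489686 : act 3 n217594 = n189576 := d7_1 D217594 (iv6 D189576) (iv3 F371025)
theorem F489687 : act 4 n217594 = n203303 := d10_1 D217594 (iv6 F484097) F484095
theorem F489688 : act 7 n217594 = n212906 := d14_2 (iv7 F371026) D217594 F468054 F427763 F356761
theorem F489689 : act 0 n217594 = n209084 := d21_4 F373012 (iv1 D187619) D187620 D217594 F452174 (iv5 D135715) (iv1 F327871) F183699 D146563 (iv1 F356766)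
theorem F489690 : act 0 n212608 = n217594 := d21_4 (iv5 F487032) F487034 (iv5 F448372) D212608 (iv6 D217594) (iv5 D187620) D187618 F371023 D212310 F468259
def n217595 : Q := act 0 n187621
theorem D217595 : act 0 n187621 = n217595 := rfl
theorem F489691 : act 5 n217595 = n212320 := d17_1 D217595 (iv1 F465299) (iv5 F427101) (iv4 F468521) F468522 (iv0 D210478) F375825 (iv0 D187622) (iv4 F371028)
theorem F489692 : act 6 n217595 = n203377 := d21_5 (iv5 F374806) F372142 (iv5 D187620) D187621 D217595 F428099 (iv1 D146405) D146406 (iv6 F375788) (iv1 F375791)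
theorem F489693 : act 2 n203388 = n217595 := d15_3 (iv0 D217595) (iv0 F397544) D203388
theorem F489694 : act 7 n217595 = n203321 := d4_2 D203388 F489693 F427869
theorem F489695 : act 3 n203472 = n217595 := d8_3 F489694 F427870 D203472
theorem F489696 : act 1 n202954 = n217595 := d15_1 F426365 F489694 F427869
def n217596 : Q := act 5 n187621
theorem D217596 : act 5 n187621 = n217596 := rfl
theorem F489697 : act 2 n217596 = n202938 := d2_1 D217596 F426280 (iv2 F371027)
theorem F489698 : act 3 n217596 = n202947 := d6_1 D217596 F426321 F373029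
theorem F489699 : act 4 n217596 = n194040 := d16_6 F454407 (iv5 F489564) F489563 F370860 (iv4 F371028) D217596 (iv5 F438149) (iv7 F456373) F456371
theorem F489700 : act 7 n217596 = n208991 := d16_8 F391839 (iv5 F454408) F454407 (iv5 F489564) F489563 F370860 (iv4 F371028) D217596 F451736
theorem F489701 : act 0 n217596 = n208993 := d17_2 F397544 D217596 (iv5 F466652) F466651 (iv5 F454250) (iv0 F454251) D210619 (iv0 F458236) F428117
theorem F489702 : act 1 n217596 = n208988 := d17_6 F458490 (iv5 F460448) F460449 F370860 (iv4 F371028) D217596 (iv5 F466644) (iv0 D212603) F356692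
def n217597 : Q := act 7 n187621
theorem D217597 : act 7 n187621 = n217597 := rfl
theorem F489703 : act 2 n217597 = n202954 := d4_1 D217597 F426364 (iv2 F371027)
theorem F489704 : act 3 n217597 = n201335 := d8_1 D217597 F420057 F373029
theorem F489705 : act 4 n217597 = n187624 := d11_1 D217597 (iv7 D187624) (iv4 F371028)
theorem F489706 : act 5 n217597 = n208991 := d13_1 D217597 (iv7 F489700) (iv5 D217596)
theorem F489707 : act 1 n203321 = n217597 := d15_1 (iv0 F427872) (iv7 D217597) F371027
theorem F489708 : act 1 n217597 = n203388 := d15_1 F489707 (iv7 D203388) (iv2 F427869)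
def n217598 : Q := act 3 n187622
theorem D217598 : act 3 n187622 = n217598 := rfl
theorem F489709 : act 2 n217598 = n211202 := d0_1 D217598 (iv3 D211202) (iv2 F224229) D210853 (iv2 F459031)
theorem F489710 : act 5 n217598 = n204516 := d6_2 F375825 D217598 F432786
theorem F489711 : act 6 n217598 = n210473 := d7_2 (iv6 F375824) D217598 F457682
theorem F489712 : act 7 n217598 = n212443 := d8_2 F428018 D217598 F465815
theorem F489713 : act 0 n212445 = n217598 := d20_4 (iv4 D110218) (iv1 F170313) D198765 (iv3 F465822) (iv3 D217598) (iv4 F421140) (iv1 F421143) (iv4 F460656) F460654 F407450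
theorem F489714 : act 1 n202914 = n217598 := d15_0 (iv0 F489713) (iv7 D212445) (iv2 F426184)
theorem F489715 : act 5 n203123 = n210472 := d21_0 (iv1 D210472) D210473 (iv6 F489711) (iv1 F489714) (iv6 D202914) F183490 (iv1 D54213) D54214 D117697 D203123
def n217599 : Q := act 5 n187623
theorem D217599 : act 5 n187623 = n217599 := rfl
theorem F489716 : act 2 n217599 = n199791 := d2_1 D217599 F428019 F428016
theorem F489717 : act 3 n217599 = n211205 := d6_1 D217599 (iv5 D211205) F372990
theorem F489718 : act 4 n217599 = n198991 := d9_1 D217599 F410211 D202528 (iv5 F453028) F453027 (iv5 F421141) F421140 (iv5 F375825) F410218 F410217 (iv4 F220009) (iv5 F438909) F438908 (iv5 F239985) (iv4 F372991)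
theorem F489719 : act 6 n217599 = n210485 := d12_2 F372992 D217599 F475212 (iv6 D214446) F251060
theorem F489720 : act 7 n217599 = n199788 := d13_2 F459027 D217599 (iv5 F459026)
theorem F489721 : act 0 n217599 = n193059 := d17_2 (iv1 F489665) D217599 (iv5 F468194) F468193 F466657 F456345 F397396 F426365 (iv4 F489662)
theorem F489722 : act 1 n217599 = n210478 := d17_8 F420733 F420731 (iv1 F438476) (iv5 F489564) F489563 F370860 D187623 D217599 F457703
def n217600 : Q := act 0 n187626
theorem D217600 : act 0 n187626 = n217600 := rfl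
theorem F489723 : act 5 n217600 = n193008 := d17_1 D217600 (iv1 F411232) F449920 (iv4 D208566) F404824 F180087 D140463 F350892 F371031
theorem F489724 : act 4 n217600 = n210914 := d18_3 (iv1 F350889) F371031 D217600 (iv5 D210914) (iv4 F442205) F442209 (iv4 D202441) (iv0 D115740) D115743
theorem F489725 : act 3 n217600 = n202647 := d20_5 F294986 D99032 F373122 D187626 D217600 (iv4 D202647) (iv1 F181208) D141200 F378689 (iv1 D186656)
theorem F489726 : act 6 n217600 = n203028 := d21_5 (iv5 D209154) (iv1 D135889) D135890 F371035 D217600 (iv5 D203028) F251049 D117592 F365687 (iv1 F452487)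
theorem F489727 : act 2 n188352 = n217600 := d15_3 (iv0 D217600) (iv0 F388362) (iv7 F375759)
theorem F489728 : act 1 n188353 = n217600 := d15_0 (iv0 D217600) F371033 D188353
theorem F489729 : act 7 n217600 = n188247 := d15_2 F388363 F489728 (iv2 F375758)
def n217601 : Q := act 5 n187630
theorem D217601 : act 5 n187630 = n217601 := rfl
theorem F489730 : act 2 n217601 = n209438 := d2_1 D217601 (iv5 F484704) F484699
theorem F489731 : act 3 n217601 = n187632 := d6_1 D217601 (iv5 D187632) D187630
theorem F489732 : act 7 n217601 = n188341 := d13_2 (iv7 F371054) D217601 (iv5 D188341)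
theorem F489733 : act 0 n217601 = n204208 := d17_2 (iv1 F487463) D217601 F431491 (iv4 F373109) (iv5 D188341) (iv0 F373113) D217107 (iv0 F487458) (iv4 F487461)
theorem F489734 : act 4 n208681 = n217601 := d11_3 F489732 F373109 (iv7 F450433)
theorem F489735 : act 6 n193066 = n217601 := d7_0 F489731 (iv6 F371060) D193066
theorem F489736 : act 1 n217601 = n209437 := d15_0 (iv0 D209437) D209438 (iv2 F489730)
theorem F489737 : act 7 n209437 = n207966 := d15_2 (iv0 F489733) F489736 F447184
theorem F489738 : act 3 n208206 = n209437 := d19_19 (iv1 F489736) (iv5 D217601) (iv4 F387207) F387206 F384462 F384460 F350364 D139512 (iv1 F373283) F331757 (iv4 F401841) (iv3 D196800) F343461 (iv5 F317510) (iv4 F209254) F367913 (iv1 D135558) D135559 (iv4 F448350)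
theorem F489739 : act 6 n209437 = n209007 := d7_2 (iv6 F448351) F489738 (iv3 D209007)
def n217602 : Q := act 5 n187633
theorem D217602 : act 5 n187633 = n217602 := rfl
theorem F489740 : act 2 n217602 = n188360 := d2_1 D217602 (iv5 D188360) (iv2 F371061)
theorem F489741 : act 6 n217602 = n193068 := d12_2 D187633 D217602 (iv5 D193068) F371060 (iv5 D187632)
theorem F489742 : act 0 n217602 = n217176 := d21_1 D217602 F487796 (iv6 F487626) (iv1 D217139) F368339 (iv5 D89320) D89318 F137015 D101580 F371062
theorem F489743 : act 0 n217579 = n217602 := d21_10 (iv5 D217602) F474919 (iv5 F474917) (iv6 F471335) (iv1 F471338) F390898 F449830 F450618 F450616 (iv6 F489604)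
def n217603 : Q := act 7 n187634
theorem D217603 : act 7 n187634 = n217603 := rfl
theorem F489744 : act 2 n217603 = n192805 := d4_1 D217603 F387840 (iv2 F371063)
theorem F489745 : act 3 n217603 = n195800 := d8_1 D217603 F398238 F397715
theorem F489746 : act 4 n217603 = n187977 := d11_1 D217603 (iv7 D187977) (iv4 F371064)
theorem F489747 : act 5 n217603 = n195799 := d13_1 D217603 F398232 F374583
theorem F489748 : act 6 n217603 = n189756 := d14_1 D217603 (iv7 D189756) F145582 F139148 D187634
theorem F489749 : act 1 n192807 = n217603 := d15_1 D192807 (iv7 D217603) F371063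
theorem F489750 : act 1 n217603 = n192806 := d15_1 F489749 (iv7 F387847) (iv2 F387854)
def n217604 : Q := act 5 n187635
theorem D217604 : act 5 n187635 = n217604 := rfl
theorem F489751 : act 2 n217604 = n196221 := d2_1 D217604 (iv5 F399959) (iv2 F371065)
theorem F489752 : act 3 n217604 = n187636 := d6_1 D217604 (iv5 D187636) D187635
theorem F489753 : act 4 n217604 = n196097 := d9_1 D217604 (iv5 D196097) (iv4 F206932) D206463 F440943 (iv5 D187639) (iv4 F142880) D188717 (iv4 F399969) (iv5 F440874) F440873 (iv5 F398188) (iv4 F399958) (iv5 F399959) (iv4 F371066)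
theorem F489754 : act 6 n217604 = n196218 := d12_2 (iv6 F396180) D217604 F399948 (iv6 D195192) D195191
theorem F489755 : act 7 n217604 = n187639 := d13_2 (iv7 F371067) D217604 (iv5 D187639)
def n217605 : Q := act 1 n187639
theorem D217605 : act 1 n187639 = n217605 := rfl
theorem F489756 : act 1 n217605 = n196221 := d15_1 D217605 F399960 F374539
theorem F489757 : act 4 n217605 = n207587 := d18_7 F445579 F437089 (iv1 F398197) (iv4 F206932) D206463 F440943 D217605 (iv0 D207587) D207588
theorem F489758 : act 3 n187660 = n217605 := d19_19 (iv1 D217605) (iv5 D187639) (iv4 F142880) (iv3 D92699) (iv1 D43362) (iv5 F40314) (iv4 F82738) (iv3 F176619) F331162 (iv5 D181690) (iv4 D86716) (iv3 F296822) F326119 F325341 (iv4 F303763) (iv3 F431871) F431873 F387091 (iv4 F371133)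
theorem F489759 : act 5 n189227 = n217605 := d21_0 (iv1 D217605) (iv5 D187639) (iv6 F367235) F288957 (iv6 F466766) (iv5 D212627) (iv1 F419390) (iv5 D201192) (iv6 F418756) F418757
def n217606 : Q := act 3 n187641
theorem D217606 : act 3 n187641 = n217606 := rfl
theorem F489760 : act 4 n217606 = n201012 := d5_2 D187641 D217606 (iv3 D201012) (iv4 D113745) (iv3 F176998)
theorem F489761 : act 7 n217606 = n207691 := d8_2 F371476 D217606 F446027
theorem F489762 : act 0 n217606 = n207690 := d19_4 F371091 (iv5 D187642) D187641 D217606 (iv5 F446024) (iv4 D185789) (iv3 D88485) (iv1 D41303) (iv5 D19437) (iv4 D9121) (iv3 D4094) (iv1 F3022) (iv5 F5934) (iv4 F6100) (iv3 F14435) (iv1 F31130) (iv5 F291177) (iv4 F68957) (iv3 F144648)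
theorem F489763 : act 0 n207693 = n217606 := d20_4 F211795 (iv1 F214371) F214367 (iv3 F446032) (iv3 D217606) (iv4 D187641) (iv1 F326589) (iv4 F211793) F211792 D132201
theorem F489764 : act 5 n217606 = n187641 := d17_1 F489763 F371084 D216837 F486138 F441331 F380227 (iv5 F421477) (iv0 F441203) (iv4 F446033)
theorem F489765 : act 2 n207692 = n217606 := d2_3 F489764 F371474 (iv5 F446029)
theorem F489766 : act 6 n217606 = n201717 := d21_3 F374828 F371085 (iv5 F489764) F421532 F398200 F343600 D132390 F212430 D206953 (iv1 F442728)
def n217607 : Q := act 6 n187641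
theorem D217607 : act 6 n187641 = n217607 := rfl
theorem F489767 : act 3 n217607 = n201717 := d7_1 D217607 (iv6 F489766) (iv3 D217606)
theorem F489768 : act 4 n217607 = n187643 := d10_1 D217607 (iv6 D187643) D187641
theorem F489769 : act 5 n217607 = n201716 := d12_1 D217607 (iv6 F421525) D201717 (iv6 F489766) F489764
theorem F489770 : act 1 n207816 = n217607 := d17_8 F374649 (iv5 F352123) F421907 F421906 F466914 F466916 F475056 F475054 F489768
def n217608 : Q := act 4 n187644
theorem D217608 : act 4 n187644 = n217608 := rfl
theorem F489771 : act 2 n217608 = n201017 := d1_1 D217608 (iv4 D201017) (iv2 F371093)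
theorem F489772 : act 6 n217608 = n216399 := d10_2 F470855 D217608 F484184
theorem F489773 : act 7 n217608 = n206499 := d11_2 F439354 D217608 F441098
theorem F489774 : act 0 n217608 = n188616 := d17_0 (iv5 F440937) (iv1 F440935) (iv5 F398188) (iv4 F399958) (iv5 F399959) (iv0 F290206) (iv5 F163263) (iv0 F386958) D217608
theorem F489775 : act 3 n217608 = n207621 := d20_3 (iv4 F439347) (iv1 F439349) D217608 (iv1 F445716) (iv3 F445725) F445727 (iv1 F374614) F377715 F377716 (iv1 F434210)
theorem F489776 : act 0 n195791 = n217608 := d20_10 (iv4 D217608) F386958 (iv4 F397980) (iv3 F436300) F436301 F418737 (iv4 F421530) F421532 (iv4 D195793) (iv3 F398190)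
def n217609 : Q := act 5 n187644
theorem D217609 : act 5 n187644 = n217609 := rfl
theorem F489777 : act 2 n217609 = n201018 := d2_1 D217609 (iv5 D201018) (iv2 F371093)
theorem F489778 : act 3 n217609 = n187646 := d6_1 D217609 (iv5 D187646) D187644
theorem F489779 : act 6 n217609 = n188533 := d12_2 F470855 D217609 F373843 (iv6 F366304) D213525
theorem F489780 : act 7 n217609 = n217307 := d13_2 F439354 D217609 F488362
theorem F489781 : act 4 n217609 = n201018 := d17_4 F288045 F439351 (iv1 F439349) D217609 (iv5 D201018) F397986 F397984 (iv0 F371068) F371066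
theorem F489782 : act 0 n217609 = n189611 := d18_0 F377112 F335793 F142298 (iv5 F143127) D188781 (iv0 F397982) F397980 (iv0 F386958) D217609
def n217610 : Q := act 3 n187645
theorem D217610 : act 3 n187645 = n217610 := rfl
theorem F489783 : act 4 n217610 = n207621 := d5_2 D187645 D217610 (iv3 F489775) (iv4 D217608) (iv3 D187644)
theorem F489784 : act 0 n217610 = n207630 := d19_4 (iv1 F371099) (iv5 D187646) D187645 D217610 F445757 (iv4 D207574) F367797 F441292 (iv5 D206551) (iv4 F441287) (iv3 F484386) (iv1 F484390) (iv5 F475894) F475893 (iv3 F386156) F386160 (iv5 F449698) (iv4 D208517) (iv3 F369237)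
theorem F489785 : act 1 n217610 = n207629 := d15_1 (iv0 F489784) F445754 (iv2 F445756)
def n217611 : Q := act 5 n187645
theorem D217611 : act 5 n187645 = n217611 := rfl
theorem F489786 : act 2 n217611 = n207691 := d2_1 D217611 F446025 (iv2 F371478)
theorem F489787 : act 7 n217611 = n207692 := d13_2 (iv7 F371475) D217611 F446029
theorem F489788 : act 0 n217611 = n207693 := d17_2 (iv1 F371095) D217611 (iv5 F486158) (iv4 D216840) F288358 F288032 F233526 F233525 D185869
theorem F489789 : act 1 n217611 = n207690 := d17_6 F369241 F369240 (iv1 F371099) (iv5 D187646) D187645 D217611 (iv5 F446024) (iv0 F451561) F451560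
def n217612 : Q := act 6 n187645
theorem D217612 : act 6 n187645 = n217612 := rfl
theorem F489790 : act 4 n217612 = n187647 := d10_1 D217612 (iv6 D187647) D187645
def n217613 : Q := act 3 n187648
theorem D217613 : act 3 n187648 = n217613 := rfl
theorem F489791 : act 4 n217613 = n212404 := d5_2 (iv4 F371102) D217613 (iv3 D212404) (iv4 F371466) (iv3 D187779)
def n217614 : Q := act 5 n187648
theorem D217614 : act 5 n187648 = n217614 := rfl
theorem F489792 : act 6 n217614 = n201739 := d12_2 F446966 D217614 F421627 D214453 (iv5 F475242)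
theorem F489793 : act 4 n217614 = n208103 := d16_2 (iv4 F371102) D217614 F447879 (iv4 F380277) (iv5 F350456) (iv4 F350448) F350454 (iv7 F283561) (iv2 F283562)
def n217615 : Q := act 3 n187649
theorem D217615 : act 3 n187649 = n217615 := rfl
theorem F489794 : act 0 n217615 = n214503 := d19_4 (iv1 F377346) F350454 (iv4 F371105) D217615 F475503 (iv4 D206994) F394691 (iv1 F346115) (iv5 D154341) F346102 (iv3 D102775) F290675 (iv5 F290676) (iv4 D47637) (iv3 F74917) D102698 (iv5 F375492) (iv4 F483627) F483626
theorem F489795 : act 0 n207782 = n217615 := d20_4 (iv4 D207303) F371341 (iv4 F212123) (iv3 F446422) (iv3 D217615) F371105 (iv1 D90564) D90565 D187784 (iv1 F444242)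
theorem F489796 : act 5 n217615 = n207783 := d17_1 F489795 (iv1 F446431) F442675 F418386 (iv5 F418396) F418398 D213091 (iv0 F468969) F448144
def n217616 : Q := act 5 n187649
theorem D217616 : act 5 n187649 = n217616 := rfl
theorem F489797 : act 3 n217616 = n207783 := d6_1 D217616 (iv5 F489796) (iv3 D217615)
theorem F489798 : act 4 n217616 = n208102 := d9_1 D217616 (iv5 F447876) (iv4 F353190) F353191 (iv4 F353198) (iv5 F353200) (iv4 F371102) D217614 F489793 F447879 (iv4 F380277) (iv5 F350456) (iv4 F350448) F350454 (iv4 F371105)
def n217617 : Q := act 6 n187649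
theorem D217617 : act 6 n187649 = n217617 := rfl
theorem F489799 : act 4 n217617 = n187781 := d10_1 D217617 (iv6 D187781) (iv4 F371105)
theorem F489800 : act 0 n215036 = n217617 := d18_2 (iv1 F398471) D215036 F489799 (iv5 F475799) F475798 (iv0 F378433) D193729 (iv0 F390804) (iv5 F398469)
theorem F489801 : act 1 n215035 = n217617 := d18_6 (iv1 D121351) (iv4 F120172) F259133 (iv4 D164468) D164469 D215035 F489799 F430420 (iv5 D203923)
def n217618 : Q := act 0 n187651
theorem D217618 : act 0 n187651 = n217618 := rfl
theorem F489802 : act 5 n217618 = n187777 := d17_3 (iv1 D187649) D187651 D217618 (iv4 D187777) (iv5 D90557) (iv0 D42390) D42392 D90564 (iv4 F371105)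
theorem F489803 : act 4 n217618 = n206559 := d18_1 D217618 (iv1 D206559) (iv4 F437297) (iv5 F466947) F466946 F233532 (iv4 F371102) (iv0 D187648) D187651
theorem F489804 : act 2 n205679 = n217618 := d1_3 F489803 (iv2 F477436) F477440
theorem F489805 : act 3 n205784 = n217618 := d5_5 F489803 (iv3 F441329) F395409 (iv3 F487214) F487215
theorem F489806 : act 7 n205779 = n217618 := d11_0 F489803 F441328 (iv4 F437842)
theorem F489807 : act 1 n207661 = n217618 := d17_8 (iv1 D206559) F362290 F353197 F447876 (iv4 F489798) (iv5 D217616) F371104 D207661 F489803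
def n217619 : Q := act 1 n187651
theorem D217619 : act 1 n187651 = n217619 := rfl
theorem F489808 : act 1 n217619 = n207661 := d15_1 D217619 (iv7 F466965) F466963
theorem F489809 : act 7 n217619 = n205679 := d15_2 (iv0 D217618) D217619 F489804
theorem F489810 : act 5 n217619 = n187778 := d17_7 (iv1 F371074) (iv5 D90420) (iv1 D42279) D42280 D90424 D187651 D217619 F371465 F371078
theorem F489811 : act 4 n217619 = n196246 := d18_7 F353197 (iv4 F353190) (iv1 F393449) F393445 D206085 F439187 D217619 (iv0 F400039) F362290
theorem F489812 : act 3 n205791 = n217619 := d19_19 (iv1 D217619) (iv5 D187651) (iv4 D90424) F65284 D42298 (iv5 F291075) F74177 F68436 (iv1 F290668) F290670 D19739 F31495 F63209 (iv5 F68972) F319799 (iv3 F341976) (iv1 D175322) (iv5 F315347) (iv4 F437881)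
theorem F489813 : act 6 n196245 = n217619 := d21_3 D200858 F418182 (iv5 F418177) (iv1 D217619) (iv6 F447100) (iv5 D207945) D207944 F447093 F418178 (iv1 D200857)
theorem F489814 : act 2 n217619 = n205779 := d3_1 F489813 (iv6 D205779) (iv2 F400034)
def n217620 : Q := act 7 n187651
theorem D217620 : act 7 n187651 = n217620 := rfl
theorem F489815 : act 2 n217620 = n207661 := d4_1 D217620 (iv7 F466965) F466963
theorem F489816 : act 4 n217620 = n200675 := d11_1 D217620 (iv7 F439186) F439187
theorem F489817 : act 5 n217620 = n187652 := d13_1 D217620 (iv7 D187652) D187651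
theorem F489818 : act 1 n205779 = n217620 := d15_1 (iv0 F466968) (iv7 D217620) (iv2 F466963)
theorem F489819 : act 1 n217620 = n205679 := d15_1 F489818 (iv7 F489809) F489814
def n217621 : Q := act 3 n187653
theorem D217621 : act 3 n187653 = n217621 := rfl
theorem F489820 : act 4 n217621 = n200272 := d5_2 D187653 D217621 (iv3 D200272) (iv4 D112920) (iv3 F139174)
theorem F489821 : act 6 n217621 = n188528 := d7_2 (iv6 F371112) D217621 (iv3 D188528)
def n217622 : Q := act 5 n187653
theorem D217622 : act 5 n187653 = n217622 := rfl
theorem F489822 : act 2 n217622 = n217025 := d2_1 D217622 (iv5 D217025) (iv2 F371111)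
theorem F489823 : act 4 n217622 = n212994 := d16_2 D187653 D217622 (iv5 D212994) (iv4 D151974) (iv5 D71653) (iv4 F80506) (iv5 F164423) F164426 (iv2 F139173)
theorem F489824 : act 0 n217622 = n208119 := d17_2 F374987 D217622 (iv5 D208119) (iv4 D133410) F97664 (iv0 F65507) D43843 (iv0 F143185) D188817
theorem F489825 : act 1 n217622 = n212922 := d17_6 F86697 (iv5 D54792) F65296 D90426 D187653 D217622 (iv5 D212922) F238157 (iv4 D114102)
def n217623 : Q := act 6 n187658
theorem D217623 : act 6 n187658 = n217623 := rfl
theorem F489826 : act 2 n217623 = n187663 := d3_1 D217623 (iv6 D187663) (iv2 F371128)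
theorem F489827 : act 3 n217623 = n187719 := d7_1 D217623 (iv6 D187719) (iv3 F371129)
theorem F489828 : act 4 n217623 = n208726 := d10_1 D217623 F471512 F471510
theorem F489829 : act 5 n217623 = n212020 := d12_1 D217623 F463976 F374115 (iv6 D187659) D187658
theorem F489830 : act 7 n217623 = n208770 := d14_2 F374674 D217623 (iv6 F450792) F463935 F463930
theorem F489831 : act 0 n217623 = n201847 := d21_4 F162427 F290212 D187658 D217623 (iv6 F465038) (iv5 D212265) (iv1 F334433) (iv5 F374746) (iv6 D188757) F364171
theorem F489832 : act 0 n203933 = n217623 := d21_4 (iv5 D135547) (iv1 F99226) (iv5 F218209) (iv6 F430467) (iv6 D217623) (iv5 D187658) (iv1 F143007) D188743 F374668 F218362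
def n217624 : Q := act 4 n187666
theorem D217624 : act 4 n187666 = n217624 := rfl
theorem F489833 : act 2 n217624 = n189769 := d1_1 D217624 (iv4 D189769) (iv2 F371144)
theorem F489834 : act 3 n217624 = n200662 := d5_1 D217624 (iv4 D200662) (iv3 F417387) F417389 (iv3 F374528)
theorem F489835 : act 6 n217624 = n205798 := d10_2 (iv6 F371146) D217624 (iv4 F437904)
theorem F489836 : act 1 n217624 = n205800 := d18_6 F483321 F475687 F369093 F152550 F371143 D217624 F437914 (iv0 F465487) (iv5 F483320)
def n217625 : Q := act 1 n187667
theorem D217625 : act 1 n187667 = n217625 := rfl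
theorem F489837 : act 1 n217625 = n187718 := d15_1 D217625 (iv7 F486107) F486106
theorem F489838 : act 7 n217625 = n207903 := d15_2 (iv0 F422069) D217625 (iv2 D207903)
theorem F489839 : act 4 n217625 = n201861 := d18_7 F288273 (iv4 F290170) F290167 F74405 D90438 D187667 D217625 (iv0 D201861) (iv5 F338623)
theorem F489840 : act 3 n207901 = n217625 := d20_9 (iv4 D187667) F159976 D194001 (iv3 F447027) F447029 F443196 F400080 D196258 (iv4 F446932) (iv1 D217625)
theorem F489841 : act 6 n191658 = n217625 := d21_3 (iv5 F418599) (iv1 D191656) D191658 (iv1 D217625) (iv6 F439275) (iv5 F487146) F487149 F443153 (iv6 F444125) F444127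
theorem F489842 : act 2 n217625 = n207832 := d3_1 F489841 (iv6 D207832) F384118
def n217626 : Q := act 3 n187667
theorem D217626 : act 3 n187667 = n217626 := rfl
theorem F489843 : act 4 n217626 = n187668 := d5_2 D187667 D217626 (iv3 D187668) (iv4 D90440) (iv3 F139194)
theorem F489844 : act 0 n217626 = n212656 := d19_4 (iv1 F135533) D90438 D187667 D217626 F466912 (iv4 F483973) (iv3 D216354) (iv1 D183136) D183137 (iv4 F389275) F404805 (iv1 F404804) (iv5 F395001) F394998 F387877 (iv1 F160599) (iv5 D104790) (iv4 F135440) (iv3 F135529)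
theorem F489845 : act 0 n207889 = n217626 := d20_4 F443197 (iv1 F446899) (iv4 D207890) D207889 (iv3 D217626) (iv4 D187667) F159976 D194001 (iv3 F447027) F447029
def n217627 : Q := act 5 n187667
theorem D217627 : act 5 n187667 = n217627 := rfl
theorem F489846 : act 2 n217627 = n214460 := d2_1 D217627 (iv5 F486108) F486106
theorem F489847 : act 6 n217627 = n208354 := d12_2 F439275 D217627 F449055 (iv6 F487147) F487146
theorem F489848 : act 7 n217627 = n193046 := d13_2 F374635 D217627 F388581
theorem F489849 : act 4 n217627 = n208355 := d16_2 D187667 D217627 F449059 (iv4 D193223) (iv5 D101375) F74467 D90490 (iv7 F288236) F288235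
theorem F489850 : act 0 n217627 = n207907 := d17_2 (iv1 D217625) D217627 F446950 F418912 F177082 (iv0 F363855) D187741 (iv0 F422105) (iv4 F489839)
theorem F489851 : act 1 n217627 = n206967 := d17_6 (iv1 F139262) F135535 (iv1 F135533) D90438 D187667 D217627 (iv5 D206967) (iv0 F371317) (iv4 D187720)
def n217628 : Q := act 7 n187675
theorem D217628 : act 7 n187675 = n217628 := rfl
theorem F489852 : act 2 n217628 = n212307 := d4_1 D217628 (iv7 F468236) F468233
theorem F489853 : act 3 n217628 = n187679 := d8_1 D217628 (iv7 D187679) (iv3 F371165)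
theorem F489854 : act 5 n217628 = n202953 := d13_1 D217628 F426360 (iv5 F371166)
theorem F489855 : act 6 n217628 = n203134 := d14_1 D217628 F427100 (iv6 D188757) F143021 D187675
def n217629 : Q := act 5 n187678
theorem D217629 : act 5 n187678 = n217629 := rfl
theorem F489856 : act 2 n217629 = n209003 := d2_1 D217629 F451796 (iv2 F374731)
theorem F489857 : act 3 n217629 = n201677 := d6_1 D217629 (iv5 F475357) F475356
theorem F489858 : act 6 n217629 = n217558 := d12_2 F444532 D217629 F489486 F484037 (iv5 F444531)
theorem F489859 : act 7 n217629 = n201671 := d13_2 (iv7 F374728) D217629 F421325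
def n217630 : Q := act 3 n187680
theorem D217630 : act 3 n187680 = n217630 := rfl
theorem F489860 : act 4 n217630 = n187682 := d5_2 D187680 D217630 (iv3 D187682) (iv4 D90448) D90447
theorem F489861 : act 7 n217630 = n212411 := d8_2 (iv7 F371173) D217630 (iv3 D212411)
theorem F489862 : act 0 n206711 = n217630 := d20_4 F446704 F446325 F441944 (iv3 F441940) (iv3 D217630) (iv4 D187680) F139208 D90493 D187724 (iv1 F446703)
def n217631 : Q := act 5 n187680
theorem D217631 : act 5 n187680 = n217631 := rfl
theorem F489863 : act 2 n217631 = n212416 := d2_1 D217631 (iv5 D212416) (iv2 F371172)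
theorem F489864 : act 7 n217631 = n212412 := d13_2 (iv7 F371173) D217631 (iv5 D212412)
def n217632 : Q := act 6 n187680
theorem D217632 : act 6 n187680 = n217632 := rfl
theorem F489865 : act 2 n217632 = n212417 := d3_1 D217632 (iv6 D212417) (iv2 F371172)
theorem F489866 : act 4 n217632 = n187681 := d10_1 D217632 (iv6 D187681) D187680
theorem F489867 : act 5 n217632 = n209061 := d21_6 (iv5 D29412) D29409 (iv5 F95449) D129661 F371174 D217632 (iv1 D209061) (iv5 D135654) (iv6 D63781) (iv1 F48362)
theorem F489868 : act 1 n206740 = n217632 := d18_6 F334809 (iv4 F108375) (iv1 F336450) F336452 D201509 (iv4 F442014) F489866 F371180 (iv5 D106378)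
def n217633 : Q := act 0 n187682
theorem D217633 : act 0 n187682 = n217633 := rfl
theorem F489869 : act 4 n217633 = n201649 := d20_2 F489860 D217633 F421231 (iv1 F419219) F446705 F446704 F446325 F441944 (iv3 F441940) F489862
theorem F489870 : act 3 n194071 = n217633 := d20_5 (iv4 D134169) F211964 (iv4 F217062) (iv3 F384032) (iv1 F452683) F489869 F446514 F446511 F432203 F329432
theorem F489871 : act 6 n217633 = n194069 := d7_2 D194071 F489870 (iv3 D194069)
theorem F489872 : act 2 n210188 = n217633 := d3_3 F489871 F391957 D210188
def n217634 : Q := act 1 n187682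
theorem D217634 : act 1 n187682 = n217634 := rfl
theorem F489873 : act 7 n217634 = n210188 := d15_2 (iv0 D217633) D217634 F489872
theorem F489874 : act 4 n208945 = n217634 := d20_0 (iv1 D217634) (iv4 F489860) (iv3 D217630) (iv1 F418915) F418911 (iv4 F213978) (iv1 F213981) (iv4 F212416) D207803 F451502
theorem F489875 : act 6 n217634 = n208944 := d10_2 D208945 F489874 (iv4 D208944)
theorem F489876 : act 3 n210192 = n217634 := d8_3 F489873 F456505 D210192
theorem F489877 : act 0 n210192 = n209698 := d20_4 (iv4 F446511) F451502 F489874 (iv3 F489876) (iv3 D209698) F371528 F347091 F203933 (iv3 F220595) F432205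
theorem F489878 : act 1 n209274 = n209698 := d15_0 (iv0 F489877) (iv7 D210192) (iv2 F452999)
def n217635 : Q := act 2 n187682
theorem D217635 : act 2 n187682 = n217635 := rfl
theorem F489879 : act 3 n217635 = n210207 := d0_2 D187682 D217635 (iv2 F456576) (iv3 D187768) (iv2 F139360)
def n217636 : Q := act 6 n187682
theorem D217636 : act 6 n187682 = n217636 := rfl
theorem F489880 : act 3 n217636 = n187683 := d7_1 D217636 (iv6 D187683) D187682
theorem F489881 : act 7 n217636 = n217054 := d14_2 F371442 D217636 F487157 (iv7 F470715) F470714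
theorem F489882 : act 0 n217049 = n217636 := d21_4 (iv5 D98565) (iv1 F136747) D186708 D217049 (iv6 D217636) (iv5 F487964) F487965 (iv5 D191638) (iv6 D98608) (iv1 F367753)
theorem F489883 : act 5 n193572 = n217636 := d13_3 F489881 (iv5 F487156) F480650
theorem F489884 : act 2 n217636 = n217053 := d15_3 (iv0 D217053) D217054 (iv7 F489881)
theorem F489885 : act 6 n217053 = n217635 := d3_2 D217636 F489884 (iv2 D217635)
theorem F489886 : act 0 n217636 = n217055 := d20_4 F448879 (iv1 D187685) (iv4 F371181) (iv3 F489880) F487158 (iv4 F487184) (iv1 F487187) F384039 (iv3 F421413) (iv1 F448882)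
def n217637 : Q := act 4 n187684
theorem D217637 : act 4 n187684 = n217637 := rfl
theorem F489887 : act 2 n217637 = n208686 := d1_1 D217637 F450445 F374759
theorem F489888 : act 5 n217637 = n193552 := d9_2 F374762 D217637 F390245 (iv5 F384807) F384806 (iv5 F343360) F343359 (iv5 F371183) (iv4 F448879) F448880 (iv4 D192371) (iv5 D100122) (iv4 F154049) D192364 F386580
theorem F489889 : act 6 n217637 = n208685 := d10_2 F451692 D217637 (iv4 F451690)
theorem F489890 : act 7 n217637 = n215309 := d11_2 (iv7 F374761) D217637 F479324
theorem F489891 : act 0 n217637 = n201689 := d17_0 F421414 (iv1 F367503) (iv5 F406325) F406324 F370553 F370549 (iv5 F374754) F374763 D217637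
theorem F489892 : act 1 n217637 = n187688 := d18_6 F206246 (iv4 F346733) (iv1 F386581) F386580 F374762 D217637 F371189 F353836 (iv5 D53056)
def n217638 : Q := act 4 n187686
theorem D217638 : act 4 n187686 = n217638 := rfl
theorem F489893 : act 2 n217638 = n204884 := d1_1 D217638 F434012 F389553
theorem F489894 : act 3 n217638 = n187760 := d5_1 D217638 (iv4 D187760) (iv3 D90542) F139236 D187686
theorem F489895 : act 6 n217638 = n191539 := d10_2 (iv6 F374927) D217638 F383715
theorem F489896 : act 7 n217638 = n190560 := d11_2 F374768 D217638 (iv4 F380140)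
theorem F489897 : act 5 n217638 = n190561 := d16_5 (iv4 F358600) (iv5 F376036) (iv4 F386950) F386951 D217638 F380142 (iv5 F380152) (iv7 D190569) (iv2 F157127)
theorem F489898 : act 0 n217638 = n207627 := d17_0 (iv5 D207627) (iv1 F399266) D206551 F441293 (iv5 F487919) F487921 F441112 (iv0 F441113) D217638
def n217639 : Q := act 6 n187687
theorem D217639 : act 6 n187687 = n217639 := rfl
theorem F489899 : act 2 n217639 = n194789 := d3_1 D217639 (iv6 D194789) (iv2 F371184)
theorem F489900 : act 4 n217639 = n187699 := d10_1 D217639 (iv6 D187699) (iv4 F371185)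
theorem F489901 : act 5 n217639 = n215578 := d12_1 D217639 (iv6 D215578) F371190 (iv6 D187688) D187687
def n217640 : Q := act 2 n187689
theorem D217640 : act 2 n187689 = n217640 := rfl
theorem F489902 : act 7 n187690 = n217640 := d15_2 (iv0 D187689) D187690 (iv2 D217640)
def n217641 : Q := act 3 n187689
theorem D217641 : act 3 n187689 = n217641 := rfl
theorem F489903 : act 6 n217641 = n213664 := d7_2 F431279 D217641 F471525
theorem F489904 : act 2 n209746 = n217641 := d3_3 F489903 F471524 F454829
theorem F489905 : act 4 n212942 = n217641 := d10_3 F489903 F471522 (iv6 F468235)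
theorem F489906 : act 0 n209742 = n217641 := d21_4 (iv5 D209198) (iv1 F218684) D136877 D209742 F489903 (iv5 F471523) (iv1 F486155) (iv5 D216839) F363974 F452690
theorem F489907 : act 7 n217641 = n209747 := d11_2 (iv7 F468236) F489905 (iv4 F468970)
theorem F489908 : act 0 n217641 = n209749 := d20_7 F374866 (iv1 F446378) F446374 (iv3 F451181) F451184 (iv3 F468234) F489905 F454834 F448189 (iv1 F374869)
def n217642 : Q := act 4 n187689
theorem D217642 : act 4 n187689 = n217642 := rfl
def n217643 : Q := act 5 n187689
theorem D217643 : act 5 n187689 = n217643 := rfl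
theorem F489909 : act 6 n217643 = n215191 := d12_2 F431279 D217643 (iv5 D215191) F431273 (iv5 F431272)
theorem F489910 : act 0 n217643 = n215208 := d21_7 F456632 (iv1 F450571) (iv5 F456586) (iv6 F478091) F478093 F431279 D217643 F478877 F442846 F456634
theorem F489911 : act 0 n216869 = n217643 := d21_1 (iv5 F486311) (iv5 D217643) (iv6 F431279) (iv1 D204164) F329059 (iv5 F329643) F311645 (iv5 F336959) D198981 (iv1 F442849)
theorem F489912 : act 2 n217319 = n217643 := d3_3 F489909 F478816 F488407
theorem F489913 : act 5 n217640 = n217319 := d2_0 F489912 (iv5 D217643) D217640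
theorem F489914 : act 7 n217318 = n217643 := d15_2 F488406 F488405 (iv2 F489912)
theorem F489915 : act 0 n187691 = n217640 := d21_10 F489913 (iv1 D217319) (iv5 F394462) F456660 F465288 F465285 (iv5 D209739) (iv1 F452825) F452823 F446662
theorem F489916 : act 1 n187692 = n217640 := d15_0 (iv0 F489915) (iv7 F371192) (iv2 F371194)
def n217644 : Q := act 7 n187689
theorem D217644 : act 7 n187689 = n217644 := rfl
theorem F489917 : act 2 n217644 = n187690 := d4_1 D217644 F489902 (iv2 D217640)
theorem F489918 : act 3 n217644 = n209747 := d8_1 D217644 (iv7 F489907) (iv3 D217641)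
theorem F489919 : act 5 n217644 = n217318 := d13_1 D217644 F489914 (iv5 D217643)
theorem F489920 : act 1 n187691 = n217644 := d15_1 (iv0 F489915) (iv7 D217644) D217640
theorem F489921 : act 1 n217644 = n187692 := d15_1 F489920 (iv7 D187692) D187691
def n217645 : Q := act 3 n187690
theorem D217645 : act 3 n187690 = n217645 := rfl
def n217646 : Q := act 4 n187690
theorem D217646 : act 4 n187690 = n217646 := rfl
theorem F489922 : act 3 n217646 = n207669 := d20_3 (iv4 F217089) (iv1 F371193) D217646 F445934 (iv3 F446075) F446076 (iv1 F447600) F447602 (iv3 F447599) (iv1 D206866)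
theorem F489923 : act 5 n207668 = n217646 := d6_0 F489922 (iv5 D207669) D207668
def n217647 : Q := act 5 n187690
theorem D217647 : act 5 n187690 = n217647 := rfl
theorem F489924 : act 2 n217647 = n217318 := d2_1 D217647 (iv5 F489919) F489917
theorem F489925 : act 7 n217647 = n217319 := d13_2 (iv7 F489902) D217647 (iv5 F489913)
theorem F489926 : act 0 n217647 = n216869 := d21_1 D217647 F486311 (iv6 F450785) (iv1 F450787) (iv6 F404689) D197526 F404700 (iv5 D134885) D134886 (iv1 F371193)
theorem F489927 : act 0 n215208 = n217647 := d19_0 (iv5 D217647) D217646 F489922 F445934 (iv5 D205637) F203365 (iv3 D63548) (iv1 F48350) (iv5 F99126) (iv4 F218035) (iv3 F451853) (iv1 F451855) (iv5 F430792) (iv4 F449436) F430854 (iv1 F458176) (iv5 F478883) (iv4 D215209) D215208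
theorem F489928 : act 3 n217647 = n210691 := d20_5 (iv4 F430825) (iv1 F478885) (iv4 D215209) D215208 F489927 (iv4 D210691) F430836 (iv4 F449176) F449174 F365659
theorem E104038 : n217645 = n211568 := ((c6_3 D217647 F489928 (iv5 F485768) (iv3 D217645))).symm
theorem F489929 : act 3 n211568 = n187690 := (sb E104038 (iv3 D217645))
def n217648 : Q := act 6 n187690
theorem D217648 : act 6 n187690 = n217648 := rfl
theorem F489930 : act 3 n217648 = n216435 := d7_1 D217648 (iv6 F484358) F489929
theorem F489931 : act 5 n216434 = n217648 := d21_8 (iv5 F368879) D217243 F488075 (iv6 D206724) F207391 D134216 D208360 F484353 (iv6 D217648) (iv1 D187690)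
def n217649 : Q := act 5 n187694
theorem D217649 : act 5 n187694 = n217649 := rfl
theorem F489932 : act 2 n217649 = n207588 := d2_1 D217649 (iv5 D207588) (iv2 F371204)
theorem F489933 : act 3 n217649 = n196064 := d6_1 D217649 (iv5 F487228) (iv3 F487230)
theorem F489934 : act 4 n217649 = n216833 := d16_2 D187694 D217649 (iv5 D216833) (iv4 D185856) (iv5 D88520) F63665 D88520 F135549 (iv2 F139215)
theorem F489935 : act 1 n217649 = n195769 := d17_6 (iv1 F364339) (iv5 D92575) (iv1 F290234) D90456 D187694 D217649 (iv5 F484162) (iv0 F484165) (iv4 D187792)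
theorem F489936 : act 6 n196063 = n217649 := d10_0 F489934 F486112 F399342
def n217650 : Q := act 4 n187698
theorem D217650 : act 4 n187698 = n217650 := rfl
theorem F489937 : act 2 n217650 = n213329 := d1_1 D217650 F469946 (iv2 F371226)
theorem F489938 : act 3 n217650 = n204087 := d5_1 D217650 (iv4 F455995) F455994 F371185 (iv3 F371227)
theorem F489939 : act 7 n217650 = n213330 := d11_2 (iv7 F371228) D217650 F469949
theorem F489940 : act 0 n217650 = n192576 := d17_0 (iv5 D192576) D192574 (iv5 F483152) F483151 F283246 F135747 D185981 (iv0 F371229) D217650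
theorem F489941 : act 1 n217650 = n213325 := d18_6 F371012 F371010 F295163 F139227 D187698 D217650 F469935 (iv0 F470157) F470156
theorem F489942 : act 6 n210862 = n217650 := d21_3 (iv5 D211301) D211300 (iv5 F461029) F489940 F387139 (iv5 D160114) D160113 (iv5 F462356) (iv6 F482308) F482311
def n217651 : Q := act 6 n187698
theorem D217651 : act 6 n187698 = n217651 := rfl
theorem F489943 : act 2 n217651 = n216749 := d3_1 D217651 (iv6 D216749) (iv2 F371226)
theorem F489944 : act 3 n217651 = n187699 := d7_1 D217651 (iv6 D187699) (iv3 F371227)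
theorem F489945 : act 4 n217651 = n210862 := d10_1 D217651 F489942 (iv4 D217650)
theorem F489946 : act 5 n217651 = n191700 := d12_1 D217651 (iv6 D191700) (iv5 D98662) (iv6 F291503) D187698
def n217652 : Q := act 7 n187699
theorem D217652 : act 7 n187699 = n217652 := rfl
theorem F489947 : act 2 n217652 = n194791 := d4_1 D217652 (iv7 D194791) (iv2 F371231)
theorem F489948 : act 5 n217652 = n191702 := d13_1 D217652 (iv7 D191702) (iv5 F371232)
theorem F489949 : act 6 n217652 = n217212 := d14_1 D217652 (iv7 D217212) (iv6 D187006) F292188 D187699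
theorem F489950 : act 1 n194790 = n217652 := d15_1 D194790 (iv7 D217652) F371231
theorem F489951 : act 1 n217652 = n192527 := d15_1 F489950 (iv7 F394478) F394483
def n217653 : Q := act 4 n187702
theorem D217653 : act 4 n187702 = n217653 := rfl
theorem F489952 : act 2 n217653 = n216186 := d1_1 D217653 (iv4 F483594) F483592
theorem F489953 : act 7 n217653 = n216185 := d11_2 (iv7 F371244) D217653 F483308
theorem F489954 : act 0 n217653 = n216178 := d18_2 (iv1 F371245) D217653 (iv4 D216178) (iv5 D182151) F133492 (iv0 D43273) (iv4 F64050) D88915 D186610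
theorem F489955 : act 1 n217653 = n216144 := d18_6 F361042 (iv4 F143469) F143473 F290584 D187702 D217653 (iv4 D216144) (iv0 F388821) (iv5 D193122)
def n217654 : Q := act 3 n187705
theorem D217654 : act 3 n187705 = n217654 := rfl
def n217655 : Q := act 4 n187705
theorem D217655 : act 4 n187705 = n217655 := rfl
theorem F489956 : act 2 n217655 = n216320 := d1_1 D217655 F483821 (iv2 F375652)
theorem F489957 : act 6 n217655 = n191724 := d10_2 F487321 D217655 (iv4 F487317)
theorem F489958 : act 7 n217655 = n217230 := d11_2 (iv7 F375650) D217655 F488036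
theorem F489959 : act 0 n217655 = n216759 := d18_2 D187705 D217655 (iv4 F485818) (iv5 F370974) F370973 F142602 (iv4 F354763) (iv0 D93770) (iv5 F139245)
theorem F489960 : act 5 n216349 = n217655 := d12_5 F489957 F384275 (iv6 F372518) (iv5 F367241) D216349
theorem F489961 : act 0 n188278 = n217655 := d21_4 F365791 (iv1 F139367) (iv5 F140171) (iv6 F372935) F489957 F384275 (iv1 D185420) D185422 (iv6 F365785) (iv1 F154134)
def n217656 : Q := act 5 n187705
theorem D217656 : act 5 n187705 = n217656 := rfl
theorem F489962 : act 7 n217656 = n189076 := d13_2 (iv7 F375650) D217656 F375648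
theorem F489963 : act 4 n217656 = n217007 := d17_4 (iv1 D93771) (iv5 F139245) D187705 D217656 F486954 (iv0 D187465) F138619 D90238 (iv4 F351148)
theorem F489964 : act 1 n217656 = n188356 := d17_8 D188359 F373179 (iv1 F372802) F372799 F140153 (iv5 F372655) F372658 D217656 F373170
def n217657 : Q := act 3 n187706
theorem D217657 : act 3 n187706 = n217657 := rfl
theorem F489965 : act 0 n217657 = n191435 := d20_4 F485818 F485817 (iv4 F483436) D217657 F383484 (iv4 F356710) (iv1 F483844) F483847 F439753 (iv1 F372933)
def n217658 : Q := act 4 n187708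
theorem D217658 : act 4 n187708 = n217658 := rfl
theorem F489966 : act 2 n217658 = n192236 := d1_1 D217658 (iv4 D192236) (iv2 F371254)
theorem F489967 : act 3 n217658 = n209849 := d5_1 D217658 (iv4 D209849) F388235 (iv4 F388233) F382819
theorem F489968 : act 7 n217658 = n192391 := d11_2 (iv7 F371255) D217658 (iv4 D192391)
theorem F489969 : act 1 n217658 = n193124 := d18_6 (iv1 F143951) (iv4 F138871) (iv1 F157719) F143074 D187708 D217658 (iv4 D193124) F339895 (iv5 F339894)
theorem F489970 : act 0 n217658 = n193123 := d20_1 D217658 (iv4 D193123) F363688 (iv1 F357576) (iv3 D93103) (iv4 F143232) F293129 F74295 D99320 F371256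
def n217659 : Q := act 5 n187715
theorem D217659 : act 5 n187715 = n217659 := rfl
theorem F489971 : act 2 n217659 = n197741 := d2_1 D217659 (iv5 F406879) (iv2 F389337)
theorem F489972 : act 3 n217659 = n198101 := d6_1 D217659 (iv5 F406802) F390575
theorem F489973 : act 6 n217659 = n197740 := d12_2 (iv6 F476085) D217659 (iv5 D197740) (iv6 F365978) D214619
theorem F489974 : act 7 n217659 = n193858 := d13_2 (iv7 F371299) D217659 (iv5 D193858)
theorem F489975 : act 4 n217659 = n205979 := d16_2 D187715 D217659 F438678 F326333 F135535 F135530 D102401 (iv7 F371265) F371263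
theorem F489976 : act 0 n217659 = n208355 := d17_2 F388973 D217659 F449059 (iv4 D193223) (iv5 D101375) F290140 D87959 (iv0 F352685) D193156
def n217660 : Q := act 0 n187717
theorem D217660 : act 0 n187717 = n217660 := rfl
theorem F489977 : act 4 n217660 = n188625 := d18_3 (iv1 F351317) D187717 D217660 (iv5 F386906) (iv4 F387798) (iv0 D192792) (iv4 D100692) (iv0 D46960) D46963
theorem F489978 : act 1 n188096 = n217660 := d15_0 (iv0 D217660) (iv7 F489498) F489497
theorem F489979 : act 3 n213125 = n217660 := d20_9 (iv4 D188096) F360005 D100705 (iv3 F372010) F372011 (iv3 F387108) (iv4 F451117) F451120 (iv4 F469112) (iv1 F489978)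
theorem F489980 : act 6 n217660 = n204517 := d7_2 F469113 F489979 F458494
theorem F489981 : act 7 n217532 = n217660 := d11_0 F489977 F374237 D217532
def n217661 : Q := act 1 n187717
theorem D217661 : act 1 n187717 = n217661 := rfl
theorem F489982 : act 1 n217661 = n188096 := d15_1 D217661 (iv7 F374503) F374501
theorem F489983 : act 4 n217661 = n212061 := d18_7 (iv1 F235258) (iv4 F235260) (iv1 F143942) F74372 D90489 D187717 D217661 F464178 (iv5 D192390)
theorem F489984 : act 3 n192041 = n217661 := d20_9 (iv4 D187717) D187716 (iv4 F454063) F454062 (iv1 F446925) (iv3 F484627) (iv4 D216486) F385321 D192041 (iv1 D217661)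
theorem F489985 : act 6 n210471 = n217661 := d21_3 F429903 F403951 (iv5 F457677) (iv1 D217661) F371304 D203476 (iv1 F463314) F463311 D213077 F468889
theorem F489986 : act 2 n217532 = n217661 := d1_3 F489983 F464181 D217532
def n217662 : Q := act 3 n187717
theorem D217662 : act 3 n187717 = n217662 := rfl
theorem F489987 : act 2 n217662 = n191999 := d0_1 D217662 (iv3 F479169) F479168 F386055 F374501
theorem F489988 : act 6 n217662 = n188137 := d7_2 (iv6 F371304) D217662 (iv3 F372442)
theorem F489989 : act 0 n217662 = n193066 := d20_4 (iv4 D100705) (iv1 F351317) D187717 D217662 (iv3 D193066) D193067 F388648 F387611 (iv3 F387606) (iv1 F387607)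
theorem F489990 : act 0 n202130 = n217662 := d20_4 (iv4 D207897) (iv1 D132554) (iv4 F179702) (iv3 F423000) (iv3 D217662) (iv4 D187717) D187716 (iv4 F454063) F454062 (iv1 F446925)
theorem F489991 : act 5 n217662 = n193762 := d17_1 F489990 F480586 F480583 (iv4 F450689) F450690 F488030 (iv5 F489638) (iv0 F489640) F487368
def n217663 : Q := act 5 n187717
theorem D217663 : act 5 n187717 = n217663 := rfl
theorem F489992 : act 2 n217663 = n215874 := d2_1 D217663 F481879 F374501
theorem F489993 : act 3 n217663 = n193762 := d6_1 D217663 (iv5 F489991) (iv3 D217662)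
theorem F489994 : act 6 n217663 = n193760 := d12_2 (iv6 F371304) D217663 F390930 F428461 (iv5 D203476)
theorem F489995 : act 4 n217663 = n216777 := d16_2 D187717 D217663 F485893 (iv4 D189175) (iv5 D93338) F68610 D90806 (iv7 F142833) F142831
def n217664 : Q := act 3 n187718
theorem D217664 : act 3 n187718 = n217664 := rfl
theorem F489996 : act 4 n217664 = n204162 := d5_2 D187718 D217664 (iv3 F471509) F471510 F371129
theorem F489997 : act 6 n217664 = n201835 := d7_2 F371313 D217664 (iv3 D201835)
theorem F489998 : act 0 n206889 = n217664 := d20_4 F441486 F352191 D205218 (iv3 F442523) (iv3 D217664) (iv4 D187718) (iv1 F371142) D217624 F489834 (iv1 F441488)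
def n217665 : Q := act 5 n187718
theorem D217665 : act 5 n187718 = n217665 := rfl
theorem F489999 : act 2 n217665 = n193046 := d2_1 D217665 F388581 F374634
theorem F490000 : act 6 n217665 = n192972 := d12_2 F371313 D217665 (iv5 D192972) (iv6 F236269) F355366
theorem F490001 : act 7 n217665 = n214460 := d13_2 F486107 D217665 (iv5 F486108)
theorem F490002 : act 0 n217665 = n206967 := d17_2 F422068 D217665 (iv5 D206967) (iv4 F209518) (iv5 F363896) (iv0 F288273) F338623 (iv0 F422067) F422064
theorem F490003 : act 1 n217665 = n207907 := d17_6 F139208 (iv5 D42351) D42349 D90490 D187718 D217665 F446950 F418915 (iv4 D187680)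
def n217666 : Q := act 3 n187720
theorem D217666 : act 3 n187720 = n217666 := rfl
theorem F490004 : act 4 n217666 = n204164 := d5_2 D187720 D217666 (iv3 F471525) F471522 F371158
theorem F490005 : act 7 n217666 = n212415 := d8_2 (iv7 F371316) D217666 (iv3 D212415)
theorem F490006 : act 0 n217666 = n206963 := d19_4 D94449 F145629 D187720 D217666 (iv5 F446158) (iv4 F484614) F484613 (iv1 D214515) (iv5 D159692) F114543 F55256 D43868 F68970 (iv4 D41299) F31087 F291627 (iv5 F291276) (iv4 F33160) (iv3 F69482)
theorem F490007 : act 0 n217039 = n217666 := d20_4 (iv4 D113666) D113664 (iv4 F417399) (iv3 F487096) (iv3 D217666) (iv4 D187720) (iv1 F139262) (iv4 F326333) F418510 (iv1 D200960)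
theorem F490008 : act 5 n217666 = n207048 := d17_1 F490007 (iv1 D207048) D207049 (iv4 F443115) D210170 F456451 (iv5 F434205) (iv0 F434207) D217039
theorem F490009 : act 6 n217642 = n217666 := d10_0 F490004 F431279 D217642
def n217667 : Q := act 5 n187720
theorem D217667 : act 5 n187720 = n217667 := rfl
theorem F490010 : act 2 n217667 = n212412 := d2_1 D217667 (iv5 D212412) (iv2 F371315)
theorem F490011 : act 3 n217667 = n207048 := d6_1 D217667 (iv5 F490008) (iv3 D217666)
theorem F490012 : act 7 n217667 = n212416 := d13_2 (iv7 F371316) D217667 (iv5 D212416)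
def n217668 : Q := act 6 n187720
theorem D217668 : act 6 n187720 = n217668 := rfl
theorem F490013 : act 2 n217668 = n206897 := d3_1 D217668 F442544 (iv2 F371315)
theorem F490014 : act 3 n217668 = n217642 := d7_1 D217668 F490009 (iv3 D217666)
theorem F490015 : act 4 n217668 = n187721 := d10_1 D217668 (iv6 D187721) D187720
theorem F490016 : act 7 n217668 = n206896 := d14_2 (iv7 F371316) D217668 (iv6 F468972) F468973 (iv6 D212417)
theorem F490017 : act 5 n217668 = n206904 := d21_6 D200902 (iv1 F418910) (iv5 D201054) D201055 (iv1 F418914) D217668 (iv1 D206904) F437234 F437233 F230131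
theorem F490018 : act 0 n206899 = n217668 := d17_2 D129657 (iv5 F442551) F490017 F442562 D206944 (iv0 F442680) (iv5 D129726) (iv0 D60935) (iv4 F95448)
theorem F490019 : act 1 n206895 = n217668 := d17_6 (iv1 F447600) (iv5 F461716) F483638 F483634 (iv4 F362148) F442542 F490017 F446079 F446076
def n217669 : Q := act 0 n187721
theorem D217669 : act 0 n187721 = n217669 := rfl
theorem F490020 : act 5 n217669 = n209085 := d17_1 D217669 (iv1 F452177) F444523 F345881 (iv5 D129659) D129658 F442542 F490019 F490015
theorem F490021 : act 4 n217669 = n207004 := d18_3 F490018 F490015 D217669 (iv5 D207004) (iv4 D129730) F207894 (iv4 F362143) F362145 (iv5 F442551)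
theorem F490022 : act 6 n217669 = n200975 := d21_5 (iv5 D94450) D94449 F145629 D187721 D217669 F418586 (iv1 F229140) (iv5 F374640) (iv6 D188736) F145634
theorem F490023 : act 2 n208155 = n217669 := d15_3 (iv0 D217669) (iv0 F451184) F451183
theorem F490024 : act 1 n212413 = n217669 := d15_0 (iv0 D217669) (iv7 F468967) F468963
theorem F490025 : act 7 n217669 = n208999 := d15_2 F465700 F490024 F451772
theorem F490026 : act 3 n200989 = n217669 := d20_3 (iv4 F417844) F440690 F440687 (iv1 F490024) F465697 (iv4 F470688) (iv1 F470692) F374911 F418863 (iv1 D201045)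
def n217670 : Q := act 3 n187722
theorem D217670 : act 3 n187722 = n217670 := rfl
theorem F490027 : act 4 n217670 = n201795 := d5_2 F426334 D217670 F421814 (iv4 F386963) D202949
theorem F490028 : act 7 n217670 = n206678 := d8_2 (iv7 F426336) D217670 F441848
theorem F490029 : act 0 n206681 = n217670 := d20_4 (iv4 D132291) F101904 (iv4 F207334) (iv3 F441856) (iv3 D217670) (iv4 F426334) (iv1 F426338) F213985 F207375 F212084
theorem F490030 : act 5 n217670 = n201675 := d17_1 F490029 F442413 F442412 F252006 F114708 D159489 D214465 (iv0 F475294) F448132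
theorem F490031 : act 1 n206677 = n217670 := d15_0 (iv0 F490029) (iv7 D206681) (iv2 F441845)
theorem F490032 : act 2 n206679 = n217670 := d2_3 F490030 (iv2 F475239) (iv5 F475242)
theorem F490033 : act 6 n212664 = n217670 := d21_5 (iv5 F176965) F176966 F106101 D148759 (iv1 F466954) F490030 F442413 F442412 (iv6 D159854) F114706
def n217671 : Q := act 5 n187722
theorem D217671 : act 5 n187722 = n217671 := rfl
theorem F490034 : act 2 n217671 = n212405 := d2_1 D217671 (iv5 D212405) (iv2 F426335)
theorem F490035 : act 3 n217671 = n201675 := d6_1 D217671 (iv5 F490030) (iv3 D217670)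
theorem F490036 : act 7 n217671 = n212407 := d13_2 (iv7 F426336) D217671 (iv5 D212407)
theorem F490037 : act 6 n201674 = n217671 := d21_5 (iv5 F407122) (iv1 F438665) F438661 (iv6 F447035) F447036 (iv5 D217671) (iv1 F371319) (iv5 F438678) (iv6 D205979) (iv1 F407121)
def n217672 : Q := act 6 n187722
theorem D217672 : act 6 n187722 = n217672 := rfl
theorem F490038 : act 2 n217672 = n212406 := d3_1 D217672 (iv6 D212406) (iv2 F426335)
theorem F490039 : act 3 n217672 = n212664 := d7_1 D217672 F490033 (iv3 D217670)
theorem F490040 : act 4 n217672 = n207245 := d10_1 D217672 (iv6 F443946) F426334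
theorem F490041 : act 5 n217672 = n206942 := d12_1 D217672 F446712 F446706 F490037 (iv5 D217671)
theorem F490042 : act 7 n217615 = n217672 := d13_0 F490041 (iv7 F447595) (iv5 F489796)
theorem F490043 : act 0 n207000 = n217672 := d17_0 F490041 (iv1 D206942) F357335 F176806 D113624 (iv0 F375397) F375395 (iv0 F451184) F451182
theorem F490044 : act 1 n207004 = n217672 := d17_6 (iv1 F212129) D206944 F442679 (iv5 D129731) D129730 D207004 F490041 F446432 F446428
def n217673 : Q := act 3 n187723
theorem D217673 : act 3 n187723 = n217673 := rfl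
theorem F490045 : act 7 n217673 = n212404 := d8_2 F426340 D217673 (iv3 D212404)
theorem F490046 : act 0 n201137 = n217673 := d20_4 (iv4 D201133) (iv1 D113958) D113959 D201137 (iv3 D217673) (iv4 F447429) (iv1 F447432) (iv4 F442773) F442772 (iv1 F419210)
theorem F490047 : act 5 n217673 = n210300 := d19_1 F490046 F456912 F434333 (iv1 F484665) F484662 F470222 (iv3 F368015) F368018 (iv5 D100905) (iv4 F272666) D174019 F344386 D174404 (iv4 F339477) (iv3 D113953) (iv1 D52603) D52604 D113959 D201137
theorem F490048 : act 6 n217355 = n217673 := d12_0 F490047 (iv6 D210300) D210299 (iv6 F456911) D217355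
def n217674 : Q := act 5 n187723
theorem D217674 : act 5 n187723 = n217674 := rfl
theorem F490049 : act 2 n217674 = n212407 := d2_1 D217674 (iv5 D212407) F426339
theorem F490050 : act 3 n217674 = n210300 := d6_1 D217674 (iv5 F490047) (iv3 D217673)
theorem F490051 : act 7 n217674 = n212405 := d13_2 F426340 D217674 (iv5 D212405)
theorem F490052 : act 6 n210298 = n217674 := d7_0 F490050 (iv6 D210300) D210298
theorem F490053 : act 0 n210298 = n215244 := d21_4 F438678 (iv1 F371320) D217674 (iv6 F490052) (iv6 F479022) F475145 F388385 F179184 D201799 F438680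
def n217675 : Q := act 6 n187723
theorem D217675 : act 6 n187723 = n217675 := rfl
theorem F490054 : act 2 n217675 = n212408 := d3_1 D217675 (iv6 D212408) F426339
theorem F490055 : act 3 n217675 = n217355 := d7_1 D217675 F490048 (iv3 D217673)
theorem F490056 : act 4 n217675 = n201526 := d10_1 D217675 (iv6 F447430) F447429
theorem F490057 : act 5 n217675 = n217354 := d21_6 F93636 (iv1 F48290) D62111 D132381 (iv1 F371320) D217675 F488556 (iv5 D205804) (iv6 D126615) (iv1 F93744)
theorem F490058 : act 0 n195862 = n217675 := d17_0 F490057 F488556 (iv5 D205804) F203666 (iv5 F214663) (iv0 F370540) (iv5 F371178) F371180 D195862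
theorem F490059 : act 1 n213073 = n217675 := d15_0 (iv0 F490058) F398510 (iv2 F468864)
def n217676 : Q := act 5 n187724
theorem D217676 : act 5 n187724 = n217676 := rfl
theorem F490060 : act 3 n217676 = n187725 := d6_1 D217676 (iv5 D187725) D187724
theorem F490061 : act 6 n217676 = n193004 := d12_2 (iv6 F371322) D217676 (iv5 D193004) D193005 (iv5 F388501)
theorem F490062 : act 7 n217676 = n206786 := d13_2 (iv7 F371323) D217676 (iv5 D206786)
theorem F490063 : act 0 n217676 = n201644 := d17_2 (iv1 F446711) D217676 F443199 F443197 (iv5 F381792) (iv0 F408328) (iv5 F444256) (iv0 F474664) F474662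
def n217677 : Q := act 1 n187725
theorem D217677 : act 1 n187725 = n217677 := rfl
theorem F490064 : act 1 n217677 = n205979 := d15_1 D217677 (iv7 F438679) (iv2 F371324)
theorem F490065 : act 7 n217677 = n212409 := d15_2 (iv0 F437916) D217677 F465689
theorem F490066 : act 6 n195272 = n217677 := d21_9 (iv5 D187725) D187722 D217671 (iv6 F490037) (iv1 F447039) F449204 F449193 (iv1 D201830) (iv5 F396545) (iv1 D217677)
theorem F490067 : act 3 n217677 = n195273 := d7_1 F490066 (iv6 D195273) D195272
theorem F490068 : act 2 n212410 = n217677 := d0_5 F490067 F396547 (iv3 F453264) F453263 F465692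
def n217678 : Q := act 4 n187725
theorem D217678 : act 4 n187725 = n217678 := rfl
theorem F490069 : act 2 n217678 = n193858 := d1_1 D217678 F391220 (iv2 F371324)
theorem F490070 : act 5 n217678 = n193852 := d9_2 D187725 D217678 (iv4 D193852) (iv5 D102401) (iv4 F135530) (iv5 F135535) (iv4 F326333) (iv5 F438678) (iv4 F489975) (iv5 D217659) (iv4 D187715) (iv5 D90488) F65393 D42351 D90493
theorem F490071 : act 7 n217678 = n197741 := d11_2 F441888 D217678 (iv4 F441886)
theorem F490072 : act 1 n217678 = n208355 := d18_6 F371174 (iv4 D187680) F139208 D90493 D187725 D217678 (iv4 F489849) F489851 (iv5 D206967)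
theorem F490073 : act 3 n197746 = n217678 := d20_5 F407441 (iv1 F387755) F406939 (iv3 D198122) (iv1 F405611) (iv4 D217678) F437916 F421834 (iv3 F475276) F475279
theorem F490074 : act 6 n217678 = n198182 := d7_2 (iv6 F405608) F490073 F407124
def n217679 : Q := act 6 n187725
theorem D217679 : act 6 n187725 = n217679 := rfl
theorem F490075 : act 2 n217679 = n212402 := d3_1 D217679 F465672 (iv2 F371324)
theorem F490076 : act 3 n217679 = n193004 := d7_1 D217679 (iv6 F490061) F490060
theorem F490077 : act 4 n217679 = n198182 := d10_1 D217679 (iv6 F490074) (iv4 D217678)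
theorem F490078 : act 5 n217679 = n193003 := d12_1 D217679 (iv6 F388496) F183493 (iv6 F139264) D187725
theorem F490079 : act 7 n217679 = n198180 := d14_2 F441888 D217679 (iv6 D198180) F330982 (iv6 F441887)
theorem F490080 : act 1 n188037 = n217679 := d15_1 (iv0 F442643) F490079 (iv2 F442641)
def n217680 : Q := act 5 n187731
theorem D217680 : act 5 n187731 = n217680 := rfl
theorem F490081 : act 6 n217680 = n212275 := d12_2 (iv6 F421283) D217680 F465092 D212589 F466575
theorem F490082 : act 1 n217680 = n214566 := d17_6 (iv1 F374573) (iv5 F374577) (iv1 D187116) (iv5 F139295) D187731 D217680 (iv5 D214566) (iv0 F359567) (iv4 F349129)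
def n217681 : Q := act 5 n187736
theorem D217681 : act 5 n187736 = n217681 := rfl
theorem F490083 : act 3 n217681 = n192617 := d6_1 D217681 (iv5 D192617) (iv3 F371372)
theorem F490084 : act 7 n217681 = n216135 := d13_2 F374789 D217681 F483135
theorem F490085 : act 1 n217681 = n216220 := d17_6 (iv1 F370701) (iv5 D187531) F177382 D90518 D187736 D217681 F483397 F386985 (iv4 D187858)
def n217682 : Q := act 4 n187741
theorem D217682 : act 4 n187741 = n217682 := rfl
theorem F490086 : act 3 n217682 = n207911 := d5_1 D217682 F446962 F419052 F391679 (iv3 F371385)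
theorem F490087 : act 7 n217682 = n205800 := d11_2 (iv7 F422097) D217682 F437914
theorem F490088 : act 5 n217682 = n212410 := d16_7 F465685 (iv5 D198943) (iv4 F331213) (iv5 D102397) (iv4 F139332) D187741 D217682 F465691 (iv2 F465689)
theorem F490089 : act 1 n217682 = n189769 := d18_6 F68156 F63661 D47512 (iv4 F139332) D187741 D217682 (iv4 D189769) (iv0 F145634) (iv5 D92734)
def n217683 : Q := act 5 n187750
theorem D217683 : act 5 n187750 = n217683 := rfl
theorem F490090 : act 3 n217683 = n188095 := d6_1 D217683 F372319 F371398
theorem F490091 : act 6 n217683 = n188094 := d12_2 (iv6 F371400) D217683 (iv5 D188094) (iv6 F367319) F367318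
theorem F490092 : act 7 n217683 = n217680 := d13_2 F371399 D217683 (iv5 D217680)
theorem F490093 : act 4 n217683 = n197193 := d16_2 (iv4 F371397) D217683 (iv5 F488285) (iv4 D217286) (iv5 D187126) (iv4 F369141) (iv5 F371347) (iv7 F374591) (iv2 D188726)
theorem F490094 : act 0 n217683 = n203374 := d17_2 D187750 D217683 F428088 (iv4 F394456) F394457 (iv0 F391790) (iv5 D187745) (iv0 D90533) D90535
theorem F490095 : act 1 n217683 = n208995 := d17_6 (iv1 F361066) F361067 F367373 F367318 (iv4 F371397) D217683 (iv5 D208995) (iv0 D135553) (iv4 F179256)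
def n217684 : Q := act 5 n187751
theorem D217684 : act 5 n187751 = n217684 := rfl
theorem F490096 : act 2 n217684 = n217680 := d2_1 D217684 (iv5 D217680) F371402
theorem F490097 : act 3 n217684 = n203465 := d6_1 D217684 F428422 F371403
theorem F490098 : act 4 n217684 = n197194 := d9_1 D217684 (iv5 F473490) F473488 (iv5 D186595) (iv4 F367317) F367318 (iv4 F371397) D217683 F490093 (iv5 F488285) (iv4 D217286) (iv5 D187126) (iv4 F369141) (iv5 F371347) (iv4 F371401)
theorem F490099 : act 6 n217684 = n203463 := d12_2 F452078 D217684 (iv5 D203463) D203464 (iv5 F452077)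
theorem F490100 : act 0 n217684 = n208995 := d17_2 (iv1 F422167) D217684 (iv5 D208995) (iv4 F349132) F159972 (iv0 F288415) F251695 F183755 (iv4 F422164)
theorem F490101 : act 1 n217684 = n203374 := d17_6 D102566 D193993 F391672 (iv5 F371347) (iv4 F371401) D217684 F428088 F361065 (iv4 D102568)
def n217685 : Q := act 2 n187752
theorem D217685 : act 2 n187752 = n217685 := rfl
theorem F490102 : act 4 n217685 = n187772 := d1_2 (iv4 F371404) D217685 (iv2 D187772)
theorem F490103 : act 5 n217685 = n217594 := d2_2 F468062 D217685 F489685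
theorem F490104 : act 6 n217685 = n217596 := d3_2 F426281 D217685 F489697
theorem F490105 : act 7 n214568 = n217685 := d15_2 (iv0 F465250) (iv0 F475837) (iv2 D217685)
theorem F490106 : act 0 n217628 = n217685 := d21_4 F451716 F426271 D203134 (iv6 F489855) F490104 (iv5 D217596) D217595 F489691 F466856 (iv1 F466854)
theorem F490107 : act 0 n217685 = n212942 := d21_4 F397396 F397544 D217596 (iv6 F490104) F468235 (iv5 F377680) (iv1 F377684) F374080 (iv6 F419043) F419044
def n217686 : Q := act 7 n187752
theorem D217686 : act 7 n187752 = n217686 := rfl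
theorem F490108 : act 2 n217686 = n214568 := d4_1 D217686 F490105 (iv2 D217685)
theorem F490109 : act 3 n217686 = n187754 := d8_1 D217686 (iv7 D187754) D187752
theorem F490110 : act 4 n217686 = n187773 := d11_1 D217686 (iv7 D187773) (iv4 F371404)
theorem F490111 : act 5 n217686 = n212907 := d13_1 D217686 (iv7 F468061) F468062
theorem F490112 : act 6 n217686 = n201840 := d14_1 D217686 F422004 (iv6 F355293) (iv7 F426282) F426281
theorem F490113 : act 1 n217628 = n217686 := d15_1 (iv0 F490106) (iv7 D217686) D217685
theorem F490114 : act 1 n217686 = n212942 := d15_1 F490113 F468236 (iv2 F489852)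
def n217687 : Q := act 4 n187755
theorem D217687 : act 4 n187755 = n217687 := rfl
theorem F490115 : act 2 n217687 = n195747 := d1_1 D217687 (iv4 F398037) (iv2 F371411)
theorem F490116 : act 3 n217687 = n209212 := d5_1 D217687 (iv4 D209212) F218730 (iv4 F139344) (iv3 F371412)
theorem F490117 : act 6 n217687 = n209134 := d10_2 (iv6 F371413) D217687 (iv4 D209134)
theorem F490118 : act 7 n217687 = n195746 := d11_2 (iv7 F371414) D217687 F398032
theorem F490119 : act 0 n217687 = n195716 := d18_2 F371416 D217687 F397924 (iv5 F163265) D107537 (iv0 F165915) F163329 (iv0 F163115) (iv5 F177094)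
theorem F490120 : act 1 n217687 = n195736 := d18_6 F77086 (iv4 F138860) F138862 (iv4 F139336) D187755 D217687 (iv4 D195736) F163269 F77518
def n217688 : Q := act 6 n187757
theorem D217688 : act 6 n187757 = n217688 := rfl
theorem F490121 : act 2 n217688 = n201048 := d3_1 D217688 (iv6 D201048) (iv2 F371421)
theorem F490122 : act 3 n217688 = n187758 := d7_1 D217688 (iv6 D187758) D187757
theorem F490123 : act 4 n217688 = n190533 := d10_1 D217688 (iv6 F456139) F456138
theorem F490124 : act 5 n217688 = n189402 := d12_1 D217688 F376538 F376124 (iv6 F164466) (iv5 F371422)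
theorem F490125 : act 7 n217688 = n207253 := d14_2 (iv7 F371423) D217688 (iv6 D207253) F216633 F335833
theorem F490126 : act 0 n217688 = n207283 := d21_4 F165917 (iv1 F165916) (iv5 F371422) D217688 F444140 (iv5 D204927) F199569 (iv5 F363730) (iv6 F335836) F177051
theorem F490127 : act 0 n199874 = n217688 := d21_4 (iv5 F376466) F378514 (iv5 F378515) (iv6 F413909) (iv6 D217688) F371422 (iv1 F164474) D196156 F486120 (iv1 D216834)
def n217689 : Q := act 0 n187760
theorem D217689 : act 0 n187760 = n217689 := rfl
theorem F490128 : act 4 n217689 = n195734 := d18_3 (iv1 F364340) D187760 D217689 F397984 (iv4 D185851) F135547 F66687 F290234 D92575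
theorem F490129 : act 3 n217689 = n213520 := d20_5 F455483 F374929 D217638 F489894 D217689 F470820 F418793 (iv4 F421351) F421350 F455487
theorem F490130 : act 2 n204926 = n217689 := d15_3 (iv0 D217689) (iv0 F484164) F484163
theorem F490131 : act 1 n187792 = n217689 := d15_0 (iv0 D217689) (iv7 F374932) F374931
theorem F490132 : act 7 n217689 = n195733 := d15_2 (iv0 F484165) F490131 (iv2 F484160)
theorem F490133 : act 6 n209080 = n217689 := d21_3 (iv5 F333457) F417868 (iv5 F452155) (iv1 F490131) F421362 F421359 F389056 (iv5 F419234) F419235 F355003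
def n217690 : Q := act 5 n187760
theorem D217690 : act 5 n187760 = n217690 := rfl
theorem F490134 : act 2 n217690 = n189777 := d2_1 D217690 (iv5 F377717) F374855
theorem F490135 : act 3 n217690 = n190561 := d6_1 D217690 (iv5 F489897) F489894
theorem F490136 : act 7 n217690 = n190557 := d13_2 F374932 D217690 (iv5 F380137)
theorem F490137 : act 0 n217690 = n200646 := d17_2 F484164 D217690 (iv5 D200646) (iv4 F391665) (iv5 F489257) (iv0 F489259) F488362 F439355 (iv4 F484161)
theorem F490138 : act 6 n217690 = n189776 := d21_9 F380716 (iv1 D190657) F148281 D182512 F359713 D195769 (iv5 F484162) F484164 D217690 (iv1 F377709)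
def n217691 : Q := act 6 n187760
theorem D217691 : act 6 n187760 = n217691 := rfl
theorem F490139 : act 2 n217691 = n204859 := d3_1 D217691 F433880 F374855
theorem F490140 : act 3 n217691 = n191539 := d7_1 D217691 (iv6 F489895) F489894
theorem F490141 : act 4 n217691 = n187761 := d10_1 D217691 (iv6 D187761) D187760
theorem F490142 : act 5 n217691 = n204858 := d12_1 D217691 F433877 (iv5 F377705) (iv6 F490138) (iv5 D217690)
theorem F490143 : act 7 n217691 = n205512 := d14_2 F374932 D217691 (iv6 F436780) (iv7 F484196) F484195
theorem F490144 : act 0 n205509 = n217691 := d21_4 F351739 (iv1 F93354) D126200 D205509 (iv6 D217691) D217690 F490137 (iv5 D200646) (iv6 D113310) D113307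
theorem F490145 : act 0 n217691 = n205514 := d21_1 (iv5 F490142) (iv5 F478385) (iv6 D215107) (iv1 D166592) (iv6 F197480) D204233 F431594 (iv5 F478770) F478772 (iv1 F439159)
def n217692 : Q := act 4 n187765
theorem D217692 : act 4 n187765 = n217692 := rfl
theorem F490146 : act 2 n217692 = n195236 := d1_1 D217692 (iv4 D195236) F371434
theorem F490147 : act 5 n217692 = n193551 := d9_2 (iv5 F371433) D217692 (iv4 D193551) (iv5 F156852) (iv4 F334796) (iv5 D114984) (iv4 D53055) D53056 D114988 F364808 F364810 F156850 (iv4 F308601) F308602 F334803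
theorem F490148 : act 6 n217692 = n217582 := d10_2 F481212 D217692 F489622
theorem F490149 : act 7 n217692 = n201687 := d11_2 (iv7 F371436) D217692 (iv4 D201687)
theorem F490150 : act 0 n217692 = n201690 := d17_0 F421423 (iv1 D175533) D175535 (iv4 F354894) F339589 F272041 (iv5 F353840) F371437 D217692
theorem F490151 : act 1 n217692 = n187769 := d18_6 F353426 F311745 D173557 F334803 (iv5 F371433) D217692 F371447 D188759 F374750
def n217693 : Q := act 0 n187767
theorem D217693 : act 0 n187767 = n217693 := rfl
theorem F490152 : act 4 n217693 = n208690 := d20_2 F465693 D217693 F450458 (iv1 F421632) (iv3 F442778) F446329 (iv1 F444258) (iv4 F441956) (iv3 F455971) F465695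
theorem F490153 : act 3 n217693 = n206475 := d20_5 (iv4 D43390) D43388 (iv4 F139363) D187767 D217693 F441002 F396088 (iv4 F380140) (iv3 D188762) (iv1 D92751)
theorem F490154 : act 2 n217634 = n217693 := d15_3 (iv0 D217693) (iv0 F470719) (iv7 F489873)
theorem F490155 : act 1 n217635 = n217693 := d15_0 (iv0 D217693) F371442 D217635
theorem F490156 : act 6 n217693 = n206474 := d3_2 (iv6 F489875) F490154 (iv2 F451497)
theorem F490157 : act 7 n217693 = n217633 := d4_2 (iv7 F489873) F490154 (iv2 F489872)
theorem F490158 : act 1 n210188 = n217635 := d15_0 F490155 F490157 (iv2 F489872)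
theorem F490159 : act 5 n216993 = n217693 := d21_8 (iv5 F462200) F467051 F467050 (iv6 F437751) D214370 (iv6 F474824) F374655 D216993 F490156 F462202
def n217694 : Q := act 2 n187767
theorem D217694 : act 2 n187767 = n217694 := rfl
theorem F490160 : act 3 n217694 = n208648 := d0_2 D187767 D217694 (iv2 F450323) (iv3 D187676) F139362
theorem F490161 : act 6 n217694 = n191526 := d3_2 F470714 D217694 (iv2 F470712)
theorem F490162 : act 7 n217694 = n217635 := d4_2 (iv7 F371442) D217694 (iv2 D217635)
theorem F490163 : act 1 n217694 = n217633 := d15_0 (iv0 D217633) (iv7 F371442) D217694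
theorem F490164 : act 1 n217634 = n217694 := d15_0 F490163 (iv7 F490157) (iv2 F490154)
def n217695 : Q := act 0 n187770
theorem D217695 : act 0 n187770 = n217695 := rfl
theorem F490165 : act 5 n217695 = n208433 := d19_1 D217695 F468033 (iv3 D211646) (iv1 F462362) F462360 F226138 (iv3 F313435) F130267 (iv5 D39308) F188453 F317277 (iv1 D82989) D82990 (iv4 F332372) (iv3 F211402) F386345 F386343 (iv4 F217069) (iv3 F371450)
theorem F490166 : act 4 n217695 = n214568 := d20_0 F475837 F468970 (iv3 F489918) (iv1 F489920) F371191 F217091 (iv1 F216202) (iv4 F217069) (iv3 F371450) D217695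
theorem F490167 : act 6 n217695 = n197512 := d21_5 F384468 (iv1 F387172) (iv5 F431230) F431231 D217695 (iv5 F450079) (iv1 F450080) (iv5 D135067) D135068 (iv1 F384471)
theorem F490168 : act 2 n187773 = n217695 := d15_3 (iv0 D217695) (iv0 D187770) D187773
theorem F490169 : act 1 n187771 = n217695 := d15_0 (iv0 D217695) (iv7 F444194) (iv2 F448193)
theorem F490170 : act 7 n217695 = n187772 := d15_2 D187771 F490169 (iv2 D187772)
def n217696 : Q := act 2 n187770
theorem D217696 : act 2 n187770 = n217696 := rfl
theorem F490171 : act 3 n217696 = n191536 := d0_2 (iv3 F371450) D217696 (iv2 F431897) F431898 F328736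
theorem F490172 : act 4 n217696 = n188776 := d1_2 F443962 D217696 (iv2 F443961)
theorem F490173 : act 5 n217696 = n213379 := d2_2 F482623 D217696 (iv2 F482620)
theorem F490174 : act 6 n217696 = n188775 := d3_2 F431231 D217696 (iv2 F431228)
theorem F490175 : act 7 n217696 = n187771 := d4_2 F444194 D217696 F448193
theorem F490176 : act 1 n217696 = n187772 := d15_0 (iv0 F444195) F444194 D217696
theorem F490177 : act 1 n187773 = n217696 := d15_0 F490176 (iv7 F490170) (iv2 F490168)
def n217697 : Q := act 6 n187775
theorem D217697 : act 6 n187775 = n217697 := rfl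
theorem F490178 : act 2 n217697 = n188909 := d3_1 D217697 (iv6 F375171) (iv2 F374955)
theorem F490179 : act 3 n217697 = n200632 := d7_1 D217697 F417293 F371458
theorem F490180 : act 4 n217697 = n208661 := d10_1 D217697 (iv6 D208661) (iv4 F371455)
theorem F490181 : act 7 n217697 = n188905 := d14_2 (iv7 F371457) D217697 F488476 F488475 (iv6 D209129)
theorem F490182 : act 5 n217697 = n188648 := d21_6 (iv5 D23449) (iv1 F66729) (iv5 F65458) D90550 D187775 D217697 (iv1 D188648) (iv5 F159987) (iv6 D104361) (iv1 D48294)
theorem F490183 : act 0 n212281 = n217697 := d21_4 (iv5 F145319) D189628 (iv5 F452149) (iv6 F465122) (iv6 D217697) F371454 (iv1 D132755) D132757 (iv6 F364193) (iv1 D104368)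
def n217698 : Q := act 3 n187776
theorem D217698 : act 3 n187776 = n217698 := rfl
theorem F490184 : act 2 n217698 = n193019 := d0_1 D217698 (iv3 D193019) (iv2 F388368) F388369 (iv2 F371459)
theorem F490185 : act 6 n217698 = n201742 := d7_2 (iv6 F371460) D217698 (iv3 D201742)
theorem F490186 : act 5 n193088 = n217698 := d12_5 F490185 F421640 F388373 (iv5 F475136) (iv6 F475140)
def n217699 : Q := act 5 n187776
theorem D217699 : act 5 n187776 = n217699 := rfl
theorem F490187 : act 2 n217699 = n213740 := d2_1 D217699 F471868 (iv2 F371459)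
theorem F490188 : act 3 n217699 = n193088 := d6_1 D217699 F490186 (iv3 D217698)
theorem F490189 : act 6 n217699 = n213740 := d12_2 (iv6 F371460) D217699 F471868 F251919 (iv5 F179145)
theorem F490190 : act 4 n217699 = n213739 := d16_2 D187776 D217699 F471863 F388297 (iv5 D188009) F177341 (iv5 F251921) (iv7 D159829) (iv2 F139370)
theorem F490191 : act 0 n217699 = n188038 := d17_2 F441475 D217699 (iv5 D188038) (iv4 D90751) (iv5 D42495) F205428 D76517 D159848 (iv4 F441474)
def n217700 : Q := act 3 n187777
theorem D217700 : act 3 n187777 = n217700 := rfl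
theorem F490192 : act 2 n217700 = n205690 := d0_1 D217700 F437470 (iv2 F203650) F203651 (iv2 F371461)
theorem F490193 : act 5 n217700 = n205784 := d6_2 F489802 D217700 F489805
theorem F490194 : act 6 n217700 = n205677 := d7_2 (iv6 F371462) D217700 (iv3 D205677)
theorem F490195 : act 7 n217700 = n205783 := d8_2 F486132 D217700 F486135
theorem F490196 : act 0 n217700 = n207946 := d19_4 D42390 D90557 D187777 D217700 F447104 F371106 (iv3 D90452) D90450 (iv5 F292380) (iv4 D100269) F73910 (iv1 F133345) (iv5 D86909) F63774 (iv3 F63772) F63530 F17014 F15491 (iv3 F31845)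
theorem F490197 : act 0 n206867 = n217700 := d20_4 D205642 F437317 F383796 (iv3 F442453) (iv3 D217700) (iv4 D187777) F288361 D216840 F486157 (iv1 D205641)
def n217701 : Q := act 6 n187779
theorem D217701 : act 6 n187779 = n217701 := rfl
theorem F490198 : act 2 n217701 = n207245 := d3_1 D217701 (iv6 F443946) F426331
theorem F490199 : act 3 n217701 = n187780 := d7_1 D217701 (iv6 D187780) D187779
theorem F490200 : act 4 n217701 = n212406 := d10_1 D217701 (iv6 D212406) (iv4 F371466)
theorem F490201 : act 5 n217701 = n214414 := d12_1 D217701 F475073 (iv5 F383911) F383909 F377372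
theorem F490202 : act 7 n217701 = n207244 := d14_2 F447433 D217701 F443943 F422146 (iv6 F447430)
theorem F490203 : act 0 n217701 = n207243 := d21_4 D208519 (iv1 F449711) F377372 D217701 (iv6 D207243) F335150 F335143 (iv5 F335155) D201858 F422098
theorem F490204 : act 0 n207247 = n217701 := d21_4 (iv5 F178742) D201500 (iv5 F420745) (iv6 F443954) (iv6 D217701) (iv5 F377372) (iv1 F483322) F483320 (iv6 D212360) (iv1 D146799)
def n217702 : Q := act 7 n187781
theorem D217702 : act 7 n187781 = n217702 := rfl
theorem F490205 : act 3 n217702 = n195246 := d8_1 D217702 F396452 (iv3 F371472)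
theorem F490206 : act 5 n217702 = n203345 := d13_1 D217702 (iv7 F475800) F475799
theorem F490207 : act 6 n217702 = n214413 := d14_1 D217702 F475068 F421815 F283561 D187781
theorem F490208 : act 1 n212793 = n217702 := d15_1 (iv0 F467542) (iv7 D217702) (iv2 F466959)
theorem F490209 : act 1 n217702 = n195222 := d15_1 F490208 (iv7 F430417) (iv2 F467539)
def n217703 : Q := act 3 n187782
theorem D217703 : act 3 n187782 = n217703 := rfl
theorem F490210 : act 4 n217703 = n206662 := d5_2 (iv4 F371473) D217703 F445076 F441098 F439353
theorem F490211 : act 7 n217703 = n217610 := d8_2 F371475 D217703 (iv3 D217610)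
theorem F490212 : act 0 n217703 = n201121 := d19_4 F373836 F369983 (iv4 F371473) D217703 F441816 F441814 (iv3 F487235) (iv1 F487239) F440834 (iv4 F445315) F445314 F445318 D210238 F456696 F285529 D192242 F386178 F367762 (iv3 F373832)
theorem F490213 : act 1 n217703 = n206673 := d15_1 (iv0 F490212) (iv7 F445754) F445752
def n217704 : Q := act 6 n187782
theorem D217704 : act 6 n187782 = n217704 := rfl
theorem F490214 : act 2 n217704 = n217607 := d3_1 D217704 (iv6 D217607) F371474
theorem F490215 : act 4 n217704 = n214465 := d10_1 D217704 F475291 (iv4 F371473)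
theorem F490216 : act 5 n217704 = n201622 := d12_1 D217704 (iv6 D201622) (iv5 F419207) (iv6 F446031) F446029
theorem F490217 : act 0 n217704 = n214478 := d21_4 (iv5 F475377) F475376 F446029 D217704 (iv6 D214478) (iv5 F398781) F441918 F441916 (iv6 F371079) F371080
def n217705 : Q := act 6 n187783
theorem D217705 : act 6 n187783 = n217705 := rfl
theorem F490218 : act 2 n217705 = n217612 := d3_1 D217705 (iv6 D217612) F371478
theorem F490219 : act 3 n217705 = n207556 := d7_1 D217705 F446028 F446027
theorem F490220 : act 4 n217705 = n195659 := d10_1 D217705 F397768 (iv4 F371477)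
def n217706 : Q := act 4 n187785
theorem D217706 : act 4 n187785 = n217706 := rfl
theorem F490221 : act 2 n217706 = n194805 := d1_1 D217706 F394540 (iv2 F374829)
theorem F490222 : act 3 n217706 = n206556 := d5_1 D217706 F441316 F371511 (iv4 F418948) (iv3 F371483)
theorem F490223 : act 5 n217706 = n194798 := d9_2 D187785 D217706 (iv4 D194798) (iv5 D104588) (iv4 F135560) (iv5 F233528) (iv4 F466946) F466947 F437297 F362290 (iv4 D96239) (iv5 D44933) F33699 D42392 D90565
theorem F490224 : act 6 n217706 = n196261 := d10_2 (iv6 F453355) D217706 F453353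
theorem F490225 : act 7 n217706 = n206560 := d11_2 F486139 D217706 (iv4 F486138)
theorem F490226 : act 0 n217706 = n206559 := d17_0 F441345 F441344 F441341 (iv4 F446033) (iv5 F486158) F486161 F486093 (iv0 F441821) D217706
theorem F490227 : act 1 n217706 = n196246 := d18_6 (iv1 F371104) F371105 (iv1 D90564) D90565 D187785 D217706 (iv4 F489811) F489808 (iv5 D207661)
def n217707 : Q := act 4 n187789
theorem D217707 : act 4 n187789 = n217707 := rfl
theorem F490228 : act 2 n217707 = n195723 := d1_1 D217707 F397951 (iv2 F371503)
theorem F490229 : act 3 n217707 = n206493 := d5_1 D217707 F441070 F438051 F204209 D187789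
theorem F490230 : act 6 n217707 = n206756 := d10_2 (iv6 F371505) D217707 F442065
theorem F490231 : act 7 n217707 = n195724 := d11_2 (iv7 F371506) D217707 F397955
theorem F490232 : act 0 n217707 = n195579 := d18_2 F371508 D217707 (iv4 D195579) (iv5 D105762) (iv4 F138860) (iv0 F138863) (iv4 F139391) (iv0 F139395) D106232
theorem F490233 : act 1 n217707 = n195721 := d18_6 (iv1 F94162) (iv4 F103879) F163115 (iv4 F163329) (iv5 F371504) D217707 (iv4 D195721) (iv0 F164522) (iv5 D106738)
def n217708 : Q := act 5 n187790
theorem D217708 : act 5 n187790 = n217708 := rfl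
theorem F490234 : act 2 n217708 = n188967 := d2_1 D217708 F375267 (iv2 F374862)
theorem F490235 : act 3 n217708 = n201625 := d6_1 D217708 (iv5 F466896) F466895
theorem F490236 : act 6 n217708 = n188663 := d12_2 F371514 D217708 F374344 (iv6 F363353) F346550
theorem F490237 : act 7 n217708 = n201617 := d13_2 (iv7 F371512) D217708 F421157
theorem F490238 : act 0 n217708 = n188910 := d17_2 (iv1 F374868) D217708 (iv5 F443238) F443237 F354971 F256819 (iv5 F446375) F446378 (iv4 F374866)
def n217709 : Q := act 5 n187792
theorem D217709 : act 5 n187792 = n217709 := rfl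
theorem F490239 : act 2 n217709 = n190557 := d2_1 D217709 (iv5 F380137) F374931
theorem F490240 : act 3 n217709 = n189781 := d6_1 D217709 (iv5 F446259) F446257
theorem F490241 : act 6 n217709 = n190556 := d12_2 (iv6 F421362) D217709 (iv5 F384103) F389058 (iv5 F421359)
theorem F490242 : act 7 n217709 = n189777 := d13_2 F374856 D217709 (iv5 F377717)
theorem F490243 : act 4 n217709 = n217690 := d16_2 D187792 D217709 (iv5 D217690) (iv4 D187760) F364355 F154771 (iv5 F364355) (iv7 F143158) F143156
theorem F490244 : act 1 n217709 = n200646 := d17_6 (iv1 F288047) (iv5 F370402) (iv1 D187453) (iv5 F139404) D187792 D217709 (iv5 D200646) F374774 (iv4 D188764)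
def n217710 : Q := act 5 n187797
theorem D217710 : act 5 n187797 = n217710 := rfl
theorem F490245 : act 2 n217710 = n211476 := d2_1 D217710 F461716 F447604
theorem F490246 : act 3 n217710 = n204869 := d6_1 D217710 F433938 (iv3 F381032)
theorem F490247 : act 7 n217710 = n215559 := d13_2 (iv7 F447594) D217710 F480499
theorem F490248 : act 4 n217710 = n208413 := d16_4 (iv4 F490040) F490041 F442673 D217710 F449247 (iv4 F431378) (iv5 F443942) (iv7 F490202) F490198
theorem F490249 : act 0 n217710 = n197616 := d17_2 D187797 D217710 (iv5 F447246) F447245 (iv5 D206898) D206897 F444243 F444242 F371479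
theorem F490250 : act 1 n217710 = n207079 := d17_6 (iv1 F442878) D207000 F490043 F490041 F442673 D217710 (iv5 D207079) (iv0 F366569) (iv4 F442875)
theorem F490251 : act 6 n217710 = n211475 := d21_3 (iv5 F362053) D187797 D217710 (iv1 F461713) (iv6 D147365) D147364 (iv1 F354858) F354806 (iv6 F431359) (iv1 F431362)
def n217711 : Q := act 6 n187801
theorem D217711 : act 6 n187801 = n217711 := rfl
theorem F490252 : act 2 n217711 = n201062 := d3_1 D217711 F418951 (iv2 F371536)
theorem F490253 : act 3 n217711 = n201083 := d7_1 D217711 (iv6 D201083) (iv3 F371537)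
theorem F490254 : act 5 n217711 = n201058 := d12_1 D217711 (iv6 D201058) F177121 (iv6 F139437) D187801
theorem F490255 : act 7 n217711 = n209127 := d14_2 (iv7 F371538) D217711 F452382 (iv7 F450654) (iv6 D201553)
theorem F490256 : act 0 n192782 = n217711 := d21_4 (iv5 F364346) F364354 D100667 D192782 (iv6 D217711) (iv5 D187801) (iv1 D90582) D90583 F139440 D92586
def n217712 : Q := act 3 n187802
theorem D217712 : act 3 n187802 = n217712 := rfl
theorem F490257 : act 2 n217712 = n213447 := d0_1 D217712 (iv3 D213447) (iv2 F470440) F470441 (iv2 F371541)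
theorem F490258 : act 4 n217712 = n187808 := d5_2 D187802 D217712 (iv3 D187808) (iv4 D90587) (iv3 F139439)
theorem F490259 : act 5 n217712 = n216215 := d6_2 F371544 D217712 F483391
theorem F490260 : act 6 n217712 = n188629 := d7_2 (iv6 F371542) D217712 (iv3 D188629)
theorem F490261 : act 7 n217712 = n189582 := d8_2 F371545 D217712 F377039
theorem F490262 : act 0 n192572 = n217712 := d20_4 (iv4 F351150) (iv1 D100399) D100400 D192572 (iv3 D217712) (iv4 D187802) (iv1 F163368) D195814 F398296 (iv1 D188193)
def n217713 : Q := act 6 n187804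
theorem D217713 : act 6 n187804 = n217713 := rfl
theorem F490263 : act 2 n217713 = n188820 := d3_1 D217713 (iv6 D188820) (iv2 F371553)
theorem F490264 : act 3 n217713 = n188641 := d7_1 D217713 (iv6 D188641) (iv3 F371554)
theorem F490265 : act 4 n217713 = n187805 := d10_1 D217713 (iv6 D187805) D187804
theorem F490266 : act 0 n217713 = n199514 := d21_4 (iv5 F385094) (iv1 D191984) F371556 D217713 (iv6 D199514) (iv5 D111380) D111377 D199507 (iv6 F412453) F179160
theorem F490267 : act 0 n188852 = n217713 := d21_4 F354458 F154227 (iv5 F291274) D188852 (iv6 D217713) (iv5 F371556) F359360 F349169 F178142 F142849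
def n217714 : Q := act 0 n187805
theorem D217714 : act 0 n187805 = n217714 := rfl
theorem F490268 : act 5 n217714 = n188784 := d17_3 F438915 (iv5 F371559) D217714 F374866 F374621 D204873 F433965 (iv0 F395834) D206030
theorem F490269 : act 6 n217714 = n188848 := d21_5 F68294 (iv1 F65491) D90585 D187805 D217714 F375053 (iv1 F374154) F235979 (iv6 D115045) F138894
theorem F490270 : act 2 n188821 = n217714 := d15_3 (iv0 D217714) (iv0 F371560) F375002
theorem F490271 : act 1 n188822 = n217714 := d15_0 (iv0 D217714) (iv7 F486173) F486170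
theorem F490272 : act 7 n217714 = n188634 := d15_2 F375005 F490271 F374265
def n217715 : Q := act 6 n187806
theorem D217715 : act 6 n187806 = n217715 := rfl
theorem F490273 : act 2 n217715 = n188831 := d3_1 D217715 (iv6 D188831) (iv2 F371561)
theorem F490274 : act 3 n217715 = n188651 := d7_1 D217715 (iv6 D188651) (iv3 F371562)
theorem F490275 : act 4 n217715 = n187807 := d10_1 D217715 (iv6 D187807) D187806
theorem F490276 : act 5 n217715 = n192665 := d12_1 D217715 (iv6 D192665) F364111 D108479 F371566
theorem F490277 : act 7 n217715 = n204520 := d14_2 (iv7 F371563) D217715 (iv6 F453875) F412460 (iv6 D188825)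
theorem F490278 : act 0 n204521 = n217715 := d17_0 F490276 F390627 F390626 F374383 (iv5 F374370) (iv0 F376366) F413542 (iv0 F486349) F486346
theorem F490279 : act 1 n204210 = n217715 := d17_6 D188147 F372478 (iv1 F218560) D136518 D209478 F453857 F490276 (iv0 F387417) F371762
def n217716 : Q := act 7 n187807
theorem D217716 : act 7 n187807 = n217716 := rfl
theorem F490280 : act 2 n217716 = n188834 := d4_1 D217716 (iv7 D188834) (iv2 F371567)
theorem F490281 : act 3 n217716 = n212263 := d8_1 D217716 F465029 (iv3 F371568)
theorem F490282 : act 4 n217716 = n204520 := d11_1 D217716 (iv7 F490277) F490275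
theorem F490283 : act 5 n217716 = n189639 := d13_1 D217716 (iv7 D189639) (iv5 F371569)
theorem F490284 : act 6 n217716 = n188828 := d14_1 D217716 (iv7 D188828) (iv6 D92823) (iv7 F139459) D187807
theorem F490285 : act 1 n188833 = n217716 := d15_1 D188833 (iv7 D217716) F371567
theorem F490286 : act 1 n217716 = n188832 := d15_1 F490285 (iv7 F392315) F392314
def n217717 : Q := act 3 n187814
theorem D217717 : act 3 n187814 = n217717 := rfl
theorem F490287 : act 2 n217717 = n199146 := d0_1 D217717 (iv3 D199146) (iv2 F172042) (iv3 F400394) F400393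
theorem F490288 : act 4 n217717 = n210512 := d5_2 (iv4 F371594) D217717 F457863 (iv4 D152284) (iv3 F176975)
theorem F490289 : act 5 n217717 = n206200 := d6_2 F400793 D217717 F439682
theorem F490290 : act 6 n217717 = n210511 := d7_2 F371640 D217717 F457860
theorem F490291 : act 7 n217717 = n201272 := d8_2 F371596 D217717 (iv3 D201272)
theorem F490292 : act 0 n217717 = n196818 := d19_4 (iv1 F114232) D113737 (iv4 F371594) D217717 (iv5 D196818) (iv4 F365291) F365290 F322912 F87446 F319214 F101919 (iv1 F38048) F24495 F317412 D26475 F86144 (iv5 D54527) (iv4 F83290) (iv3 F114227)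
def n217718 : Q := act 1 n187816
theorem D217718 : act 1 n187816 = n217718 := rfl
theorem F490293 : act 7 n217718 = n208561 := d15_2 (iv0 F373398) D217718 F449897
theorem F490294 : act 3 n210729 = n217718 := d20_3 D205497 (iv1 F444185) (iv4 F458611) (iv1 D217718) (iv3 D187816) (iv4 D90592) F83497 D114480 D201423 F420458
theorem F490295 : act 4 n209733 = n217718 := d20_6 (iv4 D118868) (iv1 F186922) (iv4 F250833) D214387 (iv1 F474918) (iv3 F454785) (iv1 D217718) (iv4 F404588) F404587 F371582
theorem F490296 : act 2 n217718 = n194406 := d1_1 F490295 (iv4 F453825) (iv2 F454784)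
theorem F490297 : act 6 n217718 = n209684 := d10_2 D209733 F490295 F454617
theorem F490298 : act 0 n216505 = n217718 := d20_10 (iv4 F490295) F454788 F470409 F470406 F400220 F400217 F164718 D109093 (iv4 F400305) (iv3 F484714)
def n217719 : Q := act 2 n187816
theorem D217719 : act 2 n187816 = n217719 := rfl
theorem F490299 : act 3 n217719 = n208553 := d0_2 D187816 D217719 (iv2 F449867) (iv3 F400302) F237964
theorem F490300 : act 4 n217719 = n216332 := d1_2 F404588 D217719 F483877
theorem F490301 : act 6 n217719 = n197657 := d3_2 (iv6 F389658) D217719 (iv2 F405249)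
theorem F490302 : act 7 n217719 = n216505 := d4_2 F489353 D217719 (iv2 F489350)
theorem F490303 : act 1 n217719 = n194406 := d15_0 (iv0 F489354) F489353 D217719
theorem F490304 : act 1 n208561 = n217719 := d15_0 F490303 F393073 (iv2 F449897)
theorem F490305 : act 5 n209804 = n217719 := d21_2 (iv5 F380201) F455009 F490301 (iv1 D197657) (iv6 F347399) (iv5 F430783) F430786 (iv5 F450915) (iv6 F484741) (iv1 D216511)
def n217720 : Q := act 5 n187816
theorem D217720 : act 5 n187816 = n217720 := rfl
theorem F490306 : act 2 n217720 = n209804 := d2_1 D217720 F490305 (iv2 D217719)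
theorem F490307 : act 3 n217720 = n187817 := d6_1 D217720 (iv5 D187817) D187816
theorem F490308 : act 6 n217720 = n209976 := d12_2 (iv6 F389658) D217720 (iv5 F455596) F403841 F403836
theorem F490309 : act 7 n217720 = n209718 := d13_2 F489353 D217720 (iv5 F489352)
theorem F490310 : act 0 n217720 = n194585 := d21_1 D217720 F393762 (iv6 F474321) F474319 (iv6 F406226) F406225 (iv1 F409388) (iv5 F454618) (iv6 F490297) (iv1 D217718)
theorem F490311 : act 4 n193328 = n217720 := d20_0 F490310 F393761 F391222 (iv1 F385852) (iv3 F388229) F388228 (iv1 F385231) (iv4 F385259) F385261 F389477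
def n217721 : Q := act 7 n187818
theorem D217721 : act 7 n187818 = n217721 := rfl
theorem F490312 : act 3 n217721 = n197189 := d8_1 D217721 F403459 F389656
theorem F490313 : act 4 n217721 = n187822 := d11_1 D217721 (iv7 D187822) (iv4 F371602)
theorem F490314 : act 5 n217721 = n199341 := d13_1 D217721 F411777 F388188
theorem F490315 : act 1 n216948 = n217721 := d15_1 (iv0 F486671) (iv7 D217721) (iv2 F467899)
theorem F490316 : act 1 n217721 = n216952 := d15_1 F490315 F486688 (iv2 F486667)
def n217722 : Q := act 5 n187823
theorem D217722 : act 5 n187823 = n217722 := rfl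
theorem F490317 : act 2 n217722 = n189648 := d2_1 D217722 (iv5 D189648) (iv2 F371614)
theorem F490318 : act 4 n217722 = n189326 := d9_1 D217722 (iv5 D189326) F144717 (iv5 D49304) F37664 D49206 D106486 (iv5 F382730) (iv4 F382732) (iv5 D189329) F164427 (iv5 D106506) (iv4 F82992) D90594 D187823
theorem F490319 : act 6 n217722 = n210086 := d12_2 (iv6 F410040) D217722 F456100 F380519 F410039
theorem F490320 : act 7 n217722 = n189643 := d13_2 (iv7 F371615) D217722 (iv5 D189643)
theorem F490321 : act 0 n217722 = n200360 := d17_2 (iv1 F371617) D217722 (iv5 D200360) (iv4 D113024) (iv5 F82482) F97632 D133395 F214471 D151974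
theorem F490322 : act 1 n217722 = n200359 := d17_6 (iv1 F145398) (iv5 F145399) (iv1 F82989) D90594 D187823 D217722 (iv5 D200359) F176074 (iv4 D94267)
def n217723 : Q := act 3 n187824
theorem D217723 : act 3 n187824 = n217723 := rfl
theorem F490323 : act 4 n217723 = n195126 := d5_2 D187824 D217723 (iv3 D195126) (iv4 D105306) (iv3 F139488)
theorem F490324 : act 5 n217723 = n188954 := d6_2 (iv5 F371618) D217723 (iv3 F375249)
theorem F490325 : act 7 n217723 = n212883 := d8_2 F399017 D217723 F467938
theorem F490326 : act 0 n217723 = n188849 := d20_4 (iv4 D114281) (iv1 F139489) D187824 D217723 (iv3 D188849) (iv4 D92851) (iv1 D43445) D43446 (iv3 F365302) (iv1 F178128)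
theorem F490327 : act 0 n213787 = n217723 := d20_4 (iv4 F468639) (iv1 F472106) (iv4 D213791) (iv3 F472088) (iv3 D217723) (iv4 D187824) F139490 D114280 (iv3 F392911) (iv1 F459664)
theorem F490328 : act 6 n213708 = n217723 := d21_3 (iv5 D194643) (iv1 F393752) (iv5 F488678) F490326 (iv6 F393687) F393688 (iv1 D145515) D145516 (iv6 F464728) F464729
def n217724 : Q := act 6 n187824
theorem D217724 : act 6 n187824 = n217724 := rfl
theorem F490329 : act 3 n217724 = n213708 := d7_1 D217724 F490328 (iv3 D217723)
theorem F490330 : act 4 n217724 = n187825 := d10_1 D217724 (iv6 D187825) D187824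
theorem F490331 : act 5 n217724 = n215423 := d12_1 D217724 (iv6 D215423) F470135 (iv6 D213375) (iv5 F371618)
theorem F490332 : act 0 n188850 = n217724 := d21_4 (iv5 F354445) F154082 (iv5 F292034) D188850 (iv6 D217724) F371618 (iv1 F242845) F242843 F139464 D92611
def n217725 : Q := act 0 n187825
theorem D217725 : act 0 n187825 = n217725 := rfl
theorem F490333 : act 5 n217725 = n188728 := d17_3 F362102 (iv5 F371623) D217725 F374601 (iv5 F370547) (iv0 F447157) (iv5 D207958) F213255 (iv4 F213272)
theorem F490334 : act 6 n217725 = n188991 := d21_5 F178075 (iv1 F139477) D90595 D187825 D217725 F375345 (iv1 D114248) D114249 F178066 D114252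
theorem F490335 : act 2 n188997 = n217725 := d15_3 (iv0 D217725) (iv0 F371624) D188997
theorem F490336 : act 1 n188996 = n217725 := d15_0 (iv0 D217725) (iv7 F447161) F447159
theorem F490337 : act 7 n217725 = n188095 := d15_2 D188996 F490336 F372318
theorem F490338 : act 3 n217680 = n217725 := d8_3 F490337 (iv3 F490090) F490092
def n217726 : Q := act 4 n187829
theorem D217726 : act 4 n187829 = n217726 := rfl
theorem F490339 : act 2 n217726 = n198276 := d1_1 D217726 F407441 F387752
theorem F490340 : act 3 n217726 = n194559 := d5_1 D217726 F393690 (iv3 F481282) F481283 (iv3 F375001)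
theorem F490341 : act 5 n217726 = n194556 := d9_2 (iv5 F374918) D217726 F393684 (iv5 F451418) F451417 F383236 F365802 (iv5 F367157) (iv4 F387630) (iv5 F393681) F393680 F451426 F451424 (iv5 D204354) F374920
theorem F490342 : act 6 n217726 = n198273 := d10_2 F387740 D217726 F407431
theorem F490343 : act 7 n217726 = n187878 := d11_2 (iv7 F374919) D217726 F371751
theorem F490344 : act 0 n217726 = n215620 := d17_0 (iv5 D215620) D215619 F482553 F482551 (iv5 D193351) D193350 F394476 F387748 D217726
def n217727 : Q := act 5 n187832
theorem D217727 : act 5 n187832 = n217727 := rfl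
theorem F490345 : act 3 n217727 = n187833 := d6_1 D217727 (iv5 D187833) D187832
theorem F490346 : act 6 n217727 = n196473 := d12_2 (iv6 F459424) D217727 F459429 (iv6 D210948) D210947
theorem F490347 : act 4 n217727 = n205091 := d16_2 F427835 D217727 F434940 F351169 (iv5 F468801) F468800 (iv5 D208837) (iv7 F451057) F451055
theorem F490348 : act 1 n194566 = n217727 := d17_8 F452600 F422942 F455013 (iv5 D209805) D209804 F490305 F490303 (iv5 F393706) F490347
def n217728 : Q := act 0 n187840
theorem D217728 : act 0 n187840 = n217728 := rfl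
theorem F490349 : act 4 n217728 = n212607 := d18_3 (iv1 D187842) (iv4 F371671) D217728 F466663 (iv4 F376913) (iv0 F376585) F144783 D93970 (iv5 F413462)
theorem F490350 : act 3 n217728 = n196755 := d20_5 (iv4 F168622) F351241 (iv4 F449938) (iv3 F449943) D217728 F401696 (iv1 F398942) F371947 F168613 F337449
theorem F490351 : act 6 n217728 = n196753 := d21_5 D201273 F419792 (iv5 D187839) D187840 D217728 (iv5 D196753) (iv1 F401924) D196832 F401958 F370652
theorem F490352 : act 1 n208813 = n217728 := d15_0 (iv0 D217728) (iv7 F450246) (iv2 F450981)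
theorem F490353 : act 7 n196355 = n217728 := d14_0 F490351 (iv7 F411050) F411051 F371888 D196355
def n217729 : Q := act 1 n187840
theorem D217729 : act 1 n187840 = n217729 := rfl
theorem F490354 : act 1 n217729 = n208813 := d15_1 D217729 (iv7 F489360) F489356
theorem F490355 : act 4 n214426 = n217729 := d20_0 (iv1 D217729) F371671 F139495 D114536 F387425 (iv4 D192668) F357927 (iv4 F187375) (iv3 F428339) (iv1 F475125)
theorem F490356 : act 6 n187939 = n217729 := d21_3 (iv5 D140436) (iv1 F180057) (iv5 F371883) (iv1 D217729) (iv6 D187840) D187839 (iv1 F371670) (iv5 F400396) (iv6 D196340) (iv1 F223623)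
theorem F490357 : act 2 n217729 = n196355 := d3_1 F490356 (iv6 D196355) F371884
theorem F490358 : act 3 n217729 = n188856 := d7_1 F490356 (iv6 F388732) F388735
theorem F490359 : act 5 n217729 = n188812 := d12_1 F490356 (iv6 D188812) D188811 (iv6 F374979) (iv5 F371883)
def n217730 : Q := act 5 n187840
theorem D217730 : act 5 n187840 = n217730 := rfl
theorem F490360 : act 2 n217730 = n188924 := d2_1 D217730 (iv5 F489359) F489356
theorem F490361 : act 3 n217730 = n204478 := d6_1 D217730 (iv5 F449937) (iv3 F449943)
theorem F490362 : act 6 n217730 = n204476 := d12_2 D187840 D217730 (iv5 F481976) F481977 (iv5 D187839)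
theorem F490363 : act 7 n217730 = n188925 := d13_2 F450246 D217730 (iv5 F450245)
theorem F490364 : act 0 n217730 = n188927 := d17_2 (iv1 D217729) D217730 F375383 F376851 (iv5 F376829) (iv0 F376830) (iv5 F250914) D214426 F490355
theorem F490365 : act 1 n217730 = n188651 := d17_6 D90640 D187895 F371777 F214518 (iv4 F371671) D217730 (iv5 F375380) (iv0 D187888) F139553
def n217731 : Q := act 6 n187841
theorem D217731 : act 6 n187841 = n217731 := rfl
theorem F490366 : act 2 n217731 = n193351 := d3_1 D217731 (iv6 F482549) F482543
theorem F490367 : act 5 n217731 = n193336 := d12_1 D217731 F394395 (iv5 F394393) (iv6 D189439) (iv5 F371796)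
theorem F490368 : act 7 n217731 = n187951 := d14_2 F489363 D217731 (iv6 D187951) (iv7 F412186) F489366
theorem F490369 : act 0 n217731 = n188002 := d21_4 F138914 D93969 (iv5 F371796) D217731 (iv6 D188002) D188001 F376962 F375771 (iv6 F376938) (iv1 D187528)
theorem F490370 : act 0 n213504 = n217731 := d21_4 F368688 (iv1 D186963) D186964 (iv6 F470728) (iv6 D217731) F371796 (iv1 F371795) F371791 (iv6 F370727) (iv1 F370728)
def n217732 : Q := act 6 n187844
theorem D217732 : act 6 n187844 = n217732 := rfl
theorem F490371 : act 2 n217732 = n208327 := d3_1 D217732 F448926 (iv2 F371674)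
theorem F490372 : act 3 n217732 = n187846 := d7_1 D217732 (iv6 D187846) D187844
theorem F490373 : act 4 n217732 = n201826 := d10_1 D217732 (iv6 D201826) (iv4 F371675)
theorem F490374 : act 5 n217732 = n206018 := d12_1 D217732 F438865 F410756 (iv6 F368635) (iv5 F371678)
theorem F490375 : act 0 n214950 = n217732 := d17_0 F490374 (iv1 D206018) D206019 (iv4 F441936) F441937 F207379 D129423 D206847 (iv4 F477596)
def n217733 : Q := act 6 n187847
theorem D217733 : act 6 n187847 = n217733 := rfl
theorem F490376 : act 3 n217733 = n194477 := d7_1 D217733 (iv6 D194477) (iv3 F371687)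
theorem F490377 : act 4 n217733 = n197578 := d10_1 D217733 (iv6 F421694) F421693
theorem F490378 : act 7 n217733 = n197574 := d14_2 (iv7 F371688) D217733 (iv6 D197574) F393876 (iv6 D194630)
def n217734 : Q := act 3 n187851
theorem D217734 : act 3 n187851 = n217734 := rfl
theorem F490379 : act 2 n217734 = n192619 := d0_1 D217734 (iv3 D192619) F387123 (iv3 F387121) (iv2 F374790)
theorem F490380 : act 6 n217734 = n189119 := d7_2 F374813 D217734 (iv3 D189119)
theorem F490381 : act 0 n217734 = n207885 := d20_10 F446884 D207886 F482488 (iv3 D215999) (iv1 F371867) (iv3 D187930) (iv4 D90681) (iv1 F335352) D187851 D217734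
def n217735 : Q := act 5 n187853
theorem D217735 : act 5 n187853 = n217735 := rfl
theorem F490382 : act 2 n217735 = n187865 := d2_1 D217735 (iv5 D187865) (iv2 F371696)
theorem F490383 : act 3 n217735 = n208440 := d6_1 D217735 F449366 (iv3 F371697)
theorem F490384 : act 4 n217735 = n192606 := d9_1 D217735 (iv5 D192606) (iv4 D100445) (iv5 D46874) (iv4 F65164) D90309 D187534 D217547 F489423 (iv5 D192602) (iv4 D100441) (iv5 D46872) F65530 D90616 D187853
theorem F490385 : act 6 n217735 = n208439 := d12_2 F371698 D217735 F449360 (iv6 D134875) D134874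
theorem F490386 : act 0 n217735 = n192628 := d17_2 (iv1 F489413) D217735 (iv5 F489437) F489434 (iv5 D188972) F143355 D100352 (iv0 F372317) (iv4 F489411)
theorem F490387 : act 1 n217735 = n192539 := d17_6 F157683 (iv5 D92765) (iv1 F177368) D90616 D187853 D217735 (iv5 D192539) (iv0 F370755) (iv4 D187545)
def n217736 : Q := act 0 n187854
theorem D217736 : act 0 n187854 = n217736 := rfl
theorem F490388 : act 5 n217736 = n189687 := d17_1 D217736 (iv1 F398891) D197035 (iv4 F450099) (iv5 D208602) (iv0 D134788) D134792 (iv0 F361802) (iv4 F371700)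
theorem F490389 : act 4 n217736 = n197181 := d18_1 D217736 (iv1 F403422) (iv4 F475540) (iv5 D214510) (iv4 D159686) D159685 D214508 F475529 F468414
theorem F490390 : act 6 n217736 = n197039 := d21_5 (iv5 D92765) (iv1 F177368) D90616 D187854 D217736 F402785 (iv1 F360281) (iv5 F370761) (iv6 D187546) F157683
theorem F490391 : act 1 n187870 = n217736 := d15_0 (iv0 D217736) (iv7 F450861) F450858
theorem F490392 : act 2 n187867 = n217736 := d3_3 F490390 F421765 F421763
theorem F490393 : act 7 n187868 = n217736 := d14_0 F490390 (iv7 F402787) F385401 F373080 F448743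
def n217737 : Q := act 1 n187854
theorem D217737 : act 1 n187854 = n217737 := rfl
theorem F490394 : act 1 n217737 = n187870 := d15_1 D217737 (iv7 D187870) (iv2 F371699)
theorem F490395 : act 7 n217737 = n187867 := d15_2 (iv0 D217736) D217737 F490392
theorem F490396 : act 5 n217737 = n195966 := d17_7 (iv1 F430302) (iv5 D159981) (iv1 F193591) (iv5 F430463) (iv4 F468413) F468414 D217737 F398892 (iv4 F402765)
theorem F490397 : act 4 n217737 = n188318 := d18_7 F448819 (iv4 D208302) (iv1 D134093) (iv4 F98688) D134874 (iv4 F371700) D217737 (iv0 F373074) F373067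
theorem F490398 : act 3 n195968 = n217737 := d19_19 (iv1 D217737) (iv5 F468414) F468413 F430462 F416177 F416174 F397757 F230818 (iv1 F230690) (iv5 F315691) F335140 (iv3 F335146) F335143 (iv5 F335155) (iv4 F355358) (iv3 F355361) (iv1 F211724) D207634 F445782
theorem F490399 : act 2 n187868 = n217737 := d1_3 F490397 F373072 (iv4 F448742)
theorem F490400 : act 6 n188317 = n217737 := d10_0 F490397 (iv6 D188318) D188317
def n217738 : Q := act 4 n187855
theorem D217738 : act 4 n187855 = n217738 := rfl
theorem F490401 : act 2 n217738 = n188124 := d1_1 D217738 (iv4 D188124) (iv2 F371704)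
theorem F490402 : act 3 n217738 = n208758 := d5_1 D217738 F450736 F406027 F386305 (iv3 F386304)
theorem F490403 : act 6 n217738 = n208756 := d10_2 (iv6 F450838) D217738 F450837
theorem F490404 : act 7 n217738 = n192598 := d11_2 (iv7 F371702) D217738 (iv4 D192598)
theorem F490405 : act 0 n217738 = n193000 := d17_0 (iv5 F467519) F467521 F387276 F154513 F74091 (iv0 F66350) D90618 D187855 D217738
theorem F490406 : act 0 n216562 = n217738 := d20_10 (iv4 D217738) (iv1 D187855) D187856 F444180 F444183 (iv3 F489401) (iv4 D217542) (iv1 F370703) D187860 (iv3 F484954)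
def n217739 : Q := act 0 n187856
theorem D217739 : act 0 n187856 = n217739 := rfl
theorem F490407 : act 4 n217739 = n212868 := d18_3 (iv1 D187855) D187856 D217739 F467869 (iv4 D189664) (iv0 D94294) (iv4 F134455) (iv0 F292009) F371703
theorem F490408 : act 2 n192600 = n217739 := d15_3 (iv0 D217739) (iv0 F450831) (iv7 F450833)
theorem F490409 : act 1 n192567 = n217739 := d15_0 (iv0 D217739) F371706 (iv2 F387103)
theorem F490410 : act 7 n217739 = n192601 := d15_2 F450832 F490409 (iv2 F450830)
theorem F490411 : act 3 n206219 = n217739 := d8_3 F490410 F398398 (iv7 F439772)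
def n217740 : Q := act 0 n187857
theorem D217740 : act 0 n187857 = n217740 := rfl
theorem F490412 : act 5 n217740 = n202554 := d17_3 (iv1 F372566) (iv5 F371709) D217740 (iv4 D202554) F181704 F84538 D66231 (iv0 F181593) D139489
theorem F490413 : act 4 n217740 = n202588 := d18_1 D217740 F424642 (iv4 F424934) (iv5 D202649) (iv4 D116256) (iv0 F181590) D139500 F372567 (iv5 F371709)
theorem F490414 : act 3 n217740 = n191882 := d20_5 F224942 (iv1 F225041) F358476 (iv3 F371708) D217740 F384638 (iv1 D109052) (iv4 F331069) F331068 D141896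
theorem F490415 : act 6 n217740 = n188176 := d21_5 (iv5 D46857) F73966 D90618 D187857 D217740 (iv5 F487086) (iv1 D217037) F367654 F351151 (iv1 D100399)
theorem F490416 : act 2 n191793 = n217740 := d15_3 (iv0 D217740) (iv0 F371710) (iv7 F384461)
theorem F490417 : act 7 n217740 = n192603 := d4_2 (iv7 F384461) F490416 F387216
theorem F490418 : act 1 n192604 = n217740 := d15_1 F387221 F490417 F387216
def n217741 : Q := act 7 n187857
theorem D217741 : act 7 n187857 = n217741 := rfl
theorem F490419 : act 2 n217741 = n192604 := d4_1 D217741 (iv7 D192604) (iv2 F371707)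
theorem F490420 : act 3 n217741 = n194716 := d8_1 D217741 (iv7 D194716) (iv3 F371708)
theorem F490421 : act 4 n217741 = n191786 := d11_1 D217741 (iv7 F384428) (iv4 F372580)
theorem F490422 : act 5 n217741 = n191790 := d13_1 D217741 (iv7 D191790) (iv5 F371709)
theorem F490423 : act 6 n217741 = n192609 := d14_1 D217741 (iv7 D192609) (iv6 D100446) (iv7 F139508) D187857
theorem F490424 : act 1 n192603 = n217741 := d15_1 D192603 (iv7 D217741) F371707
theorem F490425 : act 1 n217741 = n191793 := d15_1 F490424 F384461 (iv2 F387216)
def n217742 : Q := act 5 n187858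
theorem D217742 : act 5 n187858 = n217742 := rfl
theorem F490426 : act 6 n217742 = n212938 := d12_2 F426134 D217742 (iv5 D212938) F348652 D202904
theorem F490427 : act 1 n217742 = n212987 := d17_6 F370696 F138934 D94294 F288160 D187858 D217742 (iv5 D212987) (iv0 F371013) (iv4 F374791)
def n217743 : Q := act 1 n187859
theorem D217743 : act 1 n187859 = n217743 := rfl
theorem F490428 : act 1 n217743 = n203311 := d15_1 D217743 F427816 (iv2 F371711)
theorem F490429 : act 7 n217743 = n203342 := d15_2 (iv0 F420496) D217743 F427962
theorem F490430 : act 5 n217743 = n214567 := d17_7 (iv1 F426122) D211281 (iv1 F460941) (iv5 F427027) (iv4 F427024) (iv5 F371712) D217743 (iv0 F475835) F426123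
theorem F490431 : act 3 n187876 = n217743 := d19_19 (iv1 D217743) F371712 F427024 (iv3 F427025) (iv1 F373100) (iv5 F375841) F384497 F407531 (iv1 F407529) F337492 (iv4 F362612) (iv3 F409213) (iv1 F409216) F411953 (iv4 F411951) (iv3 D197864) (iv1 F223529) (iv5 F406912) F406911
theorem F490432 : act 4 n203334 = n217743 := d20_6 (iv4 F230239) (iv1 F441928) F441926 (iv3 F449538) (iv1 F464069) F464065 (iv1 D217743) F426133 F426131 F183448
theorem F490433 : act 2 n217743 = n203343 := d0_1 F490431 (iv3 F427966) (iv2 F248563) (iv3 F387735) (iv2 F387737)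
theorem F490434 : act 6 n217743 = n203356 := d7_2 (iv6 F420461) F490431 (iv3 F428022)
def n217744 : Q := act 5 n187860
theorem D217744 : act 5 n187860 = n217744 := rfl
theorem F490435 : act 0 n217744 = n212987 := d17_2 F386986 D217744 (iv5 D212987) (iv4 F375289) F375290 (iv0 F367581) D188094 F372316 D192532
def n217745 : Q := act 3 n187862
theorem D217745 : act 3 n187862 = n217745 := rfl
theorem F490436 : act 4 n217745 = n188987 := d5_2 (iv4 F371714) D217745 (iv3 D188987) (iv4 D92972) D92971
theorem F490437 : act 6 n212682 = n217745 := d10_0 F490436 (iv6 F412511) (iv4 F467038)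
def n217746 : Q := act 5 n187862
theorem D217746 : act 5 n187862 = n217746 := rfl
theorem F490438 : act 1 n217746 = n217550 := d17_6 F375286 (iv5 F374097) (iv1 D188587) (iv5 F143381) (iv4 F371714) D217746 (iv5 D217550) D217549 F489434
theorem F490439 : act 6 n217746 = n204100 := d21_5 (iv5 F427136) F427137 D208218 (iv6 F489441) (iv1 F490438) (iv5 D204100) (iv1 D122675) D122676 F196541 D122688
def n217747 : Q := act 6 n187862
theorem D217747 : act 6 n187862 = n217747 := rfl
theorem F490440 : act 3 n217747 = n212682 := d7_1 D217747 F490437 (iv3 D217745)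
theorem F490441 : act 4 n217747 = n188986 := d10_1 D217747 (iv6 D188986) (iv4 F371714)
theorem F490442 : act 5 n217747 = n204101 := d12_1 D217747 (iv6 D204101) D204100 (iv6 F490439) (iv5 D217746)
theorem F490443 : act 0 n217747 = n203336 := d21_4 D217550 (iv1 F490438) (iv5 D217746) D217747 F427934 F375637 F370458 (iv5 F486910) F489435 (iv1 D217549)
theorem F490444 : act 0 n203334 = n217747 := d17_0 F490442 (iv1 F431086) (iv5 F216917) F351273 F186812 F186708 (iv5 F371712) D217743 (iv4 F490432)
def n217748 : Q := act 3 n187863
theorem D217748 : act 3 n187863 = n217748 := rfl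
theorem F490445 : act 6 n217748 = n193703 := d7_2 F488304 D217748 (iv3 F488300)
def n217749 : Q := act 5 n187863
theorem D217749 : act 5 n187863 = n217749 := rfl
theorem F490446 : act 0 n217749 = n217550 := d17_2 F489404 D217749 (iv5 D217550) (iv4 D187545) F138934 D94295 F370712 F370703 D217542
def n217750 : Q := act 1 n187864
theorem D217750 : act 1 n187864 = n217750 := rfl
theorem F490447 : act 1 n217750 = n209685 := d15_1 D217750 F454626 F444170
theorem F490448 : act 4 n217750 = n206226 := d17_9 (iv1 F439805) (iv5 F439804) (iv1 F387669) (iv5 F365259) F365258 F290038 D216757 (iv5 F485809) D217750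
theorem F490449 : act 2 n206220 = n217750 := d1_3 F490448 (iv2 D206226) (iv4 F439775)
def n217751 : Q := act 0 n187865
theorem D217751 : act 0 n187865 = n217751 := rfl
theorem F490450 : act 5 n217751 = n187928 := d17_3 (iv1 D187863) D187865 D217751 F371856 (iv5 D92951) D92949 D188971 F375282 F372325
theorem F490451 : act 6 n217751 = n216986 := d21_5 F386732 F450319 (iv5 F450318) (iv6 F450320) D217751 F486878 (iv1 F386337) (iv5 F430830) (iv6 F449175) F449177
theorem F490452 : act 2 n192628 = n217751 := d3_3 F490451 F486877 (iv6 F427405)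
theorem F490453 : act 3 n216988 = n217751 := d7_3 F490451 (iv3 D216986) D216988
theorem F490454 : act 4 n192573 = n217751 := d10_3 F490451 F486880 (iv6 F483144)
theorem F490455 : act 7 n217751 = n192539 := d11_2 F458501 F490454 (iv4 F458502)
def n217752 : Q := act 1 n187865
theorem D217752 : act 1 n187865 = n217752 := rfl
theorem F490456 : act 7 n217752 = n192628 := d15_2 (iv0 D217751) D217752 F490452
theorem F490457 : act 5 n217752 = n187929 := d17_7 (iv1 F370750) (iv5 D90518) (iv1 F177383) D42425 D90622 D187865 D217752 F371859 (iv4 F370752)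
theorem F490458 : act 2 n192539 = n217752 := d2_3 F490457 F371861 D192539
theorem F490459 : act 4 n192630 = n217752 := d9_15 F490457 (iv4 F371860) (iv5 D100347) F73965 D46857 D100400 D192573 F490454 F490450 F371856 (iv5 D92951) F68347 (iv5 F74091) (iv4 F154513) (iv5 F387276)
theorem F490460 : act 3 n217752 = n216237 := d20_9 (iv4 D188278) D188276 (iv4 F372928) F368866 D187024 D217232 (iv4 F488044) F467521 F490459 F483435
theorem F490461 : act 6 n216234 = n217752 := d7_0 F490460 (iv6 D216237) D216234
def n217753 : Q := act 4 n187865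
theorem D217753 : act 4 n187865 = n217753 := rfl
theorem F490462 : act 2 n217753 = n192606 := d1_1 D217753 (iv4 F490384) F490382
theorem F490463 : act 6 n217753 = n210689 := d10_2 (iv6 F450320) D217753 F458446
theorem F490464 : act 7 n217753 = n192602 := d11_2 F489422 D217753 (iv4 F489423)
theorem F490465 : act 5 n217753 = n192567 := d16_3 D90622 D187865 D217753 (iv4 D192567) (iv5 D100397) (iv4 F138917) D187531 F370700 F139503
def n217754 : Q := act 3 n187868
theorem D217754 : act 3 n187868 = n217754 := rfl
theorem F490466 : act 2 n217754 = n205094 := d0_1 D217754 F434951 F399547 F490398 (iv2 F490399)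
theorem F490467 : act 4 n217754 = n205092 := d5_2 (iv4 F448742) D217754 (iv3 F453556) (iv4 F489669) F489668
theorem F490468 : act 5 n217754 = n201477 := d6_2 F371723 D217754 (iv3 F420656)
theorem F490469 : act 6 n217754 = n217591 := d7_2 F448743 D217754 (iv3 D217591)
theorem F490470 : act 0 n217754 = n209573 := d20_4 F468304 F450409 (iv4 F448742) D217754 F454192 (iv4 D204512) F314231 D133588 D208168 F468305
theorem F490471 : act 0 n216584 = n217754 := d20_4 F284730 (iv1 F283425) (iv4 F287203) D216584 (iv3 D217754) F448742 F448745 (iv4 F386984) F386983 F383120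
def n217755 : Q := act 5 n187871
theorem D217755 : act 5 n187871 = n217755 := rfl
theorem F490472 : act 2 n217755 = n189120 := d2_1 D217755 F375817 (iv2 F371728)
theorem F490473 : act 3 n217755 = n216818 := d6_1 D217755 (iv5 D216818) (iv3 F371729)
theorem F490474 : act 7 n217755 = n192621 := d13_2 (iv7 F371731) D217755 (iv5 F387258)
theorem F490475 : act 0 n217755 = n191707 := d17_2 F371732 D217755 (iv5 D191707) (iv4 D98697) D98698 F367103 (iv5 D186137) F140079 (iv4 F370996)
theorem F490476 : act 1 n217755 = n191704 := d17_6 (iv1 F157249) D43896 D93903 F251609 D187871 D217755 (iv5 D191704) (iv0 F294811) F294814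
def n217756 : Q := act 5 n187872
theorem D217756 : act 5 n187872 = n217756 := rfl
theorem F490477 : act 2 n217756 = n214569 := d2_1 D217756 F475840 F468405
theorem F490478 : act 3 n217756 = n207260 := d6_1 D217756 F444025 (iv3 F376304)
theorem F490479 : act 4 n217756 = n191784 := d9_1 D217756 (iv5 D191784) (iv4 D98918) F293386 D92559 F293382 F349251 (iv5 F252196) (iv4 F384440) (iv5 D191789) (iv4 D98921) F293396 (iv4 F292718) D90626 D187872
theorem F490480 : act 6 n217756 = n203937 := d12_2 (iv6 F371734) D217756 F430484 F193604 (iv5 F252362)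
theorem F490481 : act 7 n217756 = n189405 := d13_2 (iv7 F371735) D217756 (iv5 D189405)
theorem F490482 : act 0 n217756 = n214571 := d17_2 (iv1 F468461) D217756 F475846 (iv4 D186141) (iv5 D88681) D88679 (iv5 F349266) F238937 (iv4 F468458)
theorem F490483 : act 1 n217756 = n214570 := d17_6 F372533 (iv5 F349245) (iv1 D90625) D90626 D187872 D217756 F475842 F451639 F451636
def n217757 : Q := act 1 n187877
theorem D217757 : act 1 n187877 = n217757 := rfl
theorem F490484 : act 5 n217757 = n187985 := d17_7 F407363 F391161 (iv1 D193841) F157195 (iv4 F294749) (iv5 F371748) D217757 F372034 (iv4 F407361)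
theorem F490485 : act 4 n217757 = n206270 := d17_9 (iv1 F471781) (iv5 D213719) F389307 (iv5 F384915) F384914 (iv5 F370780) (iv0 F370782) (iv5 F371748) D217757
theorem F490486 : act 2 n187990 = n217757 := d1_3 F490485 F471789 F471788
theorem F490487 : act 0 n198291 = n217757 := d18_0 F490485 (iv1 F471781) F471779 (iv5 D206237) F358490 D184097 (iv4 F372014) F387635 (iv5 F407497)
theorem F490488 : act 3 n217757 = n206225 := d19_3 D128036 D206270 (iv4 F490485) (iv1 D206225) F205593 (iv4 F388571) F388572 F177685 (iv5 F83788) (iv4 D53089) D53088 (iv1 F104863) (iv5 D68653) (iv4 F50897) F50896 (iv1 D13628) D13629 D28599 D60161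
def n217758 : Q := act 2 n187877
theorem D217758 : act 2 n187877 = n217758 := rfl
theorem F490489 : act 3 n217758 = n198295 := d0_2 D187877 D217758 F407513 F387627 (iv2 F293725)
theorem F490490 : act 5 n217758 = n187978 := d2_2 (iv5 F371748) D217758 (iv2 F372000)
theorem F490491 : act 6 n217758 = n194460 := d3_2 F371749 D217758 F393302
theorem F490492 : act 7 n217758 = n198291 := d4_2 F387638 D217758 F407495
theorem F490493 : act 1 n217758 = n187990 := d15_0 (iv0 F387639) F387638 D217758
def n217759 : Q := act 4 n187882
theorem D217759 : act 4 n187882 = n217759 := rfl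
theorem F490494 : act 0 n217759 = n209736 := d20_1 D217759 F454794 (iv3 F490488) (iv1 D217757) (iv3 D187877) (iv4 D90633) (iv1 D42433) D42434 D90637 D187882
def n217760 : Q := act 4 n187883
theorem D217760 : act 4 n187883 = n217760 := rfl
theorem F490495 : act 0 n209736 = n217760 := d20_1 (iv4 F454794) (iv4 D217760) F420150 F429728 F429730 (iv4 F421823) D214466 F475300 (iv3 F420066) (iv1 F439799)
def n217761 : Q := act 6 n187883
theorem D217761 : act 6 n187883 = n217761 := rfl
theorem F490496 : act 2 n217761 = n211541 := d3_1 D217761 F462043 (iv2 F420149)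
theorem F490497 : act 3 n217761 = n210723 := d7_1 D217761 F458578 (iv3 F420150)
theorem F490498 : act 0 n211391 = n217761 := d21_4 F404914 (iv1 F403605) F389661 F461383 (iv6 D217761) (iv5 F420148) F420146 (iv5 F370765) (iv6 F370767) (iv1 F404916)
def n217762 : Q := act 5 n187886
theorem D217762 : act 5 n187886 = n217762 := rfl
theorem F490499 : act 2 n217762 = n204560 := d2_1 D217762 (iv5 F444166) F444163
theorem F490500 : act 3 n217762 = n187890 := d6_1 D217762 (iv5 D187890) (iv3 F371760)
theorem F490501 : act 6 n217762 = n204559 := d12_2 D187886 D217762 F442361 (iv6 F442362) (iv5 D187885)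
theorem F490502 : act 4 n217762 = n206780 := d16_2 F444161 D217762 (iv5 D206780) (iv4 D129291) (iv5 D60768) D60767 D129288 (iv7 F209289) (iv2 F444156)
theorem F490503 : act 0 n217762 = n208829 := d17_2 F405145 D217762 (iv5 D208829) F442142 (iv5 D206774) (iv0 F214807) (iv5 F373060) (iv0 D188313) (iv4 F373058)
theorem F490504 : act 1 n217762 = n204551 := d17_6 D63512 F217325 (iv1 F209285) D207287 F444161 D217762 F432841 (iv0 D135149) (iv4 D63514)
def n217763 : Q := act 1 n187887
theorem D217763 : act 1 n187887 = n217763 := rfl
theorem F490505 : act 1 n217763 = n193666 := d15_1 D217763 (iv7 D193666) (iv2 F371761)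
theorem F490506 : act 7 n217763 = n193664 := d15_2 (iv0 F387417) D217763 (iv2 F390615)
theorem F490507 : act 4 n217763 = n194064 := d17_9 F391924 (iv5 D187109) D187107 D217285 F488280 F453865 (iv0 F375372) F375371 D217763
theorem F490508 : act 6 n214284 = n217763 := d21_3 (iv5 D157955) D157952 D214284 (iv1 D217763) (iv6 D187887) (iv5 D90638) D90635 F291192 D100579 (iv1 F354679)
theorem F490509 : act 2 n217763 = n193665 := d3_1 F490508 (iv6 F479085) (iv2 F479088)
def n217764 : Q := act 0 n187890
theorem D217764 : act 0 n187890 = n217764 := rfl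
theorem F490510 : act 4 n217764 = n188816 := d20_2 F375386 D217764 (iv3 F468250) (iv1 F468254) (iv3 F421745) D212880 F467928 F237972 (iv3 F399012) F399014
theorem F490511 : act 3 n217764 = n188857 := d20_5 F451002 (iv1 F442169) (iv4 F490502) F490500 D217764 F375067 (iv1 F376965) (iv4 F485049) (iv3 D216581) F451004
theorem F490512 : act 7 n188812 = n217764 := d8_0 F490511 (iv7 D188857) (iv3 F374980)
def n217765 : Q := act 7 n187890
theorem D217765 : act 7 n187890 = n217765 := rfl
theorem F490513 : act 4 n217765 = n189541 := d11_1 D217765 F376839 F375386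
theorem F490514 : act 5 n217765 = n187891 := d13_1 D217765 (iv7 D187891) D187890
theorem F490515 : act 1 n188812 = n217765 := d15_1 F489387 (iv7 D217765) (iv2 F489383)
def n217766 : Q := act 4 n187895
theorem D217766 : act 4 n187895 = n217766 := rfl
theorem F490516 : act 7 n217766 = n189536 := d11_2 (iv7 F376940) D217766 F376934
theorem F490517 : act 5 n217766 = n189537 := d16_1 D217766 F376827 (iv5 F376863) (iv4 F413452) (iv5 F413458) (iv4 D187898) D187899 F376943 (iv2 F376947)
def n217767 : Q := act 3 n187898
theorem D217767 : act 3 n187898 = n217767 := rfl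
theorem F490518 : act 2 n217767 = n203984 := d0_1 D217767 (iv3 D203984) F195646 D170725 (iv2 F371783)
theorem F490519 : act 4 n217767 = n204572 := d5_2 D187898 D217767 (iv3 F432926) (iv4 D188864) (iv3 F376968)
theorem F490520 : act 7 n217767 = n204576 := d8_2 F489396 D217767 (iv3 F489394)
theorem F490521 : act 0 n217767 = n204577 := d20_4 F489389 (iv1 F370691) D187898 D217767 F432929 F394079 F369114 (iv4 F387416) F387415 (iv1 F489392)
theorem F490522 : act 0 n204573 = n217767 := d20_4 (iv4 D208894) F338471 (iv4 F450944) (iv3 F450948) (iv3 D217767) (iv4 D187898) (iv1 D90641) (iv4 F139553) (iv3 F371760) (iv1 F451297)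
def n217768 : Q := act 6 n187898
theorem D217768 : act 6 n187898 = n217768 := rfl
theorem F490523 : act 2 n217768 = n191337 := d3_1 D217768 F383099 (iv2 F371783)
theorem F490524 : act 4 n217768 = n187900 := d10_1 D217768 (iv6 D187900) D187898
def n217769 : Q := act 4 n187899
theorem D217769 : act 4 n187899 = n217769 := rfl
theorem F490525 : act 2 n217769 = n189536 := d1_1 D217769 F376934 (iv2 F376944)
theorem F490526 : act 5 n217769 = n189267 := d9_2 D187899 D217769 F376268 (iv5 F374510) F374509 F371774 (iv4 D187894) D187895 D217766 F490517 F376827 (iv5 F376863) (iv4 F413452) (iv5 F413458) (iv4 D187898)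
def n217770 : Q := act 5 n187900
theorem D217770 : act 5 n187900 = n217770 := rfl
theorem F490527 : act 2 n217770 = n189106 := d2_1 D217770 F375771 (iv2 F371785)
theorem F490528 : act 3 n217770 = n215260 := d6_1 D217770 F479091 F376990
theorem F490529 : act 6 n217770 = n188814 := d12_2 D187900 D217770 (iv5 F375217) F375216 (iv5 D187899)
theorem F490530 : act 7 n217770 = n188866 := d13_2 F479095 D217770 (iv5 F479091)
theorem F490531 : act 0 n217770 = n217134 := d17_2 (iv1 F375271) D217770 (iv5 F487590) (iv4 F474357) (iv5 D214276) F280706 F474289 (iv0 D214261) (iv4 F375270)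
theorem F490532 : act 0 n217133 = n217770 := d21_1 (iv5 F487584) (iv5 D217770) (iv6 D187900) (iv1 D90641) (iv6 D42435) (iv5 D20032) (iv1 F31761) (iv5 F65178) D90324 D187557
def n217771 : Q := act 3 n187901
theorem D217771 : act 3 n187901 = n217771 := rfl
theorem F490533 : act 2 n217771 = n190346 := d0_1 D217771 (iv3 F385129) F385128 F379476 (iv2 F399775)
theorem F490534 : act 5 n217771 = n203743 := d6_2 F482546 D217771 (iv3 F482544)
theorem F490535 : act 6 n217771 = n190400 := d7_2 F479335 D217771 (iv3 F479333)
theorem F490536 : act 7 n217771 = n189441 := d8_2 (iv7 F399776) D217771 (iv3 D189441)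
theorem F490537 : act 4 n217771 = n203786 := d20_6 F430455 (iv1 F430454) (iv4 F371722) F371720 D187901 D217771 F429807 (iv4 F443669) F443668 F430456
theorem F490538 : act 1 n189979 = n217771 := d17_8 F429807 F352652 (iv1 F148029) (iv5 F380314) F380313 (iv5 D184733) D184731 (iv5 F378416) F490537
theorem F490539 : act 0 n189233 = n217771 := d18_0 F490537 F429807 (iv4 F443669) F443670 F284728 F151244 F371767 F371771 (iv5 F376170)
def n217772 : Q := act 4 n187901
theorem D217772 : act 4 n187901 = n217772 := rfl
theorem F490540 : act 2 n217772 = n189438 := d1_1 D217772 (iv4 D189438) (iv2 F399775)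
theorem F490541 : act 7 n217772 = n189442 := d11_2 (iv7 F399776) D217772 (iv4 D189442)
theorem F490542 : act 0 n217772 = n189328 := d18_2 D187901 D217772 (iv4 F376917) F376918 (iv4 F470673) (iv0 F470678) (iv4 D187894) (iv0 D90640) D90642
theorem F490543 : act 1 n217772 = n188070 := d18_6 (iv1 D214426) (iv4 F475121) F475123 D216015 F482546 D217772 (iv4 D188070) D188069 F475127
theorem F490544 : act 5 n195996 = n217772 := d16_1 (iv4 F399010) (iv4 D217772) (iv5 F482546) (iv4 D216015) (iv5 F366887) (iv4 F431441) (iv5 F468156) F468161 F398998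
def n217773 : Q := act 4 n187902
theorem D217773 : act 4 n187902 = n217773 := rfl
theorem F490545 : act 2 n217773 = n189442 := d1_1 D217773 (iv4 D189442) (iv2 F399772)
theorem F490546 : act 3 n217773 = n200401 := d5_1 D217773 (iv4 D200401) (iv3 F385120) (iv4 F385126) (iv3 F399773)
theorem F490547 : act 6 n217773 = n189453 := d10_2 F447618 D217773 F447619
theorem F490548 : act 7 n217773 = n189438 := d11_2 (iv7 F399774) D217773 (iv4 D189438)
theorem F490549 : act 0 n217773 = n188070 := d18_2 (iv1 F371786) D217773 (iv4 D188070) (iv5 D90766) (iv4 F139690) (iv0 F413457) (iv4 D187898) F370691 F370688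
theorem F490550 : act 1 n217773 = n189328 := d18_6 F466664 (iv4 F482534) (iv1 F482533) (iv4 F489364) (iv5 F489365) D217773 (iv4 F376917) F376921 (iv5 F466663)
def n217774 : Q := act 0 n187903
theorem D217774 : act 0 n187903 = n217774 := rfl
theorem F490551 : act 5 n217774 = n189322 := d17_3 D189372 F376928 D217774 F376401 (iv5 F250865) (iv0 F376486) (iv5 D189379) (iv0 D93918) (iv4 F144748)
theorem F490552 : act 4 n217774 = n189568 := d20_2 D187903 D217774 (iv3 F469134) (iv1 F486344) F486341 (iv4 F377556) (iv1 F377560) (iv4 F385126) (iv3 F399773) (iv1 D187902)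
theorem F490553 : act 6 n217774 = n189370 := d21_5 (iv5 F144853) F144855 F144596 (iv6 F371788) D217774 (iv5 F376596) (iv1 F381949) (iv5 D189397) (iv6 D93944) (iv1 F144746)
theorem F490554 : act 2 n189371 = n217774 := d3_3 F490553 (iv2 D189370) D189371
theorem F490555 : act 3 n215637 = n217774 := d7_3 F490553 (iv3 F483114) F483115
theorem F490556 : act 0 n217774 = n189435 := d21_10 (iv5 F376600) F376922 D189374 (iv6 F376598) (iv1 F376933) F486028 (iv5 D216812) (iv1 F381948) F376596 (iv6 F490553)
theorem F490557 : act 7 n217774 = n189433 := d8_2 (iv7 F480888) F490555 (iv3 F477730)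
def n217775 : Q := act 1 n187903
theorem D217775 : act 1 n187903 = n217775 := rfl
theorem F490558 : act 1 n217775 = n189435 := d15_1 D217775 (iv7 D189435) (iv2 F371787)
theorem F490559 : act 7 n217775 = n189371 := d15_2 (iv0 D217774) D217775 F490554
theorem F490560 : act 4 n217775 = n189569 := d18_7 (iv1 F370823) (iv4 F376851) (iv1 D187889) F139553 D90642 D187903 D217775 F376914 F372236
theorem F490561 : act 3 n189375 = n217775 := d19_19 (iv1 D217775) (iv5 F376928) F376927 (iv3 F486569) (iv1 F486571) (iv5 F387815) (iv4 F452519) F452518 F404933 (iv5 F434902) F434903 (iv3 D197630) (iv1 F167790) F371965 (iv4 D187967) F376566 (iv1 F374321) F374317 (iv4 F376484)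
theorem F490562 : act 2 n189433 = n217775 := d1_3 F490560 F447498 F387427
def n217776 : Q := act 3 n187903
theorem D217776 : act 3 n187903 = n217776 := rfl
theorem F490563 : act 4 n217776 = n196203 := d5_2 D187903 D217776 (iv3 F399865) (iv4 F371722) F371720
theorem F490564 : act 6 n217776 = n187905 := d7_2 (iv6 F371788) D217776 (iv3 D187905)
theorem F490565 : act 7 n201193 = n217776 := d14_0 F490564 F371797 F376384 F376381 (iv6 F419391)
def n217777 : Q := act 7 n187903
theorem D217777 : act 7 n187903 = n217777 := rfl
theorem F490566 : act 2 n217777 = n189435 := d4_1 D217777 (iv7 D189435) (iv2 F371787)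
theorem F490567 : act 3 n217777 = n201193 := d8_1 D217777 F490565 (iv3 D217776)
theorem F490568 : act 4 n217777 = n187904 := d11_1 D217777 (iv7 D187904) D187903
theorem F490569 : act 5 n217777 = n189545 := d13_1 D217777 (iv7 F376929) F376928
theorem F490570 : act 6 n217777 = n189412 := d14_1 D217777 (iv7 D189412) (iv6 D93957) (iv7 F139557) (iv6 F371788)
theorem F490571 : act 1 n189433 = n217777 := d15_1 D189433 (iv7 D217777) F371787
theorem F490572 : act 1 n217777 = n189371 := d15_1 F490571 (iv7 F490559) (iv2 F490562)
def n217778 : Q := act 4 n187910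
theorem D217778 : act 4 n187910 = n217778 := rfl
theorem F490573 : act 6 n217778 = n211822 := d10_2 F415971 D217778 F463193
theorem F490574 : act 7 n217778 = n194748 := d11_2 (iv7 F371825) D217778 (iv4 D194748)
theorem F490575 : act 0 n217778 = n217437 := d17_0 F488911 (iv1 D217445) (iv5 F379286) F379285 (iv5 D96964) F142185 D188542 F373883 D217778
theorem F490576 : act 1 n217778 = n217439 := d18_6 (iv1 F160382) (iv4 F367164) (iv1 D90665) (iv4 F139576) D187910 D217778 (iv4 D217439) (iv0 F369821) F369651
def n217779 : Q := act 4 n187914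
theorem D217779 : act 4 n187914 = n217779 := rfl
theorem F490577 : act 2 n217779 = n202672 := d1_1 D217779 F425020 F407137
theorem F490578 : act 3 n217779 = n188142 := d5_1 D217779 (iv4 D188142) (iv3 D90912) (iv4 F139593) (iv3 F371832)
theorem F490579 : act 7 n217779 = n203709 := d11_2 F387521 D217779 F429490
theorem F490580 : act 5 n217779 = n204614 := d16_7 F429739 (iv5 D196525) F164999 D107090 (iv4 F335538) D187914 D217779 (iv7 D204614) (iv2 F429736)
theorem F490581 : act 0 n217779 = n203763 := d17_0 (iv5 F485619) F485620 (iv5 D197696) F167925 (iv5 F98565) D134748 (iv5 F409206) F409207 D217779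
theorem F490582 : act 1 n217779 = n198294 := d18_6 (iv1 D109094) (iv4 F164718) F351318 (iv4 F335538) D187914 D217779 F407511 (iv0 F398969) F398966
theorem F490583 : act 6 n217779 = n202643 := d21_5 F407540 (iv1 F407509) (iv5 D198293) D198294 (iv1 F490582) (iv5 D202643) F181193 D126879 (iv6 F343824) D198302
def n217780 : Q := act 6 n187914
theorem D217780 : act 6 n187914 = n217780 := rfl
theorem F490584 : act 2 n217780 = n202671 := d3_1 D217780 (iv6 F425019) F407137
theorem F490585 : act 3 n217780 = n187916 := d7_1 D217780 (iv6 D187916) (iv3 F371832)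
theorem F490586 : act 4 n217780 = n202643 := d10_1 D217780 (iv6 F490583) (iv4 D217779)
theorem F490587 : act 7 n217780 = n202668 := d14_2 F387521 D217780 F425000 F303686 (iv6 F387520)
theorem F490588 : act 0 n217780 = n199270 := d21_4 F343108 F360600 D187914 D217780 F459162 (iv5 D210889) (iv1 F405422) (iv5 F405417) (iv6 D197699) (iv1 F167929)
theorem F490589 : act 5 n217780 = n204759 := d21_6 F404952 (iv1 F170133) (iv5 F170315) D198771 (iv1 F409163) D217780 (iv1 D204759) (iv5 F404926) F404927 (iv1 F404950)
theorem F490590 : act 0 n210346 = n217780 := d17_0 F490589 (iv1 D204759) (iv5 F404926) F404925 (iv5 D110885) F171741 D199034 F410410 (iv4 F457131)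
theorem F490591 : act 0 n211427 = n214096 := d21_4 (iv5 F490589) F490588 F411402 D211427 (iv6 D214096) (iv5 D156341) (iv1 F352678) F352681 (iv6 F404755) (iv1 F433481)
def n217781 : Q := act 5 n187915
theorem D217781 : act 5 n187915 = n217781 := rfl
theorem F490592 : act 2 n217781 = n197932 := d2_1 D217781 (iv5 F406231) (iv2 F400346)
theorem F490593 : act 3 n217781 = n187919 := d6_1 D217781 (iv5 D187919) (iv3 F371833)
theorem F490594 : act 4 n217781 = n211337 := d9_1 D217781 (iv5 F479434) F479433 F460065 (iv4 D211067) (iv5 F405718) (iv4 F449884) (iv5 F480273) F480272 (iv5 F406964) F406963 (iv5 D196713) F165284 D107254 (iv4 F371834)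
theorem F490595 : act 6 n217781 = n204759 := d12_2 D187915 D217781 (iv5 F490589) (iv6 D217780) (iv5 D187914)
theorem F490596 : act 7 n217781 = n197931 := d13_2 (iv7 F402324) D217781 F406228
theorem F490597 : act 0 n217781 = n197714 := d17_2 (iv1 F406883) D217781 (iv5 D197714) (iv4 F216781) D208577 (iv0 F449976) (iv5 F398757) F405620 (iv4 F400348)
theorem F490598 : act 1 n217781 = n197934 := d17_6 (iv1 F223487) (iv5 F363143) (iv1 D107253) D107254 (iv4 F371834) D217781 F406235 F360122 (iv4 D140619)
def n217782 : Q := act 0 n187916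
theorem D217782 : act 0 n187916 = n217782 := rfl
theorem F490599 : act 6 n217782 = n210521 := d21_5 (iv5 F291192) (iv1 F139549) D90671 D187916 D217782 F457903 (iv1 F400417) (iv5 F388738) (iv6 D101181) (iv1 F74363)
theorem F490600 : act 3 n214244 = n217782 := d7_3 F490599 F457902 D214244
theorem F490601 : act 4 n210522 = n217782 := d10_3 F490599 (iv4 D210521) D210522
theorem F490602 : act 0 n217782 = n209400 := d21_4 F404897 (iv1 F400416) (iv5 F457903) (iv6 F490599) (iv6 D209400) (iv5 F375066) (iv1 D188855) D188856 (iv6 F388732) F404896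
def n217783 : Q := act 1 n187916
theorem D217783 : act 1 n187916 = n217783 := rfl
theorem F490603 : act 1 n217783 = n209400 := d15_1 D217783 F453588 F387517
theorem F490604 : act 4 n217783 = n213106 := d18_7 (iv1 F486325) D217323 F488427 F486278 (iv5 F293924) (iv4 F371835) D217783 (iv0 F469044) (iv5 F486323)
theorem F490605 : act 3 n187918 = n217783 := d20_3 F372348 (iv1 F178046) F372354 (iv1 D217783) (iv3 F490585) F490586 F424903 D208299 (iv3 F448807) (iv1 F420450)
theorem F490606 : act 6 n201272 = n217783 := d21_3 (iv5 F440474) (iv1 D206372) F419788 (iv1 D217783) (iv6 D187916) (iv5 D90671) (iv1 F139550) F291189 D100567 D192728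
theorem F490607 : act 5 n217783 = n215457 := d12_1 F490606 (iv6 D215457) (iv5 D174578) (iv6 F339206) F419788
def n217784 : Q := act 5 n187916
theorem D217784 : act 5 n187916 = n217784 := rfl
theorem F490608 : act 3 n217784 = n204759 := d6_1 D217784 (iv5 F490589) F490585
theorem F490609 : act 6 n217784 = n187919 := d12_2 D187916 D217784 (iv5 D187919) (iv6 D90672) D90671
theorem F490610 : act 7 n211445 = n217784 := d8_0 F490608 F433482 D211445
def n217785 : Q := act 7 n187916
theorem D217785 : act 7 n187916 = n217785 := rfl
theorem F490611 : act 2 n217785 = n209400 := d4_1 D217785 F453588 F387517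
theorem F490612 : act 3 n217785 = n202668 := d8_1 D217785 (iv7 F490587) F490585
theorem F490613 : act 4 n217785 = n188146 := d11_1 D217785 (iv7 D188146) (iv4 F371835)
theorem F490614 : act 5 n217785 = n211445 := d13_1 D217785 F490610 (iv5 D217784)
theorem F490615 : act 6 n217785 = n193666 := d14_1 D217785 (iv7 D193666) F157070 (iv7 F293922) D187916
def n217786 : Q := act 3 n187921
theorem D217786 : act 3 n187921 = n217786 := rfl
theorem F490616 : act 4 n217786 = n204494 := d5_2 D187921 D217786 (iv3 F432703) (iv4 D188887) (iv3 F368681)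
theorem F490617 : act 5 n217786 = n190312 := d6_2 F378919 D217786 F379351
theorem F490618 : act 6 n217786 = n199626 := d7_2 (iv6 F401837) D217786 (iv3 F412906)
theorem F490619 : act 7 n217786 = n212864 := d8_2 F420447 D217786 F467855
def n217787 : Q := act 5 n187925
theorem D217787 : act 5 n187925 = n217787 := rfl
theorem F490620 : act 2 n217787 = n187931 := d2_1 D217787 (iv5 D187931) (iv2 F371843)
theorem F490621 : act 3 n217787 = n215993 := d6_1 D217787 F482465 F371846
theorem F490622 : act 4 n217787 = n191732 := d9_1 D217787 F384295 (iv4 D100452) F135031 F134455 (iv5 F138934) D187545 D217550 F489443 (iv5 D192613) (iv4 D100449) D100450 (iv4 F371850) (iv5 D187926) D187925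
theorem F490623 : act 7 n217787 = n213018 := d13_2 (iv7 F371844) D217787 (iv5 D213018)
theorem F490624 : act 0 n217787 = n217749 := d17_2 F371845 D217787 (iv5 D217749) (iv4 F372325) F372324 F374095 (iv5 F375288) (iv0 D100359) D100361
theorem F490625 : act 1 n217787 = n217746 := d17_6 D90620 (iv5 F288160) F371851 (iv5 D187926) D187925 D217787 (iv5 D217746) (iv0 D187862) (iv4 D90622)
theorem F490626 : act 6 n217787 = n191731 := d21_3 (iv5 D192539) F371845 D217787 F454284 (iv6 F482436) (iv5 D215987) F341120 D209419 (iv6 F489421) F489424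
def n217788 : Q := act 6 n187925
theorem D217788 : act 6 n187925 = n217788 := rfl
theorem F490627 : act 2 n217788 = n187932 := d3_1 D217788 (iv6 D187932) (iv2 F371843)
theorem F490628 : act 3 n217788 = n198265 := d7_1 D217788 F407395 F371846
theorem F490629 : act 4 n217788 = n187927 := d10_1 D217788 (iv6 D187927) D187925
theorem F490630 : act 5 n217788 = n198802 := d12_1 D217788 (iv6 F475607) F475606 (iv6 F490626) (iv5 D217787)
theorem F490631 : act 7 n217788 = n198299 := d14_2 (iv7 F371844) D217788 F407533 (iv7 F316248) D152050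
theorem F490632 : act 0 n217788 = n208616 := d21_4 D217746 (iv1 F490625) (iv5 D217787) D217788 (iv6 D208616) (iv5 F447183) (iv1 F440996) F371718 (iv6 D187866) D187862
theorem F490633 : act 0 n213019 = n217788 := d21_4 F403477 (iv1 F385876) D194011 (iv6 F468618) (iv6 D217788) D217787 F490624 (iv5 D217749) (iv6 F488304) F488302
def n217789 : Q := act 0 n187927
theorem D217789 : act 0 n187927 = n217789 := rfl
theorem F490634 : act 5 n217789 = n202238 := d17_3 (iv1 F465162) (iv5 F465166) D217789 F423359 (iv5 D194013) D194012 (iv5 F450855) F453032 F453027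
theorem F490635 : act 3 n217789 = n202239 := d20_5 (iv4 D197808) (iv1 F400507) (iv4 F464191) F464190 D217789 (iv4 F423519) F423520 F410337 D207367 (iv1 F444538)
theorem F490636 : act 6 n217789 = n208620 := d21_5 (iv5 F288160) F371851 (iv5 D187926) D187927 D217789 (iv5 F468289) F468290 (iv5 D187869) (iv6 D90623) D90620
theorem F490637 : act 2 n187934 = n217789 := d3_3 F490636 (iv2 F450191) F452074
theorem F490638 : act 0 n217789 = n187936 := d21_4 F450860 (iv1 F468291) F468289 (iv6 F490636) F371879 (iv5 D151678) D151675 F421767 F421763 (iv1 F450863)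
theorem F490639 : act 7 n187935 = n217789 := d15_2 (iv0 D187934) D187935 (iv2 F490637)
def n217790 : Q := act 1 n187927
theorem D217790 : act 1 n187927 = n217790 := rfl
theorem F490640 : act 1 n217790 = n187936 := d15_1 D217790 (iv7 D187936) (iv2 F371855)
theorem F490641 : act 7 n217790 = n187934 := d15_2 (iv0 D217789) D217790 F490637
theorem F490642 : act 5 n217790 = n210066 := d17_7 (iv1 F225846) (iv5 D137338) (iv1 F218886) (iv5 F452741) (iv4 F465164) (iv5 F465166) D217790 (iv0 D210066) (iv4 D137400)
theorem F490643 : act 2 n187935 = n217790 := d2_3 F490642 (iv2 F456023) F437507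
theorem F490644 : act 3 n201149 = n217790 := d6_3 F490642 F456021 (iv5 F419272)
def n217791 : Q := act 7 n187927
theorem D217791 : act 7 n187927 = n217791 := rfl
theorem F490645 : act 2 n217791 = n187936 := d4_1 D217791 (iv7 D187936) (iv2 F371855)
theorem F490646 : act 3 n217791 = n197804 := d8_1 D217791 (iv7 F464195) F464190
theorem F490647 : act 4 n217791 = n198299 := d11_1 D217791 (iv7 F490631) F490629
theorem F490648 : act 5 n217791 = n195157 := d13_1 D217791 (iv7 F465163) (iv5 F465166)
theorem F490649 : act 6 n217791 = n204631 := d14_1 D217791 F433074 F370751 F370748 D187927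
theorem F490650 : act 1 n187935 = n217791 := d15_1 D187935 (iv7 D217791) F371855
theorem F490651 : act 1 n217791 = n187934 := d15_1 F490650 (iv7 F490641) (iv2 F490643)
def n217792 : Q := act 3 n187929
theorem D217792 : act 3 n187929 = n217792 := rfl
theorem F490652 : act 4 n217792 = n217662 := d5_2 F371860 D217792 (iv3 D217662) (iv4 D187717) (iv3 F154328)
theorem F490653 : act 5 n217792 = n216237 := d6_2 F490457 D217792 (iv3 F490460)
theorem F490654 : act 6 n217792 = n214574 := d7_2 (iv6 F371862) D217792 (iv3 D214574)
def n217793 : Q := act 5 n187930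
theorem D217793 : act 5 n187930 = n217793 := rfl
theorem F490655 : act 2 n217793 = n216004 := d2_1 D217793 F482495 (iv2 F371863)
theorem F490656 : act 3 n217793 = n187931 := d6_1 D217793 (iv5 D187931) D187930
theorem F490657 : act 7 n217793 = n215996 := d13_2 (iv7 F371865) D217793 (iv5 D215996)
theorem F490658 : act 0 n217793 = n216002 := d17_2 (iv1 F371867) D217793 F482489 F439775 F205593 D201453 F420561 (iv0 D192750) F371868
theorem F490659 : act 0 n216001 = n217793 := d19_0 (iv5 D217793) F371864 (iv3 D90686) D90684 F291187 (iv4 D99377) (iv3 F153039) (iv1 F383907) (iv5 D191590) (iv4 F376328) F376327 (iv1 F371854) (iv5 D90682) D90681 D187930 F371866 F290038 (iv4 F485799) F485798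
def n217794 : Q := act 0 n187931
theorem D217794 : act 0 n187931 = n217794 := rfl
theorem F490660 : act 5 n217794 = n217545 := d17_3 (iv1 D187929) D187931 D217794 F489411 (iv5 D188094) D188092 (iv5 F375302) F375300 F371860
theorem F490661 : act 1 n213018 = n217794 := d15_0 (iv0 D217794) (iv7 F489442) F489439
theorem F490662 : act 2 n217749 = n217794 := d2_3 F490660 (iv2 F489414) D217749
theorem F490663 : act 7 n217746 = n217794 := d13_0 F490660 (iv7 F489415) D217746
def n217795 : Q := act 1 n187931
theorem D217795 : act 1 n187931 = n217795 := rfl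
theorem F490664 : act 1 n217795 = n213018 := d15_1 D217795 (iv7 F490623) F490620
theorem F490665 : act 7 n217795 = n217749 := d15_2 (iv0 D217794) D217795 F490662
theorem F490666 : act 5 n217795 = n217546 := d17_7 (iv1 F370705) F370706 (iv1 F371854) (iv5 D90682) D90681 D187931 D217795 F489416 (iv4 D187853)
theorem F490667 : act 6 n201628 = n217795 := d21_9 (iv5 D187931) D187928 (iv5 F490450) F490451 (iv1 F486881) (iv6 F431091) F431090 (iv1 F340894) D201628 (iv1 D217795)
theorem F490668 : act 2 n217795 = n217746 := d3_1 F490667 F490439 F431082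
def n217796 : Q := act 0 n187932
theorem D217796 : act 0 n187932 = n217796 := rfl
theorem F490669 : act 5 n217796 = n211217 := d17_1 D217796 (iv1 D211217) D211218 F460656 (iv5 F456016) F456018 (iv5 F452072) (iv0 D187934) (iv4 F371869)
theorem F490670 : act 4 n217796 = n211594 := d18_3 (iv1 D187935) (iv4 F371869) D217796 (iv5 D211594) (iv4 D143275) F220983 D136881 F437509 F437507
theorem F490671 : act 6 n217796 = n208613 := d21_5 (iv5 F490666) (iv1 D217795) (iv5 D187931) D187932 D217796 F450159 (iv1 D134872) D134874 F371698 (iv1 F489416)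
theorem F490672 : act 2 n208616 = n217796 := d15_3 (iv0 D217796) (iv0 F451787) (iv7 F450176)
theorem F490673 : act 1 n198299 = n217796 := d15_0 (iv0 D217796) F371870 F407534
theorem F490674 : act 7 n217796 = n213019 := d15_2 (iv0 F407535) F490673 (iv2 F468619)
theorem F490675 : act 3 n199595 = n217796 := d19_19 (iv1 F490673) F407532 F173430 (iv3 D51519) (iv1 F80662) F80664 (iv4 D24990) F19306 (iv1 F20341) (iv5 F20344) (iv4 F38517) (iv3 F38523) (iv1 F24264) F24206 D11878 D25009 D51455 (iv5 F365188) D199595
def n217797 : Q := act 5 n187932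
theorem D217797 : act 5 n187932 = n217797 := rfl
theorem F490676 : act 2 n217797 = n198802 := d2_1 D217797 (iv5 F490630) F490627
theorem F490677 : act 3 n217797 = n209169 := d6_1 D217797 F452554 F449906
theorem F490678 : act 4 n217797 = n198990 := d9_1 D217797 (iv5 D198990) F171618 (iv5 F220122) (iv4 F396013) (iv5 F490648) F490647 F407532 F173430 F81284 (iv4 F99523) (iv5 F218743) F363975 F288339 (iv4 F371869)
theorem F490679 : act 7 n217797 = n199776 := d13_2 (iv7 F371870) D217797 F413443
theorem F490680 : act 0 n217797 = n199775 := d17_2 F451787 D217797 (iv5 F428118) F428117 (iv5 F397396) (iv0 F419044) (iv5 F427101) (iv0 F451740) (iv4 F451741)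
theorem F490681 : act 1 n217797 = n199774 := d17_8 F458901 F388747 F220833 D208246 F460651 (iv5 F490669) (iv0 D217796) D217797 (iv4 F458903)
def n217798 : Q := act 6 n187945
theorem D217798 : act 6 n187945 = n217798 := rfl
theorem F490682 : act 2 n217798 = n208050 := d3_1 D217798 F447640 (iv2 F444274)
theorem F490683 : act 3 n217798 = n208036 := d7_1 D217798 F447548 F417275
theorem F490684 : act 4 n217798 = n200498 := d10_1 D217798 F416747 F398743
theorem F490685 : act 5 n217798 = n189318 := d12_1 D217798 F413464 (iv5 F413462) F413463 D187945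
theorem F490686 : act 7 n217798 = n208046 := d14_2 F444268 D217798 (iv6 D208046) (iv7 F214109) (iv6 F444265)
theorem F490687 : act 0 n217798 = n208049 := d21_4 F135578 D90689 D187945 D217798 F447634 (iv5 F420345) (iv1 F420351) F396367 (iv6 F344106) (iv1 D185880)
theorem F490688 : act 1 n217798 = n208048 := d15_1 (iv0 F490687) F447629 (iv2 F447633)
def n217799 : Q := act 6 n187949
theorem D217799 : act 6 n187949 = n217799 := rfl
theorem F490689 : act 4 n217799 = n187951 := d10_1 D217799 (iv6 D187951) D187949
theorem F490690 : act 5 n217799 = n193342 := d12_1 D217799 F389517 F459798 (iv6 D211029) (iv5 F371910)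
theorem F490691 : act 0 n217799 = n215613 := d21_4 (iv5 D140558) D140555 (iv5 F371910) D217799 F480768 F475714 (iv1 D190133) D190135 (iv6 F388942) (iv1 F401789)
theorem F490692 : act 0 n211053 = n217799 := d17_0 F490690 F389518 D215620 F480789 F389538 F389540 D207356 F451798 F459913
def n217800 : Q := act 0 n187951
theorem D217800 : act 0 n187951 = n217800 := rfl
theorem F490693 : act 5 n217800 = n188792 := d17_1 D217800 (iv1 F374916) (iv5 F387753) (iv4 F407441) F470324 F470319 D215613 (iv0 F490691) F490689
theorem F490694 : act 6 n217800 = n217182 := d21_5 (iv5 F363675) (iv1 F371913) (iv5 D187950) D187951 D217800 (iv5 D217182) (iv1 F390395) F390397 (iv6 F401883) F401885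
theorem F490695 : act 2 n213504 = n217800 := d15_3 (iv0 D217800) (iv0 F489482) F489481
theorem F490696 : act 1 n193351 = n217800 := d15_0 (iv0 D217800) (iv7 F490368) F490366
theorem F490697 : act 7 n217800 = n188002 := d15_2 (iv0 F489484) F490696 (iv2 F489478)
def n217801 : Q := act 5 n187961
theorem D217801 : act 5 n187961 = n217801 := rfl
theorem F490698 : act 2 n217801 = n210720 := d2_1 D217801 F458561 F387824
theorem F490699 : act 3 n217801 = n193311 := d6_1 D217801 (iv5 F420184) F420187
theorem F490700 : act 0 n217801 = n199341 := d17_2 D187961 D217801 (iv5 F490314) F490313 F371613 F377262 (iv5 D187968) (iv0 D90701) (iv4 F139612)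
theorem F490701 : act 1 n217801 = n192375 := d17_6 (iv1 F398544) F398542 D208112 F447925 (iv4 F377638) D217801 (iv5 F467901) (iv0 F486671) (iv4 D216948)
theorem F490702 : act 4 n217801 = n210320 := d18_5 F405115 F370794 D189754 (iv4 F377638) D217801 (iv0 F457006) (iv4 F385064) F167795 D197633
theorem F490703 : act 6 n217801 = n192483 := d21_3 (iv5 D187963) D187961 D217801 (iv1 D192483) (iv6 D100204) (iv5 F292328) F143362 F354457 (iv6 F364765) F377633
def n217802 : Q := act 6 n187961
theorem D217802 : act 6 n187961 = n217802 := rfl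
theorem F490704 : act 4 n217802 = n201668 := d10_1 D217802 (iv6 F421319) (iv4 F377638)
theorem F490705 : act 0 n197928 = n217802 := d18_2 F420464 F449982 F490704 F421316 F372372 (iv0 D186567) D186569 (iv0 F462630) F462627
def n217803 : Q := act 6 n187967
theorem D217803 : act 6 n187967 = n217803 := rfl
theorem F490706 : act 2 n217803 = n197537 := d3_1 D217803 (iv6 D197537) F371964
theorem F490707 : act 3 n217803 = n214086 := d7_1 D217803 (iv6 D214086) (iv3 F371963)
theorem F490708 : act 4 n217803 = n187969 := d10_1 D217803 (iv6 D187969) D187967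
theorem F490709 : act 1 n214456 = n217803 := d18_6 D186962 F368676 F348701 (iv4 D159471) D159472 D214456 F490708 F421111 (iv5 D186964)
def n217804 : Q := act 6 n187968
theorem D217804 : act 6 n187968 = n217804 := rfl
theorem F490710 : act 2 n217804 = n211829 := d3_1 D217804 (iv6 F489453) F489451
theorem F490711 : act 3 n217804 = n201692 := d7_1 D217804 F421436 F376567
theorem F490712 : act 4 n217804 = n194055 := d10_1 D217804 (iv6 F487850) F487852
theorem F490713 : act 5 n217804 = n194227 := d12_1 D217804 F486783 F486777 (iv6 D187969) D187968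
theorem F490714 : act 7 n217804 = n189701 := d14_2 (iv7 F392346) D217804 (iv6 D189701) (iv7 F377448) D194196
theorem F490715 : act 0 n217804 = n188522 := d21_4 F292647 D90701 D187968 D217804 (iv6 D188522) D188521 F379788 (iv5 F379885) (iv6 F379887) (iv1 D187183)
def n217805 : Q := act 4 n187970
theorem D217805 : act 4 n187970 = n217805 := rfl
theorem F490716 : act 2 n217805 = n215673 := d1_1 D217805 F481044 F392344
theorem F490717 : act 3 n217805 = n190744 := d5_1 D217805 (iv4 F395061) (iv3 F447773) (iv4 F450431) F450429
theorem F490718 : act 5 n217805 = n216945 := d9_2 D187970 D217805 F486652 (iv5 D199267) F172340 F371965 (iv4 D187967) D187968 (iv4 F487852) (iv5 D217187) F368747 (iv5 D111210) F80910 D108527 (iv4 F371968)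
theorem F490719 : act 6 n217805 = n189697 := d10_2 F371978 D217805 (iv4 D189697)
theorem F490720 : act 7 n217805 = n211830 := d11_2 F489454 D217805 (iv4 F489452)
theorem F490721 : act 0 n217805 = n189656 := d17_0 (iv5 F377278) (iv1 F411438) F411434 F369406 D189670 (iv0 F377325) F237969 (iv0 F371976) D217805
theorem F490722 : act 1 n217805 = n215050 := d18_6 (iv1 F377639) F405122 (iv1 D197634) (iv4 F371968) D187970 D217805 (iv4 F478081) F447931 (iv5 D192801)
def n217806 : Q := act 6 n187971
theorem D217806 : act 6 n187971 = n217806 := rfl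
theorem F490723 : act 2 n217806 = n201346 := d3_1 D217806 (iv6 D201346) F371979
theorem F490724 : act 7 n217806 = n216516 := d14_2 (iv7 F387662) D217806 (iv6 D216516) (iv7 F484764) F484763
theorem F490725 : act 5 n217806 = n215662 := d21_6 F439726 F424711 F371985 (iv6 D187974) D187971 D217806 (iv1 F481012) (iv5 F459786) (iv6 D211025) F439728
def n217807 : Q := act 4 n187972
theorem D217807 : act 4 n187972 = n217807 := rfl
theorem F490726 : act 2 n217807 = n187973 := d1_1 D217807 (iv4 D187973) D187972
theorem F490727 : act 3 n217807 = n214417 := d5_1 D217807 F475091 F452605 F394222 (iv3 F371980)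
theorem F490728 : act 6 n217807 = n211046 := d10_2 F371982 D217807 (iv4 D211046)
theorem F490729 : act 5 n217807 = n214416 := d17_5 D188053 (iv5 F387672) (iv1 F387673) (iv5 F371981) D217807 (iv0 F475086) F465676 (iv0 F442643) F372187
theorem F490730 : act 1 n217807 = n193088 := d18_6 D187937 (iv4 F372862) F387268 F387265 (iv5 F371981) D217807 (iv4 D193088) (iv0 D101172) (iv5 F293005)
theorem F490731 : act 0 n217807 = n193092 := d20_1 D217807 (iv4 D193092) (iv3 F360791) (iv1 F216789) F343150 F279971 D179748 (iv4 F371868) D192751 (iv1 F387661)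
theorem F490732 : act 5 n212401 = n187973 := d2_2 F490729 (iv2 F475085) (iv2 F490726)
def n217808 : Q := act 0 n187973
theorem D217808 : act 0 n187973 = n217808 := rfl
theorem F490733 : act 4 n217808 = n193091 := d20_2 D187973 D217808 (iv3 F420138) (iv1 F420142) F178378 F83376 (iv1 F46034) (iv4 F83511) D114527 F365814
theorem F490734 : act 2 n193092 = n217808 := d1_3 F490733 F388722 D193092
theorem F490735 : act 7 n193088 = n217808 := d11_0 F490733 (iv7 D193091) D193088
def n217809 : Q := act 1 n187973
theorem D217809 : act 1 n187973 = n217809 := rfl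
theorem F490736 : act 7 n217809 = n193092 := d15_2 (iv0 D217808) D217809 F490734
theorem F490737 : act 4 n217809 = n193087 := d18_7 F372897 F372895 F338893 F154512 (iv5 F293363) D187973 D217809 F420147 F364313
theorem F490738 : act 6 n193020 = n217809 := d21_9 (iv5 F490732) (iv1 D212401) D212402 F465672 D212409 (iv6 F465688) (iv5 D184000) (iv1 F344248) D193020 (iv1 D217809)
theorem F490739 : act 2 n217809 = n193088 := d3_1 F490738 F475140 (iv2 F475141)
theorem F490740 : act 3 n193020 = n217809 := d0_0 F490739 (iv3 F490188) F490187 (iv3 F475138) (iv2 F475141)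
theorem F490741 : act 5 n193019 = n217809 := d2_0 F490739 F490186 F490184
def n217810 : Q := act 6 n187973
theorem D217810 : act 6 n187973 = n217810 := rfl
theorem F490742 : act 2 n217810 = n211046 := d3_1 D217810 (iv6 F490728) F490726
theorem F490743 : act 4 n217810 = n187974 := d10_1 D217810 (iv6 D187974) D187973
theorem F490744 : act 5 n217810 = n206693 := d12_1 D217810 F442314 (iv5 F442313) F465671 F490732
theorem F490745 : act 0 n208574 = n217810 := d21_1 F456834 F490744 F442314 (iv1 F211819) (iv6 F347264) (iv5 F233571) F233572 (iv5 D138097) D138098 D210277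
def n217811 : Q := act 0 n187974
theorem D217811 : act 0 n187974 = n217811 := rfl
theorem F490746 : act 3 n217811 = n208822 := d20_5 (iv4 F336038) (iv1 F371994) F371064 (iv3 F371984) D217811 F451006 (iv1 F407566) F407563 (iv3 F371893) (iv1 F371896)
theorem F490747 : act 5 n217811 = n202457 := d21_8 D154702 D213680 F471609 (iv6 F372084) (iv1 F387488) F387485 F371985 D217811 F454439 (iv1 D154700)
theorem F490748 : act 2 n201323 = n217811 := d15_3 (iv0 D217811) (iv0 F420522) F420521
theorem F490749 : act 7 n217811 = n211020 := d4_2 F420521 F490748 F459774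
theorem F490750 : act 1 n202465 = n217811 := d15_1 (iv0 F424115) F490749 F459774
theorem F490751 : act 6 n217811 = n208820 := d21_3 (iv5 D211022) (iv1 F424083) (iv5 F490747) F451000 F286007 (iv5 F294318) (iv1 F386299) (iv5 F401137) (iv6 F420000) (iv1 F459779)
def n217812 : Q := act 7 n187974
theorem D217812 : act 7 n187974 = n217812 := rfl
theorem F490752 : act 2 n217812 = n202465 := d4_1 D217812 F424114 (iv2 F371983)
theorem F490753 : act 3 n217812 = n187977 := d8_1 D217812 (iv7 D187977) (iv3 F371984)
theorem F490754 : act 5 n217812 = n196791 := d13_1 D217812 F401810 F371985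
theorem F490755 : act 6 n217812 = n205008 := d14_1 D217812 F489464 (iv6 D217554) F370791 D187974
theorem F490756 : act 1 n211020 = n217812 := d15_1 (iv0 F459775) (iv7 D217812) F371983
theorem F490757 : act 1 n217812 = n201323 := d15_1 F490756 (iv7 F420521) (iv2 F459774)
theorem E104039 : n211055 = n211021 := ((c21_4 (iv5 F490754) (iv1 F490756) (iv5 D211020) D211021 (iv1 D211055) (iv6 F411107) (iv5 D199192) (iv1 F401453) (iv5 F396683) (iv6 F396684) F401811)).symm
theorem F490758 : act 0 n211021 = n140587 := (sb E104039 (iv1 D211055))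
def n217813 : Q := act 3 n187984
theorem D217813 : act 3 n187984 = n217813 := rfl
theorem F490759 : act 2 n217813 = n192545 := d0_1 D217813 (iv3 F387017) F345063 D191939 F384918
theorem F490760 : act 5 n217813 = n197656 := d6_2 F372033 D217813 F405240
theorem F490761 : act 6 n217813 = n213016 := d7_2 F457267 D217813 (iv3 F468606)
theorem F490762 : act 7 n217813 = n192544 := d8_2 F470483 D217813 F470487
theorem F490763 : act 0 n217813 = n192546 := d20_4 F375232 (iv1 F241646) D187984 D217813 (iv3 F424163) (iv4 F479170) F479173 F413409 F400322 D188945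
theorem F490764 : act 0 n188975 = n217813 := d20_4 (iv4 F142835) (iv1 F142836) D92952 D188975 (iv3 D217813) (iv4 D187984) (iv1 D90712) (iv4 F68329) (iv3 D43473) D43471
def n217814 : Q := act 4 n187988
theorem D217814 : act 4 n187988 = n217814 := rfl
theorem F490765 : act 2 n217814 = n208903 := d1_1 D217814 F451334 (iv2 F439803)
theorem F490766 : act 3 n217814 = n188124 := d5_1 D217814 (iv4 D188124) F139805 (iv4 F139620) D187988
theorem F490767 : act 6 n217814 = n188313 := d10_2 (iv6 F450952) D217814 (iv4 F450950)
theorem F490768 : act 7 n217814 = n209466 := d11_2 F394083 D217814 F453798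
theorem F490769 : act 0 n217814 = n217759 := d18_2 F372041 D217814 (iv4 D217759) F420157 (iv4 F490733) (iv0 D217808) (iv4 D187973) (iv0 F365814) (iv5 F205593)
theorem F490770 : act 0 n217760 = n217814 := d20_1 D217760 (iv4 D217814) (iv3 D187988) (iv1 F139621) D90916 F331073 D116102 (iv4 F351299) D198184 (iv1 F407135)
def n217815 : Q := act 6 n187990
theorem D217815 : act 6 n187990 = n217815 := rfl
theorem F490771 : act 3 n217815 = n187991 := d7_1 D217815 (iv6 D187991) D187990
theorem F490772 : act 0 n212864 = n217815 := d21_4 F109228 (iv1 F107733) D151163 D212864 (iv6 D217815) F372043 (iv1 F370865) F241575 (iv6 D72752) D72749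
def n217816 : Q := act 5 n187991
theorem D217816 : act 5 n187991 = n217816 := rfl
theorem F490773 : act 6 n217816 = n188114 := d12_2 D187991 D217816 (iv5 D188114) (iv6 D90817) (iv5 F139623)
def n217817 : Q := act 3 n187995
theorem D217817 : act 3 n187995 = n217817 := rfl
theorem F490774 : act 0 n217817 = n216516 := d20_4 (iv4 F370807) D217558 F489485 D217817 F484767 (iv4 D216333) (iv1 F284643) D183029 (iv3 F474354) (iv1 F474358)
theorem F490775 : act 0 n201346 = n217817 := d20_4 (iv4 D201350) (iv1 D114351) (iv4 F178320) (iv3 F420091) (iv3 D217817) (iv4 F489485) (iv1 F489487) F372149 (iv3 F401158) (iv1 F420099)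
theorem F490776 : act 5 n217817 = n194149 := d17_3 F482897 F482893 F490775 (iv4 D194149) (iv5 F443829) (iv0 D189723) F292432 D158878 D214356
def n217818 : Q := act 5 n187995
theorem D217818 : act 5 n187995 = n217818 := rfl
theorem F490777 : act 2 n217818 = n215242 := d2_1 D217818 (iv5 F489468) F489472
theorem F490778 : act 3 n217818 = n194149 := d6_1 D217818 (iv5 F490776) (iv3 D217817)
theorem F490779 : act 0 n217818 = n199007 := d17_2 D187995 D217818 F410297 F383098 (iv5 F375771) (iv0 F376962) (iv5 D188001) (iv0 D90719) (iv4 F139625)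
theorem F490780 : act 4 n217818 = n214873 := d18_5 (iv1 F474358) (iv4 F370807) D217558 F489485 D217818 (iv0 F477225) F280708 F280712 D214276
theorem F490781 : act 6 n217818 = n205133 := d21_3 (iv5 D187997) D187995 D217818 (iv1 F481058) F481056 (iv5 F318836) F318833 (iv5 F343712) D199718 F413238
def n217819 : Q := act 6 n187995
theorem D217819 : act 6 n187995 = n217819 := rfl
theorem F490782 : act 2 n217819 = n211053 := d3_1 D217819 (iv6 F489469) F489472
theorem F490783 : act 4 n217819 = n217629 := d10_1 D217819 F489858 F489485
theorem F490784 : act 5 n217819 = n204350 := d12_1 D217819 (iv6 F463457) F463456 (iv6 F490781) (iv5 D217818)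
theorem F490785 : act 7 n217819 = n215613 := d14_2 F489474 D217819 F480768 (iv7 F475256) (iv6 F489476)
def n217820 : Q := act 6 n187996
theorem D217820 : act 6 n187996 = n217820 := rfl
theorem F490786 : act 2 n217820 = n214456 := d3_1 D217820 (iv6 F489476) (iv2 F489477)
theorem F490787 : act 4 n217820 = n201206 := d10_1 D217820 F489495 F489493
theorem F490788 : act 5 n190132 = n217820 := d21_2 (iv5 D190135) D190132 (iv6 D217820) (iv1 D187996) (iv6 D90718) (iv5 F139064) F293979 F362670 D187571 F388943
theorem F490789 : act 0 n197537 = n217820 := d19_0 (iv5 F490788) F487351 (iv3 F487350) (iv1 D187235) (iv5 D89836) (iv4 F136295) (iv3 D88873) (iv1 F63956) D41499 D88891 D186597 F391882 (iv5 D194051) F362228 (iv3 D116276) D116275 (iv5 F343813) F216838 (iv3 F404720)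
def n217821 : Q := act 0 n187997
theorem D217821 : act 0 n187997 = n217821 := rfl
theorem F490790 : act 4 n217821 = n194859 := d18_1 D217821 (iv1 F394775) (iv4 D170866) D170867 (iv4 F372149) F489487 F489485 (iv0 D187995) D187997
theorem F490791 : act 3 n217821 = n194856 := d20_5 (iv4 F435830) F435831 F395646 (iv3 F372051) D217821 F394764 F361132 (iv4 F268458) (iv3 F430667) (iv1 F430671)
theorem F490792 : act 2 n197784 = n217821 := d15_3 (iv0 D217821) (iv0 F413238) F436026
theorem F490793 : act 1 n197786 = n217821 := d15_0 (iv0 D217821) (iv7 F478953) F478950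
theorem F490794 : act 7 n217821 = n197785 := d15_2 F413239 F490793 (iv2 F413236)
theorem F490795 : act 6 n194854 = n217821 := d14_5 F490794 (iv6 F405787) (iv7 F343709) F395202 F395201
def n217822 : Q := act 5 n187999
theorem D217822 : act 5 n187999 = n217822 := rfl
theorem F490796 : act 3 n217822 = n188001 := d6_1 D217822 (iv5 D188001) D187999
theorem F490797 : act 7 n217822 = n212264 := d13_2 (iv7 F421121) D217822 F465032
theorem F490798 : act 4 n217822 = n212264 := d16_2 F483858 D217822 F465032 F421118 (iv5 D183025) (iv4 F136493) D186620 (iv7 F370518) (iv2 F483855)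
theorem F490799 : act 6 n217822 = n206138 := d21_3 (iv5 D217587) (iv1 F421123) D217822 F439420 F420231 (iv5 F335499) (iv1 D114898) D114901 D201631 (iv1 F489653)
def n217823 : Q := act 6 n187999
theorem D217823 : act 6 n187999 = n217823 := rfl
theorem F490800 : act 3 n217823 = n188002 := d7_1 D217823 (iv6 D188002) D187999
theorem F490801 : act 5 n217823 = n206139 := d12_1 D217823 (iv6 D206139) D206138 (iv6 F490799) (iv5 D217822)
def n217824 : Q := act 6 n188000
theorem D217824 : act 6 n188000 = n217824 := rfl
theorem F490802 : act 2 n217824 = n216075 := d3_1 D217824 (iv6 D216075) (iv2 F376979)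
theorem F490803 : act 4 n217824 = n188002 := d10_1 D217824 (iv6 D188002) D188000
theorem F490804 : act 5 n217824 = n213492 := d12_1 D217824 F470655 F404378 (iv6 F398625) F376981
theorem F490805 : act 0 n217824 = n196356 := d21_4 F406487 (iv1 F280711) F376981 D217824 (iv6 D196356) F223615 (iv1 D65918) D65920 (iv6 F341291) D170873
theorem F490806 : act 1 n217824 = n196753 := d15_1 (iv0 F490805) (iv7 F411050) F411048
def n217825 : Q := act 4 n188001
theorem D217825 : act 4 n188001 = n217825 := rfl
def n217826 : Q := act 6 n188001
theorem D217826 : act 6 n188001 = n217826 := rfl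
theorem F490807 : act 2 n217826 = n214420 := d3_1 D217826 F487588 (iv2 F487585)
theorem F490808 : act 3 n217826 = n206138 := d7_1 D217826 (iv6 F490799) F490796
theorem F490809 : act 5 n217826 = n206137 := d12_1 D217826 F439428 (iv5 F372054) (iv6 D188002) D188001
theorem F490810 : act 0 n217826 = n199712 := d21_4 F68332 D90719 D188001 D217826 (iv6 F413217) F374288 F206230 D115023 (iv6 F371577) (iv1 D92932)
theorem F490811 : act 0 n199710 = n217826 := d21_4 (iv5 F68290) F83494 D114479 (iv6 F413211) (iv6 D217826) (iv5 D188001) (iv1 F370676) (iv5 F371574) (iv6 D187809) (iv1 F139467)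
def n217827 : Q := act 4 n188006
theorem D217827 : act 4 n188006 = n217827 := rfl
theorem F490812 : act 6 n217827 = n199610 := d10_2 F375051 D217827 F412841
def n217828 : Q := act 6 n188011
theorem D217828 : act 6 n188011 = n217828 := rfl
theorem F490813 : act 2 n217828 = n194341 := d3_1 D217828 (iv6 D194341) F372088
theorem F490814 : act 3 n217828 = n193479 := d7_1 D217828 (iv6 F453887) F453891
theorem F490815 : act 4 n217828 = n213716 := d10_1 D217828 (iv6 D213716) (iv4 F372089)
theorem F490816 : act 5 n217828 = n217438 := d12_1 D217828 (iv6 D217438) (iv5 D187315) D187316 (iv5 F372086)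
theorem F490817 : act 0 n206337 = n217828 := d21_4 (iv5 F402652) F402653 (iv5 F402608) (iv6 F440317) (iv6 D217828) F372086 (iv1 F376053) (iv5 F390819) (iv6 F402530) (iv1 F402529)
def n217829 : Q := act 0 n188013
theorem D217829 : act 0 n188013 = n217829 := rfl
theorem F490818 : act 4 n217829 = n188871 := d18_3 (iv1 D188012) D188013 D217829 F375095 (iv4 F251143) (iv0 D94405) (iv4 F138090) D187362 F372096
theorem F490819 : act 3 n217829 = n198055 := d20_5 D154768 (iv1 F372111) F386918 (iv3 F386917) D217829 (iv4 F428249) (iv1 F428251) (iv4 F465885) F465884 (iv1 F231737)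
theorem F490820 : act 6 n217829 = n198053 := d21_5 (iv5 F221903) (iv1 F450281) F450279 F372101 D217829 (iv5 D198053) F406041 (iv5 F473387) (iv6 D214080) (iv1 D156311)
theorem F490821 : act 2 n194343 = n217829 := d15_3 (iv0 D217829) (iv0 F375089) (iv7 F392886)
theorem F490822 : act 1 n194338 = n217829 := d15_0 (iv0 D217829) F372100 (iv2 F392870)
theorem F490823 : act 7 n217829 = n194342 := d15_2 (iv0 F392872) F490822 (iv2 F392884)
theorem F490824 : act 5 n199720 = n217829 := d21_0 (iv1 F490822) F412358 (iv6 D199476) (iv1 D111348) D111350 F172793 D197817 (iv5 F432902) (iv6 F432903) F421796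
def n217830 : Q := act 5 n188013
theorem D217830 : act 5 n188013 = n217830 := rfl
theorem F490825 : act 2 n217830 = n208641 := d2_1 D217830 (iv5 D208641) (iv2 F372099)
theorem F490826 : act 3 n217830 = n188657 := d6_1 D217830 F386923 (iv3 F386917)
theorem F490827 : act 7 n217830 = n194344 := d13_2 (iv7 F372100) D217830 (iv5 D194344)
theorem F490828 : act 1 n217830 = n210437 := d17_6 F369978 (iv5 D103668) (iv1 F177357) D90725 D188013 D217830 F457530 (iv0 F372076) F367026
theorem F490829 : act 6 n217830 = n216044 := d21_9 F412324 F451016 (iv5 F453369) (iv6 F453373) F403283 F424146 F424143 F375089 D217830 (iv1 F482645)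
def n217831 : Q := act 5 n188021
theorem D217831 : act 5 n188021 = n217831 := rfl
theorem F490830 : act 2 n217831 = n216368 := d2_1 D217831 (iv5 F489486) F489489
theorem F490831 : act 3 n217831 = n207366 := d6_1 D217831 (iv5 F451806) F451805
theorem F490832 : act 6 n217831 = n199443 := d12_2 (iv6 F451799) D217831 (iv5 F412228) F374734 (iv5 F451796)
theorem F490833 : act 4 n217831 = n199444 := d18_5 (iv1 D187558) (iv4 F370798) D217555 F489466 D217831 (iv0 F487580) F487578 D217134 (iv5 F487590)
theorem F490834 : act 0 n217593 = n217831 := d19_0 (iv5 D217831) (iv4 F489466) F489467 (iv1 D194668) F332729 F132332 (iv3 D75163) (iv1 F56943) (iv5 F70086) (iv4 D44568) (iv3 F70081) (iv1 F328977) (iv5 F333869) F134134 D183001 F284598 D191886 F384667 D217593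
def n217832 : Q := act 5 n188022
theorem D217832 : act 5 n188022 = n217832 := rfl
theorem F490835 : act 3 n217832 = n206205 := d6_1 D217832 F439708 (iv3 F372147)
theorem F490836 : act 6 n217832 = n206203 := d12_2 F372146 D217832 F439697 (iv6 D159473) D159472
theorem F490837 : act 7 n217832 = n216368 := d13_2 F489490 D217832 (iv5 F489486)
theorem F490838 : act 0 n217832 = n217593 := d17_2 (iv1 F372145) D217832 F489683 (iv4 F465254) F406487 (iv0 D157888) D157891 (iv0 F469083) F469079
def n217833 : Q := act 6 n188026
theorem D217833 : act 6 n188026 = n217833 := rfl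
theorem F490839 : act 2 n217833 = n216792 := d3_1 D217833 F485936 (iv2 F421657)
theorem F490840 : act 4 n217833 = n188027 := d10_1 D217833 (iv6 D188027) D188026
theorem F490841 : act 7 n217833 = n201344 := d14_2 F374522 D217833 (iv6 D201344) F178314 (iv6 F374521)
theorem F490842 : act 0 n201636 = n217833 := d21_4 F398433 (iv1 F419202) F419200 D201636 (iv6 D217833) (iv5 F388567) F388565 (iv5 D188879) (iv6 F178994) (iv1 F398435)
def n217834 : Q := act 5 n188028
theorem D217834 : act 5 n188028 = n217834 := rfl
theorem F490843 : act 2 n217834 = n188038 := d2_1 D217834 (iv5 D188038) (iv2 F372173)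
theorem F490844 : act 3 n217834 = n212395 := d6_1 D217834 F465654 (iv3 F419299)
theorem F490845 : act 4 n217834 = n194344 := d9_1 D217834 (iv5 D194344) (iv4 D103237) (iv5 D47841) (iv4 F65227) D90343 D187569 D217568 F489541 (iv5 D208641) F372082 (iv5 D188010) F139634 D90747 D188028
theorem F490846 : act 6 n217834 = n212394 := d12_2 (iv6 F445792) D217834 (iv5 D212394) (iv6 F363919) (iv5 F445786)
theorem F490847 : act 1 n217834 = n213740 := d17_6 F178363 (iv5 D92688) (iv1 F176024) D90747 D188028 D217834 F471868 (iv0 F377597) (iv4 D189744)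
def n217835 : Q := act 4 n188032
theorem D217835 : act 4 n188032 = n217835 := rfl
theorem F490848 : act 2 n217835 = n216346 := d1_1 D217835 F483947 F375313
theorem F490849 : act 7 n217835 = n216345 := d11_2 F489530 D217835 (iv4 F489532)
theorem F490850 : act 5 n217835 = n213657 := d16_1 D217835 (iv4 F485604) F485605 (iv4 F489532) F489528 F373879 (iv5 F439692) F439695 F375313
theorem F490851 : act 0 n217835 = n188620 := d17_0 F374218 (iv1 D183909) (iv5 F295234) (iv4 F373578) F373579 (iv0 D187502) D187503 F374209 D217835
theorem F490852 : act 1 n217835 = n188623 := d18_6 D187491 D217529 F489332 (iv4 F377593) F377594 D217835 (iv4 D188623) (iv0 F364371) F139542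
def n217836 : Q := act 5 n188035
theorem D217836 : act 5 n188035 = n217836 := rfl
theorem F490853 : act 3 n217836 = n201796 := d6_1 D217836 F421817 F388356
theorem F490854 : act 6 n217836 = n212112 := d12_2 (iv6 F465658) D217836 F464364 (iv6 F418505) D212396
theorem F490855 : act 7 n217836 = n213717 := d13_2 F375103 D217836 F471772
theorem F490856 : act 4 n217836 = n188880 := d16_2 (iv4 F374251) D217836 F375125 (iv4 F372097) (iv5 F372096) (iv4 F375193) (iv5 F375194) F374256 F374253
def n217837 : Q := act 5 n188036
theorem D217837 : act 5 n188036 = n217837 := rfl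
theorem F490857 : act 2 n217837 = n213717 := d2_1 D217837 F471772 F375101
theorem F490858 : act 3 n217837 = n206932 := d6_1 D217837 (iv5 F465676) F465675
theorem F490859 : act 4 n217837 = n188881 := d9_1 D217837 F375128 (iv4 F372089) F372086 F369815 (iv5 F374248) (iv4 F374251) D217836 F490856 F375125 (iv4 F372097) (iv5 F372096) (iv4 F375193) (iv5 F375194) F374259
theorem F490860 : act 6 n217837 = n206931 := d12_2 F421812 D217837 (iv5 D206931) (iv6 F441858) F441857
def n217838 : Q := act 5 n188037
theorem D217838 : act 5 n188037 = n217838 := rfl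
theorem F490861 : act 3 n217838 = n188038 := d6_1 D217838 (iv5 D188038) D188037
theorem F490862 : act 0 n193019 = n217838 := d19_0 (iv5 D217838) F372187 (iv3 D90762) (iv1 F139544) F362674 (iv4 D96155) F293867 (iv1 F293361) (iv5 D19339) (iv4 F17183) (iv3 F32366) F65640 D23035 (iv4 F292149) (iv3 F137141) F338298 (iv5 D101106) D101105 D193019
def n217839 : Q := act 6 n188037
theorem D217839 : act 6 n188037 = n217839 := rfl
theorem F490863 : act 3 n217839 = n188039 := d7_1 D217839 (iv6 D188039) D188037
theorem F490864 : act 4 n217839 = n188055 := d10_1 D217839 (iv6 D188055) (iv4 F372187)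
theorem F490865 : act 5 n205769 = n217839 := d6_0 F490863 (iv5 F372198) (iv3 F437800)
def n217840 : Q := act 0 n188038
theorem D217840 : act 0 n188038 = n217840 := rfl
theorem F490866 : act 5 n217840 = n193026 := d17_3 (iv1 D188036) D188038 D217840 F388546 F251921 (iv0 F177347) D92593 D188631 F374259
theorem F490867 : act 4 n217840 = n206251 := d18_1 D217840 F439933 F375021 (iv5 F250877) F360964 F374250 (iv4 F374251) (iv0 D188035) D188038
theorem F490868 : act 7 n213740 = n217840 := d11_0 F490867 F439932 D213740
theorem F490869 : act 3 n193027 = n217840 := d20_5 (iv4 D76519) F55319 D53103 D115083 (iv1 F388549) F490867 F439933 F375021 (iv3 D159338) (iv1 F114685)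
def n217841 : Q := act 4 n188040
theorem D217841 : act 4 n188040 = n217841 := rfl
theorem F490870 : act 2 n217841 = n207706 := d1_1 D217841 F446090 F379597
theorem F490871 : act 5 n217841 = n207880 := d9_2 (iv5 F372189) D217841 F446857 (iv5 D135582) D135581 (iv5 F382367) F382366 (iv5 F372192) (iv4 F442571) F442572 (iv4 F213197) (iv5 F213200) (iv4 F211528) (iv5 F382359) F382358
theorem F490872 : act 6 n217841 = n201772 := d10_2 F398545 D217841 F421753
theorem F490873 : act 0 n217841 = n201728 := d17_0 (iv5 F421583) (iv1 F418816) F421663 F421661 (iv5 F398988) (iv0 F398989) (iv5 F398413) (iv0 F398416) D217841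
theorem F490874 : act 1 n217841 = n201771 := d18_6 (iv1 F164393) (iv4 F211657) (iv1 F382363) F382358 (iv5 F372189) D217841 F421750 F421227 (iv5 D196132)
theorem F490875 : act 3 n217841 = n208406 := d20_3 F372188 D188040 D217841 F449220 (iv3 F450667) (iv4 D208742) (iv1 F450594) F450592 (iv3 F445781) F445784
def n217842 : Q := act 6 n188046
theorem D217842 : act 6 n188046 = n217842 := rfl
theorem F490876 : act 3 n217842 = n213122 := d7_1 D217842 F469096 (iv3 F428414)
theorem F490877 : act 5 n217842 = n201304 := d12_1 D217842 (iv6 F482057) F482054 (iv6 F419344) (iv5 F387476)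
theorem F490878 : act 0 n217842 = n188067 := d21_4 (iv5 D146552) D146549 (iv5 F387476) D217842 (iv6 D188067) D188066 (iv1 F399069) (iv5 F475133) F475134 (iv1 F421928)
theorem F490879 : act 0 n212311 = n217842 := d21_4 (iv5 D94418) D94416 D189748 (iv6 F468088) (iv6 D217842) F387476 (iv1 F252113) (iv5 F346146) (iv6 F387475) (iv1 D189755)
def n217843 : Q := act 1 n188050
theorem D217843 : act 1 n188050 = n217843 := rfl
theorem F490880 : act 1 n217843 = n199185 := d15_1 D217843 F411069 (iv2 F372223)
theorem F490881 : act 7 n217843 = n196832 := d15_2 (iv0 F372226) D217843 F401957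
theorem F490882 : act 5 n217843 = n196833 := d17_7 (iv1 F344757) F344754 F346541 (iv5 F346540) (iv4 F473877) F473878 D217843 F401964 F331928
theorem F490883 : act 4 n217843 = n192783 := d18_7 (iv1 F374917) (iv4 F470696) (iv1 F470698) F369222 F143019 (iv4 F372225) D217843 F387748 F374918
theorem F490884 : act 6 n217721 = n217843 := d21_3 D217801 F490700 (iv5 F490314) (iv1 D217843) (iv6 D188050) F291457 (iv1 F294245) (iv5 D90699) D90700 D187961
theorem F490885 : act 2 n198122 = n217843 := d1_3 F490883 (iv2 F387751) F406939
def n217844 : Q := act 7 n188050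
theorem D217844 : act 7 n188050 = n217844 := rfl
theorem F490886 : act 2 n217844 = n199185 := d4_1 D217844 F411069 (iv2 F372223)
theorem F490887 : act 3 n217844 = n192721 := d8_1 D217844 (iv7 D192721) (iv3 F372224)
theorem F490888 : act 4 n217844 = n188052 := d11_1 D217844 (iv7 D188052) (iv4 F372225)
theorem F490889 : act 6 n217844 = n198089 := d14_1 D217844 F406746 (iv6 D187880) (iv7 F139687) D188050
theorem F490890 : act 1 n198122 = n217844 := d15_1 F406940 (iv7 D217844) F372223
theorem F490891 : act 1 n217844 = n196832 := d15_1 F490890 (iv7 F490881) (iv2 F490885)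
def n217845 : Q := act 6 n188054
theorem D217845 : act 6 n188054 = n217845 := rfl
theorem F490892 : act 2 n217845 = n188055 := d3_1 D217845 (iv6 D188055) D188054
theorem F490893 : act 3 n217845 = n204409 := d7_1 D217845 (iv6 F470352) F470351
theorem F490894 : act 5 n217845 = n208596 := d12_1 D217845 F450065 (iv5 F451328) (iv6 F451332) (iv5 F439804)
theorem F490895 : act 7 n208762 = n217845 := d13_0 F490894 F450066 D208762
def n217846 : Q := act 1 n188055
theorem D217846 : act 1 n188055 = n217846 := rfl
theorem F490896 : act 1 n217846 = n208762 := d15_1 D217846 F490895 F490892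
theorem F490897 : act 4 n217846 = n207646 := d18_7 D132177 (iv4 F437799) (iv1 D205768) D205769 F490865 F490864 D217846 (iv0 D207646) (iv5 D132180)
theorem F490898 : act 3 n212876 = n217846 := d5_5 F490897 F475030 F475027 F399623 (iv4 F467909)
theorem F490899 : act 5 n208708 = n217846 := d9_0 F490897 F445827 (iv4 F437780) (iv5 D205765) D205764 (iv5 F437776) F450521 (iv5 F450954) F450953 F445833 (iv4 F437744) (iv5 F437747) D205762 (iv5 F467050) (iv4 F467052)
def n217847 : Q := act 5 n188055
theorem D217847 : act 5 n188055 = n217847 := rfl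
theorem F490900 : act 2 n217847 = n208596 := d2_1 D217847 (iv5 F490894) F490892
theorem F490901 : act 3 n217847 = n188057 := d6_1 D217847 (iv5 D188057) (iv3 F372229)
theorem F490902 : act 6 n217847 = n215989 := d12_2 D188055 D217847 F482449 (iv6 F450952) F372040
theorem F490903 : act 4 n217847 = n208595 := d16_4 D205769 F490865 F490864 D217847 (iv5 D208595) F216854 D205657 F437360 (iv2 F364737)
theorem F490904 : act 7 n217847 = n208755 := d16_8 (iv4 D135037) (iv5 D63465) (iv4 F93713) D126586 D205769 F490865 F490864 D217847 F450724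
theorem F490905 : act 1 n208761 = n217847 := d15_1 D208761 F490904 F450724
theorem F490906 : act 1 n217847 = n208760 := d15_0 (iv0 D208760) (iv7 F450066) (iv2 F490900)
theorem F490907 : act 6 n213703 = n208760 := d21_3 F241642 F459745 (iv5 F471703) (iv1 F490906) F490902 F482449 (iv1 D208803) (iv5 F384506) (iv6 F470480) (iv1 D213456)
theorem F490908 : act 3 n208760 = n209356 := d7_1 F490907 (iv6 F459748) F471705
def n217848 : Q := act 7 n188055
theorem D217848 : act 7 n188055 = n217848 := rfl
theorem F490909 : act 2 n217848 = n208762 := d4_1 D217848 F490895 F490892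
theorem F490910 : act 3 n217848 = n188058 := d8_1 D217848 (iv7 D188058) (iv3 F372229)
theorem F490911 : act 5 n217848 = n208755 := d13_1 D217848 (iv7 F490904) (iv5 D217847)
def n217849 : Q := act 1 n188057
theorem D217849 : act 1 n188057 = n217849 := rfl
theorem F490912 : act 1 n217849 = n204221 := d15_1 D217849 (iv7 F489509) F489506
theorem F490913 : act 7 n217849 = n204223 := d15_2 (iv0 F468085) D217849 (iv2 D204223)
theorem F490914 : act 5 n217849 = n203774 := d17_7 (iv1 F475125) (iv5 F475127) (iv1 D188069) (iv5 D90766) (iv4 F139690) D188057 D217849 F482533 F482534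
theorem F490915 : act 4 n217849 = n195998 := d17_9 F399014 F376272 (iv1 D189269) (iv5 F374510) F374509 F371774 (iv0 F371775) D188057 D217849
theorem F490916 : act 6 n196000 = n217849 := d21_3 (iv5 F110057) D154685 (iv5 F399018) (iv1 D217849) (iv6 F376995) F376994 (iv1 F413548) (iv5 D199798) F409310 (iv1 D92826)
theorem F490917 : act 2 n217849 = n203775 := d3_1 F490916 F429764 (iv2 F399016)
theorem F490918 : act 3 n217849 = n204571 := d7_1 F490916 F467940 F467938
def n217850 : Q := act 7 n188057
theorem D217850 : act 7 n188057 = n217850 := rfl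
theorem F490919 : act 2 n217850 = n204221 := d4_1 D217850 (iv7 F489509) F489506
theorem F490920 : act 3 n217850 = n208755 := d8_1 D217850 (iv7 F490904) F490901
theorem F490921 : act 4 n217850 = n189379 := d11_1 D217850 F376952 (iv4 F376996)
theorem F490922 : act 5 n217850 = n188058 := d13_1 D217850 (iv7 D188058) D188057
theorem F490923 : act 1 n203775 = n217850 := d15_1 F489512 (iv7 D217850) (iv2 F489506)
theorem F490924 : act 1 n217850 = n204223 := d15_1 F490923 (iv7 F490913) F490917
def n217851 : Q := act 2 n188060
theorem D217851 : act 2 n188060 = n217851 := rfl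
theorem F490925 : act 4 n217851 = n201768 := d1_2 F468237 D217851 (iv2 F468241)
theorem F490926 : act 5 n217851 = n208209 := d2_2 F444701 D217851 F448373
theorem F490927 : act 7 n217851 = n212310 := d4_2 F489519 D217851 (iv2 F489522)
theorem F490928 : act 1 n217851 = n212849 := d15_0 (iv0 F489520) F489519 D217851
def n217852 : Q := act 3 n188061
theorem D217852 : act 3 n188061 = n217852 := rfl
theorem F490929 : act 2 n217852 = n212878 := d0_1 D217852 F467917 (iv2 F390615) F387415 (iv2 F376853)
theorem F490930 : act 4 n217852 = n195982 := d5_2 D188061 D217852 F468239 F468237 (iv3 D188060)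
theorem F490931 : act 5 n217852 = n188922 := d6_2 (iv5 F376854) D217852 F375209
theorem F490932 : act 7 n217852 = n212880 := d8_2 (iv7 F376855) D217852 F467930
theorem F490933 : act 0 n217852 = n212886 := d20_4 F139690 D90764 D188061 D217852 F467961 F432439 (iv1 F432916) (iv4 F490519) (iv3 D217767) F413457
theorem F490934 : act 0 n196150 = n217852 := d20_4 (iv4 D123761) (iv1 F198160) (iv4 F432268) F432267 (iv3 D217852) (iv4 D188061) (iv1 F370828) (iv4 F470673) (iv3 D213496) F366780
def n217853 : Q := act 4 n188062
theorem D217853 : act 4 n188062 = n217853 := rfl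
theorem F490935 : act 7 n217853 = n189374 := d11_2 (iv7 F376845) D217853 (iv4 F376849)
theorem F490936 : act 5 n217853 = n189375 := d16_5 (iv4 F143282) (iv5 F376854) (iv4 D188061) D188062 D217853 F376484 (iv5 F374317) (iv7 D188654) F142667
theorem F490937 : act 0 n217853 = n189307 := d20_1 D217853 F376387 (iv3 F165934) (iv1 F398892) (iv3 D195966) D195967 (iv1 F398899) F211255 (iv3 F399067) (iv1 F399068)
def n217854 : Q := act 2 n188064
theorem D217854 : act 2 n188064 = n217854 := rfl
theorem F490938 : act 3 n217854 = n212310 := d0_2 D188064 D217854 (iv2 F489522) (iv3 D217564) F376843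
theorem F490939 : act 5 n217854 = n211500 := d2_2 F432924 D217854 F461835
theorem F490940 : act 6 n212308 = n217854 := d12_0 F490939 F461837 (iv5 F468882) (iv6 F489680) F489679
def n217855 : Q := act 6 n188064
theorem D217855 : act 6 n188064 = n217855 := rfl
theorem F490941 : act 2 n217855 = n212308 := d3_1 D217855 F490940 (iv2 D217854)
theorem F490942 : act 3 n217855 = n188067 := d7_1 D217855 (iv6 D188067) D188064
theorem F490943 : act 0 n217855 = n207366 := d21_4 (iv5 F175880) D200284 F432924 D217855 (iv6 D207366) (iv5 D130947) (iv1 F99200) (iv5 F218234) F354440 (iv1 D152578)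
theorem F490944 : act 1 n217855 = n216370 := d15_1 (iv0 F490943) F484045 F452193
def n217856 : Q := act 5 n188065
theorem D217856 : act 5 n188065 = n217856 := rfl
theorem F490945 : act 2 n217856 = n188927 := d2_1 D217856 F375383 (iv2 F376857)
theorem F490946 : act 3 n217856 = n204520 := d6_1 D217856 F432793 (iv3 F390621)
theorem F490947 : act 6 n217856 = n188902 := d12_2 F431915 D217856 F412457 F412455 F431914
theorem F490948 : act 7 n217856 = n188651 := d13_2 F376856 D217856 (iv5 F375380)
theorem F490949 : act 4 n217856 = n188654 := d16_2 D188065 D217856 F374317 (iv4 F376484) (iv5 F490936) (iv4 D217853) (iv5 D188062) (iv7 F376844) F376843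
theorem F490950 : act 0 n217856 = n188925 := d17_2 (iv1 F387429) D217856 (iv5 F450245) F450244 (iv5 F392389) F392392 F376388 F370686 (iv4 F371764)
theorem F490951 : act 1 n217856 = n188924 := d17_8 (iv1 F413486) F413483 (iv1 F376276) D189546 (iv4 F489386) (iv5 D217539) F387428 D217856 (iv4 F413488)
def n217857 : Q := act 4 n188066
theorem D217857 : act 4 n188066 = n217857 := rfl
theorem F490952 : act 2 n217857 = n189374 := d1_1 D217857 (iv4 F376849) F376842
theorem F490953 : act 3 n217857 = n214975 := d5_1 D217857 (iv4 D214975) (iv3 F461767) F461764 (iv3 F432925)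
theorem F490954 : act 5 n217857 = n188940 := d9_2 D188066 D217857 (iv4 D188940) (iv5 D92914) (iv4 F143282) (iv5 F376854) (iv4 D188061) D188062 D217853 F490936 F376484 (iv5 F374317) (iv4 F490949) (iv5 D217856) (iv4 D188065)
theorem F490955 : act 6 n217857 = n189372 := d10_2 F376269 D217857 F376927
theorem F490956 : act 1 n217857 = n189307 := d18_6 (iv1 F370690) (iv4 F371764) (iv1 F387429) (iv4 D188065) D188066 D217857 F376387 D189309 (iv5 F376390)
def n217858 : Q := act 0 n188067
theorem D217858 : act 0 n188067 = n217858 := rfl
theorem F490957 : act 5 n217858 = n201305 := d17_1 D217858 (iv1 D201305) (iv5 F372150) F372149 (iv5 D170867) (iv0 D81913) D81916 D170874 (iv4 F431916)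
theorem F490958 : act 1 n212311 = n217858 := d15_0 (iv0 D217858) (iv7 F486676) F486673
theorem F490959 : act 6 n207359 = n217858 := d21_3 (iv5 D130940) D130938 D207359 (iv1 F490958) F468088 (iv5 D189748) F291639 (iv5 F154821) D192805 (iv1 F387841)
theorem F490960 : act 3 n217858 = n201351 := d7_1 F490959 F420100 (iv3 F444514)
def n217859 : Q := act 5 n188067
theorem D217859 : act 5 n188067 = n217859 := rfl
theorem F490961 : act 7 n217859 = n189007 := d13_2 F486676 D217859 (iv5 F486675)
theorem F490962 : act 1 n217859 = n217831 := d17_6 (iv1 F376982) (iv5 F376981) (iv1 F280713) F431914 (iv4 F431916) D217859 (iv5 D217831) (iv0 D188021) (iv4 F372139)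
theorem F490963 : act 0 n217859 = n217832 := d21_1 D217859 (iv5 D217832) (iv6 F372146) (iv1 F465237) (iv6 D212303) (iv5 D146552) D146549 (iv5 F387476) D217842 F490878
theorem F490964 : act 4 n217859 = n199667 := d20_2 (iv4 F490833) (iv1 F490962) (iv3 D199667) (iv1 D111579) (iv3 F173112) (iv4 F368143) (iv1 D186824) D186825 D217131 F487580
theorem F490965 : act 0 n199667 = n217827 := d18_2 (iv1 F490962) F490964 (iv4 D217827) (iv5 D188006) (iv4 F376971) (iv0 F469083) F469079 F372152 D217831
theorem F490966 : act 1 n199667 = n217825 := d18_6 (iv1 F479094) (iv4 F474282) F474283 (iv4 F431916) D217859 F490964 (iv4 D217825) (iv0 F375075) (iv5 F479091)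
def n217860 : Q := act 3 n188070
theorem D217860 : act 3 n188070 = n217860 := rfl
theorem F490967 : act 2 n217860 = n189325 := d0_1 D217860 (iv3 D189325) F376179 (iv3 F376182) (iv2 F372233)
theorem F490968 : act 4 n217860 = n196065 := d5_2 D188070 D217860 F399269 F372199 F372195
theorem F490969 : act 6 n217860 = n188072 := d7_2 (iv6 F372234) D217860 (iv3 D188072)
theorem F490970 : act 0 n217860 = n207537 := d20_4 (iv4 F387427) (iv1 D188069) D188070 D217860 F445342 (iv4 D196024) F357305 D201193 (iv3 F490567) (iv1 F490571)
theorem F490971 : act 0 n207536 = n217860 := d20_4 F376927 (iv1 F376275) (iv4 F376827) (iv3 F445339) (iv3 D217860) (iv4 D188070) D188068 (iv4 F376913) F376483 D189372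
theorem F490972 : act 7 n217860 = n207530 := d15_2 D207537 (iv0 F490970) F445319
def n217861 : Q := act 5 n188070
theorem D217861 : act 5 n188070 = n217861 := rfl
theorem F490973 : act 2 n217861 = n189378 := d2_1 D217861 F376924 (iv2 F372233)
theorem F490974 : act 6 n217861 = n217769 := d12_2 (iv6 F372234) D217861 F490526 (iv6 D189267) F144630
theorem F490975 : act 4 n217861 = n188938 := d16_2 D188070 D217861 F375217 (iv4 F431542) (iv5 F470674) F470673 (iv5 F376918) (iv7 D189570) F144911
theorem F490976 : act 0 n217861 = n189537 := d17_2 F490549 D217861 (iv5 F490517) (iv4 D217766) (iv5 D187895) (iv0 D90640) D90642 D187902 D217773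
theorem F490977 : act 0 n189267 = n217861 := d21_10 (iv5 D217861) (iv1 F490543) (iv5 F490544) (iv6 D195996) F163769 F144573 (iv5 F69048) (iv1 F139699) (iv5 F144630) D189267
theorem F490978 : act 7 n189382 = n217861 := d11_0 F490975 F376946 D189382
def n217862 : Q := act 7 n188070
theorem D217862 : act 7 n188070 = n217862 := rfl
theorem F490979 : act 2 n217862 = n189328 := d4_1 D217862 F376407 (iv2 F372233)
theorem F490980 : act 3 n217862 = n207530 := d8_1 D217862 (iv7 F490972) (iv3 D217860)
theorem F490981 : act 4 n217862 = n188071 := d11_1 D217862 (iv7 D188071) D188070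
theorem F490982 : act 5 n217862 = n189382 := d13_1 D217862 F490978 (iv5 D217861)
theorem F490983 : act 6 n217862 = n189452 := d14_1 D217862 (iv7 D189452) (iv6 D93973) (iv7 F139697) (iv6 F372234)
theorem F490984 : act 1 n189442 = n217862 := d15_1 (iv0 F376614) (iv7 D217862) F372233
theorem F490985 : act 1 n217862 = n189438 := d15_1 F490984 (iv7 F490548) F490545
def n217863 : Q := act 0 n188072
theorem D217863 : act 0 n188072 = n217863 := rfl
theorem F490986 : act 4 n217863 = n196234 := d18_3 (iv1 F417986) F417992 D217863 F416744 F416742 D200497 (iv4 F416745) F327272 (iv5 F257751)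
theorem F490987 : act 1 n189446 = n217863 := d15_0 (iv0 D217863) F372238 D189446
theorem F490988 : act 7 n189444 = n217863 := d11_0 F490986 (iv7 F400111) F400109
theorem F490989 : act 6 n217863 = n207536 := d14_1 F490988 (iv7 F445340) (iv6 D189533) (iv7 F376290) F376616
def n217864 : Q := act 1 n188072
theorem D217864 : act 1 n188072 = n217864 := rfl
def n217865 : Q := act 2 n188072
theorem D217865 : act 2 n188072 = n217865 := rfl
theorem F490990 : act 3 n217865 = n189327 := d0_2 D188072 D217865 F376405 (iv3 D93974) (iv2 F139696)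
theorem F490991 : act 4 n217865 = n191211 := d1_2 F417992 D217865 (iv2 F417990)
theorem F490992 : act 6 n217865 = n189325 := d3_2 F490969 D217865 (iv2 F490967)
theorem F490993 : act 7 n217865 = n189446 := d4_2 (iv7 F372238) D217865 (iv2 D189446)
theorem F490994 : act 1 n217865 = n189444 := d15_0 (iv0 D189444) (iv7 F372238) D217865
theorem F490995 : act 1 n217864 = n189446 := d15_1 D217864 (iv7 F490993) (iv2 D217865)
theorem F490996 : act 2 n189444 = n217864 := d15_3 F490995 F490987 (iv7 F490988)
theorem F490997 : act 7 n189445 = n217864 := d15_2 (iv0 D189444) D189445 (iv2 F490996)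
theorem F490998 : act 2 n217863 = n189445 := d4_3 F490997 (iv2 F490996) F490988
theorem F490999 : act 1 n189445 = n217865 := d15_0 F490994 F490988 F490998
theorem F491000 : act 5 n189454 = n189445 := d17_7 (iv1 D191211) F294896 D166583 F376771 F376769 F144858 D189454 F490999 F490991
def n217866 : Q := act 4 n188078
theorem D217866 : act 4 n188078 = n217866 := rfl
theorem F491001 : act 2 n217866 = n217782 := d1_1 D217866 (iv4 F490601) F457905
theorem F491002 : act 3 n217866 = n188116 := d5_1 D217866 (iv4 D188116) (iv3 F251151) (iv4 F469067) F469066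
theorem F491003 : act 6 n217866 = n196347 := d10_2 (iv6 F372263) D217866 F400428
theorem F491004 : act 7 n217866 = n217783 := d11_2 F469042 D217866 F490604
theorem F491005 : act 0 n217866 = n217785 := d18_2 D188078 D217866 F490613 (iv5 F486287) F486286 F488006 F488418 (iv0 D216871) (iv5 F293927)
theorem F491006 : act 0 n192698 = n217866 := d20_1 (iv4 F387518) (iv4 D217866) (iv3 F469066) (iv1 F469069) (iv3 F454175) F468211 F468212 (iv4 F475615) F475618 (iv1 D194681)
def n217867 : Q := act 5 n188078
theorem D217867 : act 5 n188078 = n217867 := rfl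
def n217868 : Q := act 4 n188079
theorem D217868 : act 4 n188079 = n217868 := rfl
theorem F491007 : act 2 n217868 = n217783 := d1_1 D217868 F490604 F469040
theorem F491008 : act 3 n217868 = n196927 := d5_1 D217868 F402327 F418957 (iv4 F454266) F454269
theorem F491009 : act 6 n217868 = n196926 := d10_2 (iv6 F469033) D217868 (iv4 F469028)
theorem F491010 : act 7 n217868 = n217782 := d11_2 (iv7 F457907) D217868 (iv4 F490601)
theorem F491011 : act 0 n217868 = n192698 := d18_2 (iv1 F488432) D217868 F387518 F159460 (iv4 F368843) D217221 F488000 F387446 (iv5 F488430)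
theorem F491012 : act 0 n211204 = n209202 := d20_7 D217868 F491011 F387518 F344187 (iv1 F446130) F446133 (iv4 F460598) (iv4 F460547) (iv3 F488429) (iv1 F488432)
theorem F491013 : act 0 n217785 = n217868 := d20_1 (iv4 F490613) (iv4 D217868) (iv3 F454269) (iv1 F454267) F387508 (iv4 F373402) F373404 F373367 (iv3 F394073) (iv1 F394071)
def n217869 : Q := act 5 n188079
theorem D217869 : act 5 n188079 = n217869 := rfl
theorem F491014 : act 3 n217869 = n209411 := d6_1 D217869 F454268 F454269
theorem F491015 : act 6 n217869 = n191457 := d12_2 (iv6 F469033) D217869 (iv5 F485524) (iv6 F485527) F469032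
def n217870 : Q := act 4 n188081
theorem D217870 : act 4 n188081 = n217870 := rfl
theorem F491016 : act 2 n217870 = n192391 := d1_1 D217870 (iv4 D192391) (iv2 F372265)
theorem F491017 : act 3 n217870 = n194447 := d5_1 D217870 (iv4 D194447) (iv3 F368781) F368782 (iv3 F372266)
theorem F491018 : act 6 n217870 = n202006 := d10_2 F457835 D217870 (iv4 F457831)
theorem F491019 : act 7 n217870 = n192236 := d11_2 (iv7 F372267) D217870 (iv4 D192236)
theorem F491020 : act 5 n217870 = n216770 := d16_1 D217870 F485867 (iv5 F361006) F361005 F178745 F143074 D187708 F371255 (iv2 F372265)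
theorem F491021 : act 0 n217870 = n193124 := d18_2 (iv1 F372269) D217870 (iv4 D193124) (iv5 F375586) (iv4 F376137) (iv0 F387026) (iv4 D192547) F375484 F375480
theorem F491022 : act 1 n217870 = n193123 := d18_6 D47130 D101196 (iv1 F235268) F235265 D188081 D217870 (iv4 D193123) (iv0 D101202) (iv5 D47132)
def n217871 : Q := act 6 n188082
theorem D217871 : act 6 n188082 = n217871 := rfl
theorem F491023 : act 2 n217871 = n188086 := d3_1 D217871 (iv6 D188086) (iv2 F372271)
theorem F491024 : act 3 n217871 = n192416 := d7_1 D217871 (iv6 D192416) (iv3 F372272)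
def n217872 : Q := act 6 n188083
theorem D217872 : act 6 n188083 = n217872 := rfl
theorem F491025 : act 2 n217872 = n192397 := d3_1 D217872 (iv6 D192397) F372282
theorem F491026 : act 4 n217872 = n214168 := d10_1 D217872 F473821 F429070
theorem F491027 : act 5 n217872 = n192249 := d12_1 D217872 (iv6 D192249) F375477 F375475 F375470
theorem F491028 : act 7 n217872 = n214165 := d14_2 (iv7 F372283) D217872 (iv6 D214165) F320450 (iv6 F367145)
theorem F491029 : act 1 n215938 = n217872 := d15_1 D215938 F491028 F473806
theorem F491030 : act 1 n217872 = n215937 := d15_1 F491029 (iv7 F482179) F482182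
def n217873 : Q := act 5 n188085
theorem D217873 : act 5 n188085 = n217873 := rfl
theorem F491031 : act 7 n217873 = n192399 := d13_2 (iv7 F372287) D217873 (iv5 D192399)
theorem F491032 : act 4 n217873 = n216771 := d16_2 D188085 D217873 F485869 F444358 (iv5 D187561) F138960 D100145 (iv7 F372273) F372271
theorem F491033 : act 0 n217873 = n210880 := d17_2 (iv1 F372288) D217873 (iv5 D210880) F339888 (iv5 D101190) F143942 D189173 (iv0 F375949) F359967
theorem F491034 : act 1 n217873 = n216777 := d17_6 (iv1 F372269) (iv5 D188081) (iv1 D90790) D90792 D188085 D217873 F485893 (iv0 F386735) (iv4 D192445)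
def n217874 : Q := act 6 n188085
theorem D217874 : act 6 n188085 = n217874 := rfl
theorem F491035 : act 3 n217874 = n198036 := d7_1 D217874 (iv6 F469660) F469659
theorem F491036 : act 4 n217874 = n188086 := d10_1 D217874 (iv6 D188086) D188085
theorem F491037 : act 7 n217874 = n202300 := d14_2 (iv7 F372287) D217874 (iv6 D202300) (iv7 F386650) (iv6 D192400)
theorem F491038 : act 0 n217874 = n202412 := d21_4 (iv5 F485893) (iv1 F491034) (iv5 D217873) D217874 (iv6 D202412) D202411 F469486 (iv5 F469485) F458721 F386735
def n217875 : Q := act 0 n188086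
theorem D217875 : act 0 n188086 = n217875 := rfl
def n217876 : Q := act 1 n188086
theorem D217876 : act 1 n188086 = n217876 := rfl
theorem F491039 : act 6 n192331 = n217876 := d21_3 F335203 D173390 (iv5 F386458) (iv1 D217876) (iv6 D188086) (iv5 D90792) (iv1 F157736) D187708 (iv6 F383360) F383361
def n217877 : Q := act 7 n188086
theorem D217877 : act 7 n188086 = n217877 := rfl
theorem F491040 : act 3 n217877 = n188091 := d8_1 D217877 (iv7 D188091) (iv3 F372289)
theorem F491041 : act 4 n217877 = n202300 := d11_1 D217877 (iv7 F491037) F491036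
theorem F491042 : act 6 n217877 = n192403 := d14_1 D217877 (iv7 D192403) (iv6 D100150) (iv7 F139734) D188086
def n217878 : Q := act 5 n188089
theorem D217878 : act 5 n188089 = n217878 := rfl
theorem F491043 : act 2 n217878 = n191371 := d2_1 D217878 F384758 F384756
theorem F491044 : act 3 n217878 = n210690 := d6_1 D217878 F458448 (iv3 F384764)
theorem F491045 : act 4 n217878 = n191363 := d9_1 D217878 (iv5 D191363) F151416 (iv5 F321013) (iv4 F201555) D205045 F434767 (iv5 F383500) F383499 (iv5 D120415) F300578 (iv5 F321788) (iv4 F280524) (iv5 F478182) F478181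
theorem F491046 : act 6 n217878 = n215307 := d12_2 (iv6 F391482) D217878 F479316 (iv6 D193946) D193945
theorem F491047 : act 7 n217878 = n192317 := d13_2 (iv7 F384755) D217878 F386405
theorem F491048 : act 0 n217878 = n210524 := d17_2 D188089 D217878 (iv5 D210524) (iv4 F457899) F457900 (iv0 F434788) F434786 F388184 F372299
def n217879 : Q := act 3 n188096
theorem D217879 : act 3 n188096 = n217879 := rfl
theorem F491049 : act 4 n217879 = n188896 := d5_2 D188096 D217879 (iv3 D188896) F143271 F142694
theorem F491050 : act 7 n217879 = n192219 := d8_2 F374503 D217879 F386055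
theorem F491051 : act 0 n217879 = n199800 := d19_4 (iv1 F138963) D90806 D188096 D217879 (iv5 F413557) (iv4 F459153) (iv3 D210888) F223388 (iv5 F452810) F452809 (iv3 F385821) F390516 (iv5 D193633) (iv4 F390513) F390512 (iv1 F372085) (iv5 D188010) F139634 (iv3 F138959)
theorem F491052 : act 0 n199767 = n217879 := d20_4 (iv4 F286567) F358528 (iv4 F239762) (iv3 F413408) (iv3 D217879) (iv4 D188096) F360005 D100705 (iv3 F372010) F372011
theorem F491053 : act 5 n217879 = n204589 := d17_1 F491052 (iv1 F432963) (iv5 F406681) (iv4 F413258) (iv5 F424130) (iv0 D202468) (iv5 F413412) (iv0 D199768) (iv4 F413409)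
theorem F491054 : act 6 n217879 = n197968 := d21_5 (iv5 F409131) F409132 (iv5 F366010) D199767 F491052 F406316 (iv1 D111598) D111600 (iv6 F407550) F407553
theorem F491055 : act 2 n208427 = n217879 := d15_3 (iv0 F491052) (iv0 F479173) F479172
def n217880 : Q := act 5 n188096
theorem D217880 : act 5 n188096 = n217880 := rfl
theorem F491056 : act 3 n217880 = n204589 := d6_1 D217880 (iv5 F491053) (iv3 D217879)
theorem F491057 : act 4 n217880 = n210880 := d9_1 D217880 (iv5 D210880) F339888 (iv5 D101190) F74372 D90489 D187717 D217663 F489995 F485893 (iv4 D189175) (iv5 D93338) F68610 D90806 D188096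
theorem F491058 : act 7 n217880 = n215874 := d13_2 F374503 D217880 F481879
def n217881 : Q := act 6 n188096
theorem D217881 : act 6 n188096 = n217881 := rfl
theorem F491059 : act 3 n217881 = n197968 := d7_1 D217881 (iv6 F491054) (iv3 D217879)
theorem F491060 : act 4 n217881 = n188097 := d10_1 D217881 (iv6 D188097) D188096
theorem F491061 : act 7 n217881 = n203473 := d14_2 F374503 D217881 (iv6 D203473) F187585 (iv6 F374502)
theorem F491062 : act 5 n199684 = n217881 := d13_3 F491061 F428449 (iv7 F413123)
theorem F491063 : act 1 n217881 = n203156 := d17_6 (iv1 D205788) D205789 F446230 (iv5 D207748) (iv4 F413122) F491062 F427209 (iv0 F444398) F444399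
def n217882 : Q := act 5 n188098
theorem D217882 : act 5 n188098 = n217882 := rfl
theorem F491064 : act 2 n217882 = n188106 := d2_1 D217882 (iv5 D188106) (iv2 F372322)
theorem F491065 : act 3 n217882 = n216735 := d6_1 D217882 F485692 F421845
theorem F491066 : act 6 n217882 = n212433 := d12_2 F468697 D217882 (iv5 D212433) (iv6 F397601) (iv5 F468691)
theorem F491067 : act 7 n217882 = n216771 := d13_2 (iv7 F444359) D217882 F485869
theorem F491068 : act 4 n217882 = n192399 := d16_2 D188098 D217882 (iv5 D192399) (iv4 D100149) (iv5 D46744) F65950 D90328 F138965 (iv2 F139790)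
theorem F491069 : act 0 n217882 = n192726 := d17_2 F406691 D217882 (iv5 D192726) (iv4 F361013) F228240 D149657 D212792 F467538 F465022
theorem F491070 : act 1 n217882 = n216772 := d17_6 F370812 (iv5 D187560) (iv1 F138956) D90807 D188098 D217882 F485874 F454052 F387601
theorem E104040 : n215871 = n215822 := (c20_2 (iv4 F277618) D215871 (iv4 D215822) (iv3 F454087) (iv1 F485690) (iv3 F491065) F491068 F458729 F481881 (iv3 D215874) (iv1 D178081))
theorem F491071 : act 1 n215822 = n178079 := (sb E104040 (iv0 D215871))
def n217883 : Q := act 6 n188099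
theorem D217883 : act 6 n188099 = n217883 := rfl
theorem F491072 : act 2 n217883 = n217683 := d3_1 D217883 F490091 (iv2 F372323)
theorem F491073 : act 3 n217883 = n188101 := d7_1 D217883 (iv6 D188101) D188099
theorem F491074 : act 4 n217883 = n217289 := d10_1 D217883 F488304 (iv4 F372325)
theorem F491075 : act 5 n217883 = n202948 := d12_1 D217883 F426326 (iv5 F376876) F376877 (iv5 F372324)
theorem F491076 : act 7 n217883 = n217684 := d14_2 F375332 D217883 F490099 (iv7 F464074) F464073
theorem F491077 : act 0 n217883 = n214566 := d21_4 F375288 (iv1 F374095) (iv5 F372324) D217883 F475827 (iv5 D159870) F114742 D100349 F154338 D100359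
def n217884 : Q := act 3 n188100
theorem D217884 : act 3 n188100 = n217884 := rfl
theorem F491078 : act 2 n217884 = n204587 := d0_1 D217884 (iv3 D204587) (iv2 F406685) F406686 F375347
theorem F491079 : act 4 n217884 = n217748 := d5_2 D188100 D217884 (iv3 D217748) (iv4 F372325) (iv3 D188099)
theorem F491080 : act 7 n217884 = n210531 := d8_2 F387812 D217884 F457945
theorem F491081 : act 0 n217884 = n204523 := d20_4 (iv4 D90811) D90809 D188100 D217884 F432801 (iv4 F457217) F457220 (iv4 F460423) F460422 (iv1 D188104)
theorem F491082 : act 1 n217884 = n193788 := d15_0 F457973 (iv7 F432960) (iv2 F491078)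
theorem F491083 : act 5 n217522 = n217884 := d17_5 (iv1 D187466) F138619 D90237 D187481 D217522 F491082 (iv5 D193788) D193787 F391007
def n217885 : Q := act 5 n188100
theorem D217885 : act 5 n188100 = n217885 := rfl
theorem F491084 : act 3 n217885 = n217522 := d6_1 D217885 F491083 (iv3 D217884)
theorem F491085 : act 4 n217885 = n214034 := d16_2 D188100 D217885 (iv5 D214034) (iv4 F359967) (iv5 F294633) (iv4 F295159) (iv5 F143227) (iv7 F143387) F143388
theorem F491086 : act 6 n214035 = n217885 := d10_0 F491085 F473205 D214035
def n217886 : Q := act 6 n188100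
theorem D217886 : act 6 n188100 = n217886 := rfl
theorem F491087 : act 2 n217886 = n210582 := d3_1 D217886 F458124 F375347
theorem F491088 : act 4 n217886 = n188101 := d10_1 D217886 (iv6 D188101) D188100
theorem F491089 : act 7 n217886 = n210575 := d14_2 F387812 D217886 (iv6 D210575) (iv7 F406676) F406677
theorem F491090 : act 5 n217886 = n209415 := d21_6 (iv5 D123846) (iv1 F331647) D155454 D213755 (iv1 F471942) D217886 (iv1 F466815) (iv5 D212636) (iv6 D148533) (iv1 F331650)
theorem F491091 : act 0 n208879 = n217886 := d17_0 F491090 (iv1 F466815) (iv5 D212636) F339350 (iv5 D133448) D133447 (iv5 F418956) F418955 D208879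
theorem F491092 : act 1 n201065 = n217886 := d17_6 D136443 F219539 (iv1 F336167) (iv5 F220066) (iv4 F454705) F454704 F491090 (iv0 D209415) (iv4 D136445)
def n217887 : Q := act 5 n188102
theorem D217887 : act 5 n188102 = n217887 := rfl
theorem F491093 : act 3 n217887 = n198069 := d6_1 D217887 F406647 (iv3 F372329)
theorem F491094 : act 6 n217887 = n198065 := d12_2 (iv6 F372330) D217887 (iv5 D198065) F168891 D108902
def n217888 : Q := act 5 n188103
theorem D217888 : act 5 n188103 = n217888 := rfl
theorem F491095 : act 2 n217888 = n216701 := d2_1 D217888 F485531 (iv2 F474076)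
theorem F491096 : act 3 n217888 = n203433 := d6_1 D217888 (iv5 D203433) F372332
theorem F491097 : act 7 n217888 = n213115 := d13_2 (iv7 F372333) D217888 (iv5 D213115)
theorem F491098 : act 4 n217888 = n214163 := d16_2 (iv4 F372331) D217888 (iv5 D214163) (iv4 F372284) F372278 (iv4 F251832) (iv5 F420480) F420482 F371826
theorem F491099 : act 0 n217888 = n209531 := d17_2 D188103 D217888 (iv5 D209531) F367393 (iv5 D100702) (iv0 F362397) (iv5 F362399) (iv0 D90809) D90811
theorem F491100 : act 1 n217888 = n216717 := d17_6 F374238 (iv5 F386906) F386913 F376456 (iv4 F372331) D217888 F485602 (iv0 D192725) (iv4 F361013)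
theorem F491101 : act 6 n214164 = n217888 := d21_5 F485914 F386562 (iv5 F242643) F364036 (iv1 F473805) (iv5 D217888) F444360 (iv5 F485869) F485870 F485916
def n217889 : Q := act 6 n188103
theorem D217889 : act 6 n188103 = n217889 := rfl
theorem F491102 : act 2 n217889 = n209594 := d3_1 D217889 F474074 (iv2 F474076)
theorem F491103 : act 3 n217889 = n203432 := d7_1 D217889 F428275 F372332
theorem F491104 : act 4 n217889 = n207250 := d10_1 D217889 F443970 (iv4 F372331)
theorem F491105 : act 7 n217889 = n209595 := d14_2 (iv7 F372333) D217889 (iv6 F454274) (iv7 F465090) F465089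
theorem F491106 : act 0 n217889 = n208875 := d21_4 (iv5 F485602) (iv1 F491100) (iv5 D217888) D217889 F451205 (iv5 D191433) (iv1 F283715) (iv5 D100563) D100564 D192725
theorem F491107 : act 0 n208873 = n217889 := d21_4 F414638 (iv1 F434915) F434913 F451198 (iv6 D217889) D217888 F491099 (iv5 D209531) (iv6 D136586) D136583
def n217890 : Q := act 5 n188104
theorem D217890 : act 5 n188104 = n217890 := rfl
theorem F491108 : act 2 n217890 = n213115 := d2_1 D217890 (iv5 D213115) F444362
theorem F491109 : act 7 n217890 = n216701 := d13_2 F474072 D217890 F485531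
theorem F491110 : act 0 n217890 = n216717 := d17_2 (iv1 F444361) D217890 F485602 F387601 F154815 (iv0 F295157) (iv5 F143227) (iv0 F370816) (iv4 F444358)
theorem F491111 : act 1 n217890 = n209531 := d17_6 (iv1 F464178) (iv5 F475733) (iv1 D214547) (iv5 F420480) F420479 D217890 (iv5 D209531) D209530 F454054
theorem F491112 : act 6 n217890 = n216594 := d21_3 F485869 (iv1 F444361) D217890 (iv1 D216594) (iv6 F378219) F378218 F287743 (iv5 D185479) D185480 D216771
def n217891 : Q := act 1 n188105
theorem D217891 : act 1 n188105 = n217891 := rfl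
theorem F491113 : act 1 n217891 = n216719 := d15_1 D217891 F485612 F484716
theorem F491114 : act 7 n217891 = n216175 := d15_2 (iv0 F372335) D217891 F483286
theorem F491115 : act 5 n217891 = n213485 := d17_7 (iv1 D154589) D154590 F438157 (iv5 F485252) F485249 (iv5 F393083) D217891 (iv0 F470625) (iv4 F384919)
theorem F491116 : act 4 n217891 = n200942 := d17_9 (iv1 D200942) (iv5 F395876) (iv1 F471796) F471794 F286567 F159725 D185387 (iv5 F393083) D217891
theorem F491117 : act 6 n210664 = n217891 := d21_3 (iv5 F143912) (iv1 F362379) D210664 (iv1 D217891) F393082 F393076 (iv1 F432329) (iv5 F484790) (iv6 D216520) (iv1 D184118)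
theorem F491118 : act 2 n217891 = n210666 := d3_1 F491117 (iv6 D210666) (iv2 F458377)
def n217892 : Q := act 1 n188106
theorem D217892 : act 1 n188106 = n217892 := rfl
theorem F491119 : act 1 n217892 = n216771 := d15_1 D217892 (iv7 F491067) F491064
theorem F491120 : act 7 n217892 = n192726 := d15_2 (iv0 F372345) D217892 F387603
theorem F491121 : act 5 n217892 = n192727 := d17_7 (iv1 F371302) (iv5 D90806) (iv1 D42528) D42530 D90811 D188106 D217892 F454064 F454063
theorem F491122 : act 3 n192738 = n217892 := d19_19 (iv1 D217892) (iv5 D188106) (iv4 D90811) F66007 (iv1 F65983) (iv5 F69468) (iv4 F291670) F134827 (iv1 D87848) (iv5 D40972) (iv4 F33681) (iv3 F70591) F75051 D103054 F352866 (iv3 F422962) (iv1 F422966) (iv5 F454923) F454924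
theorem F491123 : act 6 n216775 = n217892 := d21_9 (iv5 D188106) D188103 D217888 (iv6 F491101) F473804 D216702 (iv5 F485536) F469212 (iv5 F485882) (iv1 D217892)
theorem F491124 : act 2 n217892 = n216772 := d0_1 F491122 F485873 F468742 (iv3 F454949) F454948
def n217893 : Q := act 4 n188106
theorem D217893 : act 4 n188106 = n217893 := rfl
theorem F491125 : act 2 n217893 = n192399 := d1_1 D217893 (iv4 F491068) F491064
theorem F491126 : act 5 n217893 = n192392 := d9_2 D188106 D217893 (iv4 D192392) (iv5 D100145) (iv4 F138960) D187561 (iv4 F444358) (iv5 F485869) (iv4 F491032) (iv5 D217873) (iv4 D188085) (iv5 D90792) F65997 D42530 D90811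
theorem F491127 : act 0 n217893 = n216777 := d18_2 (iv1 D217892) D217893 (iv4 F489995) (iv5 D217663) (iv4 D187717) F351317 D100705 F387607 (iv5 F491121)
theorem F491128 : act 1 n217893 = n210880 := d18_8 (iv1 F386736) (iv4 D192445) (iv1 F372269) D217870 F491020 F485867 (iv0 F372345) D217893 (iv5 D210880)
theorem F491129 : act 3 n213226 = n217893 := d6_3 F491126 F429071 F469491
def n217894 : Q := act 6 n188106
theorem D217894 : act 6 n188106 = n217894 := rfl
theorem F491130 : act 2 n217894 = n212433 := d3_1 D217894 (iv6 F491066) F491064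
theorem F491131 : act 3 n217894 = n216623 := d7_1 D217894 F485219 F393084
theorem F491132 : act 5 n217894 = n202908 := d12_1 D217894 F426152 F372337 (iv6 D188107) D188106
theorem F491133 : act 7 n217894 = n212434 := d14_2 (iv7 F471404) D217894 F465786 F434114 D213637
theorem F491134 : act 0 n216797 = n217894 := d21_4 (iv5 F483545) (iv1 F485944) (iv5 D216796) D216797 (iv6 D217894) (iv5 D188106) D188103 D217888 (iv6 F491101) F473804
def n217895 : Q := act 7 n188114
theorem D217895 : act 7 n188114 = n217895 := rfl
theorem F491135 : act 4 n217895 = n217087 := d11_1 D217895 F487343 F379141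
theorem F491136 : act 5 n217895 = n188115 := d13_1 D217895 (iv7 D188115) D188114
theorem F491137 : act 0 n204715 = n217895 := d17_2 F475257 (iv5 F433374) F491136 F372348 (iv5 F372382) F372385 (iv5 F465234) F465237 D214456
def n217896 : Q := act 5 n188116
theorem D217896 : act 5 n188116 = n217896 := rfl
theorem F491138 : act 2 n217896 = n217089 := d2_1 D217896 F487352 (iv2 F372349)
theorem F491139 : act 6 n217896 = n196352 := d12_2 (iv6 F372352) D217896 (iv5 D196352) (iv6 D106913) D106912
theorem F491140 : act 7 n217896 = n217153 := d13_2 F372353 D217896 F487687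
theorem F491141 : act 4 n217896 = n215305 := d16_2 D188116 D217896 (iv5 D215305) F270403 (iv5 F300577) (iv4 F161592) F161593 (iv7 F370844) (iv2 F370842)
theorem F491142 : act 0 n217896 = n190130 := d17_2 (iv1 F372350) D217896 (iv5 F459973) F459972 F372056 D193595 F390397 (iv0 D187538) (iv4 F370721)
theorem F491143 : act 1 n217896 = n190107 := d17_8 F147307 (iv5 D44680) D44679 D95653 D190128 F378942 (iv0 F372351) D217896 (iv4 D190107)
def n217897 : Q := act 5 n188118
theorem D217897 : act 5 n188118 = n217897 := rfl
theorem F491144 : act 2 n217897 = n217153 := d2_1 D217897 F487687 (iv2 F372358)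
theorem F491145 : act 4 n217897 = n216965 := d9_1 D217897 (iv5 D216965) (iv4 D186562) (iv5 F335751) F335755 F251152 D188116 D217896 F491141 (iv5 D215305) F270403 (iv5 F300577) (iv4 F161592) F161593 D188118
theorem F491146 : act 7 n217897 = n217089 := d13_2 (iv7 F372360) D217897 F487352
theorem F491147 : act 1 n217897 = n190130 := d17_8 F378833 (iv5 D190093) (iv1 D95618) D95620 D190097 F378850 (iv0 F372361) D217897 (iv4 D190130)
theorem F491148 : act 0 n217897 = n190107 := d18_0 (iv4 D190107) F147307 D95656 D190135 (iv4 F378949) (iv0 D187538) (iv4 F370721) (iv0 F372361) D217897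
def n217898 : Q := act 0 n188124
theorem D217898 : act 0 n188124 = n217898 := rfl
theorem F491149 : act 5 n217898 = n192626 := d17_1 D217898 (iv1 F458504) (iv5 D210705) F222696 F329255 F74062 D46872 (iv0 F292011) D188124
theorem F491150 : act 4 n217898 = n192032 := d18_3 (iv1 F292012) D188124 D217898 (iv5 D192032) F177404 (iv0 D46825) F35049 D22515 D46874
theorem F491151 : act 3 n217898 = n217544 := d20_5 F439775 F372041 D217814 F490766 D217898 (iv4 D217544) (iv1 D187533) D187534 (iv3 F453965) (iv1 F453969)
theorem F491152 : act 1 n192598 = n217898 := d15_0 (iv0 D217898) (iv7 F488402) F488399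
theorem F491153 : act 2 n193000 = n217898 := d0_5 F491151 F489408 (iv3 F426138) F426137 F388488
theorem F491154 : act 6 n202679 = n217898 := d7_0 F491151 F489409 (iv3 F425061)
theorem F491155 : act 7 n216562 = n217898 := d8_0 F491151 F489410 (iv3 F484954)
def n217899 : Q := act 1 n188124
theorem D217899 : act 1 n188124 = n217899 := rfl
theorem F491156 : act 1 n217899 = n192598 := d15_1 D217899 (iv7 F490404) F490401
theorem F491157 : act 7 n217899 = n193000 := d15_2 (iv0 D217898) D217899 F491153
theorem F491158 : act 4 n217899 = n192033 := d18_7 (iv1 F388525) F388524 (iv1 D188092) F139767 D90828 D188124 D217899 (iv0 F467871) F467869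
theorem F491159 : act 5 n217899 = n192627 := d18_9 (iv1 D192627) D192628 F489438 F489423 (iv5 D192602) (iv4 D100441) (iv0 F292011) D188124 D217899
theorem F491160 : act 6 n211297 = n217899 := d21_5 (iv5 F402780) F239246 (iv5 F431631) (iv6 F462287) F462285 F491159 (iv1 D192627) (iv5 D100457) (iv6 F154485) D192591
theorem F491161 : act 3 n217899 = n202918 := d7_1 F491160 F426188 (iv3 F461016)
theorem F491162 : act 2 n216562 = n217899 := d1_3 F491158 F385291 D216562
def n217900 : Q := act 5 n188124
theorem D217900 : act 5 n188124 = n217900 := rfl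
theorem F491163 : act 4 n217900 = n217795 := d16_2 D188124 D217900 F490666 F489418 F375331 (iv4 F367612) F367614 (iv7 F371702) F371704
def n217901 : Q := act 6 n188124
theorem D217901 : act 6 n188124 = n217901 := rfl
theorem F491164 : act 2 n217901 = n208756 := d3_1 D217901 (iv6 F490403) F490401
theorem F491165 : act 3 n217901 = n188313 := d7_1 D217901 (iv6 F490767) F490766
theorem F491166 : act 4 n217901 = n188125 := d10_1 D217901 (iv6 D188125) D188124
theorem F491167 : act 7 n217901 = n208900 := d14_2 F488402 D217901 (iv6 F452700) (iv7 F453792) (iv6 F488401)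
theorem F491168 : act 5 n208163 = n217901 := d21_2 F453499 (iv1 F450336) (iv6 D217901) D217898 (iv6 F491154) (iv5 D202679) (iv1 F181301) D141482 F450511 F453500
theorem F491169 : act 1 n217901 = n209396 := d17_6 (iv1 D115129) D115131 F335488 (iv5 F329172) (iv4 F448186) F491168 F453560 F441424 (iv4 D201854)
def n217902 : Q := act 5 n188131
theorem D217902 : act 5 n188131 = n217902 := rfl
theorem F491170 : act 2 n217902 = n191994 := d2_1 D217902 (iv5 D191994) (iv2 F372406)
theorem F491171 : act 3 n217902 = n192834 := d6_1 D217902 (iv5 D192834) (iv3 F372407)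
theorem F491172 : act 7 n217902 = n191990 := d13_2 (iv7 F372409) D217902 (iv5 D191990)
theorem F491173 : act 0 n217902 = n193632 := d17_2 F372411 D217902 (iv5 F478258) F478257 (iv5 F383920) F387102 (iv5 D192566) F154429 D184064
theorem F491174 : act 4 n217902 = n193919 := d17_4 (iv1 F368769) F368763 F372411 D217902 F488254 F488249 F383596 F385843 F385844
theorem F491175 : act 1 n217902 = n203269 := d17_6 (iv1 F375724) (iv5 F293917) F372415 (iv5 D188132) D188131 D217902 F427587 (iv0 F387242) F378374
theorem F491176 : act 6 n193598 = n217902 := d21_5 (iv5 F136317) (iv1 F156967) (iv5 D102012) D102013 D193598 (iv5 D217902) F372410 F309544 (iv6 D47466) (iv1 F73618)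
def n217903 : Q := act 4 n188132
theorem D217903 : act 4 n188132 = n217903 := rfl
theorem F491177 : act 2 n217903 = n191996 := d1_1 D217903 (iv4 D191996) (iv2 F372412)
theorem F491178 : act 7 n217903 = n191991 := d11_2 (iv7 F372414) D217903 (iv4 D191991)
theorem F491179 : act 5 n217903 = n193753 := d16_1 D217903 F481860 F481859 (iv4 F393220) (iv5 D194438) (iv4 F294866) D188134 F372426 (iv2 F372412)
theorem F491180 : act 0 n217903 = n216343 := d17_0 (iv5 F483938) F485630 F485629 (iv4 D192000) (iv5 F375723) F384193 F384189 F372416 D217903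
theorem F491181 : act 1 n217903 = n216497 := d18_6 D87798 D184064 F372411 (iv4 D188131) D188132 D217903 (iv4 D216497) (iv0 D184066) (iv5 D87800)
def n217904 : Q := act 4 n188134
theorem D217904 : act 4 n188134 = n217904 := rfl
theorem F491182 : act 2 n217904 = n191991 := d1_1 D217904 (iv4 D191991) (iv2 F372424)
theorem F491183 : act 3 n217904 = n203320 := d5_1 D217904 (iv4 D203320) F186755 D119213 (iv3 F372425)
theorem F491184 : act 5 n217904 = n193754 := d9_2 D188134 D217904 (iv4 F488251) (iv5 F488254) (iv4 F491174) (iv5 D217902) (iv4 D188131) D188132 D217903 F491179 F481860 F481859 (iv4 F393220) (iv5 D194438) (iv4 F294866)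
theorem F491185 : act 7 n217904 = n191996 := d11_2 (iv7 F372426) D217904 (iv4 D191996)
theorem F491186 : act 0 n217904 = n216497 := d18_2 F372428 D217904 (iv4 D216497) F381818 F381816 (iv0 F387242) F378374 F384193 F384189
theorem F491187 : act 1 n217904 = n216343 := d18_6 (iv1 F177362) (iv4 F154824) F177340 (iv4 F294866) D188134 D217904 F483937 F387102 (iv5 D192566)
def n217905 : Q := act 4 n188136
theorem D217905 : act 4 n188136 = n217905 := rfl
theorem F491188 : act 2 n217905 = n192000 := d1_1 D217905 (iv4 D192000) F372438
theorem F491189 : act 3 n217905 = n191855 := d5_1 D217905 (iv4 F422744) (iv3 D199607) (iv4 F345057) (iv3 F372435)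
theorem F491190 : act 6 n217905 = n190513 := d10_2 (iv6 F487386) D217905 (iv4 F487382)
theorem F491191 : act 7 n217905 = n191998 := d11_2 F372439 D217905 (iv4 D191998)
theorem F491192 : act 0 n217905 = n216471 := d17_0 F484538 (iv1 F480668) (iv5 F491184) (iv4 D217904) (iv5 D188134) F294864 D99472 F372437 D217905
theorem F491193 : act 1 n217905 = n193756 := d18_6 D194653 F393957 F390864 F390862 (iv5 F372436) D217905 F390910 F366084 (iv5 F293841)
def n217906 : Q := act 6 n188141
theorem D217906 : act 6 n188141 = n217906 := rfl
theorem F491194 : act 2 n217906 = n188143 := d3_1 D217906 (iv6 D188143) D188141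
theorem F491195 : act 3 n217906 = n193002 := d7_1 D217906 (iv6 D193002) (iv3 F372467)
theorem F491196 : act 4 n217906 = n212448 := d10_1 D217906 (iv6 F484693) F484689
theorem F491197 : act 7 n217906 = n207716 := d14_2 (iv7 F372469) D217906 (iv6 D207716) F211886 D136395
def n217907 : Q := act 5 n188142
theorem D217907 : act 5 n188142 = n217907 := rfl
theorem F491198 : act 3 n217907 = n204614 := d6_1 D217907 (iv5 F490580) F490578
theorem F491199 : act 7 n217907 = n204609 := d13_2 F394063 D217907 F433007
theorem F491200 : act 4 n217907 = n193970 := d16_2 D188142 D217907 (iv5 D193970) F363549 F340546 (iv4 F384188) F384189 (iv7 F372469) (iv2 D188141)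
theorem F491201 : act 0 n217907 = n193746 := d17_2 F387203 D217907 F390889 (iv4 D184090) (iv5 F293841) F387244 (iv5 F387193) (iv0 D192594) D192596
theorem F491202 : act 1 n217907 = n188229 := d17_6 (iv1 F372433) (iv5 F375723) (iv1 F375724) (iv5 F293917) D188142 D217907 (iv5 D188229) D188228 (iv4 F372744)
theorem F491203 : act 6 n217907 = n210414 := d21_5 F368476 (iv1 D91104) D91105 (iv6 F372749) (iv1 F491202) (iv5 D210414) (iv1 F411483) F393904 (iv6 D192820) (iv1 F368474)
def n217908 : Q := act 6 n188142
theorem D217908 : act 6 n188142 = n217908 := rfl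
theorem F491204 : act 2 n217908 = n212448 := d3_1 D217908 (iv6 F484693) (iv2 F484690)
theorem F491205 : act 3 n217908 = n202643 := d7_1 D217908 (iv6 F490583) F490578
theorem F491206 : act 4 n217908 = n188143 := d10_1 D217908 (iv6 D188143) D188142
theorem F491207 : act 5 n217908 = n202642 := d12_1 D217908 F424897 D210414 (iv6 F491203) (iv5 D217907)
theorem F491208 : act 7 n217908 = n202665 := d14_2 F394063 D217908 F424992 F367936 (iv6 F394062)
def n217909 : Q := act 1 n188143
theorem D217909 : act 1 n188143 = n217909 := rfl
theorem F491209 : act 1 n217909 = n207716 := d15_1 D217909 (iv7 F491197) F491194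
theorem F491210 : act 3 n217886 = n217909 := d19_19 (iv1 D217909) (iv5 F486274) (iv4 F487874) (iv3 F487871) (iv1 F471066) (iv5 D154323) (iv4 F348698) F356983 (iv1 D82760) (iv5 D38035) F29375 (iv3 F35289) D47218 D101474 F374733 (iv3 F374732) F214602 (iv5 F372326) (iv4 F491088)
theorem F491211 : act 4 n193703 = n217909 := d20_6 D208299 F448805 (iv4 D202656) (iv3 F403439) (iv1 F488303) F488300 (iv1 D217909) (iv4 F491206) F491205 F424903
theorem F491212 : act 6 n217909 = n217884 := d10_2 F490445 F491211 F491079
def n217910 : Q := act 7 n188143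
theorem D217910 : act 7 n188143 = n217910 := rfl
theorem F491213 : act 2 n217910 = n207716 := d4_1 D217910 (iv7 F491197) F491194
theorem F491214 : act 3 n217910 = n188146 := d8_1 D217910 (iv7 D188146) (iv3 F372472)
theorem F491215 : act 4 n217910 = n202665 := d11_1 D217910 (iv7 F491208) F491206
theorem F491216 : act 6 n217910 = n193651 := d14_1 D217910 (iv7 D193651) (iv6 F159455) (iv7 F293918) D188143
def n217911 : Q := act 3 n188144
theorem D217911 : act 3 n188144 = n217911 := rfl
theorem F491217 : act 2 n217911 = n213416 := d0_1 D217911 F470289 F373365 (iv3 F394073) F446151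
theorem F491218 : act 4 n217911 = n204396 := d5_2 F461077 D217911 (iv3 D204396) F359725 (iv3 F461076)
theorem F491219 : act 7 n217911 = n214524 := d8_2 (iv7 F446152) D217911 F475618
theorem F491220 : act 0 n217911 = n214516 := d20_4 (iv4 F372044) F461078 F461077 D217911 F475575 (iv4 D208879) (iv1 F418955) (iv4 F454266) F454269 (iv1 D188079)
theorem F491221 : act 5 n213415 = n217911 := d17_1 F483526 F491220 F475576 F384298 F152413 F136672 D186007 (iv0 F288569) D216258
theorem F491222 : act 1 n217911 = n192765 := d15_1 (iv0 F491220) F387701 (iv2 F475574)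
def n217912 : Q := act 5 n188144
theorem D217912 : act 5 n188144 = n217912 := rfl
theorem F491223 : act 2 n217912 = n213312 := d2_1 D217912 F469860 F446151
theorem F491224 : act 3 n217912 = n213415 := d6_1 D217912 F491221 (iv3 D217911)
def n217913 : Q := act 6 n188145
theorem D217913 : act 6 n188145 = n217913 := rfl
theorem F491225 : act 3 n217913 = n213427 := d7_1 D217913 (iv6 D213427) (iv3 F446148)
theorem F491226 : act 4 n217913 = n215445 := d10_1 D217913 F480032 F461097
theorem F491227 : act 5 n217913 = n216679 := d12_1 D217913 (iv6 D216679) F287519 (iv6 F483836) F483835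
theorem F491228 : act 0 n192775 = n217913 := d17_0 F491227 F485449 F390901 F388651 (iv5 F440468) (iv0 D206371) F419788 (iv0 F464368) F464366
theorem F491229 : act 0 n217913 = n193050 := d21_7 (iv5 F338065) (iv1 F338068) F155044 D101936 F387883 D216679 (iv5 F491227) F388590 (iv6 D175520) (iv1 F274761)
def n217914 : Q := act 3 n188150
theorem D217914 : act 3 n188150 = n217914 := rfl
theorem F491230 : act 4 n217914 = n198109 := d5_2 (iv4 F378247) D217914 (iv3 F406859) F387549 (iv3 D192704)
theorem F491231 : act 5 n217914 = n205264 := d6_2 F400135 D217914 F435666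
theorem F491232 : act 6 n217914 = n198258 := d7_2 (iv6 F372491) D217914 F407368
theorem F491233 : act 7 n217914 = n198215 := d8_2 F372494 D217914 (iv3 D198215)
theorem F491234 : act 0 n217914 = n198266 := d20_4 F154602 D100536 (iv4 F378247) D217914 F407399 D198268 (iv1 F409133) (iv4 D198763) (iv3 F387532) (iv1 D192701)
theorem F491235 : act 2 n217914 = n198289 := d15_3 (iv0 D198289) (iv0 F407257) (iv7 F491233)
theorem F491236 : act 0 n198287 = n217914 := d21_4 F345109 (iv1 F372007) D192747 (iv6 F407481) F491232 (iv5 D198258) (iv1 D109090) D109091 F365129 (iv1 F241646)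
def n217915 : Q := act 3 n188151
theorem D217915 : act 3 n188151 = n217915 := rfl
theorem F491237 : act 4 n217915 = n203028 := d5_2 (iv4 F384643) D217915 F426694 (iv4 F387213) (iv3 F387214)
theorem F491238 : act 6 n217915 = n210914 := d7_2 F372498 D217915 F459268
theorem F491239 : act 7 n217915 = n198216 := d8_2 (iv7 F372496) D217915 (iv3 D198216)
theorem F491240 : act 0 n197792 = n217915 := d20_4 F400769 (iv1 F205615) (iv4 F356735) (iv3 F405813) (iv3 D217915) F384643 (iv1 D100537) (iv4 F154602) F327162 D151247
def n217916 : Q := act 1 n188158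
theorem D217916 : act 1 n188158 = n217916 := rfl
theorem F491241 : act 1 n217916 = n193006 := d15_1 D217916 F449922 F411230
theorem F491242 : act 7 n217916 = n192964 := d15_2 (iv0 F411155) D217916 F388359
theorem F491243 : act 5 n217916 = n188352 := d17_7 F354216 (iv5 D65929) D65926 (iv5 F404829) D198324 (iv5 F407613) D217916 F373159 (iv4 F361152)
theorem F491244 : act 3 n216561 = n217916 := d19_19 (iv1 D217916) F407613 (iv4 D198324) F404985 (iv1 F405421) F405417 F422431 (iv3 F422430) (iv1 F423476) F423478 F179950 F162306 (iv1 F320124) F94954 (iv4 F313962) (iv3 F178698) (iv1 F259236) D215044 (iv4 F484950)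
theorem F491245 : act 6 n193016 = n217916 := d21_3 (iv5 F453477) (iv1 F487823) F487820 (iv1 D217916) F411156 F411152 (iv1 F181249) D202673 (iv6 F453756) (iv1 F453757)
theorem F491246 : act 4 n206792 = n217916 := d20_2 (iv4 F454370) (iv1 F454372) (iv3 F491244) (iv1 F484952) F410379 F171725 D111632 (iv4 F384897) F384896 F407567
theorem F491247 : act 2 n217916 = n193008 := d1_1 F491246 F388504 (iv2 F442199)
def n217917 : Q := act 4 n188158
theorem D217917 : act 4 n188158 = n217917 := rfl
theorem F491248 : act 3 n217917 = n198008 := d5_1 D217917 (iv4 D198008) F372506 (iv4 D188159) D188158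
theorem F491249 : act 6 n217917 = n210649 := d10_2 (iv6 F411156) D217917 F458333
theorem F491250 : act 7 n217917 = n209610 := d11_2 F489579 D217917 (iv4 F489576)
theorem F491251 : act 5 n217917 = n206023 := d16_1 D217917 (iv4 D206023) (iv5 F223102) F223101 (iv5 F354184) D198327 (iv5 F424022) F449922 F411230
theorem F491252 : act 0 n217917 = n206915 := d17_0 (iv5 D206915) (iv1 F361155) (iv5 D129847) (iv4 F99880) D136492 (iv0 F372824) F372823 (iv0 F411155) D217917
theorem F491253 : act 1 n217917 = n206719 := d18_6 (iv1 D198309) F169152 D109200 D198324 (iv5 F407613) D217917 F441960 F452663 F452661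
def n217918 : Q := act 6 n188159
theorem D217918 : act 6 n188159 = n217918 := rfl
theorem F491254 : act 2 n217918 = n210509 := d3_1 D217918 F457854 (iv2 F387531)
theorem F491255 : act 3 n217918 = n197846 := d7_1 D217918 (iv6 F405994) F372506
theorem F491256 : act 4 n217918 = n188161 := d10_1 D217918 (iv6 D188161) D188159
theorem F491257 : act 7 n217918 = n210519 := d14_2 (iv7 F387526) D217918 (iv6 F457897) F281454 (iv6 F387524)
theorem F491258 : act 0 n217918 = n210511 := d21_4 (iv5 F408255) (iv1 D198003) (iv5 F372507) D217918 (iv6 F490290) F490289 F439685 (iv5 F398617) (iv6 F409109) (iv1 F409111)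
theorem F491259 : act 5 n192947 = n217918 := d21_2 F387684 D192947 (iv6 D217918) (iv1 F384656) F384654 (iv5 F291187) (iv1 F139600) D90699 D187960 (iv1 F388741)
theorem F491260 : act 1 n217918 = n210521 := d17_6 (iv1 F171783) F387573 F387572 (iv5 F350422) (iv4 F388308) F491259 F457903 F400416 (iv4 D141125)
def n217919 : Q := act 5 n188163
theorem D217919 : act 5 n188163 = n217919 := rfl
theorem F491261 : act 2 n217919 = n196206 := d2_1 D217919 F399873 F373655
theorem F491262 : act 3 n217919 = n207276 := d6_1 D217919 F444096 (iv3 F413854)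
theorem F491263 : act 6 n217919 = n196204 := d12_2 F463954 D217919 (iv5 F411620) F411622 D212016
theorem F491264 : act 7 n217919 = n216891 := d13_2 F373657 D217919 (iv5 D216891)
def n217920 : Q := act 1 n188167
theorem D217920 : act 1 n188167 = n217920 := rfl
theorem F491265 : act 1 n217920 = n188169 := d15_1 D217920 F372541 (iv2 F372537)
theorem F491266 : act 7 n217920 = n191769 := d15_2 (iv0 F484964) D217920 (iv2 F484959)
theorem F491267 : act 4 n217920 = n217755 := d18_7 F152158 (iv4 D93892) (iv1 F294848) (iv4 D91010) D91011 D188167 D217920 F490476 (iv5 D191704)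
theorem F491268 : act 2 n191768 = n217920 := d1_3 F491267 F490472 (iv4 F384403)
def n217921 : Q := act 6 n188167
theorem D217921 : act 6 n188167 = n217921 := rfl
theorem F491269 : act 2 n217921 = n191777 := d3_1 D217921 (iv6 D191777) (iv2 F372537)
theorem F491270 : act 4 n217921 = n188168 := d10_1 D217921 (iv6 D188168) D188167
theorem F491271 : act 0 n217921 = n210704 := d21_4 F453566 D209791 F454965 D217921 (iv6 D210704) (iv5 D139520) D139518 D210700 (iv6 F458488) (iv1 F453568)
def n217922 : Q := act 6 n188172
theorem D217922 : act 6 n188172 = n217922 := rfl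
theorem F491272 : act 2 n217922 = n216160 := d3_1 D217922 (iv6 D216160) (iv2 F372553)
theorem F491273 : act 3 n217922 = n188174 := d7_1 D217922 (iv6 D188174) D188172
theorem F491274 : act 4 n217922 = n216502 := d10_1 D217922 F487471 (iv4 F372556)
theorem F491275 : act 5 n217922 = n192597 := d12_1 D217922 (iv6 D192597) (iv5 D100437) (iv6 F292350) (iv5 F372554)
theorem F491276 : act 7 n217922 = n211589 := d14_2 (iv7 F372555) D217922 F462281 F457960 (iv6 D191780)
def n217923 : Q := act 0 n188173
theorem D217923 : act 0 n188173 = n217923 := rfl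
theorem F491277 : act 5 n217923 = n209038 := d17_1 D217923 F451964 F451618 (iv4 D188169) (iv5 D91016) (iv0 F294132) D46271 F294921 D188173
theorem F491278 : act 4 n217923 = n188319 := d18_3 D91020 D188173 D217923 F373076 F294814 (iv0 F294847) (iv4 D91010) (iv0 D42632) D42635
theorem F491279 : act 6 n217923 = n204192 := d21_5 (iv5 D116284) F102993 (iv5 F223169) F372582 D217923 F431425 (iv1 F342642) (iv5 F432777) F432778 F424539
theorem F491280 : act 2 n191782 = n217923 := d15_3 (iv0 D217923) (iv0 F453567) (iv7 F453569)
theorem F491281 : act 1 n188175 = n217923 := d15_0 (iv0 D217923) F372561 (iv2 F372585)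
theorem F491282 : act 7 n217923 = n191781 := d15_2 F453568 F491281 (iv2 F453563)
theorem F491283 : act 3 n204194 = n217923 := d20_9 (iv4 D188175) (iv1 D91021) D91022 (iv3 F295267) F284747 D216355 F483979 D216359 F483999 (iv1 F491281)
def n217924 : Q := act 5 n188175
theorem D217924 : act 5 n188175 = n217924 := rfl
theorem F491284 : act 2 n217924 = n191784 := d2_1 D217924 (iv5 D191784) (iv2 F372585)
theorem F491285 : act 3 n217924 = n208652 := d6_1 D217924 (iv5 F450340) F444387
theorem F491286 : act 4 n217924 = n214569 := d9_1 D217924 F475840 (iv4 D212975) (iv5 F238549) F292351 (iv5 F294854) D188173 (iv5 F456620) F456619 (iv5 D189405) (iv4 D93953) (iv5 F135603) F292356 (iv5 F294858) D188175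
theorem F491287 : act 6 n217924 = n208651 := d12_2 (iv6 F458488) D217924 (iv5 F453499) F453498 D210700
theorem F491288 : act 7 n217924 = n191789 := d13_2 (iv7 F372586) D217924 (iv5 D191789)
theorem F491289 : act 0 n217924 = n217118 := d17_2 (iv1 F491281) D217924 F487517 (iv4 F387260) (iv5 F387258) F371004 (iv5 F384448) F384449 (iv4 F491278)
def n217925 : Q := act 6 n188179
theorem D217925 : act 6 n188179 = n217925 := rfl
theorem F491290 : act 3 n217925 = n188181 := d7_1 D217925 (iv6 D188181) D188179
theorem F491291 : act 4 n217925 = n214416 := d10_1 D217925 F475084 F396570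
theorem F491292 : act 0 n217925 = n212679 := d21_4 (iv5 F442149) (iv1 F456498) F456496 D217925 (iv6 D212679) (iv5 D148791) (iv1 D69732) D69734 D148797 F442322
theorem F491293 : act 5 n217925 = n217657 := d21_6 (iv5 D98988) (iv1 F136552) D186639 (iv6 F450936) (iv1 F450937) D217925 F489965 F383485 (iv6 D188474) F294097
def n217926 : Q := act 6 n188180
theorem D217926 : act 6 n188180 = n217926 := rfl
theorem F491294 : act 2 n217926 = n206475 := d3_1 D217926 (iv6 D206475) (iv2 F372594)
theorem F491295 : act 4 n217926 = n207627 := d10_1 D217926 F445744 F417929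
theorem F491296 : act 5 n217926 = n216235 := d12_1 D217926 F483437 (iv5 F372599) (iv6 D188181) D188180
theorem F491297 : act 0 n217926 = n191625 := d21_4 F324641 D91028 D188180 D217926 (iv6 D191625) D191624 (iv1 F489304) F489302 (iv6 D206542) (iv1 F207062)
theorem F491298 : act 0 n191536 = n217926 := d21_4 (iv5 F153017) (iv1 F274647) (iv5 F151921) D191536 (iv6 D217926) (iv5 D188180) (iv1 F143656) (iv5 F324645) (iv6 F325754) (iv1 F136724)
def n217927 : Q := act 1 n188181
theorem D217927 : act 1 n188181 = n217927 := rfl
theorem F491299 : act 1 n217927 = n217656 := d15_1 D217927 F489962 F375646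
theorem F491300 : act 7 n217927 = n191869 := d15_2 (iv0 F450897) D217927 F384620
theorem F491301 : act 4 n217927 = n217113 := d17_9 (iv1 D217113) F368021 (iv1 D102332) (iv5 F293739) F139085 (iv5 F139245) D187706 (iv5 F372599) D217927
theorem F491302 : act 3 n192567 = n217927 := d19_19 (iv1 D217927) F372599 F483436 (iv3 F490460) (iv1 D217752) (iv5 D187865) (iv4 D90622) F65531 D42432 F65549 F65122 F35693 (iv1 F291309) F17239 (iv4 F17233) (iv3 F35079) (iv1 F74056) D100397 D192567
theorem F491303 : act 6 n191829 = n217927 := d21_3 F293939 D191925 (iv5 F384855) (iv1 D217927) (iv6 D188181) D188180 F372596 F167604 D135175 F359433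
def n217928 : Q := act 7 n188181
theorem D217928 : act 7 n188181 = n217928 := rfl
theorem F491304 : act 2 n217928 = n217656 := d4_1 D217928 F489962 F375646
theorem F491305 : act 4 n217928 = n191826 := d11_1 D217928 (iv7 D191826) (iv4 F372598)
theorem F491306 : act 5 n217928 = n188201 := d13_1 D217928 F375651 (iv5 F372599)
theorem F491307 : act 0 n191869 = n217928 := d17_0 F491306 (iv1 F372656) F371253 (iv4 F370924) F370925 F372795 F474917 (iv0 F474919) (iv4 F384622)
def n217929 : Q := act 2 n188182
theorem D217929 : act 2 n188182 = n217929 := rfl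
theorem F491308 : act 5 n217929 = n208688 := d2_2 F451508 D217929 (iv2 F451504)
theorem F491309 : act 1 n191849 = n217929 := d17_6 F437635 (iv5 F380826) (iv1 D126554) D126556 D205720 (iv5 F437563) F491308 F462203 F462198
def n217930 : Q := act 6 n188182
theorem D217930 : act 6 n188182 = n217930 := rfl
theorem F491310 : act 3 n217930 = n188184 := d7_1 D217930 (iv6 D188184) D188182
def n217931 : Q := act 5 n188184
theorem D217931 : act 5 n188184 = n217931 := rfl
theorem F491311 : act 2 n217931 = n209906 := d2_1 D217931 F455328 F375656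
theorem F491312 : act 6 n217931 = n209195 := d12_2 D188184 D217931 F452667 F386014 (iv5 D188183)
theorem F491313 : act 0 n217931 = n217002 := d17_2 F391399 D217931 F486939 F380069 D188703 (iv0 F385047) F385046 (iv0 F385620) (iv4 F391398)
theorem F491314 : act 1 n217931 = n209672 := d17_6 D99001 F350403 F350402 F154038 (iv4 F372604) D217931 F454588 (iv0 D186643) F294988
theorem F491315 : act 4 n217931 = n193518 := d18_5 F390160 (iv4 F384555) (iv1 D191830) (iv4 F372604) D217931 F408661 F408656 F375840 D193523
theorem F491316 : act 7 n217294 = n217931 := d11_0 F491315 (iv7 F462909) (iv4 F488313)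
def n217932 : Q := act 7 n188184
theorem D217932 : act 7 n188184 = n217932 := rfl
theorem F491317 : act 4 n217932 = n191831 := d11_1 D217932 (iv7 D191831) (iv4 F372604)
theorem F491318 : act 5 n217932 = n217294 := d13_1 D217932 F491316 (iv5 D217931)
theorem F491319 : act 6 n217932 = n217656 := d14_1 D217932 F489962 (iv6 D189076) F295426 D188184
theorem F491320 : act 1 n191879 = n217932 := d15_1 (iv0 F387557) (iv7 D217932) (iv2 F375656)
def n217933 : Q := act 6 n188190
theorem D217933 : act 6 n188190 = n217933 := rfl
theorem F491321 : act 2 n217933 = n210697 := d3_1 D217933 (iv6 F458476) (iv2 F379875)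
theorem F491322 : act 3 n217933 = n198994 := d7_1 D217933 (iv6 F410229) F379874
theorem F491323 : act 4 n217933 = n195603 := d10_1 D217933 F397553 F384213
theorem F491324 : act 5 n217933 = n208276 := d12_1 D217933 (iv6 D208276) (iv5 D134048) D134049 (iv5 F379873)
theorem F491325 : act 0 n217933 = n202552 := d21_4 D98926 F375704 (iv5 F379873) D217933 (iv6 D202552) F181692 (iv1 F84532) D66231 (iv6 F364541) (iv1 D98924)
theorem F491326 : act 1 n217933 = n210698 := d15_1 (iv0 F491325) (iv7 D210698) (iv2 F424466)
theorem F491327 : act 7 n217933 = n199076 := d15_2 F462526 (iv0 F491325) (iv2 F462524)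
def n217934 : Q := act 6 n188191
theorem D217934 : act 6 n188191 = n217934 := rfl
theorem F491328 : act 2 n217934 = n204641 := d3_1 D217934 F433111 F379878
theorem F491329 : act 0 n204951 = n217934 := d21_4 (iv5 D179846) (iv1 F304449) D124819 D204951 (iv6 D217934) (iv5 F384464) (iv1 D191794) (iv5 D98926) (iv6 F152453) F338884
def n217935 : Q := act 3 n188192
theorem D217935 : act 3 n188192 = n217935 := rfl
theorem F491330 : act 4 n217935 = n192047 := d5_2 (iv4 F372638) D217935 (iv3 D192047) (iv4 D99567) (iv3 F153296)
theorem F491331 : act 6 n217935 = n209565 := d7_2 (iv6 F372639) D217935 F454154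
def n217936 : Q := act 5 n188192
theorem D217936 : act 5 n188192 = n217936 := rfl
theorem F491332 : act 6 n217936 = n215786 := d12_2 (iv6 F372639) D217936 (iv5 D215786) (iv6 D177825) D177824
theorem F491333 : act 4 n217936 = n216855 := d16_2 (iv4 F372638) D217936 F486241 (iv4 D187851) (iv5 D90609) D90608 D187850 (iv7 F374784) F374783
theorem F491334 : act 0 n217936 = n216028 := d17_2 D188192 D217936 F482605 (iv4 D187856) (iv5 D90618) (iv0 F73966) D46857 D100399 F351150
theorem F491335 : act 1 n217936 = n217753 := d17_6 F467871 (iv5 D192033) (iv1 D99544) D99545 (iv4 F372638) D217936 F490465 F490409 F490407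
def n217937 : Q := act 5 n188193
theorem D217937 : act 5 n188193 = n217937 := rfl
theorem F491336 : act 3 n217937 = n216279 := d6_1 D217937 F483604 F398296
theorem F491337 : act 4 n217937 = n217681 := d9_1 D217937 (iv5 D217681) (iv4 D187736) (iv5 D90518) (iv4 F73531) D99545 (iv4 F372638) D217936 F491333 F486241 (iv4 D187851) (iv5 D90609) D90608 D187850 F372642
theorem F491338 : act 0 n217937 = n217753 := d17_2 (iv1 F372641) D217937 F490465 (iv4 D192567) (iv5 D100397) F74056 (iv5 F74091) F154438 F351144
theorem F491339 : act 1 n217937 = n216028 := d17_6 F489552 (iv5 D192032) F177401 D187850 F372642 D217937 F482605 (iv0 F450831) (iv4 F489553)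
theorem F491340 : act 6 n216278 = n217937 := d7_0 F491336 (iv6 D216279) D216278
theorem F491341 : act 0 n217030 = n216278 := d21_4 F152413 (iv1 F136669) D186670 D217030 F491340 (iv5 D217937) (iv1 D188193) D188194 F372644 (iv1 F355765)
def n217938 : Q := act 0 n188194
theorem D217938 : act 0 n188194 = n217938 := rfl
theorem F491342 : act 5 n217938 = n192600 := d17_1 D217938 (iv1 F387211) D192606 (iv4 F490384) (iv5 D217735) F489413 (iv5 F490660) (iv0 D217794) (iv4 F372645)
theorem F491343 : act 1 n216021 = n217938 := d15_0 (iv0 D217938) (iv7 F387252) (iv2 F482578)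
def n217939 : Q := act 0 n188195
theorem D217939 : act 0 n188195 = n217939 := rfl
theorem F491344 : act 5 n217939 = n209569 := d17_1 D217939 (iv1 F460667) (iv5 F487045) (iv4 D217029) (iv5 D186670) F136669 (iv5 F152413) F355765 D188195
theorem F491345 : act 4 n217939 = n216616 := d18_3 (iv1 F355739) D188195 D217939 F485183 (iv4 D187430) (iv0 D90126) (iv4 F135770) (iv0 F135773) D89025
theorem F491346 : act 1 n217031 = n217939 := d15_0 (iv0 D217939) (iv7 F383515) (iv2 F487051)
theorem F491347 : act 6 n209693 = n217939 := d21_3 (iv5 D136831) D136829 D209693 (iv1 F491346) F487053 (iv5 D204227) (iv1 F427138) F427136 D204114 F440453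
theorem F491348 : act 2 n217939 = n209581 := d3_1 F491347 (iv6 F482436) F482435
def n217940 : Q := act 1 n188195
theorem D217940 : act 1 n188195 = n217940 := rfl
theorem F491349 : act 1 n217940 = n217031 := d15_1 D217940 F487054 F384293
theorem F491350 : act 7 n217940 = n209581 := d15_2 (iv0 D217939) D217940 (iv2 F491348)
theorem F491351 : act 4 n217940 = n213326 := d18_7 F467788 F467785 (iv1 D188188) F140087 D91066 D188195 D217940 (iv0 F475684) (iv5 D214538)
theorem F491352 : act 5 n217940 = n209582 := d18_9 (iv1 F460647) F475572 (iv1 D214515) D214516 F475576 F384298 F355765 D188195 D217940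
theorem F491353 : act 6 n213331 = n217940 := d21_3 F383538 F353211 (iv5 F469959) (iv1 D217940) F372646 (iv5 D187931) D187928 (iv5 F490450) F490451 (iv1 F486881)
def n217941 : Q := act 3 n188195
theorem D217941 : act 3 n188195 = n217941 := rfl
theorem F491354 : act 4 n217941 = n188205 := d5_2 D188195 D217941 (iv3 D188205) (iv4 D91079) (iv3 F140106)
theorem F491355 : act 6 n217941 = n217793 := d7_2 (iv6 F372646) D217941 F490656
theorem F491356 : act 7 n217941 = n209600 := d8_2 F383515 D217941 F454291
theorem F491357 : act 0 n217941 = n209191 := d19_4 F290948 D91066 D188195 D217941 (iv5 D209191) (iv4 F396548) (iv3 F490067) (iv1 D217677) (iv5 D187725) (iv4 D90493) F65406 D42358 (iv5 F69483) F69484 F67707 F74701 (iv5 D47508) (iv4 F62452) D88334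
theorem F491358 : act 0 n209603 = n217941 := d20_4 (iv4 D136842) D136840 F451209 (iv3 F454305) (iv3 D217941) (iv4 D188195) (iv1 F355765) (iv4 F384298) F454712 (iv1 D209711)
theorem F491359 : act 2 n209601 = n217941 := d15_3 (iv0 F491358) (iv0 F454308) (iv7 F454299)
def n217942 : Q := act 5 n188195
theorem D217942 : act 5 n188195 = n217942 := rfl
theorem F491360 : act 2 n217942 = n214522 := d2_1 D217942 F475606 F384293
theorem F491361 : act 4 n217942 = n214513 := d9_1 D217942 (iv5 D214513) (iv4 F374114) F374115 F371132 (iv5 F367619) D217031 F487055 F475555 (iv5 D214512) F251581 F355733 F140087 D91066 D188195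
theorem F491362 : act 6 n217942 = n217797 := d12_2 (iv6 F372646) D217942 (iv5 D217797) (iv6 D187932) D187931
theorem F491363 : act 7 n217942 = n214521 := d13_2 F383515 D217942 F475603
def n217943 : Q := act 2 n188196
theorem D217943 : act 2 n188196 = n217943 := rfl
theorem F491364 : act 3 n217943 = n213013 := d0_2 D188196 D217943 F468592 (iv3 D189210) F367222
theorem F491365 : act 6 n217943 = n212721 := d3_2 (iv6 F372647) D217943 F467255
theorem F491366 : act 1 n217943 = n188474 := d15_0 (iv0 F376111) F376110 D217943
theorem F491367 : act 1 n215999 = n217943 := d15_0 F491366 (iv7 F475811) (iv2 F482485)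
def n217944 : Q := act 4 n188196
theorem D217944 : act 4 n188196 = n217944 := rfl
theorem F491368 : act 6 n217944 = n206936 := d10_2 (iv6 F372647) D217944 F442654
theorem F491369 : act 0 n217944 = n193019 := d21_10 F490741 (iv1 D217809) (iv5 F490732) (iv6 F465671) (iv1 F442312) F396568 (iv5 D132588) (iv1 F212805) (iv5 F442653) (iv6 F491368)
def n217945 : Q := act 5 n188196
theorem D217945 : act 5 n188196 = n217945 := rfl
theorem F491370 : act 3 n217945 = n188197 := d6_1 D217945 (iv5 D188197) D188196
theorem F491371 : act 6 n217945 = n217004 := d12_2 (iv6 F372647) D217945 (iv5 D217004) (iv6 D186634) D186633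
def n217946 : Q := act 0 n188197
theorem D217946 : act 0 n188197 = n217946 := rfl
theorem F491372 : act 5 n217946 = n188356 := d17_3 D91068 D188197 D217946 F373170 D188360 (iv0 F373182) (iv5 D188236) (iv0 D91107) F66891
theorem F491373 : act 1 n188199 = n217946 := d15_0 (iv0 D217946) (iv7 F376113) F376112
theorem F491374 : act 3 n215991 = n217946 := d6_3 F491372 (iv3 F449613) (iv5 F482457)
theorem F491375 : act 7 n217946 = n216030 := d8_2 (iv7 F482460) F491374 (iv3 D216030)
def n217947 : Q := act 1 n188197
theorem D217947 : act 1 n188197 = n217947 := rfl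
theorem F491376 : act 1 n217947 = n188199 := d15_1 D217947 (iv7 F376109) F376107
theorem F491377 : act 5 n217927 = n217947 := d21_0 (iv1 D217947) (iv5 D188197) F367221 (iv1 F287033) (iv6 F367997) D189154 F488315 (iv5 F491318) F491319 (iv1 F491299)
theorem F491378 : act 3 n217947 = n217753 := d6_1 F491377 F490465 F491302
theorem F491379 : act 6 n217947 = n192442 := d12_2 F491303 F491377 (iv5 F457914) (iv6 F457911) (iv5 F384855)
theorem F491380 : act 2 n216030 = n217947 := d3_3 F491379 (iv2 F458192) (iv6 F482610)
def n217948 : Q := act 4 n188197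
theorem D217948 : act 4 n188197 = n217948 := rfl
theorem F491381 : act 6 n217948 = n195675 := d10_2 (iv6 F372648) D217948 F397812
theorem F491382 : act 3 n217948 = n217795 := d19_3 D91068 D188197 D217948 (iv1 D217795) (iv5 D187931) (iv4 D90681) (iv3 D42453) (iv1 F65181) F65178 F31757 F14623 (iv1 F14625) D9456 D20080 D42538 (iv1 F292002) F154433 F351150 F140105
def n217949 : Q := act 1 n188198
theorem D217949 : act 1 n188198 = n217949 := rfl
theorem F491383 : act 7 n217949 = n216903 := d15_2 (iv0 F384594) D217949 F486482
theorem F491384 : act 2 n192538 = n217949 := d4_3 F491383 F486482 (iv7 F387005)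
theorem F491385 : act 6 n213732 = n217949 := d14_5 F491383 (iv6 D216903) (iv7 F367138) D191855 (iv7 F471831)
theorem F491386 : act 4 n217949 = n192546 := d10_1 F491385 F387022 D213732
theorem F491387 : act 0 n213013 = n217949 := d20_1 F471612 F491386 (iv3 F424163) F424164 F409188 (iv4 F206044) F109237 (iv4 F110062) (iv3 F242867) D213680
def n217950 : Q := act 2 n188198
theorem D217950 : act 2 n188198 = n217950 := rfl
theorem F491388 : act 4 n217950 = n213455 := d1_2 (iv4 F471601) D217950 (iv2 F471606)
theorem F491389 : act 7 n217950 = n213013 := d4_2 F376106 D217950 F468592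
theorem F491390 : act 1 n217950 = n192538 := d15_0 (iv0 F387006) F376106 D217950
theorem F491391 : act 1 n216903 = n217950 := d15_0 F491390 F387005 (iv2 F486482)
theorem F491392 : act 6 n213094 = n217950 := d21_3 F454121 (iv1 F454123) D213094 (iv1 F491391) (iv6 D216903) F367139 (iv1 D92552) (iv5 F292416) D99040 D191875
def n217951 : Q := act 5 n188198
theorem D217951 : act 5 n188198 = n217951 := rfl
theorem F491393 : act 3 n217951 = n188199 := d6_1 D217951 (iv5 D188199) D188198
def n217952 : Q := act 6 n188198
theorem D217952 : act 6 n188198 = n217952 := rfl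
theorem F491394 : act 2 n217952 = n213094 := d3_1 D217952 F491392 (iv2 D217950)
theorem F491395 : act 3 n217952 = n188200 := d7_1 D217952 (iv6 D188200) D188198
theorem F491396 : act 7 n217952 = n213015 := d14_2 F376106 D217952 (iv6 D213015) (iv7 F354658) (iv6 F376105)
theorem F491397 : act 5 n213039 = n217952 := d13_3 F491396 F468600 (iv7 F468726)
theorem F491398 : act 1 n199595 = n217952 := d15_1 (iv0 F468955) F491396 F468598
theorem F491399 : act 1 n217952 = n199597 := d17_6 (iv1 F239677) F354424 F353828 F239354 D213039 F491397 F468961 F468958 (iv4 D152508)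
def n217953 : Q := act 4 n188199
theorem D217953 : act 4 n188199 = n217953 := rfl
theorem F491400 : act 6 n217953 = n217220 := d10_2 F486317 D217953 F488418
def n217954 : Q := act 3 n188201
theorem D217954 : act 3 n188201 = n217954 := rfl
theorem F491401 : act 4 n217954 = n192624 := d5_2 F483821 D217954 F387270 D192628 (iv3 F483820)
theorem F491402 : act 7 n217954 = n217657 := d8_2 (iv7 F375651) D217954 (iv3 D217657)
theorem F491403 : act 0 n217954 = n216227 := d20_4 (iv4 F368867) F483823 F483821 D217954 F483415 F283652 D185445 F391198 F398386 (iv1 D187025)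
def n217955 : Q := act 3 n188202
theorem D217955 : act 3 n188202 = n217955 := rfl
theorem F491404 : act 7 n217955 = n217654 := d8_2 F375650 D217955 (iv3 D217654)
def n217956 : Q := act 6 n188202
theorem D217956 : act 6 n188202 = n217956 := rfl
theorem F491405 : act 2 n217956 = n216235 := d3_1 D217956 F483437 (iv2 F375649)
theorem F491406 : act 4 n217956 = n216233 := d10_1 D217956 (iv6 F488038) F488036
theorem F491407 : act 5 n217956 = n206475 := d12_1 D217956 (iv6 D206475) F332681 D189076 F375648
theorem F491408 : act 7 n217956 = n216240 := d14_2 F375650 D217956 (iv6 F483824) F487320 F487321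
theorem F491409 : act 3 n216993 = n217956 := d6_3 F491407 (iv3 F490153) (iv5 F490159)
theorem F491410 : act 0 n191651 = n217956 := d17_2 (iv1 F367805) D191651 F491407 F441002 (iv5 D195172) (iv0 F367309) (iv5 F440834) F487239 F487236
theorem F491411 : act 1 n191650 = n217956 := d17_6 F441053 D206503 F441411 F441410 (iv4 D191649) D191650 F491407 (iv0 F441004) (iv4 F441051)
theorem F491412 : act 6 n217955 = n216993 := d7_0 F491409 (iv6 D217956) D217955
def n217957 : Q := act 1 n188203
theorem D217957 : act 1 n188203 = n217957 := rfl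
theorem F491413 : act 1 n217957 = n217227 := d15_1 D217957 (iv7 F488027) (iv2 F372651)
theorem F491414 : act 7 n217957 = n217081 := d15_2 (iv0 F372653) D217957 F487313
theorem F491415 : act 4 n217957 = n188277 := d18_7 (iv1 F370976) F370917 (iv1 D91108) F66891 D91070 D188203 D217957 F372930 (iv5 F370974)
theorem F491416 : act 2 n217228 = n217957 := d1_3 F491415 (iv2 F372932) (iv4 F488029)
theorem F491417 : act 6 n217248 = n217957 := d10_0 F491415 (iv6 F441114) D217248
theorem F491418 : act 5 n216508 = n217957 := d16_1 (iv4 F484726) F491415 (iv5 F375738) F375737 F372785 (iv4 F489272) (iv5 F489632) F489629 F387245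
def n217958 : Q := act 3 n188203
theorem D217958 : act 3 n188203 = n217958 := rfl
theorem F491419 : act 4 n217958 = n217793 := d5_2 D188203 D217958 F490656 (iv4 F372645) F372643
theorem F491420 : act 6 n217958 = n188205 := d7_2 (iv6 F372652) D217958 (iv3 D188205)
theorem F491421 : act 5 n202916 = n217958 := d12_5 F491420 F372659 (iv6 F371197) D208653 F450342
def n217959 : Q := act 5 n188203
theorem D217959 : act 5 n188203 = n217959 := rfl
theorem F491422 : act 2 n217959 = n208747 := d2_1 D217959 F450690 (iv2 F372651)
theorem F491423 : act 3 n217959 = n202916 := d6_1 D217959 F491421 (iv3 D217958)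
theorem F491424 : act 6 n217959 = n208746 := d12_2 (iv6 F372652) D217959 F450684 (iv6 D187693) (iv5 F140125)
def n217960 : Q := act 7 n188203
theorem D217960 : act 7 n188203 = n217960 := rfl
theorem F491425 : act 2 n217960 = n217227 := d4_1 D217960 (iv7 F488027) (iv2 F372651)
theorem F491426 : act 4 n217960 = n188204 := d11_1 D217960 (iv7 D188204) D188203
theorem F491427 : act 6 n217960 = n217246 := d14_1 D217960 (iv7 D217246) (iv6 D187038) (iv7 F292347) (iv6 F372652)
theorem F491428 : act 1 n217228 = n217960 := d15_1 F488030 (iv7 D217960) F372651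
theorem F491429 : act 1 n217960 = n217081 := d15_1 F491428 (iv7 F491414) (iv2 F491416)
def n217961 : Q := act 0 n188205
theorem D217961 : act 0 n188205 = n217961 := rfl
theorem F491430 : act 4 n217961 = n207718 := d18_3 F491358 F491354 D217961 (iv5 D207718) F211888 D132246 D207724 F446163 (iv5 F454306)
theorem F491431 : act 2 n209407 = n217961 := d15_3 (iv0 D217961) (iv0 F487981) F487980
theorem F491432 : act 1 n217244 = n217961 := d15_0 (iv0 D217961) F372660 D217244
theorem F491433 : act 7 n217961 = n217243 := d15_2 F488085 F491432 (iv2 F488078)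
theorem F491434 : act 6 n209147 = n217961 := d21_9 F488083 F489915 F489913 (iv6 F488407) F431019 F352113 F352114 D207394 (iv5 F452454) (iv1 F491432)
def n217962 : Q := act 5 n188208
theorem D217962 : act 5 n188208 = n217962 := rfl
theorem F491435 : act 2 n217962 = n189965 := d2_1 D217962 F378379 (iv2 F372675)
theorem F491436 : act 3 n217962 = n188209 := d6_1 D217962 (iv5 D188209) D188208
theorem F491437 : act 7 n217962 = n192862 := d13_2 (iv7 F372677) D217962 (iv5 D192862)
theorem F491438 : act 0 n217962 = n189425 := d17_2 F372680 D217962 F376583 (iv4 D183478) D183479 F367662 F367660 F148557 (iv4 F360352)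
theorem F491439 : act 1 n217962 = n190211 := d17_6 (iv1 D82488) D82489 D172226 F361754 (iv4 F372676) D217962 (iv5 D190211) F270483 F148707
def n217963 : Q := act 5 n188210
theorem D217963 : act 5 n188210 = n217963 := rfl
theorem F491440 : act 2 n217963 = n193592 := d2_1 D217963 (iv5 D193592) (iv2 F372681)
theorem F491441 : act 3 n217963 = n214728 := d6_1 D217963 (iv5 F489643) F489642
theorem F491442 : act 6 n217963 = n215708 := d12_2 D188210 D217963 F481191 (iv6 F463234) (iv5 D188209)
theorem F491443 : act 7 n217963 = n193591 := d13_2 (iv7 F372683) D217963 (iv5 D193591)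
theorem F491444 : act 0 n217963 = n190274 := d17_2 (iv1 F394945) D217963 (iv5 D190274) (iv4 F367596) (iv5 F372377) (iv0 F372378) F374166 F380665 (iv4 F394942)
theorem F491445 : act 1 n217963 = n190231 := d17_6 (iv1 D88857) D88859 D186567 F362409 (iv4 F372682) D217963 (iv5 D190231) F289501 (iv4 D186562)
theorem F491446 : act 2 n215708 = n216911 := d3_1 F491442 F486510 (iv2 F491440)
theorem F491447 : act 7 n216912 = n215708 := d15_2 (iv0 D216911) D216912 F491446
theorem F491448 : act 7 n215709 = n216911 := d15_2 (iv0 D215708) D215709 (iv2 F491446)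
theorem F491449 : act 2 n216912 = n215709 := d4_3 F491448 (iv2 F491446) (iv7 F491447)
def n217964 : Q := act 6 n188213
theorem D217964 : act 6 n188213 = n217964 := rfl
theorem F491450 : act 2 n217964 = n188218 := d3_1 D217964 (iv6 D188218) (iv2 F372691)
theorem F491451 : act 4 n217964 = n198974 := d10_1 D217964 F410121 (iv4 F372695)
theorem F491452 : act 5 n217964 = n194914 := d12_1 D217964 (iv6 D194914) (iv5 D104756) (iv6 F293828) D188213
theorem F491453 : act 0 n217964 = n200361 := d21_4 (iv5 D96130) (iv1 F293827) D188213 D217964 (iv6 D200361) D200360 F416137 F382730 (iv6 F360835) F294514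
theorem F491454 : act 1 n217964 = n215659 := d15_1 (iv0 F491453) F480998 (iv2 F416138)
def n217965 : Q := act 5 n188215
theorem D217965 : act 5 n188215 = n217965 := rfl
theorem F491455 : act 2 n217965 = n188229 := d2_1 D217965 (iv5 D188229) (iv2 F372700)
theorem F491456 : act 3 n217965 = n192959 := d6_1 D217965 F485002 F484998
theorem F491457 : act 6 n217965 = n188216 := d12_2 D188215 D217965 (iv5 D188216) (iv6 D91095) D91094
theorem F491458 : act 7 n217965 = n193746 := d13_2 F372702 D217965 F390889
theorem F491459 : act 4 n217965 = n192164 := d16_2 (iv4 F372701) D217965 (iv5 D192164) F346658 (iv5 F340530) (iv4 F387240) (iv5 D192610) (iv7 F372742) F372736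
theorem F491460 : act 0 n204609 = n217965 := d21_7 (iv5 D89119) (iv1 D41636) D41637 (iv6 F136825) D186765 (iv6 F394062) (iv5 F433007) (iv5 D217965) (iv6 D188215) F335332
def n217966 : Q := act 4 n188221
theorem D217966 : act 4 n188221 = n217966 := rfl
theorem F491461 : act 2 n217966 = n216791 := d1_1 D217966 (iv4 F485933) F383072
theorem F491462 : act 7 n217966 = n216790 := d11_2 (iv7 F372722) D217966 F485929
theorem F491463 : act 0 n217966 = n216768 := d18_2 F381198 D217966 (iv4 D216768) (iv5 D185476) (iv4 F287716) (iv0 F372688) (iv4 D188211) F370943 (iv5 F375815)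
theorem F491464 : act 1 n217966 = n188473 := d18_6 F66332 (iv4 F71405) D96949 (iv4 F295340) (iv5 F372721) D217966 (iv4 D188473) (iv0 F294376) (iv5 D88971)
theorem F491465 : act 6 n217966 = n206688 := d21_5 F475318 F420082 (iv5 F421646) (iv6 F421649) (iv1 F491464) (iv5 D206688) (iv1 F212442) (iv5 F212782) (iv6 F398576) (iv1 F475312)
def n217967 : Q := act 6 n188221
theorem D217967 : act 6 n188221 = n217967 := rfl
theorem F491466 : act 3 n217967 = n188223 := d7_1 D217967 (iv6 D188223) D188221
theorem F491467 : act 4 n217967 = n206688 := d10_1 D217967 (iv6 F491465) (iv4 D217966)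
theorem F491468 : act 5 n217967 = n192881 := d12_1 D217967 (iv6 D192881) (iv5 F375506) F375507 (iv5 F372721)
theorem F491469 : act 0 n217967 = n208255 := d21_10 (iv5 D208255) F424887 (iv5 F424888) (iv6 F429509) F429511 F403368 (iv5 D186441) (iv1 F295338) (iv5 F372721) D217967
def n217968 : Q := act 1 n188223
theorem D217968 : act 1 n188223 = n217968 := rfl
theorem F491470 : act 1 n217968 = n189134 := d15_1 D217968 (iv7 F390212) (iv2 F372726)
theorem F491471 : act 7 n217968 = n189135 := d15_2 (iv0 F372728) D217968 (iv2 D189135)
theorem F491472 : act 5 n217968 = n202663 := d17_7 (iv1 F385928) F385926 (iv1 F368390) F368776 (iv4 F368775) (iv5 F372727) D217968 (iv0 D202663) (iv4 F362228)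
theorem F491473 : act 3 n189150 = n217968 := d19_19 (iv1 D217968) F372727 F368775 (iv3 F381775) (iv1 F390764) (iv5 F379464) (iv4 F436412) F436411 (iv1 F313328) F313329 (iv4 F392808) F451420 (iv1 F467665) F467662 (iv4 F415393) F462032 (iv1 D211537) F451037 F451035
theorem F491474 : act 6 n197594 = n217968 := d21_3 F217230 F442135 F442136 (iv1 D217968) (iv6 D188223) F356248 (iv1 D43605) D43608 D93215 F358067
theorem F491475 : act 2 n217968 = n188701 := d3_1 F491474 (iv6 F405088) F405087
theorem F491476 : act 4 n217968 = n216491 := d10_1 F491474 (iv6 D216491) (iv4 F404961)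
def n217969 : Q := act 7 n188223
theorem D217969 : act 7 n188223 = n217969 := rfl
theorem F491477 : act 2 n217969 = n189134 := d4_1 D217969 (iv7 F390212) (iv2 F372726)
theorem F491478 : act 5 n217969 = n192884 := d13_1 D217969 (iv7 D192884) (iv5 F372727)
theorem F491479 : act 6 n217969 = n217101 := d14_1 D217969 (iv7 D217101) (iv6 D186774) (iv7 F356246) D188223
theorem F491480 : act 1 n188701 = n217969 := d15_1 (iv0 F380067) (iv7 D217969) F372726
theorem F491481 : act 1 n217969 = n189135 := d15_1 F491480 (iv7 F491471) F491475
def n217970 : Q := act 6 n188224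
theorem D217970 : act 6 n188224 = n217970 := rfl
theorem F491482 : act 4 n217970 = n190514 := d10_1 D217970 (iv6 D190514) (iv4 F372729)
theorem F491483 : act 5 n217970 = n213500 := d12_1 D217970 (iv6 D213500) (iv5 F449678) F449679 F419118
theorem F491484 : act 0 n217970 = n201209 := d21_4 D189088 (iv1 F419116) F419118 D217970 F458463 F458461 F410198 (iv5 F458221) F458222 (iv1 D189087)
theorem F491485 : act 0 n201208 = n217970 := d21_4 F454160 (iv1 F453399) (iv5 F454151) (iv6 F454153) (iv6 D217970) (iv5 F419118) (iv1 D201109) (iv5 F367900) (iv6 F487356) F487359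
def n217971 : Q := act 6 n188225
theorem D217971 : act 6 n188225 = n217971 := rfl
theorem F491486 : act 2 n217971 = n216350 := d3_1 D217971 (iv6 D216350) (iv2 F372732)
theorem F491487 : act 4 n217971 = n191766 := d10_1 D217971 (iv6 D191766) F372731
theorem F491488 : act 5 n217971 = n191464 := d12_1 D217971 (iv6 D191464) (iv5 F290990) D188750 F374706
theorem F491489 : act 0 n216491 = n217971 := d21_4 (iv5 D207096) (iv1 F357809) (iv5 F366801) D216491 (iv6 D217971) (iv5 F374706) F375703 (iv5 D189088) D189089 (iv1 F443298)
theorem F491490 : act 1 n189136 = n217971 := d18_8 F483456 F486296 (iv1 F486293) D217143 F487643 (iv4 F451821) (iv0 D189134) D189136 F491488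
def n217972 : Q := act 1 n188229
theorem D217972 : act 1 n188229 = n217972 := rfl
theorem F491491 : act 1 n217972 = n193746 := d15_1 D217972 (iv7 F491458) F491455
theorem F491492 : act 5 n217972 = n209392 := d17_7 (iv1 F387198) (iv5 F393956) (iv1 F393961) (iv5 F372739) F372738 D188229 D217972 (iv0 F453545) (iv4 D194404)
theorem F491493 : act 6 n193549 = n217972 := d21_3 (iv5 F479125) (iv1 F479130) F390231 (iv1 D217972) F372749 (iv5 D91105) (iv1 F292384) D46978 (iv6 F154830) D192814
theorem F491494 : act 2 n217972 = n204609 := d3_1 F491493 (iv6 D204609) F390230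
def n217973 : Q := act 7 n188229
theorem D217973 : act 7 n188229 = n217973 := rfl
theorem F491495 : act 2 n217973 = n193746 := d4_1 D217973 (iv7 F491458) F491455
theorem F491496 : act 3 n217973 = n188242 := d8_1 D217973 (iv7 D188242) (iv3 F372748)
theorem F491497 : act 4 n217973 = n192165 := d11_1 D217973 F385825 (iv4 F372750)
theorem F491498 : act 5 n217973 = n188230 := d13_1 D217973 (iv7 D188230) D188229
theorem F491499 : act 6 n217973 = n193766 := d14_1 D217973 (iv7 D193766) (iv6 D102303) (iv7 F292395) (iv6 F372749)
theorem F491500 : act 1 n204609 = n217973 := d15_1 (iv0 F491460) (iv7 D217973) (iv2 F491455)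
def n217974 : Q := act 4 n188233
theorem D217974 : act 4 n188233 = n217974 := rfl
theorem F491501 : act 2 n217974 = n192369 := d1_1 D217974 F386591 (iv2 F372770)
theorem F491502 : act 6 n217974 = n191911 := d10_2 (iv6 F480558) D217974 (iv4 F480556)
theorem F491503 : act 7 n217974 = n193761 := d11_2 (iv7 F372768) D217974 (iv4 D193761)
theorem F491504 : act 5 n217974 = n191910 := d16_1 D217974 (iv4 F394588) (iv5 D178087) (iv4 F302359) (iv5 F479259) F479258 (iv5 F372763) (iv7 F372766) (iv2 F372770)
theorem F491505 : act 0 n217974 = n216722 := d17_0 F485623 F457871 (iv5 D192823) (iv4 D100743) (iv5 D46978) F292384 D91105 D188233 D217974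
theorem F491506 : act 1 n217974 = n216724 := d18_6 (iv1 F483591) (iv4 F379259) F380926 F380923 F372769 D217974 (iv4 D216724) F392081 (iv5 F483587)
def n217975 : Q := act 3 n188234
theorem D217975 : act 3 n188234 = n217975 := rfl
theorem F491507 : act 2 n217975 = n209789 := d0_1 D217975 F454955 (iv2 F452813) (iv3 F471331) F471330
theorem F491508 : act 4 n217975 = n188243 := d5_2 D188234 D217975 (iv3 D188243) (iv4 D91111) (iv3 F140150)
theorem F491509 : act 5 n217975 = n210532 := d6_2 F388252 D217975 (iv3 F457948)
theorem F491510 : act 6 n217975 = n193742 := d7_2 (iv6 F372771) D217975 F390869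
theorem F491511 : act 7 n217975 = n193555 := d8_2 (iv7 F372772) D217975 F390262
theorem F491512 : act 0 n217975 = n210414 := d19_4 (iv1 D91104) D91105 D188234 D217975 (iv5 D210414) (iv4 F415570) (iv3 D200219) (iv1 F175746) (iv5 F404501) F404500 (iv3 D187257) (iv1 F147299) (iv5 F148104) (iv4 D96282) (iv3 F328287) F171263 (iv5 F340581) (iv4 F372756) (iv3 D188231)
def n217976 : Q := act 1 n188236
theorem D217976 : act 1 n188236 = n217976 := rfl
theorem F491513 : act 1 n217976 = n188237 := d15_1 D217976 (iv7 F489605) F489602
theorem F491514 : act 7 n217976 = n217602 := d15_2 (iv0 F373182) D217976 F489740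
theorem F491515 : act 5 n217976 = n217113 := d18_9 (iv1 D217113) (iv4 F373065) F465501 F486961 (iv5 F489294) (iv4 F489296) (iv0 F483470) F483469 D217976
theorem F491516 : act 3 n193749 = n217976 := d20_3 (iv4 D102290) D102288 D193749 (iv1 D217976) F439948 (iv4 D206255) F366120 D210487 F484593 (iv1 D193754)
theorem F491517 : act 6 n191304 = n217976 := d21_3 F390886 (iv1 F352877) F382960 (iv1 D217976) F480617 (iv5 F480618) F445362 (iv5 F390892) (iv6 D193747) (iv1 F390884)
theorem F491518 : act 2 n217976 = n193752 := d3_1 F491517 (iv6 D193752) (iv2 F382961)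
def n217977 : Q := act 4 n188237
theorem D217977 : act 4 n188237 = n217977 := rfl
theorem F491519 : act 6 n217977 = n193803 := d10_2 F372780 D217977 (iv4 D193803)
theorem F491520 : act 1 n217977 = n214444 := d18_6 (iv1 F142602) (iv4 F370973) (iv1 F370976) F370917 D188237 D217977 F489296 (iv0 D217520) (iv5 D187481)
theorem F491521 : act 5 n211195 = n217977 := d17_7 (iv1 F489295) (iv5 D187483) (iv1 D90238) (iv5 F138619) (iv4 F370443) F469009 (iv0 F484681) F491520 F489296
theorem F491522 : act 3 n217977 = n211200 := d6_1 F491521 (iv5 D211200) (iv3 F460566)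
def n217978 : Q := act 5 n188241
theorem D217978 : act 5 n188241 = n217978 := rfl
theorem F491523 : act 2 n217978 = n193788 := d2_1 D217978 (iv5 D193788) (iv2 F372796)
theorem F491524 : act 3 n217978 = n194690 := d6_1 D217978 (iv5 F480596) F480594
theorem F491525 : act 6 n217978 = n194689 := d12_2 (iv6 F372797) D217978 F394097 F352390 F144688
theorem F491526 : act 7 n217978 = n204523 := d13_2 F480584 D217978 (iv5 F480583)
theorem F491527 : act 0 n210531 = n217978 := d19_0 (iv5 D217978) (iv4 D188241) (iv3 F372748) (iv1 F491202) (iv5 D217907) (iv4 D188142) (iv3 D90912) (iv1 F293353) (iv5 D22570) (iv4 D10703) F62162 (iv1 D4896) D4897 D10708 D22586 D46960 D100693 D192794 (iv3 F457945)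
theorem F491528 : act 1 n204587 = n217978 := d15_0 (iv0 F491527) (iv7 F491080) F491078
def n217979 : Q := act 6 n188252
theorem D217979 : act 6 n188252 = n217979 := rfl
theorem F491529 : act 2 n217979 = n198216 := d3_1 D217979 F407258 (iv2 F372850)
theorem F491530 : act 3 n217979 = n198289 := d7_1 D217979 F473632 F473629
theorem F491531 : act 4 n217979 = n188253 := d10_1 D217979 (iv6 D188253) D188252
def n217980 : Q := act 1 n188253
theorem D217980 : act 1 n188253 = n217980 := rfl
theorem F491532 : act 1 n217980 = n203028 := d15_1 D217980 F426695 (iv2 F372854)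
theorem F491533 : act 7 n217980 = n211514 := d15_2 (iv0 F461002) D217980 F461920
theorem F491534 : act 5 n217980 = n211291 := d17_7 (iv1 F225373) (iv5 F225374) F320289 F200239 D117548 (iv5 F372855) D217980 (iv0 D211291) F366073
theorem F491535 : act 4 n217980 = n198095 := d17_9 F406775 F168950 D140396 (iv5 F405379) (iv4 F461926) F461925 (iv0 F346011) (iv5 F372855) D217980
theorem F491536 : act 1 n197792 = n217979 := d18_6 (iv1 F460992) (iv4 D142460) F318481 D178886 D215953 F482248 F491531 D217980 F491534
theorem F491537 : act 3 n212442 = n217980 := d19_19 (iv1 D217980) F372855 (iv4 D117548) F242919 (iv1 F105315) F321222 D116428 D202694 F425141 F398650 F359954 (iv3 F359953) (iv1 F218249) (iv5 F422692) (iv4 F457831) (iv3 F457833) (iv1 F424442) (iv5 F460562) (iv4 F465811)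
theorem F491538 : act 2 n217980 = n188367 := d0_1 F491537 (iv3 D188367) F378679 D188331 (iv2 F465810)
theorem F491539 : act 6 n217759 = n217980 := d10_0 F491535 F420159 D217759
def n217981 : Q := act 7 n188253
theorem D217981 : act 7 n188253 = n217981 := rfl
theorem F491540 : act 2 n217981 = n203028 := d4_1 D217981 F426695 (iv2 F372854)
theorem F491541 : act 5 n217981 = n202994 := d13_1 D217981 F426566 (iv5 F372855)
theorem F491542 : act 6 n217981 = n188352 := d14_1 D217981 F375759 (iv6 D189102) (iv7 F338442) D188253
theorem F491543 : act 1 n188367 = n217981 := d15_1 (iv0 F393571) (iv7 D217981) F372854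
theorem F491544 : act 1 n217981 = n211514 := d15_1 F491543 (iv7 F491533) F491538
def n217982 : Q := act 5 n188255
theorem D217982 : act 5 n188255 = n217982 := rfl
theorem F491545 : act 2 n217982 = n188267 := d2_1 D217982 (iv5 D188267) (iv2 F372861)
theorem F491546 : act 3 n217982 = n217081 := d6_1 D217982 (iv5 F489617) F489615
theorem F491547 : act 6 n217982 = n188257 := d12_2 D188255 D217982 (iv5 D188257) (iv6 D91124) D91123
theorem F491548 : act 4 n217982 = n202917 := d16_2 (iv4 F372862) D217982 (iv5 D202917) (iv4 F388495) (iv5 F490078) F490077 F407125 F372903 F372893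
def n217983 : Q := act 6 n188260
theorem D217983 : act 6 n188260 = n217983 := rfl
theorem F491549 : act 3 n217983 = n210922 := d7_1 D217983 (iv6 F459300) (iv3 F372885)
theorem F491550 : act 4 n217983 = n188261 := d10_1 D217983 (iv6 D188261) D188260
theorem F491551 : act 0 n208827 = n217983 := d21_4 F451328 F451021 (iv5 D208826) D208827 (iv6 D217983) F372884 (iv1 F476838) (iv5 F483873) F483874 (iv1 F451331)
def n217984 : Q := act 4 n188262
theorem D217984 : act 4 n188262 = n217984 := rfl
theorem F491552 : act 2 n217984 = n217127 := d1_1 D217984 (iv4 D217127) F372888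
theorem F491553 : act 3 n217984 = n206274 := d5_1 D217984 F470491 F470489 (iv4 D188263) D188262
theorem F491554 : act 7 n217984 = n217123 := d11_2 (iv7 F372887) D217984 (iv4 D217123)
theorem F491555 : act 0 n217984 = n216902 := d18_2 (iv1 F372951) D217984 (iv4 D216902) F367139 (iv4 F158220) (iv0 F372835) (iv4 D188249) F362647 D91148
theorem F491556 : act 1 n217984 = n213734 := d18_6 D88735 D186279 F375748 (iv4 D189099) (iv5 F372886) D217984 F471840 (iv0 D186288) (iv5 D88738)
def n217985 : Q := act 6 n188264
theorem D217985 : act 6 n188264 = n217985 := rfl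
theorem F491557 : act 2 n217985 = n214269 := d3_1 D217985 (iv6 D214269) F372891
theorem F491558 : act 3 n217985 = n217824 := d7_1 D217985 (iv6 D217824) (iv3 F376980)
theorem F491559 : act 4 n217985 = n216328 := d10_1 D217985 (iv6 D216328) (iv4 F372890)
theorem F491560 : act 0 n217985 = n208567 := d21_4 (iv5 F301261) F301258 (iv5 F372889) D217985 (iv6 D208567) F404824 (iv1 D115741) D115743 (iv6 F341400) F363991
theorem F491561 : act 0 n189151 = n217985 := d21_4 F444166 (iv1 F432861) (iv5 F434642) (iv6 F434646) (iv6 D217985) F372889 (iv1 F301263) (iv5 F373054) F373053 (iv1 F444168)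
theorem F491562 : act 1 n196826 = n211538 := d18_8 F491561 F491559 F483862 (iv4 F449931) (iv5 D196736) D196735 (iv0 F401638) (iv4 F401923) F462034
def n217986 : Q := act 3 n188266
theorem D217986 : act 3 n188266 = n217986 := rfl
theorem F491563 : act 2 n217986 = n199602 := d0_1 D217986 F412812 F365354 (iv3 F387272) F387271
theorem F491564 : act 4 n217986 = n192544 := d5_2 F387656 D217986 F470487 (iv4 D213457) (iv3 F387655)
theorem F491565 : act 6 n217986 = n199592 := d7_2 F453772 D217986 (iv3 F453769)
theorem F491566 : act 0 n217986 = n213682 := d20_4 (iv4 F371868) D192750 F387656 D217986 F471616 F470450 F360788 F131728 (iv3 F131714) D179748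
theorem F491567 : act 0 n217712 = n217986 := d20_4 (iv4 D201544) F178878 D187802 D217712 (iv3 D217986) (iv4 F387656) (iv1 F387658) F365258 (iv3 F356704) (iv1 F420905)
def n217987 : Q := act 5 n188266
theorem D217987 : act 5 n188266 = n217987 := rfl
theorem F491568 : act 6 n217987 = n209406 := d12_2 F453772 D217987 (iv5 F453773) (iv6 D209453) D209452
def n217988 : Q := act 1 n188267
theorem D217988 : act 1 n188267 = n217988 := rfl
theorem F491569 : act 6 n210064 = n217988 := d21_3 (iv5 F427446) (iv1 F220603) (iv5 F456010) (iv1 D217988) F372905 (iv5 D91131) D91129 (iv5 F368835) (iv6 F449744) F449747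
theorem F491570 : act 5 n208903 = n217988 := d21_6 F357623 (iv1 F140048) (iv5 F140246) F339514 (iv1 F217535) D208903 (iv1 D217988) (iv5 D188267) (iv6 D91128) D91125
def n217989 : Q := act 4 n188267
theorem D217989 : act 4 n188267 = n217989 := rfl
theorem F491571 : act 2 n217989 = n202917 := d1_1 D217989 (iv4 F491548) F491545
theorem F491572 : act 6 n217989 = n188271 := d10_2 (iv6 F372905) D217989 (iv4 D188271)
theorem F491573 : act 5 n217989 = n202905 := d16_5 F407123 (iv5 F372896) F372895 D188267 D217989 F426139 D212402 (iv7 F465673) F442641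
theorem F491574 : act 3 n217742 = n217989 := d6_3 F491573 F426138 D217742
def n217990 : Q := act 7 n188267
theorem D217990 : act 7 n188267 = n217990 := rfl
theorem F491575 : act 3 n217990 = n188279 := d8_1 D217990 (iv7 D188279) (iv3 F372904)
theorem F491576 : act 5 n217990 = n188268 := d13_1 D217990 (iv7 D188268) D188267
theorem F491577 : act 6 n217990 = n217236 := d14_1 D217990 (iv7 D217236) (iv6 D187029) (iv7 F292657) (iv6 F372905)
def n217991 : Q := act 3 n188270
theorem D217991 : act 3 n188270 = n217991 := rfl
theorem F491578 : act 2 n217991 = n216616 := d0_1 D217991 (iv3 D216616) (iv2 F364164) (iv3 F368033) F372913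
theorem F491579 : act 5 n217991 = n188580 := d6_2 (iv5 F372912) D217991 F374062
theorem F491580 : act 7 n217991 = n213326 := d8_2 (iv7 F372915) D217991 F469939
theorem F491581 : act 0 n217991 = n216421 := d19_4 F426952 (iv5 F485793) F485794 D217991 (iv5 D216421) F285527 (iv3 F386172) (iv1 F386177) (iv5 F429188) F429186 (iv3 F324822) F349406 F281141 F193156 F321133 (iv1 F341173) (iv5 D117671) D117670 D203097
theorem F491582 : act 4 n217991 = n209581 := d20_6 D46022 (iv1 F292658) (iv4 D91138) (iv3 F140164) D188270 D217991 F475587 (iv4 D191456) (iv3 D98369) (iv1 D46021)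
theorem F491583 : act 6 n213744 = n217991 := d10_0 F491582 (iv6 F482436) F482438
def n217992 : Q := act 6 n188270
theorem D217992 : act 6 n188270 = n217992 := rfl
theorem F491584 : act 2 n217992 = n217117 := d3_1 D217992 (iv6 D217117) F372913
theorem F491585 : act 3 n217992 = n213744 := d7_1 D217992 F491583 (iv3 D217991)
theorem F491586 : act 4 n217992 = n216796 := d10_1 D217992 (iv6 F485946) F485794
theorem F491587 : act 5 n217992 = n202928 := d12_1 D217992 (iv6 D202928) F337264 (iv6 F337265) (iv5 F372912)
theorem F491588 : act 7 n217992 = n213341 := d14_2 (iv7 F372915) D217992 (iv6 D213341) (iv7 D153547) (iv6 F241329)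
theorem F491589 : act 0 n217992 = n192894 := d21_10 (iv5 F426399) (iv1 D202961) D202962 F426401 (iv1 D193671) (iv6 F288531) (iv5 D185992) F337268 (iv5 F372912) D217992
theorem F491590 : act 1 n217992 = n217197 := d15_1 (iv0 F491589) F487894 F426896
def n217993 : Q := act 1 n188272
theorem D217993 : act 1 n188272 = n217993 := rfl
theorem F491591 : act 1 n217993 = n188274 := d15_1 D217993 (iv7 F389697) F389695
def n217994 : Q := act 4 n188272
theorem D217994 : act 4 n188272 = n217994 := rfl
theorem F491592 : act 6 n217994 = n217112 := d10_2 (iv6 F372920) D217994 (iv4 D217112)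
theorem F491593 : act 3 n217994 = n217193 := d19_3 D91133 D188272 D217994 F487878 (iv5 D188274) F370917 (iv3 F370916) (iv1 F370633) F294573 F337973 (iv3 F287498) (iv1 F429741) (iv5 D203764) (iv4 F429724) F429730 (iv1 D198181) (iv5 F372896) F372895 F140163
def n217995 : Q := act 5 n188273
theorem D217995 : act 5 n188273 = n217995 := rfl
theorem F491594 : act 3 n217995 = n188274 := d6_1 D217995 (iv5 D188274) D188273
theorem F491595 : act 7 n217995 = n212987 := d13_2 (iv7 F372921) D217995 (iv5 D212987)
theorem F491596 : act 4 n217995 = n192620 := d16_2 F372923 D217995 (iv5 D192620) F385309 F385307 F374098 F374097 (iv7 F375301) (iv2 F375304)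
theorem F491597 : act 6 n217995 = n217032 := d21_3 (iv5 D217681) (iv1 F374793) D217995 (iv1 F487057) F458787 (iv5 D210787) (iv1 F385506) (iv5 F462505) (iv6 F483398) (iv1 F490085)
def n217996 : Q := act 6 n188273
theorem D217996 : act 6 n188273 = n217996 := rfl
theorem F491598 : act 2 n217996 = n212998 := d3_1 D217996 F489658 F489659
theorem F491599 : act 3 n217996 = n188275 := d7_1 D217996 (iv6 D188275) D188273
theorem F491600 : act 4 n217996 = n192535 := d10_1 D217996 (iv6 D192535) F372923
theorem F491601 : act 7 n217996 = n212932 := d14_2 (iv7 F372921) D217996 (iv6 D212932) F238349 D151960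
theorem F491602 : act 1 n212996 = n217996 := d15_1 D212996 F491601 F468191
theorem F491603 : act 0 n210701 = n217996 := d18_0 F491600 (iv1 F466656) F466651 (iv5 F454250) (iv4 F455877) (iv0 F489566) F489563 (iv0 F460449) F460448
def n217997 : Q := act 4 n188274
theorem D217997 : act 4 n188274 = n217997 := rfl
def n217998 : Q := act 5 n188276
theorem D217998 : act 5 n188276 = n217998 := rfl
theorem F491604 : act 2 n217998 = n217233 := d2_1 D217998 (iv5 D217233) F372927
theorem F491605 : act 3 n217998 = n206217 := d6_1 D217998 F439764 F439753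
theorem F491606 : act 4 n217998 = n214387 := d9_1 D217998 (iv5 F474917) (iv4 F484509) F484510 (iv4 F484726) F491418 F491415 (iv5 F375738) F375737 F372785 (iv4 F489272) (iv5 F489632) F489628 F370960 F372928
theorem F491607 : act 6 n217998 = n188350 := d12_2 (iv6 F372926) D217998 (iv5 F385644) F385643 (iv5 F368848)
theorem F491608 : act 7 n217998 = n188314 := d13_2 F372929 D217998 F373066
theorem F491609 : act 1 n217998 = n188369 := d17_8 (iv1 F486965) F486954 (iv1 F370450) F367245 (iv4 F370973) F370974 F372933 D217998 (iv4 F387567)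
def n217999 : Q := act 3 n188277
theorem D217999 : act 3 n188277 = n217999 := rfl
theorem F491610 : act 5 n217999 = n192530 := d6_2 F375738 D217999 F386979
theorem F491611 : act 6 n217999 = n217247 := d7_2 F441114 D217999 (iv3 D217247)
theorem F491612 : act 7 n217999 = n217232 := d8_2 (iv7 F372931) D217999 (iv3 D217232)
theorem F491613 : act 4 n192627 = n217999 := d11_3 F491612 (iv4 F488044) (iv7 F469955)
theorem F491614 : act 1 n216855 = n217999 := d15_1 (iv0 F486242) F491612 F488042
theorem F491615 : act 1 n217999 = n217681 := d15_1 F491614 F490084 (iv2 F486240)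
def n218000 : Q := act 3 n188278
theorem D218000 : act 3 n188278 = n218000 := rfl
theorem F491616 : act 2 n218000 = n216761 := d0_1 D218000 (iv3 D216761) F483850 (iv3 F483848) (iv2 F372934)
theorem F491617 : act 4 n218000 = n217742 := d5_2 D188278 D218000 F491574 (iv4 D217989) F372904
theorem F491618 : act 6 n218000 = n188280 := d7_2 (iv6 F372935) D218000 (iv3 D188280)
theorem F491619 : act 0 n218000 = n191732 := d19_4 (iv1 D91134) D91135 D188278 D218000 F384295 (iv4 D100452) F135030 (iv1 D40917) (iv5 D19282) F14146 (iv3 F14139) D19266 D40870 F290655 (iv3 F142406) D188586 (iv5 F375288) F372923 (iv3 D188273)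
theorem F491620 : act 0 n192613 = n218000 := d20_4 (iv4 F487314) (iv1 F491429) F491426 (iv3 F387251) (iv3 D218000) (iv4 D188278) D188276 (iv4 F372928) F368866 D187024
theorem F491621 : act 5 n218000 = n208780 := d17_3 (iv1 F384367) D192613 F491620 (iv4 F489553) F489549 (iv0 F388526) (iv5 D193017) F387112 (iv4 F384365)
theorem F491622 : act 7 n217938 = n218000 := d13_0 F491621 (iv7 F450833) (iv5 F491342)
def n218001 : Q := act 5 n188278
theorem D218001 : act 5 n188278 = n218001 := rfl
theorem F491623 : act 2 n218001 = n217231 := d2_1 D218001 (iv5 D217231) (iv2 F372934)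
theorem F491624 : act 3 n218001 = n208780 := d6_1 D218001 (iv5 F491621) (iv3 D218000)
theorem F491625 : act 6 n218001 = n204555 := d12_2 (iv6 F372935) D218001 F432852 (iv6 D187774) (iv5 F140171)
theorem F491626 : act 0 n217748 = n218001 := d19_0 (iv5 D218001) (iv4 D188278) (iv3 F372904) F453800 (iv5 F453799) F453798 (iv3 D194684) (iv1 D104010) F293969 (iv4 D42218) (iv3 F65147) D90290 (iv5 F370556) D217529 F489334 (iv1 F374095) (iv5 F372324) F372325 D217748
theorem F491627 : act 0 n218001 = n210537 := d21_4 F447178 F443249 (iv5 F432852) (iv6 F491625) (iv6 D210537) D210536 (iv1 F457969) (iv5 F457779) F457780 (iv1 F447181)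
def n218002 : Q := act 7 n188278
theorem D218002 : act 7 n188278 = n218002 := rfl
theorem F491628 : act 2 n218002 = n216759 := d4_1 D218002 F485816 (iv2 F372934)
theorem F491629 : act 3 n218002 = n217938 := d8_1 D218002 F491622 (iv3 D218000)
theorem F491630 : act 4 n218002 = n188279 := d11_1 D218002 (iv7 D188279) D188278
theorem F491631 : act 6 n218002 = n217241 := d14_1 D218002 (iv7 D217241) (iv6 D187031) F293347 (iv6 F372935)
theorem F491632 : act 1 n217230 = n218002 := d15_1 D217230 (iv7 D218002) F372934
theorem F491633 : act 1 n218002 = n216320 := d15_1 F491632 F483822 F488037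
theorem F491634 : act 0 n217955 = n216988 := d20_4 (iv4 F491630) (iv1 F491632) F488036 D217955 F490453 (iv4 F490454) F467520 F488044 (iv3 D217232) (iv1 F372940)
def n218003 : Q := act 6 n188281
theorem D218003 : act 6 n188281 = n218003 := rfl
theorem F491635 : act 2 n218003 = n188285 := d3_1 D218003 (iv6 D188285) (iv2 F372943)
theorem F491636 : act 3 n218003 = n197597 := d7_1 D218003 (iv6 F404965) (iv3 F372944)
theorem F491637 : act 5 n218003 = n216442 := d12_1 D218003 (iv6 D216442) (iv5 D183850) (iv6 F292618) D188281
theorem F491638 : act 7 n218003 = n213735 := d14_2 F377034 D218003 (iv6 F471845) (iv7 F471618) F471617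
theorem F491639 : act 0 n218003 = n213730 := d21_4 (iv5 D184502) (iv1 F292616) D188281 D218003 (iv6 F471822) F450009 (iv1 F216845) D135033 (iv6 F364232) F294595
theorem F491640 : act 1 n218003 = n212587 := d15_1 (iv0 F491639) F466561 (iv2 F471819)
def n218004 : Q := act 4 n188283
theorem D218004 : act 4 n188283 = n218004 := rfl
theorem F491641 : act 2 n218004 = n217123 := d1_1 D218004 (iv4 D217123) F372949
theorem F491642 : act 3 n218004 = n208279 := d5_1 D218004 (iv4 D208279) F379874 (iv4 F384213) F384212
theorem F491643 : act 7 n218004 = n217127 := d11_2 F372950 D218004 (iv4 D217127)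
theorem F491644 : act 0 n218004 = n213734 := d18_2 (iv1 F377036) D218004 F471840 F367129 D188599 (iv0 F374161) F288644 F158170 (iv5 F377033)
theorem F491645 : act 1 n218004 = n216902 := d18_6 (iv1 F293934) (iv4 F294789) F157236 (iv4 F294592) (iv5 F372948) D218004 (iv4 D216902) F367067 (iv5 D99010)
def n218005 : Q := act 5 n188284
theorem D218005 : act 5 n188284 = n218005 := rfl
theorem F491646 : act 6 n218005 = n211858 := d12_2 (iv6 F374334) D218005 F463289 (iv6 D189058) (iv5 F374333)
theorem F491647 : act 4 n218005 = n211855 := d16_2 D188284 D218005 (iv5 D211855) (iv4 F359560) F293472 D102857 (iv5 F377033) F377034 F372943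
theorem F491648 : act 0 n218005 = n217017 := d17_2 F486468 D218005 (iv5 D217017) (iv4 D186647) F291613 D90202 F367070 F367068 D216899
theorem F491649 : act 1 n218005 = n205079 := d17_6 (iv1 F368140) F368141 (iv1 D91146) D91148 D188284 D218005 F434898 F450750 F450748
def n218006 : Q := act 1 n188285
theorem D218006 : act 1 n188285 = n218006 := rfl
theorem F491650 : act 1 n218006 = n213735 := d15_1 D218006 (iv7 F491638) F491635
theorem F491651 : act 7 n218006 = n213730 := d15_2 (iv0 F374335) D218006 F471819
theorem F491652 : act 5 n218006 = n213807 := d17_7 F459148 F459146 (iv1 F359961) D202302 F423554 (iv5 F372954) D218006 F472180 F468780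
theorem F491653 : act 4 n218006 = n212586 := d18_7 F424014 F424013 (iv1 F237140) (iv4 F357084) (iv5 F374333) F374332 D218006 F466560 (iv5 F362386)
theorem F491654 : act 3 n210876 = n218006 := d20_3 F374183 D192614 (iv4 F459110) (iv1 D218006) F372953 (iv4 F362828) (iv1 F142620) (iv4 F362834) (iv3 F450798) F450801
theorem F491655 : act 6 n218006 = n210875 := d7_2 D210876 F491654 (iv3 D210875)
theorem F491656 : act 0 n192618 = n210876 := d20_4 F186825 (iv1 F114574) D159754 (iv3 F387255) F491654 F491653 F466559 D213733 F471834 F419927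
theorem F491657 : act 2 n212587 = n218006 := d1_3 F491653 F466556 D212587
def n218007 : Q := act 5 n188290
theorem D218007 : act 5 n188290 = n218007 := rfl
theorem F491658 : act 2 n218007 = n195815 := d2_1 D218007 (iv5 D195815) F372974
theorem F491659 : act 6 n218007 = n213266 := d12_2 F424270 D218007 (iv5 F469632) F432422 (iv5 F424269)
theorem F491660 : act 7 n218007 = n213265 := d13_2 F377046 D218007 F469628
theorem F491661 : act 4 n218007 = n213397 := d16_2 (iv4 F372973) D218007 F470217 F370588 F370584 F163371 (iv5 F163376) (iv7 D106303) (iv2 F162644)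
theorem F491662 : act 0 n213569 = n218007 := d21_10 (iv5 D218007) (iv1 D188290) F295287 (iv6 D102396) F74706 D87002 (iv5 F136971) F308371 D154323 D213569
def n218008 : Q := act 6 n188291
theorem D218008 : act 6 n188291 = n218008 := rfl
theorem F491663 : act 2 n218008 = n188306 := d3_1 D218008 (iv6 D188306) (iv2 F372979)
theorem F491664 : act 3 n218008 = n198282 := d7_1 D218008 (iv6 D198282) F372977
theorem F491665 : act 4 n218008 = n211140 := d10_1 D218008 (iv6 D211140) (iv4 F372976)
theorem F491666 : act 5 n218008 = n189594 := d12_1 D218008 F472520 F472516 F413586 (iv5 F372975)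
theorem F491667 : act 0 n218008 = n208737 := d21_4 (iv5 F386076) F386077 (iv5 F372975) D218008 (iv6 D208737) F349690 (iv1 F216825) D134906 F373221 (iv1 F373220)
def n218009 : Q := act 3 n188297
theorem D218009 : act 3 n188297 = n218009 := rfl
theorem F491668 : act 5 n218009 = n217565 := d6_2 F465096 D218009 F489524
theorem F491669 : act 6 n218009 = n189541 := d7_2 (iv6 F402748) D218009 (iv3 F402744)
theorem F491670 : act 7 n218009 = n217593 := d8_2 F374471 D218009 (iv3 D217593)
theorem F491671 : act 2 n217859 = n218009 := d4_3 F491670 F489682 (iv7 F490961)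
theorem F491672 : act 1 n218009 = n216368 := d15_0 (iv0 F486351) (iv7 F490961) F491671
def n218010 : Q := act 7 n188299
theorem D218010 : act 7 n188299 = n218010 := rfl
theorem F491673 : act 2 n218010 = n202940 := d4_1 D218010 F426289 (iv2 F373014)
theorem F491674 : act 3 n218010 = n188301 := d8_1 D218010 (iv7 D188301) (iv3 F373015)
theorem F491675 : act 4 n218010 = n188324 := d11_1 D218010 (iv7 D188324) (iv4 F373016)
theorem F491676 : act 5 n218010 = n202633 := d13_1 D218010 F424851 (iv5 F373017)
theorem F491677 : act 6 n218010 = n217597 := d14_1 D218010 (iv7 D217597) (iv6 D187621) F140231 D188299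
theorem F491678 : act 1 n212038 = n218010 := d15_1 (iv0 F464075) (iv7 D218010) F373014
theorem F491679 : act 1 n218010 = n212275 := d15_1 F491678 F465095 (iv2 F464071)
def n218011 : Q := act 0 n188303
theorem D218011 : act 0 n188303 = n218011 := rfl
theorem F491680 : act 5 n218011 = n216561 := d17_3 (iv1 F431406) F373032 D218011 F484950 (iv5 D215044) F259236 (iv5 F420685) (iv0 F427992) (iv4 F431403)
theorem F491681 : act 4 n218011 = n199408 := d18_1 D218011 F412040 F412042 F468982 (iv4 F468981) (iv0 F474985) F474981 F453763 F373032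
theorem F491682 : act 2 n199409 = n218011 := d15_3 (iv0 D218011) F419734 (iv7 F412044)
theorem F491683 : act 1 n198292 = n218011 := d15_0 (iv0 D218011) F373031 (iv2 F407499)
theorem F491684 : act 7 n218011 = n199657 := d15_2 (iv0 F407500) F491683 F413029
theorem F491685 : act 3 n188352 = n218011 := d8_3 F491684 F413030 (iv7 F375759)
def n218012 : Q := act 2 n188303
theorem D218012 : act 2 n188303 = n218012 := rfl
theorem F491686 : act 3 n218012 = n198268 := d0_2 D188303 D218012 F407406 F372977 F372979
theorem F491687 : act 5 n218012 = n199765 := d2_2 F373032 D218012 F413396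
theorem F491688 : act 7 n218012 = n198292 := d4_2 (iv7 F373031) D218012 F407499
theorem F491689 : act 1 n218012 = n199657 := d15_0 (iv0 F413033) (iv7 F373031) D218012
theorem F491690 : act 4 n218012 = n199744 := d16_0 F413340 (iv4 D152484) (iv5 D71923) F52466 D33236 D71937 D152527 (iv7 F373031) D218012
theorem F491691 : act 1 n199409 = n218012 := d18_6 F403529 F403523 (iv1 D197206) F166882 D111299 D199409 F491690 (iv0 F413341) (iv5 F384630)
def n218013 : Q := act 4 n188303
theorem D218013 : act 4 n188303 = n218013 := rfl
theorem F491692 : act 2 n218013 = n199744 := d1_1 D218013 (iv4 F491690) (iv2 D218012)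
theorem F491693 : act 3 n218013 = n199716 := d5_1 D218013 (iv4 F413233) F375052 (iv4 D188304) D188303
theorem F491694 : act 5 n218013 = n213036 := d9_2 F373032 D218013 (iv4 D213036) (iv5 D152268) F108280 D71841 D152281 F407501 (iv4 F472110) (iv5 F472111) F468935 F239663 F108434 (iv5 F108442) (iv4 F239698)
theorem F491695 : act 6 n218013 = n212097 := d10_2 (iv6 F454775) D218013 F478206
theorem F491696 : act 7 n218013 = n213096 := d11_2 (iv7 F373031) D218013 (iv4 D213096)
theorem F491697 : act 1 n218013 = n199465 := d18_6 (iv1 F465211) (iv4 D212298) F354438 (iv4 F239698) F373032 D218013 (iv4 F412308) (iv0 F412772) (iv5 F420682)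
def n218014 : Q := act 6 n188304
theorem D218014 : act 6 n188304 = n218014 := rfl
theorem F491698 : act 2 n218014 = n211140 := d3_1 D218014 (iv6 D211140) (iv2 F373033)
theorem F491699 : act 3 n218014 = n217714 := d7_1 D218014 F490269 F375052
theorem F491700 : act 4 n218014 = n188306 := d10_1 D218014 (iv6 D188306) D188304
theorem F491701 : act 0 n218014 = n209009 := d21_10 (iv5 D209009) F361249 (iv5 F448075) F429644 (iv1 F429642) (iv6 F425372) (iv5 D202742) F182061 (iv5 F373035) D218014
theorem F491702 : act 0 n217711 = n218014 := d21_4 F370595 (iv1 F139434) D187801 D217711 (iv6 D218014) F373035 (iv1 F320904) D149726 F235474 (iv1 F370598)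
def n218015 : Q := act 6 n188305
theorem D218015 : act 6 n188305 = n218015 := rfl
theorem F491703 : act 2 n218015 = n199806 := d3_1 D218015 F413586 (iv2 F373036)
theorem F491704 : act 3 n218015 = n209428 := d7_1 D218015 (iv6 F453662) (iv3 F373037)
theorem F491705 : act 4 n218015 = n197567 := d10_1 D218015 F404860 (iv4 F373039)
theorem F491706 : act 5 n218015 = n209427 := d12_1 D218015 F454779 (iv5 F389259) (iv6 D188306) D188305
theorem F491707 : act 7 n218015 = n213129 := d14_2 (iv7 F373038) D218015 (iv6 D213129) (iv7 D152574) (iv6 F340009)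
theorem F491708 : act 0 n218015 = n210475 := d21_4 F295007 D91190 D188305 D218015 (iv6 F457693) F345621 (iv1 D126874) D126876 F345623 (iv1 D91282)
theorem F491709 : act 0 n204392 = n218015 := d21_4 (iv5 D57674) D57672 D123718 D204392 (iv6 D218015) (iv5 D188305) (iv1 F373000) F372998 (iv6 F359726) (iv1 D123726)
def n218016 : Q := act 1 n188306
theorem D218016 : act 1 n188306 = n218016 := rfl
theorem F491710 : act 7 n218016 = n208737 := d15_2 (iv0 F450413) D218016 F450644
theorem F491711 : act 3 n188350 = n218016 := d19_19 (iv1 D218016) F389259 F481559 F481557 D215894 F481962 (iv4 F478225) (iv3 D215079) (iv1 F350694) D203481 (iv4 F488160) F488159 (iv1 F368999) D192841 (iv4 F448506) F448505 (iv1 F388147) (iv5 F389710) F389709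
theorem F491712 : act 4 n206218 = n218016 := d20_0 (iv1 D218016) (iv4 F491700) F491699 (iv1 F490271) F375003 (iv4 F421807) (iv1 F475061) F475063 D214464 F475289
theorem F491713 : act 5 n214238 = n218016 := d21_0 (iv1 D218016) F389259 (iv6 F454779) F453653 F351887 F304670 (iv1 F108926) (iv5 F112555) D157617 D214238
theorem F491714 : act 6 n206217 = n218016 := d21_3 F295287 D193848 (iv5 F439764) (iv1 D218016) (iv6 D188306) D188305 (iv1 F373041) (iv5 F424269) F424270 (iv1 D188290)
def n218017 : Q := act 7 n188306
theorem D218017 : act 7 n188306 = n218017 := rfl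
theorem F491715 : act 5 n218017 = n189593 := d13_1 D218017 F470344 (iv5 F389259)
theorem F491716 : act 6 n218017 = n213616 := d14_1 D218017 F471304 F375046 F372982 D188306
theorem F491717 : act 0 n208737 = n218017 := d21_4 (iv5 D134765) D134762 (iv5 F349690) D208737 F491716 (iv5 F471306) F485515 F485512 (iv6 F412725) F412724
def n218018 : Q := act 1 n188314
theorem D218018 : act 1 n188314 = n218018 := rfl
theorem F491718 : act 1 n218018 = n217233 := d15_1 D218018 F488047 F375736
theorem F491719 : act 7 n218018 = n188369 := d15_2 (iv0 F465501) D218018 (iv2 F378700)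
theorem F491720 : act 4 n218018 = n217006 := d17_9 (iv1 D217006) F367516 (iv1 D102706) (iv5 F292206) (iv4 F139098) F293826 D187025 (iv5 F373066) D218018
theorem F491721 : act 3 n217760 = n218018 := d19_19 (iv1 D218018) F373066 (iv4 F488029) F488028 (iv1 F372930) (iv5 F375738) F375737 (iv3 F383124) (iv1 F383128) (iv5 F469124) F469123 (iv3 F485618) F485620 (iv5 D197696) F167925 (iv3 F364312) (iv1 F420147) F420148 D217760
theorem F491722 : act 6 n193398 = n218018 := d21_3 (iv5 F142790) D188685 (iv5 F389706) (iv1 D218018) (iv6 D188314) (iv5 F345384) (iv1 F450360) F450356 (iv6 D188704) (iv1 D92673)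
theorem F491723 : act 5 n218018 = n217993 := d21_6 F367983 (iv1 D100934) F74505 D101583 D193398 F491722 (iv1 D217993) (iv5 D188272) F367120 (iv1 F367981)
theorem F491724 : act 6 n217993 = n192525 := d21_3 D217233 (iv1 F491718) F491723 (iv1 D192525) F154253 (iv5 D46789) (iv1 F291132) (iv5 F291785) D89477 D187024
def n218019 : Q := act 1 n188317
theorem D218019 : act 1 n188317 = n218019 := rfl
theorem F491725 : act 1 n218019 = n188320 := d15_1 D218019 F373080 (iv2 F373070)
theorem F491726 : act 7 n218019 = n216336 := d15_2 (iv0 F467968) D218019 F483899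
theorem F491727 : act 4 n218019 = n216329 := d18_7 F284599 (iv4 F295260) F143850 (iv4 D92659) (iv5 F294991) D188317 D218019 F483868 (iv5 D186443)
theorem F491728 : act 3 n191345 = n218019 := d20_9 (iv4 D188317) (iv1 F140251) D187613 F371015 (iv1 F356766) D212311 (iv4 F465254) F474284 F474282 (iv1 D218019)
theorem F491729 : act 6 n203342 = n218019 := d21_3 (iv5 F427828) F421183 (iv5 F427959) (iv1 D218019) F490400 F490396 F398885 (iv5 F351264) F351265 (iv1 F427825)
theorem F491730 : act 2 n218019 = n216957 := d3_1 F491729 F486713 (iv2 F427962)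
def n218020 : Q := act 3 n188317
theorem D218020 : act 3 n188317 = n218020 := rfl
theorem F491731 : act 6 n218020 = n195968 := d7_2 (iv6 F490400) D218020 F490398
theorem F491732 : act 7 n218020 = n214408 := d8_2 (iv7 F373071) D218020 F475039
theorem F491733 : act 0 n218020 = n201448 := d19_4 D43345 (iv5 F294991) D188317 D218020 (iv5 D201448) (iv4 F365247) F280730 F132114 (iv5 D81902) (iv4 D37505) F33929 (iv1 D21558) (iv5 D10299) F6771 F6370 F16780 D4389 D9719 D20469
theorem F491734 : act 5 n212881 = n218020 := d17_1 F467932 F491733 (iv5 D201448) (iv4 F365247) (iv5 D180393) D180391 F461374 F461372 (iv4 F407186)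
theorem F491735 : act 1 n218020 = n201447 := d15_1 (iv0 F491733) F420539 (iv2 F420540)
def n218021 : Q := act 5 n188317
theorem D218021 : act 5 n188317 = n218021 := rfl
theorem F491736 : act 2 n218021 = n212309 := d2_1 D218021 F465251 (iv2 F373070)
theorem F491737 : act 3 n218021 = n212881 := d6_1 D218021 F491734 (iv3 D218020)
theorem F491738 : act 6 n218021 = n201769 := d12_2 (iv6 F490400) D218021 (iv5 F421742) (iv6 F421743) (iv5 F490396)
theorem F491739 : act 7 n218021 = n212312 := d13_2 (iv7 F373071) D218021 F465255
theorem F491740 : act 4 n218021 = n212276 := d16_2 D188317 D218021 F465096 (iv4 F374476) (iv5 D188689) (iv4 D92664) (iv5 F294992) F294819 (iv2 F294806)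
theorem F491741 : act 1 n218021 = n217822 := d17_6 F366975 (iv5 D43348) D43345 (iv5 F294991) D188317 D218021 (iv5 D217822) F421123 (iv4 D187611)
def n218022 : Q := act 5 n188320
theorem D218022 : act 5 n188320 = n218022 := rfl
theorem F491742 : act 2 n218022 = n212312 := d2_1 D218022 F465255 (iv2 F373079)
theorem F491743 : act 3 n218022 = n216363 := d6_1 D218022 F484013 F483997
theorem F491744 : act 4 n218022 = n212277 := d9_1 D218022 F465102 (iv4 F374466) (iv5 D188688) (iv4 D92659) (iv5 F294991) D188317 D218021 F491740 F465096 (iv4 F374476) (iv5 D188689) (iv4 D92664) (iv5 F294992) D188320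
theorem F491745 : act 6 n218022 = n188841 := d12_2 F385401 D218022 (iv5 F398873) F398872 (iv5 F385402)
theorem F491746 : act 7 n218022 = n212309 := d13_2 (iv7 F373080) D218022 F465251
theorem F491747 : act 0 n218022 = n217822 := d17_2 (iv1 F467969) D218022 (iv5 D217822) (iv4 F483858) (iv5 D216327) (iv0 F284599) D186443 (iv0 F367472) (iv4 F467967)
def n218023 : Q := act 6 n188326
theorem D218023 : act 6 n188326 = n218023 := rfl
theorem F491748 : act 3 n218023 = n188329 := d7_1 D218023 (iv6 D188329) D188326
theorem F491749 : act 5 n218023 = n189069 := d12_1 D218023 (iv6 F457158) F457155 F461001 F461000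
def n218024 : Q := act 6 n188331
theorem D218024 : act 6 n188331 = n218024 := rfl
theorem F491750 : act 3 n218024 = n188333 := d7_1 D218024 (iv6 D188333) D188331
theorem F491751 : act 4 n218024 = n211195 := d10_1 D218024 (iv6 D211195) (iv4 F378690)
theorem F491752 : act 5 n218024 = n217994 := d12_1 D218024 F491592 F487488 F426178 F426171
theorem F491753 : act 0 n217959 = n218024 := d21_4 F405077 F371203 (iv5 F450684) (iv6 F491424) (iv6 D218024) (iv5 F426171) (iv1 F426176) (iv5 F405092) (iv6 D197627) D197625
def n218025 : Q := act 7 n188333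
theorem D218025 : act 7 n188333 = n218025 := rfl
theorem F491754 : act 2 n218025 = n218018 := d4_1 D218025 F491719 (iv2 F378700)
theorem F491755 : act 4 n218025 = n191825 := d11_1 D218025 F486962 (iv4 F486961)
theorem F491756 : act 6 n218025 = n189066 := d14_1 D218025 F378696 (iv6 D188365) F378680 D188333
theorem F491757 : act 1 n189097 = n218025 := d15_1 (iv0 F429735) (iv7 D218025) F378700
theorem F491758 : act 1 n218025 = n217998 := d15_1 F491757 F491608 (iv2 F375736)
def n218026 : Q := act 6 n188340
theorem D218026 : act 6 n188340 = n218026 := rfl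
theorem F491759 : act 2 n218026 = n201212 := d3_1 D218026 (iv6 F484712) F484709
theorem F491760 : act 3 n218026 = n210872 := d7_1 D218026 F459094 F387218
theorem F491761 : act 4 n218026 = n188342 := d10_1 D218026 (iv6 D188342) D188340
theorem F491762 : act 5 n218026 = n201582 := d12_1 D218026 F421020 (iv5 F457961) (iv6 F462281) F462280
theorem F491763 : act 7 n218026 = n201211 := d14_2 (iv7 F387208) D218026 F419460 F387100 D192597
theorem F491764 : act 1 n201201 = n218026 := d15_1 (iv0 F421011) F491763 (iv2 F419461)
theorem F491765 : act 1 n218026 = n201214 := d15_1 F491764 (iv7 D201214) (iv2 F419427)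
def n218027 : Q := act 0 n188341
theorem D218027 : act 0 n188341 = n218027 := rfl
theorem F491766 : act 5 n218027 = n208681 := d19_1 D218027 F489734 F489731 F371059 (iv5 F368007) (iv4 F487475) F487474 F429624 F377054 F242327 F236447 F353594 (iv5 F230754) F230755 F358639 (iv1 F407084) F407082 (iv4 D188348) (iv3 F373107)
theorem F491767 : act 3 n218027 = n199764 := d20_5 (iv4 F387453) F387566 (iv4 D188348) (iv3 F373107) D218027 F413391 (iv1 F360064) (iv4 F360065) (iv3 F384634) F387564
theorem F491768 : act 2 n209437 = n218027 := d15_3 (iv0 D218027) (iv0 F447186) (iv7 F489737)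
theorem F491769 : act 1 n209438 = n218027 := d15_0 (iv0 D218027) (iv7 F489732) F489730
theorem F491770 : act 7 n218027 = n204208 := d15_2 F453709 F491769 (iv2 F447184)
theorem F491771 : act 6 n204533 = n218027 := d14_5 F491770 (iv6 D204208) F197327 D123971 D204533
def n218028 : Q := act 3 n188346
theorem D218028 : act 3 n188346 = n218028 := rfl
theorem F491772 : act 2 n218028 = n210478 := d0_1 D218028 (iv3 F457704) F223700 (iv3 F169160) (iv2 F373139)
theorem F491773 : act 5 n218028 = n217996 := d6_2 (iv5 F373135) D218028 F491599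
theorem F491774 : act 7 n218028 = n193059 := d8_2 F373137 D218028 F388618
theorem F491775 : act 0 n218028 = n199791 := d19_4 (iv1 F400144) F400142 F373138 D218028 F428019 F428017 F186815 D159367 D214422 F475105 F435342 F483776 F483773 (iv4 D205333) (iv3 F406710) F406714 (iv5 F386117) D197831 F405932
theorem F491776 : act 1 n218028 = n199788 := d15_1 (iv0 F491775) (iv7 F489720) F489716
def n218029 : Q := act 6 n188346
theorem D218029 : act 6 n188346 = n218029 := rfl
theorem F491777 : act 2 n218029 = n193058 := d3_1 D218029 F388614 (iv2 F373139)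
theorem F491778 : act 4 n218029 = n198312 := d10_1 D218029 (iv6 D198312) F373138
theorem F491779 : act 5 n218029 = n216863 := d12_1 D218029 F486281 (iv5 D188274) D188275 (iv5 F373135)
theorem F491780 : act 7 n218029 = n192011 := d14_2 F373137 D218029 (iv6 D192011) F156425 D101148
theorem F491781 : act 0 n218029 = n193056 := d21_4 (iv5 F370877) (iv1 F378248) (iv5 F373135) D218029 (iv6 F487764) (iv5 D217169) (iv1 F391577) F391573 (iv6 F295011) (iv1 F370876)
theorem F491782 : act 0 n193055 = n218029 := d21_4 (iv5 F345434) F388697 (iv5 D193082) (iv6 F388696) (iv6 D218029) F373135 (iv1 F389683) F389685 F380052 F380051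
def n218030 : Q := act 0 n188348
theorem D218030 : act 0 n188348 = n218030 := rfl
theorem F491783 : act 1 n188357 = n218030 := d15_0 (iv0 D218030) (iv7 F409110) F409106
theorem F491784 : act 7 n218030 = n193062 := d15_2 (iv0 F405590) F491783 F388629
def n218031 : Q := act 4 n188352
theorem D218031 : act 4 n188352 = n218031 := rfl
theorem F491785 : act 2 n218031 = n210914 := d1_1 D218031 (iv4 F489724) (iv2 F489727)
theorem F491786 : act 3 n218031 = n199618 := d5_1 D218031 (iv4 D199618) (iv3 F412038) (iv4 F491681) (iv3 F491685)
theorem F491787 : act 5 n218031 = n206949 := d9_2 F491243 D218031 (iv4 D206949) (iv5 D129570) D129569 F388501 F388500 (iv5 F372823) (iv4 F461087) F461088 F400159 (iv5 D129322) (iv4 F207516) D206792 F491246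
theorem F491788 : act 7 n218031 = n216339 := d11_2 (iv7 F375759) D218031 F483918
theorem F491789 : act 0 n218031 = n206206 := d17_0 F439712 F424704 (iv5 F459290) F459289 F389641 F373167 (iv5 D188354) D188352 D218031
def n218032 : Q := act 0 n188355
theorem D218032 : act 0 n188355 = n218032 := rfl
theorem F491790 : act 1 n209471 = n218032 := d15_0 (iv0 D218032) (iv7 F454787) F454784
theorem F491791 : act 7 n218032 = n193382 := d15_2 (iv0 F470417) F491790 (iv2 F470413)
theorem F491792 : act 5 n193783 = n218032 := d21_0 (iv1 F491790) (iv5 F455035) (iv6 D209810) (iv1 D136981) (iv6 F329015) F155638 (iv1 F290157) D47485 D102325 D193783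
def n218033 : Q := act 5 n188355
theorem D218033 : act 5 n188355 = n218033 := rfl
theorem F491793 : act 3 n218033 = n188360 := d6_1 D218033 (iv5 D188360) (iv3 F373169)
theorem F491794 : act 6 n218033 = n209489 := d12_2 D188355 D218033 F453902 F373166 (iv5 D188354)
theorem F491795 : act 7 n218033 = n209494 := d13_2 F454787 D218033 (iv5 F454786)
theorem F491796 : act 1 n213754 = n218033 := d15_1 (iv0 F471936) F491795 (iv2 F455032)
def n218034 : Q := act 7 n188356
theorem D218034 : act 7 n188356 = n218034 := rfl
theorem F491797 : act 2 n218034 = n217927 := d4_1 D218034 F491300 F384620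
theorem F491798 : act 3 n218034 = n207292 := d8_1 D218034 (iv7 F449614) F449613
theorem F491799 : act 4 n218034 = n188361 := d11_1 D218034 (iv7 D188361) (iv4 F373170)
theorem F491800 : act 5 n218034 = n216030 := d13_1 D218034 (iv7 F491375) F491372
theorem F491801 : act 6 n218034 = n192486 := d14_1 D218034 F386789 F384554 F373123 D188356
theorem F491802 : act 1 n189076 = n218034 := d15_1 (iv0 F384623) (iv7 D218034) (iv2 F384620)
theorem F491803 : act 1 n218034 = n217928 := d15_1 F491802 (iv7 D217928) (iv2 F375646)
theorem F491804 : act 1 n189211 = n216030 := d17_6 (iv1 F486952) F489299 (iv1 D217521) (iv5 D187481) (iv4 F354763) D189211 (iv5 F491800) F491803 F491305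
theorem F491805 : act 1 n216030 = n189213 := d15_1 F491804 F376113 (iv2 F376107)
def n218035 : Q := act 5 n188358
theorem D218035 : act 5 n188358 = n218035 := rfl
theorem F491806 : act 2 n218035 = n193068 := d2_1 D218035 (iv5 D193068) (iv2 F373174)
theorem F491807 : act 3 n218035 = n209489 := d6_1 D218035 F453902 (iv3 F373175)
theorem F491808 : act 6 n218035 = n188360 := d12_2 D188358 D218035 (iv5 D188360) (iv6 D91232) D91231
theorem F491809 : act 7 n218035 = n193070 := d13_2 (iv7 F373176) D218035 (iv5 D193070)
theorem F491810 : act 4 n218035 = n202123 := d16_2 F387608 D218035 (iv5 D202123) F179672 (iv5 F353015) (iv4 F440469) F440468 F388650 F388647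
theorem F491811 : act 0 n218035 = n216679 := d17_2 F373178 D218035 (iv5 F491227) F491226 (iv5 D215445) (iv0 F347867) (iv5 F393776) (iv0 D194593) F351156
theorem F491812 : act 1 n218035 = n216726 := d17_6 F457220 F410877 (iv1 F440472) F440474 F387608 D218035 F485646 F484796 (iv4 F457217)
def n218036 : Q := act 4 n188360
theorem D218036 : act 4 n188360 = n218036 := rfl
theorem F491813 : act 6 n218036 = n202123 := d10_2 F491808 D218036 (iv4 F491810)
theorem F491814 : act 3 n202126 = n218036 := d7_3 F491813 F422973 D202126
theorem F491815 : act 5 n202130 = n218036 := d12_5 F491813 (iv5 D202123) F179673 D115391 D202130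
def n218037 : Q := act 6 n188363
theorem D218037 : act 6 n188363 = n218037 := rfl
theorem F491816 : act 3 n218037 = n188365 := d7_1 D218037 (iv6 D188365) D188363
theorem F491817 : act 4 n218037 = n210679 := d10_1 D218037 (iv6 D210679) (iv4 F373185)
theorem F491818 : act 5 n218037 = n210321 := d12_1 D218037 (iv6 D210321) (iv5 F411581) (iv6 F411583) F373186
theorem F491819 : act 0 n218037 = n202665 := d21_4 (iv5 D146934) D146931 F373186 D218037 F424992 (iv5 D120488) (iv1 F303682) F303369 (iv6 F432161) F432163
theorem F491820 : act 1 n218037 = n212448 := d15_1 (iv0 F491819) (iv7 F487373) F487369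
def n218038 : Q := act 6 n188364
theorem D218038 : act 6 n188364 = n218038 := rfl
theorem F491821 : act 2 n218038 = n212322 := d3_1 D218038 F465308 (iv2 F378692)
theorem F491822 : act 3 n218038 = n199307 := d7_1 D218038 (iv6 F411583) (iv3 F373187)
theorem F491823 : act 5 n218038 = n210320 := d12_1 D218038 F457007 (iv5 F374455) (iv6 D188365) D188364
theorem F491824 : act 7 n218038 = n199311 := d14_2 F378699 D218038 (iv6 F411609) F378677 D186992
theorem F491825 : act 0 n218038 = n193634 := d21_4 (iv5 F294661) D91234 D188364 D218038 (iv6 D193634) (iv5 F385659) (iv1 F385663) (iv5 F359477) (iv6 F368342) (iv1 F368343)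
theorem F491826 : act 0 n217140 = n218038 := d21_4 (iv5 F391569) F459299 F459298 D217140 (iv6 D218038) (iv5 D188364) (iv1 F140269) (iv5 F373098) F373099 (iv1 F391568)
def n218039 : Q := act 6 n188367
theorem D218039 : act 6 n188367 = n218039 := rfl
theorem F491827 : act 2 n218039 = n217759 := d3_1 D218039 F491539 F491538
theorem F491828 : act 3 n218039 = n188369 := d7_1 D218039 (iv6 D188369) D188367
theorem F491829 : act 4 n218039 = n193093 := d10_1 D218039 (iv6 F388724) F373189
theorem F491830 : act 0 n218039 = n209466 := d21_4 F428919 F428918 F393570 D218039 (iv6 D209466) F219613 (iv1 F218702) D136820 (iv6 F365687) D203037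
theorem F491831 : act 0 n208903 = n218039 := d21_4 (iv5 D207300) F217157 (iv5 F217536) D208903 (iv6 D218039) (iv5 F393570) (iv1 D142605) D142607 (iv6 F443217) (iv1 F444220)
theorem F491832 : act 7 n217760 = n218039 := d11_0 F491829 (iv7 F420151) D217760
def n218040 : Q := act 5 n188369
theorem D218040 : act 5 n188369 = n218040 := rfl
theorem F491833 : act 2 n218040 = n217193 := d2_1 D218040 F487877 F378700
theorem F491834 : act 6 n218040 = n216969 := d12_2 D188369 D218040 (iv5 D216969) (iv6 F373191) (iv5 D188368)
theorem F491835 : act 7 n218040 = n217993 := d13_2 F491719 D218040 (iv5 F491723)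
theorem F491836 : act 0 n218040 = n217224 := d17_2 F429735 D218040 F488013 (iv4 F370971) (iv5 F487796) (iv0 F489742) (iv5 D217602) (iv0 F371062) (iv4 F375737)
theorem F491837 : act 0 n193394 = n218040 := d21_10 (iv5 D218040) (iv1 F491609) (iv5 D217998) F372926 F368850 F156647 (iv5 D47310) (iv1 F156364) D101575 (iv6 F389696)
def n218041 : Q := act 4 n188376
theorem D218041 : act 4 n188376 = n218041 := rfl
theorem F491838 : act 2 n218041 = n209592 := d1_1 D218041 F454261 F373350
theorem F491839 : act 3 n218041 = n192006 := d5_1 D218041 (iv4 D192006) (iv3 F385162) F385163 (iv3 F373210)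
theorem F491840 : act 5 n218041 = n196474 := d9_2 F373209 D218041 (iv4 F453651) (iv5 F491706) F491705 (iv5 D197567) F359932 (iv5 F366838) (iv4 F484978) F484979 (iv4 F453843) (iv5 F457796) F457795 (iv5 D197565) (iv4 F366311)
theorem F491841 : act 6 n218041 = n211028 := d10_2 F484973 D218041 (iv4 F484972)
theorem F491842 : act 7 n218041 = n193053 := d11_2 (iv7 F373208) D218041 F388603
theorem F491843 : act 0 n218041 = n188380 := d17_0 (iv5 F405101) (iv1 F405105) (iv5 F407609) (iv4 F432363) (iv5 F432365) (iv0 F388954) F155985 D188376 D218041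
theorem F491844 : act 1 n218041 = n209190 := d18_6 (iv1 D135902) F99395 D108460 (iv4 F366311) F373209 D218041 (iv4 D209190) F394000 (iv5 F338903)
def n218042 : Q := act 1 n188378
theorem D218042 : act 1 n188378 = n218042 := rfl
theorem F491845 : act 1 n218042 = n191972 := d15_1 D218042 (iv7 F421829) F421827
theorem F491846 : act 5 n218042 = n199124 := d17_7 F357589 (iv5 D99428) F153161 (iv5 F375603) F375602 (iv5 F373211) D218042 F410771 (iv4 D189046)
theorem F491847 : act 4 n218042 = n206920 := d17_9 F442613 (iv5 D192972) (iv1 F285884) D216485 F484623 (iv5 F362355) (iv0 F366905) (iv5 F373211) D218042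
theorem F491848 : act 6 n211023 = n218042 := d21_9 F373211 F366905 F362355 (iv6 F362356) F365814 D187974 (iv5 F371985) (iv1 F424718) (iv5 F459780) (iv1 D218042)
theorem F491849 : act 2 n218042 = n196581 := d3_1 F491848 (iv6 F420000) F459781
def n218043 : Q := act 6 n188381
theorem D218043 : act 6 n188381 = n218043 := rfl
theorem F491850 : act 2 n218043 = n199689 := d3_1 D218043 (iv6 F468950) F468945
theorem F491851 : act 3 n218043 = n188383 := d7_1 D218043 (iv6 D188383) D188381
theorem F491852 : act 4 n218043 = n216370 := d10_1 D218043 F484044 F419988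
theorem F491853 : act 5 n218043 = n199688 := d12_1 D218043 F413130 D208584 (iv6 F450008) (iv5 F412810)
theorem F491854 : act 7 n218043 = n216308 := d14_2 F461304 D218043 F483763 F423511 (iv6 F461303)
theorem F491855 : act 0 n218043 = n205095 := d21_4 F413402 D199599 (iv5 F412810) D218043 (iv6 D205095) (iv5 D125472) D125469 D205088 F434938 (iv1 F413400)
theorem F491856 : act 0 n204194 = n218043 := d21_4 (iv5 D82005) D82003 (iv5 F344170) D204194 (iv6 D218043) F412810 F451344 F451342 F364656 (iv1 D171099)
def n218044 : Q := act 4 n188391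
theorem D218044 : act 4 n188391 = n218044 := rfl
theorem F491857 : act 2 n218044 = n196854 := d1_1 D218044 F402046 F415741
theorem F491858 : act 3 n218044 = n206353 := d5_1 D218044 F440374 (iv3 F340818) (iv4 F461726) F461725
theorem F491859 : act 6 n218044 = n196852 := d10_2 (iv6 F461723) D218044 (iv4 F461718)
theorem F491860 : act 7 n218044 = n217455 := d11_2 F415743 D218044 (iv4 F488953)
theorem F491861 : act 5 n218044 = n217456 := d18_4 (iv1 D215547) F352783 D188391 D218044 F488956 F379078 (iv4 F476932) (iv0 F476933) F480446
theorem F491862 : act 0 n194621 = n218044 := d20_7 F344497 D177050 F408615 (iv3 D198470) (iv1 F393850) F393846 (iv4 F393854) (iv4 D218044) (iv3 F461725) F461728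
theorem F491863 : act 1 n199164 = n218044 := d15_1 (iv0 F445465) F491860 F488951
def n218045 : Q := act 5 n188391
theorem D218045 : act 5 n188391 = n218045 := rfl
theorem F491864 : act 2 n218045 = n211849 := d2_1 D218045 F463256 F415741
theorem F491865 : act 3 n218045 = n211857 := d6_1 D218045 F463286 F461725
theorem F491866 : act 0 n218045 = n211711 := d21_1 D218045 (iv5 D211711) (iv6 D144008) (iv1 D67470) F299844 F291425 (iv1 D42730) D42732 D91303 D188391
theorem F491867 : act 0 n206325 = n218045 := d19_0 (iv5 D218045) D218044 F491858 (iv1 F440375) (iv5 D190860) (iv4 D96993) (iv3 F149560) (iv1 F379269) (iv5 F379273) (iv4 D114154) (iv3 F177766) F290505 (iv5 F178020) (iv4 F346176) F147583 D95938 F149923 F366330 (iv3 F440251)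
def n218046 : Q := act 5 n188392
theorem D218046 : act 5 n188392 = n218046 := rfl
theorem F491868 : act 3 n218046 = n202820 := d6_1 D218046 F425721 F415739
theorem F491869 : act 6 n218046 = n190303 := d12_2 F436727 D218046 F379328 F477049 (iv5 F477050)
theorem F491870 : act 7 n218046 = n211849 := d13_2 (iv7 F415740) D218046 F463256
theorem F491871 : act 4 n218046 = n215449 := d16_2 F445461 D218046 (iv5 D215449) (iv4 F373271) F373272 (iv4 F488956) (iv5 F491861) F491860 F488951
theorem F491872 : act 0 n218046 = n206325 := d17_2 (iv1 F393704) D218046 (iv5 D206325) (iv4 F256840) D214803 (iv0 F476933) F480446 F480438 F480040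
theorem F491873 : act 1 n218046 = n211711 := d17_6 F393673 D199140 F410851 (iv5 F445462) F445461 D218046 (iv5 D211711) (iv0 F379358) (iv4 F393672)
def n218047 : Q := act 3 n188397
theorem D218047 : act 3 n188397 = n218047 := rfl
theorem F491874 : act 2 n218047 = n217913 := d0_1 D218047 F491225 F470345 F372036 (iv2 F373291)
theorem F491875 : act 4 n218047 = n188399 := d5_2 D188397 D218047 (iv3 D188399) (iv4 D91352) (iv3 F140447)
theorem F491876 : act 6 n218047 = n194681 := d7_2 F475619 D218047 (iv3 F475618)
theorem F491877 : act 7 n218047 = n216521 := d8_2 (iv7 F373292) D218047 (iv3 D216521)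
theorem F491878 : act 0 n218047 = n193562 := d19_4 F293970 D91350 D188397 D218047 (iv5 D193562) F354887 F100310 D64387 F201767 (iv4 F201763) (iv3 F201766) F92824 F49663 (iv4 F49657) F321641 D118963 F335366 F335367 F335402
theorem F491879 : act 5 n213647 = n218047 := d17_1 (iv1 F471439) F491878 (iv5 D193562) F354887 (iv5 D64368) D64367 D136941 F422971 (iv4 F422969)
theorem F491880 : act 1 n218047 = n194690 := d15_1 (iv0 F491878) F394101 (iv2 F390288)
def n218048 : Q := act 5 n188397
theorem D218048 : act 5 n188397 = n218048 := rfl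
theorem F491881 : act 2 n218048 = n192768 := d2_1 D218048 (iv5 D192768) (iv2 F373291)
theorem F491882 : act 3 n218048 = n213647 := d6_1 D218048 F491879 (iv3 D218047)
theorem F491883 : act 7 n218048 = n216522 := d13_2 (iv7 F373292) D218048 (iv5 D216522)
theorem F491884 : act 4 n218048 = n213653 := d16_2 D188397 D218048 F471463 (iv4 D187575) (iv5 D90364) F65248 D90364 F293978 (iv2 F140446)
theorem F491885 : act 0 n218048 = n203385 := d17_2 (iv1 F489557) D218048 F428113 (iv4 D192041) (iv5 D99549) (iv0 F177413) D183982 D216481 (iv4 F489555)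
theorem F491886 : act 1 n218048 = n214446 := d17_6 F335409 (iv5 F335403) F293970 D91350 D188397 D218048 (iv5 F475212) F457737 F351160
theorem F491887 : act 6 n213646 = n218048 := d21_5 (iv5 F338136) D212295 F465189 D215569 F480554 (iv5 D218048) F454200 (iv5 F471244) (iv6 D213601) F338138
def n218049 : Q := act 6 n188399
theorem D218049 : act 6 n188399 = n218049 := rfl
theorem F491888 : act 2 n218049 = n211318 := d3_1 D218049 (iv6 F480032) F480030
theorem F491889 : act 3 n218049 = n188400 := d7_1 D218049 (iv6 D188400) D188399
theorem F491890 : act 4 n218049 = n194681 := d10_1 D218049 (iv6 F491876) F491875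
theorem F491891 : act 5 n218049 = n215549 := d12_1 D218049 (iv6 D215549) (iv5 D175022) (iv6 F352782) (iv5 F373295)
theorem F491892 : act 7 n218049 = n211312 := d14_2 (iv7 F373296) D218049 (iv6 D211312) (iv7 F400207) (iv6 F400210)
theorem F491893 : act 0 n218049 = n194685 := d21_4 (iv5 D128391) D128388 (iv5 F373295) D218049 (iv6 D194685) F362670 (iv1 F362672) (iv5 D100584) D100585 F351180
theorem F491894 : act 1 n218049 = n211316 := d15_1 (iv0 F491893) (iv7 F461093) (iv2 F394085)
def n218050 : Q := act 5 n188400
theorem D218050 : act 5 n188400 = n218050 := rfl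
theorem F491895 : act 2 n218050 = n188424 := d2_1 D218050 (iv5 D188424) (iv2 F373298)
theorem F491896 : act 3 n218050 = n215549 := d6_1 D218050 (iv5 F491891) F491889
theorem F491897 : act 6 n218050 = n215548 := d12_2 D188400 D218050 (iv5 D215548) (iv6 F352778) (iv5 F140454)
theorem F491898 : act 7 n218050 = n211355 := d13_2 (iv7 F373300) D218050 (iv5 D211355)
theorem F491899 : act 1 n211370 = n218050 := d15_1 D211370 F491898 F461254
theorem F491900 : act 1 n218050 = n211369 := d15_0 (iv0 D211369) (iv7 F373433) (iv2 F491895)
def n218051 : Q := act 3 n188404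
theorem D218051 : act 3 n188404 = n218051 := rfl
theorem F491901 : act 2 n218051 = n193100 := d0_1 D218051 (iv3 D193100) (iv2 F372457) F345617 F373329
theorem F491902 : act 4 n218051 = n218028 := d5_2 F405881 D218051 (iv3 D218028) (iv4 F373138) (iv3 F405880)
theorem F491903 : act 5 n218051 = n194034 := d6_2 (iv5 F373322) D218051 F391818
theorem F491904 : act 6 n218051 = n204394 := d7_2 F373323 D218051 F432374
theorem F491905 : act 7 n218051 = n210476 := d8_2 (iv7 F373321) D218051 F457694
theorem F491906 : act 0 n218051 = n192049 := d19_4 (iv1 F176730) (iv5 F405882) F405881 D218051 F385339 (iv4 D136870) F169677 F180638 F180639 D143096 (iv3 F352549) F352550 F365358 (iv4 F416601) F416598 (iv1 F203783) D126857 F352237 (iv3 D140403)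
theorem F491907 : act 0 n209559 = n218051 := d20_4 F454041 (iv1 F420505) (iv4 F406661) (iv3 F454128) (iv3 D218051) (iv4 F405881) (iv1 F405885) F352254 (iv3 F373274) F454044
def n218052 : Q := act 6 n188406
theorem D218052 : act 6 n188406 = n218052 := rfl
theorem F491908 : act 2 n218052 = n188667 := d3_1 D218052 (iv6 D188667) (iv2 F373335)
theorem F491909 : act 3 n218052 = n188979 := d7_1 D218052 (iv6 D188979) (iv3 F373336)
theorem F491910 : act 4 n218052 = n188407 := d10_1 D218052 (iv6 D188407) D188406
theorem F491911 : act 5 n218052 = n216873 := d12_1 D218052 (iv6 D216873) (iv5 D186050) (iv6 F292418) (iv5 F373338)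
theorem F491912 : act 7 n218052 = n213114 := d14_2 (iv7 F373337) D218052 (iv6 D213114) F375391 (iv6 D189008)
theorem F491913 : act 0 n218052 = n217563 := d21_4 F108453 (iv1 F142708) (iv5 F373338) D218052 F489515 F387380 F377622 F376255 (iv6 F345122) (iv1 D152562)
theorem F491914 : act 0 n217854 = n218052 := d21_1 (iv5 F490939) F491911 (iv6 D216873) F294491 (iv6 F294492) (iv5 D52122) D52121 D112919 D200271 (iv1 F461840)
def n218053 : Q := act 1 n188415
theorem D218053 : act 1 n188415 = n218053 := rfl
theorem F491915 : act 1 n218053 = n201798 := d15_1 D218053 F421829 F385040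
theorem F491916 : act 7 n218053 = n218042 := d15_2 (iv0 F401138) D218053 F491849
theorem F491917 : act 5 n218053 = n192977 := d17_7 F364323 F364320 (iv1 D99423) D99424 D191965 (iv5 F385030) D218053 F388412 (iv4 D186950)
theorem F491918 : act 4 n218053 = n193043 := d18_7 D101113 F285877 (iv1 F285845) (iv4 F285886) (iv5 F448918) F448917 D218053 (iv0 D193043) (iv5 D101116)
theorem F491919 : act 2 n205498 = n218053 := d1_3 F491918 (iv2 F442602) F442604
theorem F491920 : act 3 n218053 = n213440 := d20_3 (iv4 D193045) D193043 (iv4 F491918) (iv1 D213440) F241608 (iv4 F235496) F235497 (iv4 F206496) (iv3 F440405) (iv1 F440409)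
def n218054 : Q := act 6 n188416
theorem D218054 : act 6 n188416 = n218054 := rfl
theorem F491921 : act 2 n218054 = n214462 := d3_1 D218054 (iv6 D214462) F373400
theorem F491922 : act 3 n218054 = n188417 := d7_1 D218054 (iv6 D188417) D188416
theorem F491923 : act 4 n218054 = n192789 := d10_1 D218054 F387783 (iv4 F373394)
theorem F491924 : act 5 n218054 = n206062 := d12_1 D218054 (iv6 D206062) F223613 (iv6 F363558) (iv5 F373395)
theorem F491925 : act 7 n218054 = n213425 := d14_2 (iv7 F373396) D218054 F470330 F404796 (iv6 F404794)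
theorem F491926 : act 0 n218054 = n217726 := d21_4 (iv5 F436698) F436702 (iv5 F373395) D218054 F490342 (iv5 D198273) (iv1 F359057) (iv5 F371686) (iv6 D187846) (iv1 F370671)
theorem F491927 : act 0 n192745 = n218054 := d21_4 (iv5 F293364) D46919 D100584 D192745 (iv6 D218054) F373395 (iv1 D153519) F109100 F65526 D42462
def n218055 : Q := act 4 n188420
theorem D218055 : act 4 n188420 = n218055 := rfl
theorem F491928 : act 2 n218055 = n203654 := d1_1 D218055 F429254 (iv2 F407645)
theorem F491929 : act 3 n218055 = n194561 := d5_1 D218055 (iv4 D194561) (iv3 D103784) (iv4 F292227) (iv3 F373419)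
theorem F491930 : act 5 n218055 = n216646 := d9_2 D188420 D218055 F485328 (iv5 F404967) F404964 (iv5 D109095) (iv4 F164718) D196289 (iv4 F423551) (iv5 F485362) F485361 (iv5 F370637) F370636 (iv5 F342493) F159469
theorem F491931 : act 7 n218055 = n202614 := d11_2 (iv7 F373420) D218055 (iv4 D202614)
theorem F491932 : act 1 n218055 = n213875 := d18_6 D196315 F400305 (iv1 F365131) F159469 D188420 D218055 F472531 (iv0 F440355) (iv5 D196317)
def n218056 : Q := act 5 n188421
theorem D218056 : act 5 n188421 = n218056 := rfl
theorem F491933 : act 2 n218056 = n215548 := d2_1 D218056 (iv5 D215548) (iv2 F373422)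
theorem F491934 : act 3 n218056 = n211401 := d6_1 D218056 F480017 F480014
theorem F491935 : act 4 n218056 = n218045 := d9_1 D218056 (iv5 D218045) D218044 F491861 F488956 (iv5 F373272) F373271 D215449 (iv4 F491871) (iv5 D218046) (iv4 F445461) F445462 F379068 (iv5 F159215) (iv4 F373423)
theorem F491936 : act 6 n218056 = n188424 := d12_2 D188421 D218056 (iv5 D188424) (iv6 D91372) D91371
theorem F491937 : act 7 n218056 = n211387 := d13_2 F480042 D218056 F480044
def n218057 : Q := act 3 n188422
theorem D218057 : act 3 n188422 = n218057 := rfl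
theorem F491938 : act 2 n218057 = n217569 := d0_1 D218057 F489543 F370840 (iv3 F387641) F387640
theorem F491939 : act 6 n218057 = n201332 := d7_2 (iv6 F373429) D218057 F420053
theorem F491940 : act 7 n218057 = n211366 := d8_2 (iv7 F387645) D218057 (iv3 D211366)
def n218058 : Q := act 5 n188422
theorem D218058 : act 5 n188422 = n218058 := rfl
theorem F491941 : act 2 n218058 = n211368 := d2_1 D218058 (iv5 D211368) F387640
theorem F491942 : act 7 n218058 = n211367 := d13_2 (iv7 F387645) D218058 (iv5 D211367)
theorem F491943 : act 4 n218058 = n194420 := d16_2 F393081 D218058 (iv5 F462925) (iv4 F462922) (iv5 F354072) F240701 D153367 F393078 F393080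
theorem F491944 : act 0 n217371 = n218058 := d21_10 (iv5 D218058) (iv1 F373424) D211355 F461255 (iv1 F379060) (iv6 D190195) F367197 F159600 (iv5 F369607) D217371
theorem F491945 : act 1 n193269 = n211367 := d15_1 (iv0 F461308) (iv7 F491942) F491941
def n218059 : Q := act 5 n188423
theorem D218059 : act 5 n188423 = n218059 := rfl
theorem F491946 : act 2 n218059 = n211367 := d2_1 D218059 (iv5 D211367) (iv2 F387644)
theorem F491947 : act 3 n218059 = n217895 := d6_1 D218059 F491136 F373426
theorem F491948 : act 4 n218059 = n194421 := d9_1 D218059 (iv5 F425921) F425920 (iv5 F432345) F432346 (iv5 F428974) F393081 D218058 F491943 (iv5 F462925) (iv4 F462922) (iv5 F354072) F240701 D153367 F373430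
theorem F491949 : act 7 n218059 = n211368 := d13_2 F387643 D218059 (iv5 D211368)
theorem F491950 : act 0 n218059 = n217371 := d17_2 (iv1 F373425) D218059 F488612 (iv4 D204391) (iv5 D123718) (iv0 D57672) D57674 D123726 F359725
def n218060 : Q := act 0 n188424
theorem D218060 : act 0 n188424 = n218060 := rfl
theorem F491951 : act 5 n218060 = n211052 := d21_2 D188424 D218060 (iv6 D211052) F432415 (iv6 D204405) D204404 (iv1 F467819) F467821 (iv6 F373431) (iv1 D188423)
theorem F491952 : act 6 n218060 = n190152 := d21_5 (iv5 F480036) (iv1 F480037) D218056 F491936 D218060 (iv5 F379321) (iv1 D145478) D145479 (iv6 F464712) F464714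
theorem F491953 : act 1 n211355 = n218060 := d15_0 (iv0 D218060) F373433 (iv2 F461254)
theorem F491954 : act 4 n218060 = n190153 := d17_9 F462936 (iv5 D211747) F425922 F425921 (iv4 F491948) (iv5 D218059) F373425 D211355 F491953
theorem F491955 : act 2 n211370 = n218060 := d1_3 F491954 (iv2 F381343) (iv4 F461310)
theorem F491956 : act 7 n211369 = n218060 := d11_0 F491954 (iv7 F393132) (iv4 F461315)
def n218061 : Q := act 1 n188424
theorem D218061 : act 1 n188424 = n218061 := rfl
theorem F491957 : act 1 n218061 = n211355 := d15_1 D218061 (iv7 F491898) F491895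
theorem F491958 : act 7 n218061 = n211370 := d15_2 (iv0 D218060) D218061 F491955
theorem F491959 : act 2 n211369 = n218061 := d4_3 F491958 F491955 (iv7 F491956)
theorem F491960 : act 6 n204705 = n218061 := d14_5 F491958 (iv6 F461309) (iv7 F379312) (iv6 F429429) (iv7 F433323)
def n218062 : Q := act 4 n188424
theorem D218062 : act 4 n188424 = n218062 := rfl
theorem F491961 : act 6 n218062 = n218045 := d10_2 F491936 D218062 (iv4 F491935)
theorem F491962 : act 7 n218062 = n211371 := d11_2 (iv7 F373433) D218062 (iv4 D211371)
theorem F491963 : act 1 n218062 = n194360 := d18_8 (iv1 F392501) F392494 (iv1 F392933) (iv4 F390481) F390482 (iv4 F491954) (iv0 D218060) D218062 (iv5 D194360)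
theorem F491964 : act 1 n191012 = n218062 := d15_0 F491963 F392935 (iv2 F381871)
def n218063 : Q := act 5 n188426
theorem D218063 : act 5 n188426 = n218063 := rfl
theorem F491965 : act 3 n218063 = n200939 := d6_1 D218063 (iv5 D200939) F391166
theorem F491966 : act 4 n218063 = n217372 := d9_1 D218063 F488613 (iv4 D204385) (iv5 D123713) F90861 D57674 D123727 D204399 (iv4 F488622) (iv5 F488619) F393012 F206346 (iv4 F198120) (iv5 F359719) D188426
theorem F491967 : act 0 n218063 = n214658 := d17_2 (iv1 F426492) D218063 (iv5 F476251) (iv4 F484789) F484790 F432329 (iv5 F393076) (iv0 D194408) (iv4 F393075)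
theorem F491968 : act 0 n217379 = n218063 := d19_0 (iv5 D218063) (iv4 D188426) D188425 (iv1 F431375) (iv5 F449247) (iv4 F490248) F490246 (iv1 F433942) F341960 (iv4 F341953) F341952 F112220 D60639 D128944 (iv3 F392581) F408392 (iv5 F455794) F455795 (iv3 F488652)
def n218064 : Q := act 4 n188428
theorem D218064 : act 4 n188428 = n218064 := rfl
theorem F491969 : act 2 n218064 = n215625 := d1_1 D218064 F480816 F470980
theorem F491970 : act 3 n218064 = n191534 := d5_1 D218064 (iv4 F433958) (iv3 F433961) D207001 F442924
theorem F491971 : act 6 n218064 = n191531 := d10_2 F470977 D218064 (iv4 F470975)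
theorem F491972 : act 7 n218064 = n215357 := d11_2 (iv7 F432391) D218064 F479545
theorem F491973 : act 0 n218064 = n211904 := d17_0 (iv5 D211904) F415296 (iv5 D123713) F90861 D57674 D123726 D204397 F432390 D218064
theorem F491974 : act 5 n218064 = n194359 := d18_4 D147733 (iv4 F361711) D188428 D218064 (iv4 D194359) (iv0 D103246) (iv4 F158493) (iv0 F392932) (iv5 D147737)
theorem F491975 : act 0 n215622 = n218064 := d20_10 (iv4 D218064) (iv1 F432390) (iv4 F432388) (iv3 F466221) F466223 F271973 (iv4 F326559) F420991 F420989 D215622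
def n218065 : Q := act 5 n188428
theorem D218065 : act 5 n188428 = n218065 := rfl
theorem F491976 : act 2 n218065 = n204390 := d2_1 D218065 (iv5 F470982) F470980
theorem F491977 : act 6 n218065 = n204406 := d12_2 F470977 D218065 F432418 (iv6 F432304) (iv5 F470976)
theorem F491978 : act 7 n218065 = n194673 := d13_2 (iv7 F432391) D218065 (iv5 F432225)
theorem F491979 : act 0 n218065 = n204368 := d17_2 D188428 D218065 (iv5 D204368) D204367 F432245 F392930 (iv5 F466081) F466083 (iv4 F361711)
theorem F491980 : act 1 n218065 = n204369 := d17_6 (iv1 F198203) (iv5 F347138) F392940 (iv5 F491974) (iv4 D218064) D218065 (iv5 D204369) F198116 (iv4 F198200)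
theorem F491981 : act 4 n213270 = n218065 := d18_7 (iv1 D123682) F90830 D60273 D128208 D206303 F440155 (iv0 F469651) F491980 (iv5 D204369)
def n218066 : Q := act 4 n188438
theorem D218066 : act 4 n188438 = n218066 := rfl
theorem F491982 : act 2 n218066 = n199894 := d1_1 D218066 F414022 F373479
theorem F491983 : act 6 n218066 = n195536 := d10_2 (iv6 F373481) D218066 (iv4 F397268)
theorem F491984 : act 7 n218066 = n194942 := d11_2 (iv7 F373478) D218066 F395115
theorem F491985 : act 3 n218066 = n214684 := d20_3 F430156 (iv1 F373483) D218066 (iv1 F476385) F474349 F373629 F338708 D134624 F338710 (iv1 F430158)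
theorem F491986 : act 0 n215650 = n218066 := d20_10 (iv4 D218066) (iv1 D188438) F140912 (iv3 D78454) (iv1 F59871) D84248 F129308 D84256 D176725 D215650
theorem F491987 : act 1 n214693 = n218066 := d15_0 (iv0 F491986) (iv7 F489088) F489085
def n218067 : Q := act 5 n188441
theorem D218067 : act 5 n188441 = n218067 := rfl
theorem F491988 : act 2 n218067 = n214905 := d2_1 D218067 (iv5 D214905) (iv2 F373494)
theorem F491989 : act 3 n218067 = n205154 := d6_1 D218067 F435192 (iv3 F413738)
theorem F491990 : act 6 n218067 = n205238 := d12_2 D188441 D218067 (iv5 F445207) F445208 F257876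
theorem F491991 : act 7 n218067 = n205152 := d13_2 F482038 D218067 (iv5 F482037)
theorem F491992 : act 4 n218067 = n216293 := d16_2 (iv4 F373495) D218067 (iv5 D216293) F380752 (iv5 F470926) F470927 F416758 F415385 F409653
theorem F491993 : act 0 n218067 = n205416 := d17_2 F373496 D218067 F436308 F202737 D200037 (iv0 F414723) (iv5 D113147) D113145 (iv4 F202157)
theorem F491994 : act 1 n218067 = n205273 := d17_8 F435708 D205393 F436229 F435499 (iv4 F477070) (iv5 D214836) (iv0 F373497) D218067 F435707
def n218068 : Q := act 5 n188442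
theorem D218068 : act 5 n188442 = n218068 := rfl
theorem F491995 : act 2 n218068 = n203868 := d2_1 D218068 F430178 (iv2 F373498)
theorem F491996 : act 4 n218068 = n203866 := d9_1 D218068 (iv5 D203866) F193199 F88449 (iv4 F119738) D163460 (iv4 F477253) (iv5 D214879) (iv4 D163280) (iv5 D78474) F56437 (iv5 F43494) (iv4 F67180) D91691 D188442
theorem F491997 : act 6 n218068 = n214755 := d12_2 (iv6 F373499) D218068 F476659 (iv6 F444950) F444946
theorem F491998 : act 7 n218068 = n214877 := d13_2 (iv7 F373500) D218068 F477238
theorem F491999 : act 0 n218068 = n214761 := d17_2 F373501 D218068 F476694 (iv4 F430137) (iv5 D203858) (iv0 F262505) (iv5 F445609) (iv0 F445612) (iv4 F369682)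
theorem F492000 : act 1 n218068 = n214757 := d17_6 F324245 F257876 (iv1 D91689) D91691 D188442 D218068 F476673 (iv0 D185665) (iv4 F254509)
def n218069 : Q := act 5 n188445
theorem D218069 : act 5 n188445 = n218069 := rfl
theorem F492001 : act 2 n218069 = n198514 := d2_1 D218069 F414783 F378384
theorem F492002 : act 3 n218069 = n218068 := d6_1 D218069 (iv5 D218068) (iv3 F373504)
theorem F492003 : act 6 n218069 = n198381 := d12_2 F489140 D218069 (iv5 D198381) D198382 (iv5 F489139)
theorem F492004 : act 7 n218069 = n190765 := d13_2 (iv7 F373505) D218069 (iv5 D190765)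
theorem F492005 : act 4 n218069 = n189973 := d16_2 D188445 D218069 (iv5 D189973) (iv4 D95513) (iv5 D44616) F33459 D44616 D95514 (iv2 F293080)
def n218070 : Q := act 5 n188447
theorem D218070 : act 5 n188447 = n218070 := rfl
theorem F492006 : act 2 n218070 = n188458 := d2_1 D218070 (iv5 D188458) (iv2 F373560)
theorem F492007 : act 3 n218070 = n200256 := d6_1 D218070 (iv5 F486405) F486403
theorem F492008 : act 7 n218070 = n188462 := d13_2 (iv7 F373561) D218070 (iv5 D188462)
theorem F492009 : act 1 n218070 = n211713 := d17_8 F443720 (iv5 F450640) F450642 (iv5 F379608) F379607 (iv5 F293107) F373512 D218070 F462806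
def n218071 : Q := act 3 n188448
theorem D218071 : act 3 n188448 = n218071 := rfl
theorem F492010 : act 2 n218071 = n215668 := d0_1 D218071 (iv3 F486408) F486407 (iv3 D188460) (iv2 F373559)
theorem F492011 : act 4 n218071 = n191091 := d5_2 (iv4 F373508) D218071 (iv3 D191091) D191092 F382194
theorem F492012 : act 5 n218071 = n211495 := d6_2 F395338 D218071 (iv3 F461819)
theorem F492013 : act 7 n218071 = n188456 := d8_2 F373558 D218071 (iv3 D188456)
theorem F492014 : act 0 n218071 = n191142 := d19_4 (iv1 F164297) (iv5 F349650) (iv4 F373508) D218071 F382393 (iv4 F415808) (iv3 F430462) (iv1 F430464) (iv5 F427753) F427752 (iv3 D158950) (iv1 F230335) F336976 F216254 F203630 (iv1 F203424) D126521 (iv4 F203443) F164359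
theorem F492015 : act 0 n189654 = n218071 := d20_4 (iv4 D151974) (iv1 F214471) (iv4 F214472) D189654 (iv3 D218071) F373508 (iv1 D132048) D132049 F211533 (iv1 F238988)
theorem F492016 : act 6 n218071 = n189723 := d21_5 (iv5 D191084) (iv1 F380974) (iv5 F416027) F416031 F492015 F443829 (iv1 F258603) (iv5 F289213) D216941 F486630
def n218072 : Q := act 6 n188448
theorem D218072 : act 6 n188448 = n218072 := rfl
theorem F492017 : act 2 n218072 = n188463 := d3_1 D218072 (iv6 D188463) (iv2 F373559)
theorem F492018 : act 3 n218072 = n189723 := d7_1 D218072 (iv6 F492016) (iv3 D218071)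
theorem F492019 : act 4 n218072 = n205528 := d10_1 D218072 F436853 (iv4 F373508)
theorem F492020 : act 5 n218072 = n194148 := d12_1 D218072 (iv6 F395333) (iv5 D194994) D194995 F395338
theorem F492021 : act 7 n218072 = n207608 := d14_2 F373558 D218072 F445655 F394384 (iv6 D188459)
theorem F492022 : act 0 n191207 = n218072 := d17_0 F492020 (iv1 F392196) F373619 D191190 (iv5 F382537) (iv0 D163594) (iv5 F257753) (iv0 F354468) (iv4 F382580)
theorem F492023 : act 1 n194860 = n218072 := d17_6 (iv1 F370056) D215651 F480969 (iv5 D215149) (iv4 F361135) D194860 F492020 (iv0 F392197) F369676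
def n218073 : Q := act 0 n188456
theorem D218073 : act 0 n188456 = n218073 := rfl
theorem F492024 : act 5 n218073 = n200277 := d17_1 D218073 F415803 (iv5 F416324) F416323 F378365 F148700 D190741 (iv0 F380885) (iv4 F410094)
theorem F492025 : act 4 n218073 = n200291 := d18_3 F380889 (iv4 F410094) D218073 F415849 F234567 (iv0 F106423) (iv4 F85213) D96532 D190743
theorem F492026 : act 2 n189654 = n218073 := d15_3 (iv0 D218073) (iv0 F477694) F477693
theorem F492027 : act 1 n215668 = n218073 := d15_0 (iv0 D218073) (iv7 F492013) F492010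
theorem F492028 : act 7 n218073 = n191142 := d15_2 (iv0 F481027) F492027 (iv2 F477691)
theorem F492029 : act 6 n191083 = n218073 := d21_3 (iv5 D97261) D97257 D191083 (iv1 F492027) (iv6 D215668) F382167 (iv1 D164084) (iv5 F136172) D186424 F382165
def n218074 : Q := act 2 n188456
theorem D218074 : act 2 n188456 = n218074 := rfl
theorem F492030 : act 3 n218074 = n211867 := d0_2 D188456 D218074 (iv2 F486402) F486403 F373560
theorem F492031 : act 4 n218074 = n210814 := d1_2 (iv4 F410094) D218074 F458881
theorem F492032 : act 5 n218074 = n211494 := d2_2 F420812 D218074 F461815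
theorem F492033 : act 6 n218074 = n211807 := d3_2 F410095 D218074 (iv2 F463148)
theorem F492034 : act 7 n218074 = n215668 := d4_2 F492013 D218074 (iv2 F492010)
theorem F492035 : act 1 n218074 = n191142 := d15_0 (iv0 F492014) F492013 D218074
theorem F492036 : act 1 n189654 = n218074 := d15_0 F492035 (iv7 F492028) (iv2 F492026)
def n218075 : Q := act 3 n188457
theorem D218075 : act 3 n188457 = n218075 := rfl
theorem F492037 : act 2 n218075 = n191094 := d0_1 D218075 (iv3 F417754) (iv2 F436876) F436877 F373553
theorem F492038 : act 4 n218075 = n190767 := d5_2 D188457 D218075 (iv3 F380972) (iv4 F410094) (iv3 D188456)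
theorem F492039 : act 5 n218075 = n195952 := d6_2 (iv5 F373552) D218075 (iv3 D195952)
theorem F492040 : act 6 n218075 = n191190 := d7_2 F435573 D218075 (iv3 F435572)
theorem F492041 : act 7 n218075 = n191092 := d8_2 F373554 D218075 F382194
theorem F492042 : act 0 n218075 = n201884 := d19_4 F379653 (iv5 D188458) D188457 D218075 (iv5 D201884) (iv4 D115203) (iv3 F335808) D187695 F371206 F361070 D204352 F432169 F352504 (iv4 D131830) D131829 F445090 F445089 F400104 F382468
theorem F492043 : act 0 n201886 = n218075 := d20_4 D207982 F447267 F382674 (iv3 F422220) (iv3 D218075) (iv4 D188457) (iv1 F373514) F373510 F213561 D132943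
def n218076 : Q := act 0 n188458
theorem D218076 : act 0 n188458 = n218076 := rfl
theorem F492044 : act 5 n218076 = n217501 := d17_3 D91873 D188458 D218076 F489190 F445600 (iv0 F442153) (iv5 F373530) (iv0 D188452) F141245
theorem F492045 : act 4 n218076 = n196168 := d18_1 D218076 (iv1 D196168) (iv4 F399681) F445566 F445564 F373533 (iv4 F373510) F373514 D188458
theorem F492046 : act 1 n188462 = n218076 := d15_0 (iv0 D218076) F395339 F395337
theorem F492047 : act 7 n218076 = n211713 := d15_2 (iv0 F399750) F492046 F462804
theorem F492048 : act 3 n198531 = n218076 := d19_19 (iv1 F492046) (iv5 D188462) D188461 (iv3 F373569) F377471 (iv5 F377468) (iv4 F398223) (iv3 F441260) F441263 F333485 (iv4 F218452) F347552 F417217 F417215 (iv4 F395323) (iv3 F395321) (iv1 F169206) D109518 D198531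
theorem F492049 : act 6 n194335 = n218076 := d21_3 F147176 D103225 D194335 (iv1 F492046) (iv6 F379631) (iv5 F399747) (iv1 D196181) (iv5 D106731) D106732 (iv1 F372129)
def n218077 : Q := act 4 n188458
theorem D218077 : act 4 n188458 = n218077 := rfl
theorem F492050 : act 3 n218077 = n207216 := d5_1 D218077 F443847 F259286 F420810 (iv3 F420813)
theorem F492051 : act 5 n218077 = n208739 := d9_2 D188458 D218077 F450652 (iv5 F398838) (iv4 D195951) (iv5 F373568) (iv4 D188461) D188462 (iv4 F399671) F450659 F450657 (iv5 F398844) (iv4 D195953) (iv5 F373552) (iv4 D188457)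
theorem F492052 : act 7 n218077 = n207213 := d11_2 (iv7 F395339) D218077 F443823
def n218078 : Q := act 6 n188458
theorem D218078 : act 6 n188458 = n218078 := rfl
theorem F492053 : act 3 n218078 = n216922 := d7_1 D218078 (iv6 F486549) (iv3 F420813)
theorem F492054 : act 5 n218078 = n199754 := d12_1 D218078 F413359 (iv5 F381900) (iv6 D188459) D188458
theorem F492055 : act 0 n218078 = n215685 := d21_4 (iv5 F291971) D91873 D188458 D218078 (iv6 D215685) F363508 (iv1 F392215) (iv5 F392216) (iv6 D190481) (iv1 D96049)
def n218079 : Q := act 1 n188459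
theorem D218079 : act 1 n188459 = n218079 := rfl
theorem F492056 : act 7 n218079 = n191203 := d15_2 F476743 D218079 (iv2 F476739)
theorem F492057 : act 4 n218079 = n191163 := d17_9 (iv1 F476733) (iv5 F476736) (iv1 D166576) (iv5 F326387) (iv4 F133985) (iv5 F290796) D191021 (iv5 F381900) D218079
theorem F492058 : act 3 n211707 = n218079 := d20_3 F474520 (iv1 F377088) (iv4 F462783) (iv1 D218079) F410096 (iv4 D176901) (iv1 D84328) D84329 D176905 (iv1 F474524)
theorem F492059 : act 5 n216825 = n218079 := d21_0 (iv1 D218079) F381900 (iv6 F413359) (iv1 F434984) (iv6 F462796) (iv5 D211711) F379079 (iv5 F379070) F379069 (iv1 F486074)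
theorem F492060 : act 6 n191126 = n218079 := d21_3 F291961 D103269 (iv5 F382479) (iv1 D218079) (iv6 D188459) D188458 D218076 F492044 (iv6 D217501) (iv1 D187415)
theorem F492061 : act 6 n217373 = n216825 := d21_5 (iv5 D190426) (iv1 F378521) (iv5 F488641) F488642 (iv1 F488617) F492059 (iv1 D218079) F381900 (iv6 F413359) (iv1 F434984)
theorem F492062 : act 3 n216825 = n217389 := d7_1 F492061 (iv6 D217389) (iv3 F488621)
theorem F492063 : act 2 n218079 = n191151 := d3_1 F492060 (iv6 F454456) F454451
def n218080 : Q := act 1 n188460
theorem D218080 : act 1 n188460 = n218080 := rfl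
theorem F492064 : act 1 n218080 = n211867 := d15_1 D218080 (iv7 F486411) F486407
theorem F492065 : act 7 n218080 = n191175 := d15_2 (iv0 F377270) D218080 F382481
theorem F492066 : act 3 n200277 = n218080 := d19_19 (iv1 D218080) F410021 (iv4 F379761) (iv3 F379762) (iv1 F178459) F178457 (iv4 F403792) (iv3 F403934) (iv1 F403941) D199336 F411757 (iv3 F398600) (iv1 F398602) F392265 (iv4 D194177) F291389 (iv1 D119068) (iv5 F175874) (iv4 F415801)
theorem F492067 : act 6 n191100 = n218080 := d21_9 F410021 (iv1 D144217) F103447 (iv6 D52193) (iv1 F79015) D108171 (iv5 F340438) F259102 D191100 (iv1 D218080)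
def n218081 : Q := act 7 n188463
theorem D218081 : act 7 n188463 = n218081 := rfl
theorem F492068 : act 2 n218081 = n207608 := d4_1 D218081 (iv7 F492021) F492017
theorem F492069 : act 3 n218081 = n207149 := d8_1 D218081 (iv7 F443748) F443746
theorem F492070 : act 4 n218081 = n205533 := d11_1 D218081 (iv7 D205533) (iv4 F373571)
theorem F492071 : act 5 n218081 = n214872 := d13_1 D218081 (iv7 F477667) F477662
theorem F492072 : act 1 n191207 = n218081 := d15_1 (iv0 F492022) (iv7 D218081) (iv2 F492017)
theorem F492073 : act 1 n218081 = n194860 := d15_1 F492072 F394778 (iv2 F382578)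
def n218082 : Q := act 7 n188465
theorem D218082 : act 7 n188465 = n218082 := rfl
theorem F492074 : act 2 n218082 = n208836 := d4_1 D218082 (iv7 F483891) F483887
theorem F492075 : act 3 n218082 = n188469 := d8_1 D218082 (iv7 D188469) (iv3 F373573)
theorem F492076 : act 4 n218082 = n196575 := d11_1 D218082 (iv7 F402334) F402336
theorem F492077 : act 5 n218082 = n193644 := d13_1 D218082 (iv7 D193644) (iv5 F373574)
theorem F492078 : act 6 n218082 = n201353 := d14_1 D218082 F420109 (iv6 F362815) F362816 D188465
theorem F492079 : act 1 n208835 = n218082 := d15_1 (iv0 F483893) (iv7 D218082) (iv2 F483887)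
theorem F492080 : act 1 n218082 = n208797 := d15_1 F492079 F450922 (iv2 F451055)
def n218083 : Q := act 5 n188467
theorem D218083 : act 5 n188467 = n218083 := rfl
theorem F492081 : act 2 n218083 = n213579 := d2_1 D218083 F471129 F373582
theorem F492082 : act 3 n218083 = n215589 := d6_1 D218083 (iv5 F484538) F484537
theorem F492083 : act 6 n218083 = n213477 := d12_2 F483657 D218083 F470579 (iv6 F419257) D216288
theorem F492084 : act 7 n218083 = n216805 := d13_2 F373583 D218083 (iv5 D216805)
theorem F492085 : act 4 n218083 = n213478 := d16_2 (iv4 F373581) D218083 F470584 (iv4 F420114) F420113 (iv4 D192512) F364346 F344309 F344308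
theorem F492086 : act 0 n218083 = n216718 := d17_2 D188467 D218083 F485605 (iv4 F489532) F489528 (iv0 F376143) (iv5 F467757) (iv0 F467760) F373578
theorem F492087 : act 1 n218083 = n216729 := d17_6 (iv1 F364363) (iv5 D100667) (iv1 F364353) F145090 (iv4 F373581) D218083 F485662 F483946 F356717
def n218084 : Q := act 5 n188468
theorem D218084 : act 5 n188468 = n218084 := rfl
theorem F492088 : act 2 n218084 = n216805 := d2_1 D218084 (iv5 D216805) F373588
theorem F492089 : act 4 n218084 = n213582 := d9_1 D218084 F471139 (iv4 F420121) (iv5 F420123) F377093 F145090 (iv4 F373581) D218083 F492085 F470584 (iv4 F420114) F420113 (iv4 D192512) F364346 (iv4 F373587)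
theorem F492090 : act 6 n218084 = n216281 := d12_2 F459063 D218084 F483609 (iv6 F392164) D210866
theorem F492091 : act 7 n218084 = n213579 := d13_2 (iv7 F373586) D218084 F471129
theorem F492092 : act 0 n218084 = n216729 := d17_2 (iv1 F373585) D218084 F485662 F483947 (iv5 F376783) (iv0 F489332) F489330 (iv0 F386992) F356698
theorem F492093 : act 1 n218084 = n216718 := d17_6 (iv1 F364351) F292119 D100254 F364346 (iv4 F373587) D218084 F485605 (iv0 D216345) (iv4 F364060)
def n218085 : Q := act 1 n188473
theorem D218085 : act 1 n188473 = n218085 := rfl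
theorem F492094 : act 1 n218085 = n216768 := d15_1 D218085 F485858 F384564
theorem F492095 : act 7 n218085 = n216791 := d15_2 F491464 D218085 (iv2 F491461)
theorem F492096 : act 4 n218085 = n216664 := d18_7 (iv1 F370206) F373598 (iv1 D188470) F141527 D92040 D188473 D218085 (iv0 F486045) (iv5 D216818)
theorem F492097 : act 2 n216790 = n218085 := d1_3 F492096 F485369 (iv4 F485929)
def n218086 : Q := act 5 n188473
theorem D218086 : act 5 n188473 = n218086 := rfl
theorem F492098 : act 7 n218086 = n216793 := d13_2 (iv7 F373609) D218086 (iv5 D216793)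
def n218087 : Q := act 3 n188475
theorem D218087 : act 3 n188475 = n218087 := rfl
theorem F492099 : act 4 n218087 = n213118 := d5_2 (iv4 F373612) D218087 (iv3 D213118) F239737 (iv3 F370579)
def n218088 : Q := act 5 n188475
theorem D218088 : act 5 n188475 = n218088 := rfl
theorem F492100 : act 2 n218088 = n216279 := d2_1 D218088 F483604 F398295
theorem F492101 : act 4 n218088 = n216583 := d9_1 D218088 (iv5 D216583) (iv4 F356687) F163376 (iv4 F163371) (iv5 F370584) (iv4 F370588) (iv5 F470217) (iv4 F491661) (iv5 D218007) F372973 (iv5 D105907) (iv4 F162624) (iv5 F370578) (iv4 F373612)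
theorem F492102 : act 6 n218088 = n213398 := d12_2 F466745 D218088 (iv5 F484662) F484663 (iv5 F466744)
theorem F492103 : act 0 n218088 = n195840 := d17_2 (iv1 F373611) D218088 (iv5 D195840) (iv4 D106331) (iv5 D49141) (iv0 F77248) D105907 (iv0 F162646) D114353
theorem F492104 : act 1 n218088 = n201334 := d17_6 F371535 (iv5 D114478) F162627 (iv5 F370578) (iv4 F373612) D218088 (iv5 D201334) F398397 F398396
def n218089 : Q := act 5 n188479
theorem D218089 : act 5 n188479 = n218089 := rfl
theorem F492105 : act 2 n218089 = n188484 := d2_1 D218089 (iv5 D188484) (iv2 F373628)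
theorem F492106 : act 7 n218089 = n215062 := d13_2 (iv7 F373631) D218089 (iv5 D215062)
theorem F492107 : act 0 n218089 = n215063 := d17_2 F373632 D218089 F478147 F439496 (iv5 F442274) (iv0 F442276) (iv5 D200084) (iv0 F357776) F262473
theorem F492108 : act 1 n218089 = n214760 := d17_6 (iv1 F323887) F359071 F359073 (iv5 F338713) (iv4 F373629) D218089 (iv5 D214760) (iv0 F254494) F248948
def n218090 : Q := act 5 n188481
theorem D218090 : act 5 n188481 = n218090 := rfl
theorem F492109 : act 3 n218090 = n188487 := d6_1 D218090 (iv5 D188487) (iv3 F373636)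
theorem F492110 : act 6 n218090 = n188484 := d12_2 D188481 D218090 (iv5 D188484) (iv6 D92178) D92177
theorem F492111 : act 0 n218090 = n194981 := d17_2 F373638 D218090 (iv5 F473773) F473772 F295136 F138328 D187405 (iv0 F370211) D187410
theorem F492112 : act 1 n218090 = n191019 := d17_6 (iv1 F381182) F379879 (iv1 D188470) D188471 (iv4 F373637) D218090 F381898 D191193 F382546
def n218091 : Q := act 5 n188483
theorem D218091 : act 5 n188483 = n218091 := rfl
theorem F492113 : act 2 n218091 = n214892 := d2_1 D218091 (iv5 D214892) (iv2 F373649)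
theorem F492114 : act 3 n218091 = n190910 := d6_1 D218091 (iv5 F392641) F392639
theorem F492115 : act 4 n218091 = n210307 := d9_1 D218091 (iv5 D210307) (iv4 D138184) (iv5 D64910) D64909 D138182 (iv4 F373639) (iv5 F373644) (iv4 F456909) (iv5 D210299) (iv4 D138167) (iv5 D64905) D64904 D138162 F373648
theorem F492116 : act 7 n218091 = n190905 := d13_2 (iv7 F373647) D218091 F381504
theorem F492117 : act 0 n218091 = n209613 := d17_2 (iv1 F373646) D218091 F454334 F248948 (iv5 F321964) F340129 (iv5 F340143) F298621 D165877
theorem F492118 : act 1 n218091 = n210292 := d17_6 F476679 F407059 F351695 D138162 F373648 D218091 (iv5 D210292) F366247 (iv4 F476676)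
def n218092 : Q := act 1 n188484
theorem D218092 : act 1 n188484 = n218092 := rfl
theorem F492119 : act 1 n218092 = n215062 := d15_1 D218092 (iv7 F492106) F492105
theorem F492120 : act 7 n218092 = n215063 := d15_2 (iv0 F439514) D218092 F478149
theorem F492121 : act 5 n218092 = n203817 := d17_7 F333836 F346121 F346124 (iv5 F323398) (iv4 F141775) D188484 D218092 F429953 F395273
theorem F492122 : act 2 n214760 = n218092 := d2_3 F492121 F429956 D214760
def n218093 : Q := act 4 n188484
theorem D218093 : act 4 n188484 = n218093 := rfl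
theorem F492123 : act 3 n218093 = n215064 := d5_1 D218093 (iv4 D215064) F261252 (iv4 F296206) (iv3 F373650)
theorem F492124 : act 7 n218093 = n215064 := d11_2 (iv7 F373651) D218093 (iv4 D215064)
theorem F492125 : act 5 n218093 = n207899 := d16_1 D218093 F446927 (iv5 F442267) (iv4 D206809) F323631 D165877 D215062 (iv7 F492106) F492105
def n218094 : Q := act 5 n188485
theorem D218094 : act 5 n188485 = n218094 := rfl
def n218095 : Q := act 5 n188486
theorem D218095 : act 5 n188486 = n218095 := rfl
theorem F492126 : act 6 n214751 = n218095 := d21_5 (iv5 D77200) (iv1 F58365) D81862 D170749 (iv1 F476650) (iv5 D218095) (iv1 D188486) D188487 F373658 F296204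
theorem F492127 : act 4 n218095 = n214752 := d10_1 F492126 (iv6 D214752) D214751
def n218096 : Q := act 0 n188487
theorem D218096 : act 0 n188487 = n218096 := rfl
theorem F492128 : act 5 n218096 = n215718 := d17_3 (iv1 D188486) D188487 D218096 (iv4 F486691) F486690 (iv0 D189501) (iv5 F292426) D188164 F373652
theorem F492129 : act 4 n218096 = n214884 := d18_1 D218096 (iv1 F477286) (iv4 F477198) F477199 F416117 F372512 (iv4 F373787) (iv0 D188485) D188487
theorem F492130 : act 6 n218096 = n215479 := d21_5 (iv5 D78460) F296124 D92182 (iv6 F373658) D218096 (iv5 D215479) (iv1 D174647) D174649 (iv6 F353318) F248767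
theorem F492131 : act 7 n215717 = n218096 := d13_0 F492128 (iv7 D215718) D215717
theorem F492132 : act 4 n203872 = n215717 := d11_3 F492131 F492129 F477288
def n218097 : Q := act 1 n188487
theorem D218097 : act 1 n188487 = n218097 := rfl
theorem F492133 : act 6 n191038 = n218097 := d21_3 F390743 F393741 F393737 (iv1 D218097) F373658 (iv5 D92182) (iv1 F296123) D77018 D160620 (iv1 F390744)
theorem F492134 : act 5 n211872 = n218097 := d21_6 (iv5 F292434) (iv1 F54914) D37807 D82424 (iv1 F365428) D211872 (iv1 D218097) (iv5 D188487) (iv6 D92179) F292430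
theorem F492135 : act 2 n218097 = n215717 := d2_1 F492134 (iv5 D215717) (iv2 F463345)
theorem F492136 : act 3 n218097 = n191039 := d6_1 F492134 F381950 (iv3 F463346)
theorem F492137 : act 4 n218097 = n214885 := d18_5 (iv1 D207226) (iv4 F443868) F486617 F486615 F492134 F477277 (iv4 F477198) F477201 (iv5 F443892)
def n218098 : Q := act 7 n188487
theorem D218098 : act 7 n188487 = n218098 := rfl
theorem F492138 : act 5 n218098 = n188488 := d13_1 D218098 (iv7 D188488) D188487
theorem F492139 : act 1 n215717 = n218098 := d15_1 (iv0 F481221) (iv7 D218098) (iv2 F373792)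
def n218099 : Q := act 5 n188492
theorem D218099 : act 5 n188492 = n218099 := rfl
theorem F492140 : act 2 n218099 = n214997 := d2_1 D218099 (iv5 D214997) (iv2 F373678)
theorem F492141 : act 3 n218099 = n202807 := d6_1 D218099 F425669 (iv3 F392645)
theorem F492142 : act 7 n218099 = n215093 := d13_2 (iv7 F373680) D218099 (iv5 D215093)
theorem F492143 : act 4 n218099 = n209061 := d16_2 (iv4 F373679) D218099 (iv5 F489867) F489866 F371178 (iv4 F403242) F403241 F340159 F254459
theorem F492144 : act 1 n218099 = n215506 := d17_6 (iv1 D124644) (iv5 F335977) F336476 (iv5 F336470) (iv4 F373679) D218099 F480256 (iv0 F434061) (iv4 D204896)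
def n218100 : Q := act 5 n188500
theorem D218100 : act 5 n188500 = n218100 := rfl
theorem F492145 : act 2 n218100 = n208541 := d2_1 D218100 (iv5 D208541) (iv2 F373729)
theorem F492146 : act 7 n218100 = n215061 := d13_2 (iv7 F373730) D218100 (iv5 D215061)
theorem F492147 : act 4 n218100 = n209611 := d18_5 (iv1 D188483) F141775 D92200 D188500 D218100 (iv0 D209611) D209613 (iv0 F492117) (iv5 D218091)
def n218101 : Q := act 5 n188501
theorem D218101 : act 5 n188501 = n218101 := rfl
theorem F492148 : act 2 n218101 = n215061 := d2_1 D218101 (iv5 D215061) (iv2 F373731)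
theorem F492149 : act 3 n218101 = n214710 := d6_1 D218101 F476477 F430144
theorem F492150 : act 7 n218101 = n208541 := d13_2 (iv7 F373732) D218101 (iv5 D208541)
theorem F492151 : act 4 n218101 = n209612 := d20_6 (iv4 F119669) F119671 (iv4 F115800) (iv3 F253817) D214710 (iv3 F492149) (iv1 D209612) D209613 F454331 F248951
def n218102 : Q := act 5 n188504
theorem D218102 : act 5 n188504 = n218102 := rfl
theorem F492152 : act 2 n218102 = n188521 := d2_1 D218102 (iv5 D188521) (iv2 F373805)
theorem F492153 : act 3 n218102 = n200349 := d6_1 D218102 F416097 (iv3 F373751)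
theorem F492154 : act 6 n218102 = n200347 := d12_2 F392186 D218102 F416088 (iv6 D194144) D194143
theorem F492155 : act 7 n218102 = n188526 := d13_2 (iv7 F373806) D218102 (iv5 D188526)
theorem F492156 : act 0 n190413 = n218102 := d21_10 (iv5 D218102) (iv1 F373757) F294563 (iv6 D93889) F143186 (iv6 F374984) (iv5 D188815) D188813 F375219 F379712
theorem F492157 : act 4 n217028 = n218102 := d1_0 F492152 (iv4 F377166) D217028
def n218103 : Q := act 6 n188505
theorem D218103 : act 6 n188505 = n218103 := rfl
theorem F492158 : act 2 n218103 = n188527 := d3_1 D218103 (iv6 D188527) (iv2 F373809)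
theorem F492159 : act 4 n218103 = n216932 := d10_1 D218103 F486589 F480956
theorem F492160 : act 5 n218103 = n207311 := d12_1 D218103 (iv6 F447628) F447630 D216846 F486192
theorem F492161 : act 7 n218103 = n207318 := d14_2 (iv7 F373810) D218103 F444313 F392181 (iv6 D188522)
theorem F492162 : act 0 n189712 = n218103 := d21_4 F164389 D188832 F375030 D189712 (iv6 D218103) (iv5 F486192) F486191 (iv5 F379719) F379720 F375070
theorem F492163 : act 1 n209130 = n218103 := d15_0 (iv0 F492162) (iv7 F451363) (iv2 F452394)
def n218104 : Q := act 4 n188510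
theorem D218104 : act 4 n188510 = n218104 := rfl
theorem F492164 : act 2 n218104 = n189735 := d1_1 D218104 (iv4 D189735) (iv2 F390828)
theorem F492165 : act 3 n218104 = n207207 := d5_1 D218104 F443801 F209185 (iv4 F209108) (iv3 F390829)
theorem F492166 : act 6 n218104 = n207147 := d10_2 (iv6 F390831) D218104 (iv4 D207147)
theorem F492167 : act 7 n218104 = n189731 := d11_2 (iv7 F390832) D218104 (iv4 D189731)
def n218105 : Q := act 4 n188511
theorem D218105 : act 4 n188511 = n218105 := rfl
theorem F492168 : act 2 n218105 = n189731 := d1_1 D218105 (iv4 D189731) (iv2 F390833)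
theorem F492169 : act 7 n218105 = n189735 := d11_2 (iv7 F390835) D218105 (iv4 D189735)
theorem F492170 : act 3 n217026 = n218105 := d20_5 (iv4 D90770) F65984 D89021 D186667 D217026 (iv4 D218105) (iv1 D188511) F292613 F144786 (iv1 F139699)
def n218106 : Q := act 6 n188512
theorem D218106 : act 6 n188512 = n218106 := rfl
theorem F492171 : act 2 n218106 = n188513 := d3_1 D218106 (iv6 D188513) D188512
theorem F492172 : act 3 n218106 = n191150 := d7_1 D218106 (iv6 F382745) (iv3 F373774)
theorem F492173 : act 0 n218106 = n208890 := d21_4 (iv5 F413684) (iv1 F258569) (iv5 F373775) D218106 F451277 (iv5 D137144) (iv1 F220323) F390838 (iv6 D103002) D102999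
def n218107 : Q := act 0 n188513
theorem D218107 : act 0 n188513 = n218107 := rfl
theorem F492174 : act 3 n218107 = n201705 := d20_5 (iv4 D188525) (iv1 D92348) (iv4 F142021) (iv3 F373780) D218107 (iv4 D201705) F419096 (iv4 F462852) F462853 (iv1 F416120)
theorem F492175 : act 6 n218107 = n194056 := d21_5 F365634 (iv1 D158032) (iv5 F142018) D188513 D218107 F391898 (iv1 F425780) (iv5 F425784) (iv6 D194223) (iv1 F270256)
theorem F492176 : act 2 n208890 = n218107 := d3_3 F492175 (iv2 F391899) (iv6 F451277)
def n218108 : Q := act 1 n188513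
theorem D218108 : act 1 n188513 = n218108 := rfl
theorem F492177 : act 7 n218108 = n208890 := d15_2 (iv0 D218107) D218108 F492176
theorem F492178 : act 3 n208892 = n218108 := d20_3 (iv4 D208029) (iv1 F217471) (iv4 F451285) (iv1 D218108) F373780 F142021 D92347 D188520 F377162 (iv1 F447522)
def n218109 : Q := act 5 n188513
theorem D218109 : act 5 n188513 = n218109 := rfl
theorem F492179 : act 3 n218109 = n188516 := d6_1 D218109 (iv5 D188516) (iv3 F373780)
theorem F492180 : act 6 n218109 = n214275 := d12_2 D188513 D218109 (iv5 D214275) F296211 (iv5 F142018)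
theorem F492181 : act 4 n218109 = n204072 := d16_6 D204067 F430960 (iv4 D189461) D189462 F430969 D218109 (iv5 D204072) (iv7 F430996) F430994
theorem F492182 : act 0 n218109 = n215483 := d21_7 F258641 (iv1 F297274) D203878 F430199 (iv1 D188511) D188513 D218109 F480184 (iv6 F477631) (iv1 F477628)
def n218110 : Q := act 7 n188513
theorem D218110 : act 7 n188513 = n218110 := rfl
theorem F492183 : act 3 n218110 = n188517 := d8_1 D218110 (iv7 D188517) (iv3 F373780)
theorem F492184 : act 6 n218110 = n189658 := d14_1 D218110 (iv7 D189658) F145405 F293460 D188513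
theorem F492185 : act 0 n208890 = n218110 := d21_4 (iv5 D209943) (iv1 F220322) D137144 (iv6 F451277) F492184 F377284 F377215 (iv5 F377285) (iv6 F390719) (iv1 F455472)
def n218111 : Q := act 5 n188514
theorem D218111 : act 5 n188514 = n218111 := rfl
theorem F492186 : act 2 n218111 = n218094 := d2_1 D218111 (iv5 D218094) (iv2 F373786)
theorem F492187 : act 3 n218111 = n202831 := d6_1 D218111 (iv5 D202831) F373782
theorem F492188 : act 6 n218111 = n202827 := d12_2 (iv6 F373781) D218111 (iv5 D202827) (iv6 D117001) D117000
theorem F492189 : act 7 n218111 = n218095 := d13_2 F373784 D218111 (iv5 D218095)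
def n218112 : Q := act 5 n188515
theorem D218112 : act 5 n188515 = n218112 := rfl
theorem F492190 : act 2 n218112 = n218095 := d2_1 D218112 (iv5 D218095) F373790
theorem F492191 : act 7 n218112 = n218094 := d13_2 (iv7 F373789) D218112 (iv5 D218094)
def n218113 : Q := act 6 n188515
theorem D218113 : act 6 n188515 = n218113 := rfl
theorem F492192 : act 2 n218113 = n211835 := d3_1 D218113 F463240 F373790
theorem F492193 : act 3 n218113 = n191195 := d7_1 D218113 (iv6 F482947) F482946
theorem F492194 : act 4 n218113 = n207093 := d10_1 D218113 (iv6 F443284) F373791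
theorem F492195 : act 7 n218113 = n211826 := d14_2 (iv7 F373789) D218113 (iv6 D211826) (iv7 F425739) F425742
theorem F492196 : act 1 n211833 = n218113 := d15_1 D211833 F492195 F463213
theorem F492197 : act 0 n211832 = n218113 := d18_0 F492194 (iv1 D207093) D207094 F443287 F433369 F433353 (iv4 F429441) D215709 F481194
def n218114 : Q := act 0 n188516
theorem D218114 : act 0 n188516 = n218114 := rfl
theorem F492198 : act 4 n218114 = n203871 := d18_1 D218114 (iv1 F477291) F477284 (iv5 F468511) F468509 F344971 (iv4 F373783) (iv0 D188514) D188516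
theorem F492199 : act 6 n218114 = n215488 := d21_5 (iv5 D77187) (iv1 F112765) D157883 (iv6 F373793) D218114 (iv5 F480203) (iv1 F478938) (iv5 F476439) (iv6 D214698) F253753
theorem F492200 : act 2 n218096 = n218114 := d15_3 (iv0 D218114) (iv0 F481221) F492131
theorem F492201 : act 7 n218114 = n218097 := d4_2 F492131 F492200 F492135
theorem F492202 : act 1 n218098 = n218114 := d15_1 F492139 F492201 F492135
def n218115 : Q := act 7 n188516
theorem D218115 : act 7 n188516 = n218115 := rfl
theorem F492203 : act 2 n218115 = n218098 := d4_1 D218115 (iv7 D218098) (iv2 F373792)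
theorem F492204 : act 5 n218115 = n188517 := d13_1 D218115 (iv7 D188517) D188516
theorem F492205 : act 1 n218097 = n218115 := d15_1 D218097 (iv7 D218115) F373792
theorem F492206 : act 1 n218115 = n218096 := d15_1 F492205 (iv7 F492131) (iv2 F492135)
def n218116 : Q := act 5 n188520
theorem D218116 : act 5 n188520 = n218116 := rfl
theorem F492207 : act 3 n218116 = n211965 := d6_1 D218116 (iv5 D211965) (iv3 F377162)
theorem F492208 : act 6 n218116 = n211963 := d12_2 F377161 D218116 (iv5 D211963) (iv6 D144503) D144502
theorem F492209 : act 7 n218116 = n215144 := d13_2 F480955 D218116 F480958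
def n218117 : Q := act 5 n188524
theorem D218117 : act 5 n188524 = n218117 := rfl
theorem F492210 : act 2 n218117 = n208132 := d2_1 D218117 F448022 (iv2 F373807)
theorem F492211 : act 3 n218117 = n188526 := d6_1 D218117 (iv5 D188526) D188524
theorem F492212 : act 6 n218117 = n208137 := d12_2 F441753 D218117 F448043 F447644 (iv5 F441754)
theorem F492213 : act 7 n218117 = n200349 := d13_2 F373802 D218117 F416097
theorem F492214 : act 1 n218117 = n208123 := d17_6 (iv1 F373528) F373525 (iv1 F373489) (iv5 F358378) (iv4 F373801) D218117 F447981 F402833 (iv4 F362868)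
theorem F492215 : act 0 n218117 = n207279 := d18_0 (iv4 F474578) F474580 F448000 F395353 (iv4 F445390) F445388 F445084 F373803 D218117
def n218118 : Q := act 5 n188525
theorem D218118 : act 5 n188525 = n218118 := rfl
theorem F492216 : act 2 n218118 = n215144 := d2_1 D218118 F480958 (iv2 F480961)
theorem F492217 : act 6 n218118 = n214747 := d21_3 F477199 (iv1 F416120) D218118 (iv1 F476646) F262418 (iv5 F348745) D194857 (iv5 F394768) (iv6 F394769) (iv1 F477201)
theorem E104041 : n215140 = n214747 := ((c3_1 F492217 (iv2 D215140) D215144 (iv2 F492216))).symm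
theorem F492218 : act 2 n214747 = n166713 := (sb E104041 (iv2 D215140))
theorem F492219 : act 3 n214747 = n217415 := (sb E104041 (iv3 F488798))
theorem F492220 : act 5 n214747 = n217414 := (sb E104041 F488795)
theorem F492221 : act 7 n214747 = n166714 := (sb E104041 (iv7 F478554))
theorem E104042 : n215145 = n214748 := (c15_4 F476641 F476646 F492221 (iv2 F478559))
theorem F492222 : act 2 n214748 = n166714 := (sb E104042 F478559)
theorem F492223 : act 7 n214748 = n166713 := (sb E104042 (iv7 D215145))
def n218119 : Q := act 4 n188526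
theorem D218119 : act 4 n188526 = n218119 := rfl
theorem F492224 : act 2 n218119 = n189499 := d1_1 D218119 (iv4 F486189) F486187
theorem F492225 : act 7 n218119 = n217028 := d11_2 F492155 D218119 F492157
theorem F492226 : act 1 n217027 = n218119 := d15_1 D217027 F492225 (iv2 D217028)
theorem F492227 : act 1 n218119 = n217026 := d15_0 (iv0 D217026) (iv7 F376720) (iv2 F492224)
def n218120 : Q := act 7 n188527
theorem D218120 : act 7 n188527 = n218120 := rfl
theorem F492228 : act 2 n218120 = n207318 := d4_1 D218120 (iv7 F492161) F492158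
theorem F492229 : act 3 n218120 = n214504 := d8_1 D218120 F475507 (iv3 F441756)
theorem F492230 : act 4 n218120 = n216816 := d11_1 D218120 F486038 F448266
theorem F492231 : act 5 n218120 = n207312 := d13_1 D218120 F444283 (iv5 F373812)
theorem F492232 : act 1 n189712 = n218120 := d15_1 (iv0 F492162) (iv7 D218120) (iv2 F492158)
theorem F492233 : act 1 n218120 = n209130 := d15_1 F492232 F452397 F392310
def n218121 : Q := act 0 n188528
theorem D218121 : act 0 n188528 = n218121 := rfl
theorem F492234 : act 5 n218121 = n189407 := d19_1 D218121 F376548 (iv3 F377643) (iv1 F413853) (iv5 F444096) (iv4 D207276) F365736 (iv1 F376293) (iv5 F376294) F367055 F367765 (iv1 D186711) (iv5 D89064) F65933 (iv3 D20840) (iv1 F65890) D43225 D92418 D188528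
theorem F492235 : act 6 n217025 = n218121 := d12_0 F492234 (iv6 D189407) F144774 (iv6 F367593) D217025
def n218122 : Q := act 1 n188528
theorem D218122 : act 1 n188528 = n218122 := rfl
theorem F492236 : act 4 n203873 = n218122 := d20_6 F486548 (iv1 F429293) (iv4 F474557) (iv3 F478396) F478400 F445636 (iv1 D218122) (iv4 F486554) (iv3 D216925) (iv1 F486547)
theorem F492237 : act 6 n218122 = n203876 := d10_2 (iv6 F430184) F492236 (iv4 D203876)
def n218123 : Q := act 2 n188528
theorem D218123 : act 2 n188528 = n218123 := rfl
theorem F492238 : act 3 n218123 = n217028 := d0_2 D188528 D218123 (iv2 D217028) (iv3 D186667) (iv2 F142142)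
theorem F492239 : act 5 n218123 = n218119 := d2_2 F376719 D218123 F492224
def n218124 : Q := act 5 n188535
theorem D218124 : act 5 n188535 = n218124 := rfl
theorem F492240 : act 2 n218124 = n214549 := d2_1 D218124 (iv5 D214549) (iv2 F373849)
theorem F492241 : act 3 n218124 = n188536 := d6_1 D218124 (iv5 D188536) D188535
theorem F492242 : act 6 n218124 = n218100 := d12_2 F480914 D218124 (iv5 D218100) (iv6 F380274) (iv5 F480910)
theorem F492243 : act 7 n218124 = n190827 := d13_2 (iv7 F373851) D218124 (iv5 D190827)
def n218125 : Q := act 6 n188536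
theorem D218125 : act 6 n188536 = n218125 := rfl
theorem F492244 : act 2 n218125 = n190826 := d3_1 D218125 (iv6 D190826) (iv2 F373854)
theorem F492245 : act 3 n218125 = n218100 := d7_1 D218125 (iv6 F492242) F492241
theorem F492246 : act 4 n218125 = n208087 := d10_1 D218125 (iv6 F488705) F488701
theorem F492247 : act 5 n218125 = n190607 := d12_1 D218125 (iv6 D190607) (iv5 F369992) F369994 D188536
theorem F492248 : act 0 n218125 = n214202 := d21_4 (iv5 D96964) F147483 D188536 D218125 F473974 D214213 F474022 (iv5 F447841) F447842 F377930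
def n218126 : Q := act 6 n188542
theorem D218126 : act 6 n188542 = n218126 := rfl
theorem F492249 : act 2 n218126 = n190830 := d3_1 D218126 (iv6 D190830) (iv2 F373880)
theorem F492250 : act 3 n218126 = n200346 := d7_1 D218126 (iv6 F416084) (iv3 F373881)
theorem F492251 : act 4 n218126 = n211732 := d10_1 D218126 (iv6 F488710) F488708
theorem F492252 : act 5 n218126 = n194616 := d12_1 D218126 (iv6 D194616) F360294 (iv6 F360291) D188542
theorem F492253 : act 7 n208093 = n218126 := d11_0 F492251 (iv7 D211732) (iv4 F447848)
def n218127 : Q := act 5 n188547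
theorem D218127 : act 5 n188547 = n218127 := rfl
theorem F492254 : act 2 n218127 = n190267 := d2_1 D218127 (iv5 D190267) F373899
theorem F492255 : act 3 n218127 = n190219 := d6_1 D218127 (iv5 D190219) F373902
theorem F492256 : act 6 n218127 = n210029 := d12_2 (iv6 F373898) D218127 (iv5 D210029) (iv6 D137285) D137284
theorem F492257 : act 7 n218127 = n190268 := d13_2 (iv7 F373900) D218127 (iv5 D190268)
theorem F492258 : act 0 n218127 = n191106 := d17_2 D188547 D218127 (iv5 D191106) (iv4 F259112) (iv5 F288171) F288169 F288167 (iv0 D92439) D92441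
theorem F492259 : act 1 n218127 = n214215 := d17_6 F251968 (iv5 D90666) D90664 F193571 (iv4 F373897) D218127 (iv5 F486103) F486105 F382239
def n218128 : Q := act 0 n188548
theorem D218128 : act 0 n188548 = n218128 := rfl
theorem F492260 : act 5 n218128 = n189290 := d17_3 F251659 D188548 D218128 (iv4 D189290) (iv5 D93854) (iv0 D43871) D43873 (iv0 F251646) D159734
theorem F492261 : act 2 n190270 = n218128 := d2_3 F492260 F382240 (iv5 F382243)
theorem F492262 : act 3 n190225 = n218128 := d6_3 F492260 (iv3 F436741) F436742
theorem F492263 : act 7 n190271 = n218128 := d13_0 F492260 (iv7 F382245) F382250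
theorem F492264 : act 1 n190273 = n218128 := d17_6 F288137 (iv5 D92432) F142173 F142170 (iv4 F147493) (iv5 F379256) F492260 F382232 F382230
def n218129 : Q := act 1 n188548
theorem D218129 : act 1 n188548 = n218129 := rfl
theorem F492265 : act 1 n218129 = n190273 := d15_1 D218129 (iv7 D190273) (iv2 F373903)
theorem F492266 : act 7 n218129 = n190270 := d15_2 (iv0 D218128) D218129 F492261
theorem F492267 : act 5 n218129 = n189292 := d17_7 (iv1 F373859) (iv5 D92437) (iv1 D43232) D43233 D92441 D188548 D218129 F382254 F382253
theorem F492268 : act 2 n190271 = n218129 := d2_3 F492267 F382247 F382250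
def n218130 : Q := act 4 n188548
theorem D218130 : act 4 n188548 = n218130 := rfl
theorem F492269 : act 2 n218130 = n190272 := d1_1 D218130 (iv4 D190272) (iv2 F373903)
theorem F492270 : act 5 n218130 = n217338 := d9_2 D188548 D218130 F488514 (iv5 D187318) (iv4 F142169) F142170 (iv4 F147493) (iv5 F379256) (iv4 F381964) (iv5 D191043) (iv4 D97167) (iv5 D45411) F34119 D43233 D92441
theorem F492271 : act 6 n218130 = n190264 := d10_2 (iv6 F373904) D218130 (iv4 D190264)
theorem F492272 : act 3 n190862 = n218130 := d7_3 F492271 (iv3 F379241) D190862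
theorem F492273 : act 7 n190841 = n218130 := d14_0 F492271 F379240 F149561 D96980 D190841
def n218131 : Q := act 7 n188548
theorem D218131 : act 7 n188548 = n218131 := rfl
theorem F492274 : act 2 n218131 = n190273 := d4_1 D218131 (iv7 D190273) (iv2 F373903)
theorem F492275 : act 4 n218131 = n190841 := d11_1 D218131 F492273 (iv4 D218130)
theorem F492276 : act 5 n218131 = n188549 := d13_1 D218131 (iv7 D188549) D188548
theorem F492277 : act 6 n218131 = n190840 := d14_1 D218131 (iv7 D190840) F379247 (iv7 D190265) (iv6 F373904)
theorem F492278 : act 1 n190271 = n218131 := d15_1 D190271 (iv7 D218131) F373903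
theorem F492279 : act 1 n218131 = n190270 := d15_1 F492278 (iv7 F492266) (iv2 F492268)
def n218132 : Q := act 4 n188563
theorem D218132 : act 4 n188563 = n218132 := rfl
theorem F492280 : act 2 n218132 = n217512 := d1_1 D218132 (iv4 D217512) (iv2 F373980)
theorem F492281 : act 3 n218132 = n192788 := d5_1 D218132 (iv4 F485136) F485134 (iv4 F339546) F373978
theorem F492282 : act 6 n218132 = n217529 := d10_2 F373979 D218132 (iv4 D217529)
theorem F492283 : act 7 n218132 = n189227 := d11_2 (iv7 F373977) D218132 F376155
theorem F492284 : act 0 n218132 = n217609 := d17_0 (iv5 D217609) F386958 F163263 F138850 D90274 F335790 F143157 D188563 D218132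
theorem F492285 : act 1 n218132 = n206126 := d18_6 (iv1 D217605) (iv4 F440943) F440945 F399239 (iv5 F373981) D218132 (iv4 F488361) (iv0 F488364) F489759
def n218133 : Q := act 5 n188569
theorem D218133 : act 5 n188569 = n218133 := rfl
theorem F492286 : act 2 n218133 = n197130 := d2_1 D218133 (iv5 D197130) (iv2 F374015)
theorem F492287 : act 4 n218133 = n213780 := d9_1 D218133 F486885 (iv4 D216987) F370476 F370474 (iv5 D159722) D159721 D214527 (iv4 F475634) (iv5 F486887) (iv4 D216989) (iv5 F372295) (iv4 F374898) F374899 (iv4 F374013)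
theorem F492288 : act 6 n218133 = n195380 := d12_2 F374014 D218133 (iv5 D195380) F162117 D105555
theorem F492289 : act 7 n218133 = n201183 := d13_2 (iv7 F374012) D218133 (iv5 D201183)
theorem F492290 : act 0 n218133 = n213138 := d17_2 (iv1 F374011) D218133 F469162 (iv4 D188110) (iv5 D90814) (iv0 F135139) F321885 (iv0 F321883) (iv4 F177583)
theorem F492291 : act 1 n218133 = n215288 := d17_6 F376335 (iv5 F475637) (iv1 F475642) F374899 (iv4 F374013) D218133 F479231 (iv0 F466223) F466222
def n218134 : Q := act 4 n188571
theorem D218134 : act 4 n188571 = n218134 := rfl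
theorem F492292 : act 2 n218134 = n201186 := d1_1 D218134 (iv4 D201186) (iv2 F374018)
theorem F492293 : act 5 n218134 = n216619 := d9_2 D188571 D218134 (iv4 F486870) F486871 F367438 (iv5 F142250) (iv4 F177583) (iv5 F419365) (iv4 F486896) (iv5 D216991) (iv4 D186614) (iv5 D88916) F64050 D43274 D92492
theorem F492294 : act 6 n218134 = n195459 := d10_2 (iv6 F374019) D218134 F397055
def n218135 : Q := act 7 n188571
theorem D218135 : act 7 n188571 = n218135 := rfl
theorem F492295 : act 2 n218135 = n201187 := d4_1 D218135 (iv7 D201187) (iv2 F374018)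
theorem F492296 : act 3 n218135 = n202074 := d8_1 D218135 F422836 (iv3 F406390)
theorem F492297 : act 5 n218135 = n188572 := d13_1 D218135 (iv7 D188572) D188571
theorem F492298 : act 6 n218135 = n205823 := d14_1 D218135 F438002 D205890 (iv7 F438294) (iv6 F374019)
theorem F492299 : act 1 n201185 = n218135 := d15_1 D201185 (iv7 D218135) F374018
theorem F492300 : act 1 n218135 = n201184 := d15_1 F492299 (iv7 F468905) F468903
def n218136 : Q := act 4 n188586
theorem D218136 : act 4 n188586 = n218136 := rfl
theorem F492301 : act 2 n218136 = n193017 := d1_1 D218136 F388524 F374103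
theorem F492302 : act 3 n218136 = n194480 := d5_1 D218136 (iv4 F449723) F449722 D217529 F489334
theorem F492303 : act 6 n218136 = n216601 := d10_2 F387778 D218136 F485136
theorem F492304 : act 7 n218136 = n194664 := d11_2 (iv7 F374104) D218136 F394008
theorem F492305 : act 5 n218136 = n192035 := d16_7 (iv4 F385309) D192620 (iv4 F491596) (iv5 D217995) (iv4 F372923) F375288 D218136 F385303 (iv2 F385310)
theorem F492306 : act 0 n218136 = n217119 := d17_0 (iv5 F487522) (iv1 D192999) (iv5 D101084) F143350 D188971 F375282 F372324 F374095 D218136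
theorem F492307 : act 1 n218136 = n189286 := d18_6 (iv1 F370750) D187736 (iv1 F374793) (iv4 F372923) F375288 D218136 F376331 (iv0 F369307) (iv5 F370747)
def n218137 : Q := act 0 n188592
theorem D218137 : act 0 n188592 = n218137 := rfl
theorem F492308 : act 5 n218137 = n217514 := d17_1 D218137 (iv1 F489269) F488215 F488210 F415452 F415282 (iv5 F432323) (iv0 F467073) F467070
theorem F492309 : act 4 n218137 = n205886 := d18_3 F467074 F467070 D218137 (iv5 D205886) F400986 (iv0 D196529) (iv4 F175433) F350640 (iv5 F360260)
theorem F492310 : act 3 n218137 = n203904 := d20_5 F308365 D97047 D190917 (iv3 F381546) D218137 F430318 (iv1 F193443) D121323 (iv3 F368357) (iv1 D186868)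
theorem F492311 : act 6 n218137 = n207006 := d21_5 (iv5 F448522) (iv1 F465746) (iv5 D212423) (iv6 F374133) D218137 F442944 (iv1 F465410) (iv5 D212343) (iv6 D146785) D146781
theorem F492312 : act 2 n188595 = n218137 := d15_3 (iv0 D218137) (iv0 D188592) D188595
theorem F492313 : act 7 n218137 = n188594 := d4_2 D188595 F492312 (iv2 D188594)
theorem F492314 : act 1 n188593 = n218137 := d15_1 D188593 F492313 (iv2 D188594)
def n218138 : Q := act 7 n188592
theorem D218138 : act 7 n188592 = n218138 := rfl
theorem F492315 : act 2 n218138 = n188593 := d4_1 D218138 F374131 F374132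
theorem F492316 : act 3 n218138 = n193988 := d8_1 D218138 F391649 (iv3 F381546)
theorem F492317 : act 4 n218138 = n204381 := d11_1 D218138 (iv7 F467072) F467070
theorem F492318 : act 5 n218138 = n217281 := d13_1 D218138 F488258 (iv5 F391049)
theorem F492319 : act 6 n218138 = n193986 := d14_1 D218138 F391635 F250299 F233624 (iv6 F374133)
theorem F492320 : act 1 n188594 = n218138 := d15_1 (iv0 F374136) (iv7 D218138) (iv2 F374132)
theorem F492321 : act 1 n218138 = n188595 := d15_1 F492320 (iv7 D188595) D188594
def n218139 : Q := act 6 n188595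
theorem D218139 : act 6 n188595 = n218139 := rfl
theorem F492322 : act 2 n218139 = n207006 := d3_1 D218139 (iv6 F492311) (iv2 F492312)
theorem F492323 : act 3 n218139 = n188596 := d7_1 D218139 (iv6 D188596) (iv3 F374137)
theorem F492324 : act 4 n218139 = n215002 := d10_1 D218139 F477831 F471485
theorem F492325 : act 5 n218139 = n213102 := d12_1 D218139 (iv6 D213102) D213101 (iv6 F469016) (iv5 F374138)
theorem F492326 : act 7 n218139 = n201198 := d14_2 D188595 D218139 (iv6 D201198) (iv7 F240915) F240914
theorem F492327 : act 0 n218139 = n206998 := d21_4 (iv5 F489261) (iv1 D217513) (iv5 F374138) D218139 F442915 F349783 (iv1 F247120) F320449 D175408 F415448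
theorem F492328 : act 1 n218139 = n203642 := d15_1 (iv0 F492327) F429208 (iv2 F442914)
def n218140 : Q := act 5 n188596
theorem D218140 : act 5 n188596 = n218140 := rfl
theorem F492329 : act 2 n218140 = n201214 := d2_1 D218140 F419467 (iv2 F374140)
theorem F492330 : act 3 n218140 = n213102 := d6_1 D218140 (iv5 F492325) F492323
theorem F492331 : act 6 n218140 = n213100 := d12_2 D188596 D218140 (iv5 F469009) (iv6 D187464) (iv5 F142452)
theorem F492332 : act 7 n218140 = n201201 := d13_2 (iv7 F374142) D218140 (iv5 D201201)
theorem F492333 : act 1 n218140 = n201211 := d17_8 (iv1 F454904) F453721 (iv1 F390120) D209686 F454630 (iv5 D201209) F374143 D218140 (iv4 F454902)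
theorem F492334 : act 0 n218140 = n201212 := d18_0 F419464 F362467 (iv4 F432133) (iv5 D204346) F197999 F376349 F376345 F374143 D218140
def n218141 : Q := act 6 n188601
theorem D218141 : act 6 n188601 = n218141 := rfl
theorem F492335 : act 2 n218141 = n188606 := d3_1 D218141 (iv6 D188606) (iv2 F374167)
theorem F492336 : act 3 n218141 = n194718 := d7_1 D218141 F394234 F374169
theorem F492337 : act 4 n218141 = n188602 := d10_1 D218141 (iv6 D188602) D188601
theorem F492338 : act 7 n218141 = n192569 := d14_2 (iv7 F374168) D218141 (iv6 D192569) F154440 D100453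
theorem F492339 : act 0 n218141 = n192615 := d21_4 D141208 D211207 F460608 D218141 (iv6 F457333) (iv5 F457329) F457331 F391828 (iv6 D188178) F338882
theorem F492340 : act 0 n192614 = n218141 := d21_4 F387220 F226071 (iv5 F413429) (iv6 F413432) (iv6 D218141) (iv5 F460608) (iv1 F487084) F487086 (iv6 F490415) (iv1 F490418)
theorem F492341 : act 5 n216746 = n218141 := d21_8 (iv5 F384464) (iv1 D191794) (iv5 D98926) (iv6 F152453) F338884 (iv6 F458280) (iv5 F471531) F485751 (iv6 D218141) (iv1 F374170)
def n218142 : Q := act 6 n188605
theorem D218142 : act 6 n188605 = n218142 := rfl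
theorem F492342 : act 2 n218142 = n217038 := d3_1 D218142 F487092 (iv2 F460610)
theorem F492343 : act 3 n218142 = n217692 := d7_1 D218142 F490148 F489621
theorem F492344 : act 4 n218142 = n212595 := d10_1 D218142 (iv6 F475845) F475843
theorem F492345 : act 7 n218142 = n194044 := d14_2 (iv7 F374178) D218142 (iv6 D194044) F157819 D186680
theorem F492346 : act 0 n218142 = n204288 := d21_4 (iv5 F448681) (iv1 D188604) D188605 D218142 (iv6 D204288) D204287 F431873 F387091 (iv6 F384307) F448682
theorem F492347 : act 0 n201678 = n218142 := d21_4 (iv5 F487992) (iv1 F487996) F468046 F448194 (iv6 D218142) (iv5 D188605) D188603 (iv5 F448705) F448706 (iv1 F449325)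
def n218143 : Q := act 0 n188606
theorem D218143 : act 0 n188606 = n218143 := rfl
theorem F492348 : act 1 n192569 = n218143 := d15_0 (iv0 D218143) F374180 (iv2 F387107)
def n218144 : Q := act 1 n188606
theorem D218144 : act 1 n188606 = n218144 := rfl
theorem F492349 : act 1 n218144 = n192569 := d15_1 D218144 (iv7 F492338) F492335
theorem F492350 : act 3 n191959 = n218144 := d19_19 (iv1 D218144) (iv5 F485956) (iv4 D216798) (iv3 D185506) (iv1 F329953) (iv5 F373591) F373590 F178321 D114357 (iv5 F205513) F291245 (iv3 D91390) (iv1 D42771) D42773 D91398 D188433 F373453 (iv5 F393776) F393777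
theorem F492351 : act 6 n211196 = n218144 := d21_3 F490422 (iv1 F384444) D211196 (iv1 D218144) (iv6 D188606) D188605 (iv1 F384456) (iv5 D191792) D191793 (iv1 F490425)
theorem F492352 : act 2 n218144 = n192614 := d3_1 F492351 F413432 (iv2 F460567)
theorem F492353 : act 4 n218144 = n211294 := d10_1 F492351 (iv6 D211294) (iv4 F460568)
theorem F492354 : act 7 n192615 = n218144 := d15_2 (iv0 D192614) D192615 F492352
theorem F492355 : act 7 n218143 = n192614 := d15_2 F492349 F492348 (iv2 F492352)
theorem F492356 : act 2 n192615 = n218143 := d4_3 F492355 (iv2 F492352) (iv7 F492354)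
def n218145 : Q := act 3 n188607
theorem D218145 : act 3 n188607 = n218145 := rfl
theorem F492357 : act 2 n218145 = n216471 := d0_1 D218145 F484537 (iv2 F373582) (iv3 F450798) F450797
theorem F492358 : act 4 n218145 = n189906 := d5_2 F457724 D218145 (iv3 F382802) (iv4 F382805) (iv3 F457723)
theorem F492359 : act 6 n218145 = n204527 := d7_2 (iv6 F450078) D218145 (iv3 F450073)
theorem F492360 : act 7 n218145 = n193756 := d8_2 F460971 D218145 (iv3 F460969)
theorem F492361 : act 0 n192000 = n218145 := d20_4 (iv4 D159403) (iv1 F250983) (iv4 F250988) (iv3 F385149) (iv3 D218145) (iv4 F457724) F457725 (iv4 F387256) F387255 F251704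
theorem F492362 : act 5 n218145 = n193546 := d17_3 F485630 F485629 F492361 (iv4 D193546) (iv5 D101887) F153652 D192164 F485973 (iv4 D216802)
theorem F492363 : act 1 n191998 = n218145 := d15_0 (iv0 F492361) (iv7 F475864) F475862
def n218146 : Q := act 5 n188607
theorem D218146 : act 5 n188607 = n218146 := rfl
theorem F492364 : act 3 n218146 = n193546 := d6_1 D218146 (iv5 F492362) (iv3 D218145)
theorem F492365 : act 6 n218146 = n193547 := d12_2 (iv6 F450078) D218146 (iv5 F396004) (iv6 F396007) D208598
theorem F492366 : act 7 n218146 = n193755 := d13_2 F460971 D218146 (iv5 F460970)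
theorem F492367 : act 4 n218146 = n210671 := d17_4 (iv1 D194119) F367244 D188607 D218146 (iv5 D210671) (iv0 F458281) (iv5 F471531) (iv0 F471532) (iv4 F392106)
def n218147 : Q := act 5 n188608
theorem D218147 : act 5 n188608 = n218147 := rfl
theorem F492368 : act 2 n218147 = n193755 := d2_1 D218147 (iv5 F460970) F460968
theorem F492369 : act 3 n218147 = n218084 := d6_1 D218147 (iv5 D218084) F374181
theorem F492370 : act 6 n218147 = n193759 := d12_2 F384426 D218147 F390925 (iv6 D139991) D139990
theorem F492371 : act 4 n216706 = n218147 := d10_3 F492370 F390924 D216706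
def n218148 : Q := act 4 n188610
theorem D218148 : act 4 n188610 = n218148 := rfl
theorem F492372 : act 2 n218148 = n201806 := d1_1 D218148 (iv4 F465780) F465779
theorem F492373 : act 3 n218148 = n217944 := d5_1 D218148 (iv4 D217944) (iv3 D188196) (iv4 F367223) D188610
theorem F492374 : act 6 n218148 = n206816 := d10_2 (iv6 F450907) D218148 (iv4 F450906)
theorem F492375 : act 7 n218148 = n201804 := d11_2 (iv7 F374185) D218148 (iv4 F421844)
theorem F492376 : act 1 n218148 = n206376 := d18_8 (iv1 F421644) F396486 F375556 (iv4 F441481) D207896 (iv4 F465777) F465773 D218148 F440492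
theorem F492377 : act 5 n201164 = n218148 := d19_1 D201164 (iv4 D218148) (iv3 D188610) (iv1 F142600) (iv5 F370448) (iv4 F489278) F489277 F420933 (iv5 D152551) (iv4 D71947) D71946 F139469 (iv5 D76236) F55038 (iv3 D34812) F27616 D25534 D52620 D114016
theorem F492378 : act 6 n195282 = n201647 := d21_3 (iv5 D132211) D132208 F442310 (iv1 D201647) F179006 (iv5 F177500) D201164 F492377 F492374 F442298
def n218149 : Q := act 5 n188610
theorem D218149 : act 5 n188610 = n218149 := rfl
theorem F492379 : act 3 n218149 = n188611 := d6_1 D218149 (iv5 D188611) D188610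
theorem F492380 : act 7 n218149 = n217525 := d13_2 (iv7 F374185) D218149 (iv5 D217525)
def n218150 : Q := act 0 n188611
theorem D218150 : act 0 n188611 = n218150 := rfl
theorem F492381 : act 5 n218150 = n191824 := d17_3 D92569 D188611 D218150 F387567 D218040 (iv0 F491837) (iv5 D193394) (iv0 F293825) F139098
theorem F492382 : act 6 n218150 = n192732 := d21_5 (iv5 F395966) F395965 D208795 F450911 D218150 (iv5 D192732) (iv1 F361024) (iv5 F454950) F454951 (iv1 F392048)
theorem F492383 : act 1 n188613 = n218150 := d15_0 (iv0 D218150) F374187 (iv2 F374189)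
theorem F492384 : act 2 n217520 = n218150 := d3_3 F492382 (iv2 F475202) F489297
theorem F492385 : act 7 n217521 = n218150 := d15_2 (iv0 D217520) D217521 (iv2 F492384)
def n218151 : Q := act 1 n188611
theorem D218151 : act 1 n188611 = n218151 := rfl
theorem F492386 : act 1 n218151 = n188613 := d15_1 D218151 F374190 (iv2 F374186)
theorem F492387 : act 7 n218151 = n217520 := d15_2 (iv0 D218150) D218151 F492384
theorem F492388 : act 5 n218151 = n191825 := d17_7 (iv1 F491299) F491377 (iv1 D217947) (iv5 D188197) (iv4 F367223) D188611 D218151 F486957 (iv4 F489963)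
theorem F492389 : act 2 n217521 = n218151 := d2_3 F492388 F486963 F489299
theorem F492390 : act 6 n217280 = n218151 := d12_0 F492388 (iv6 F391391) (iv5 D193918) D193919 F488254
theorem F492391 : act 2 n192263 = n217280 := d3_3 F492390 (iv2 F492389) F489300
theorem F492392 : act 7 n192262 = n217280 := d14_0 F492390 F492387 (iv6 F489297) F475203 (iv6 F387617)
theorem F492393 : act 2 n192262 = n215867 := d15_3 F481861 D217280 (iv7 F492392)
theorem F492394 : act 7 n215867 = n192263 := d4_2 (iv7 F492392) F492393 F492391
theorem F492395 : act 3 n192263 = n204663 := d8_1 F492394 F452631 D215867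
theorem F492396 : act 3 n208853 = n217521 := d7_3 F489300 F492395 (iv6 F453922)
def n218152 : Q := act 4 n188611
theorem D218152 : act 4 n188611 = n218152 := rfl
theorem F492397 : act 2 n218152 = n217522 := d1_1 D218152 (iv4 D217522) (iv2 F374186)
theorem F492398 : act 7 n218152 = n210539 := d11_2 (iv7 F374187) D218152 (iv4 F457980)
theorem F492399 : act 5 n218152 = n204587 := d17_5 (iv1 D102706) (iv5 F292206) D92569 D188611 D218152 F491528 (iv5 D217978) (iv0 F392136) (iv4 D194131)
theorem F492400 : act 0 n218152 = n218036 := d17_0 (iv5 F491815) F489990 F489991 F390935 (iv5 F486954) F486965 (iv5 F492381) (iv0 D218150) D218152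
theorem F492401 : act 3 n218152 = n204588 := d19_3 D92569 D188611 D218152 (iv1 F469552) F469550 F457803 F412341 (iv1 F375238) D188952 (iv4 F375246) F428182 (iv1 D203410) D203412 (iv4 F479538) (iv3 F485741) F485958 F485956 F374179 F142596
def n218153 : Q := act 5 n188612
theorem D218153 : act 5 n188612 = n218153 := rfl
theorem F492402 : act 3 n218153 = n188613 := d6_1 D218153 (iv5 D188613) D188612
theorem F492403 : act 6 n218153 = n193804 := d12_2 (iv6 F465747) D218153 (iv5 F391049) F374133 D212423
theorem F492404 : act 7 n218153 = n217519 := d13_2 (iv7 F374188) D218153 (iv5 D217519)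
def n218154 : Q := act 4 n188613
theorem D218154 : act 4 n188613 = n218154 := rfl
theorem F492405 : act 2 n218154 = n210539 := d1_1 D218154 (iv4 F457980) (iv2 F374189)
theorem F492406 : act 6 n218154 = n193794 := d10_2 F374191 D218154 F391019
theorem F492407 : act 7 n218154 = n217522 := d11_2 (iv7 F374190) D218154 (iv4 D217522)
theorem F492408 : act 1 n218154 = n218036 := d18_6 (iv1 F370928) F370924 (iv1 F144539) F367227 D188613 D218154 (iv4 D218036) (iv0 F373182) (iv5 D188236)
theorem F492409 : act 5 n210531 = n218154 := d17_7 F389679 (iv5 D188237) (iv1 D91108) D91109 D188241 D217978 (iv0 F491527) F492408 (iv4 D218036)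
def n218155 : Q := act 6 n188619
theorem D218155 : act 6 n188619 = n218155 := rfl
theorem F492410 : act 2 n218155 = n192782 := d3_1 D218155 (iv6 D192782) (iv2 F374214)
theorem F492411 : act 3 n218155 = n188634 := d7_1 D218155 (iv6 D188634) F374212
theorem F492412 : act 4 n218155 = n218017 := d10_1 D218155 F491716 F471305
theorem F492413 : act 5 n218155 = n188782 := d12_1 D218155 (iv6 D188782) F143127 F364368 F374213
theorem F492414 : act 7 n218155 = n218014 := d14_2 (iv7 F374211) D218155 (iv6 D218014) F373034 (iv6 F364352)
theorem F492415 : act 0 n218155 = n201062 := d21_4 (iv5 F370556) (iv1 F370558) F374213 D218155 F418951 F237950 (iv1 D90277) D90278 F138865 D90290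
theorem F492416 : act 1 n218155 = n209127 := d15_1 (iv0 F492415) (iv7 F490255) F490252
def n218156 : Q := act 0 n188620
theorem D218156 : act 0 n188620 = n218156 := rfl
theorem F492417 : act 4 n218156 = n206202 := d18_1 D218156 F439693 (iv4 F471310) F471311 F353752 (iv0 F329952) F285757 D183909 (iv5 F374218)
theorem F492418 : act 6 n218156 = n206201 := d21_5 (iv5 D149794) (iv1 F192105) (iv5 F364045) (iv6 F374216) D218156 F439688 (iv1 F366753) (iv5 F366835) (iv6 D183090) (iv1 F307405)
theorem F492419 : act 2 n216345 = n218156 := d15_3 (iv0 D218156) (iv0 F490851) F490849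
theorem F492420 : act 1 n188623 = n218156 := d15_0 (iv0 D218156) F374217 (iv2 F374228)
theorem F492421 : act 7 n218156 = n216346 := d15_2 F490852 F492420 (iv2 F490848)
def n218157 : Q := act 3 n188623
theorem D218157 : act 3 n188623 = n218157 := rfl
theorem F492422 : act 4 n218157 = n192594 := d5_2 D188623 D218157 (iv3 F387195) (iv4 F364372) F286447
theorem F492423 : act 5 n218157 = n213615 := d6_2 (iv5 F374229) D218157 F471300
theorem F492424 : act 7 n218157 = n216343 := d8_2 (iv7 F374230) D218157 F483936
theorem F492425 : act 0 n218157 = n191996 := d20_4 (iv4 D187873) F364371 D188623 D218157 F385146 (iv4 D118858) D118856 (iv4 F250830) F362839 F374208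
theorem F492426 : act 0 n191991 = n218157 := d20_4 F468639 F459663 D213726 F471808 (iv3 D218157) (iv4 D188623) (iv1 F374210) (iv4 F471305) (iv3 F472130) F472133
theorem F492427 : act 2 n218157 = n216497 := d15_3 (iv0 F491186) F491187 (iv7 F492424)
def n218158 : Q := act 6 n188623
theorem D218158 : act 6 n188623 = n218158 := rfl
theorem F492428 : act 2 n218158 = n216347 := d3_1 D218158 F483953 (iv2 F374228)
theorem F492429 : act 4 n218158 = n188624 := d10_1 D218158 (iv6 D188624) D188623
theorem F492430 : act 5 n218158 = n212543 := d12_1 D218158 (iv6 D212543) (iv5 F231492) D154512 (iv5 F374229)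
theorem F492431 : act 7 n218158 = n211674 := d14_2 (iv7 F374230) D218158 F462634 F309402 D183107
theorem F492432 : act 0 n218158 = n206301 := d21_4 F295234 (iv1 F353749) (iv5 F374229) D218158 (iv6 F440148) F359700 F230277 D210866 F459063 (iv1 D188468)
theorem F492433 : act 0 n206222 = n218158 := d21_4 (iv5 F483604) F483606 (iv5 D206221) D206222 (iv6 D218158) F374229 F353748 D185503 F356700 (iv1 F398299)
def n218159 : Q := act 1 n188626
theorem D218159 : act 1 n188626 = n218159 := rfl
theorem F492434 : act 1 n218159 = n217531 := d15_1 D218159 (iv7 D217531) (iv2 F374239)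
theorem F492435 : act 7 n218159 = n188904 := d15_2 (iv0 F376613) D218159 (iv2 F375176)
theorem F492436 : act 4 n218159 = n189591 := d17_9 (iv1 F429625) (iv5 F429627) F432289 F432288 F420454 F420452 (iv0 F465474) F465471 D218159
theorem F492437 : act 3 n188648 = n218159 := d20_3 (iv4 D199777) (iv1 F412195) (iv4 F412194) (iv1 D218159) F451902 F451899 (iv1 D204517) (iv4 F432781) F432780 (iv1 F413449)
theorem F492438 : act 5 n200632 = n218159 := d21_0 (iv1 D218159) (iv5 F465471) (iv6 F465472) (iv1 D185754) (iv6 F326532) F321099 (iv1 F348990) (iv5 D130655) D130656 (iv1 F417294)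
theorem F492439 : act 6 n189589 = n218159 := d21_3 F490254 F418929 (iv5 F448080) (iv1 D218159) (iv6 D188626) (iv5 F364346) F364354 D100667 D192782 F490256
theorem F492440 : act 2 n218159 = n209126 := d3_1 F492439 F452377 F448079
def n218160 : Q := act 7 n188626
theorem D218160 : act 7 n188626 = n218160 := rfl
theorem F492441 : act 2 n218160 = n217531 := d4_1 D218160 (iv7 D217531) (iv2 F374239)
theorem F492442 : act 3 n218160 = n209116 := d8_1 D218160 F452333 (iv3 F451902)
theorem F492443 : act 4 n218160 = n211290 := d11_1 D218160 F460988 F459062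
theorem F492444 : act 6 n218160 = n208679 := d14_1 D218160 F450427 (iv6 D187512) (iv7 F344309) D188626
theorem F492445 : act 1 n209126 = n218160 := d15_1 (iv0 F452379) (iv7 D218160) F374239
theorem F492446 : act 1 n218160 = n188904 := d15_1 F492445 (iv7 F492435) F492440
def n218161 : Q := act 6 n188627
theorem D218161 : act 6 n188627 = n218161 := rfl
theorem F492447 : act 3 n218161 = n188628 := d7_1 D218161 (iv6 D188628) D188627
theorem F492448 : act 4 n218161 = n191404 := d10_1 D218161 F383368 (iv4 F374241)
theorem F492449 : act 5 n218161 = n208117 := d12_1 D218161 F447952 (iv5 D189602) D189603 F377082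
theorem F492450 : act 0 n218161 = n212030 := d21_4 (iv5 F383911) F383910 F377082 D218161 F464032 (iv5 D145010) (iv1 F334953) (iv5 F420586) F420587 F388508
theorem F492451 : act 1 n218161 = n215273 := d15_1 (iv0 F492450) F479152 (iv2 F464030)
def n218162 : Q := act 0 n188628
theorem D218162 : act 0 n188628 = n218162 := rfl
theorem F492452 : act 4 n218162 = n208591 := d18_3 (iv1 F483656) F483653 D218162 (iv5 D208591) F216828 F164292 D196108 (iv0 F444147) (iv5 F450963)
theorem F492453 : act 5 n218162 = n211543 := d19_1 D218162 F462050 (iv3 F399540) (iv1 F468506) (iv5 D212994) (iv4 D151974) F108146 (iv1 F78824) (iv5 D49845) (iv4 D24306) D24305 (iv1 F56577) (iv5 F94574) (iv4 F94576) (iv3 F332307) F364882 D191404 (iv4 F492448) F492447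
theorem F492454 : act 3 n218162 = n188652 := d20_5 F465217 F383370 (iv4 F492448) F492447 D218162 F413502 (iv1 D199784) (iv4 F413482) (iv3 F452197) F465220
theorem F492455 : act 6 n218162 = n211668 := d21_5 (iv5 D100667) (iv1 F364353) F145090 D188628 D218162 (iv5 D211668) F333386 (iv5 F370628) (iv6 D187508) (iv1 F364363)
theorem F492456 : act 2 n208592 = n218162 := d15_3 (iv0 D218162) (iv0 F374244) (iv7 F450045)
theorem F492457 : act 7 n218162 = n188934 := d4_2 (iv7 F450045) F492456 (iv2 F376563)
theorem F492458 : act 1 n208679 = n218162 := d15_1 D208679 F492457 (iv2 F376563)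
def n218163 : Q := act 7 n188628
theorem D218163 : act 7 n188628 = n218163 := rfl
theorem F492459 : act 2 n218163 = n208679 := d4_1 D218163 F450427 (iv2 F374243)
theorem F492460 : act 4 n218163 = n207580 := d11_1 D218163 (iv7 F483654) F483653
theorem F492461 : act 6 n218163 = n217531 := d14_1 D218163 (iv7 D217531) (iv6 D187510) F344310 D188628
theorem F492462 : act 1 n188934 = n218163 := d15_1 F412727 (iv7 D218163) F374243
theorem F492463 : act 1 n218163 = n208592 := d15_1 F492462 F450045 F376563
def n218164 : Q := act 6 n188632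
theorem D218164 : act 6 n188632 = n218164 := rfl
theorem F492464 : act 2 n218164 = n201771 := d3_1 D218164 (iv6 D201771) (iv2 F374260)
theorem F492465 : act 3 n218164 = n207684 := d7_1 D218164 (iv6 F475008) F475005
theorem F492466 : act 4 n218164 = n188633 := d10_1 D218164 (iv6 D188633) D188632
theorem F492467 : act 7 n218164 = n201728 := d14_2 (iv7 F374261) D218164 (iv6 D201728) F179133 F178994
theorem F492468 : act 0 n218164 = n207706 := d21_10 F446091 (iv1 F421667) (iv5 D201749) (iv6 D115040) (iv1 F177686) (iv6 F374521) (iv5 F474944) (iv1 F474947) F421715 D218164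
theorem F492469 : act 5 n200994 = n218164 := d21_8 F475051 (iv1 D214403) F250866 D214397 (iv1 F474972) (iv6 F442630) F421910 (iv1 F418824) (iv6 D218164) (iv1 F475049)
def n218165 : Q := act 1 n188635
theorem D218165 : act 1 n188635 = n218165 := rfl
theorem F492470 : act 1 n218165 = n188818 := d15_1 D218165 (iv7 F474990) F474987
theorem F492471 : act 7 n218165 = n188881 := d15_2 (iv0 F374270) D218165 (iv2 F375129)
theorem F492472 : act 5 n218165 = n194340 := d17_7 D188870 F375086 (iv1 F373237) D190494 F379905 (iv5 F374268) D218165 F392878 F365603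
theorem F492473 : act 3 n213719 = n218165 := d19_19 (iv1 D218165) F374268 (iv4 F379905) F379902 (iv1 D100801) (iv5 D46999) F35140 F17243 (iv1 F66059) D22438 D46778 D100243 D192500 F386842 (iv4 F420136) (iv3 F420173) F420177 D206237 (iv4 F471779)
theorem F492474 : act 2 n218165 = n188880 := d0_1 F492473 F375126 F231720 (iv3 F243418) (iv2 F471778)
theorem F492475 : act 6 n196544 = n218165 := d3_0 F492474 F401029 (iv2 F401026)
def n218166 : Q := act 6 n188635
theorem D218166 : act 6 n188635 = n218166 := rfl
theorem F492476 : act 2 n218166 = n209354 := d3_1 D218166 (iv6 F474993) F474987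
theorem F492477 : act 3 n218166 = n188636 := d7_1 D218166 (iv6 D188636) D188635
theorem F492478 : act 4 n218166 = n207684 := d10_1 D218166 (iv6 F475008) F475006
theorem F492479 : act 5 n218166 = n201330 := d12_1 D218166 (iv6 D201330) F388305 (iv6 D192946) (iv5 F374268)
theorem F492480 : act 7 n218166 = n209353 := d14_2 (iv7 F374269) D218166 F453366 F410701 (iv6 D188882)
theorem F492481 : act 0 n218166 = n204966 := d21_4 F471863 (iv1 F388300) (iv5 F374268) D218166 (iv6 F467957) (iv5 D212885) F467921 F467919 F453333 (iv1 F471865)
def n218167 : Q := act 7 n188636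
theorem D218167 : act 7 n188636 = n218167 := rfl
theorem F492482 : act 2 n218167 = n188857 := d4_1 D218167 (iv7 D188857) (iv2 F374271)
theorem F492483 : act 3 n218167 = n209353 := d8_1 D218167 (iv7 F492480) F492477
theorem F492484 : act 4 n218167 = n188639 := d11_1 D218167 (iv7 D188639) (iv4 F374272)
theorem F492485 : act 6 n218167 = n188886 := d14_1 D218167 (iv7 D188886) (iv6 D92883) (iv7 F142640) D188636
theorem F492486 : act 1 n188855 = n218167 := d15_1 D188855 (iv7 D218167) F374271
theorem F492487 : act 1 n218167 = n188854 := d15_1 F492486 (iv7 F375377) F375065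
def n218168 : Q := act 7 n188641
theorem D218168 : act 7 n188641 = n218168 := rfl
theorem F492488 : act 2 n218168 = n188886 := d4_1 D218168 (iv7 D188886) (iv2 F374286)
theorem F492489 : act 4 n218168 = n188643 := d11_1 D218168 (iv7 D188643) (iv4 F374287)
theorem F492490 : act 5 n218168 = n196476 := d13_1 D218168 (iv7 F481969) F481970
theorem F492491 : act 6 n218168 = n188857 := d14_1 D218168 (iv7 D188857) (iv6 D92857) (iv7 F142657) D188641
theorem F492492 : act 1 n188884 = n218168 := d15_1 D188884 (iv7 D218168) F374286
theorem F492493 : act 1 n218168 = n188883 := d15_1 F492492 (iv7 F375449) F375447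
def n218169 : Q := act 6 n188645
theorem D218169 : act 6 n188645 = n218169 := rfl
theorem F492494 : act 3 n218169 = n188646 := d7_1 D218169 (iv6 D188646) D188645
theorem F492495 : act 0 n196457 = n218169 := d21_4 (iv5 F375140) F164902 D107004 (iv6 F400743) (iv6 D218169) (iv5 F386822) F386824 (iv5 F375125) F401029 (iv1 F375142)
theorem F492496 : act 5 n197856 = n218169 := d21_8 (iv5 D206251) (iv1 F365477) (iv5 F374991) (iv6 F410710) F410712 F412892 F412890 (iv1 F406131) (iv6 D218169) (iv1 F439934)
def n218170 : Q := act 7 n188646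
theorem D218170 : act 7 n188646 = n218170 := rfl
theorem F492497 : act 2 n218170 = n188902 := d4_1 D218170 (iv7 D188902) (iv2 F374301)
theorem F492498 : act 4 n218170 = n188649 := d11_1 D218170 (iv7 D188649) (iv4 F374302)
theorem F492499 : act 5 n218170 = n216074 := d13_1 D218170 F482800 F412766
theorem F492500 : act 6 n218170 = n188927 := d14_1 D218170 (iv7 D188927) (iv6 D92911) (iv7 F142661) D188646
theorem F492501 : act 1 n188900 = n218170 := d15_1 D188900 (iv7 D218170) F374301
theorem F492502 : act 1 n218170 = n188899 := d15_1 F492501 (iv7 F414737) F414735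
def n218171 : Q := act 5 n188647
theorem D218171 : act 5 n188647 = n218171 := rfl
theorem F492503 : act 2 n218171 = n188905 := d2_1 D218171 (iv5 D188905) (iv2 F392319)
theorem F492504 : act 3 n218171 = n207310 := d6_1 D218171 F444272 F412185
theorem F492505 : act 4 n218171 = n208228 := d9_1 D218171 (iv5 D208228) (iv4 F448473) (iv5 F448475) F408502 D199437 (iv4 F412194) (iv5 F490182) F490180 F450363 (iv4 F461905) F461904 (iv4 D199434) D199435 (iv4 F412183)
theorem F492506 : act 7 n218171 = n188909 := d13_2 (iv7 F392321) D218171 (iv5 D188909)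
theorem F492507 : act 0 n218171 = n212281 := d18_0 F465121 F456591 F447158 F413466 (iv4 F414739) F414738 F375168 F374306 D218171
def n218172 : Q := act 6 n188648
theorem D218172 : act 6 n188648 = n218172 := rfl
theorem F492508 : act 2 n218172 = n188910 := d3_1 D218172 (iv6 D188910) (iv2 F392322)
theorem F492509 : act 3 n218172 = n189589 := d7_1 D218172 F492439 (iv3 F492437)
theorem F492510 : act 5 n218172 = n207953 := d12_1 D218172 (iv6 D207953) (iv5 F371454) D217697 F490182
theorem F492511 : act 0 n188967 = n218172 := d17_2 (iv1 F374860) (iv5 F375267) F492510 F447128 F441565 F256812 (iv5 F281338) F446371 F446366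
theorem F492512 : act 1 n201617 = n218172 := d17_6 (iv1 D62327) D62328 (iv1 F336061) F317526 (iv4 F209348) (iv5 F421157) F492510 (iv0 F447130) (iv4 D132806)
def n218173 : Q := act 5 n188652
theorem D218173 : act 5 n188652 = n218173 := rfl
theorem F492513 : act 2 n218173 = n188931 := d2_1 D218173 (iv5 D188931) (iv2 F413496)
theorem F492514 : act 3 n218173 = n211543 := d6_1 D218173 (iv5 F492453) F492454
theorem F492515 : act 6 n218173 = n195203 := d12_2 (iv6 F421562) D218173 (iv5 D195203) (iv6 F375138) F421561
theorem F492516 : act 7 n218173 = n188936 := d13_2 (iv7 F413497) D218173 (iv5 D188936)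
theorem F492517 : act 1 n218173 = n188815 := d17_6 (iv1 F490912) F490914 (iv1 F482536) (iv5 F475124) (iv4 F413502) D218173 (iv5 D188815) D188814 (iv4 F431542)
theorem F492518 : act 0 n218173 = n189324 := d21_1 D218173 (iv5 F475001) F475002 (iv1 F375005) (iv6 D92852) F292969 F291868 F67998 D92610 D188652
def n218174 : Q := act 5 n188653
theorem D218174 : act 5 n188653 = n218174 := rfl
theorem F492519 : act 2 n218174 = n188936 := d2_1 D218174 (iv5 D188936) (iv2 F413491)
theorem F492520 : act 3 n218174 = n194196 := d6_1 D218174 F392345 (iv3 F413492)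
theorem F492521 : act 7 n218174 = n188931 := d13_2 (iv7 F413493) D218174 (iv5 D188931)
theorem F492522 : act 0 n218174 = n188815 := d17_2 (iv1 F374315) D218174 (iv5 D188815) (iv4 F374981) (iv5 F490359) F490354 (iv5 F468609) (iv0 F468612) F375212
theorem F492523 : act 1 n218174 = n189324 := d17_6 F468085 F366887 D216013 F482530 F413490 D218174 (iv5 F475001) F475004 (iv4 F376996)
theorem F492524 : act 6 n218174 = n189253 := d21_3 F375224 (iv1 F374315) D218174 (iv1 F376239) (iv6 F371792) F371791 (iv1 F370686) (iv5 F376388) (iv6 F376389) (iv1 F375228)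
def n218175 : Q := act 0 n188656
theorem D218175 : act 0 n188656 = n218175 := rfl
theorem F492525 : act 5 n218175 = n189057 := d17_3 D192513 (iv5 F396880) D218175 F375616 (iv5 D120070) (iv0 D55247) (iv5 F51354) D69676 (iv4 F353038)
theorem F492526 : act 4 n218175 = n218003 := d18_1 D218175 F491639 (iv4 D213730) (iv5 D154771) F110085 F106019 D148670 F386915 (iv5 F396880)
theorem F492527 : act 3 n218175 = n188945 := d20_5 (iv4 F491386) (iv1 D217949) F471601 F471602 D218175 F375232 (iv1 F241646) D187984 D217813 F490763
theorem F492528 : act 2 n188660 = n218175 := d15_3 (iv0 D218175) (iv0 D188656) D188660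
theorem F492529 : act 1 n188657 = n218175 := d15_0 (iv0 D218175) (iv7 F472082) F472080
theorem F492530 : act 7 n218175 = n188658 := d15_2 D188657 F492529 (iv2 D188658)
theorem F492531 : act 6 n216904 = n218175 := d14_5 F492530 F374326 (iv7 F242868) (iv6 F384598) (iv7 F486488)
def n218176 : Q := act 6 n188656
theorem D218176 : act 6 n188656 = n218176 := rfl
theorem F492532 : act 2 n218176 = n212425 := d3_1 D218176 F472076 F472070
theorem F492533 : act 4 n218176 = n212423 := d10_1 D218176 (iv6 F465747) (iv4 F374324)
theorem F492534 : act 5 n199839 = n218176 := d9_0 F492533 (iv5 D212423) (iv4 F233673) F233674 (iv4 F248413) F248414 D199841 F413764 F412317 (iv5 D148796) F106116 (iv5 F104741) (iv4 F204859) (iv5 F204862) D199839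
def n218177 : Q := act 6 n188657
theorem D218177 : act 6 n188657 = n218177 := rfl
theorem F492535 : act 2 n218177 = n208709 := d3_1 D218177 F472086 F472080
theorem F492536 : act 3 n218177 = n216044 := d7_1 D218177 (iv6 F490829) F490826
theorem F492537 : act 7 n218177 = n208708 := d14_2 F472072 D218177 (iv6 F467054) (iv7 F465755) F472076
theorem F492538 : act 0 n208587 = n218177 := d21_4 (iv5 F384630) F403529 D199724 (iv6 F450019) (iv6 D218177) F386923 (iv1 D192514) (iv5 F375047) F468993 F468992
theorem F492539 : act 1 n208701 = n218177 := d15_0 (iv0 F492538) F450020 (iv2 F450490)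
def n218178 : Q := act 1 n188659
theorem D218178 : act 1 n188659 = n218178 := rfl
theorem F492540 : act 1 n218178 = n189057 := d15_1 D218178 (iv7 F467695) F467692
theorem F492541 : act 7 n218178 = n189056 := d15_2 F438355 D218178 (iv2 F438353)
theorem F492542 : act 4 n218178 = n193135 := d17_9 F388869 (iv5 F349887) F354572 (iv5 F392905) F392904 (iv5 F396880) (iv0 D188656) D188659 D218178
theorem F492543 : act 5 n218178 = n213789 := d18_9 (iv1 F472097) D213796 F472133 F468639 (iv5 D210993) F354207 (iv0 F354179) F374328 D218178
theorem F492544 : act 3 n194251 = n218178 := d19_19 (iv1 D218178) (iv5 D188659) (iv4 F374245) (iv3 D188629) (iv1 F362835) (iv5 F470584) (iv4 F492085) F492082 (iv1 F480668) (iv5 F491184) (iv4 D217904) F372425 (iv1 F237952) (iv5 F379627) (iv4 D190384) (iv3 F365306) F367217 (iv5 F365264) D194251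
theorem F492545 : act 2 n218178 = n189055 := d0_1 F492544 F466476 (iv2 F466478) F415139 F415134
theorem F492546 : act 6 n218178 = n196626 := d7_2 (iv6 F392502) F492544 (iv3 D196626)
def n218179 : Q := act 0 n188661
theorem D218179 : act 0 n188661 = n218179 := rfl
theorem F492547 : act 5 n218179 = n196847 := d17_1 D218179 F425112 (iv5 F404774) F404773 (iv5 F390060) (iv0 D137154) D137156 F361950 (iv4 F374340)
theorem F492548 : act 4 n218179 = n191919 := d20_2 (iv4 F374340) D218179 F391229 (iv1 F222602) (iv3 F457118) F457119 (iv1 F452925) F220376 (iv3 F220348) F361948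
theorem F492549 : act 3 n218179 = n196390 := d20_5 (iv4 D205430) (iv1 F326494) D163181 (iv3 F374339) D218179 (iv4 D196390) F164809 D143932 (iv3 F366415) (iv1 F436384)
theorem F492550 : act 6 n218179 = n210726 := d21_5 (iv5 F349182) (iv1 D92612) D92614 D188661 D218179 F458594 F409699 (iv5 D192504) (iv6 D100244) (iv1 F137335)
theorem F492551 : act 2 n188957 = n218179 := d15_3 (iv0 D218179) (iv0 F471590) F471589
theorem F492552 : act 1 n188959 = n218179 := d15_0 (iv0 D218179) (iv7 F455545) F455542
theorem F492553 : act 7 n218179 = n188958 := d15_2 (iv0 F471591) F492552 (iv2 F471586)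
def n218180 : Q := act 1 n188662
theorem D218180 : act 1 n188662 = n218180 := rfl
theorem F492554 : act 1 n218180 = n188837 := d15_1 D218180 F375037 (iv2 F374341)
theorem F492555 : act 7 n218180 = n188960 := d15_2 F449321 D218180 F449319
theorem F492556 : act 4 n218180 = n188978 := d18_7 (iv1 F372145) F489475 (iv1 D217556) F370798 (iv5 F142682) (iv4 F374343) D218180 F419839 F419837
theorem F492557 : act 2 n188961 = n218180 := d1_3 F492556 (iv2 F471641) F471643
theorem F492558 : act 3 n213377 = n218180 := d20_5 (iv4 D217123) (iv1 F372945) (iv4 F486485) (iv3 F486489) (iv1 F470141) F492556 (iv1 D188978) (iv4 F375309) (iv3 F384590) (iv1 F487545)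
def n218181 : Q := act 5 n188662
theorem D218181 : act 5 n188662 = n218181 := rfl
theorem F492559 : act 2 n218181 = n188962 := d2_1 D218181 (iv5 D188962) (iv2 F374341)
theorem F492560 : act 3 n218181 = n218005 := d6_1 D218181 (iv5 D218005) (iv3 F374342)
theorem F492561 : act 6 n218181 = n189061 := d12_2 D188662 D218181 (iv5 D189061) (iv6 D93106) (iv5 F142678)
theorem F492562 : act 4 n218181 = n215225 := d16_2 (iv4 F374343) D218181 (iv5 D215225) D215224 F478954 F371692 (iv5 F143193) F143194 (iv2 F142681)
def n218182 : Q := act 4 n188663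
theorem D218182 : act 4 n188663 = n218182 := rfl
theorem F492563 : act 2 n218182 = n188965 := d1_1 D218182 (iv4 D188965) (iv2 F375263)
theorem F492564 : act 7 n218182 = n188968 := d11_2 (iv7 F375264) D218182 (iv4 D188968)
theorem F492565 : act 0 n218182 = n201303 := d18_2 D188663 D218182 F419929 (iv5 F372150) F372149 (iv0 F401162) (iv4 F370800) (iv0 D187557) (iv5 F142682)
theorem F492566 : act 1 n218182 = n188897 := d18_6 F490878 F431916 (iv1 D170874) D170875 (iv5 F374344) D218182 F375164 F419931 (iv5 F490877)
def n218183 : Q := act 3 n188664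
theorem D218183 : act 3 n188664 = n218183 := rfl
theorem F492567 : act 2 n218183 = n201631 := d0_1 D218183 F421187 (iv2 F179123) F371578 F375265
theorem F492568 : act 5 n218183 = n218019 := d6_2 (iv5 F383137) D218183 (iv3 F491728)
theorem F492569 : act 6 n218183 = n201626 := d7_2 F420365 D218183 F421178
theorem F492570 : act 7 n218183 = n188964 := d8_2 F375266 D218183 (iv3 D188964)
theorem F492571 : act 4 n218183 = n188964 := d20_6 (iv4 F489466) (iv1 F489470) F371692 (iv3 F143192) (iv1 F374346) D218183 F428040 (iv4 F372136) F372135 D188021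
theorem F492572 : act 0 n203360 = n218183 := d18_0 F492571 F428040 (iv4 F372136) F374806 F374478 F371008 (iv4 F421118) (iv0 F421120) D203360
theorem F492573 : act 1 n188838 = n218183 := d18_6 (iv1 F421123) (iv4 F483858) (iv1 F486478) F486473 (iv5 F475158) F475157 F492571 (iv0 F489652) (iv5 D217587)
def n218184 : Q := act 4 n188664
theorem D218184 : act 4 n188664 = n218184 := rfl
theorem F492574 : act 2 n218184 = n188968 := d1_1 D218184 (iv4 D188968) F375265
theorem F492575 : act 3 n218184 = n188965 := d5_1 D218184 (iv4 D188965) D188964 (iv4 F492571) (iv3 D218183)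
theorem F492576 : act 7 n218184 = n188965 := d11_2 F375266 D218184 (iv4 D188965)
theorem F492577 : act 5 n218184 = n215229 := d16_1 D218184 (iv4 D215229) (iv5 D170748) F125878 D81916 D170875 (iv5 F374344) F375264 F375265
theorem F492578 : act 0 n218184 = n188897 := d18_2 (iv1 F374346) D218184 F375164 F374349 F370807 F474358 F474357 F370804 (iv5 F143193)
theorem F492579 : act 1 n218184 = n201303 := d18_6 (iv1 F490958) (iv4 F465254) F474284 F474282 (iv5 F383137) D218184 F419929 D201305 (iv5 F490957)
def n218185 : Q := act 0 n188667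
theorem D218185 : act 0 n188667 = n218185 := rfl
theorem F492580 : act 5 n218185 = n200285 := d17_1 D218185 (iv1 D200285) F175880 (iv4 F239766) F412018 F219576 (iv5 F453547) F453550 F432877
theorem F492581 : act 4 n218185 = n209517 := d18_3 F432879 F432877 D218185 (iv5 D209517) D209516 F453991 (iv4 F400781) (iv0 D125469) D125472
theorem F492582 : act 3 n218185 = n217851 := d20_5 (iv4 F485049) F485052 F374360 (iv3 F374356) D218185 F490925 (iv1 F468255) F468251 F375043 (iv1 F376965)
theorem F492583 : act 2 n217563 = n218185 := d15_3 (iv0 D218185) (iv0 F432923) (iv7 F489516)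
theorem F492584 : act 6 n218185 = n213098 := d3_2 (iv6 F489515) F492583 (iv2 F468999)
theorem F492585 : act 7 n218185 = n217854 := d4_2 (iv7 F489516) F492583 (iv2 D217854)
theorem F492586 : act 1 n213114 = n218185 := d15_1 F469073 F492585 (iv2 D217854)
def n218186 : Q := act 7 n188667
theorem D218186 : act 7 n188667 = n218186 := rfl
theorem F492587 : act 2 n218186 = n213114 := d4_1 D218186 (iv7 F491912) F491908
theorem F492588 : act 3 n218186 = n188671 := d8_1 D218186 (iv7 D188671) (iv3 F374356)
theorem F492589 : act 4 n218186 = n209372 := d11_1 D218186 F453436 F432877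
theorem F492590 : act 5 n218186 = n216877 := d13_1 D218186 (iv7 D216877) (iv5 F374357)
theorem F492591 : act 6 n218186 = n189012 := d14_1 D218186 (iv7 D189012) (iv6 D93016) (iv7 F142711) D188667
theorem F492592 : act 1 n217854 = n218186 := d15_1 (iv0 F491914) (iv7 D218186) (iv2 F491908)
theorem F492593 : act 1 n218186 = n217563 := d15_1 F492592 F489516 D217854
def n218187 : Q := act 7 n188668
theorem D218187 : act 7 n188668 = n218187 := rfl
theorem F492594 : act 2 n218187 = n189002 := d4_1 D218187 (iv7 D189002) (iv2 F374358)
theorem F492595 : act 3 n218187 = n197823 := d8_1 D218187 F405902 (iv3 F374359)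
theorem F492596 : act 4 n218187 = n188671 := d11_1 D218187 (iv7 D188671) (iv4 F374360)
theorem F492597 : act 5 n218187 = n197822 := d13_1 D218187 F405898 (iv5 F374361)
theorem F492598 : act 6 n218187 = n189017 := d14_1 D218187 (iv7 D189017) (iv6 D93020) (iv7 F142719) D188668
theorem F492599 : act 1 n188864 = n218187 := d15_1 (iv0 F385132) (iv7 D218187) F374358
theorem F492600 : act 1 n218187 = n188860 := d15_1 F492599 (iv7 F485051) F485048
def n218188 : Q := act 5 n188673
theorem D218188 : act 5 n188673 = n218188 := rfl
theorem F492601 : act 2 n218188 = n189016 := d2_1 D218188 (iv5 D189016) (iv2 F374392)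
theorem F492602 : act 3 n218188 = n203276 := d6_1 D218188 F427624 F401755
theorem F492603 : act 6 n218188 = n191914 := d12_2 D188673 D218188 (iv5 D191914) F152913 (iv5 F291996)
theorem F492604 : act 4 n218188 = n212564 := d16_2 (iv4 F374393) D218188 F466446 (iv4 F466427) (iv5 D212561) (iv4 F375465) F375466 (iv7 D93024) (iv2 F142744)
theorem F492605 : act 0 n218188 = n199114 := d18_0 F410734 F410735 (iv4 F410691) (iv5 F410694) F375133 F374291 (iv4 F413219) (iv0 F413221) D218188
theorem F492606 : act 1 n218188 = n217733 := d15_1 (iv0 F492605) F490378 (iv2 F410732)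
theorem F492607 : act 7 n213437 = n218188 := d11_0 F492604 F466443 (iv4 F470396)
def n218189 : Q := act 7 n188673
theorem D218189 : act 7 n188673 = n218189 := rfl
theorem F492608 : act 2 n218189 = n189017 := d4_1 D218189 (iv7 D189017) (iv2 F374392)
theorem F492609 : act 3 n218189 = n213438 := d8_1 D218189 F470402 F401755
theorem F492610 : act 4 n218189 = n188676 := d11_1 D218189 (iv7 D188676) (iv4 F374393)
theorem F492611 : act 5 n218189 = n213437 := d13_1 D218189 F492607 (iv5 D218188)
theorem F492612 : act 6 n218189 = n189002 := d14_1 D218189 (iv7 D189002) (iv6 D92978) (iv7 F142743) D188673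
theorem F492613 : act 1 n188889 = n218189 := d15_1 (iv0 F413222) (iv7 D218189) F374392
theorem F492614 : act 1 n218189 = n188887 := d15_1 F492613 (iv7 F475335) F475332
def n218190 : Q := act 0 n188683
theorem D218190 : act 0 n188683 = n218190 := rfl
theorem F492615 : act 4 n218190 = n193164 := d18_1 D218190 (iv1 F389001) (iv4 F389226) F389227 (iv4 F363662) F420133 F420136 F375239 (iv5 F374441)
theorem F492616 : act 2 n188954 = n218190 := d15_3 (iv0 D218190) (iv0 F471550) F471549
theorem F492617 : act 1 n188952 = n218190 := d15_0 (iv0 D218190) F374442 (iv2 F375244)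
theorem F492618 : act 7 n218190 = n188953 := d15_2 (iv0 F471551) F492617 (iv2 F471545)
def n218191 : Q := act 6 n188685
theorem D218191 : act 6 n188685 = n218191 := rfl
theorem F492619 : act 2 n218191 = n189067 := d3_1 D218191 (iv6 D189067) (iv2 F378697)
theorem F492620 : act 4 n218191 = n210984 := d10_1 D218191 (iv6 F459639) F386782
theorem F492621 : act 5 n218191 = n192525 := d12_1 D218191 (iv6 F491724) (iv5 F491723) (iv6 F491722) F389706
theorem F492622 : act 0 n218191 = n192952 := d21_4 (iv5 F156492) D193398 F389706 D218191 (iv6 D192952) (iv5 F357505) (iv1 F448483) (iv5 D208229) (iv6 F372454) F366980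
def n218192 : Q := act 4 n188693
theorem D218192 : act 4 n188693 = n218192 := rfl
theorem F492623 : act 2 n218192 = n201090 := d1_1 D218192 (iv4 F462277) F462273
theorem F492624 : act 3 n218192 = n201624 := d5_1 D218192 (iv4 F446973) F446972 D207914 (iv3 F446975)
theorem F492625 : act 7 n218192 = n201091 := d11_2 F484075 D218192 F484077
theorem F492626 : act 5 n218192 = n201088 := d16_1 D218192 F419045 (iv5 D187737) (iv4 F153323) (iv5 F365516) (iv4 F391776) F391775 (iv7 F462276) F462273
theorem F492627 : act 0 n218192 = n201603 := d18_2 D188693 D218192 F424980 F424971 (iv4 D192953) (iv0 F385489) F387042 F387040 F356755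
theorem F492628 : act 1 n218192 = n217823 := d18_8 F439425 (iv4 F386963) (iv1 F183754) (iv4 F371408) (iv5 F451760) F451761 F387047 D218192 F490801
theorem F492629 : act 6 n218192 = n217790 := d21_5 D218022 F491747 (iv5 D217822) D217823 (iv1 F492628) F490642 (iv1 F456024) F454813 D212888 (iv1 F467969)
def n218193 : Q := act 6 n188693
theorem D218193 : act 6 n188693 = n218193 := rfl
theorem F492630 : act 2 n218193 = n210701 := d3_1 D218193 (iv6 F462275) F462273
theorem F492631 : act 4 n218193 = n217790 := d10_1 D218193 (iv6 F492629) (iv4 D218192)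
theorem F492632 : act 5 n218193 = n210617 := d12_1 D218193 (iv6 F458229) (iv5 D210040) (iv6 F391784) (iv5 F391781)
theorem F492633 : act 0 n218193 = n212998 := d21_10 F468522 (iv1 F489722) (iv5 D217599) (iv6 F372992) (iv1 F250832) F391800 (iv5 D194020) (iv1 F391780) (iv5 F391781) D218193
theorem F492634 : act 0 n212932 = n218193 := d21_4 (iv5 D99601) (iv1 F311989) D151499 D212932 (iv6 D218193) F391781 (iv1 D194016) F365560 (iv6 D152023) (iv1 F311992)
theorem F492635 : act 7 n212996 = n218193 := d13_0 F492632 (iv7 F460466) F468513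
def n218194 : Q := act 4 n188694
theorem D218194 : act 4 n188694 = n218194 := rfl
theorem F492636 : act 2 n218194 = n201091 := d1_1 D218194 F484077 (iv2 F484079)
theorem F492637 : act 3 n218194 = n209054 := d5_1 D218194 F452045 (iv3 F460933) (iv4 F462300) F462299
theorem F492638 : act 5 n218194 = n201089 := d9_2 F391775 D218194 (iv4 F419055) (iv5 D187738) F153434 F362224 F391783 (iv5 F391781) D218192 F492626 F419045 (iv5 D187737) (iv4 F153323) (iv5 F365516) (iv4 F391776)
theorem F492639 : act 7 n218194 = n201090 := d11_2 F462276 D218194 (iv4 F462277)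
theorem F492640 : act 1 n218194 = n201603 := d18_6 F331223 F181222 D137590 (iv4 F391776) F391775 D218194 F424980 F451770 (iv5 D194011)
theorem F492641 : act 6 n218194 = n203369 := d21_5 (iv5 D53008) D53006 D114875 D201603 (iv1 F492640) (iv5 F475527) F475528 (iv5 F371726) F371727 (iv1 D114883)
theorem F492642 : act 0 n218194 = n217823 := d21_4 (iv5 F468414) (iv1 F475529) F475527 (iv6 F492641) (iv6 D217823) D217822 (iv1 F491741) (iv5 D218021) F490400 (iv1 D217737)
def n218195 : Q := act 6 n188694
theorem D218195 : act 6 n188694 = n218195 := rfl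
theorem F492643 : act 2 n218195 = n210213 := d3_1 D218195 F484078 (iv2 F484079)
theorem F492644 : act 4 n218195 = n203369 := d10_1 D218195 (iv6 F492641) (iv4 D218194)
theorem F492645 : act 5 n218195 = n208300 := d12_1 D218195 F448810 (iv5 F426794) F426792 F391775
theorem F492646 : act 0 n218195 = n193390 := d21_4 (iv5 F365560) D194015 F391775 D218195 (iv6 F465503) (iv5 D212363) (iv1 D146823) D146824 D212364 F465509
theorem F492647 : act 0 n214437 = n218195 := d21_4 D159337 D214391 F474931 D214437 (iv6 D218195) (iv5 F391775) (iv1 F391777) D194020 (iv6 F391800) (iv1 D159335)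
def n218196 : Q := act 4 n188701
theorem D218196 : act 4 n188701 = n218196 := rfl
theorem F492648 : act 2 n218196 = n216491 := d1_1 D218196 (iv4 F491476) F491475
theorem F492649 : act 3 n218196 = n192589 := d5_1 D218196 (iv4 F482514) F482513 F380069 D188701
theorem F492650 : act 6 n218196 = n192588 := d10_2 F405088 D218196 F405086
theorem F492651 : act 7 n218196 = n189136 := d11_2 (iv7 F380068) D218196 (iv4 D189136)
theorem F492652 : act 5 n218196 = n217194 := d16_1 D218196 (iv4 D217194) (iv5 D186994) (iv4 F357198) D192839 (iv4 F387987) (iv5 F375853) (iv7 F491471) F491475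
theorem F492653 : act 0 n218196 = n216350 := d18_2 (iv1 F491480) D218196 F483960 (iv5 F286280) (iv4 F361894) D192844 (iv4 F457011) (iv0 F457013) (iv5 F491478)
def n218197 : Q := act 4 n188703
theorem D218197 : act 4 n188703 = n218197 := rfl
theorem F492654 : act 2 n218197 = n189155 := d1_1 D218197 (iv4 D189155) (iv2 F380070)
theorem F492655 : act 3 n218197 = n199169 := d5_1 D218197 (iv4 F439025) F439028 (iv4 F448506) F448505
theorem F492656 : act 6 n218197 = n192407 := d10_2 (iv6 F374488) D218197 F386879
theorem F492657 : act 7 n218197 = n189143 := d11_2 (iv7 F380071) D218197 (iv4 D189143)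
theorem F492658 : act 5 n218197 = n215458 := d16_1 D218197 F480082 F390181 F454591 F454588 F380061 D188699 F380063 (iv2 F380070)
theorem F492659 : act 1 n218197 = n192346 := d18_6 (iv1 F359444) (iv4 F366995) (iv1 F367531) F380069 D188703 D218197 F386526 (iv0 F350402) (iv5 F350403)
theorem F492660 : act 1 n192484 = n215458 := d17_6 (iv1 F384581) (iv5 D191846) (iv1 D99002) (iv5 F73883) (iv4 F154149) D192484 (iv5 F492658) F492659 F386526
def n218198 : Q := act 0 n188707
theorem D218198 : act 0 n188707 = n218198 := rfl
theorem F492661 : act 4 n218198 = n201503 := d20_2 D188707 D218198 (iv3 F489335) (iv1 F489341) F387577 (iv4 F388546) (iv1 F441476) F441474 (iv3 F367243) F362400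
theorem F492662 : act 6 n218198 = n208205 := d21_5 (iv5 F379627) (iv1 F420764) (iv5 D201506) (iv6 F374502) D218198 (iv5 F465814) F487448 F487445 (iv6 D203469) (iv1 F237952)
theorem F492663 : act 2 n217660 = n218198 := d15_3 (iv0 D218198) (iv0 F489346) F489981
theorem F492664 : act 1 n217560 = n218198 := d15_0 (iv0 D218198) F374503 (iv2 F489497)
theorem F492665 : act 7 n218198 = n217661 := d15_2 (iv0 F489499) F492664 (iv2 F489986)
theorem F492666 : act 3 n193074 = n218198 := d20_9 (iv4 D217560) F370811 (iv4 F367393) F219667 D136591 F420693 (iv4 F484575) F484578 F388669 (iv1 F492664)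
def n218199 : Q := act 0 n188709
theorem D218199 : act 0 n188709 = n218199 := rfl
theorem F492667 : act 4 n218199 = n217730 := d18_3 F413456 (iv4 F374509) D218199 (iv5 D217730) F371671 D187842 F413461 D203773 F429762
theorem F492668 : act 6 n218199 = n215911 := d21_5 (iv5 D90801) (iv1 F290809) (iv5 F142845) D188709 D218199 (iv5 D215911) (iv1 F374395) F288221 (iv6 D92635) F291248
theorem F492669 : act 5 n218199 = n212927 := d21_8 (iv5 D212470) F342090 D188557 F373945 (iv1 D93818) D93820 (iv5 F374510) D218199 F468163 (iv1 F465952)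
theorem F492670 : act 2 n189548 = n218199 := d15_3 (iv0 D218199) (iv0 F394208) (iv7 F376862)
theorem F492671 : act 1 n189550 = n218199 := d15_0 (iv0 D218199) (iv7 F413484) F413481
theorem F492672 : act 7 n218199 = n189549 := d15_2 F394209 F492671 F411628
theorem F492673 : act 3 n209529 = n218199 := d8_3 F492672 (iv3 F416444) (iv7 F454051)
def n218200 : Q := act 0 n188710
theorem D218200 : act 0 n188710 = n218200 := rfl
theorem F492674 : act 5 n218200 = n212459 := d17_1 D218200 (iv1 F465889) (iv5 F412553) F412552 D204588 (iv0 F468778) (iv5 D213049) (iv0 F409311) F386056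
theorem F492675 : act 4 n218200 = n199773 := d20_2 F386056 D218200 F413436 F492340 F492336 F394232 F420178 F420174 (iv3 F457802) F457805
theorem F492676 : act 3 n218200 = n212586 := d20_5 F142847 (iv1 D92684) D92685 D188710 D218200 (iv4 F491653) (iv1 D218006) (iv4 F374332) F374331 (iv1 F142679)
theorem F492677 : act 0 n204830 = n211147 := d21_7 (iv5 F374511) D218200 F492674 F465886 (iv1 F430948) D204655 (iv5 F433749) F460323 F460317 F365474
theorem F492678 : act 6 n218200 = n198753 := d21_5 F372262 (iv1 D139592) (iv5 F345073) (iv6 F374512) D218200 (iv5 D198753) (iv1 F365966) (iv5 F409235) (iv6 F409236) F405162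
theorem F492679 : act 2 n198777 = n218200 := d15_3 (iv0 D218200) (iv0 F374513) F409191
theorem F492680 : act 1 n213277 = n218200 := d15_0 (iv0 D218200) (iv7 F375163) (iv2 F469679)
theorem F492681 : act 7 n218200 = n213276 := d15_2 D213277 F492680 F469669
def n218201 : Q := act 0 n188717
theorem D218201 : act 0 n188717 = n218201 := rfl
theorem F492682 : act 5 n218201 = n218132 := d17_3 F288277 D188717 D218201 (iv4 D218132) F373981 F349143 (iv5 D88520) D88519 D185851
theorem F492683 : act 4 n218201 = n200634 := d18_1 D218201 F417303 (iv4 D187694) (iv5 D90456) F66687 F290234 (iv4 F142604) F290231 D188717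
theorem F492684 : act 3 n218201 = n188745 := d20_5 D189392 F376527 F341623 (iv3 F374540) D218201 F374677 F349513 F332661 (iv3 F374831) F374834
theorem F492685 : act 6 n218201 = n200633 := d21_5 (iv5 F451651) (iv1 F399897) F399899 F374541 D218201 (iv5 F471150) F471152 (iv5 D212287) D212288 F465154
theorem F492686 : act 1 n217604 = n218201 := d15_0 (iv0 D218201) (iv7 F399960) (iv2 F489751)
theorem F492687 : act 2 n193992 = n218201 := d3_3 F492685 F417295 (iv6 F391666)
theorem F492688 : act 7 n217605 = n218201 := d15_2 (iv0 F391667) D217605 (iv2 F492687)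
def n218202 : Q := act 1 n188717
theorem D218202 : act 1 n188717 = n218202 := rfl
theorem F492689 : act 1 n218202 = n217604 := d15_1 D218202 F489755 (iv2 F374539)
theorem F492690 : act 7 n218202 = n193992 := d15_2 (iv0 D218201) D218202 F492687
theorem F492691 : act 5 n218202 = n189611 := d17_7 F418757 F489759 (iv1 D217605) (iv5 D187639) (iv4 F142880) D188717 D218202 (iv0 F489782) F489781
theorem F492692 : act 4 n218202 = n200647 := d17_9 (iv1 F417348) D216833 F486114 (iv5 F484162) F484161 (iv5 D188615) F290231 D188717 D218202
theorem F492693 : act 3 n188722 = n218202 := d20_3 (iv4 F419045) (iv1 F419047) (iv4 F374567) (iv1 D218202) F374540 (iv4 F341623) F397931 F397930 (iv3 F394455) (iv1 F394461)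
theorem F492694 : act 6 n209102 = n218202 := d21_3 (iv5 D196188) D196187 F452269 (iv1 D218202) (iv6 F374541) (iv5 F399899) F399896 D190451 (iv6 F379991) (iv1 F399789)
theorem F492695 : act 2 n218202 = n217605 := d0_1 F492693 (iv3 F489758) (iv2 F374684) F374685 F374570
def n218203 : Q := act 5 n188718
theorem D218203 : act 5 n188718 = n218203 := rfl
theorem F492696 : act 2 n218203 = n216881 := d2_1 D218203 (iv5 D216881) (iv2 F374543)
theorem F492697 : act 3 n218203 = n188720 := d6_1 D218203 (iv5 D188720) (iv3 F374544)
theorem F492698 : act 6 n218203 = n190429 := d12_2 D188718 D218203 F399899 F374541 (iv5 D188717)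
theorem F492699 : act 7 n218203 = n189507 := d13_2 F374546 D218203 F376753
theorem F492700 : act 4 n218203 = n190431 := d16_2 (iv4 F374545) D218203 (iv5 F489072) F489073 F488687 F462783 F376753 F374546 F374543
theorem F492701 : act 0 n218203 = n189610 := d17_2 F374547 D218203 (iv5 D189610) (iv4 D94137) D94138 F335777 F144733 (iv0 F294555) D98030
theorem F492702 : act 1 n218203 = n189604 := d17_6 F178353 D189220 F486364 (iv5 D216881) (iv4 F374545) D218203 (iv5 D189604) (iv0 F178358) (iv4 F142153)
def n218204 : Q := act 5 n188721
theorem D218204 : act 5 n188721 = n218204 := rfl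
theorem F492703 : act 2 n218204 = n192081 := d2_1 D218204 (iv5 D192081) (iv2 F374561)
theorem F492704 : act 3 n218204 = n193106 := d6_1 D218204 F388768 (iv3 F374562)
theorem F492705 : act 7 n218204 = n192029 := d13_2 (iv7 F374564) D218204 (iv5 D192029)
theorem F492706 : act 0 n218204 = n192087 := d17_2 F374566 D218204 F385488 F376318 F183749 F183748 F139334 F139323 (iv4 F153323)
theorem F492707 : act 1 n218204 = n192055 := d17_6 F367373 F367318 (iv1 F367372) F349108 D188721 D218204 (iv5 F488261) (iv0 F488265) F384223
theorem F492708 : act 4 n218204 = n210340 := d18_5 F68110 (iv4 F68108) D92703 D188721 D218204 (iv0 F473489) F473488 (iv0 F367370) (iv5 D90523)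
theorem F492709 : act 6 n218204 = n192025 := d21_3 F365516 F374566 D218204 (iv1 D192025) (iv6 F385234) (iv5 F467770) (iv1 D212848) (iv5 F360983) (iv6 D137594) D137590
def n218205 : Q := act 5 n188727
theorem D218205 : act 5 n188727 = n218205 := rfl
theorem F492710 : act 2 n218205 = n207962 := d2_1 D218205 F447170 F374596
theorem F492711 : act 3 n218205 = n201352 := d6_1 D218205 F420103 (iv3 F418752)
theorem F492712 : act 4 n218205 = n214793 := d9_1 D218205 (iv5 D214793) (iv4 D162586) (iv5 D78073) (iv4 F119267) (iv5 F315273) (iv4 F214647) D208156 F448150 F415057 F415054 (iv5 F366952) F256745 (iv5 F281338) F374597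
theorem F492713 : act 6 n218205 = n201305 := d12_2 F374598 D218205 (iv5 F490957) (iv6 F490959) (iv5 D207359)
theorem F492714 : act 7 n218205 = n207265 := d13_2 (iv7 F374595) D218205 (iv5 D207265)
theorem F492715 : act 0 n218205 = n207956 := d17_2 (iv1 F374594) D218205 (iv5 D207956) F213248 F319565 (iv0 F330900) (iv5 F330901) (iv0 F319753) (iv4 F371338)
theorem F492716 : act 1 n218205 = n207964 := d17_6 F438821 (iv5 F355085) (iv1 F256818) (iv5 F281338) F374597 D218205 F447176 F391744 F391740
def n218206 : Q := act 4 n188734
theorem D218206 : act 4 n188734 = n218206 := rfl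
theorem F492717 : act 2 n218206 = n194001 := d1_1 D218206 (iv4 D194001) (iv2 F374633)
theorem F492718 : act 3 n218206 = n200965 := d5_1 D218206 (iv4 D200965) F366363 (iv4 F398257) F398256
theorem F492719 : act 7 n218206 = n217624 := d11_2 (iv7 F374631) D218206 (iv4 D217624)
theorem F492720 : act 0 n218206 = n201860 := d17_0 (iv5 F465684) (iv1 F465687) (iv5 D206697) F325467 (iv5 D88515) (iv0 F68156) D92734 D188734 D218206
theorem F492721 : act 1 n218206 = n217682 := d18_6 (iv1 F384611) (iv4 D191863) (iv1 F369089) (iv4 F370544) F374632 D218206 (iv4 D217682) (iv0 F422105) F422101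
def n218207 : Q := act 3 n188735
theorem D218207 : act 3 n188735 = n218207 := rfl
theorem F492722 : act 4 n218207 = n188740 := d5_2 D188735 D218207 (iv3 D188740) (iv4 D92738) (iv3 F142977)
theorem F492723 : act 6 n218207 = n207022 := d7_2 F374636 D218207 (iv3 D207022)
theorem F492724 : act 7 n218207 = n217626 := d8_2 (iv7 F374635) D218207 (iv3 D217626)
def n218208 : Q := act 1 n188740
theorem D218208 : act 1 n188740 = n218208 := rfl
theorem F492725 : act 7 n218208 = n191633 := d15_2 (iv0 F383999) D218208 F383987
theorem F492726 : act 2 n191639 = n218208 := d4_3 F492725 F383987 D191639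
theorem F492727 : act 3 n208463 = n218208 := d8_3 F492725 F383988 (iv7 F449469)
theorem F492728 : act 6 n210246 = n218208 := d14_5 F492725 (iv6 D191633) (iv7 F367813) D217073 F487272
theorem F492729 : act 1 n218208 = n191636 := d15_0 (iv0 D191636) D191639 F492726
def n218209 : Q := act 2 n188740
theorem D218209 : act 2 n188740 = n218209 := rfl
theorem F492730 : act 3 n218209 = n208282 := d0_2 D188740 D218209 F448723 (iv3 F336947) (iv2 F142997)
theorem F492731 : act 5 n218209 = n216995 := d2_2 (iv5 F374655) D218209 (iv2 D216995)
theorem F492732 : act 6 n218209 = n208281 := d3_2 (iv6 F474824) D218209 F474821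
theorem F492733 : act 7 n218209 = n191636 := d4_2 (iv7 F374656) D218209 (iv2 F384000)
theorem F492734 : act 1 n218209 = n191639 := d15_0 (iv0 F487233) (iv7 F374656) D218209
theorem F492735 : act 1 n191633 = n218209 := d15_0 F492734 (iv7 D191639) (iv2 F383987)
def n218210 : Q := act 5 n188756
theorem D218210 : act 5 n188756 = n218210 := rfl
theorem F492736 : act 3 n218210 = n210869 := d6_1 D218210 F459076 F389551
theorem F492737 : act 7 n218210 = n210867 := d13_2 (iv7 F374743) D218210 F459067
theorem F492738 : act 0 n218210 = n215271 := d17_2 (iv1 F374744) D218210 (iv5 F486090) (iv4 D216829) (iv5 F373763) (iv0 F373764) (iv5 F177036) (iv0 F177037) (iv4 F349300)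
theorem F492739 : act 1 n218210 = n216839 := d17_6 F374676 (iv5 F374080) (iv1 D188554) (iv5 F143020) D188756 D218210 (iv5 D216839) D216838 F486145
theorem F492740 : act 6 n218210 = n213001 := d21_9 (iv5 F392100) F475921 (iv5 D214586) (iv6 D160099) F115013 (iv6 F304372) D154629 (iv1 F374744) D218210 F468537
def n218211 : Q := act 6 n188756
theorem D218211 : act 6 n188756 = n218211 := rfl
theorem F492741 : act 3 n218211 = n216439 := d7_1 D218211 F484374 F389551
theorem F492742 : act 4 n218211 = n188757 := d10_1 D218211 (iv6 D188757) D188756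
theorem F492743 : act 5 n218211 = n216437 := d12_1 D218211 F484362 (iv5 F468536) (iv6 F492740) (iv5 D218210)
theorem F492744 : act 0 n218211 = n195226 := d21_4 D216839 (iv1 F492739) (iv5 D218210) D218211 F456174 F456171 F283464 D189279 F486147 (iv1 D216838)
theorem F492745 : act 1 n218211 = n195232 := d15_1 (iv0 F492744) F456178 F456175
def n218212 : Q := act 5 n188764
theorem D218212 : act 5 n188764 = n218212 := rfl
theorem F492746 : act 2 n218212 = n216833 := d2_1 D218212 (iv5 D216833) (iv2 F374772)
theorem F492747 : act 3 n218212 = n195171 := d6_1 D218212 F396083 (iv3 F384003)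
theorem F492748 : act 6 n218212 = n205255 := d12_2 (iv6 F478757) D218212 (iv5 F480523) F480524 (iv5 F478754)
theorem F492749 : act 7 n218212 = n217649 := d13_2 (iv7 F374773) D218212 (iv5 D217649)
theorem F492750 : act 4 n218212 = n207588 := d16_2 D188764 D218212 (iv5 D207588) F354358 (iv5 D88471) F63616 D88471 (iv7 F135549) (iv2 F143043)
theorem F492751 : act 1 n218212 = n205581 := d17_6 (iv1 F335792) F335788 (iv1 F135448) D92756 D188764 D218212 F437091 F434210 (iv4 D188781)
def n218213 : Q := act 3 n188769
theorem D218213 : act 3 n188769 = n218213 := rfl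
theorem F492752 : act 4 n218213 = n217698 := d5_2 D188769 D218213 (iv3 D217698) (iv4 D187776) (iv3 F143064)
theorem F492753 : act 6 n218213 = n203361 := d7_2 (iv6 F374786) D218213 (iv3 D203361)
theorem F492754 : act 7 n218213 = n217734 := d8_2 (iv7 F374787) D218213 (iv3 D217734)
theorem F492755 : act 0 n203766 = n218213 := d20_4 D179807 F429753 F429751 (iv3 F429749) (iv3 D218213) (iv4 D188769) (iv1 F157684) D187925 (iv3 F371846) (iv1 F279927)
def n218214 : Q := act 5 n188769
theorem D218214 : act 5 n188769 = n218214 := rfl
theorem F492756 : act 2 n218214 = n217681 := d2_1 D218214 (iv5 D217681) (iv2 F374785)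
theorem F492757 : act 7 n218214 = n216855 := d13_2 (iv7 F374787) D218214 F486241
theorem F492758 : act 1 n218214 = n217232 := d15_0 (iv0 F488045) (iv7 F490084) (iv2 F492756)
def n218215 : Q := act 6 n188773
theorem D218215 : act 6 n188773 = n218215 := rfl
theorem F492759 : act 3 n218215 = n191277 := d7_1 D218215 (iv6 D191277) (iv3 F374835)
theorem F492760 : act 4 n218215 = n216744 := d10_1 D218215 F485742 F470638
theorem F492761 : act 5 n218215 = n203358 := d12_1 D218215 F428030 F375817 F370459 D188773
def n218216 : Q := act 4 n188774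
theorem D218216 : act 4 n188774 = n218216 := rfl
theorem F492762 : act 2 n218216 = n189345 := d1_1 D218216 (iv4 D189345) (iv2 F374837)
theorem F492763 : act 3 n218216 = n218103 := d5_1 D218216 F492159 (iv3 D216932) D216933 F486598
theorem F492764 : act 6 n218216 = n207402 := d10_2 F468353 D218216 (iv4 F468351)
theorem F492765 : act 7 n218216 = n189347 := d11_2 (iv7 F374838) D218216 (iv4 D189347)
theorem F492766 : act 5 n218216 = n200142 := d16_1 D218216 (iv4 F487516) F487517 (iv4 F387260) (iv5 F387258) F371003 F288409 F288418 (iv2 F374837)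
theorem F492767 : act 0 n218216 = n209035 := d17_0 (iv5 D209035) D209034 F451936 (iv4 D189621) (iv5 D94221) (iv0 F157266) D93807 (iv0 F374839) D218216
theorem F492768 : act 1 n218216 = n209039 := d18_6 (iv1 F140085) (iv4 F140157) F370463 F370461 D188774 D218216 F451968 F289200 F289196
def n218217 : Q := act 3 n188778
theorem D218217 : act 3 n188778 = n218217 := rfl
theorem F492769 : act 2 n218217 = n204163 := d0_1 D218217 F487531 (iv2 F487528) F389551 F374847
theorem F492770 : act 4 n218217 = n212415 := d5_2 (iv4 F374846) D218217 (iv3 D212415) (iv4 D146891) D146890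
theorem F492771 : act 7 n218217 = n204164 := d8_2 F471521 D218217 (iv3 F471525)
theorem F492772 : act 0 n218217 = n203966 := d19_4 (iv1 F387780) F373927 (iv4 F374846) D218217 (iv5 D203966) (iv4 F312437) F312436 (iv1 F297752) (iv5 F308536) (iv4 F310540) (iv3 D90259) (iv1 F135504) (iv5 F135553) (iv4 D88522) (iv3 F135548) (iv1 F349143) (iv5 F373981) D218132 F492281
theorem F492773 : act 0 n193345 = n218217 := d20_4 F369222 D188753 F374727 (iv3 F389526) (iv3 D218217) F374846 (iv1 F371161) F367641 (iv3 F470695) (iv1 F470698)
theorem F492774 : act 5 n218217 = n203456 := d19_1 F492773 F428394 (iv3 D197202) (iv1 D107974) (iv5 F104729) (iv4 F104898) (iv3 F353778) (iv1 F177753) (iv5 F142462) (iv4 F374141) (iv3 F492323) F492327 (iv5 F444520) (iv4 D207362) (iv3 F444499) F444502 F421325 F374727 (iv3 F389526)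
def n218218 : Q := act 5 n188778
theorem D218218 : act 5 n188778 = n218218 := rfl
theorem F492775 : act 2 n218218 = n218210 := d2_1 D218218 (iv5 D218210) F374847
theorem F492776 : act 3 n218218 = n203456 := d6_1 D218218 (iv5 F492774) (iv3 D218217)
theorem F492777 : act 7 n218218 = n207337 := d13_2 F471521 D218218 F471523
theorem F492778 : act 4 n218218 = n213001 := d16_2 (iv4 F374846) D218218 F468536 (iv4 D192253) F365645 (iv4 F154799) (iv5 F367259) (iv7 F143021) (iv2 F230273)
theorem F492779 : act 0 n218218 = n192986 := d17_2 F471519 D218218 F388436 (iv4 D185779) (iv5 F292140) D188509 F373770 F288085 (iv4 F471515)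
theorem F492780 : act 1 n218218 = n215277 := d17_6 D188745 (iv5 F387777) (iv1 F387780) F373927 (iv4 F374846) D218218 F479177 (iv0 F478976) (iv4 D188747)
def n218219 : Q := act 6 n188778
theorem D218219 : act 6 n188778 = n218219 := rfl
theorem F492781 : act 2 n218219 = n218211 := d3_1 D218219 (iv6 D218211) F374847
theorem F492782 : act 4 n218219 = n212414 := d10_1 D218219 (iv6 D212414) (iv4 F374846)
theorem F492783 : act 7 n218219 = n212596 := d14_2 F471521 D218219 (iv6 F468971) (iv7 F489907) F489903
theorem F492784 : act 0 n218219 = n210105 := d21_4 (iv5 F479177) (iv1 F492780) (iv5 D218218) D218219 (iv6 D210105) F344343 (iv1 D186448) D186449 (iv6 F374691) F478976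
theorem F492785 : act 5 n216596 = n218219 := d21_6 (iv5 D188773) F290217 D184447 (iv6 F470551) (iv1 F481628) (iv6 F485114) F492784 (iv5 F456179) F481667 (iv1 F481665)
def n218220 : Q := act 0 n188780
theorem D218220 : act 0 n188780 = n218220 := rfl
theorem F492786 : act 5 n218220 = n208549 := d17_1 D218220 F449844 (iv5 F423595) F362709 D209243 (iv0 F452865) (iv5 F411104) (iv0 F395907) F395904
theorem F492787 : act 4 n218220 = n199050 := d18_1 D218220 (iv1 F410473) F224340 F324993 (iv4 F103685) D144408 (iv4 F389760) (iv0 F389762) (iv5 F374852)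
theorem F492788 : act 3 n218220 = n205873 := d20_5 (iv4 F114381) F114383 D92790 D188780 D218220 F446692 (iv1 D207846) F212517 (iv3 F325471) (iv1 D126959)
theorem F492789 : act 2 n207854 = n218220 := d15_3 (iv0 D218220) (iv0 F442079) (iv7 F446732)
theorem F492790 : act 1 n205889 = n218220 := d15_0 (iv0 D218220) F374854 (iv2 F438285)
theorem F492791 : act 7 n218220 = n208047 := d15_2 (iv0 F442080) F492790 (iv2 F447624)
def n218221 : Q := act 1 n188782
theorem D218221 : act 1 n188782 = n218221 := rfl
theorem F492792 : act 1 n218221 = n208142 := d15_1 D218221 (iv7 F448071) (iv2 F374857)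
theorem F492793 : act 7 n218221 = n208141 := d15_2 (iv0 F374859) D218221 F448064
theorem F492794 : act 5 n218221 = n190516 := d17_7 (iv1 D94116) D94117 D189593 (iv5 F491715) (iv4 F492412) F492413 D218221 F448084 (iv4 D189592)
theorem F492795 : act 3 n209024 = n218221 := d20_3 F468965 F447082 (iv4 F451895) (iv1 D218221) F374858 (iv4 F374616) F374619 (iv4 F214647) (iv3 F448143) F468969
theorem F492796 : act 2 n218221 = n208144 := d0_1 F492795 F448086 F214593 (iv3 F443952) (iv2 F451894)
theorem F492797 : act 6 n218221 = n209023 := d7_2 D209024 F492795 (iv3 D209023)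
def n218222 : Q := act 7 n188782
theorem D218222 : act 7 n188782 = n218222 := rfl
theorem F492798 : act 2 n218222 = n208142 := d4_1 D218222 (iv7 F448071) (iv2 F374857)
theorem F492799 : act 3 n218222 = n188784 := d8_1 D218222 (iv7 D188784) (iv3 F374858)
theorem F492800 : act 5 n218222 = n218014 := d13_1 D218222 (iv7 F492414) F492413
theorem F492801 : act 6 n218222 = n211544 := d14_1 D218222 F462053 (iv6 D187793) (iv7 F143128) D188782
theorem F492802 : act 1 n208144 = n218222 := d15_1 F448090 (iv7 D218222) F374857
theorem F492803 : act 1 n218222 = n208141 := d15_1 F492802 (iv7 F492793) F492796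
def n218223 : Q := act 4 n188791
theorem D218223 : act 4 n188791 = n218223 := rfl
theorem F492804 : act 2 n218223 = n189392 := d1_1 D218223 (iv4 D189392) F374903
theorem F492805 : act 5 n218223 = n206637 := d9_2 (iv5 F374902) D218223 F441689 (iv5 F464666) F464665 (iv5 D187201) F367176 (iv5 F159981) (iv4 F377844) (iv5 F435491) F435490 (iv5 D189795) (iv4 F151324) F369726 F369721
theorem F492806 : act 6 n218223 = n205566 := d10_2 F374905 D218223 F437015
theorem F492807 : act 7 n218223 = n195718 := d11_2 F394404 D218223 F397930
theorem F492808 : act 0 n218223 = n200971 := d17_0 F418560 F365653 (iv5 D113353) F82697 F40335 D43417 D92804 F374904 D218223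
theorem F492809 : act 1 n218223 = n205568 := d18_6 (iv1 F418748) (iv4 F177004) (iv1 F369724) F369721 (iv5 F374902) D218223 F437021 F398259 (iv5 F418743)
theorem F492810 : act 3 n218223 = n209125 := d19_3 F251767 (iv5 F374902) D218223 (iv1 F452373) (iv5 F433215) F433214 (iv3 D124209) D124208 F299747 (iv4 F360087) (iv3 D156122) (iv1 D74263) D74264 D156126 (iv3 F386167) (iv1 F386169) (iv5 F367773) (iv4 F377200) F377199
def n218224 : Q := act 6 n188793
theorem D218224 : act 6 n188793 = n218224 := rfl
theorem F492811 : act 2 n218224 = n206137 := d3_1 D218224 F439428 (iv2 F374924)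
theorem F492812 : act 3 n218224 = n214422 := d7_1 D218224 F475103 (iv3 F418863)
theorem F492813 : act 4 n218224 = n211596 := d10_1 D218224 (iv6 F462313) F374911
theorem F492814 : act 5 n218224 = n214420 := d12_1 D218224 F487588 F487584 D217557 F489483
theorem F492815 : act 0 n218224 = n218171 := d21_10 (iv5 D218171) (iv1 F374306) (iv5 F375187) (iv6 F394399) (iv1 F394400) F270495 D193351 F489484 F489483 D218224
theorem F492816 : act 0 n217697 = n218224 := d21_4 (iv5 D132768) (iv1 F213192) (iv5 F371454) D217697 (iv6 D218224) (iv5 F489483) F489482 (iv5 F396031) F396032 (iv1 F218436)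
def n218225 : Q := act 0 n188797
theorem D218225 : act 0 n188797 = n218225 := rfl
theorem F492817 : act 5 n218225 = n216762 := d17_1 D218225 F485830 (iv5 D210295) (iv4 F395399) (iv5 F477424) (iv0 F478381) F478379 F470995 F470992
theorem F492818 : act 4 n218225 = n195954 := d18_1 D218225 (iv1 F417504) (iv4 F444206) F444207 F368932 D187054 (iv4 F483535) F483539 F469841
theorem F492819 : act 6 n218225 = n195953 := d21_5 (iv5 F134768) (iv1 F311651) F240981 (iv6 F374939) D218225 F398844 (iv1 F377015) F364104 F337805 (iv1 F310390)
theorem F492820 : act 2 n188801 = n218225 := d15_3 (iv0 D218225) (iv0 D188797) D188801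
theorem F492821 : act 1 n188798 = n218225 := d15_0 (iv0 D218225) (iv7 F483549) F483547
theorem F492822 : act 7 n218225 = n188799 := d15_2 D188798 F492821 (iv2 D188799)
theorem F492823 : act 3 n217695 = n218225 := d20_3 F454828 F475838 (iv4 F490166) (iv1 F492821) F397627 (iv4 F438628) (iv1 D205965) F204095 (iv3 F220063) D209746
def n218226 : Q := act 3 n188797
theorem D218226 : act 3 n188797 = n218226 := rfl
theorem F492824 : act 2 n218226 = n210162 := d0_1 D218226 (iv3 D210162) (iv2 F397623) F364103 F374940
theorem F492825 : act 6 n218226 = n204925 := d7_2 (iv6 F374939) D218226 (iv3 D204925)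
theorem F492826 : act 7 n218226 = n210190 := d8_2 F483549 D218226 F485544
theorem F492827 : act 0 n218226 = n210192 := d20_4 F462171 F470994 F470992 D218226 F489876 (iv4 F489874) (iv1 F451503) F455977 (iv3 F455976) F462175
theorem F492828 : act 0 n209274 = n218226 := d21_4 (iv5 F93921) D126781 F386031 D209274 F492825 F434205 (iv1 F456451) (iv5 D210170) (iv6 D137786) (iv1 F347222)
def n218227 : Q := act 5 n188799
theorem D218227 : act 5 n188799 = n218227 := rfl
theorem F492829 : act 2 n218227 = n188800 := d2_1 D218227 (iv5 D188800) D188799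
theorem F492830 : act 3 n218227 = n217238 := d6_1 D218227 F488058 (iv3 F374942)
theorem F492831 : act 7 n218227 = n216762 := d13_2 F492822 D218227 (iv5 F492817)
theorem F492832 : act 0 n218227 = n217229 := d17_2 F483552 D218227 F488032 F380779 F354342 D214921 (iv5 F477444) (iv0 F482769) (iv4 F483550)
theorem F492833 : act 1 n218227 = n213406 := d17_8 D213407 F470271 F456368 (iv5 F470234) F470233 (iv5 F242047) (iv0 F406418) D218227 F470265
def n218228 : Q := act 1 n188802
theorem D218228 : act 1 n188802 = n218228 := rfl
theorem F492834 : act 1 n218228 = n217241 := d15_1 D218228 (iv7 D217241) (iv2 F374948)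
theorem F492835 : act 7 n218228 = n215343 := d15_2 (iv0 F478590) D218228 F479483
theorem F492836 : act 5 n218228 = n214805 := d17_7 F365298 (iv5 D154537) F309614 (iv5 F354154) (iv4 F418858) F418859 D218228 F476938 F475195
theorem F492837 : act 4 n218228 = n191458 := d18_7 (iv1 F382986) F390232 (iv1 D193549) F314162 D102317 (iv4 F374949) D218228 F392075 F392072
theorem F492838 : act 2 n217240 = n218228 := d1_3 F492837 (iv2 F479488) (iv4 F488066)
theorem F492839 : act 6 n218228 = n215529 := d3_2 F488068 F492838 F480344
def n218229 : Q := act 7 n188802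
theorem D218229 : act 7 n188802 = n218229 := rfl
theorem F492840 : act 2 n218229 = n217241 := d4_1 D218229 (iv7 D217241) (iv2 F374948)
theorem F492841 : act 3 n218229 = n216760 := d8_1 D218229 F485821 F470269
theorem F492842 : act 4 n218229 = n193778 := d11_1 D218229 (iv7 D193778) (iv4 F374949)
theorem F492843 : act 5 n218229 = n215631 := d13_1 D218229 F480852 F418859
theorem F492844 : act 6 n218229 = n216759 := d14_1 D218229 F485816 (iv6 D187023) (iv7 F292656) D188802
theorem F492845 : act 1 n217240 = n218229 := d15_1 D217240 (iv7 D218229) F374948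
theorem F492846 : act 1 n218229 = n215343 := d15_1 F492845 (iv7 F492835) (iv2 F492838)
def n218230 : Q := act 4 n188807
theorem D218230 : act 4 n188807 = n218230 := rfl
theorem F492847 : act 2 n218230 = n201421 := d1_1 D218230 (iv4 D201421) (iv2 F374962)
theorem F492848 : act 7 n218230 = n201402 := d11_2 (iv7 F374964) D218230 (iv4 D201402)
theorem F492849 : act 5 n218230 = n213569 := d17_5 (iv1 F370597) (iv5 D114802) (iv1 F163361) (iv5 F374963) D218230 (iv0 F485065) (iv5 D216583) (iv0 F295285) (iv4 F370594)
theorem F492850 : act 0 n218230 = n195836 := d17_0 F398394 F391196 F391194 (iv4 D187498) (iv5 D90278) D90277 (iv5 F237950) F374966 D218230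
theorem F492851 : act 1 n218230 = n195834 := d18_6 (iv1 F77581) (iv4 F163371) (iv1 F163373) F163364 (iv5 F374963) D218230 (iv4 D195834) (iv0 D106329) (iv5 D49141)
theorem F492852 : act 6 n218230 = n213570 := d21_5 (iv5 D63399) D63396 D134899 F398387 (iv1 F492851) (iv5 D213570) F448874 (iv5 F450423) (iv6 D208678) (iv1 D134909)
def n218231 : Q := act 6 n188807
theorem D218231 : act 6 n188807 = n218231 := rfl
theorem F492853 : act 2 n218231 = n201422 := d3_1 D218231 (iv6 D201422) (iv2 F374962)
theorem F492854 : act 3 n218231 = n188809 := d7_1 D218231 (iv6 D188809) D188807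
theorem F492855 : act 4 n218231 = n213570 := d10_1 D218231 (iv6 F492852) (iv4 D218230)
theorem F492856 : act 5 n218231 = n201038 := d12_1 D218231 (iv6 D201038) (iv5 D113772) (iv6 F163365) (iv5 F374963)
theorem F492857 : act 7 n218231 = n216361 := d14_2 (iv7 F374964) D218231 F484005 (iv7 D206293) F206226
theorem F492858 : act 0 n218231 = n212871 := d21_4 (iv5 D114802) (iv1 F163361) (iv5 F374963) D218231 F467888 F283442 F147748 (iv5 F295283) (iv6 F370596) (iv1 F370597)
theorem F492859 : act 0 n207255 = n218231 := d21_4 (iv5 D142083) D142080 (iv5 F460286) (iv6 F460290) (iv6 D218231) F374963 (iv1 D106294) D106295 (iv6 F235474) (iv1 F349005)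
def n218232 : Q := act 3 n188808
theorem D218232 : act 3 n188808 = n218232 := rfl
theorem F492860 : act 2 n218232 = n212580 := d0_1 D218232 F466526 F231706 (iv3 F242888) (iv2 F374967)
theorem F492861 : act 5 n218232 = n212579 := d6_2 F374969 D218232 F466521
theorem F492862 : act 7 n218232 = n201406 := d8_2 (iv7 F374968) D218232 (iv3 D201406)
theorem F492863 : act 1 n213704 = n218232 := d15_1 D213704 F492862 F420376
theorem F492864 : act 1 n218232 = n213703 := d15_1 F492863 (iv7 F471706) F471710
def n218233 : Q := act 1 n188809
theorem D218233 : act 1 n188809 = n218233 := rfl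
theorem F492865 : act 1 n218233 = n188888 := d15_1 D218233 (iv7 F413212) F413209
theorem F492866 : act 7 n218233 = n217826 := d15_2 F475110 D218233 F490807
theorem F492867 : act 5 n218233 = n212281 := d18_9 F490183 F490180 F450365 F217165 F412228 (iv4 D199443) D199442 (iv4 F412215) D218233
theorem F492868 : act 3 n201372 = n218233 := d19_19 (iv1 D218233) F374970 (iv4 F418840) F418839 (iv1 F352448) F136891 (iv4 F154230) (iv3 F386862) (iv1 F386867) F381936 (iv4 D116428) D116427 F340760 (iv5 F326632) F193615 (iv3 D117349) (iv1 F183757) (iv5 F426250) F426251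
theorem F492869 : act 6 n188847 = n218233 := d21_3 (iv5 F455963) (iv1 D210055) F377186 (iv1 D218233) (iv6 D188809) F143175 (iv1 F83432) D53085 D115045 (iv1 F421704)
theorem F492870 : act 2 n218233 = n201157 := d3_1 F492869 (iv6 F427976) (iv2 F393188)
def n218234 : Q := act 4 n188815
theorem D218234 : act 4 n188815 = n218234 := rfl
theorem F492871 : act 2 n218234 = n189322 := d1_1 D218234 F376401 (iv2 F374982)
theorem F492872 : act 3 n218234 = n189374 := d5_1 D218234 (iv4 F376849) (iv3 F402749) F402750 (iv3 F374983)
theorem F492873 : act 6 n218234 = n188817 := d10_2 (iv6 F374984) D218234 (iv4 D188817)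
theorem F492874 : act 5 n218234 = n189371 := d16_7 (iv4 F387427) F475127 F490355 F490359 F374981 D188815 D218234 (iv7 F490559) (iv2 F490562)
theorem F492875 : act 0 n189305 = n218234 := d20_1 F402757 (iv4 D218234) F374983 F238511 (iv3 F342971) D195978 (iv1 F398953) F211433 (iv3 F399015) F402761
def n218235 : Q := act 0 n188820
theorem D218235 : act 0 n188820 = n218235 := rfl
theorem F492876 : act 5 n218235 = n196537 := d17_1 D218235 (iv1 F401014) D215472 F480150 F375267 F374860 (iv5 F375000) (iv0 D188821) (iv4 F374999)
theorem F492877 : act 4 n218235 = n217725 := d18_3 F374267 (iv4 F374999) D218235 F490333 F374601 (iv0 D130788) (iv4 F209348) (iv0 F365773) (iv5 F374266)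
theorem F492878 : act 6 n218235 = n199510 := d21_5 F375006 F374997 (iv5 D188819) D188820 D218235 (iv5 D199510) (iv1 F409599) (iv5 F409600) (iv6 D188825) D188823
theorem F492879 : act 2 n199514 = n218235 := d15_3 (iv0 D218235) (iv0 F387015) (iv7 F412480)
theorem F492880 : act 7 n218235 = n188852 := d4_2 (iv7 F412480) F492879 (iv2 F375357)
def n218236 : Q := act 7 n188820
theorem D218236 : act 7 n188820 = n218236 := rfl
theorem F492881 : act 3 n218236 = n196439 := d8_1 D218236 (iv7 F410711) F410709
theorem F492882 : act 4 n218236 = n188822 := d11_1 D218236 (iv7 D188822) (iv4 F374999)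
theorem F492883 : act 5 n218236 = n196438 := d13_1 D218236 (iv7 F410706) (iv5 F410707)
theorem F492884 : act 1 n188852 = n218236 := d15_1 (iv0 F490267) (iv7 D218236) (iv2 F490263)
theorem F492885 : act 1 n218236 = n199514 := d15_1 F492884 F412480 F375357
def n218237 : Q := act 6 n188823
theorem D218237 : act 6 n188823 = n218237 := rfl
theorem F492886 : act 2 n218237 = n201303 := d3_1 D218237 (iv6 D201303) F375009
theorem F492887 : act 3 n218237 = n202474 := d7_1 D218237 (iv6 D202474) (iv3 F375008)
theorem F492888 : act 4 n218237 = n201281 := d10_1 D218237 (iv6 D201281) (iv4 F375007)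
theorem F492889 : act 7 n218237 = n188897 := d14_2 (iv7 F375011) D218237 (iv6 D188897) F143273 (iv6 F178142)
theorem F492890 : act 0 n218237 = n188968 := d21_4 D188811 F374978 (iv5 F375006) D218237 (iv6 F421565) (iv5 F421567) (iv1 F464413) (iv5 F464416) F375448 F178125
theorem F492891 : act 0 n188965 = n218237 := d21_4 F492876 (iv1 F401014) D215472 F480151 (iv6 D218237) F375006 F374997 (iv5 D188819) D188820 D218235
def n218238 : Q := act 6 n188824
theorem D218238 : act 6 n188824 = n218238 := rfl
theorem F492892 : act 2 n218238 = n197578 := d3_1 D218238 (iv6 F421694) F421691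
theorem F492893 : act 3 n218238 = n188898 := d7_1 D218238 (iv6 D188898) (iv3 F375012)
theorem F492894 : act 5 n218238 = n215884 := d12_1 D218238 F481921 (iv5 F409600) (iv6 D188825) D188824
theorem F492895 : act 7 n218238 = n197572 := d14_2 (iv7 F375013) D218238 (iv6 D197572) (iv7 F167706) D108479
theorem F492896 : act 0 n218238 = n197556 := d21_4 (iv5 D192541) F154350 D188824 D218238 F404808 F402027 F402028 (iv5 F362759) F374998 (iv1 F387014)
theorem F492897 : act 0 n197575 = n218238 := d21_4 (iv5 F461513) (iv1 F480142) F480140 (iv6 F404887) (iv6 D218238) (iv5 D188824) D188823 F375006 (iv6 F245681) F397754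
def n218239 : Q := act 7 n188831
theorem D218239 : act 7 n188831 = n218239 := rfl
theorem F492898 : act 2 n218239 = n204520 := d4_1 D218239 (iv7 F490277) F490273
theorem F492899 : act 4 n218239 = n188834 := d11_1 D218239 (iv7 D188834) (iv4 F375029)
theorem F492900 : act 5 n218239 = n217763 := d13_1 D218239 F490506 F390613
theorem F492901 : act 6 n218239 = n208223 := d14_1 D218239 F448455 (iv6 F412453) F179159 D188831
theorem F492902 : act 1 n204521 = n218239 := d15_1 (iv0 F490278) (iv7 D218239) (iv2 F490273)
theorem F492903 : act 1 n218239 = n204210 := d15_1 F492902 F431496 D204521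
def n218240 : Q := act 6 n188832
theorem D218240 : act 6 n188832 = n218240 := rfl
theorem F492904 : act 3 n218240 = n217731 := d7_1 D218240 (iv6 D217731) F379478
theorem F492905 : act 5 n218240 = n206030 := d12_1 D218240 F438914 (iv5 F377495) (iv6 D189712) (iv5 F375030)
theorem F492906 : act 7 n218240 = n188910 := d14_2 F392315 D218240 (iv6 D188910) (iv7 F392321) (iv6 F392318)
theorem F492907 : act 0 n218240 = n188967 := d21_4 F142642 D94354 (iv5 F375030) D218240 (iv6 D188967) D188966 F377003 F373001 F368148 F376964
theorem F492908 : act 0 n201617 = n218240 := d21_4 F143263 F190359 D114890 D201617 (iv6 D218240) F375030 (iv1 F352920) F367190 (iv6 F374294) (iv1 F374295)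
theorem F492909 : act 0 n215472 = n207963 := d18_2 F492907 (iv4 F480150) (iv4 D207963) (iv5 D132789) F97186 D62327 D132806 (iv0 F438915) (iv5 F492905)
def n218241 : Q := act 5 n188837
theorem D218241 : act 5 n188837 = n218241 := rfl
theorem F492910 : act 3 n218241 = n211386 := d6_1 D218241 F461362 (iv3 F375035)
theorem F492911 : act 4 n218241 = n213836 := d9_1 D218241 (iv5 D213836) F244991 (iv5 F370799) F370798 (iv5 F142682) (iv4 F374343) D218181 F492562 (iv5 D215225) D215224 F478954 F371692 (iv5 F143193) (iv4 F375036)
theorem F492912 : act 6 n218241 = n211385 := d12_2 D188837 D218241 F461356 F241494 (iv5 F143191)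
theorem F492913 : act 7 n218241 = n188962 := d13_2 (iv7 F375037) D218241 (iv5 D188962)
def n218242 : Q := act 0 n188838
theorem D218242 : act 0 n188838 = n218242 := rfl
theorem F492914 : act 5 n218242 = n212888 := d17_1 D218242 (iv1 F467969) D218022 F491744 F465102 (iv0 D188296) F295290 (iv0 F475160) F475157
theorem F492915 : act 4 n218242 = n201631 := d18_1 D218242 (iv1 F489653) F489649 F397542 F374477 F370993 (iv4 F428036) F428032 (iv5 F375039)
theorem F492916 : act 2 n188964 = n218242 := d15_3 (iv0 D218242) F492573 F492570
theorem F492917 : act 1 n203360 = n218242 := d15_0 (iv0 D218242) F375040 (iv2 F428042)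
theorem F492918 : act 7 n218242 = n201631 := d15_2 (iv0 F492572) F492917 (iv2 F492567)
theorem F492919 : act 3 n201637 = n218242 := d8_3 F492918 F421187 D201637
theorem F492920 : act 6 n201630 = n218242 := d14_5 F492918 (iv6 D201631) (iv7 F179097) (iv6 F421528) F421501
def n218243 : Q := act 0 n188839
theorem D218243 : act 0 n188839 = n218243 := rfl
theorem F492921 : act 5 n218243 = n203443 := d17_1 D218243 F428334 (iv5 F238076) (iv4 F374311) F374312 D189353 (iv5 F421741) (iv0 D201768) (iv4 F375042)
theorem F492922 : act 3 n218243 = n203444 := d20_5 (iv4 F442571) (iv1 F442574) F421750 F421223 D218243 F428337 (iv1 F210055) (iv4 F247870) (iv3 F398411) F398415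
theorem F492923 : act 6 n218243 = n201768 := d21_5 (iv5 D90513) (iv1 F157722) D92838 D188839 D218243 F421741 (iv1 D189353) (iv5 F374312) (iv6 D188650) F157313
theorem F492924 : act 1 n188842 = n218243 := d15_0 (iv0 D218243) (iv7 F421214) F421212
theorem F492925 : act 2 n188840 = n218243 := d3_3 F492923 (iv2 F468241) F468238
theorem F492926 : act 7 n188841 = n218243 := d14_0 F492923 (iv7 F468244) F468246 (iv7 F491746) F491745
def n218244 : Q := act 1 n188839
theorem D218244 : act 1 n188839 = n218244 := rfl
theorem F492927 : act 1 n218244 = n188842 := d15_1 D218244 (iv7 D188842) (iv2 F375041)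
theorem F492928 : act 7 n218244 = n188840 := d15_2 (iv0 D218243) D218244 F492925
theorem F492929 : act 4 n218244 = n212313 := d17_9 F468184 (iv5 D197176) D197174 (iv5 F465230) F465229 (iv5 F444802) (iv0 F444805) F392282 D218244
theorem F492930 : act 5 n218244 = n197173 := d18_9 F403390 F398877 (iv1 F443787) F448370 (iv5 F490926) F490925 (iv0 D201768) (iv4 F375042) D218244
theorem F492931 : act 3 n201397 = n218244 := d20_3 F439814 (iv1 F415666) (iv4 F420336) (iv1 D218244) (iv3 F421223) (iv4 F421750) (iv1 F490874) (iv4 D217841) F375326 (iv1 F439817)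
theorem F492932 : act 6 n212312 = n218244 := d21_3 F483903 F483901 (iv5 F465255) (iv1 D218244) (iv6 D188839) (iv5 D92838) (iv1 F142652) D188640 (iv6 F489650) F489652
theorem F492933 : act 2 n218244 = n188841 := d3_1 F492932 (iv6 F491745) F491742
def n218245 : Q := act 0 n188844
theorem D218245 : act 0 n188844 = n218245 := rfl
theorem F492934 : act 5 n218245 = n189055 := d17_3 (iv1 D192514) (iv5 F375047) D218245 F438363 F438359 F438317 F438314 (iv0 F372110) F386918
theorem F492935 : act 1 n212646 = n218245 := d15_0 (iv0 D218245) F375048 (iv2 F466859)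
theorem F492936 : act 2 n213789 = n218245 := d2_3 F492934 (iv2 F492545) F492543
theorem F492937 : act 3 n213704 = n218245 := d6_3 F492934 F466476 F471711
theorem F492938 : act 7 n213790 = n218245 := d13_0 F492934 (iv7 F438364) (iv5 F472099)
def n218246 : Q := act 1 n188844
theorem D218246 : act 1 n188844 = n218246 := rfl
theorem F492939 : act 1 n218246 = n212646 := d15_1 D218246 F466861 F375049
theorem F492940 : act 7 n218246 = n213789 := d15_2 (iv0 D218245) D218246 F492936
theorem F492941 : act 5 n218246 = n189056 := d17_7 (iv1 F237137) (iv5 F237144) (iv1 F357008) F353039 (iv4 F353038) (iv5 F375047) D218246 (iv0 F467696) (iv4 D212835)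
theorem F492942 : act 4 n213008 = n218246 := d20_0 (iv1 D218246) (iv4 F468995) F468994 (iv1 F471313) F471309 F428006 F252054 D195594 (iv3 F471811) (iv1 F471813)
theorem F492943 : act 2 n218246 = n213790 := d1_1 F492942 F472102 (iv2 F468571)
theorem F492944 : act 6 n218246 = n213007 := d10_2 D213008 F492942 (iv4 D213007)
theorem F492945 : act 3 n218246 = n194380 := d20_3 D213727 (iv1 F471813) F492942 F421796 F413242 F173200 D141234 (iv4 F412925) (iv3 F471804) (iv1 F471806)
def n218247 : Q := act 3 n188846
theorem D218247 : act 3 n188846 = n218247 := rfl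
theorem F492946 : act 5 n218247 = n203919 := d6_2 F390377 D218247 F430397
theorem F492947 : act 6 n218247 = n214246 := d7_2 (iv6 F375051) D218247 F474194
theorem F492948 : act 7 n218247 = n201159 := d8_2 F393187 D218247 F427975
theorem F492949 : act 0 n218247 = n201793 := d19_4 D111494 D199610 F412841 D218247 F421811 F290482 F354587 F110926 (iv5 D51558) (iv4 D25046) D25045 (iv1 F39304) (iv5 D13339) (iv4 D6327) D6326 F19153 D14532 (iv4 F39230) D51424
theorem F492950 : act 0 n188877 = n218247 := d20_4 F491675 F426135 (iv4 F426133) (iv3 F375114) (iv3 D218247) (iv4 F412841) F412842 F412464 (iv3 F465093) (iv1 F491679)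
def n218248 : Q := act 2 n188849
theorem D218248 : act 2 n188849 = n218248 := rfl
theorem F492951 : act 3 n218248 = n212646 := d0_2 D188849 D218248 F466859 (iv3 F365266) (iv2 F292033)
theorem F492952 : act 4 n218248 = n217758 := d1_2 (iv4 F375054) D218248 (iv2 D217758)
theorem F492953 : act 5 n218248 = n192502 := d2_2 (iv5 F375055) D218248 (iv2 D192502)
theorem F492954 : act 7 n218248 = n213787 := d4_2 F393177 D218248 F472087
theorem F492955 : act 1 n212883 = n218248 := d15_1 (iv0 F467939) F492954 F472087
def n218249 : Q := act 0 n188851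
theorem D218249 : act 0 n188851 = n218249 := rfl
theorem F492956 : act 5 n218249 = n192929 := d21_2 F384825 D218249 F388262 (iv1 F396894) (iv6 F400472) (iv5 D178098) (iv1 F361601) D111472 (iv6 F405259) (iv1 F405260)
theorem F492957 : act 1 n199526 = n218249 := d15_0 (iv0 D218249) (iv7 F375339) (iv2 F412527)
theorem F492958 : act 2 n197852 = n218249 := d2_3 F492956 (iv2 F388258) D197852
theorem F492959 : act 3 n213720 = n218249 := d6_3 F492956 F389472 (iv5 F471782)
theorem F492960 : act 6 n218249 = n204558 := d21_3 F367191 D192929 (iv5 F492956) (iv1 D204558) D204560 (iv5 F444166) F444167 (iv5 F430783) F430784 (iv1 D192545)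
theorem F492961 : act 4 n208698 = n218249 := d10_3 F492960 (iv4 F434128) D208698
def n218250 : Q := act 1 n188851
theorem D218250 : act 1 n188851 = n218250 := rfl
theorem F492962 : act 7 n218250 = n197852 := d15_2 (iv0 D218249) D218250 F492958
theorem F492963 : act 3 n197853 = n218250 := d20_3 (iv4 D191934) (iv1 F372256) (iv4 F406030) (iv1 D218250) (iv3 D188851) F291273 (iv1 F291249) D92625 F362358 (iv1 F384893)
theorem F492964 : act 5 n218250 = n192930 := d6_2 (iv5 F406031) F492963 (iv3 F388254)
theorem F492965 : act 0 n199526 = n218250 := d20_4 (iv4 F413247) F363014 (iv4 F172879) (iv3 F412528) (iv3 F492963) F406030 F372255 D191937 (iv3 F412428) (iv1 F413243)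
def n218251 : Q := act 2 n188851
theorem D218251 : act 2 n188851 = n218251 := rfl
theorem F492966 : act 3 n218251 = n199531 := d0_2 D188851 D218251 F412551 (iv3 D188994) F143389
theorem F492967 : act 5 n218251 = n197658 := d2_2 F384825 D218251 (iv2 F405251)
theorem F492968 : act 7 n218251 = n199526 := d4_2 F375339 D218251 F412527
theorem F492969 : act 1 n197852 = n218251 := d15_1 (iv0 F406028) F492968 F412527
def n218252 : Q := act 4 n188851
theorem D218252 : act 4 n188851 = n218252 := rfl
theorem F492970 : act 3 n218252 = n217545 := d5_1 D218252 F489411 F372314 (iv4 F291273) D188851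
theorem F492971 : act 7 n218252 = n217745 := d11_2 F375339 D218252 F490436
def n218253 : Q := act 6 n188851
theorem D218253 : act 6 n188851 = n218253 := rfl
theorem F492972 : act 3 n218253 = n188852 := d7_1 D218253 (iv6 D188852) D188851
theorem F492973 : act 5 n212141 = n218253 := d6_0 F492972 (iv5 F476855) F476852
def n218254 : Q := act 3 n188855
theorem D218254 : act 3 n188855 = n218254 := rfl
theorem F492974 : act 2 n218254 = n204217 := d0_1 D218254 (iv3 D204217) F197351 D123991 F375065
theorem F492975 : act 4 n218254 = n208610 := d5_2 (iv4 F375064) D218254 F450144 D208612 F450158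
theorem F492976 : act 5 n218254 = n207648 := d6_2 (iv5 F375066) D218254 F445839
theorem F492977 : act 7 n218254 = n204559 := d8_2 F375370 D218254 F432858
theorem F492978 : act 0 n218254 = n204558 := d20_10 (iv4 F434128) (iv1 F365166) D208596 F450064 F432410 F432407 F375369 (iv1 F374364) (iv4 F375064) D218254
theorem F492979 : act 0 n204557 = n218254 := d20_4 F306415 D159159 D214374 F474846 (iv3 D218254) F375064 (iv1 D188670) (iv4 F374360) F374359 F351229
theorem F492980 : act 6 n216897 = n218254 := d10_0 F492975 F450145 D216897
def n218255 : Q := act 6 n188855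
theorem D218255 : act 6 n188855 = n218255 := rfl
theorem F492981 : act 2 n218255 = n204552 := d3_1 D218255 (iv6 D204552) F375065
theorem F492982 : act 3 n218255 = n216897 := d7_1 D218255 F492980 (iv3 D218254)
theorem F492983 : act 4 n218255 = n217593 := d10_1 D218255 F489684 (iv4 F375064)
theorem F492984 : act 0 n217827 = n218255 := d21_4 F172893 D111494 D199610 (iv6 F490812) (iv6 D218255) F375066 (iv1 F390619) (iv5 F432793) (iv6 F453875) F412461
theorem F492985 : act 1 n217825 = n218255 := d18_6 (iv1 D188022) (iv4 F372139) (iv1 F376982) (iv4 D188000) D188001 D217825 F492983 (iv0 F490838) (iv5 D217832)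
def n218256 : Q := act 5 n188864
theorem D218256 : act 5 n188864 = n218256 := rfl
theorem F492986 : act 2 n218256 = n216083 := d2_1 D218256 (iv5 F485050) F485048
theorem F492987 : act 4 n218256 = n209189 := d9_1 D218256 F452640 F369115 (iv5 F390721) F390720 (iv5 D188861) D188860 F376994 F372042 (iv5 F367376) F367375 D192158 F385806 (iv5 D188865) D188864
theorem F492988 : act 7 n218256 = n194683 := d13_2 F432919 D218256 (iv5 F432920)
theorem F492989 : act 1 n218256 = n199798 := d17_6 (iv1 D188833) (iv5 F164389) (iv1 F375073) (iv5 D188865) D188864 D218256 (iv5 D199798) (iv0 F413171) F413169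
theorem F492990 : act 0 n218256 = n216081 := d18_0 F482836 (iv1 D188148) (iv4 F371762) (iv5 F375371) (iv4 D189004) (iv0 D92979) (iv4 F143394) (iv0 F385132) D218256
theorem F492991 : act 6 n211316 = n218256 := d21_5 F350396 (iv1 D66490) D66492 D141824 D211316 (iv5 D218256) F385132 D189001 (iv6 F400169) F400171
def n218257 : Q := act 6 n188864
theorem D218257 : act 6 n188864 = n218257 := rfl
theorem F492992 : act 2 n218257 = n217131 := d3_1 D218257 F487579 F485048
theorem F492993 : act 4 n218257 = n188866 := d10_1 D218257 (iv6 D188866) D188864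
def n218258 : Q := act 3 n188867
theorem D218258 : act 3 n188867 = n218258 := rfl
theorem F492994 : act 4 n218258 = n217734 := d5_2 D188867 D218258 (iv3 D217734) (iv4 D187851) (iv3 F143244)
theorem F492995 : act 7 n218258 = n217698 := d8_2 (iv7 F375076) D218258 (iv3 D217698)
theorem F492996 : act 0 n218258 = n217944 := d20_4 F365412 (iv1 F251918) D188867 D218258 (iv3 F492373) (iv4 D218148) (iv1 F465773) F465777 F446918 (iv1 F374299)
theorem F492997 : act 5 n217808 = n218258 := d13_3 F492995 (iv5 F490186) F490735
theorem F492998 : act 6 n191838 = n218258 := d14_5 F492995 F490185 (iv7 F440493) F486984 (iv7 F486985)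
theorem F492999 : act 1 n218258 = n217838 := d17_6 (iv1 F407126) (iv5 D187885) D187882 F420157 (iv4 F490733) F492997 (iv5 D217838) F490080 F490077
def n218259 : Q := act 5 n188867
theorem D218259 : act 5 n188867 = n218259 := rfl
theorem F493000 : act 2 n218259 = n217840 := d2_1 D218259 F490866 (iv2 F388548)
theorem F493001 : act 3 n218259 = n217808 := d6_1 D218259 F492997 (iv3 D218258)
theorem F493002 : act 4 n218259 = n188921 := d9_1 D218259 F379914 (iv4 F365232) F314178 F75098 D76493 D159828 (iv5 F471868) (iv4 D213740) (iv5 F365241) F365237 (iv5 D103231) (iv4 F139641) D92868 D188867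
theorem F493003 : act 7 n218259 = n217699 := d13_2 (iv7 F375076) D218259 (iv5 D217699)
theorem F493004 : act 0 n218259 = n217568 := d17_2 (iv1 F475783) D218259 (iv5 D217568) (iv4 D187569) (iv5 D90343) (iv0 F176031) (iv5 F251990) F374515 (iv4 F475781)
theorem F493005 : act 1 n218259 = n217834 := d17_6 (iv1 F251908) (iv5 D159825) (iv1 F177344) D92868 D188867 D218259 (iv5 D217834) (iv0 F375104) (iv4 D188874)
def n218260 : Q := act 6 n188867
theorem D218260 : act 6 n188867 = n218260 := rfl
theorem F493006 : act 3 n218260 = n191838 := d7_1 D218260 F492998 (iv3 D218258)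
theorem F493007 : act 4 n218260 = n188868 := d10_1 D218260 (iv6 D188868) D188867
theorem F493008 : act 7 n218260 = n206377 := d14_2 (iv7 F375076) D218260 (iv6 D206377) F206682 (iv6 F371460)
theorem F493009 : act 0 n201700 = n218260 := d21_4 F179085 D201135 F419216 D201700 (iv6 D218260) D218259 F493004 (iv5 D217568) F370836 (iv1 F179087)
def n218261 : Q := act 3 n188871
theorem D218261 : act 3 n188871 = n218261 := rfl
theorem F493010 : act 2 n218261 = n196588 := d0_1 D218261 (iv3 D196588) (iv2 F331319) F360295 F375096
theorem F493011 : act 4 n218261 = n209864 := d5_2 F490818 D218261 F455188 F428249 (iv3 F490819)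
theorem F493012 : act 5 n218261 = n190828 := d6_2 (iv5 F375095) D218261 F381264
theorem F493013 : act 7 n218261 = n194617 := d8_2 (iv7 F375094) D218261 (iv3 D194617)
theorem F493014 : act 0 n218261 = n194232 := d20_4 D188013 D217829 F490818 D218261 F392433 F189492 (iv1 F178716) (iv4 F186079) F372095 (iv1 D188012)
theorem F493015 : act 0 n194229 = n218261 := d20_4 D194324 F392831 F358512 (iv3 F392424) (iv3 D218261) (iv4 F490818) (iv1 F490822) (iv4 D194338) (iv3 F386677) F386680
def n218262 : Q := act 6 n188871
theorem D218262 : act 6 n188871 = n218262 := rfl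
theorem F493016 : act 2 n218262 = n194616 := d3_1 D218262 (iv6 D194616) F375096
theorem F493017 : act 4 n218262 = n198053 := d10_1 D218262 (iv6 F490820) F490818
theorem F493018 : act 5 n218262 = n190830 := d12_1 D218262 (iv6 D190830) (iv5 D96975) D96976 (iv5 F375095)
theorem F493019 : act 0 n218262 = n211706 := d21_4 (iv5 D190494) F367233 (iv5 F375095) D218262 (iv6 D211706) (iv5 F416493) F416494 (iv5 F393837) (iv6 D194615) (iv1 F379907)
theorem F493020 : act 0 n212160 = n218262 := d21_4 (iv5 F415192) F415194 F365218 D212160 (iv6 D218262) F375095 F367119 D188387 (iv6 F373252) F362761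
def n218263 : Q := act 5 n188876
theorem D218263 : act 5 n188876 = n218263 := rfl
theorem F493021 : act 2 n218263 = n217836 := d2_1 D218263 (iv5 D217836) (iv2 F375110)
theorem F493022 : act 3 n218263 = n212402 := d6_1 D218263 (iv5 D212402) F375118
theorem F493023 : act 4 n218263 = n218165 := d9_1 D218263 F492472 (iv4 D194340) (iv5 F376037) F376038 (iv5 D188875) D188874 (iv5 F471772) (iv4 D213717) (iv5 D154744) (iv4 F365601) F365602 F149911 F161636 D188876
theorem F493024 : act 6 n218263 = n212399 := d12_2 (iv6 F375117) D218263 (iv5 D212399) (iv6 D146882) D146881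
theorem F493025 : act 7 n218263 = n217837 := d13_2 (iv7 F375111) D218263 (iv5 D217837)
theorem F493026 : act 1 n218263 = n214418 := d17_6 (iv1 F251922) (iv5 F251955) F251956 F161636 D188876 D218263 F475094 F441476 F388546

end Cfsg.Agent.Helper17.ONTC
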