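import Cfsg.Agent.Helper17.ONTC.Facts57

set_option autoImplicit false
set_option linter.all false

noncomputable section

namespace Cfsg.Agent.Helper17.ONTC

def n218264 : Q := act 3 n188881
theorem D218264 : act 3 n188881 = n218264 := rfl
theorem F493027 : act 2 n218264 = n212585 := d0_1 D218264 F466550 F231725 (iv3 F243416) F375129
theorem F493028 : act 5 n218264 = n212584 := d6_2 (iv5 F375128) D218264 F466545
theorem F493029 : act 7 n218264 = n213719 := d8_2 F492471 D218264 F492473
theorem F493030 : act 1 n213721 = n218264 := d15_1 D213721 F493029 F471778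
theorem F493031 : act 1 n218264 = n213720 := d15_1 F493030 (iv7 F471784) F471789
def n218265 : Q := act 6 n188881
theorem D218265 : act 6 n188881 = n218265 := rfl
theorem F493032 : act 2 n218265 = n199540 := d3_1 D218265 (iv6 F412587) F375129
theorem F493033 : act 4 n218265 = n206931 := d10_1 D218265 (iv6 F490860) F490859
theorem F493034 : act 7 n218265 = n211912 := d14_2 F492471 D218265 (iv6 D211912) (iv7 F401027) F492475
theorem F493035 : act 5 n197897 = n218265 := d21_2 (iv5 F492496) F406130 (iv6 D218265) (iv1 D188881) D188882 (iv5 F375140) F164902 D107004 (iv6 F400743) F492495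
theorem F493036 : act 0 n218265 = n197802 := d17_2 F406130 F493035 (iv5 D197802) (iv4 D108674) D108675 F405825 F405829 F345340 D197856
theorem F493037 : act 1 n218265 = n197796 := d17_6 (iv1 F400767) (iv5 F411076) (iv1 F411078) F406850 D197897 F493035 (iv5 D197796) (iv0 F173422) (iv4 F400766)
def n218266 : Q := act 5 n188887
theorem D218266 : act 5 n188887 = n218266 := rfl
theorem F493038 : act 1 n218266 = n196616 := d17_8 F459807 (iv5 D204678) D204675 F433224 (iv4 F470396) (iv5 F492611) F492614 D218266 (iv4 F459805)
theorem F493039 : act 4 n218266 = n202433 := d18_5 (iv1 D188884) F143261 D92884 D188887 D218266 (iv0 D202433) F180062 D145352 (iv5 F424808)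
theorem F493040 : act 6 n218266 = n198227 := d21_9 F455676 (iv1 F407236) D198225 (iv6 F407274) (iv1 D192388) (iv6 F375416) (iv5 D189016) (iv1 F412224) D218266 (iv1 F455677)
def n218267 : Q := act 3 n188889
theorem D218267 : act 3 n188889 = n218267 := rfl
theorem F493041 : act 2 n218267 = n213706 := d0_1 D218267 F471715 (iv2 F466504) (iv3 F475333) F475332
theorem F493042 : act 6 n218267 = n201406 := d7_2 (iv6 F375135) D218267 (iv3 D201406)
def n218268 : Q := act 5 n188889
theorem D218268 : act 5 n188889 = n218268 := rfl
theorem F493043 : act 4 n218268 = n202434 := d16_2 D188889 D218268 F481894 F481892 (iv5 F421150) (iv4 D201614) (iv5 F364518) (iv7 F364519) F251197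
theorem F493044 : act 0 n218268 = n196616 := d18_0 (iv4 F459805) F459807 F464411 F464407 (iv4 D189019) (iv0 D93021) (iv4 F143466) (iv0 F413222) D218268
def n218269 : Q := act 5 n188897
theorem D218269 : act 5 n188897 = n218269 := rfl
theorem F493045 : act 3 n218269 = n197944 := d6_1 D218269 (iv5 F449443) F449448
theorem F493046 : act 6 n218269 = n192942 := d12_2 D188897 D218269 (iv5 D192942) (iv6 D100981) F292911
theorem F493047 : act 4 n218269 = n215253 := d16_2 (iv4 F375164) D218269 (iv5 D215253) (iv4 D170866) D170867 (iv4 F372149) F372150 F178133 (iv2 F374347)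
def n218270 : Q := act 1 n188898
theorem D218270 : act 1 n188898 = n218270 := rfl
theorem F493048 : act 1 n218270 = n215879 := d15_1 D218270 (iv7 F481904) F386827
theorem F493049 : act 7 n218270 = n192368 := d15_2 (iv0 F394592) D218270 F394587
theorem F493050 : act 5 n218270 = n204060 := d17_7 (iv1 F378052) F378053 (iv1 F150260) (iv5 F148367) F359243 F375166 D218270 F430940 F380561
theorem F493051 : act 4 n218270 = n192370 := d17_9 (iv1 F386593) (iv5 F369081) (iv1 F385104) (iv5 F457874) F457873 (iv5 D178117) D178115 F375166 D218270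
theorem F493052 : act 2 n204061 = n218270 := d1_3 F493051 F386592 (iv4 F430943)
theorem F493053 : act 3 n197563 = n218270 := d20_5 (iv4 F171750) (iv1 D63369) (iv4 F79277) (iv3 F167691) D197563 F493051 (iv1 F386593) (iv4 F386656) F386655 (iv1 F167684)
def n218271 : Q := act 7 n188898
theorem D218271 : act 7 n188898 = n218271 := rfl
theorem F493054 : act 2 n218271 = n215879 := d4_1 D218271 (iv7 F481904) F386827
theorem F493055 : act 3 n218271 = n197572 := d8_1 D218271 (iv7 F492895) F492893
theorem F493056 : act 4 n218271 = n189049 := d11_1 D218271 (iv7 D189049) (iv4 F375165)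
theorem F493057 : act 5 n218271 = n189881 := d13_1 D218271 F378074 F375166
theorem F493058 : act 6 n218271 = n197571 := d14_1 D218271 F404874 F364765 (iv7 F293433) D188898
theorem F493059 : act 1 n204061 = n218271 := d15_1 (iv0 F430945) (iv7 D218271) (iv2 F386827)
theorem F493060 : act 1 n218271 = n192368 := d15_1 F493059 (iv7 F493049) (iv2 F493052)
def n218272 : Q := act 6 n188900
theorem D218272 : act 6 n188900 = n218272 := rfl
theorem F493061 : act 2 n218272 = n207963 := d3_1 D218272 F447173 F414735
theorem F493062 : act 4 n218272 = n207956 := d10_1 D218272 F447146 (iv4 F412801)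
theorem F493063 : act 5 n218272 = n195886 := d12_1 D218272 (iv6 D195886) D195885 F412035 F412800
def n218273 : Q := act 0 n188905
theorem D218273 : act 0 n188905 = n218273 := rfl
theorem F493064 : act 5 n218273 = n201157 := d17_1 D218273 F446562 F413213 F371419 D209238 F452836 (iv5 F336382) D208306 (iv4 F448837)
theorem F493065 : act 3 n218273 = n201023 := d20_5 F426320 (iv1 F202952) D200735 (iv3 F417709) D218273 F418776 (iv1 F435345) F417743 (iv3 F409943) (iv1 F426323)
theorem F493066 : act 6 n218273 = n201021 := d21_5 F177212 D189644 (iv5 F488471) (iv6 F488476) D218273 (iv5 F418768) (iv1 D176507) (iv5 F326537) (iv6 F160076) (iv1 F177214)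
theorem F493067 : act 2 n212281 = n218273 := d15_3 (iv0 D218273) (iv0 F439415) (iv7 F465123)
theorem F493068 : act 1 n188909 = n218273 := d15_0 (iv0 D218273) (iv7 F490181) F490178
theorem F493069 : act 7 n218273 = n218224 := d15_2 (iv0 F439416) F493068 F492811
def n218274 : Q := act 0 n188915
theorem D218274 : act 0 n188915 = n218274 := rfl
theorem F493070 : act 4 n218274 = n207191 := d18_3 (iv1 D188918) (iv4 F375191) D218274 (iv5 D207191) F413981 (iv0 F413982) F210025 D131131 F383191
theorem F493071 : act 6 n218274 = n201620 := d21_5 F475042 F442600 (iv5 F375121) D188915 D218274 (iv5 F445434) F445435 F360965 F360962 D214409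
def n218275 : Q := act 1 n188915
theorem D218275 : act 1 n188915 = n218275 := rfl
theorem F493072 : act 4 n218275 = n201322 := d17_9 (iv1 F441469) F441470 F415881 F415879 (iv4 F421755) (iv5 F421756) D206580 (iv5 F441420) D218275
theorem F493073 : act 5 n218275 = n207642 := d18_9 F445814 (iv4 F442486) F437122 F219384 D209327 F453246 (iv0 D188917) (iv4 F375191) D218275
theorem F493074 : act 3 n207016 = n218275 := d6_3 F493073 (iv3 D207642) (iv5 F442975)
theorem F493075 : act 6 n201321 = n218275 := d21_5 (iv5 D76293) (iv1 F114201) F114200 D159344 F420012 F493073 F445814 F442485 (iv6 D159351) (iv1 F114340)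
def n218276 : Q := act 6 n188921
theorem D218276 : act 6 n188921 = n218276 := rfl
def n218277 : Q := act 1 n188922
theorem D218277 : act 1 n188922 = n218277 := rfl
theorem F493076 : act 7 n218277 = n216568 := d15_2 (iv0 F464446) D218277 F484983
theorem F493077 : act 5 n218277 = n216569 := d17_7 (iv1 F474186) F474188 (iv1 F488453) F488455 (iv4 F490930) F490931 D218277 F484991 F411067
theorem F493078 : act 3 n215278 = n218277 := d19_19 (iv1 D218277) (iv5 F490931) F490930 F468239 F468240 (iv5 F443784) F448370 F448374 (iv1 D200285) F175880 (iv4 F239766) (iv3 F469126) (iv1 F469130) (iv5 D193274) F368247 (iv3 D138527) (iv1 F312807) D178901 (iv4 F479183)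
def n218278 : Q := act 6 n188930
theorem D218278 : act 6 n188930 = n218278 := rfl
theorem F493079 : act 4 n218278 = n188932 := d10_1 D218278 (iv6 D188932) D188930
theorem F493080 : act 5 n218278 = n217733 := d12_1 D218278 (iv6 D217733) (iv5 D187847) D187848 (iv5 F394205)
def n218279 : Q := act 4 n188931
theorem D218279 : act 4 n188931 = n218279 := rfl
theorem F493081 : act 3 n218279 = n217188 := d5_1 D218279 (iv4 D217188) (iv3 F487849) F487852 (iv3 F376567)
theorem F493082 : act 1 n218279 = n189330 := d18_6 F394208 F374509 (iv1 F394203) (iv4 D188930) D188931 D218279 (iv4 F399000) (iv0 F402760) F402758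
def n218280 : Q := act 5 n188934
theorem D218280 : act 5 n188934 = n218280 := rfl
theorem F493083 : act 2 n218280 = n208680 := d2_1 D218280 (iv5 D208680) F376563
theorem F493084 : act 3 n218280 = n188936 := d6_1 D218280 (iv5 D188936) D188934
theorem F493085 : act 6 n218280 = n189414 := d12_2 (iv6 F376561) D218280 (iv5 F376557) (iv6 D140783) D140782
theorem F493086 : act 7 n218280 = n211543 := d13_2 F492457 D218280 (iv5 F492453)
theorem F493087 : act 4 n218280 = n207177 := d16_2 F376564 D218280 F443658 (iv4 D132135) F96581 (iv4 F98585) D134765 F216834 (iv2 F217107)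
theorem F493088 : act 1 n218280 = n218077 := d17_6 D134996 F349690 (iv1 F216825) D134906 F376564 D218280 F492051 (iv0 D208739) (iv4 D134998)
theorem F493089 : act 0 n218280 = n196164 := d18_0 F399671 F399750 F399607 (iv5 F451009) (iv4 D208824) (iv0 F445602) F445543 F412727 D218280
def n218281 : Q := act 3 n188935
theorem D218281 : act 3 n188935 = n218281 := rfl
theorem F493090 : act 2 n218281 = n208587 := d0_1 D218281 F450018 (iv2 F457258) F457259 F413498
theorem F493091 : act 4 n218281 = n208584 := d5_2 D188935 D218281 F450004 F376564 (iv3 D188934)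
theorem F493092 : act 7 n218281 = n208701 := d8_2 F413500 D218281 F450491
theorem F493093 : act 0 n218281 = n208709 := d20_4 F490949 (iv1 F374320) D188935 D218281 (iv3 F450522) (iv4 D191808) F354655 D135420 (iv3 F413489) (iv1 F490951)
theorem F493094 : act 1 n218281 = n208708 := d15_1 (iv0 F493093) (iv7 F492537) F492535
def n218282 : Q := act 4 n188936
theorem D218282 : act 4 n188936 = n218282 := rfl
theorem F493095 : act 6 n218282 = n189415 := d10_2 F375215 D218282 (iv4 D189415)
theorem F493096 : act 0 n218282 = n189330 := d17_0 (iv5 F395359) (iv1 F490985) F490982 (iv4 D189382) D189383 (iv0 F376490) F250865 (iv0 F376562) D218282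
def n218283 : Q := act 4 n188939
theorem D218283 : act 4 n188939 = n218283 := rfl
theorem F493097 : act 2 n218283 = n189382 := d1_1 D218283 (iv4 D189382) (iv2 F376950)
theorem F493098 : act 3 n218283 = n189329 := d5_1 D218283 F382732 F382729 (iv4 F379716) F379715
theorem F493099 : act 5 n218283 = n189328 := d9_2 F375219 D218283 (iv4 F376917) F376918 (iv4 F470673) F470674 F431542 (iv5 F375217) (iv4 F490975) (iv5 D217861) (iv4 D188070) (iv5 D90766) (iv4 F139690) D188057 F376996
theorem F493100 : act 7 n218283 = n189378 := d11_2 (iv7 F376951) D218283 (iv4 D189378)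
theorem F493101 : act 0 n218283 = n189267 := d18_2 (iv1 F375218) D218283 F376268 (iv5 F374510) F374509 (iv0 F413456) (iv4 D188935) F374320 F374317
theorem F493102 : act 0 n189537 = n218283 := d20_1 (iv4 F376827) (iv4 D218283) (iv3 F379715) F379718 (iv3 F416414) (iv4 D200434) D200433 (iv4 F486565) F486569 (iv1 F376275)
def n218284 : Q := act 7 n188940
theorem D218284 : act 7 n188940 = n218284 := rfl
theorem F493103 : act 2 n218284 = n189375 := d4_1 D218284 (iv7 D189375) (iv2 F375220)
theorem F493104 : act 4 n218284 = n188941 := d11_1 D218284 (iv7 D188941) D188940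
theorem F493105 : act 6 n218284 = n189398 := d14_1 D218284 (iv7 D189398) (iv6 D93944) (iv7 F144595) (iv6 F375221)
theorem F493106 : act 1 n189315 = n218284 := d15_1 (iv0 F376922) (iv7 D218284) F375220
theorem F493107 : act 1 n218284 = n189372 := d15_1 F493106 F376929 F376858
def n218285 : Q := act 6 n188954
theorem D218285 : act 6 n188954 = n218285 := rfl
theorem F493108 : act 3 n218285 = n213375 := d7_1 D218285 (iv6 D213375) F375249
theorem F493109 : act 4 n218285 = n193329 := d10_1 D218285 (iv6 D193329) (iv4 F375248)
theorem F493110 : act 5 n218285 = n215422 := d12_1 D218285 (iv6 F479917) (iv5 F488678) F490328 F490324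
theorem F493111 : act 0 n218285 = n192382 := d21_4 D213787 F490327 F490324 D218285 (iv6 F405102) F405101 F484982 F484979 F449990 (iv1 F386843)
def n218286 : Q := act 5 n188957
theorem D218286 : act 5 n188957 = n218286 := rfl
theorem F493112 : act 2 n218286 = n196847 := d2_1 D218286 (iv5 F492547) (iv2 F492551)
theorem F493113 : act 3 n218286 = n193139 := d6_1 D218286 (iv5 F466491) (iv3 F466496)
theorem F493114 : act 4 n218286 = n196487 := d9_1 D218286 (iv5 F479063) F479061 F407245 F390851 (iv5 D192468) (iv4 F424174) (iv5 F461230) F461229 (iv5 F400817) F302230 (iv5 F455475) F455474 (iv5 D192464) (iv4 F455478)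
theorem F493115 : act 7 n218286 = n193188 := d13_2 F471589 D218286 (iv5 F471588)
theorem F493116 : act 0 n218286 = n196792 := d17_2 D188957 D218286 (iv5 F405133) F405132 (iv5 D137179) (iv0 D64482) D64484 F346637 (iv4 F294172)
theorem F493117 : act 1 n218286 = n210430 := d17_6 F391472 D211165 F460415 (iv5 D192464) (iv4 F455478) D218286 F457489 (iv0 F400193) F391473
theorem F493118 : act 6 n218286 = n215543 := d21_3 F242849 D188957 D218286 (iv1 F480419) (iv6 F419968) (iv5 F433228) (iv1 D204676) D204678 F471569 (iv1 D213672)
def n218287 : Q := act 6 n188961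
theorem D218287 : act 6 n188961 = n218287 := rfl
theorem F493119 : act 3 n218287 = n216018 := d7_1 D218287 F482562 F449323
theorem F493120 : act 4 n218287 = n215912 := d10_1 D218287 F482057 F471643
theorem F493121 : act 5 n215892 = n218287 := d16_1 D215892 F493120 F482054 F440151 (iv5 F440152) F358892 (iv5 F358911) D211034 F459820
def n218288 : Q := act 0 n188962
theorem D218288 : act 0 n188962 = n218288 := rfl
def n218289 : Q := act 4 n188962
theorem D218289 : act 4 n188962 = n218289 := rfl
theorem F493122 : act 2 n218289 = n215225 := d1_1 D218289 (iv4 F492562) F492559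
theorem F493123 : act 3 n218289 = n198509 := d5_1 D218289 F408174 F381444 (iv4 F379339) F379338
theorem F493124 : act 6 n218289 = n215484 := d10_2 (iv6 F379336) D218289 F480185
theorem F493125 : act 7 n218289 = n213836 := d11_2 F492913 D218289 (iv4 F492911)
theorem F493126 : act 5 n218289 = n213837 := d16_3 (iv4 F143298) D188962 D218289 F472313 (iv5 F489379) F489378 (iv5 F371574) F371575 F142681
theorem F493127 : act 1 n214275 = n218289 := d17_6 (iv1 F248772) (iv5 F469081) F469083 (iv5 D157891) (iv4 F248799) D214275 F493126 F472316 F268327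
def n218290 : Q := act 6 n188964
theorem D218290 : act 6 n188964 = n218290 := rfl
theorem F493128 : act 2 n218290 = n201630 := d3_1 D218290 F492920 (iv2 F492916)
theorem F493129 : act 3 n218290 = n188967 := d7_1 D218290 (iv6 D188967) D188964
theorem F493130 : act 4 n218290 = n201626 := d10_1 D218290 (iv6 F492569) F492571
theorem F493131 : act 5 n218290 = n209745 := d12_1 D218290 (iv6 D209745) D209744 (iv6 F483904) (iv5 F483903)
theorem F493132 : act 7 n218290 = n209113 := d14_2 F492570 D218290 F452318 (iv7 F421179) (iv6 F492569)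
theorem F493133 : act 0 n218290 = n201096 := d21_10 (iv5 D201096) (iv1 F395947) F421209 (iv6 F421748) (iv1 F468243) F468246 F465251 (iv1 F483902) (iv5 F483903) D218290
theorem F493134 : act 0 n209114 = n218290 := d21_4 (iv5 F392282) F444805 F444802 F452323 (iv6 D218290) F483903 F483901 (iv5 F465255) F492932 (iv1 D218244)
def n218291 : Q := act 5 n188968
theorem D218291 : act 5 n188968 = n218291 := rfl
theorem F493135 : act 2 n218291 = n215229 := d2_1 D218291 (iv5 F492577) F492574
theorem F493136 : act 4 n218291 = n215226 := d9_1 D218291 (iv5 D215226) F268327 D170872 (iv4 F375260) (iv5 D188966) D188965 F480127 F480125 (iv5 F353298) F248763 D157857 (iv4 F375270) (iv5 D188969) D188968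
theorem F493137 : act 0 n218291 = n217159 := d18_0 F487708 F368453 (iv4 F479982) (iv5 F479983) F449318 (iv0 D188977) (iv4 F375309) (iv0 F375310) D218291
def n218292 : Q := act 4 n188970
theorem D218292 : act 4 n188970 = n218292 := rfl
theorem F493138 : act 2 n218292 = n192532 := d1_1 D218292 (iv4 D192532) (iv2 F375273)
theorem F493139 : act 3 n218292 = n217233 := d5_1 D218292 F488048 (iv3 F373180) (iv4 F374221) (iv3 F375274)
theorem F493140 : act 6 n218292 = n210481 := d10_2 F427228 D218292 F457719
theorem F493141 : act 7 n218292 = n192530 := d11_2 (iv7 F375275) D218292 (iv4 D192530)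
theorem F493142 : act 5 n218292 = n217232 := d16_1 D218292 (iv4 F488044) F467519 (iv4 D193000) (iv5 D101084) F143350 D188971 F375280 (iv2 F375273)
theorem F493143 : act 0 n218292 = n217543 := d18_2 F375277 D218292 (iv4 D217543) (iv5 F371871) (iv4 F487520) (iv0 F492306) (iv4 D218136) (iv0 D188586) (iv5 F143381)
theorem F493144 : act 1 n218292 = n217544 := d18_6 (iv1 F138920) (iv4 F177400) F177397 (iv4 F143347) D188970 D218292 (iv4 D217544) F370705 (iv5 D90616)
def n218293 : Q := act 4 n188971
theorem D218293 : act 4 n188971 = n218293 := rfl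
theorem F493145 : act 2 n218293 = n192530 := d1_1 D218293 (iv4 D192530) (iv2 F375278)
theorem F493146 : act 3 n218293 = n206215 := d5_1 D218293 (iv4 D206215) (iv3 F205581) (iv4 F238409) (iv3 F375279)
theorem F493147 : act 7 n218293 = n192532 := d11_2 (iv7 F375280) D218293 (iv4 D192532)
theorem F493148 : act 0 n218293 = n217544 := d18_2 (iv1 F375282) D218293 (iv4 D217544) F370706 (iv4 F376331) (iv0 F376332) F374098 F374096 (iv5 F372324)
theorem F493149 : act 1 n218293 = n217543 := d18_6 F177369 (iv4 F143061) F177370 F143350 D188971 D218293 (iv4 D217543) (iv0 D187532) (iv5 D90309)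
theorem F493150 : act 6 n208738 = n218293 := d14_5 F493147 (iv6 F427218) F457716 (iv6 F457714) (iv7 F450649)
def n218294 : Q := act 6 n188971
theorem D218294 : act 6 n188971 = n218294 := rfl
theorem F493151 : act 2 n218294 = n192531 := d3_1 D218294 (iv6 D192531) (iv2 F375278)
theorem F493152 : act 3 n218294 = n212946 := d7_1 D218294 (iv6 D212946) (iv3 F375279)
theorem F493153 : act 4 n218294 = n208738 := d10_1 D218294 F493150 (iv4 D218293)
theorem F493154 : act 5 n218294 = n191711 := d12_1 D218294 (iv6 D191711) F349266 (iv6 F349267) D188971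
theorem F493155 : act 0 n218294 = n189003 := d21_4 (iv5 D100347) (iv1 F143356) D188971 D218294 (iv6 F444690) F444685 F238532 (iv5 F238585) F375294 (iv1 F375291)
theorem F493156 : act 0 n207331 = n218294 := d21_4 (iv5 F356643) (iv1 F465100) F465102 (iv6 F444386) (iv6 D218294) (iv5 D188971) (iv1 D92949) D92951 (iv6 F374808) (iv1 D188691)
theorem F493157 : act 7 n218294 = n212956 := d15_2 F475542 (iv0 F493155) (iv2 F475536)
def n218295 : Q := act 2 n188975
theorem D218295 : act 2 n188975 = n218295 := rfl
theorem F493158 : act 3 n218295 = n213277 := d0_2 D188975 D218295 F469679 (iv3 D188896) (iv2 F143360)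
theorem F493159 : act 4 n218295 = n216903 := d1_2 F384593 D218295 F486482
theorem F493160 : act 5 n218295 = n192480 := d2_2 (iv5 F375305) D218295 (iv2 D192480)
theorem F493161 : act 6 n218295 = n216902 := d3_2 (iv6 F384591) D218295 F486479
theorem F493162 : act 7 n218295 = n192546 := d4_2 (iv7 F375306) D218295 (iv2 D192546)
theorem F493163 : act 1 n218295 = n192544 := d15_0 (iv0 D192544) (iv7 F375306) D218295
theorem F493164 : act 1 n192545 = n218295 := d15_0 F493163 (iv7 F490762) F490759
def n218296 : Q := act 5 n188976
theorem D218296 : act 5 n188976 = n218296 := rfl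
theorem F493165 : act 2 n218296 = n218269 := d2_1 D218296 (iv5 D218269) (iv2 F375308)
theorem F493166 : act 6 n218296 = n192484 := d12_2 D188976 D218296 (iv5 D192484) (iv6 D100204) (iv5 F292328)
theorem F493167 : act 4 n218296 = n215133 := d16_2 (iv4 F375309) D218296 (iv5 D215133) F262393 (iv5 F469081) F469079 (iv5 F419837) F419838 F374347
def n218297 : Q := act 5 n188977
theorem D218297 : act 5 n188977 = n218297 := rfl
theorem F493168 : act 2 n218297 = n217858 := d2_1 D218297 F490957 F471637
theorem F493169 : act 6 n218297 = n211360 := d12_2 (iv6 F447171) D218297 F461277 F444055 (iv5 F447170)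
theorem F493170 : act 7 n218297 = n217842 := d13_2 F471644 D218297 F490877
theorem F493171 : act 4 n218297 = n211361 := d16_4 (iv4 F479982) (iv5 F479983) F449318 D218297 (iv5 F461282) F478526 (iv5 F487712) F487711 F479463
theorem F493172 : act 1 n218297 = n217565 := d17_8 (iv1 F474287) (iv5 D170872) (iv1 F248772) (iv5 F469081) F469079 (iv5 F419837) F419840 D218297 F489525
theorem F493173 : act 0 n218297 = n216949 := d18_0 F486674 (iv1 D214262) (iv4 F375270) (iv5 D188969) D188968 (iv0 F492890) F492888 F419840 D218297
def n218298 : Q := act 5 n188978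
theorem D218298 : act 5 n188978 = n218298 := rfl
theorem F493174 : act 2 n218298 = n217842 := d2_1 D218298 F490877 F471641
theorem F493175 : act 3 n218298 = n206230 := d6_1 D218298 (iv5 D206230) F428038
theorem F493176 : act 6 n218298 = n192785 := d12_2 F475238 D218298 F387757 (iv6 F358941) D214452
theorem F493177 : act 7 n218298 = n217858 := d13_2 F471640 D218298 F490957
theorem F493178 : act 1 n218298 = n216949 := d17_8 (iv1 D214262) (iv5 D157857) D157854 (iv5 F372140) F372139 (iv5 F143364) D188978 D218298 F486674
theorem F493179 : act 0 n218298 = n217565 := d18_0 F489525 (iv1 F474287) (iv4 F375260) (iv5 D188966) D188965 (iv0 F419943) F375309 D188978 D218298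
def n218299 : Q := act 6 n188980
theorem D218299 : act 6 n188980 = n218299 := rfl
theorem F493180 : act 2 n218299 = n214464 := d3_1 D218299 F475287 (iv2 F375313)
theorem F493181 : act 3 n218299 = n188981 := d7_1 D218299 (iv6 D188981) D188980
theorem F493182 : act 4 n218299 = n209506 := d10_1 D218299 F483949 F483947
theorem F493183 : act 5 n218299 = n206127 := d12_1 D218299 (iv6 D206127) D206126 (iv6 F439363) F376783
theorem F493184 : act 7 n218299 = n200935 := d14_2 F439695 D218299 F418432 (iv7 F205405) D206202
theorem F493185 : act 0 n218299 = n195753 := d21_4 (iv5 F489330) F489332 F376783 D218299 F398049 (iv5 F163401) (iv1 D76512) D76513 (iv6 F251979) F386992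
def n218300 : Q := act 0 n188987
theorem D218300 : act 0 n188987 = n218300 := rfl
theorem F493186 : act 3 n218300 = n206270 := d20_5 (iv4 D43496) D43494 D92972 D188987 D218300 (iv4 F490485) (iv1 D217757) (iv4 F375054) (iv3 D188849) F143220
theorem F493187 : act 5 n218300 = n192479 := d21_2 (iv5 F375338) D218300 (iv6 F460070) (iv1 F460072) (iv6 D208631) (iv5 F405247) (iv1 D197657) (iv5 D108558) D108559 F364385
theorem F493188 : act 2 n218250 = n218300 := d15_3 (iv0 D218300) (iv0 F406028) (iv7 F492962)
theorem F493189 : act 1 n218251 = n218300 := d15_0 (iv0 D218300) F375339 D218251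
theorem F493190 : act 7 n218300 = n218249 := d15_2 F492969 F493189 (iv2 F492958)
def n218301 : Q := act 6 n188989
theorem D218301 : act 6 n188989 = n218301 := rfl
theorem F493191 : act 2 n218301 = n217832 := d3_1 D218301 F490836 F439696
theorem F493192 : act 3 n218301 = n213088 := d7_1 D218301 (iv6 D213088) (iv3 F419457)
theorem F493193 : act 5 n218301 = n217559 := d12_1 D218301 (iv6 F489495) (iv5 D201206) D201207 F419456
theorem F493194 : act 7 n218301 = n217831 := d14_2 (iv7 F413229) D218301 F490832 F412227 D199715
theorem F493195 : act 0 n218301 = n189007 := d21_4 (iv5 D201221) (iv1 F419493) F419456 D218301 (iv6 D189007) (iv5 F374370) (iv1 F416162) (iv5 F419918) (iv6 D201300) F419503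
theorem F493196 : act 1 n218301 = n218009 := d15_1 (iv0 F493195) F491670 F489682
def n218302 : Q := act 5 n188992
theorem D218302 : act 5 n188992 = n218302 := rfl
theorem F493197 : act 2 n218302 = n217885 := d2_1 D218302 (iv5 D217885) (iv2 F375347)
theorem F493198 : act 3 n218302 = n213244 := d6_1 D218302 F469543 F406686
theorem F493199 : act 7 n218302 = n217887 := d13_2 (iv7 F375348) D218302 (iv5 D217887)
theorem F493200 : act 4 n218302 = n210882 := d16_2 D188992 D218302 F459135 F245103 F362388 (iv4 D100692) D100693 F362401 (iv2 F143388)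
theorem F493201 : act 6 n216681 = n218302 := d10_0 F493200 (iv6 F459136) (iv4 F485457)
def n218303 : Q := act 1 n188995
theorem D218303 : act 1 n188995 = n218303 := rfl
theorem F493202 : act 1 n218303 = n218235 := d15_1 D218303 F492880 (iv2 F375357)
theorem F493203 : act 7 n218303 = n217713 := d15_2 (iv0 F387015) D218303 F490263
theorem F493204 : act 4 n218303 = n216843 := d17_9 F486174 F374266 F365773 (iv5 F421157) F421156 (iv5 D196539) D196538 F401007 D218303
theorem F493205 : act 3 n218168 = n218303 := d19_19 (iv1 D218303) (iv5 F401007) F401005 D215437 F479994 F438175 F419367 F342998 (iv1 D76457) D76460 (iv4 F161656) F380673 (iv1 D190702) (iv5 F369426) (iv4 F369427) F420993 F468266 F468263 (iv4 F492489)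
theorem F493206 : act 2 n218303 = n218236 := d0_1 F493205 F492881 (iv2 F410699) F410700 (iv2 F492488)
theorem F493207 : act 6 n218303 = n217764 := d7_2 (iv6 F492491) F493205 F490511
def n218304 : Q := act 0 n189001
theorem D218304 : act 0 n189001 = n218304 := rfl
theorem F493208 : act 4 n218304 = n192736 := d18_3 F373154 (iv4 F375368) D218304 (iv5 F391920) (iv4 F391919) (iv0 F385121) (iv4 D136515) F218566 (iv5 F373153)
theorem F493209 : act 3 n218304 = n208896 := d20_5 F286556 (iv1 F153791) D192222 F386068 D218304 (iv4 D208896) (iv1 F442141) (iv4 F442142) (iv3 F351244) (iv1 F286558)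
theorem F493210 : act 6 n218304 = n192734 := d21_5 (iv5 D140357) (iv1 F164688) D196278 F400169 D218304 (iv5 F439627) (iv1 F439630) (iv5 F400218) (iv6 D196287) (iv1 F350419)
theorem F493211 : act 1 n197822 = n218304 := d15_0 (iv0 D218304) (iv7 F390605) (iv2 F405897)
theorem F493212 : act 2 n198329 = n218304 := d3_3 F493210 F387614 (iv6 F407629)
theorem F493213 : act 7 n198207 = n218304 := d14_0 F493210 (iv7 F393780) (iv6 F405780) F405778 D198207
def n218305 : Q := act 1 n189001
theorem D218305 : act 1 n189001 = n218305 := rfl
theorem F493214 : act 1 n218305 = n197822 := d15_1 D218305 F405898 (iv2 F375367)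
theorem F493215 : act 7 n218305 = n198329 := d15_2 (iv0 D218304) D218305 F493212
theorem F493216 : act 3 n213454 = n218305 := d19_19 (iv1 D218305) (iv5 D189001) F143394 (iv3 F143377) D188983 F375325 (iv4 F364990) D200413 (iv1 F489204) (iv5 F489207) F399607 (iv3 D196145) (iv1 F164444) (iv5 F399029) (iv4 F467962) F467961 (iv1 F479119) F479116 (iv4 F470472)
theorem F493217 : act 6 n197779 = n218305 := d21_3 F331085 D108658 D197779 (iv1 D218305) (iv6 F400169) (iv5 D196278) (iv1 F164690) D140362 F372498 (iv1 D188151)
theorem F493218 : act 2 n218305 = n198207 := d3_1 F493217 (iv6 D198207) (iv2 F405762)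
def n218306 : Q := act 5 n189003
theorem D218306 : act 5 n189003 = n218306 := rfl
theorem F493219 : act 2 n218306 = n201474 := d2_1 D218306 (iv5 F448211) F448209
theorem F493220 : act 3 n218306 = n189005 := d6_1 D218306 (iv5 D189005) D189003
theorem F493221 : act 4 n218306 = n203929 := d9_1 D218306 (iv5 D203929) F261874 (iv5 F450126) F450125 (iv5 F450139) F450138 F444382 (iv4 F430297) F430298 (iv4 F347365) (iv5 F410152) (iv4 F410158) (iv5 F444694) F444693
theorem F493222 : act 6 n218306 = n190447 := d12_2 F444690 D218306 (iv5 F379804) (iv6 F395957) (iv5 F444685)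
theorem F493223 : act 7 n218306 = n212980 := d13_2 F450156 D218306 F468436
theorem F493224 : act 0 n218306 = n190372 := d17_2 F493155 D218306 (iv5 F475163) (iv4 F487481) F487482 (iv0 F441286) F403430 (iv0 F450650) (iv4 F493153)
theorem F493225 : act 1 n218306 = n212981 := d17_6 (iv1 D208614) (iv5 D134801) (iv1 F410157) (iv5 F444694) F444693 D218306 F468443 (iv0 F466593) (iv4 F450168)
def n218307 : Q := act 5 n189010
theorem D218307 : act 5 n189010 = n218307 := rfl
theorem F493226 : act 2 n218307 = n213420 := d2_1 D218307 F470303 (iv2 F375398)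
theorem F493227 : act 3 n218307 = n215193 := d6_1 D218307 F478824 F424354
theorem F493228 : act 6 n218307 = n216142 := d12_2 D189010 D218307 (iv5 D216142) (iv6 F340067) F340061
theorem F493229 : act 4 n218307 = n212198 := d16_2 (iv4 F375399) D218307 (iv5 D212198) F228557 D145511 F356608 F356611 F375391 F375387
def n218308 : Q := act 4 n189011
theorem D218308 : act 4 n189011 = n218308 := rfl
theorem F493230 : act 2 n218308 = n213113 := d1_1 D218308 F469067 F375403
theorem F493231 : act 3 n218308 = n209595 := d5_1 D218308 F454272 (iv3 F426256) F426257 F375405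
theorem F493232 : act 6 n218308 = n211305 := d10_2 (iv6 F375402) D218308 F461053
theorem F493233 : act 7 n218308 = n203432 := d11_2 (iv7 F375404) D218308 (iv4 D203432)
theorem F493234 : act 0 n218308 = n213111 := d18_2 D189011 D218308 F469064 F420594 F315727 F317362 D197498 F404567 F355317
theorem F493235 : act 1 n218308 = n213110 := d18_6 D114539 (iv4 F333649) F205368 (iv4 F319324) (iv5 F375401) D218308 F469058 (iv0 D201459) (iv5 D114541)
def n218309 : Q := act 1 n189016
theorem D218309 : act 1 n189016 = n218309 := rfl
theorem F493236 : act 1 n218309 = n213437 := d15_1 D218309 F492607 F492601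
theorem F493237 : act 7 n218309 = n199114 := d15_2 F419967 D218309 F410732
theorem F493238 : act 4 n218309 = n218238 := d18_7 F481897 F481892 F430102 (iv4 F433226) F433228 (iv4 F419966) D218309 (iv0 F492897) (iv5 F478233)
theorem F493239 : act 6 n212861 = n218309 := d21_3 (iv5 F237827) (iv1 F250912) (iv5 F467840) (iv1 D218309) F375416 (iv5 D100136) D100133 D192383 (iv6 F386617) F366085
theorem F493240 : act 2 n218309 = n217733 := d3_1 F493239 (iv6 D217733) F467843
theorem F493241 : act 3 n218309 = n199122 := d7_1 F493239 F410763 (iv3 F467842)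
def n218310 : Q := act 7 n189016
theorem D218310 : act 7 n189016 = n218310 := rfl
theorem F493242 : act 2 n218310 = n213437 := d4_1 D218310 F492607 F492601
theorem F493243 : act 3 n218310 = n196732 := d8_1 D218310 (iv7 F435001) (iv3 F435003)
theorem F493244 : act 4 n218310 = n215894 := d11_1 D218310 F481965 (iv4 F419966)
theorem F493245 : act 5 n218310 = n189017 := d13_1 D218310 (iv7 D189017) D189016
theorem F493246 : act 6 n218310 = n196730 := d14_1 D218310 F459306 F459304 F365350 (iv6 F375416)
theorem F493247 : act 1 n217733 = n218310 := d15_1 F492606 (iv7 D218310) (iv2 F492601)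
theorem F493248 : act 1 n218310 = n199114 := d15_1 F493247 (iv7 F493237) F493240
def n218311 : Q := act 6 n189018
theorem D218311 : act 6 n189018 = n218311 := rfl
theorem F493249 : act 2 n218311 = n203472 := d3_1 D218311 F428445 F375421
theorem F493250 : act 3 n218311 = n189021 := d7_1 D218311 (iv6 D189021) D189018
theorem F493251 : act 4 n218311 = n212444 := d10_1 D218311 F465820 F375419
theorem F493252 : act 5 n218311 = n200906 := d12_1 D218311 F418358 F230241 (iv6 F177561) (iv5 F375420)
theorem F493253 : act 7 n218311 = n200905 := d14_2 (iv7 F375418) D218311 F418356 F176900 (iv6 F177558)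
theorem F493254 : act 0 n218311 = n203471 := d21_4 (iv5 D152386) (iv1 F177564) (iv5 F375420) D218311 (iv6 F458113) (iv5 F462137) F462138 (iv5 D203467) D203468 (iv1 F428441)
theorem F493255 : act 0 n203470 = n218311 := d21_4 F489502 (iv1 F468753) (iv5 F454346) F454347 (iv6 D218311) F375420 (iv1 F177563) D152391 (iv6 F428451) F489505
def n218312 : Q := act 6 n189019
theorem D218312 : act 6 n189019 = n218312 := rfl
theorem F493256 : act 2 n218312 = n199659 := d3_1 D218312 (iv6 F413038) (iv2 F375424)
theorem F493257 : act 3 n218312 = n198786 := d7_1 D218312 (iv6 F431472) F431471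
theorem F493258 : act 4 n218312 = n189021 := d10_1 D218312 (iv6 D189021) D189019
theorem F493259 : act 5 n218312 = n199944 := d12_1 D218312 F414260 D204826 (iv6 F464406) F464407
theorem F493260 : act 7 n218312 = n199643 := d14_2 F375426 D218312 F412963 (iv7 F419632) F419631
def n218313 : Q := act 1 n189022
theorem D218313 : act 1 n189022 = n218313 := rfl
theorem F493261 : act 1 n218313 = n203377 := d15_1 D218313 (iv7 D203377) (iv2 F375443)
theorem F493262 : act 7 n218313 = n192533 := d15_2 F427229 D218313 (iv2 F427226)
theorem F493263 : act 5 n218313 = n208220 := d17_7 (iv1 F317776) F243257 (iv1 F338192) (iv5 F338195) (iv4 F338200) (iv5 F375444) D218313 (iv0 F448439) (iv4 D194284)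
theorem F493264 : act 4 n218313 = n210480 := d17_9 (iv1 F457712) F421093 (iv1 F363440) (iv5 F375829) F375828 F229877 (iv0 F338198) (iv5 F375444) D218313
theorem F493265 : act 3 n203305 = n218313 := d19_19 (iv1 D218313) F375444 F338200 (iv3 D117156) (iv1 F85179) F50185 F313945 D55092 (iv1 F190158) F52904 (iv4 F52900) (iv3 F109358) (iv1 F241968) (iv5 F450111) F450110 (iv3 F452167) (iv1 F452169) (iv5 F468096) F468095
theorem F493266 : act 6 n212956 = n218313 := d21_3 (iv5 F448240) (iv1 F448242) D212956 (iv1 D218313) F375445 (iv5 D105864) F114256 D159389 D214433 (iv1 F475164)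
theorem F493267 : act 2 n218313 = n203376 := d3_1 F493266 (iv6 F475538) F475536
def n218314 : Q := act 5 n189025
theorem D218314 : act 5 n189025 = n218314 := rfl
theorem F493268 : act 2 n218314 = n215079 := d2_1 D218314 F478226 (iv2 F375458)
theorem F493269 : act 3 n218314 = n212457 := d6_1 D218314 (iv5 D212457) (iv3 F375459)
theorem F493270 : act 4 n218314 = n204675 := d9_1 D218314 F433224 (iv4 F470396) (iv5 F492611) F492610 F375439 F466184 (iv5 F466186) (iv4 F433226) F433228 (iv4 F419966) (iv5 D189016) F143466 D93023 D189025
theorem F493271 : act 6 n218314 = n204717 := d12_2 (iv6 F375460) D218314 F433385 (iv6 D185797) (iv5 F143478)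
theorem F493272 : act 7 n218314 = n212561 := d13_2 F375462 D218314 (iv5 D212561)
theorem F493273 : act 0 n218314 = n189874 := d17_2 (iv1 F375461) D218314 (iv5 F421150) (iv4 D201614) (iv5 F364518) (iv0 D92884) D92886 D188891 F375137
theorem F493274 : act 1 n218314 = n201403 := d17_6 (iv1 F373916) F373913 (iv1 D93022) D93023 D189025 D218314 (iv5 D201403) (iv0 F358937) (iv4 F358938)
def n218315 : Q := act 4 n189040
theorem D218315 : act 4 n189040 = n218315 := rfl
theorem F493275 : act 2 n218315 = n192511 := d1_1 D218315 (iv4 F387798) (iv2 F387800)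
theorem F493276 : act 3 n218315 = n194663 := d5_1 D218315 (iv4 D194663) F375548 (iv4 D189041) D189040
theorem F493277 : act 7 n218315 = n214547 := d11_2 (iv7 F375540) D218315 F475732
theorem F493278 : act 5 n218315 = n201503 := d17_5 (iv1 D47131) D47132 D101202 (iv5 F375539) D218315 (iv0 D201503) F178745 F157719 F138871
theorem F493279 : act 0 n218315 = n192547 := d17_0 (iv5 F387028) F374202 (iv5 D188617) F143943 (iv5 F349188) F375998 (iv5 F387807) F387810 D218315
theorem F493280 : act 1 n218315 = n189624 := d18_6 F371256 D217658 F489970 (iv4 D193123) (iv5 F375539) D218315 F377155 (iv0 D100375) (iv5 F292909)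
def n218316 : Q := act 6 n189043
theorem D218316 : act 6 n189043 = n218316 := rfl
theorem F493281 : act 2 n218316 = n189047 := d3_1 D218316 (iv6 D189047) (iv2 F375559)
theorem F493282 : act 3 n218316 = n194637 := d7_1 D218316 (iv6 D194637) (iv3 F375560)
theorem F493283 : act 4 n218316 = n194642 := d10_1 D218316 (iv6 D194642) (iv4 F375562)
theorem F493284 : act 7 n218316 = n199301 := d14_2 (iv7 F375561) D218316 (iv6 D199301) (iv7 F357633) (iv6 F368589)
theorem F493285 : act 0 n218316 = n212819 := d21_4 F344241 (iv1 F357622) D189043 D218316 (iv6 D212819) (iv5 D150086) (iv1 D70620) D70621 F107090 D99433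
theorem F493286 : act 1 n218316 = n210422 := d15_1 (iv0 F493285) (iv7 F467153) (iv2 F467611)
def n218317 : Q := act 3 n189045
theorem D218317 : act 3 n189045 = n218317 := rfl
theorem F493287 : act 2 n218317 = n210708 := d0_1 D218317 (iv3 D210708) (iv2 F345082) (iv3 F343862) (iv2 F375579)
theorem F493288 : act 4 n218317 = n210708 := d5_2 F375573 D218317 (iv3 D210708) (iv4 D139566) (iv3 F335545)
theorem F493289 : act 5 n218317 = n216478 := d6_2 F375574 D218317 (iv3 D216478)
theorem F493290 : act 6 n218317 = n216733 := d7_2 F375575 D218317 F485680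
theorem F493291 : act 7 n218317 = n194654 := d8_2 (iv7 F375572) D218317 (iv3 D194654)
theorem F493292 : act 0 n218317 = n191688 := d20_4 (iv4 F293855) D103332 F375573 D218317 F384157 (iv4 F377302) F483263 F483259 F283460 F344203
theorem F493293 : act 0 n191687 = n218317 := d20_4 (iv4 F378374) F387242 (iv4 F381816) (iv3 F384154) (iv3 D218317) (iv4 F375573) F384574 F384571 (iv3 F384187) (iv1 F384193)
def n218318 : Q := act 1 n189047
theorem D218318 : act 1 n189047 = n218318 := rfl
theorem F493294 : act 1 n218318 = n199301 := d15_1 D218318 (iv7 F493284) F493281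
theorem F493295 : act 7 n218318 = n212819 := d15_2 (iv0 F467154) D218318 F467611
theorem F493296 : act 5 n209841 = n218318 := d21_0 (iv1 D218318) (iv5 F382930) (iv6 D191297) (iv1 F382888) F382885 (iv5 D135981) (iv1 F99460) (iv5 F100319) D137007 D209841
theorem F493297 : act 7 n213625 = n209841 := d13_0 F493296 F493295 (iv5 F471351)
theorem F493298 : act 3 n209841 = n213627 := d8_1 F493297 (iv7 D213627) D213625
theorem F493299 : act 2 n210422 = n218318 := d4_3 F493295 F467611 F467153
def n218319 : Q := act 3 n189051
theorem D218319 : act 3 n189051 = n218319 := rfl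
theorem F493300 : act 4 n218319 = n203554 := d5_2 (iv4 F375590) D218319 (iv3 D203554) (iv4 D119505) (iv3 F188288)
theorem F493301 : act 7 n218319 = n214037 := d8_2 (iv7 F375592) D218319 F473214
theorem F493302 : act 0 n193125 = n218319 := d20_4 F221508 (iv1 F312928) D105935 (iv3 F388826) (iv3 D218319) F375590 F306335 (iv4 F394175) F394174 (iv1 F312926)
def n218320 : Q := act 6 n189055
theorem D218320 : act 6 n189055 = n218320 := rfl
theorem F493303 : act 2 n218320 = n196626 := d3_1 D218320 (iv6 F492546) F492545
theorem F493304 : act 4 n218320 = n203540 := d10_1 D218320 (iv6 F438360) (iv4 F438363)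
theorem F493305 : act 0 n218320 = n212706 := d21_10 (iv5 D212706) F363157 D196994 F402603 (iv1 F278208) (iv6 F358743) (iv5 F375047) D218245 F492934 D218320
theorem F493306 : act 0 n192384 = n218320 := d21_4 (iv5 D206036) F401802 D198942 F410005 (iv6 D218320) (iv5 F492934) (iv1 F492935) (iv5 D212646) (iv6 F456394) F456395
theorem F493307 : act 5 n218320 = n212707 := d17_3 F402176 (iv5 F402175) F493306 (iv4 D212707) (iv5 D149022) F232806 (iv5 F236295) (iv0 F364470) F180576
def n218321 : Q := act 5 n189060
theorem D218321 : act 5 n189060 = n218321 := rfl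
theorem F493308 : act 2 n218321 = n197538 := d2_1 D218321 (iv5 D197538) (iv2 F375619)
theorem F493309 : act 3 n218321 = n206261 := d6_1 D218321 (iv5 D206261) (iv3 F375620)
theorem F493310 : act 4 n218321 = n211750 := d9_1 D218321 F462948 (iv4 D193602) D193603 F390423 (iv5 D192486) (iv4 F384864) (iv5 F429444) (iv4 F480316) F480317 (iv4 D193604) (iv5 F366997) (iv4 F373133) F373134 (iv4 F375622)
theorem F493311 : act 1 n218321 = n190868 := d17_6 (iv1 F410440) F386527 (iv1 F384773) F373134 (iv4 F375622) D218321 (iv5 F389270) (iv0 F389273) (iv4 F410437)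
def n218322 : Q := act 4 n189061
theorem D218322 : act 4 n189061 = n218322 := rfl
theorem F493312 : act 2 n218322 = n215484 := d1_1 D218322 F480185 (iv2 F379335)
theorem F493313 : act 6 n218322 = n215225 := d10_2 F492561 D218322 (iv4 F492562)
theorem F493314 : act 1 n218322 = n215335 := d18_8 (iv1 F408230) (iv4 D193524) (iv1 D101851) (iv4 F156810) D193519 F390149 (iv0 F375621) D218322 F479454
theorem F493315 : act 7 n215485 = n218322 := d4_0 F493312 (iv7 F480187) (iv2 F480190)
theorem F493316 : act 1 n193534 = n218322 := d15_1 F390410 (iv7 F493315) F480190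
def n218323 : Q := act 7 n189061
theorem D218323 : act 7 n189061 = n218323 := rfl
theorem F493317 : act 2 n218323 = n190194 := d4_1 D218323 (iv7 F379334) (iv2 F379335)
theorem F493318 : act 4 n218323 = n215485 := d11_1 D218323 F493315 (iv4 D218322)
theorem F493319 : act 5 n218323 = n189062 := d13_1 D218323 (iv7 D189062) D189061
theorem F493320 : act 1 n211322 = n218323 := d15_1 F461111 (iv7 D218323) F379335
theorem F493321 : act 1 n218323 = n211314 := d15_1 F493320 (iv7 F480054) F480048
def n218324 : Q := act 4 n189064
theorem D218324 : act 4 n189064 = n218324 := rfl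
theorem F493322 : act 2 n218324 = n192843 := d1_1 D218324 (iv4 F457134) (iv2 F457135)
theorem F493323 : act 3 n218324 = n195654 := d5_1 D218324 F397738 F389440 (iv4 D189065) D189064
theorem F493324 : act 7 n218324 = n192844 := d11_2 (iv7 F457014) D218324 (iv4 F457011)
theorem F493325 : act 1 n218324 = n190121 := d18_8 D190120 F378921 (iv1 D186583) F136280 (iv5 F156826) (iv4 F390209) (iv0 F390214) D218324 (iv5 D190121)
theorem F493326 : act 0 n218324 = n192845 := d20_1 D218324 (iv4 F484907) F484906 (iv1 F339296) D206300 F440141 (iv1 F463666) F463668 F388097 (iv1 F390215)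
theorem F493327 : act 5 n199961 = n218324 := d19_1 D199961 (iv4 D218324) (iv3 D189064) (iv1 F374463) F374459 (iv4 F143879) F295177 (iv1 F377020) (iv5 F377022) (iv4 F389176) (iv3 F459810) F459814 (iv5 D178150) (iv4 F350678) F262027 (iv1 F350676) D79925 (iv4 F323164) (iv3 F174324)
def n218325 : Q := act 5 n189064
theorem D218325 : act 5 n189064 = n218325 := rfl
theorem F493328 : act 3 n218325 = n189066 := d6_1 D218325 (iv5 D189066) D189064
theorem F493329 : act 7 n218325 = n218037 := d13_2 (iv7 F457014) D218325 F491818
theorem F493330 : act 0 n218325 = n217908 := d17_2 (iv1 F390215) D218325 F491207 F424896 F369047 (iv0 D187079) F137244 D102245 (iv4 F368775)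
theorem F493331 : act 1 n218325 = n217093 := d17_6 F414366 (iv5 D199963) D199961 F493327 (iv4 D218324) D218325 F487372 F424990 F387987
def n218326 : Q := act 5 n189065
theorem D218326 : act 5 n189065 = n218326 := rfl
def n218327 : Q := act 6 n189065
theorem D218327 : act 6 n189065 = n218327 := rfl
theorem F493332 : act 2 n218327 = n210984 := d3_1 D218327 (iv6 F459639) (iv2 F386781)
theorem F493333 : act 3 n218327 = n211123 := d7_1 D218327 F460198 F389440
theorem F493334 : act 4 n218327 = n189067 := d10_1 D218327 (iv6 D189067) D189065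
theorem F493335 : act 5 n218327 = n210975 := d21_6 (iv5 D92897) D92895 (iv5 F292911) D100981 (iv1 F386784) D218327 (iv1 F459580) (iv5 F383283) (iv6 D100180) (iv1 F293431)
theorem F493336 : act 0 n215388 = n218327 := d17_0 F493335 (iv1 F459580) (iv5 F383283) F154129 D100183 D192442 (iv5 F457914) F457908 (iv4 F479728)
theorem F493337 : act 1 n210520 = n218327 := d17_6 F351711 F322580 F334682 F328786 (iv4 F281456) (iv5 F457900) F493335 (iv0 D210975) (iv4 F351710)
def n218328 : Q := act 1 n189067
theorem D218328 : act 1 n189067 = n218328 := rfl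
theorem F493338 : act 7 n218328 = n192952 := d15_2 (iv0 F459267) D218328 (iv2 F459265)
theorem F493339 : act 4 n218328 = n204311 := d17_9 (iv1 D204311) (iv5 D123495) D123492 F384876 F384875 (iv5 F368812) D217211 (iv5 F487957) D218328
theorem F493340 : act 5 n218328 = n193456 := d18_9 F389899 (iv4 F386939) D216314 F483793 (iv5 D210524) (iv4 F457899) F493337 F493334 D218328
theorem F493341 : act 6 n212546 = n218328 := d21_3 F293436 (iv1 F368569) (iv5 F466359) (iv1 D218328) (iv6 D189067) D189066 (iv1 F389712) F389710 F388145 (iv1 D189048)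
theorem F493342 : act 3 n218328 = n212547 := d7_1 F493341 (iv6 D212547) D212546
def n218329 : Q := act 7 n189067
theorem D218329 : act 7 n189067 = n218329 := rfl
theorem F493343 : act 3 n218329 = n214100 := d8_1 D218329 (iv7 F473470) F473472
theorem F493344 : act 5 n218329 = n192524 := d13_1 D218329 (iv7 F487956) (iv5 F487957)
theorem F493345 : act 6 n218329 = n192902 := d14_1 D218329 (iv7 F457004) F457007 F378695 D189067
theorem F493346 : act 0 n192952 = n218329 := d21_4 D199199 F411132 F357505 D192952 F493345 (iv5 F411610) F475678 F475675 F375523 (iv1 F224825)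
def n218330 : Q := act 4 n189069
theorem D218330 : act 4 n189069 = n218330 := rfl
theorem F493347 : act 2 n218330 = n194552 := d1_1 D218330 (iv4 F455628) (iv2 F455633)
theorem F493348 : act 6 n218330 = n196391 := d10_2 F457158 D218330 (iv4 F457156)
theorem F493349 : act 7 n218330 = n214186 := d11_2 F455632 D218330 F473896
theorem F493350 : act 0 n218330 = n214187 := d17_0 F473903 (iv1 D199233) (iv5 D111090) (iv4 F172286) D199227 (iv0 F411241) (iv5 F455637) (iv0 F455640) D218330
theorem F493351 : act 5 n217983 = n218330 := d19_1 F491551 (iv4 D218330) (iv3 D189069) (iv1 D93108) F68450 (iv4 F68572) (iv3 F143872) D189122 F460243 F460242 (iv3 F364529) (iv1 D145510) D145511 F356608 (iv3 F415544) F415547 (iv5 F420038) F420037 (iv3 F451023)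
theorem F493352 : act 0 n196407 = n218330 := d20_10 (iv4 D218330) F455640 F455636 (iv3 D206256) F205958 (iv3 F318355) F112144 (iv1 F80688) (iv4 F164833) D196407
theorem F493353 : act 1 n218023 = n199234 := d17_8 (iv1 F452926) F401661 F493352 (iv5 F493351) F491550 (iv5 F455637) (iv0 F455640) (iv5 F491749) (iv4 D199234)
def n218331 : Q := act 5 n189070
theorem D218331 : act 5 n189070 = n218331 := rfl
theorem F493354 : act 3 n218331 = n211434 := d6_1 D218331 (iv5 F461518) F458574
def n218332 : Q := act 0 n189075
theorem D218332 : act 0 n189075 = n218332 := rfl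
theorem F493355 : act 5 n218332 = n208603 := d17_3 F441001 F441000 D218332 F450103 (iv5 D205610) F203522 (iv5 F437272) (iv0 D205627) D205628
theorem F493356 : act 4 n218332 = n204559 := d18_1 D218332 F450740 (iv4 D208759) (iv5 F365142) (iv4 F216810) (iv0 F437635) (iv4 F462198) (iv0 F462202) F441000
theorem F493357 : act 3 n218332 = n207399 := d20_5 F295114 D88958 (iv4 F295425) D189075 D218332 F444693 (iv1 F475542) F475540 (iv3 D188315) (iv1 D91212)
theorem F493358 : act 2 n204556 = n218332 := d15_3 (iv0 D218332) (iv0 F431518) (iv7 F432856)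
theorem F493359 : act 1 n217929 = n218332 := d15_0 (iv0 D218332) F375645 D217929
theorem F493360 : act 7 n218332 = n208610 := d15_2 F491309 F493359 F450143
theorem F493361 : act 6 n206780 = n218332 := d14_5 F493360 F450145 F367047 (iv6 F383348) (iv7 F442167)
def n218333 : Q := act 2 n189075
theorem D218333 : act 2 n189075 = n218333 := rfl
theorem F493362 : act 3 n218333 = n208799 := d0_2 D189075 D218333 (iv2 F450932) (iv3 D188179) (iv2 F295424)
theorem F493363 : act 5 n218333 = n208944 := d2_2 F441000 D218333 F451497
theorem F493364 : act 7 n218333 = n217929 := d4_2 (iv7 F375645) D218333 (iv2 D217929)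
theorem F493365 : act 1 n218333 = n208610 := d15_0 (iv0 F450147) (iv7 F375645) D218333
theorem F493366 : act 1 n204556 = n218333 := d15_0 F493365 (iv7 F493360) (iv2 F493358)
theorem F493367 : act 4 n208760 = n218333 := d18_7 (iv1 F437748) (iv4 D205762) (iv1 F203610) (iv4 F216854) D208595 (iv4 F490903) F490906 F493365 (iv5 D208610)
def n218334 : Q := act 4 n189075
theorem D218334 : act 4 n189075 = n218334 := rfl
theorem F493368 : act 2 n218334 = n208760 := d1_1 D218334 F493367 (iv2 D218333)
theorem F493369 : act 3 n218334 = n208821 := d5_1 D218334 F451002 F366173 (iv4 F295425) D189075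
theorem F493370 : act 7 n218334 = n208761 := d11_2 (iv7 F375645) D218334 F450744
theorem F493371 : act 5 n218334 = n208820 := d16_1 D218334 F450999 (iv5 D206833) (iv4 F437367) F437369 D208688 (iv5 F491308) (iv7 F493364) (iv2 D218333)
theorem F493372 : act 0 n218334 = n208596 := d18_2 F431518 D218334 (iv4 D208596) (iv5 D134773) F98595 D126499 (iv4 F217311) (iv0 F437561) (iv5 F437563)
theorem F493373 : act 1 n218334 = n208755 := d18_6 (iv1 F216818) (iv4 F217839) (iv1 F217843) (iv4 F440999) F441000 D218334 (iv4 D208755) (iv0 F365158) (iv5 D134938)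
theorem F493374 : act 6 n213678 = n218334 := d21_3 (iv5 F466481) (iv1 F466484) D213678 F493372 F450065 (iv5 F451328) F451330 (iv5 F468590) F471611 (iv1 F471599)
def n218335 : Q := act 6 n189075
theorem D218335 : act 6 n189075 = n218335 := rfl
theorem F493375 : act 3 n218335 = n189076 := d7_1 D218335 (iv6 D189076) D189075
theorem F493376 : act 4 n218335 = n213678 := d10_1 D218335 F493374 (iv4 D218334)
theorem F493377 : act 5 n218335 = n217955 := d12_1 D218335 F491412 F490159 F490156 F441000
theorem F493378 : act 0 n218335 = n217745 := d20_1 (iv4 F493376) F490436 (iv3 D188987) F143384 (iv3 F371554) (iv4 D187804) F139457 D114438 D201406 F471594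
def n218336 : Q := act 2 n189077
theorem D218336 : act 2 n189077 = n218336 := rfl
theorem F493379 : act 3 n218336 = n217929 := d0_2 D189077 D218336 (iv2 D217929) (iv3 D188182) (iv2 F295427)
theorem F493380 : act 4 n218336 = n195282 := d1_2 F442319 D218336 (iv2 F442321)
theorem F493381 : act 5 n218336 = n209276 := d2_2 (iv5 F375653) D218336 F453008
theorem F493382 : act 7 n218336 = n208799 := d4_2 (iv7 F375654) D218336 (iv2 F450932)
theorem F493383 : act 1 n218336 = n208798 := d15_0 (iv0 F450929) (iv7 F375654) D218336
theorem F493384 : act 1 n208800 = n218336 := d15_0 F493383 F450926 (iv2 F450933)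
def n218337 : Q := act 6 n189077
theorem D218337 : act 6 n189077 = n218337 := rfl
theorem F493385 : act 3 n218337 = n189078 := d7_1 D218337 (iv6 D189078) D189077
theorem F493386 : act 5 n218337 = n210185 := d12_1 D218337 (iv6 D210185) (iv5 D137815) D137816 (iv5 F375653)
theorem F493387 : act 0 n209167 = n218337 := d21_7 F204037 (iv1 F360513) (iv5 D136097) (iv6 F391939) (iv1 D135894) D135897 D209167 F493386 (iv6 D210185) (iv1 F361811)
def n218338 : Q := act 0 n189078
theorem D218338 : act 0 n189078 = n218338 := rfl
theorem F493388 : act 5 n218338 = n192183 := d17_1 D218338 (iv1 F385903) F157424 F366995 (iv5 F384850) F384863 D192486 (iv0 F386791) (iv4 F375657)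
theorem F493389 : act 4 n218338 = n193398 := d18_1 D218338 (iv1 F487502) F487498 (iv5 D193523) D193522 F408232 F375871 (iv0 F455329) F455328
theorem F493390 : act 6 n218338 = n217006 := d21_5 (iv5 F404655) (iv1 F404659) F333051 D189078 D218338 F489299 (iv1 D217521) (iv5 D187481) F354762 (iv1 F357791)
theorem F493391 : act 2 n193918 = n218338 := d15_3 (iv0 D218338) (iv0 F387557) F391392
theorem F493392 : act 7 n218338 = n193921 := d4_2 F391392 F493391 F391397
theorem F493393 : act 3 n208788 = n218338 := d8_3 F493392 F447574 (iv7 F450880)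
theorem F493394 : act 1 n217932 = n218338 := d15_1 F491320 F493392 F391397
def n218339 : Q := act 7 n189078
theorem D218339 : act 7 n189078 = n218339 := rfl
theorem F493395 : act 2 n218339 = n217932 := d4_1 D218339 (iv7 D217932) (iv2 F375656)
theorem F493396 : act 4 n218339 = n217009 := d11_1 D218339 (iv7 D217009) (iv4 F375657)
theorem F493397 : act 6 n218339 = n217928 := d14_1 D218339 (iv7 D217928) (iv6 D188181) (iv7 F295429) D189078
theorem F493398 : act 1 n193921 = n218339 := d15_1 (iv0 F391399) (iv7 D218339) F375656
theorem F493399 : act 1 n218339 = n193918 := d15_1 F493398 (iv7 F391392) (iv2 F391397)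
def n218340 : Q := act 5 n189085
theorem D218340 : act 5 n189085 = n218340 := rfl
theorem F493400 : act 2 n218340 = n190541 := d2_1 D218340 F380044 (iv2 F375689)
theorem F493401 : act 3 n218340 = n206808 := d6_1 D218340 (iv5 F453570) F453572
theorem F493402 : act 6 n218340 = n208228 := d12_2 (iv6 F375690) D218340 (iv5 D208228) (iv6 D133976) D133975
theorem F493403 : act 7 n218340 = n208659 := d13_2 (iv7 F375691) D218340 (iv5 F450352)
theorem F493404 : act 0 n218340 = n208685 := d17_2 F449301 D218340 (iv5 F487391) F487390 F379962 F372631 F294366 (iv0 F366996) (iv4 F449299)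
theorem F493405 : act 1 n218340 = n199683 := d17_6 (iv1 F343088) (iv5 D91094) (iv1 F139092) (iv5 F347752) D189085 D218340 (iv5 F487381) (iv0 D217095) (iv4 D186770)
def n218341 : Q := act 3 n189086
theorem D218341 : act 3 n189086 = n218341 := rfl
theorem F493406 : act 4 n218341 = n216161 := d5_2 (iv4 F375692) D218341 (iv3 D216161) (iv4 D182039) D182038
theorem F493407 : act 5 n218341 = n191588 := d6_2 F443262 D218341 (iv3 F443264)
theorem F493408 : act 7 n218341 = n216355 := d8_2 F375695 D218341 (iv3 D216355)
def n218342 : Q := act 6 n189086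
theorem D218342 : act 6 n189086 = n218342 := rfl
theorem F493409 : act 2 n218342 = n216502 := d3_1 D218342 F487471 F375694
theorem F493410 : act 4 n218342 = n216160 := d10_1 D218342 (iv6 D216160) (iv4 F375692)
theorem F493411 : act 7 n218342 = n216503 := d14_2 F375695 D218342 (iv6 F484707) (iv7 F460509) F460512
theorem F493412 : act 0 n192597 = n218342 := d21_4 (iv5 D189906) F177379 D100437 D192597 (iv6 D218342) (iv5 F443262) (iv1 F443263) F378146 F372699 F378183
theorem F493413 : act 1 n216504 = n218342 := d15_0 (iv0 F493412) (iv7 F387208) (iv2 F484709)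
def n218343 : Q := act 6 n189092
theorem D218343 : act 6 n189092 = n218343 := rfl
theorem F493414 : act 2 n218343 = n199683 := d3_1 D218343 F413119 (iv2 F375718)
theorem F493415 : act 3 n218343 = n208684 := d7_1 D218343 F450443 F448875
theorem F493416 : act 4 n218343 = n207089 := d10_1 D218343 (iv6 F444087) F444086
theorem F493417 : act 5 n218343 = n192001 := d12_1 D218343 (iv6 D192001) (iv5 F375723) (iv6 D189093) D189092
theorem F493418 : act 7 n218343 = n208685 := d14_2 (iv7 F375719) D218343 (iv6 F489889) F489890 (iv6 D215309)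
theorem F493419 : act 0 n218343 = n190541 := d21_4 (iv5 D172217) (iv1 F294212) D189092 D218343 (iv6 F448840) (iv5 F448838) F386891 D141291 F361233 F270427
theorem F493420 : act 0 n208659 = n218343 := d21_4 D108519 D197625 F405077 D208659 (iv6 D218343) (iv5 D189092) (iv1 D93217) D93218 F347388 (iv1 D108517)
def n218344 : Q := act 5 n189095
theorem D218344 : act 5 n189095 = n218344 := rfl
theorem F493421 : act 3 n218344 = n190527 := d6_1 D218344 F379996 (iv3 F375730)
theorem F493422 : act 6 n218344 = n207209 := d12_2 (iv6 F375731) D218344 (iv5 F447609) (iv6 D208046) (iv5 F218449)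
theorem F493423 : act 7 n218344 = n215311 := d13_2 (iv7 F375732) D218344 (iv5 D215311)
theorem F493424 : act 0 n218344 = n201691 := d17_2 (iv1 F375733) D218344 (iv5 D201691) F364805 (iv5 D87580) D87578 D183479 F367662 F367665
def n218345 : Q := act 3 n189100
theorem D218345 : act 3 n189100 = n218345 := rfl
theorem F493425 : act 2 n218345 = n197651 := d0_1 D218345 F405212 (iv2 F325750) (iv3 F143820) (iv2 F375749)
theorem F493426 : act 4 n218345 = n216490 := d5_2 D189100 D218345 F484653 (iv4 D186757) (iv3 F295437)
theorem F493427 : act 5 n218345 = n199546 := d6_2 (iv5 F375751) D218345 F412618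
theorem F493428 : act 6 n218345 = n197648 := d7_2 F389632 D218345 F405189
theorem F493429 : act 7 n218345 = n199545 := d8_2 (iv7 F375750) D218345 F412610
theorem F493430 : act 0 n218345 = n199558 := d19_4 (iv1 F140044) D93238 D189100 D218345 (iv5 F412666) F405652 (iv3 F417824) F417827 (iv5 F484244) (iv4 F486117) (iv3 F486118) (iv1 F422139) (iv5 F464929) F464928 F289178 (iv1 F367103) (iv5 D98698) D98697 (iv3 F294776)
theorem F493431 : act 0 n199557 = n218345 := d21_4 (iv5 D202486) (iv1 F180225) D115844 (iv6 F412661) F493428 (iv5 D197648) (iv1 F167871) D197567 F404860 (iv1 F424214)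
def n218346 : Q := act 3 n189105
theorem D218346 : act 3 n189105 = n218346 := rfl
theorem F493432 : act 4 n218346 = n189106 := d5_2 D189105 D218346 (iv3 D189106) (iv4 D93261) (iv3 F143837)
theorem F493433 : act 6 n218346 = n217850 := d7_2 F450725 D218346 F490920
theorem F493434 : act 7 n218346 = n217131 := d8_2 (iv7 F375769) D218346 (iv3 D217131)
def n218347 : Q := act 5 n189105
theorem D218347 : act 5 n189105 = n218347 := rfl
theorem F493435 : act 7 n218347 = n217132 := d13_2 (iv7 F375769) D218347 (iv5 D217132)
theorem F493436 : act 4 n218347 = n217528 := d16_2 D189105 D218347 (iv5 D217528) (iv4 D187485) (iv5 D90241) (iv4 F136907) D186816 F368117 F364230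
theorem F493437 : act 0 n218347 = n191857 := d17_2 F487001 D218347 (iv5 D191857) (iv4 D99014) (iv5 D46320) D46318 D99008 F367547 D217016
def n218348 : Q := act 6 n189112
theorem D218348 : act 6 n189112 = n218348 := rfl
theorem F493438 : act 2 n218348 = n208824 := d3_1 D218348 F467516 (iv2 F467512)
theorem F493439 : act 3 n218348 = n207191 := d7_1 D218348 F443723 F375796
theorem F493440 : act 4 n218348 = n208823 := d10_1 D218348 F483223 F483222
theorem F493441 : act 5 n218348 = n207190 := d12_1 D218348 F443718 (iv5 D142713) D142714 (iv5 F375795)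
theorem F493442 : act 7 n218348 = n211452 := d14_2 F421329 D218348 (iv6 D211452) F225136 (iv6 F421328)
def n218349 : Q := act 6 n189113
theorem D218349 : act 6 n189113 = n218349 := rfl
theorem F493443 : act 2 n218349 = n199600 := d3_1 D218349 F412806 F410381
theorem F493444 : act 3 n218349 = n189116 := d7_1 D218349 (iv6 D189116) D189113
theorem F493445 : act 5 n218349 = n211365 := d12_1 D218349 F461303 (iv5 D199023) D199024 (iv5 F410375)
theorem F493446 : act 7 n218349 = n199599 := d14_2 (iv7 F450495) D218349 F450008 F450005 D208702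
theorem F493447 : act 1 n199592 = n218349 := d15_1 (iv0 F413263) F493446 (iv2 F412808)
theorem F493448 : act 1 n218349 = n199396 := d15_1 F493447 F411972 (iv2 F412789)
def n218350 : Q := act 0 n189121
theorem D218350 : act 0 n189121 = n218350 := rfl
theorem F493449 : act 5 n218350 = n198600 := d17_1 D218350 F408470 (iv5 F421134) (iv4 F428095) (iv5 F428094) (iv0 F426019) (iv5 F465104) (iv0 D212278) (iv4 F375822)
theorem F493450 : act 2 n189122 = n218350 := d15_3 (iv0 D218350) (iv0 F468473) F468472
theorem F493451 : act 7 n218350 = n189123 := d4_2 F468472 F493450 (iv2 F468469)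
theorem F493452 : act 1 n189124 = n218350 := d15_1 F468474 F493451 (iv2 F468469)
def n218351 : Q := act 7 n189121
theorem D218351 : act 7 n189121 = n218351 := rfl
theorem F493453 : act 2 n218351 = n189124 := d4_1 D218351 (iv7 D189124) (iv2 F375820)
theorem F493454 : act 3 n218351 = n189579 := d8_1 D218351 (iv7 D189579) (iv3 F375821)
theorem F493455 : act 4 n218351 = n212279 := d11_1 D218351 (iv7 D212279) (iv4 F375822)
theorem F493456 : act 5 n218351 = n210459 := d13_1 D218351 F457630 (iv5 F375823)
theorem F493457 : act 6 n218351 = n192553 := d14_1 D218351 F387045 (iv6 D183168) (iv7 F295023) D189121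
theorem F493458 : act 1 n189123 = n218351 := d15_1 D189123 (iv7 D218351) F375820
theorem F493459 : act 1 n218351 = n189122 := d15_1 F493458 (iv7 F468472) F468469
def n218352 : Q := act 3 n189123
theorem D218352 : act 3 n189123 = n218352 := rfl
theorem F493460 : act 5 n218352 = n209201 := d6_2 F460232 D218352 F460238
theorem F493461 : act 6 n218352 = n192591 := d7_2 F375826 D218352 F402779
theorem F493462 : act 0 n209460 = n218352 := d20_4 D209680 F454605 (iv4 D209462) (iv3 F453781) (iv3 D218352) (iv4 F421102) (iv1 F421103) D201605 (iv3 F421115) F246404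
def n218353 : Q := act 4 n189125
theorem D218353 : act 4 n189125 = n218353 := rfl
theorem F493463 : act 2 n218353 = n209687 := d1_1 D218353 (iv4 D209687) (iv2 F375833)
theorem F493464 : act 3 n218353 = n197587 := d5_1 D218353 F404925 F350404 F359435 D189125
theorem F493465 : act 6 n218353 = n197872 := d10_2 F426582 D218353 (iv4 F426583)
theorem F493466 : act 7 n218353 = n197584 := d11_2 (iv7 F375831) D218353 F404919
theorem F493467 : act 5 n218353 = n198574 := d16_1 D218353 F455789 F455783 (iv4 D198581) (iv5 D109583) D109582 D198580 F408381 (iv2 F375833)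
theorem F493468 : act 0 n218353 = n209475 := d17_0 (iv5 F461485) (iv1 F461488) (iv5 D209469) (iv4 D136500) (iv5 D64165) D64164 D136497 (iv0 F390638) D218353
theorem F493469 : act 1 n218353 = n197930 := d18_6 (iv1 F169566) F100149 (iv1 F79923) D109585 F375832 D218353 (iv4 F406227) (iv0 F408400) (iv5 D198584)
def n218354 : Q := act 4 n189135
theorem D218354 : act 4 n189135 = n218354 := rfl
theorem F493470 : act 2 n218354 = n189136 := d1_1 D218354 (iv4 D189136) D189135
theorem F493471 : act 3 n218354 = n216492 := d5_1 D218354 F484661 F460185 F449924 F411240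
theorem F493472 : act 5 n218354 = n217192 := d9_2 (iv5 F375853) D218354 (iv4 D217192) (iv5 D186991) (iv4 F357192) D192841 (iv4 F448506) F448507 D218196 F492652 (iv4 D217194) (iv5 D186994) (iv4 F357198) D192839 (iv4 F387987)
theorem F493473 : act 7 n218354 = n216491 := d11_2 F491471 D218354 (iv4 F491476)
theorem F493474 : act 0 n216350 = n218354 := d20_1 (iv4 F483960) (iv4 D218354) (iv3 F411240) (iv1 F411243) F489593 (iv4 F489594) F489595 (iv4 F486498) (iv3 F486497) F443444
def n218355 : Q := act 0 n189136
theorem D218355 : act 0 n189136 = n218355 := rfl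
theorem F493475 : act 4 n218355 = n216351 := d18_3 F372728 D189136 D218355 (iv5 F484908) F484907 (iv0 F493326) (iv4 D218324) F390215 (iv5 F372727)
theorem F493476 : act 1 n216491 = n218355 := d15_0 (iv0 D218355) (iv7 F492651) F492648
theorem F493477 : act 7 n218355 = n216350 := d15_2 (iv0 F491489) F493476 (iv2 F491486)
theorem F493478 : act 3 n201532 = n218355 := d19_19 (iv1 F493476) F484659 (iv4 F486796) F486792 F389994 F455951 F455948 (iv3 F466571) F466574 (iv5 D212273) (iv4 F349019) (iv3 D105364) (iv1 D48707) F36996 (iv4 F20216) (iv3 F40630) D52970 D114792 D201532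
def n218356 : Q := act 3 n189136
theorem D218356 : act 3 n189136 = n218356 := rfl
theorem F493479 : act 4 n218356 = n189139 := d5_2 D189136 D218356 (iv3 D189139) (iv4 D93296) D93295
theorem F493480 : act 7 n218356 = n192589 := d8_2 F492651 D218356 (iv3 F492649)
def n218357 : Q := act 5 n189136
theorem D218357 : act 5 n189136 = n218357 := rfl
theorem F493481 : act 2 n218357 = n217192 := d2_1 D218357 (iv5 F493472) F493470
theorem F493482 : act 7 n218357 = n217194 := d13_2 F492651 D218357 (iv5 F492652)
theorem F493483 : act 4 n218357 = n216969 := d16_6 (iv4 F378921) (iv5 F448491) F448490 (iv5 F372456) D189136 D218357 (iv5 D216969) F378675 (iv2 F378676)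
theorem F493484 : act 3 n217314 = n218357 := d0_0 F493481 F487875 (iv2 F470223) D216278 F488395
theorem F493485 : act 5 n218356 = n217314 := d6_0 F493484 (iv5 D218357) D218356
def n218358 : Q := act 6 n189136
theorem D218358 : act 6 n189136 = n218358 := rfl
theorem F493486 : act 4 n218358 = n189137 := d10_1 D218358 (iv6 D189137) D189136
def n218359 : Q := act 0 n189143
theorem D218359 : act 0 n189143 = n218359 := rfl
theorem F493487 : act 4 n218359 = n191903 := d18_3 (iv1 D189142) D189143 D218359 F384771 (iv4 F375657) (iv0 F387557) F384633 F487501 F487499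
theorem F493488 : act 6 n218359 = n191902 := d21_5 (iv5 F482927) F482929 F457903 (iv6 F400419) D218359 (iv5 F388206) (iv1 F479933) F479929 F385090 (iv1 F388311)
theorem F493489 : act 1 n189155 = n218359 := d15_0 (iv0 D218359) (iv7 F492657) F492654
theorem F493490 : act 2 n192346 = n218359 := d3_3 F493488 F384766 D192346
theorem F493491 : act 3 n208556 = n218359 := d20_5 D66548 F166498 (iv4 F98548) (iv3 F216758) D208556 F493487 (iv1 F410441) F410437 F224853 (iv1 F102385)
def n218360 : Q := act 1 n189143
theorem D218360 : act 1 n189143 = n218360 := rfl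
theorem F493492 : act 1 n218360 = n189155 := d15_1 D218360 (iv7 F400432) F400429
theorem F493493 : act 7 n218360 = n192346 := d15_2 (iv0 D218359) D218360 F493490
theorem F493494 : act 4 n218360 = n192347 := d18_7 F359433 F294987 (iv1 F368002) (iv4 D93296) D93297 D189143 D218360 F410440 F410438
theorem F493495 : act 6 n204061 = n218360 := d10_0 F493494 F386528 (iv4 F430943)
theorem F493496 : act 5 n204078 = n218360 := d16_3 F455327 D209909 F474762 F493494 F386527 (iv4 F491317) F491318 F491316 F491311
theorem F493497 : act 3 n204064 = n218360 := d20_5 (iv4 F224930) (iv1 F322367) (iv4 F322947) D211454 (iv1 F461608) F493494 (iv1 F410430) F410426 F224835 D141886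
def n218361 : Q := act 5 n189143
theorem D218361 : act 5 n189143 = n218361 := rfl
theorem F493498 : act 7 n218361 = n215458 := d13_2 F492657 D218361 (iv5 F492658)
theorem F493499 : act 4 n218361 = n193534 := d16_2 D189143 D218361 (iv5 D193534) F375871 (iv5 D189154) (iv4 D93301) D93302 (iv7 F380063) F380062
theorem F493500 : act 1 n218361 = n192942 := d17_6 (iv1 D93108) F68450 D43640 D93297 D189143 D218361 (iv5 D192942) (iv0 F375631) (iv4 D189070)
def n218362 : Q := act 4 n189149
theorem D218362 : act 4 n189149 = n218362 := rfl
theorem F493501 : act 3 n218362 = n212145 := d5_1 D218362 (iv4 D212145) (iv3 F464467) F489594 (iv3 F489593)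
theorem F493502 : act 0 n218362 = n208827 := d20_1 D218362 F451024 (iv3 F442156) (iv1 D183131) (iv3 F284736) (iv4 F483960) F493474 (iv4 D218354) (iv3 F411240) (iv1 F411243)
theorem F493503 : act 5 n212076 = n218362 := d19_1 (iv1 F473906) (iv4 D218362) F489593 (iv1 D208712) (iv5 F410385) (iv4 F422391) F422390 (iv1 F179529) D115531 F346047 F290016 (iv1 D177865) (iv5 D84681) D84680 (iv3 F289810) (iv1 F290168) (iv5 F388768) (iv4 F470310) (iv3 F473901)
def n218363 : Q := act 1 n189151
theorem D218363 : act 1 n189151 = n218363 := rfl
theorem F493504 : act 1 n218363 = n208567 := d15_1 D218363 (iv7 F451036) F451033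
theorem F493505 : act 7 n218363 = n214269 := d15_2 (iv0 F491561) D218363 (iv2 F491557)
theorem F493506 : act 4 n218363 = n210343 := d18_7 F401638 (iv4 D196735) D196733 (iv4 F401628) (iv5 D189152) D189151 D218363 F457114 (iv5 D199059)
theorem F493507 : act 3 n208576 = n218363 := d20_3 (iv4 F168618) (iv1 F363348) (iv4 F449969) (iv1 D218363) (iv3 F434648) F434649 F370514 (iv4 F407382) F407381 (iv1 D140375)
theorem F493508 : act 6 n218363 = n211063 := d7_2 (iv6 F449967) F493507 (iv3 D211063)
def n218364 : Q := act 5 n189155
theorem D218364 : act 5 n189155 = n218364 := rfl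
theorem F493509 : act 2 n218364 = n215458 := d2_1 D218364 (iv5 F492658) F492654
theorem F493510 : act 4 n218364 = n215335 := d9_1 D218364 F479454 F408228 (iv5 D189140) (iv4 D93296) D93297 D189143 D218361 F493499 (iv5 D193534) F375871 (iv5 D189154) (iv4 D93301) D93302 D189155
theorem F493511 : act 6 n218364 = n215329 := d12_2 F386876 D218364 (iv5 D215329) (iv6 F401984) F401981
theorem F493512 : act 0 n218364 = n192942 := d17_2 (iv1 F493489) D218364 (iv5 D192942) F155598 (iv5 F293939) (iv0 F359433) (iv5 F410438) F410441 (iv4 F493487)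
def n218365 : Q := act 4 n189157
theorem D218365 : act 4 n189157 = n218365 := rfl
theorem F493513 : act 2 n218365 = n193601 := d1_1 D218365 F390413 (iv2 F375877)
theorem F493514 : act 3 n218365 = n194346 := d5_1 D218365 (iv4 F464529) F464528 (iv4 F405217) F377056
theorem F493515 : act 5 n218365 = n218322 := d9_2 D189157 D218365 (iv4 D218322) (iv5 D189061) F143587 F68450 (iv4 F68572) (iv5 F294977) (iv4 F156968) D193600 (iv4 F390411) (iv5 F394116) F394115 F374459 (iv4 F143879)
theorem F493516 : act 6 n218365 = n193492 := d10_2 (iv6 F375878) D218365 (iv4 D193492)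
theorem F493517 : act 7 n218365 = n189161 := d11_2 (iv7 F375879) D218365 (iv4 D189161)
theorem F493518 : act 0 n218365 = n193599 := d18_2 F375881 D218365 F390408 D193921 F391398 F389711 F389709 (iv0 F390425) (iv5 D193603)
theorem F493519 : act 1 n218365 = n193598 := d18_6 (iv1 F368002) (iv4 D93296) (iv1 F142807) (iv4 F143879) D189157 D218365 F391390 (iv0 D102479) F74735
def n218366 : Q := act 0 n189161
theorem D218366 : act 0 n189161 = n218366 := rfl
theorem F493520 : act 4 n218366 = n192183 := d18_1 D218366 (iv1 F385903) (iv4 F391381) (iv5 F480213) F480212 F492660 F480082 D215485 (iv5 F480189)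
theorem F493521 : act 6 n218366 = n191994 := d21_5 (iv5 F64463) (iv1 F137058) (iv5 F294830) (iv6 F375893) D218366 (iv5 D191994) (iv1 F177360) (iv5 F359411) (iv6 D89452) (iv1 F64413)
theorem F493522 : act 1 n193601 = n218366 := d15_0 (iv0 D218366) (iv7 F493517) F493513
theorem F493523 : act 3 n194235 = n218366 := d20_3 F415603 D213955 F482157 (iv1 F493522) F390412 (iv4 F427493) F473195 F473191 (iv3 F415983) F423711
theorem F493524 : act 2 n193598 = n218366 := d3_3 F493521 (iv2 F491170) (iv6 F491176)
theorem F493525 : act 7 n193599 = n218366 := d14_0 F493521 (iv7 F393218) (iv6 F416301) (iv7 F453851) (iv6 F453852)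
def n218367 : Q := act 1 n189161
theorem D218367 : act 1 n189161 = n218367 := rfl
theorem F493526 : act 1 n218367 = n193601 := d15_1 D218367 (iv7 D193601) (iv2 F375892)
theorem F493527 : act 7 n218367 = n193598 := d15_2 (iv0 D218366) D218367 F493524
theorem F493528 : act 4 n218367 = n192184 := d17_9 (iv1 D192184) F153702 D186643 (iv5 F454588) (iv4 F454591) (iv5 F390181) D215485 (iv5 F480189) D218367
theorem F493529 : act 3 n200388 = n218367 := d20_9 (iv4 D189161) D189160 F375890 F158632 D103361 (iv3 F370070) (iv4 F479604) F479606 (iv4 F416255) (iv1 D218367)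
theorem F493530 : act 6 n200385 = n218367 := d21_3 F353349 (iv1 F377559) F416241 (iv1 D218367) F375893 F294830 F137057 F64496 D47456 (iv1 F353347)
theorem F493531 : act 2 n218367 = n193599 := d3_1 F493530 F453852 (iv2 F453849)
def n218368 : Q := act 3 n189161
theorem D218368 : act 3 n189161 = n218368 := rfl
theorem F493532 : act 2 n218368 = n194347 := d0_1 D218368 (iv3 F466467) F366595 (iv3 F366599) (iv2 F375892)
theorem F493533 : act 6 n218368 = n189162 := d7_2 (iv6 F375893) D218368 (iv3 D189162)
theorem F493534 : act 7 n218368 = n194346 := d8_2 F493517 D218368 (iv3 F493514)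
theorem F493535 : act 0 n218368 = n194339 := d20_10 F473641 (iv1 D214134) (iv4 F415619) (iv3 D200228) F175770 (iv3 F175777) (iv4 F218570) F352853 D189161 D218368
theorem F493536 : act 0 n194349 = n218368 := d20_4 D194418 (iv1 F393129) F392927 (iv3 F392893) (iv3 D218368) (iv4 D189161) D189160 F375890 F158632 D103361
def n218369 : Q := act 5 n189163
theorem D218369 : act 5 n189163 = n218369 := rfl
theorem F493537 : act 2 n218369 = n193045 := d2_1 D218369 F458311 F458308
theorem F493538 : act 3 n218369 = n212113 := d6_1 D218369 (iv5 D212113) F375899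
theorem F493539 : act 4 n218369 = n192972 := d9_1 D218369 (iv5 D192972) (iv4 D101045) (iv5 D47075) (iv4 F74322) D101036 D192962 (iv5 F458606) F458605 F388583 F155777 F74348 (iv4 F68581) D93321 D189163
theorem F493540 : act 7 n218369 = n192982 := d13_2 (iv7 F375897) D218369 (iv5 D192982)
theorem F493541 : act 0 n218369 = n213271 := d17_2 (iv1 F455654) D218369 F469652 F427599 F364320 F153147 (iv5 F294231) F357576 (iv4 F455651)
theorem F493542 : act 1 n218369 = n196310 := d17_8 (iv1 D201797) (iv5 F179184) (iv1 F388372) (iv5 F475136) F475137 (iv5 F388721) (iv0 F375898) D218369 (iv4 F421824)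
def n218370 : Q := act 6 n189166
theorem D218370 : act 6 n189166 = n218370 := rfl
theorem F493543 : act 2 n218370 = n192489 := d3_1 D218370 (iv6 D192489) (iv2 F375919)
theorem F493544 : act 3 n218370 = n199379 := d7_1 D218370 (iv6 F465052) F465051
theorem F493545 : act 5 n218370 = n191280 := d12_1 D218370 (iv6 D191280) (iv5 F289367) F289368 F375918
theorem F493546 : act 7 n218370 = n199370 := d14_2 (iv7 F375917) D218370 (iv6 D199370) F386799 (iv6 D192488)
theorem F493547 : act 0 n218370 = n212559 := d21_4 (iv5 F292708) F292705 F375918 D218370 F466416 (iv5 D184670) (iv1 F314251) D191267 F382825 F157302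
theorem F493548 : act 0 n194021 = n218370 := d21_4 (iv5 F468546) (iv1 F468549) (iv5 D194020) D194021 (iv6 D218370) (iv5 F375918) (iv1 D183170) (iv5 F135058) D184689 F385491
theorem F493549 : act 4 n218370 = n209458 := d20_0 (iv1 D209458) (iv4 F411461) (iv3 D199282) (iv1 D111145) (iv3 F172370) F172371 D197555 F404803 (iv3 F391801) F493548
theorem F493550 : act 2 n209458 = n203390 := d1_1 F493549 F428124 (iv2 F493543)
theorem F493551 : act 6 n209458 = n203054 := d10_2 D218370 F493549 F426805
def n218371 : Q := act 0 n189167
theorem D218371 : act 0 n189167 = n218371 := rfl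
theorem F493552 : act 4 n218371 = n192289 := d18_3 (iv1 D189166) D189167 D218371 F386319 F289386 F288510 F134190 D183170 F375918
theorem F493553 : act 1 n191927 = n218371 := d15_0 (iv0 D218371) F375921 (iv2 F384868)
theorem F493554 : act 2 n192490 = n218371 := d1_3 F493552 (iv2 F457335) F457340
theorem F493555 : act 6 n209183 = n218371 := d10_0 F493552 (iv6 F386317) (iv4 F452616)
theorem F493556 : act 7 n192491 = n218371 := d11_0 F493552 (iv7 F460732) (iv4 F460734)
theorem F493557 : act 3 n209186 = n218371 := d20_5 F179676 (iv1 F84075) D64192 D136540 F452627 F493552 (iv1 D192289) F329701 (iv3 D136532) (iv1 F179683)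
def n218372 : Q := act 1 n189167
theorem D218372 : act 1 n189167 = n218372 := rfl
theorem F493558 : act 1 n218372 = n191927 := d15_1 D218372 F384869 (iv2 F375920)
theorem F493559 : act 7 n218372 = n192490 := d15_2 (iv0 D218371) D218372 F493554
theorem F493560 : act 4 n218372 = n192288 := d18_7 F157775 F73522 (iv1 F157766) F68594 D93328 D189167 D218372 (iv0 D192288) (iv5 D100017)
theorem F493561 : act 3 n193919 = n218372 := d20_3 F453859 (iv1 F491175) F491174 (iv1 D218372) (iv3 F440484) F440482 F375930 (iv4 F422963) F422962 D209479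
theorem F493562 : act 6 n218372 = n193916 := d7_2 D193919 F493561 (iv3 D193916)
theorem F493563 : act 2 n192491 = n218372 := d1_3 F493560 (iv2 F460736) (iv4 F460734)
def n218373 : Q := act 5 n189167
theorem D218373 : act 5 n189167 = n218373 := rfl
theorem F493564 : act 2 n218373 = n192493 := d2_1 D218373 (iv5 D192493) (iv2 F375920)
theorem F493565 : act 3 n218373 = n193072 := d6_1 D218373 (iv5 F440483) F440484
theorem F493566 : act 6 n218373 = n193769 := d12_2 (iv6 F375926) D218373 F390956 (iv6 D143396) (iv5 F226001)
theorem F493567 : act 7 n218373 = n216552 := d13_2 (iv7 F375921) D218373 (iv5 D216552)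
theorem F493568 : act 4 n218373 = n216628 := d16_2 D189167 D218373 F485245 (iv4 D191927) (iv5 D99328) F73317 D99328 F152955 (iv2 F143921)
def n218374 : Q := act 6 n189173
theorem D218374 : act 6 n189173 = n218374 := rfl
theorem F493569 : act 2 n218374 = n193121 := d3_1 D218374 (iv6 D193121) (iv2 F375946)
theorem F493570 : act 3 n218374 = n191967 := d7_1 D218374 (iv6 D191967) (iv3 F375947)
theorem F493571 : act 5 n218374 = n216181 := d12_1 D218374 (iv6 D216181) F344234 (iv6 F344230) D189173
theorem F493572 : act 0 n216557 = n218374 := d21_4 (iv5 D123082) D123080 D204167 (iv6 F484932) (iv6 D218374) (iv5 D189173) (iv1 F143942) D101190 (iv6 F195773) F351776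
def n218375 : Q := act 4 n189174
theorem D218375 : act 4 n189174 = n218375 := rfl
theorem F493573 : act 2 n218375 = n193124 := d1_1 D218375 (iv4 D193124) F375951
theorem F493574 : act 7 n218375 = n193123 := d11_2 (iv7 F375953) D218375 (iv4 D193123)
theorem F493575 : act 0 n218375 = n192236 := d18_2 D189174 D218375 (iv4 D192236) (iv5 D99919) (iv4 F106721) D149657 (iv4 F235260) (iv0 D93335) D93338
theorem F493576 : act 1 n218375 = n192391 := d18_6 D189027 (iv4 F376455) (iv1 F475731) F475732 (iv5 F375950) D218375 (iv4 D192391) F369034 (iv5 F292681)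
theorem F493577 : act 3 n218375 = n196523 := d20_3 (iv4 D189175) D189174 D218375 (iv1 F470436) F470432 (iv4 F463847) (iv1 F463851) F422562 (iv3 F422563) F386735
theorem F493578 : act 6 n210126 = n218375 := d7_0 F493577 F456274 D210126
def n218376 : Q := act 6 n189174
theorem D218376 : act 6 n189174 = n218376 := rfl
theorem F493579 : act 2 n218376 = n193125 := d3_1 D218376 (iv6 D193125) F375951
theorem F493580 : act 3 n218376 = n191970 := d7_1 D218376 (iv6 D191970) F375954
theorem F493581 : act 4 n218376 = n210126 := d10_1 D218376 F493578 (iv4 D218375)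
theorem F493582 : act 5 n218376 = n217124 := d12_1 D218376 (iv6 D217124) (iv5 D186818) D186819 (iv5 F375950)
theorem F493583 : act 0 n214037 = n218376 := d21_4 (iv5 F332230) (iv1 F278430) F332248 D214037 (iv6 D218376) F375950 (iv1 F368125) (iv5 F362388) (iv6 D111163) D111159
def n218377 : Q := act 3 n189176
theorem D218377 : act 3 n189176 = n218377 := rfl
theorem F493584 : act 2 n218377 = n194021 := d0_1 D218377 F391801 F386835 (iv3 F386834) F375961
theorem F493585 : act 4 n218377 = n192174 := d5_2 (iv4 F375960) D218377 F385866 F261723 (iv3 F340234)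
theorem F493586 : act 5 n218377 = n213488 := d6_2 (iv5 F375959) D218377 (iv3 D213488)
theorem F493587 : act 6 n218377 = n192173 := d7_2 F375962 D218377 F385862
theorem F493588 : act 7 n218377 = n212559 := d8_2 (iv7 F375958) D218377 (iv3 D212559)
theorem F493589 : act 0 n218377 = n192489 := d19_4 (iv1 F230985) D147408 (iv4 F375960) D218377 F386803 (iv4 F484333) F484332 F480647 (iv5 F483430) (iv4 F487918) F487917 (iv1 F449764) (iv5 D136888) (iv4 F204095) F347093 (iv1 F352106) (iv5 F425513) F425512 F361634
theorem F493590 : act 1 n218377 = n199370 := d15_1 (iv0 F493589) (iv7 F493546) F493543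
def n218378 : Q := act 5 n189178
theorem D218378 : act 5 n189178 = n218378 := rfl
theorem F493591 : act 2 n218378 = n194390 := d2_1 D218378 (iv5 D194390) (iv2 F375968)
theorem F493592 : act 3 n218378 = n198834 := d6_1 D218378 F409477 (iv3 F375969)
theorem F493593 : act 6 n218378 = n189181 := d12_2 D189178 D218378 (iv5 D189181) (iv6 D93352) D93351
theorem F493594 : act 7 n218378 = n214332 := d13_2 F480859 D218378 (iv5 F480858)
theorem F493595 : act 4 n218378 = n200519 := d16_6 (iv4 F198849) (iv5 F393353) F393352 F158997 (iv4 F375970) D218378 (iv5 F436591) F436592 (iv2 D177015)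
theorem F493596 : act 0 n218378 = n206636 := d17_2 (iv1 F463513) D218378 (iv5 F471395) F471394 (iv5 F393834) (iv0 D194612) F159273 (iv0 F416497) (iv4 F463509)
theorem F493597 : act 1 n218378 = n204838 := d17_8 (iv1 D162907) D162909 F436865 F436863 F357782 D216098 F482943 D218378 F433778
def n218379 : Q := act 5 n189186
theorem D218379 : act 5 n189186 = n218379 := rfl
theorem F493598 : act 7 n218379 = n214034 := d13_2 (iv7 F375999) D218379 (iv5 D214034)
def n218380 : Q := act 0 n189190
theorem D218380 : act 0 n189190 = n218380 := rfl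
theorem F493599 : act 3 n218380 = n209967 := d20_5 (iv4 F329895) F376020 (iv4 D189191) D189190 D218380 F455570 (iv1 D174584) (iv4 F273333) (iv3 D174458) F358783
theorem F493600 : act 2 n211299 = n218380 := d15_3 (iv0 D218380) (iv0 F403437) (iv7 F461023)
theorem F493601 : act 1 n204268 = n218380 := d15_0 (iv0 D218380) (iv7 F484933) F484930
theorem F493602 : act 7 n218380 = n218374 := d15_2 (iv0 F431767) F493601 F493569
theorem F493603 : act 6 n202298 = n218380 := d21_3 (iv5 F422498) F398044 (iv5 F423548) (iv1 F493601) (iv6 D204268) (iv5 D123303) (iv1 F345827) (iv5 F388796) (iv6 F450534) (iv1 F450537)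
def n218381 : Q := act 2 n189190
theorem D218381 : act 2 n189190 = n218381 := rfl
theorem F493604 : act 3 n218381 = n199327 := d0_2 D189190 D218381 F411717 (iv3 F358750) F358792
theorem F493605 : act 4 n218381 = n202412 := d1_2 F458693 D218381 (iv2 F458692)
theorem F493606 : act 7 n218381 = n204268 := d4_2 F484933 D218381 (iv2 F484930)
theorem F493607 : act 1 n218381 = n218374 := d15_0 (iv0 F493572) F484933 D218381
theorem F493608 : act 1 n211299 = n218381 := d15_0 F493607 (iv7 F493602) (iv2 F493600)
theorem F493609 : act 6 n199325 = n218381 := d14_5 F493606 (iv6 D204268) (iv7 F431207) F431211 (iv7 F411712)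
def n218382 : Q := act 5 n189190
theorem D218382 : act 5 n189190 = n218382 := rfl
theorem F493610 : act 3 n218382 = n189192 := d6_1 D218382 (iv5 D189192) D189190
theorem F493611 : act 7 n218382 = n216170 := d13_2 F484933 D218382 (iv5 F484931)
def n218383 : Q := act 6 n189190
theorem D218383 : act 6 n189190 = n218383 := rfl
theorem F493612 : act 2 n218383 = n199325 := d3_1 D218383 F493609 (iv2 D218381)
theorem F493613 : act 3 n218383 = n189193 := d7_1 D218383 (iv6 D189193) D189190
theorem F493614 : act 4 n218383 = n202288 := d10_1 D218383 (iv6 F458694) F458693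
theorem F493615 : act 7 n218383 = n209978 := d14_2 F484933 D218383 (iv6 F455603) (iv7 F431295) (iv6 F484932)
theorem F493616 : act 1 n199293 = n218383 := d15_1 F423527 F493615 F455604
theorem F493617 : act 1 n218383 = n202294 := d15_1 F493616 F423525 F411806
def n218384 : Q := act 6 n189192
theorem D218384 : act 6 n189192 = n218384 := rfl
theorem F493618 : act 2 n218384 = n208376 := d3_1 D218384 (iv6 F458181) F458180
theorem F493619 : act 4 n218384 = n208368 := d10_1 D218384 F449103 (iv4 F376022)
theorem F493620 : act 7 n218384 = n193192 := d14_2 (iv7 F376021) D218384 F389129 F308319 D182131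
theorem F493621 : act 5 n218384 = n193193 := d21_6 F137172 (iv1 F134712) (iv5 F283666) D216248 F483477 D218384 (iv1 F467489) F467485 F364082 F283693
theorem F493622 : act 0 n218384 = n193295 := d21_10 (iv5 D193295) (iv1 D101438) (iv5 F137174) (iv6 D89492) (iv1 F68687) (iv6 F144145) (iv5 D93446) D93444 D189192 D218384
theorem F493623 : act 0 n193293 = n218384 := d21_4 (iv5 F444207) (iv1 F450401) (iv5 F488102) F488103 (iv6 D218384) (iv5 D189192) (iv1 F286299) (iv5 F483333) F483334 F449118
def n218385 : Q := act 5 n189193
theorem D218385 : act 5 n189193 = n218385 := rfl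
theorem F493624 : act 2 n218385 = n193200 := d2_1 D218385 F389155 (iv2 F376024)
theorem F493625 : act 6 n218385 = n193193 := d12_2 D189193 D218385 (iv5 F493621) (iv6 D218384) (iv5 D189192)
theorem F493626 : act 7 n218385 = n193140 := d13_2 (iv7 F376026) D218385 F388888
theorem F493627 : act 0 n218385 = n190911 := d17_2 F410349 D218385 F381527 (iv4 F388850) (iv5 F415413) (iv0 F466218) F466216 (iv0 F418065) (iv4 F410347)
theorem F493628 : act 1 n218385 = n193198 := d17_6 F333976 (iv5 D162821) (iv1 F193077) F362183 (iv4 F376025) D218385 (iv5 F389147) (iv0 F388853) (iv4 F388852)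
def n218386 : Q := act 3 n189195
theorem D218386 : act 3 n189195 = n218386 := rfl
theorem F493629 : act 2 n218386 = n208333 := d0_1 D218386 F448950 (iv2 F403051) (iv3 F471077) F471072
theorem F493630 : act 4 n218386 = n209888 := d5_2 F469806 D218386 F455259 D213953 (iv3 F472871)
theorem F493631 : act 5 n218386 = n208330 := d6_2 F471061 D218386 (iv3 F471059)
theorem F493632 : act 6 n218386 = n213953 := d7_2 (iv6 F432280) D218386 (iv3 F472871)
def n218387 : Q := act 6 n189196
theorem D218387 : act 6 n189196 = n218387 := rfl
theorem F493633 : act 3 n218387 = n210599 := d7_1 D218387 (iv6 D210599) (iv3 F376032)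
theorem F493634 : act 0 n218387 = n216583 := d21_4 F470212 F376033 F376031 D218387 F485063 (iv5 D184724) (iv1 F309030) F309031 D182131 (iv1 F470215)
theorem F493635 : act 0 n218007 = n218387 := d21_4 (iv5 F473859) F473860 F469632 (iv6 F491659) (iv6 D218387) (iv5 F376031) F400166 (iv5 F469819) F469818 (iv1 F389135)
def n218388 : Q := act 3 n189208
theorem D218388 : act 3 n189208 = n218388 := rfl
theorem F493636 : act 2 n218388 = n214287 := d0_1 D218388 F474406 (iv2 F280830) F362335 F376097
theorem F493637 : act 5 n218388 = n194145 := d6_2 (iv5 F376094) D218388 (iv3 F392188)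
theorem F493638 : act 7 n218388 = n198192 := d8_2 F376098 D218388 (iv3 D198192)
theorem F493639 : act 0 n218388 = n193094 := d19_4 D45801 D98078 (iv4 F376095) D218388 F388726 F327004 (iv3 D75810) (iv1 F54914) D37807 F58657 (iv3 F292770) (iv1 F68927) (iv5 D43848) (iv4 F65857) (iv3 D21913) (iv1 D10449) F7153 (iv4 F16643) (iv3 F34391)
theorem F493640 : act 0 n215243 = n218388 := d21_7 (iv5 F253469) F476177 (iv5 D214640) F408810 F408807 F408576 D215243 F493637 (iv6 F405491) F405493
def n218389 : Q := act 5 n189210
theorem D218389 : act 5 n189210 = n218389 := rfl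
theorem F493641 : act 3 n218389 = n189211 := d6_1 D218389 (iv5 D189211) D189210
theorem F493642 : act 6 n218389 = n191810 := d12_2 (iv6 F376105) D218389 (iv5 D191810) (iv6 D98963) D98962
theorem F493643 : act 7 n218389 = n217951 := d13_2 (iv7 F376106) D218389 (iv5 D217951)
def n218390 : Q := act 0 n189211
theorem D218390 : act 0 n189211 = n218390 := rfl
theorem F493644 : act 5 n218390 = n191869 := d17_3 D93770 D189211 D218390 F384622 D217602 (iv0 F489743) (iv5 D217579) (iv0 D187588) F139085
theorem F493645 : act 6 n218390 = n217262 := d21_5 F311784 (iv1 F311782) D98971 (iv6 F376108) D218390 (iv5 D217262) F369003 (iv5 F383513) (iv6 D191455) (iv1 F153980)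
theorem F493646 : act 2 n217946 = n218390 := d15_3 (iv0 D218390) F491804 (iv7 F491375)
theorem F493647 : act 1 n189213 = n218390 := d15_0 (iv0 D218390) F376109 (iv2 F376112)
theorem F493648 : act 7 n218390 = n217947 := d15_2 F491805 F493647 (iv2 F491380)
theorem F493649 : act 3 n192602 = n218390 := d8_3 F493648 F491378 F490464
def n218391 : Q := act 4 n189211
theorem D218391 : act 4 n189211 = n218391 := rfl
theorem F493650 : act 2 n218391 = n217948 := d1_1 D218391 (iv4 D217948) (iv2 F376107)
theorem F493651 : act 6 n218391 = n191817 := d10_2 (iv6 F376108) D218391 (iv4 D191817)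
theorem F493652 : act 7 n218391 = n217953 := d11_2 (iv7 F376109) D218391 (iv4 D217953)
theorem F493653 : act 5 n218391 = n210537 := d16_1 D218391 F457970 D210539 (iv4 F457980) (iv5 D187483) (iv4 F351148) D189213 F376113 (iv2 F376107)
def n218392 : Q := act 2 n189212
theorem D218392 : act 2 n189212 = n218392 := rfl
theorem F493654 : act 3 n218392 = n217950 := d0_2 D189212 D218392 (iv2 D217950) (iv3 D188198) (iv2 F367225)
theorem F493655 : act 7 n218392 = n217943 := d4_2 (iv7 F376110) D218392 (iv2 D217943)
theorem F493656 : act 1 n218392 = n214563 := d15_0 (iv0 F475812) (iv7 F376110) D218392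
theorem F493657 : act 1 n191836 = n218392 := d15_0 F493656 F475811 (iv2 F384565)
theorem F493658 : act 4 n217838 = n218392 := d18_5 (iv1 D159492) (iv4 F178308) F365267 (iv4 F372187) D217838 F493656 F475809 (iv0 F446920) F446874
def n218393 : Q := act 4 n189212
theorem D218393 : act 4 n189212 = n218393 := rfl
theorem F493659 : act 2 n218393 = n217838 := d1_1 D218393 F493658 (iv2 D218392)
theorem F493660 : act 3 n218393 = n201804 := d5_1 D218393 (iv4 F421844) (iv3 D187482) (iv4 F351148) D189212
theorem F493661 : act 7 n218393 = n217944 := d11_2 (iv7 F376110) D218393 (iv4 D217944)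
theorem F493662 : act 5 n218393 = n201802 := d18_4 D207886 F482488 F482487 D218393 F421838 F387668 (iv4 F387665) F446890 (iv5 D207887)
theorem F493663 : act 1 n218393 = n217698 := d18_8 (iv1 F490730) (iv4 D217807) (iv1 F387663) (iv4 F420080) (iv5 F421646) F421645 (iv0 F376111) D218393 (iv5 F490186)
theorem F493664 : act 6 n218393 = n212622 := d21_3 D212402 (iv1 F465674) (iv5 F493662) F466743 (iv6 D206864) (iv5 D129435) D129432 (iv5 F442313) F465671 (iv1 D212401)
def n218394 : Q := act 5 n189212
theorem D218394 : act 5 n189212 = n218394 := rfl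
theorem F493665 : act 3 n218394 = n189213 := d6_1 D218394 (iv5 D189213) D189212
theorem F493666 : act 7 n218394 = n217945 := d13_2 (iv7 F376110) D218394 (iv5 D217945)
theorem F493667 : act 4 n218394 = n209410 := d16_4 (iv4 F421838) (iv5 F493662) (iv4 D218393) D218394 (iv5 F453799) F453798 F394082 F370838 D188054
theorem F493668 : act 0 n216755 = n218394 := d21_10 (iv5 D218394) F376111 (iv5 F383485) (iv6 D191435) (iv1 F383444) F487815 F487813 F426143 F365327 D216755
theorem F493669 : act 6 n209030 = n218394 := d21_5 F383442 (iv1 F151757) D98347 D191432 F451917 (iv5 D218394) F376111 (iv5 F383485) (iv6 D191435) (iv1 F383444)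
def n218395 : Q := act 6 n189212
theorem D218395 : act 6 n189212 = n218395 := rfl
theorem F493670 : act 3 n218395 = n189214 := d7_1 D218395 (iv6 D189214) D189212
theorem F493671 : act 4 n218395 = n212622 := d10_1 D218395 (iv6 F493664) (iv4 D218393)
theorem F493672 : act 5 n218395 = n209027 := d12_1 D218395 F451906 D209030 F493669 (iv5 D218394)
theorem F493673 : act 7 n218395 = n191801 := d14_2 (iv7 F376110) D218395 (iv6 D191801) (iv7 F367508) (iv6 F372647)
def n218396 : Q := act 4 n189213
theorem D218396 : act 4 n189213 = n218396 := rfl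
theorem F493674 : act 2 n218396 = n217953 := d1_1 D218396 (iv4 D217953) (iv2 F376112)
theorem F493675 : act 5 n218396 = n217748 := d9_2 D189213 D218396 (iv4 F491079) (iv5 F491083) (iv4 D217522) (iv5 D187481) (iv4 F354763) D189211 D218391 F493653 F457970 D210539 (iv4 F457980) (iv5 D187483) (iv4 F351148)
theorem F493676 : act 6 n218396 = n217321 := d10_2 F376114 D218396 (iv4 D217321)
theorem F493677 : act 7 n218396 = n217948 := d11_2 (iv7 F376113) D218396 (iv4 D217948)
theorem F493678 : act 3 n218396 = n217749 := d19_3 (iv1 F144535) D189213 D218396 F490446 (iv5 D217550) (iv4 D187545) (iv3 D90316) (iv1 D42217) (iv5 D19929) F14617 F6170 D9400 F290909 (iv4 F64523) (iv3 F137394) (iv1 F283725) (iv5 D100450) D100449 F351146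
def n218397 : Q := act 5 n189214
theorem D218397 : act 5 n189214 = n218397 := rfl
theorem F493679 : act 2 n218397 = n192680 := d2_1 D218397 F387454 (iv2 F376115)
theorem F493680 : act 3 n218397 = n209027 := d6_1 D218397 (iv5 F493672) F493670
theorem F493681 : act 6 n218397 = n192675 := d12_2 D189214 D218397 F387449 F376114 (iv5 D189213)
theorem F493682 : act 7 n218397 = n191805 := d13_2 (iv7 F376117) D218397 (iv5 D191805)
theorem F493683 : act 0 n218397 = n191880 := d17_2 (iv1 F387565) D218397 (iv5 D191880) (iv4 F373102) D188368 (iv0 F471109) (iv5 F487622) F487620 (iv4 F387561)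
theorem F493684 : act 1 n218397 = n191878 := d17_6 (iv1 F372994) D188344 F373114 F370527 (iv4 F376116) D218397 (iv5 D191878) (iv0 D99044) (iv4 F294578)
theorem F493685 : act 4 n218397 = n218030 := d18_5 F366981 (iv4 F375858) (iv1 F378243) (iv4 F376116) D218397 (iv0 D218030) (iv4 D188348) D188347 (iv5 F373145)
def n218398 : Q := act 0 n189229
theorem D218398 : act 0 n189229 = n218398 := rfl
theorem F493686 : act 5 n218398 = n207253 := d17_1 D218398 F443994 (iv5 D190401) F147637 D96011 F364243 D214358 F474744 F413872
theorem F493687 : act 4 n218398 = n208073 := d18_1 D218398 F447765 (iv4 F415834) (iv5 F436980) F436979 (iv0 F368100) (iv4 F368101) (iv0 F364361) (iv5 F376158)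
theorem F493688 : act 3 n218398 = n189247 := d20_5 (iv4 F414704) F414705 F379730 (iv3 F376157) D218398 F376632 F376887 F376886 (iv3 F365736) (iv1 F345014)
theorem F493689 : act 6 n218398 = n208072 := d21_5 (iv5 D92316) (iv1 F293965) D93790 D189229 D218398 F447757 F422245 F420405 (iv6 D189231) (iv1 F293601)
theorem F493690 : act 2 n217327 = n218398 := d15_3 (iv0 D218398) (iv0 F379733) (iv7 F488450)
theorem F493691 : act 7 n218398 = n189402 := d4_2 (iv7 F488450) F493690 (iv2 F377385)
def n218399 : Q := act 0 n189235
theorem D218399 : act 0 n189235 = n218399 := rfl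
theorem F493692 : act 3 n218399 = n191237 := d20_5 F367200 (iv1 D93793) D93794 D189235 D218399 (iv4 F382696) (iv1 D185728) F135435 (iv3 F135430) D185703
theorem F493693 : act 1 n191249 = n218399 := d15_0 (iv0 D218399) (iv7 F376647) (iv2 F382749)
def n218400 : Q := act 1 n189235
theorem D218400 : act 1 n189235 = n218400 := rfl
def n218401 : Q := act 2 n189235
theorem D218401 : act 2 n189235 = n218401 := rfl
theorem F493694 : act 3 n218401 = n198817 := d0_2 D189235 D218401 F409378 (iv3 F294559) F145095
theorem F493695 : act 4 n218401 = n189260 := d1_2 (iv4 F376173) D218401 (iv2 D189260)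
theorem F493696 : act 5 n218401 = n214812 := d2_2 F480155 D218401 (iv2 F480152)
theorem F493697 : act 6 n218401 = n198813 := d3_2 F430192 D218401 (iv2 F430190)
theorem F493698 : act 7 n218401 = n191249 := d4_2 F376647 D218401 F382749
theorem F493699 : act 1 n218400 = n191249 := d15_1 D218400 (iv7 F493698) (iv2 D218401)
def n218402 : Q := act 2 n189238
theorem D218402 : act 2 n189238 = n218402 := rfl
theorem F493700 : act 3 n218402 = n189333 := d0_2 D189238 D218402 (iv2 D189333) (iv3 D93886) (iv2 F144572)
theorem F493701 : act 4 n218402 = n198813 := d1_2 F430191 D218402 (iv2 F430190)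
theorem F493702 : act 6 n218402 = n189260 := d3_2 (iv6 F376184) D218402 (iv2 D189260)
theorem F493703 : act 7 n218402 = n214983 := d4_2 F480884 D218402 (iv2 F480881)
theorem F493704 : act 1 n218402 = n214958 := d15_0 (iv0 F480885) F480884 D218402
theorem F493705 : act 1 n214986 = n218402 := d15_0 F493704 (iv7 F477757) (iv2 F477760)
def n218403 : Q := act 0 n189239
theorem D218403 : act 0 n189239 = n218403 := rfl
theorem F493706 : act 5 n218403 = n189632 := d17_1 D218403 (iv1 F399802) (iv5 F399807) (iv4 F377283) F377284 F377216 (iv5 F377288) F477723 F477721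
theorem F493707 : act 4 n218403 = n189640 := d18_3 (iv1 F477724) F477721 D218403 (iv5 D189640) (iv4 D94267) (iv0 F114399) D159503 F251189 (iv5 F377285)
theorem F493708 : act 2 n189335 = n218403 := d15_3 (iv0 D218403) (iv0 F399811) F399809
theorem F493709 : act 1 n189339 = n218403 := d15_0 (iv0 D218403) (iv7 F477719) F477714
theorem F493710 : act 7 n218403 = n189336 := d15_2 F399812 F493709 (iv2 F399808)
theorem F493711 : act 3 n218282 = n218403 := d19_19 (iv1 F493709) F376431 F144719 (iv3 F69419) F139487 (iv5 D90594) F82992 F77732 F50516 D52637 D114051 (iv3 F398871) (iv1 F444722) (iv5 F465028) (iv4 F465173) F465172 (iv1 F374320) D188936 D218282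
def n218404 : Q := act 3 n189244
theorem D218404 : act 3 n189244 = n218404 := rfl
theorem F493712 : act 2 n218404 = n208019 := d0_1 D218404 F447466 (iv2 F217923) (iv3 F451634) F451633
theorem F493713 : act 4 n218404 = n189245 := d5_2 D189244 D218404 (iv3 D189245) (iv4 D93809) (iv3 F144604)
theorem F493714 : act 5 n218404 = n205605 := d6_2 F451594 D218404 (iv3 F451590)
theorem F493715 : act 6 n218404 = n208016 := d7_2 F451611 D218404 (iv3 F451610)
theorem F493716 : act 7 n218404 = n189349 := d8_2 (iv7 F376202) D218404 (iv3 D189349)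
theorem F493717 : act 0 n218404 = n208524 := d19_4 (iv1 D93805) D93807 D189244 D218404 F449729 F422024 (iv3 D134146) (iv1 D63010) (iv5 F327968) F61571 (iv3 D20752) (iv1 F32493) (iv5 F293449) (iv4 F294577) D88975 (iv1 F367084) (iv5 D186280) D186279 F367043
def n218405 : Q := act 1 n189245
theorem D218405 : act 1 n189245 = n218405 := rfl
theorem F493718 : act 7 n218405 = n189369 := d15_2 F483118 D218405 (iv2 F483116)
theorem F493719 : act 5 n218405 = n189393 := d17_7 F463303 (iv5 F375660) F375663 D191034 F381945 F376230 D218405 F483112 F483110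
theorem F493720 : act 4 n218405 = n189490 := d18_7 (iv1 F364705) (iv4 F364702) D190717 (iv4 F437198) (iv5 F493714) F493713 D218405 (iv0 F479334) (iv5 D215311)
theorem F493721 : act 6 n189488 = n218405 := d10_0 F493720 (iv6 D189490) D189488
theorem F493722 : act 2 n189368 = n218405 := d16_9 F493720 F376673 (iv4 F364804) F147039 F133291 D86895 D181930 D216131 F483117
theorem F493723 : act 1 n218405 = n189370 := d15_0 F483119 F483117 F493722
def n218406 : Q := act 2 n189245
theorem D218406 : act 2 n189245 = n218406 := rfl
theorem F493724 : act 3 n218406 = n189394 := d0_2 D189245 D218406 (iv2 D189394) (iv3 D93943) (iv2 F144608)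
theorem F493725 : act 4 n218406 = n208019 := d1_2 F493713 D218406 (iv2 F493712)
theorem F493726 : act 5 n218406 = n217484 := d2_2 F376230 D218406 (iv2 F489098)
theorem F493727 : act 7 n218406 = n189370 := d4_2 (iv7 F376204) D218406 (iv2 D189370)
theorem F493728 : act 1 n218406 = n189368 := d15_0 (iv0 D189368) (iv7 F376204) D218406
theorem F493729 : act 1 n189369 = n218406 := d15_0 F493728 (iv7 F483117) F483116
theorem F493730 : act 6 n208023 = n218406 := d10_0 F493725 F447467 D208023
def n218407 : Q := act 6 n189245
theorem D218407 : act 6 n189245 = n218407 := rfl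
theorem F493731 : act 2 n218407 = n208023 := d3_1 D218407 F493730 (iv2 D218406)
theorem F493732 : act 3 n218407 = n189246 := d7_1 D218407 (iv6 D189246) D189245
theorem F493733 : act 4 n218407 = n208016 := d10_1 D218407 (iv6 F493715) F493713
theorem F493734 : act 5 n191212 = n218407 := d16_1 D191212 F493733 (iv5 D208016) F214051 D133268 (iv4 F327288) (iv5 F417997) (iv7 D200809) F348772
theorem F493735 : act 1 n189317 = n218407 := d18_6 (iv1 F176887) F324732 D132856 F347566 (iv5 F288293) (iv4 F376399) F493733 F447450 F399585
def n218408 : Q := act 4 n189248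
theorem D218408 : act 4 n189248 = n218408 := rfl
theorem F493736 : act 2 n218408 = n189403 := d1_1 D218408 (iv4 D189403) (iv2 F376212)
theorem F493737 : act 3 n218408 = n189338 := d5_1 D218408 F486540 (iv3 D216919) F369372 (iv3 F376213)
theorem F493738 : act 5 n218408 = n189475 := d9_2 (iv5 F376210) D218408 F376650 (iv5 F294075) (iv4 F294444) (iv5 F147836) D190552 (iv5 F380123) F376632 (iv5 F483107) (iv4 D216129) F356262 (iv4 F295184) (iv5 F361761) F218982
theorem F493739 : act 6 n218408 = n189302 := d10_2 F376211 D218408 (iv4 D189302)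
theorem F493740 : act 7 n218408 = n189399 := d11_2 F376221 D218408 (iv4 D189399)
theorem F493741 : act 0 n218408 = n189274 := d18_2 (iv1 F376209) D218408 F376292 (iv5 F374651) (iv4 F375729) F375725 (iv4 F394391) F394389 F364707
theorem F493742 : act 1 n218408 = n189562 := d18_6 F444027 (iv4 F365734) F361762 F218982 (iv5 F376210) D218408 F376886 F376301 (iv5 F444025)
def n218409 : Q := act 6 n189251
theorem D218409 : act 6 n189251 = n218409 := rfl
theorem F493743 : act 3 n218409 = n189252 := d7_1 D218409 (iv6 D189252) D189251
theorem F493744 : act 4 n218409 = n215040 := d10_1 D218409 F478025 F381945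
theorem F493745 : act 5 n218409 = n207481 := d12_1 D218409 F445105 F493734 (iv6 D218407) (iv5 F376230)
theorem F493746 : act 0 n210085 = n218409 := d17_2 (iv1 F445653) F456098 F493745 (iv4 D207481) (iv5 D131836) F163841 D196035 F399141 D207484
def n218410 : Q := act 0 n189252
theorem D218410 : act 0 n189252 = n218410 := rfl
theorem F493747 : act 5 n218410 = n200402 := d17_3 F489106 F489105 D218410 (iv4 D200402) (iv5 D113077) (iv0 F387953) (iv5 F416294) F416296 (iv4 F376400)
theorem F493748 : act 4 n218410 = n189552 := d18_3 (iv1 D189254) (iv4 F376233) D218410 (iv5 F411635) F411634 F411582 F411584 (iv0 F421032) F421031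
theorem F493749 : act 6 n218410 = n189305 := d21_5 (iv5 F144847) F144848 (iv5 F144613) D189252 D218410 F447968 (iv1 F447967) (iv5 D189374) (iv6 D93917) D93914
theorem F493750 : act 3 n189307 = n218410 := d7_3 F493749 (iv3 D189305) D189307
theorem F493751 : act 2 n218410 = n189409 := d0_1 F493750 (iv3 F447960) F447959 (iv3 F447965) F447964
theorem F493752 : act 7 n189410 = n218410 := d15_2 (iv0 D189409) D189410 F493751
theorem F493753 : act 1 n189412 = n218410 := d18_6 F290591 (iv4 F177696) F411574 F411571 F376579 (iv4 F376554) F493748 (iv0 D189552) (iv5 F290595)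
def n218411 : Q := act 1 n189252
theorem D218411 : act 1 n189252 = n218411 := rfl
theorem F493754 : act 1 n218411 = n189412 := d15_1 D218411 (iv7 D189412) (iv2 F376232)
theorem F493755 : act 7 n218411 = n189409 := d15_2 (iv0 D218410) D218411 (iv2 F493751)
theorem F493756 : act 4 n218411 = n189553 := d18_7 (iv1 F178112) (iv4 F419859) (iv1 F419862) (iv4 F411552) F369505 (iv4 F376233) D218411 F395454 F395451
theorem F493757 : act 2 n189410 = n218411 := d1_3 F493756 (iv2 F395446) (iv4 F395448)
theorem F493758 : act 3 n189312 = n218411 := d5_5 F493756 (iv3 F392245) (iv4 F425236) (iv3 F477710) F477711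
theorem F493759 : act 5 n189311 = n218411 := d9_0 F493756 (iv5 F376868) F352392 (iv5 D111180) (iv4 F82516) D113077 D200402 (iv5 F493747) F493748 (iv5 F411635) F411634 F172429 (iv4 F82519) (iv5 F161798) (iv4 F376392)
theorem E104043 : n207490 = n189448 := ((c20_4 F493756 (iv1 D189553) F144878 (iv3 F376618) (iv1 D207490) F211250 (iv4 D106525) F83233 D114102 (iv3 F376553) (iv1 F493754))).symm
theorem F493760 : act 0 n189448 = n131842 := (sb E104043 (iv1 D207490))
def n218412 : Q := act 7 n189252
theorem D218412 : act 7 n189252 = n218412 := rfl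
theorem F493761 : act 2 n218412 = n189412 := d4_1 D218412 (iv7 D189412) (iv2 F376232)
theorem F493762 : act 4 n218412 = n189255 := d11_1 D218412 (iv7 D189255) (iv4 F376233)
theorem F493763 : act 6 n218412 = n189435 := d14_1 D218412 (iv7 D189435) (iv6 D93968) (iv7 F144614) D189252
theorem F493764 : act 1 n189410 = n218412 := d15_1 D189410 (iv7 D218412) F376232
theorem F493765 : act 1 n218412 = n189409 := d15_1 F493764 (iv7 F493755) (iv2 F493757)
def n218413 : Q := act 4 n189253
theorem D218413 : act 4 n189253 = n218413 := rfl
theorem F493766 : act 2 n218413 = n189415 := d1_1 D218413 (iv4 D189415) (iv2 F377532)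
theorem F493767 : act 7 n218413 = n189419 := d11_2 (iv7 F377534) D218413 (iv4 D189419)
theorem F493768 : act 0 n218413 = n189452 := d18_2 D189253 D218413 F376619 (iv5 D159596) D159595 (iv0 F251382) (iv4 F251185) (iv0 F369507) F369505
theorem F493769 : act 0 n189257 = n218413 := d20_1 (iv4 F376244) (iv4 D218413) F377533 (iv1 F367148) (iv3 F238451) (iv4 F392241) (iv1 F402775) (iv4 F466689) F466688 (iv1 D195021)
def n218414 : Q := act 5 n189253
theorem D218414 : act 5 n189253 = n218414 := rfl
theorem F493770 : act 2 n218414 = n189416 := d2_1 D218414 (iv5 D189416) (iv2 F377532)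
theorem F493771 : act 3 n218414 = n194195 := d6_1 D218414 (iv5 D194195) (iv3 F377533)
theorem F493772 : act 6 n218414 = n210055 := d12_2 F492524 D218414 F455963 F420429 D218174
theorem F493773 : act 7 n218414 = n189420 := d13_2 (iv7 F377534) D218414 (iv5 D189420)
theorem F493774 : act 1 n218414 = n194144 := d17_8 (iv1 F411582) F172429 (iv1 F357628) (iv5 F411572) F411571 F376579 F376239 D218414 (iv4 F411584)
def n218415 : Q := act 4 n189254
theorem D218415 : act 4 n189254 = n218415 := rfl
theorem F493775 : act 2 n218415 = n189419 := d1_1 D218415 (iv4 D189419) (iv2 F377535)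
theorem F493776 : act 7 n218415 = n189415 := d11_2 (iv7 F377536) D218415 (iv4 D189415)
theorem F493777 : act 0 n218415 = n189257 := d18_2 (iv1 F376234) D218415 F376244 (iv5 F362430) (iv4 F416270) (iv0 F457356) (iv4 F488502) F488500 F376579
theorem F493778 : act 1 n218415 = n189452 := d18_6 (iv1 D195852) (iv4 F398452) F457083 F457080 F421031 D218415 F376619 F395453 F398462
def n218416 : Q := act 0 n189256
theorem D218416 : act 0 n189256 = n218416 := rfl
theorem F493779 : act 5 n218416 = n217863 := d17_1 D218416 (iv1 F490987) (iv5 F376883) (iv4 F447479) (iv5 D208021) (iv0 D133211) D133213 (iv0 F391737) F391736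
theorem F493780 : act 4 n218416 = n189319 := d18_3 (iv1 F399587) F391736 D218416 (iv5 F444576) F444575 (iv0 F444216) F436539 F447458 F447456
theorem F493781 : act 3 n189317 = n217027 := d20_3 F493780 (iv1 D189319) (iv4 F376399) (iv1 D217027) (iv3 D186667) (iv4 D89021) F293532 (iv4 F293541) D189256 D218416
theorem F493782 : act 1 n189327 = n218416 := d15_0 (iv0 D218416) F376242 (iv2 F376405)
theorem F493783 : act 6 n217027 = n189315 := d7_2 D189317 F493781 (iv3 D189315)
theorem F493784 : act 2 n189454 = n218416 := d1_3 F493780 (iv2 F447613) F443803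
theorem F493785 : act 7 n189453 = n218416 := d11_0 F493780 (iv7 F447615) (iv4 F447619)
def n218417 : Q := act 1 n189256
theorem D218417 : act 1 n189256 = n218417 := rfl
theorem F493786 : act 7 n218417 = n189454 := d15_2 (iv0 D218416) D218417 F493784
theorem F493787 : act 5 n218417 = n217864 := d17_7 F417917 F257751 (iv1 F327272) (iv5 F382778) F382777 F376289 D218417 F490995 F417919
theorem F493788 : act 4 n218417 = n189318 := d18_7 (iv1 D185863) (iv4 F288289) (iv1 F334341) F363987 D194006 F391736 D218417 (iv0 D189318) F288293
theorem F493789 : act 2 n189453 = n218417 := d1_3 F493788 F447616 (iv4 F447619)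
theorem F493790 : act 6 n189442 = n218417 := d10_0 F493788 F413464 D189442
theorem F493791 : act 0 n189327 = n218417 := d18_2 F366145 (iv4 F376406) F493788 (iv5 F490685) F490684 (iv0 F442224) (iv4 F442223) (iv0 D133211) D133213
def n218418 : Q := act 2 n189256
theorem D218418 : act 2 n189256 = n218418 := rfl
theorem F493792 : act 3 n218418 = n189446 := d0_2 D189256 D218418 (iv2 D189446) (iv3 D93972) F144618
theorem F493793 : act 4 n218418 = n196141 := d1_2 F391736 D218418 F399583
theorem F493794 : act 7 n218418 = n189327 := d4_2 (iv7 F376242) D218418 F376405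
theorem F493795 : act 1 n218418 = n189453 := d15_0 (iv0 D189453) (iv7 F376242) D218418
theorem F493796 : act 1 n189454 = n218418 := d15_0 F493795 F493785 (iv2 F493784)
def n218419 : Q := act 6 n189256
theorem D218419 : act 6 n189256 = n218419 := rfl
theorem F493797 : act 3 n218419 = n189257 := d7_1 D218419 (iv6 D189257) D189256
theorem F493798 : act 4 n218419 = n212926 := d10_1 D218419 F468158 F391736
theorem F493799 : act 5 n218419 = n217773 := d12_1 D218419 F490547 F400112 (iv6 F376616) F376289
theorem F493800 : act 7 n218419 = n189330 := d14_2 (iv7 F376242) D218419 (iv6 D189330) (iv7 F376180) F376183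
def n218420 : Q := act 7 n189257
theorem D218420 : act 7 n189257 = n218420 := rfl
theorem F493801 : act 2 n218420 = n189452 := d4_1 D218420 (iv7 D189452) (iv2 F376243)
theorem F493802 : act 3 n218420 = n189330 := d8_1 D218420 (iv7 F493800) F493797
theorem F493803 : act 4 n218420 = n195022 := d11_1 D218420 (iv7 D195022) (iv4 F376244)
theorem F493804 : act 6 n218420 = n189328 := d14_1 D218420 F376407 (iv6 D93975) (iv7 F144620) D189257
theorem F493805 : act 1 n189419 = n218420 := d15_1 (iv0 F400101) (iv7 D218420) F376243
theorem F493806 : act 1 n218420 = n189415 := d15_1 F493805 (iv7 F493776) F493775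
def n218421 : Q := act 3 n189258
theorem D218421 : act 3 n189258 = n218421 := rfl
def n218422 : Q := act 4 n189259
theorem D218422 : act 4 n189259 = n218422 := rfl
theorem F493807 : act 3 n218422 = n216820 := d5_1 D218422 F486056 F379871 D216127 F483095
def n218423 : Q := act 6 n189262
theorem D218423 : act 6 n189262 = n218423 := rfl
theorem F493808 : act 2 n218423 = n189490 := d3_1 D218423 (iv6 D189490) (iv2 F376668)
theorem F493809 : act 3 n218423 = n212283 := d7_1 D218423 F465133 F376790
theorem F493810 : act 4 n218423 = n189368 := d10_1 D218423 (iv6 F376807) F376793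
theorem F493811 : act 5 n218423 = n212007 := d12_1 D218423 F463903 (iv5 D187186) D187187 F376248
theorem F493812 : act 0 n218423 = n218344 := d21_4 (iv5 F488481) (iv1 D217332) F376248 D218423 F493422 (iv5 F447609) F447610 (iv5 F376470) F376471 (iv1 F379714)
theorem F493813 : act 0 n189439 = n218423 := d21_4 F214518 D187841 F371796 D189439 (iv6 D218423) (iv5 F376248) F379889 F379885 F378613 F371777
def n218424 : Q := act 1 n189266
theorem D218424 : act 1 n189266 = n218424 := rfl
theorem F493814 : act 7 n218424 = n189360 := d15_2 F417921 D218424 F376468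
theorem F493815 : act 4 n218424 = n189363 := d17_9 (iv1 F376477) (iv5 F447636) F447637 F444576 (iv4 F493780) F493779 (iv0 D217863) (iv5 F376265) D218424
theorem F493816 : act 2 n189557 = n218424 := d1_3 F493815 F376475 (iv4 F376881)
theorem F493817 : act 0 n189559 = n218424 := d18_2 (iv1 F447481) F447479 F493815 F376476 F334340 F363985 F363981 F176888 D188725
theorem F493818 : act 5 n218424 = n189531 := d17_1 F493817 (iv1 D189531) F144858 D189455 (iv5 F376623) F176868 (iv5 F376801) (iv0 F447480) F447479
def n218425 : Q := act 2 n189266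
theorem D218425 : act 2 n189266 = n218425 := rfl
theorem F493819 : act 3 n218425 = n189532 := d0_2 D189266 D218425 (iv2 D189532) (iv3 D94024) (iv2 F144628)
theorem F493820 : act 4 n218425 = n189524 := d1_2 F447485 D218425 (iv2 F447483)
theorem F493821 : act 5 n218425 = n217865 := d2_2 (iv5 F376265) D218425 (iv2 D217865)
theorem F493822 : act 7 n218425 = n189559 := d4_2 (iv7 F376266) D218425 (iv2 D189559)
theorem F493823 : act 1 n218425 = n189557 := d15_0 (iv0 D189557) (iv7 F376266) D218425
theorem F493824 : act 1 n189360 = n218425 := d15_0 F493823 (iv7 F376882) (iv2 F376468)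
theorem F493825 : act 6 n196024 = n218425 := d10_0 F493820 (iv6 F398457) D196024
def n218426 : Q := act 6 n189266
theorem D218426 : act 6 n189266 = n218426 := rfl
theorem F493826 : act 2 n218426 = n196024 := d3_1 D218426 F493825 (iv2 D218425)
theorem F493827 : act 3 n218426 = n189267 := d7_1 D218426 (iv6 D189267) D189266
theorem F493828 : act 4 n218426 = n196023 := d10_1 D218426 (iv6 F447486) F447485
def n218427 : Q := act 7 n189267
theorem D218427 : act 7 n189267 = n218427 := rfl
theorem F493829 : act 2 n218427 = n189537 := d4_1 D218427 (iv7 D189537) (iv2 F376267)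
theorem F493830 : act 4 n218427 = n189270 := d11_1 D218427 (iv7 D189270) (iv4 F376268)
theorem F493831 : act 6 n218427 = n189562 := d14_1 D218427 (iv7 D189562) (iv6 D94051) (iv7 F144629) D189267
theorem F493832 : act 1 n189382 = n218427 := d15_1 (iv0 F410146) (iv7 D218427) F376267
theorem F493833 : act 1 n218427 = n189378 := d15_1 F493832 (iv7 F493100) F493097
def n218428 : Q := act 5 n189268
theorem D218428 : act 5 n189268 = n218428 := rfl
theorem F493834 : act 2 n218428 = n189541 := d2_1 D218428 (iv5 D189541) (iv2 F376840)
theorem F493835 : act 3 n218428 = n209593 := d6_1 D218428 (iv5 F486566) F486569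
theorem F493836 : act 6 n218428 = n217859 := d12_2 (iv6 F376269) D218428 (iv5 D217859) (iv6 D188067) D188066
theorem F493837 : act 7 n218428 = n189546 := d13_2 (iv7 F376841) D218428 (iv5 D189546)
theorem F493838 : act 0 n218428 = n195998 := d17_2 D189268 D218428 (iv5 D195998) (iv4 F399010) F490544 F490543 D217861 (iv0 F490977) F376268
theorem F493839 : act 1 n218428 = n204197 := d17_8 D204221 (iv5 F470674) F470677 F413458 F413452 F376863 F376275 D218428 F431441
def n218429 : Q := act 6 n189269
theorem D218429 : act 6 n189269 = n218429 := rfl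
theorem F493840 : act 2 n218429 = n189547 := d3_1 D218429 (iv6 D189547) (iv2 F376835)
theorem F493841 : act 3 n218429 = n190454 := d7_1 D218429 (iv6 F395957) F376271
theorem F493842 : act 4 n218429 = n217027 := d10_1 D218429 F493783 F376398
theorem F493843 : act 5 n218429 = n216955 := d12_1 D218429 F486702 (iv5 D189005) D189006 F376272
theorem F493844 : act 7 n218429 = n216954 := d14_2 (iv7 F376836) D218429 F486696 F376845 (iv6 D189542)
theorem F493845 : act 0 n218429 = n217919 := d21_4 D195998 F399014 F376272 D218429 F491263 (iv5 F411620) (iv1 F411624) (iv5 F398462) F411625 (iv1 D195997)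
theorem F493846 : act 0 n190461 = n218429 := d21_4 (iv5 D133213) D133211 D208021 F447477 (iv6 D218429) (iv5 F376272) F444691 (iv5 F468156) F468158 F391737
def n218430 : Q := act 0 n189273
theorem D218430 : act 0 n189273 = n218430 := rfl
theorem F493847 : act 5 n218430 = n189557 := d17_1 D218430 (iv1 F493823) F493821 F490991 F382598 F334375 D214896 F477327 F382777
theorem F493848 : act 1 n189532 = n218430 := d15_0 (iv0 D218430) F376290 D189532
theorem F493849 : act 2 n189531 = n218430 := d2_3 F493847 F493816 F493818
theorem F493850 : act 7 n189530 = n218430 := d13_0 F493847 (iv7 F376882) (iv5 F376823)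
def n218431 : Q := act 1 n189273
theorem D218431 : act 1 n189273 = n218431 := rfl
theorem F493851 : act 7 n218431 = n189531 := d15_2 (iv0 D218430) D218431 F493849
theorem F493852 : act 5 n218431 = n189360 := d17_7 (iv1 D189524) F144850 D102578 D194006 F391736 (iv5 F376289) D218431 F493824 F493820
theorem F493853 : act 3 n189478 = n218431 := d19_19 (iv1 D218431) F376289 (iv4 F391736) (iv3 F395439) F395442 (iv5 D135760) F99232 (iv3 F207835) F437582 (iv5 F444124) F444123 (iv3 D130712) F328438 F103895 (iv4 F209197) (iv3 F443867) F486617 F486616 (iv4 F399007)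
theorem F493854 : act 6 n189530 = n218431 := d21_9 F376289 D218416 F493779 F490989 F490971 F490969 (iv5 F376265) (iv1 F417921) (iv5 F376823) (iv1 D218431)
theorem F493855 : act 0 n189532 = n218431 := d20_4 (iv4 D207972) (iv1 F376799) (iv4 F493820) F493819 (iv3 F493853) F399007 (iv1 D189502) (iv4 F376722) (iv3 F486183) F486184
theorem F493856 : act 2 n189530 = n218431 := d15_3 (iv0 F493855) F493848 (iv7 F493850)
def n218432 : Q := act 2 n189273
theorem D218432 : act 2 n189273 = n218432 := rfl
theorem F493857 : act 3 n218432 = n189559 := d0_2 D189273 D218432 (iv2 D189559) (iv3 D94050) (iv2 F144650)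
theorem F493858 : act 4 n218432 = n205253 := d1_2 F382777 D218432 F435617
theorem F493859 : act 5 n218432 = n218418 := d2_2 (iv5 F376289) D218432 (iv2 D218418)
theorem F493860 : act 6 n218432 = n217864 := d3_2 (iv6 F376616) D218432 (iv2 F490996)
theorem F493861 : act 7 n218432 = n189532 := d4_2 (iv7 F376290) D218432 (iv2 D189532)
theorem F493862 : act 1 n218432 = n189530 := d15_0 (iv0 D189530) (iv7 F376290) D218432
theorem F493863 : act 1 n189531 = n218432 := d15_0 F493862 F493850 (iv2 F493849)
def n218433 : Q := act 5 n189274
theorem D218433 : act 5 n189274 = n218433 := rfl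
theorem F493864 : act 2 n218433 = n189561 := d2_1 D218433 (iv5 D189561) (iv2 F376291)
theorem F493865 : act 3 n218433 = n189453 := d6_1 D218433 F400112 F376615
theorem F493866 : act 6 n218433 = n200401 := d12_2 D189274 D218433 F416307 (iv6 D189257) (iv5 F144651)
theorem F493867 : act 4 n218433 = n192862 := d16_2 (iv4 F376292) D218433 (iv5 D192862) F154950 D100855 F361232 (iv5 F365737) (iv7 D94055) (iv2 F144654)
theorem F493868 : act 1 n218433 = n191244 := d17_8 (iv1 F356268) (iv5 D89991) D89988 (iv5 F356262) D216129 F483107 (iv0 F465598) D218433 (iv4 D191244)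
theorem F493869 : act 0 n218433 = n190914 := d18_0 (iv4 D190914) (iv1 F356266) (iv4 F376593) (iv5 F376595) F376534 F376216 F376632 (iv0 F465598) D218433
def n218434 : Q := act 7 n189274
theorem D218434 : act 7 n189274 = n218434 := rfl
theorem F493870 : act 2 n218434 = n189562 := d4_1 D218434 (iv7 D189562) (iv2 F376291)
theorem F493871 : act 3 n218434 = n217863 := d8_1 D218434 (iv7 F490988) F376615
theorem F493872 : act 4 n218434 = n189277 := d11_1 D218434 (iv7 D189277) (iv4 F376292)
theorem F493873 : act 6 n218434 = n189537 := d14_1 D218434 (iv7 D189537) (iv6 D94025) (iv7 F144652) D189274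
theorem F493874 : act 1 n189403 = n218434 := d15_1 F376636 (iv7 D218434) F376291
theorem F493875 : act 1 n218434 = n189399 := d15_1 F493874 (iv7 F493740) F493736
def n218435 : Q := act 0 n189280
theorem D218435 : act 0 n189280 = n218435 := rfl
theorem F493876 : act 5 n218435 = n212851 := d17_3 F333365 D189280 D218435 F467785 (iv5 F374089) F374087 (iv5 D187431) F333370 (iv4 F152155)
theorem F493877 : act 4 n218435 = n217312 := d18_1 D218435 (iv1 D217312) (iv4 D187151) (iv5 D89611) (iv4 F67874) D92499 D188580 (iv0 F374066) D189280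
theorem F493878 : act 3 n218435 = n216858 := d20_5 D216809 F486007 F469987 F381801 D218435 F486256 F470205 F470203 F368572 F287798
theorem F493879 : act 1 n189285 = n218435 := d15_0 (iv0 D218435) (iv7 F475699) F475698
theorem F493880 : act 7 n218435 = n217214 := d15_2 (iv0 F483303) F493879 F487966
theorem F493881 : act 6 n212852 = n218435 := d21_3 F461029 (iv1 F461027) D212852 (iv1 F493879) (iv6 F487062) F487061 (iv1 D210856) D210857 F459043 D210862
def n218436 : Q := act 1 n189289
theorem D218436 : act 1 n189289 = n218436 := rfl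
theorem F493882 : act 1 n218436 = n191863 := d15_1 D218436 (iv7 F475689) F475685
theorem F493883 : act 7 n218436 = n208519 := d15_2 (iv0 F377105) D218436 F449707
theorem F493884 : act 4 n218436 = n189597 := d17_9 (iv1 F377062) F388763 (iv1 D193104) (iv5 D101188) (iv4 F138848) (iv5 F233465) F447432 F447428 D218436
theorem F493885 : act 5 n218436 = n201852 := d18_9 F422067 (iv4 F422099) F422100 (iv4 D189769) (iv5 D94450) (iv4 F72976) D99017 (iv4 F376339) D218436
theorem F493886 : act 3 n201853 = n218436 := d20_3 F145638 D185174 (iv4 F422074) (iv1 D218436) F376338 (iv4 F149908) (iv1 F353185) (iv4 F373833) F373832 (iv1 F145648)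
theorem F493887 : act 6 n218315 = n218436 := d21_3 (iv5 F178745) D201503 (iv5 F493278) (iv1 D218436) (iv6 D189289) D189288 F466757 F466753 (iv6 D187505) (iv1 F157719)
theorem F493888 : act 2 n218436 = n216192 := d3_1 F493887 F483318 (iv2 F493275)
def n218437 : Q := act 5 n189296
theorem D218437 : act 5 n189296 = n218437 := rfl
theorem F493889 : act 2 n218437 = n189640 := d2_1 D218437 (iv5 D189640) (iv2 F376358)
theorem F493890 : act 3 n218437 = n214152 := d6_1 D218437 F473745 F425190
theorem F493891 : act 4 n218437 = n189335 := d9_1 D218437 F376424 (iv4 D106525) F77749 F38876 D49293 D106683 D196130 F399543 F376425 (iv4 D119065) (iv5 D54792) (iv4 F68990) D93870 D189296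
theorem F493892 : act 6 n218437 = n214150 := d12_2 (iv6 F376359) D218437 (iv5 D214150) (iv6 F366290) (iv5 F355630)
theorem F493893 : act 7 n218437 = n189636 := d13_2 (iv7 F376360) D218437 (iv5 D189636)
theorem F493894 : act 0 n218437 = n206412 := d17_2 (iv1 F399530) D218437 (iv5 F440663) (iv4 F292218) (iv5 D90104) F65043 D52167 D113020 (iv4 F399529)
theorem F493895 : act 1 n218437 = n212994 := d17_6 F114374 F69420 (iv1 F68986) D93870 D189296 D218437 (iv5 D212994) F238988 (iv4 D106486)
def n218438 : Q := act 5 n189300
theorem D218438 : act 5 n189300 = n218438 := rfl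
theorem F493896 : act 2 n218438 = n189334 := d2_1 D218438 F399807 (iv2 F399805)
theorem F493897 : act 3 n218438 = n214983 := d6_1 D218438 (iv5 F477772) F477771
theorem F493898 : act 4 n218438 = n200365 := d9_1 D218438 (iv5 D200365) F176079 F164382 (iv4 F95753) (iv5 F144713) D189302 (iv5 F376409) (iv4 F145404) (iv5 F376411) F176080 (iv5 D106280) F114361 (iv5 F144710) D189300
theorem F493899 : act 7 n218438 = n189333 := d13_2 (iv7 F399801) D218438 (iv5 F399796)
theorem F493900 : act 0 n218438 = n189332 := d17_2 (iv1 F376373) D218438 F376416 F376178 (iv5 D106696) F77942 D52670 (iv0 F83233) D106525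
theorem F493901 : act 1 n218438 = n189331 := d17_6 F143186 (iv5 D92819) F95757 (iv5 F144710) D189300 D218438 F376408 F163770 F144719
theorem F493902 : act 6 n189467 = n218438 := d21_9 F376416 (iv1 F376181) (iv5 F376431) (iv6 F477633) (iv1 F493704) F493702 (iv5 F376627) (iv1 F376629) D189467 F493900
def n218439 : Q := act 6 n189300
theorem D218439 : act 6 n189300 = n218439 := rfl
theorem F493903 : act 4 n218439 = n189301 := d10_1 D218439 (iv6 D189301) D189300
theorem F493904 : act 5 n218439 = n189468 := d12_1 D218439 (iv6 D189468) D189467 F493902 (iv5 D218438)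
theorem F493905 : act 0 n196024 = n218439 := d21_4 F400112 (iv1 F490994) (iv5 F493821) (iv6 F493825) (iv6 D218439) D218438 F493900 F376416 F376183 D189453
def n218440 : Q := act 3 n189303
theorem D218440 : act 3 n189303 = n218440 := rfl
theorem F493906 : act 4 n218440 = n215007 := d5_2 (iv4 F376377) D218440 (iv3 D215007) (iv4 D164348) (iv3 F161587)
theorem F493907 : act 6 n218440 = n207206 := d7_2 F419865 D218440 F443797
theorem F493908 : act 0 n218440 = n210085 := d19_4 F77733 D105370 (iv4 F376377) D218440 (iv5 F456098) (iv4 D207605) (iv3 D132110) (iv1 D61984) (iv5 D29354) F23242 (iv3 D6664) D6662 D14017 F23379 (iv3 F23564) (iv1 F46703) (iv5 D29065) D29064 (iv3 F77732)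
theorem F493909 : act 5 n207479 = n218440 := d9_0 F493906 F477857 F449401 F352501 (iv4 D131835) D131836 D207481 (iv5 F493745) F493744 (iv5 D215040) F259227 F352504 (iv4 D131830) D131831 D207479
def n218441 : Q := act 5 n189303
theorem D218441 : act 5 n189303 = n218441 := rfl
theorem F493910 : act 2 n218441 = n201194 := d2_1 D218441 (iv5 D201194) F376379
theorem F493911 : act 3 n218441 = n207479 := d6_1 D218441 F493909 (iv3 D218440)
theorem F493912 : act 4 n218441 = n200359 := d16_2 (iv4 F376377) D218441 (iv5 D200359) (iv4 D113023) F139270 F95742 D106695 F164414 (iv2 F161586)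
theorem F493913 : act 0 n218441 = n207206 := d17_2 D189303 D218441 (iv5 D207206) (iv4 D130607) (iv5 D61284) D61282 (iv5 F144710) (iv0 D93874) D93876
theorem F493914 : act 1 n218441 = n189432 := d17_6 (iv1 F164425) (iv5 D106506) F77733 D105370 (iv4 F376377) D218441 F376604 (iv0 F399581) (iv4 D196139)
def n218442 : Q := act 5 n189304
theorem D218442 : act 5 n189304 = n218442 := rfl
theorem F493915 : act 3 n218442 = n189411 := d6_1 D218442 (iv5 D189411) F376383
theorem F493916 : act 4 n218442 = n200360 := d9_1 D218442 (iv5 D200360) (iv4 D113024) (iv5 F82482) (iv4 F76662) D105370 (iv4 F376377) D218441 F493912 (iv5 D200359) (iv4 D113023) F139270 F95742 D106695 (iv4 F376382)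
theorem F493917 : act 7 n218442 = n201194 := d13_2 (iv7 F376381) D218442 (iv5 D201194)
theorem F493918 : act 0 n218442 = n189432 := d17_2 (iv1 F376380) D218442 F376604 (iv4 D188817) (iv5 D92819) F95754 (iv5 F144713) F144712 D93878
theorem F493919 : act 1 n218442 = n207206 := d17_6 F139176 (iv5 D49304) D49302 D106695 (iv4 F376382) D218442 (iv5 D207206) (iv0 F371113) (iv4 D187653)
def n218443 : Q := act 1 n189305
theorem D218443 : act 1 n189305 = n218443 := rfl
theorem F493920 : act 7 n218443 = n189322 := d15_2 (iv0 F492875) D218443 (iv2 F492871)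
theorem F493921 : act 5 n218443 = n189433 := d17_7 (iv1 F371794) (iv5 F413462) (iv1 D187842) (iv5 F214518) (iv4 F447966) (iv5 F447968) D218443 F490571 F490568
theorem F493922 : act 4 n218443 = n189324 := d17_9 (iv1 F492523) (iv5 D218174) (iv1 D188653) F142668 (iv4 F144748) D189374 F447967 (iv5 F447968) D218443
theorem F493923 : act 3 n214976 = n218443 := d19_19 (iv1 D218443) F447968 F447966 F214517 D133412 D208121 F447972 (iv3 D192646) D192645 F387337 (iv4 F247327) (iv3 F404390) (iv1 F404395) (iv5 F404388) (iv4 F476404) F476403 (iv1 F298084) D164110 D214976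
def n218444 : Q := act 2 n189305
theorem D218444 : act 2 n189305 = n218444 := rfl
theorem F493924 : act 3 n218444 = n200402 := d0_2 D189305 D218444 F416308 (iv3 F214513) F214512
theorem F493925 : act 4 n218444 = n195997 := d1_2 F402757 D218444 F411626
theorem F493926 : act 5 n218444 = n189307 := d2_2 (iv5 F447968) D218444 (iv2 F447964)
theorem F493927 : act 6 n218444 = n189409 := d3_2 F493749 D218444 (iv2 F493751)
theorem F493928 : act 0 n218444 = n189322 := d21_4 (iv5 F487038) (iv1 D200410) (iv5 F376551) (iv6 F493927) (iv6 D189322) D189321 (iv1 F419393) (iv5 D201194) (iv6 F419391) F487039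
def n218445 : Q := act 0 n189306
theorem D218445 : act 0 n189306 = n218445 := rfl
theorem F493929 : act 5 n218445 = n189314 := d17_1 D218445 (iv1 F376396) D189321 (iv4 F477697) (iv5 D214970) (iv0 D164102) D164104 (iv0 F355625) (iv4 F376385)
theorem F493930 : act 4 n218445 = n191716 := d18_1 D218445 F384245 (iv4 F399810) (iv5 D196192) (iv4 D106739) (iv0 F161588) (iv4 F376377) (iv0 D189303) D189306
theorem F493931 : act 1 n189312 = n218445 := d15_0 (iv0 D218445) (iv7 F468136) F468134
theorem F493932 : act 7 n218445 = n217622 := d15_2 F487043 F493931 F489822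
theorem F493933 : act 3 n207484 = n218445 := d19_19 (iv1 F493931) (iv5 D189312) (iv4 D93878) F69008 F37046 (iv5 D13811) (iv4 D6568) F4527 D2933 F4533 (iv4 F5497) (iv3 F11982) F20013 F20011 D13956 D29332 D61907 (iv5 F367308) D207484
theorem F493934 : act 6 n215647 = n218445 := d10_0 F493930 F384244 D215647
def n218446 : Q := act 7 n189307
theorem D218446 : act 7 n189307 = n218446 := rfl
theorem F493935 : act 3 n218446 = n189410 := d8_1 D218446 F493752 (iv3 F493750)
theorem F493936 : act 4 n218446 = n189310 := d11_1 D218446 (iv7 D189310) (iv4 F376387)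
theorem F493937 : act 0 n189374 = n218446 := d18_0 F493936 (iv1 F376391) D217766 F490517 F376827 F376275 (iv4 F376927) (iv0 D189372) D189374
def n218447 : Q := act 4 n189309
theorem D218447 : act 4 n189309 = n218447 := rfl
theorem F493938 : act 2 n218447 = n217766 := d1_1 D218447 (iv4 D217766) F376947
theorem F493939 : act 3 n218447 = n200407 := d5_1 D218447 (iv4 D200407) D200406 (iv4 F416318) (iv3 F377229)
theorem F493940 : act 5 n218447 = n218427 := d9_2 F376390 D218447 F493830 (iv5 F413483) F413482 (iv5 F364225) (iv4 F376937) (iv5 F376388) (iv4 F376934) (iv5 D189536) F144859 D94028 (iv4 F374323) (iv5 F489397) (iv4 D217541)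
theorem F493941 : act 7 n218447 = n217769 := d11_2 F376943 D218447 (iv4 D217769)
theorem F493942 : act 0 n218447 = n196012 := d18_2 (iv1 F392391) D218447 F399059 (iv5 F250914) (iv4 F475121) F482536 (iv4 F489364) F489362 (iv5 F392389)
theorem F493943 : act 1 n218447 = n203436 := d18_6 (iv1 D187565) (iv4 F370822) F489399 (iv4 D217541) F376390 D218447 F428292 F399065 F376829
theorem F493944 : act 6 n218421 = n218447 := d7_0 F493939 (iv6 F481109) D218421
def n218448 : Q := act 6 n189309
theorem D218448 : act 6 n189309 = n218448 := rfl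
theorem F493945 : act 2 n218448 = n190028 := d3_1 D218448 F378613 F376947
theorem F493946 : act 3 n218448 = n217332 := d7_1 D218448 (iv6 F488479) (iv3 F377229)
theorem F493947 : act 4 n218448 = n218421 := d10_1 D218448 F493944 (iv4 D218447)
theorem F493948 : act 5 n218448 = n189671 := d12_1 D218448 (iv6 D189671) D189670 F377324 F376390
theorem F493949 : act 7 n218448 = n189384 := d14_2 F376943 D218448 (iv6 D189384) (iv7 F376946) F375216
theorem F493950 : act 0 n218448 = n216846 := d21_4 (iv5 F138914) D187527 F376390 D218448 (iv6 D216846) (iv5 F447630) (iv1 F490688) F490685 F413464 (iv1 D93970)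
theorem F493951 : act 0 n218102 = n218448 := d21_4 (iv5 F421031) F421032 (iv5 F416088) (iv6 F492154) (iv6 D218448) (iv5 F376390) (iv1 F370690) (iv5 F371791) F371792 (iv1 F376234)
def n218449 : Q := act 0 n189311
theorem D218449 : act 0 n189311 = n218449 := rfl
theorem F493952 : act 3 n218449 = n207487 := d20_5 (iv4 D189300) (iv1 F144711) D93878 D189311 D218449 (iv4 D207487) (iv1 D131841) D131842 F211250 (iv1 F376373)
theorem F493953 : act 1 n200402 = n218449 := d15_0 (iv0 D218449) F376393 (iv2 F416308)
def n218450 : Q := act 1 n189311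
theorem D218450 : act 1 n189311 = n218450 := rfl
theorem F493954 : act 4 n218450 = n200251 := d17_9 F447780 F447777 F393052 F388004 (iv4 F489104) F489105 D218411 (iv5 F493759) D218450
theorem F493955 : act 7 n200410 = n218450 := d11_0 F493954 (iv7 F416187) F416322
theorem F493956 : act 0 n200402 = n218450 := d18_2 (iv1 F396271) D200402 F493954 (iv5 F447708) F447711 F245968 F245964 F214375 F396272
theorem F493957 : act 2 n218450 = n200409 := d15_3 (iv0 D200409) D200410 F493955
theorem F493958 : act 2 n200410 = n218449 := d15_3 (iv0 D218449) D218450 (iv7 F493955)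
theorem F493959 : act 7 n218449 = n200409 := d4_2 (iv7 F493955) F493958 (iv2 F493957)
def n218451 : Q := act 2 n189311
theorem D218451 : act 2 n189311 = n218451 := rfl
theorem F493960 : act 4 n218451 = n195211 := d1_2 (iv4 F376392) D218451 (iv2 D195211)
theorem F493961 : act 5 n218451 = n189410 := d2_2 (iv5 F493759) D218451 F493757
theorem F493962 : act 7 n218451 = n200402 := d4_2 (iv7 F376393) D218451 F416308
theorem F493963 : act 1 n218451 = n200409 := d15_0 (iv0 D200409) (iv7 F376393) D218451
theorem F493964 : act 1 n200410 = n218451 := d15_0 F493963 (iv7 F493959) (iv2 F493958)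
theorem F493965 : act 6 n209917 = n218451 := d21_5 F376230 (iv1 F483118) (iv5 D216131) D216132 (iv1 F483125) F493961 (iv1 D189410) D189411 F376552 F381946
def n218452 : Q := act 6 n189311
theorem D218452 : act 6 n189311 = n218452 := rfl
theorem F493966 : act 2 n218452 = n209917 := d3_1 D218452 F493965 (iv2 D218451)
theorem F493967 : act 3 n218452 = n189313 := d7_1 D218452 (iv6 D189313) D189311
theorem F493968 : act 4 n218452 = n195206 := d10_1 D218452 F396251 (iv4 F376392)
theorem F493969 : act 7 n218452 = n209916 := d14_2 (iv7 F376393) D218452 F468137 F468136 (iv6 F376386)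
theorem F493970 : act 0 n206392 = n218452 := d21_4 (iv5 F493726) (iv1 F493729) (iv5 F483101) F483099 (iv6 D218452) F493759 (iv1 D218411) (iv5 F489105) (iv6 D217485) D217484
theorem F493971 : act 1 n209910 = n218452 := d15_0 (iv0 F493970) F440571 (iv2 F455332)
def n218453 : Q := act 6 n189312
theorem D218453 : act 6 n189312 = n218453 := rfl
theorem F493972 : act 2 n218453 = n209916 := d3_1 D218453 F468137 F468134
theorem F493973 : act 4 n218453 = n202711 := d10_1 D218453 (iv6 F477708) F477711
theorem F493974 : act 7 n218453 = n209917 := d14_2 F447961 D218453 F493965 F493962 F447963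
theorem F493975 : act 0 n218453 = n206392 := d21_4 (iv5 D218441) (iv1 F376378) D189312 D218453 (iv6 F483099) F483101 (iv1 D189369) (iv5 F144782) D189432 (iv1 F493914)
theorem F493976 : act 1 n218453 = n209910 := d15_1 (iv0 F493975) (iv7 F483124) F483120
def n218454 : Q := act 5 n189313
theorem D218454 : act 5 n189313 = n218454 := rfl
theorem F493977 : act 0 n218454 = n200543 := d18_0 (iv4 D200543) (iv1 F232044) D205303 F435869 F392379 F376813 D215605 F480733 D218454
theorem F493978 : act 1 n218454 = n200540 := d15_1 (iv0 F493977) (iv7 F436606) F436605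
def n218455 : Q := act 3 n189314
theorem D218455 : act 3 n189314 = n218455 := rfl
theorem F493979 : act 4 n218455 = n215299 := d5_2 (iv4 F376395) D218455 F479274 F379455 F175858
theorem F493980 : act 5 n218455 = n207484 := d6_2 F493929 D218455 F493933
theorem F493981 : act 7 n218455 = n217621 := d8_2 (iv7 F376397) D218455 (iv3 D217621)
theorem F493982 : act 6 n215298 = n218455 := d14_5 F493981 F489821 (iv7 F376547) (iv6 F392400) (iv7 F479272)
def n218456 : Q := act 6 n189314
theorem D218456 : act 6 n189314 = n218456 := rfl
theorem F493983 : act 3 n218456 = n215298 := d7_1 D218456 F493982 (iv3 D218455)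
theorem F493984 : act 4 n218456 = n195995 := d10_1 D218456 (iv6 D195995) (iv4 F376395)
theorem F493985 : act 7 n218456 = n189407 := d14_2 (iv7 F376397) D218456 (iv6 D189407) F144777 (iv6 F371112)
theorem F493986 : act 0 n218456 = n189488 := d21_4 D189306 D218445 F493929 D218456 F493721 F493719 (iv1 D189393) (iv5 F144778) F376384 (iv1 D189304)
theorem F493987 : act 1 n218456 = n189366 := d15_1 (iv0 F493986) (iv7 F376795) (iv2 F376796)
def n218457 : Q := act 0 n189316
theorem D218457 : act 0 n189316 = n218457 := rfl
theorem F493988 : act 5 n218457 = n195993 := d17_1 D218457 F398996 D208119 F447962 F377288 (iv0 F251188) (iv5 F377280) (iv0 F447923) F447922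
theorem F493989 : act 3 n218457 = n207533 := d20_5 (iv4 D217772) (iv1 F371793) (iv4 F376599) F376601 D218457 (iv4 D207533) (iv1 F399272) (iv4 F490968) (iv3 D217860) (iv1 F490543)
theorem F493990 : act 2 n218442 = n218457 := d15_3 (iv0 D218457) (iv0 F419392) (iv7 F493917)
theorem F493991 : act 1 n189321 = n218457 := d15_0 (iv0 D218457) F376606 (iv2 F376605)
theorem F493992 : act 7 n218457 = n218441 := d15_2 F419393 F493991 F493910
def n218458 : Q := act 6 n189316
theorem D218458 : act 6 n189316 = n218458 := rfl
theorem F493993 : act 2 n218458 = n218440 := d3_1 D218458 F493907 F443796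
theorem F493994 : act 3 n218458 = n218412 := d7_1 D218458 F493763 F376601
theorem F493995 : act 7 n218458 = n218409 := d14_2 (iv7 F376606) D218458 (iv6 D218409) F376231 D189432
theorem F493996 : act 5 n207534 = n218458 := d13_3 F493995 F493745 (iv7 F445335)
def n218459 : Q := act 0 n189317
theorem D218459 : act 0 n189317 = n218459 := rfl
theorem F493997 : act 4 n218459 = n208024 := d18_3 (iv1 D189319) (iv4 F376399) D218459 F447494 F214056 F214236 D208048 (iv0 F447631) F444576
theorem F493998 : act 6 n218459 = n189433 := d21_5 D201194 F419392 (iv5 D189316) D189317 D218459 (iv5 F493921) (iv1 D218443) F447968 (iv6 D208120) F214515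
theorem F493999 : act 7 n208023 = n218459 := d14_0 F493998 (iv7 F490557) F490553 (iv7 F493727) (iv6 F493730)
def n218460 : Q := act 5 n189317
theorem D218460 : act 5 n189317 = n218460 := rfl
theorem F494000 : act 6 n218460 = n207534 := d12_2 D189317 D218460 F493996 (iv6 D218458) (iv5 D189316)
theorem F494001 : act 4 n218460 = n207535 := d16_2 (iv4 F376399) D218460 F445338 F430220 (iv5 F336072) F336071 (iv5 F443806) (iv7 D207210) F209184
theorem F494002 : act 0 n214897 = n218460 := d19_0 (iv5 D218460) F376399 (iv3 F238535) (iv1 F391868) (iv5 D194048) (iv4 D102610) F74846 (iv1 F65852) (iv5 D22016) F66244 (iv3 F66280) (iv1 D37846) F29315 (iv4 F33473) (iv3 F70186) F295217 D86895 D181930 (iv3 F477328)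
def n218461 : Q := act 3 n189318
theorem D218461 : act 3 n189318 = n218461 := rfl
theorem F494003 : act 5 n218461 = n208036 := d6_2 F490685 D218461 (iv3 F490683)
theorem F494004 : act 6 n218461 = n189441 := d7_2 (iv6 F413464) D218461 (iv3 D189441)
theorem F494005 : act 0 n218461 = n208893 := d19_4 (iv1 F490995) (iv5 F493787) F493788 D218461 (iv5 D208893) F217478 (iv3 D131997) (iv1 D61938) (iv5 F332798) (iv4 D52287) (iv3 F165636) (iv1 F79783) (iv5 F48233) (iv4 F98908) (iv3 F321703) (iv1 F176888) (iv5 F399585) (iv4 F493793) F493792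
theorem F494006 : act 0 n196155 = n218461 := d20_4 (iv4 F383888) F383889 (iv4 F383014) (iv3 F399642) (iv3 D218461) (iv4 F493788) (iv1 D218417) (iv4 F391736) (iv3 F395439) F395442
def n218462 : Q := act 6 n189319
theorem D218462 : act 6 n189319 = n218462 := rfl
theorem F494007 : act 2 n218462 = n218344 := d3_1 D218462 F493422 F447613
theorem F494008 : act 3 n218462 = n208909 := d7_1 D218462 F451362 (iv3 F443810)
theorem F494009 : act 5 n218462 = n189404 := d12_1 D218462 F376540 (iv5 F217584) D207376 F444576
theorem F494010 : act 7 n218462 = n189439 := d14_2 F447615 D218462 (iv6 D189439) (iv7 F399774) (iv6 F447618)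
theorem F494011 : act 0 n189490 = n218462 := d21_4 (iv5 F379719) F379721 (iv5 D189489) D189490 (iv6 D218462) (iv5 F444576) F447631 F447630 D216846 F486191
def n218463 : Q := act 1 n189320
theorem D218463 : act 1 n189320 = n218463 := rfl
theorem F494012 : act 7 n218463 = n189411 := d15_2 (iv0 F489106) D218463 (iv2 F489102)
theorem F494013 : act 4 n218463 = n200235 := d18_7 F443554 F443552 (iv1 D156454) F111654 (iv5 F210022) (iv4 F376400) D218463 (iv0 F482194) (iv5 D215943)
theorem F494014 : act 5 n218463 = n189412 := d18_9 (iv1 F493754) F493756 (iv1 D189553) F144878 D189451 (iv4 F416293) F416296 (iv4 F376400) D218463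
theorem F494015 : act 3 n201194 = n218463 := d6_3 F494014 F376553 D201194
def n218464 : Q := act 2 n189320
theorem D218464 : act 2 n189320 = n218464 := rfl
theorem F494016 : act 3 n218464 = n189372 := d0_2 D189320 D218464 (iv2 F376926) (iv3 F376603) F374985
theorem F494017 : act 4 n218464 = n200395 := d1_2 (iv4 F376400) D218464 (iv2 F416285)
theorem F494018 : act 5 n217776 = n218464 := d9_0 F494017 F416284 (iv4 F245964) (iv5 F356544) F178098 D114262 D201286 (iv5 F443521) (iv4 D207147) (iv5 D130530) (iv4 F100735) D138276 (iv4 F336380) (iv5 F399861) (iv4 F490563)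
theorem F494019 : act 6 n214975 = n218464 := d10_0 F494017 (iv6 F416288) D214975
theorem F494020 : act 1 n189411 = n218464 := d17_8 (iv1 F416287) (iv5 D113073) (iv1 D52189) D52191 D113080 (iv5 F376551) (iv0 D189409) D189411 F494017
def n218465 : Q := act 5 n189320
theorem D218465 : act 5 n189320 = n218465 := rfl
theorem F494021 : act 2 n218465 = n217776 := d2_1 D218465 F494018 (iv2 D218464)
theorem F494022 : act 3 n218465 = n189321 := d6_1 D218465 (iv5 D189321) D189320
theorem F494023 : act 7 n218465 = n201286 := d13_2 F443520 D218465 (iv5 F443521)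
theorem F494024 : act 4 n218465 = n189566 := d16_2 (iv4 F376400) D218465 F376905 (iv4 F419859) F419860 F221476 (iv5 F377578) (iv7 F416286) (iv2 F416285)
theorem F494025 : act 1 n218465 = n217024 := d17_6 (iv1 F396287) (iv5 F396280) (iv1 D133340) (iv5 F210022) (iv4 F376400) D218465 (iv5 F487038) F493964 F493960
theorem F494026 : act 6 n218465 = n189564 := d21_9 F376595 (iv1 D189430) F144782 D189371 (iv1 F490572) F490570 (iv5 F494014) (iv1 D218463) D218465 F376892
theorem F494027 : act 1 n208134 = n218465 := d17_8 (iv1 F376907) F163789 F395447 F395445 (iv4 F395448) (iv5 F493961) F493963 (iv5 F448029) F494024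
def n218466 : Q := act 6 n189320
theorem D218466 : act 6 n189320 = n218466 := rfl
theorem F494028 : act 2 n218466 = n214975 := d3_1 D218466 F494019 (iv2 D218464)
theorem F494029 : act 3 n218466 = n189322 := d7_1 D218466 (iv6 D189322) D189320
theorem F494030 : act 4 n218466 = n203879 := d10_1 D218466 F430205 (iv4 F376400)
theorem F494031 : act 5 n218466 = n215637 := d12_1 D218466 (iv6 F483115) F483109 (iv6 F494026) (iv5 D218465)
theorem F494032 : act 7 n218466 = n214976 := d14_2 F443520 D218466 F477725 (iv7 F492167) F492166
def n218467 : Q := act 1 n189325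
theorem D218467 : act 1 n189325 = n218467 := rfl
theorem F494033 : act 1 n218467 = n207530 := d15_1 D218467 (iv7 F490972) F490967
theorem F494034 : act 7 n218467 = n207537 := d15_2 (iv0 F376850) D218467 (iv2 F445344)
theorem F494035 : act 4 n196207 = n218467 := d20_6 F96423 F47693 (iv4 F47000) F322878 (iv1 F177832) D196207 (iv1 D218467) F376403 F164181 (iv1 F96425)
theorem F494036 : act 3 n196205 = n218467 := d20_9 F376403 (iv1 F362892) D207479 (iv3 F493911) F493913 F443797 (iv4 D201286) F398466 D196205 (iv1 D218467)
theorem F494037 : act 6 n189445 = n218467 := d21_3 F493859 (iv1 F493796) F491000 (iv1 D218467) (iv6 F490992) (iv5 F493821) (iv1 F493824) (iv5 F493852) (iv6 F493854) (iv1 F493862)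
theorem F494038 : act 2 n218467 = n207536 := d3_1 F494037 (iv6 F490989) F490998
def n218468 : Q := act 5 n189325
theorem D218468 : act 5 n189325 = n218468 := rfl
theorem F494039 : act 3 n218468 = n189326 := d6_1 D218468 (iv5 D189326) D189325
theorem F494040 : act 6 n218468 = n200404 := d12_2 F490992 D218468 F447696 F493825 F493821
theorem F494041 : act 7 n218468 = n207538 := d13_2 (iv7 F376404) D218468 (iv5 D207538)
theorem F494042 : act 4 n218468 = n200405 := d16_2 (iv4 F376403) D218468 (iv5 F416315) F445253 (iv5 D207517) F211380 D131942 (iv7 F399270) F399268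
def n218469 : Q := act 6 n189326
theorem D218469 : act 6 n189326 = n218469 := rfl
theorem F494043 : act 3 n218469 = n200404 := d7_1 D218469 (iv6 F494040) F494039
theorem F494044 : act 4 n218469 = n210086 := d10_1 D218469 (iv6 F490319) F490318
theorem F494045 : act 5 n218469 = n207537 := d12_1 D218469 F445343 F376824 (iv6 D189327) D189326
def n218470 : Q := act 6 n189332
theorem D218470 : act 6 n189332 = n218470 := rfl
theorem F494046 : act 2 n218470 = n218469 := d3_1 D218470 (iv6 D218469) F376417
theorem F494047 : act 3 n218470 = n189536 := d7_1 D218470 (iv6 F376925) F376923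
theorem F494048 : act 5 n218470 = n189533 := d12_1 D218470 (iv6 D189533) F144858 (iv6 F376183) (iv5 F376416)
theorem F494049 : act 1 n217188 = n218470 := d18_8 (iv1 F445320) (iv4 D207530) F352570 D207481 (iv5 F493745) F493744 F478026 D217188 F494048
theorem F494050 : act 0 n207491 = n218470 := d19_0 F494048 (iv4 F445621) F445622 F399341 (iv5 D196078) F212742 F441419 (iv1 D206580) F421756 F421755 F398551 F398392 F398390 (iv4 F399681) F399680 (iv1 F399530) D218437 F493891 (iv3 F445126)
def n218471 : Q := act 6 n189334
theorem D218471 : act 6 n189334 = n218471 := rfl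
theorem F494051 : act 2 n218471 = n189467 := d3_1 D218471 F493902 F493896
theorem F494052 : act 3 n218471 = n189340 := d7_1 D218471 (iv6 D189340) (iv3 F376419)
theorem F494053 : act 4 n218471 = n218110 := d10_1 D218471 F492184 F377283
theorem F494054 : act 7 n218471 = n189462 := d14_2 D189334 D218471 F430970 (iv7 D93980) (iv6 F144718)
theorem F494055 : act 5 n189464 = n218471 := d21_2 (iv5 F144787) (iv1 F486027) (iv6 D218471) F376420 D218469 F494045 (iv1 D207537) D207538 (iv6 F483096) (iv1 D189259)
theorem F494056 : act 0 n194199 = n218471 := d20_7 (iv4 F373652) (iv1 D188164) (iv4 F249013) (iv3 F474519) F474523 (iv3 F456081) F456082 F494053 F492183 (iv1 F373797)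
def n218472 : Q := act 6 n189335
theorem D218472 : act 6 n189335 = n218472 := rfl
theorem F494057 : act 4 n218472 = n214150 := d10_1 D218472 (iv6 F493892) F493891
theorem F494058 : act 0 n218472 = n200404 := d21_4 F376409 F376375 (iv5 F376424) D218472 (iv6 F494040) (iv5 D218468) F376850 (iv5 F494048) (iv6 D218470) (iv1 D189332)
theorem F494059 : act 0 n200407 = n218472 := d21_4 F376467 D215300 F479277 F481109 (iv6 D218472) F376424 (iv1 F376373) D218438 (iv6 F493902) (iv1 F377576)
theorem F494060 : act 5 n218413 = n218472 := d21_8 F477715 (iv1 F376188) D189329 (iv6 F382733) (iv1 F493868) F493866 F416307 F493769 (iv6 D218472) (iv1 F477718)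
def n218473 : Q := act 3 n189336
theorem D218473 : act 3 n189336 = n218473 := rfl
theorem F494061 : act 4 n218473 = n218173 := d5_2 F399543 D218473 F492514 F462050 (iv3 F399540)
theorem F494062 : act 5 n218473 = n203436 := d6_2 (iv5 F376425) D218473 (iv3 D203436)
theorem F494063 : act 7 n218473 = n218282 := d8_2 F493710 D218473 F493711
theorem F494064 : act 0 n218473 = n218419 := d19_4 (iv1 D196129) D196130 F399543 D218473 F493799 (iv4 D217773) F399773 (iv1 D102912) (iv5 F293200) (iv4 F143233) (iv3 F374980) (iv1 F489387) (iv5 D217539) F370685 (iv3 F370682) (iv1 F420339) (iv5 D201398) (iv4 F340030) F399536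
theorem F494065 : act 2 n218473 = n218279 := d15_3 F493082 (iv0 F493096) (iv7 F494063)
theorem F494066 : act 0 n195996 = n218473 := d17_0 F494062 (iv1 F493943) F493940 F493830 (iv5 F413483) F413486 F376861 (iv0 F341617) (iv4 F399010)
def n218474 : Q := act 0 n189338
theorem D218474 : act 0 n189338 = n218474 := rfl
theorem F494067 : act 6 n218474 = n215300 := d21_5 (iv5 D189329) (iv1 D93885) D93887 D189338 D218474 F479277 (iv1 F376643) (iv5 D189471) (iv6 F376418) (iv1 F376423)
def n218475 : Q := act 1 n189338
theorem D218475 : act 1 n189338 = n218475 := rfl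
theorem F494068 : act 3 n218417 = n218475 := d19_19 (iv1 D218475) F376429 F144788 (iv3 F363534) F147691 (iv5 F147173) (iv4 D95539) D95538 F157797 (iv5 D97087) (iv4 F149771) F149770 F157630 D186796 F391859 (iv3 F447627) (iv1 F490688) F490685 (iv4 F493788)
def n218476 : Q := act 7 n189338
theorem D218476 : act 7 n189338 = n218476 := rfl
theorem F494069 : act 3 n218476 = n189399 := d8_1 D218476 (iv7 F493740) F493737
theorem F494070 : act 4 n218476 = n215704 := d11_1 D218476 (iv7 F486538) (iv4 F486540)
theorem F494071 : act 5 n218476 = n189479 := d13_1 D218476 (iv7 D189479) (iv5 F376429)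
theorem F494072 : act 6 n218476 = n214985 := d14_1 D218476 F477757 F477633 (iv7 D189339) D189338
def n218477 : Q := act 5 n189340
theorem D218477 : act 5 n189340 = n218477 := rfl
theorem F494073 : act 2 n218477 = n218476 := d2_1 D218477 F494071 F376655
theorem F494074 : act 3 n218477 = n189464 := d6_1 D218477 F494055 F494052
theorem F494075 : act 6 n218477 = n214986 := d12_2 D189340 D218477 F477762 F477633 F376431
theorem F494076 : act 7 n218477 = n189460 := d13_2 (iv7 F376433) D218477 F430972
theorem F494077 : act 4 n218477 = n214987 := d16_2 (iv4 F376432) D218477 F477763 F474429 (iv5 D188487) (iv4 F141961) F293603 (iv7 F376193) F376190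
theorem F494078 : act 1 n218475 = n218477 := d15_1 D218475 F494076 F430971
theorem F494079 : act 1 n218477 = n218474 := d15_0 (iv0 D218474) D218476 (iv2 F494073)
def n218478 : Q := act 6 n189343
theorem D218478 : act 6 n189343 = n218478 := rfl
theorem F494080 : act 2 n218478 = n189351 := d3_1 D218478 (iv6 D189351) (iv2 F376442)
theorem F494081 : act 3 n218478 = n216876 := d7_1 D218478 F486337 F379612
theorem F494082 : act 4 n218478 = n189344 := d10_1 D218478 (iv6 D189344) D189343
theorem F494083 : act 7 n218478 = n212606 := d14_2 F451637 D218478 F466662 (iv7 D208977) (iv6 F451635)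
theorem F494084 : act 0 n218478 = n212955 := d21_4 D191713 (iv1 F451646) F451643 D218478 F468303 F430298 (iv1 F193589) (iv5 F252362) (iv6 F371734) F371736
theorem F494085 : act 5 n218478 = n212593 := d21_6 F448396 (iv1 F373943) F355732 F355689 (iv1 F376443) D218478 (iv1 D212593) (iv5 F448377) F448378 (iv1 F448394)
theorem F494086 : act 0 n216951 = n218478 := d21_4 F376256 F374493 (iv5 F376704) (iv6 F486682) (iv6 D218478) (iv5 F451643) (iv1 F451645) (iv5 F468459) F468460 (iv1 F376259)
def n218479 : Q := act 1 n189344
theorem D218479 : act 1 n189344 = n218479 := rfl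
theorem F494087 : act 1 n218479 = n189354 := d15_1 D218479 (iv7 D189354) (iv2 F376444)
theorem F494088 : act 7 n218479 = n189352 := d15_2 (iv0 F468435) D218479 (iv2 F468430)
theorem F494089 : act 5 n218479 = n212943 := d17_7 D188840 F398875 (iv1 D195963) F163733 (iv4 F244596) (iv5 F376445) D218479 (iv0 D212943) (iv4 F365303)
theorem F494090 : act 4 n218479 = n194181 := d17_9 F444805 F444802 F465031 F465028 F444719 (iv5 F471975) (iv0 D213763) (iv5 F376445) D218479
theorem F494091 : act 2 n189353 = n218479 := d1_3 F494090 F392280 (iv4 F392300)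
theorem F494092 : act 6 n194180 = n218479 := d10_0 F494090 (iv6 D194181) D194180
theorem F494093 : act 3 n217328 = n218479 := d20_5 (iv4 D107546) (iv1 F98040) D133772 (iv3 F402851) (iv1 F488453) F494090 F444805 (iv4 F468179) (iv3 D212930) F238342
def n218480 : Q := act 1 n189349
theorem D218480 : act 1 n189349 = n218480 := rfl
theorem F494094 : act 5 n218480 = n212381 := d17_7 (iv1 D183483) (iv5 D87580) (iv1 F157628) D182916 (iv4 F376908) (iv5 F376909) D218480 (iv0 D212381) F367055
theorem F494095 : act 6 n215604 = n218480 := d21_3 F144857 (iv1 F342084) D215604 (iv1 D218480) (iv6 F376911) (iv5 F466663) F466664 (iv5 D203445) (iv6 F376817) (iv1 D189528)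
theorem F494096 : act 2 n218480 = n208524 := d3_1 F494095 (iv6 F463944) (iv2 F480727)
theorem F494097 : act 0 n208019 = n218480 := d21_4 (iv5 D208022) (iv1 D133212) D133213 (iv6 F447467) (iv6 F494095) (iv5 D215604) (iv1 D175932) D175933 (iv6 F376802) (iv1 F447489)
def n218481 : Q := act 2 n189349
theorem D218481 : act 2 n189349 = n218481 := rfl
theorem F494098 : act 3 n218481 = n208027 := d0_2 D189349 D218481 F447512 F379612 F376442
theorem F494099 : act 4 n218481 = n189370 := d1_2 (iv4 F376452) D218481 (iv2 D189370)
theorem F494100 : act 5 n218481 = n208020 := d2_2 (iv5 F376909) D218481 F447469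
theorem F494101 : act 6 n218481 = n189568 := d3_2 F376911 D218481 (iv2 F447501)
theorem F494102 : act 7 n218481 = n208019 := d4_2 F493716 D218481 (iv2 F493712)
theorem F494103 : act 1 n218481 = n208524 := d15_0 (iv0 F493717) F493716 D218481
def n218482 : Q := act 6 n189350
theorem D218482 : act 6 n189350 = n218482 := rfl
theorem F494104 : act 2 n218482 = n200916 := d3_1 D218482 (iv6 F451644) F451640
theorem F494105 : act 3 n218482 = n209002 := d7_1 D218482 (iv6 F451795) F376910
theorem F494106 : act 5 n218482 = n212608 := d12_1 D218482 (iv6 D212608) F448372 (iv6 D189351) D189350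
theorem F494107 : act 7 n218482 = n209082 := d14_2 (iv7 F451595) D218482 (iv6 D209082) F218199 D208964
theorem F494108 : act 0 n218482 = n195745 := d21_4 F475842 (iv1 D189348) D189350 D218482 (iv6 D195745) F163279 F82324 (iv5 F114807) D159928 D214570
theorem F494109 : act 1 n218482 = n208994 := d15_1 (iv0 F494108) F451747 (iv2 F398028)
def n218483 : Q := act 7 n189351
theorem D218483 : act 7 n189351 = n218483 := rfl
theorem F494110 : act 2 n218483 = n212606 := d4_1 D218483 (iv7 F494083) F494080
theorem F494111 : act 3 n218483 = n189569 := d8_1 D218483 (iv7 F447499) (iv3 F376912)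
theorem F494112 : act 4 n218483 = n189354 := d11_1 D218483 (iv7 D189354) (iv4 F376453)
theorem F494113 : act 5 n218483 = n212284 := d13_1 D218483 (iv7 F465138) F448372
theorem F494114 : act 6 n218483 = n212285 := d14_1 D218483 F465142 F451611 F376202 D189351
theorem F494115 : act 1 n216951 = n218483 := d15_1 (iv0 F494086) (iv7 D218483) (iv2 F494080)
theorem F494116 : act 1 n218483 = n212955 := d15_1 F494115 (iv7 F487033) F487029
def n218484 : Q := act 3 n189357
theorem D218484 : act 3 n189357 = n218484 := rfl
theorem F494117 : act 2 n218484 = n215683 := d0_1 D218484 (iv3 D215683) F276260 D176905 (iv2 F376463)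
theorem F494118 : act 4 n218484 = n189359 := d5_2 D189357 D218484 (iv3 D189359) (iv4 D93910) D93909
theorem F494119 : act 6 n218484 = n216814 := d7_2 F464052 D218484 (iv3 F486033)
theorem F494120 : act 7 n218484 = n210079 := d8_2 F383025 D218484 F456081
theorem F494121 : act 0 n211733 = n218484 := d20_4 F182924 F415683 F415682 D211733 (iv3 D218484) (iv4 D189357) (iv1 F335777) D189612 (iv3 F425768) (iv1 D202830)
def n218485 : Q := act 5 n189357
theorem D218485 : act 5 n189357 = n218485 := rfl
theorem F494122 : act 2 n218485 = n215694 := d2_1 D218485 (iv5 D215694) (iv2 F376463)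
theorem F494123 : act 4 n218485 = n191320 := d16_2 D189357 D218485 (iv5 D191320) (iv4 D98041) (iv5 D45757) F34337 D45757 (iv7 F129396) (iv2 F294557)
theorem F494124 : act 0 n218485 = n208079 := d17_2 (iv1 F383028) D218485 (iv5 D208079) (iv4 F383022) (iv5 D191316) (iv0 F374548) D218203 F492702 (iv4 F383027)
theorem F494125 : act 1 n218485 = n206169 := d17_6 F293600 F295516 F294555 (iv5 F144733) D189357 D218485 F439550 F376172 F373604
theorem F494126 : act 6 n218485 = n215138 := d21_3 (iv5 F383026) (iv1 F383028) D218485 (iv1 F478548) (iv6 D187258) F137910 (iv1 F135304) (iv5 F147461) (iv6 F377138) (iv1 F381669)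
def n218486 : Q := act 2 n189359
theorem D218486 : act 2 n189359 = n218486 := rfl
theorem F494127 : act 3 n218486 = n215295 := d0_2 D189359 D218486 F479263 F294677 (iv2 F144734)
theorem F494128 : act 4 n218486 = n215683 := d1_2 F494118 D218486 (iv2 F494117)
theorem F494129 : act 5 n218486 = n215295 := d2_2 (iv5 F376467) D218486 F479263
theorem F494130 : act 1 n218486 = n218471 := d15_0 (iv0 F494056) F392358 D218486
def n218487 : Q := act 6 n189359
theorem D218487 : act 6 n189359 = n218487 := rfl
theorem F494131 : act 3 n218487 = n189360 := d7_1 D218487 (iv6 D189360) D189359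
theorem F494132 : act 4 n218487 = n216814 := d10_1 D218487 (iv6 F494119) F494118
theorem F494133 : act 5 n218487 = n189478 := d21_6 F376424 (iv1 F376373) D218438 (iv6 F493902) (iv1 F377576) D218487 (iv1 D189478) (iv5 F376429) (iv6 D189338) D189335
def n218488 : Q := act 4 n189361
theorem D218488 : act 4 n189361 = n218488 := rfl
theorem F494134 : act 2 n218488 = n216845 := d1_1 D218488 (iv4 D216845) (iv2 F413809)
theorem F494135 : act 3 n218488 = n215296 := d5_1 D218488 (iv4 D215296) F415867 (iv4 F448042) F448041
theorem F494136 : act 6 n218488 = n218119 := d10_2 (iv6 F376471) D218488 (iv4 D218119)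
theorem F494137 : act 7 n218488 = n216847 := d11_2 (iv7 F413807) D218488 (iv4 D216847)
theorem F494138 : act 1 n218488 = n189365 := d18_6 (iv1 D133212) F97479 D62541 D133272 (iv5 F376470) D218488 F376479 (iv0 F447488) (iv5 D208022)
def n218489 : Q := act 4 n189362
theorem D218489 : act 4 n189362 = n218489 := rfl
theorem F494139 : act 2 n218489 = n216847 := d1_1 D218489 (iv4 D216847) F413805
theorem F494140 : act 7 n218489 = n216845 := d11_2 F413808 D218489 (iv4 D216845)
theorem F494141 : act 0 n218489 = n189365 := d18_2 (iv1 F376473) D218489 F376479 (iv5 D188725) F321704 F213415 F347566 F288291 (iv5 F288408)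
def n218490 : Q := act 0 n189364
theorem D218490 : act 0 n189364 = n218490 := rfl
def n218491 : Q := act 1 n189364
theorem D218491 : act 1 n189364 = n218491 := rfl
theorem F494142 : act 5 n218491 = n217027 := d17_7 (iv1 F379714) (iv5 F488481) (iv1 D217332) F376248 (iv4 F376793) F376794 D218491 F492226 (iv4 D218119)
theorem F494143 : act 3 n218460 = n218491 := d19_19 (iv1 D218491) (iv5 F376794) F376793 (iv3 F376790) F376788 F238560 (iv4 F379795) F379794 F379751 F398060 (iv4 F398063) (iv3 F399981) (iv1 F441773) (iv5 F478121) F478120 (iv3 F416741) F430223 (iv5 F445338) (iv4 F494001)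
theorem F494144 : act 4 n218491 = n216815 := d5_2 (iv4 F494001) F494143 F486034 (iv4 F430225) (iv3 F445337)
theorem F494145 : act 7 n216813 = n218491 := d11_0 F494144 (iv7 D216815) (iv4 F486029)
theorem F494146 : act 2 n216813 = n218490 := d15_3 (iv0 D218490) D218491 (iv7 F494145)
theorem F494147 : act 4 n218490 = n211786 := d1_2 (iv4 F486029) F494146 F463071
theorem F494148 : act 6 n218490 = n189430 := d3_2 D216813 F494146 (iv2 F376594)
theorem F494149 : act 5 n217026 = n218490 := d21_8 F144782 D189368 F376482 D191252 F414467 F392400 F376546 D217026 F494148 (iv1 D189430)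
def n218492 : Q := act 2 n189364
theorem D218492 : act 2 n189364 = n218492 := rfl
theorem F494150 : act 3 n218492 = n189488 := d0_2 D189364 D218492 F376796 (iv3 D189521) F144845
theorem F494151 : act 5 n218492 = n189488 := d2_2 F376794 D218492 F376796
def n218493 : Q := act 4 n189364
theorem D218493 : act 4 n189364 = n218493 := rfl
theorem F494152 : act 3 n218493 = n189762 := d5_1 D218493 (iv4 D189762) (iv3 F145624) (iv4 F144744) D189364
theorem F494153 : act 7 n218493 = n211496 := d11_2 F376809 D218493 F461824
theorem F494154 : act 6 n218108 = n218493 := d14_5 F494153 (iv6 D211496) F225390 (iv6 F451277) (iv7 F492177)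
def n218494 : Q := act 6 n189364
theorem D218494 : act 6 n189364 = n218494 := rfl
theorem F494155 : act 3 n218494 = n189365 := d7_1 D218494 (iv6 D189365) D189364
theorem F494156 : act 4 n218494 = n218108 := d10_1 D218494 F494154 (iv4 D218493)
theorem F494157 : act 5 n218494 = n191252 := d12_1 D218494 (iv6 D191252) (iv5 F376482) (iv6 F376807) F376794
def n218495 : Q := act 5 n189365
theorem D218495 : act 5 n189365 = n218495 := rfl
theorem F494158 : act 2 n218495 = n191251 := d2_1 D218495 F382759 F376797
theorem F494159 : act 3 n218495 = n191252 := d6_1 D218495 (iv5 F494157) F494155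
theorem F494160 : act 6 n218495 = n191251 := d12_2 D189365 D218495 F382759 (iv6 D189522) F144847
theorem F494161 : act 4 n218495 = n191260 := d16_2 (iv4 F376479) D218495 F382785 (iv4 F323703) (iv5 D132858) (iv4 F324732) (iv5 F376801) (iv7 D189525) (iv2 F374586)
theorem F494162 : act 1 n218495 = n218460 := d17_6 F447451 (iv5 F376623) F176867 D188725 (iv4 F376479) D218495 (iv5 D218460) F493735 F493733
def n218496 : Q := act 6 n189366
theorem D218496 : act 6 n189366 = n218496 := rfl
theorem F494163 : act 3 n218496 = n189367 := d7_1 D218496 (iv6 D189367) D189366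
theorem F494164 : act 4 n218496 = n189485 := d10_1 D218496 (iv6 D189485) (iv4 F376480)
def n218497 : Q := act 3 n189369
theorem D218497 : act 3 n189369 = n218497 := rfl
theorem F494165 : act 4 n218497 = n218107 := d5_2 (iv4 F421434) D218497 F492174 (iv4 D201705) (iv3 F421430)
theorem F494166 : act 5 n218497 = n209919 := d6_2 F483101 D218497 (iv3 F483098)
theorem F494167 : act 6 n218497 = n210082 := d7_2 F421446 D218497 (iv3 F456090)
def n218498 : Q := act 4 n189377
theorem D218498 : act 4 n189377 = n218498 := rfl
theorem F494168 : act 2 n218498 = n190493 := d1_1 D218498 F379900 F377310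
theorem F494169 : act 3 n218498 = n189648 := d5_1 D218498 F377254 (iv3 F376923) (iv4 D189378) D189377
theorem F494170 : act 5 n218498 = n189647 := d9_2 F377004 D218498 F377252 (iv5 D106615) F77845 D63441 D134998 (iv5 F379893) F379892 (iv5 F150156) (iv4 F349645) (iv5 D132045) F328937 (iv5 F294739) (iv4 F375774)
theorem F494171 : act 6 n218498 = n189851 := d10_2 (iv6 F379583) D218498 (iv4 F379578)
theorem F494172 : act 7 n218498 = n190015 := d11_2 F379717 D218498 (iv4 F379716)
theorem F494173 : act 0 n218498 = n190492 := d17_0 (iv5 F440574) (iv1 F445672) (iv5 F447774) (iv4 F450431) (iv5 D208680) D208679 F450428 F379897 D218498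
theorem F494174 : act 1 n218498 = n190491 := d18_6 (iv1 F450643) (iv4 D208736) F349692 (iv4 F375774) F377004 D218498 F379898 (iv0 F377090) (iv5 F379605)
def n218499 : Q := act 3 n189382
theorem D218499 : act 3 n189382 = n218499 := rfl
theorem F494175 : act 2 n218499 = n207538 := d0_1 D218499 F445345 (iv2 F376413) (iv3 F493098) F493097
theorem F494176 : act 4 n218499 = n208450 := d5_2 D189382 D218499 F449404 F369406 F377001
theorem F494177 : act 5 n218499 = n207530 := d6_2 F490982 D218499 (iv3 F490980)
theorem F494178 : act 6 n218499 = n189472 := d21_9 (iv5 F376627) (iv1 F376629) D189467 F493902 F493900 D218470 F494048 (iv1 F445320) (iv5 F494177) (iv1 F376644)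
def n218500 : Q := act 6 n189382
theorem D218500 : act 6 n189382 = n218500 := rfl
theorem F494179 : act 3 n218500 = n189472 := d7_1 D218500 (iv6 F494178) (iv3 D218499)
theorem F494180 : act 4 n218500 = n189384 := d10_1 D218500 (iv6 D189384) D189382
theorem F494181 : act 7 n218500 = n218421 := d14_2 (iv7 F490978) D218500 F493944 F493941 (iv6 F490974)
theorem F494182 : act 0 n189560 = n218500 := d20_10 F494180 F376491 (iv4 F377166) (iv3 D186667) F136661 D93956 (iv4 F364515) (iv1 D94053) (iv4 F144895) (iv3 F376884)
def n218501 : Q := act 6 n189389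
theorem D218501 : act 6 n189389 = n218501 := rfl
theorem F494183 : act 2 n218501 = n208031 := d3_1 D218501 F447526 F379615
theorem F494184 : act 3 n218501 = n189390 := d7_1 D218501 (iv6 D189390) D189389
theorem F494185 : act 4 n218501 = n189395 := d10_1 D218501 (iv6 D189395) (iv4 F376511)
theorem F494186 : act 7 n218501 = n207239 := d14_2 F477752 D218501 (iv6 F477631) F477629 D214982
theorem F494187 : act 0 n200408 = n218501 := d21_4 F377578 (iv1 F214376) F396280 D200408 (iv6 D218501) F376512 F370102 (iv5 F380944) F416297 (iv1 F416295)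
theorem F494188 : act 0 n218501 = n218422 := d20_7 F380946 (iv1 F380948) (iv4 F489097) (iv3 F489101) (iv1 D189396) (iv3 F376531) (iv4 F494185) (iv4 D218422) (iv3 F483095) F483094
theorem F494189 : act 1 n214979 = n218422 := d15_0 (iv0 F494188) F494186 (iv2 F477732)
def n218502 : Q := act 5 n189392
theorem D218502 : act 5 n189392 = n218502 := rfl
theorem F494190 : act 2 n218502 = n206637 := d2_1 D218502 (iv5 F492805) F492804
theorem F494191 : act 3 n218502 = n205226 := d6_1 D218502 F435510 (iv3 F376525)
theorem F494192 : act 6 n218502 = n206467 := d12_2 (iv6 F376526) D218502 (iv5 F440965) F296356 D169913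
theorem F494193 : act 7 n218502 = n205221 := d13_2 (iv7 F377843) D218502 F435491
theorem F494194 : act 4 n218502 = n216060 := d16_2 D189392 D218502 F482711 F299705 F369464 F369462 (iv5 F394402) F394404 (iv2 F374903)
theorem F494195 : act 0 n218502 = n200699 := d17_2 (iv1 F376528) D218502 (iv5 D200699) F178281 D127410 (iv0 F369266) (iv5 F374525) (iv0 D188713) D188715
theorem F494196 : act 1 n218502 = n200702 := d17_6 (iv1 F161503) (iv5 F114614) F251945 D93941 D189392 D218502 (iv5 D200702) F202978 F202976
def n218503 : Q := act 3 n189393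
theorem D218503 : act 3 n189393 = n218503 := rfl
theorem F494197 : act 2 n218503 = n191252 := d0_1 D218503 (iv3 F494159) F494158 (iv3 D191251) F376530
theorem F494198 : act 4 n218503 = n191246 := d5_2 (iv4 F376529) D218503 F382735 (iv4 F370145) F370144
theorem F494199 : act 7 n218503 = n209919 := d8_2 F483100 D218503 (iv3 F483098)
theorem F494200 : act 0 n215298 = n218503 := d20_4 (iv4 F376724) F399005 (iv4 F493984) F493983 (iv3 D218503) F376529 F294711 (iv4 F376650) F376649 D189477
theorem F494201 : act 1 n215296 = n218503 := d15_0 (iv0 F494200) F479272 (iv2 F479267)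
theorem F494202 : act 6 n189393 = n218503 := d14_5 F494199 (iv6 D209919) (iv7 F440571) (iv6 F483099) F483100
def n218504 : Q := act 6 n189394
theorem D218504 : act 6 n189394 = n218504 := rfl
theorem F494203 : act 2 n218504 = n189395 := d3_1 D218504 (iv6 D189395) D189394
theorem F494204 : act 3 n218504 = n208023 := d7_1 D218504 F493730 F493724
theorem F494205 : act 4 n218504 = n208031 := d10_1 D218504 F447526 (iv4 F379616)
def n218505 : Q := act 0 n189395
theorem D218505 : act 0 n189395 = n218505 := rfl
theorem F494206 : act 5 n218505 = n194216 := d19_1 D218505 (iv4 D194216) D194215 (iv1 F392396) F382487 (iv4 F436048) (iv3 D205355) (iv1 F436038) F436035 (iv4 F440922) (iv3 F440923) (iv1 D129015) D129016 D206617 F441594 (iv1 F364705) (iv5 D93947) (iv4 F144769) (iv3 F376531)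
def n218506 : Q := act 1 n189395
theorem D218506 : act 1 n189395 = n218506 := rfl
theorem F494207 : act 5 n218506 = n194221 := d18_9 F455351 F455350 (iv1 F382761) (iv4 F479288) (iv5 F479289) D218422 (iv0 F494188) F494185 D218506
theorem F494208 : act 3 n218121 = n218506 := d6_3 F494207 (iv3 F392398) (iv5 F492234)
theorem F494209 : act 6 n200410 = n218506 := d12_0 F494207 F392400 F376546 (iv6 F487037) (iv5 F487038)
def n218507 : Q := act 5 n189395
theorem D218507 : act 5 n189395 = n218507 := rfl
theorem F494210 : act 3 n218507 = n189397 := d6_1 D218507 (iv5 D189397) (iv3 F376531)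
theorem F494211 : act 6 n218507 = n218442 := d12_2 D189395 D218507 (iv5 D218442) (iv6 F376384) F144778
theorem F494212 : act 1 n218507 = n189735 := d17_8 (iv1 D94364) (iv5 F293691) D164074 F413684 D194216 (iv5 F494206) (iv0 D218505) D218507 (iv4 D189735)
theorem F494213 : act 1 n189731 = n218507 := d15_0 F494212 (iv7 F492169) F492168
def n218508 : Q := act 7 n189395
theorem D218508 : act 7 n189395 = n218508 := rfl
theorem F494214 : act 3 n218508 = n189398 := d8_1 D218508 (iv7 D189398) (iv3 F376531)
theorem F494215 : act 4 n218508 = n207239 := d11_1 D218508 (iv7 F494186) F494185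
def n218509 : Q := act 6 n189399
theorem D218509 : act 6 n189399 = n218509 := rfl
theorem F494216 : act 3 n218509 = n214985 := d7_1 D218509 (iv6 F494072) F494069
theorem F494217 : act 4 n218509 = n189401 := d10_1 D218509 (iv6 D189401) D189399
theorem F494218 : act 5 n218509 = n214984 := d21_6 (iv5 D43924) D43921 (iv5 F69115) D94051 F376536 D218509 F477755 (iv5 D189451) (iv6 D93973) (iv1 F69049)
theorem F494219 : act 0 n218509 = n196024 := d20_1 (iv4 F494217) (iv4 D196024) (iv3 D106541) (iv1 D49232) (iv3 F77745) (iv4 F163778) D196006 F399031 D200347 F416089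
def n218510 : Q := act 0 n189406
theorem D218510 : act 0 n189406 = n218510 := rfl
theorem F494220 : act 5 n218510 = n218456 := d17_3 (iv1 D217027) (iv5 F376546) D218510 F493984 F399003 F372512 D217919 (iv0 F493845) F493842
theorem F494221 : act 1 n218123 = n218510 := d15_0 (iv0 D218510) F376547 D218123
theorem F494222 : act 7 n218121 = n218510 := d13_0 F494220 F493985 (iv5 F492234)
theorem F494223 : act 4 n214886 = n218510 := d16_2 (iv4 F257603) D214886 F494220 F493984 F399003 (iv4 F416117) (iv5 F477199) (iv7 D214866) F257518
theorem F494224 : act 2 n218510 = n218122 := d1_1 F494223 (iv4 F492236) (iv2 F477278)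
def n218511 : Q := act 1 n189406
theorem D218511 : act 1 n189406 = n218511 := rfl
theorem F494225 : act 7 n218511 = n218122 := d15_2 (iv0 D218510) D218511 (iv2 F494224)
theorem F494226 : act 5 n218511 = n189500 := d17_7 (iv1 D93984) (iv5 F293659) D92347 D188521 (iv4 F377166) (iv5 F376546) D218511 (iv0 F376723) (iv4 D189488)
theorem F494227 : act 6 n217622 = n218511 := d21_3 F376604 F374987 D217622 (iv1 D218511) (iv6 F392400) (iv5 F494207) (iv1 D218506) D218507 F494211 F493918
theorem F494228 : act 2 n218511 = n218121 := d3_1 F494227 (iv6 F492235) (iv2 F489822)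
theorem F494229 : act 1 n218511 = n218123 := d15_0 F494221 (iv7 F494222) (iv2 F494228)
def n218512 : Q := act 2 n189406
theorem D218512 : act 2 n189406 = n218512 := rfl
theorem F494230 : act 3 n218512 = n218119 := d0_2 D189406 D218512 F492224 (iv3 D189499) F144828
theorem F494231 : act 4 n218512 = n215297 := d1_2 F392404 D218512 F479269
theorem F494232 : act 5 n218512 = n217028 := d2_2 (iv5 F376546) D218512 (iv2 D217028)
theorem F494233 : act 6 n218512 = n215296 := d3_2 F392400 D218512 F479267
theorem F494234 : act 7 n218512 = n218123 := d4_2 (iv7 F376547) D218512 (iv2 D218123)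
theorem F494235 : act 1 n218512 = n218121 := d15_0 (iv0 D218121) (iv7 F376547) D218512
theorem F494236 : act 1 n218122 = n218512 := d15_0 F494235 F494222 F494224
def n218513 : Q := act 6 n189410
theorem D218513 : act 6 n189410 = n218513 := rfl
theorem F494237 : act 4 n218513 = n212610 := d10_1 D218513 F466677 (iv4 F395448)
theorem F494238 : act 5 n200543 = n218513 := d21_2 D218454 F493977 (iv6 D218513) (iv1 D189410) (iv6 D93957) F69041 (iv1 F144746) (iv5 F144853) D189527 F376812
def n218514 : Q := act 3 n189415
theorem D218514 : act 3 n189415 = n218514 := rfl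
theorem F494239 : act 4 n218514 = n207176 := d5_2 D189415 D218514 (iv3 D207176) (iv4 F376556) (iv3 D189414)
theorem F494240 : act 6 n218514 = n218403 := d7_2 F493095 D218514 (iv3 F493711)
theorem F494241 : act 2 n218472 = n218514 := d3_3 F494240 (iv2 F493708) D218472
theorem F494242 : act 5 n189415 = n218514 := d21_8 F376431 (iv1 F163770) (iv5 F376408) (iv6 F483092) F483094 F376885 (iv5 D189451) (iv1 F429285) F494240 (iv1 F493709)
def n218515 : Q := act 3 n189419
theorem D218515 : act 3 n189419 = n218515 := rfl
theorem F494243 : act 4 n218515 = n200036 := d5_2 D189419 D218515 F414713 (iv4 D189699) F377438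
theorem F494244 : act 0 n218515 = n189463 := d20_4 F493762 (iv1 F376240) D189419 D218515 (iv3 F430966) (iv4 F477721) (iv1 F477723) (iv4 F447962) F447960 (iv1 F493765)
theorem F494245 : act 0 n214989 = n218515 := d20_4 (iv4 D93876) D93874 D189300 (iv3 F477771) (iv3 D218515) (iv4 D189419) (iv1 D93959) (iv4 F144779) F376383 (iv1 D189304)
def n218516 : Q := act 5 n189419
theorem D218516 : act 5 n189419 = n218516 := rfl
theorem F494246 : act 4 n218516 = n209915 := d9_1 D218516 F455345 (iv4 F246468) (iv5 F461019) F461018 (iv5 D189416) D189415 F494242 F494239 F443654 (iv4 F457346) F457347 F419459 (iv5 D189420) D189419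
theorem F494247 : act 7 n218516 = n218472 := d13_2 F493767 D218516 (iv5 F494060)
theorem F494248 : act 6 n209914 = n218516 := d10_0 F494246 (iv6 D209915) D209914
def n218517 : Q := act 6 n189419
theorem D218517 : act 6 n189419 = n218517 := rfl
theorem F494249 : act 4 n218517 = n189421 := d10_1 D218517 (iv6 D189421) D189419
theorem F494250 : act 0 n212472 = n218517 := d18_2 F428285 D212472 F494249 F376571 F347787 (iv0 D69149) (iv4 F310813) D119061 D203434
def n218518 : Q := act 7 n189424
theorem D218518 : act 7 n189424 = n218518 := rfl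
theorem F494251 : act 2 n218518 = n189429 := d4_1 D218518 (iv7 D189429) (iv2 F376581)
theorem F494252 : act 3 n218518 = n203931 := d8_1 D218518 (iv7 F468415) F468412
theorem F494253 : act 4 n218518 = n218080 := d11_1 D218518 F492065 F382483
theorem F494254 : act 5 n218518 = n206241 := d13_1 D218518 (iv7 F457505) F457506
theorem F494255 : act 6 n218518 = n201244 := d14_1 D218518 F419627 (iv6 D131147) F157807 D189424
theorem F494256 : act 1 n189428 = n218518 := d15_1 D189428 (iv7 D218518) F376581
theorem F494257 : act 1 n218518 = n189427 := d15_1 F494256 (iv7 F443817) F443814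
def n218519 : Q := act 2 n189425
theorem D218519 : act 2 n189425 = n218519 := rfl
theorem F494258 : act 3 n218519 = n189991 := d0_2 D189425 D218519 F378477 (iv3 F150100) (iv2 F331377)
theorem F494259 : act 4 n218519 = n189431 := d1_2 (iv4 F376582) D218519 (iv2 D189431)
theorem F494260 : act 5 n218519 = n189957 := d2_2 (iv5 F376583) D218519 (iv2 F378368)
theorem F494261 : act 6 n218519 = n214970 := d3_2 (iv6 F377267) D218519 F477696
theorem F494262 : act 7 n218519 = n190211 := d4_2 F381943 D218519 (iv2 F381941)
theorem F494263 : act 1 n218519 = n189965 := d15_0 (iv0 F381944) F381943 D218519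
theorem F494264 : act 1 n192862 = n218519 := d15_0 F494263 (iv7 F380945) (iv2 F388054)
def n218520 : Q := act 7 n189426
theorem D218520 : act 7 n189426 = n218520 := rfl
theorem F494265 : act 2 n218520 = n218080 := d4_1 D218520 F492065 F382481
theorem F494266 : act 3 n218520 = n208111 := d8_1 D218520 F447921 (iv3 F377266)
theorem F494267 : act 4 n218520 = n189429 := d11_1 D218520 (iv7 D189429) (iv4 F376586)
theorem F494268 : act 5 n218520 = n206050 := d13_1 D218520 F439006 F377268
theorem F494269 : act 6 n218520 = n215043 := d14_1 D218520 (iv7 D215043) F259228 (iv7 F331379) D189426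
theorem F494270 : act 1 n216890 = n218520 := d15_1 (iv0 F486412) (iv7 D218520) (iv2 F382481)
theorem F494271 : act 1 n218520 = n216889 := d15_1 F494270 F486404 (iv2 F486407)
def n218521 : Q := act 3 n189430
theorem D218521 : act 3 n189430 = n218521 := rfl
theorem F494272 : act 5 n218521 = n218508 := d6_2 F376595 D218521 F494214
theorem F494273 : act 7 n218521 = n218507 := d8_2 (iv7 F376592) D218521 F494210
theorem F494274 : act 0 n218521 = n218104 := d20_4 (iv4 D190914) (iv1 F356266) (iv4 F376593) D218521 F492165 F443801 D207208 (iv4 F447619) (iv3 F493865) F493869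
theorem F494275 : act 1 n218521 = n218105 := d15_1 (iv0 F494274) F492169 (iv2 F492164)
def n218522 : Q := act 3 n189438
theorem D218522 : act 3 n189438 = n218522 := rfl
theorem F494276 : act 4 n218522 = n200387 := d5_2 D189438 D218522 F416250 (iv4 D189711) F379476
theorem F494277 : act 5 n218522 = n218420 := d6_2 (iv5 F395359) D218522 F493802
theorem F494278 : act 7 n218522 = n200401 := d8_2 F490548 D218522 (iv3 F490546)
theorem F494279 : act 0 n218522 = n214984 := d19_4 D187841 F371796 D189438 D218522 (iv5 F494218) F494217 (iv3 F377383) (iv1 F410123) F410120 F396397 F466008 (iv1 D212481) (iv5 F360548) D197612 F405018 F360561 (iv5 F331542) F178598 (iv3 F139495)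
theorem F494280 : act 2 n200396 = n218522 := d4_3 F494278 F416306 F416290
theorem F494281 : act 1 n218522 = n189468 := d15_0 (iv0 F447753) F416290 F494280
def n218523 : Q := act 6 n189438
theorem D218523 : act 6 n189438 = n218523 := rfl
theorem F494282 : act 4 n218523 = n189439 := d10_1 D218523 (iv6 D189439) D189438
theorem F494283 : act 5 n218523 = n191244 := d12_1 D218523 F382733 (iv5 D189329) D189330 (iv5 F395359)
def n218524 : Q := act 3 n189442
theorem D218524 : act 3 n189442 = n218524 := rfl
theorem F494284 : act 4 n218524 = n217183 := d5_2 D189442 D218524 F487836 F381337 (iv3 D189441)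
theorem F494285 : act 6 n218524 = n218475 := d7_2 (iv6 F493790) D218524 (iv3 F494068)
theorem F494286 : act 0 n218524 = n218499 := d19_4 (iv1 F489374) F413462 D189442 D218524 F494177 (iv4 D207530) (iv3 F399194) F399197 (iv5 F325764) F161186 F324650 (iv1 F97472) F208651 D205604 F437195 F410160 D134801 D208615 (iv3 F489370)
theorem F494287 : act 0 n218468 = n218524 := d20_4 F493912 (iv1 F490322) F490318 (iv3 F494039) (iv3 D218524) (iv4 D189442) (iv1 D93970) (iv4 F144783) (iv3 F376597) (iv1 F493914)
def n218525 : Q := act 5 n189442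
theorem D218525 : act 5 n189442 = n218525 := rfl
theorem F494288 : act 2 n218525 = n218419 := d2_1 D218525 F493799 F490545
theorem F494289 : act 6 n218525 = n218418 := d12_2 (iv6 F493790) D218525 (iv5 F493859) F493860 (iv5 F493787)
theorem F494290 : act 7 n218525 = n195996 := d13_2 F490541 D218525 F490544
theorem F494291 : act 1 n218525 = n218279 := d17_8 F486168 (iv5 F486169) (iv1 F376487) (iv5 D189379) D189378 F376924 (iv0 F376614) D218525 (iv4 D218279)
theorem F494292 : act 0 n218525 = n218282 := d18_0 (iv4 D218282) F376562 (iv4 F376401) (iv5 F490551) F490552 (iv0 D189568) F144912 (iv0 F376614) D218525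
theorem F494293 : act 4 n195999 = n218525 := d16_0 (iv5 D218525) (iv4 D189442) (iv5 F413462) F413461 D203775 F429766 (iv5 F399001) (iv7 F468161) (iv2 F468159)
def n218526 : Q := act 3 n189445
theorem D218526 : act 3 n189445 = n218526 := rfl
theorem F494294 : act 6 n218526 = n196205 := d7_2 (iv6 F494037) D218526 F494036
theorem F494295 : act 4 n196206 = n218526 := d19_2 D186248 (iv5 F399873) (iv3 D218526) (iv1 D189445) (iv5 F144894) (iv4 F376805) (iv3 F376804) F339783 (iv5 F347380) D206107 (iv3 F465613) F465617 (iv5 F384121) F384120 F365385 F168171 D63860 D135809 F344968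
theorem F494296 : act 1 n218526 = n218500 := d18_6 (iv1 D92348) (iv4 F142021) D188514 F373783 (iv5 F399873) F494295 F494180 F379714 (iv5 D188526)
def n218527 : Q := act 4 n189445
theorem D218527 : act 4 n189445 = n218527 := rfl
theorem F494297 : act 2 n218527 = n196234 := d1_1 D218527 (iv4 F490986) F490998
theorem F494298 : act 3 n218527 = n196208 := d5_1 D218527 F399880 (iv3 F399872) F494295 (iv3 D218526)
theorem F494299 : act 6 n218527 = n196207 := d10_2 (iv6 F494037) D218527 F494035
theorem F494300 : act 1 n218527 = n207599 := d18_8 (iv1 F449767) (iv4 D208534) F384526 F384525 F376617 (iv4 D189447) D189445 D218527 F445629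
theorem F494301 : act 0 n218527 = n207488 := d21_4 (iv5 F487844) (iv1 F487846) (iv5 F399876) (iv6 F494299) (iv6 D207488) F354693 (iv1 D61908) D61910 D131947 F382347
def n218528 : Q := act 6 n189446
theorem D218528 : act 6 n189446 = n218528 := rfl
theorem F494302 : act 2 n218528 = n189448 := d3_1 D218528 (iv6 D189448) D189446
theorem F494303 : act 3 n218528 = n218525 := d7_1 D218528 F494289 F493792
theorem F494304 : act 4 n218528 = n207539 := d10_1 D218528 F445348 (iv4 F417919)
theorem F494305 : act 7 n218528 = n207489 := d14_2 F490993 D218528 (iv6 F445125) (iv7 F376404) (iv6 F490992)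
theorem F494306 : act 0 n218528 = n207482 := d21_4 F376823 F417920 F376883 D218528 F445108 D207491 F494050 F494048 (iv6 D189533) D189530
theorem F494307 : act 5 n218524 = n218528 := d21_2 D218468 F494287 (iv6 D218528) (iv1 F490995) (iv6 F493860) F493859 (iv1 F493796) F491000 F494037 (iv1 D218467)
theorem F494308 : act 1 n218528 = n196038 := d17_8 D196036 F399142 (iv1 F164174) D131942 D207530 (iv5 F494177) (iv0 F494286) F494307 (iv4 D196038)
def n218529 : Q := act 6 n189447
theorem D218529 : act 6 n189447 = n218529 := rfl
theorem F494309 : act 2 n218529 = n207539 := d3_1 D218529 F445348 F417918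
theorem F494310 : act 3 n218529 = n196072 := d7_1 D218529 (iv6 F399313) F376864
theorem F494311 : act 4 n218529 = n189448 := d10_1 D218529 (iv6 D189448) D189447
theorem F494312 : act 5 n218529 = n196070 := d12_1 D218529 (iv6 F440828) (iv5 F440831) (iv6 F384523) F376617
theorem F494313 : act 7 n218529 = n207531 := d14_2 (iv7 F417991) D218529 (iv6 D207531) (iv7 F399270) F417989
theorem F494314 : act 0 n218529 = n196197 := d21_4 F294071 D185529 F376617 D218529 (iv6 F477396) F477395 F383794 (iv5 F399105) F399106 (iv1 D191259)
theorem F494315 : act 1 n218529 = n191131 := d15_1 (iv0 F494314) (iv7 F477397) F477394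
def n218530 : Q := act 1 n189448
theorem D218530 : act 1 n189448 = n218530 := rfl
theorem F494316 : act 1 n218530 = n207489 := d15_1 D218530 (iv7 F494305) F494302
theorem F494317 : act 7 n218530 = n207482 := d15_2 (iv0 F493760) D218530 F445106
theorem F494318 : act 4 n218530 = n196035 := d18_7 (iv1 F164178) F164176 (iv1 F211383) (iv4 F399298) (iv5 F494312) F494311 D218530 F399141 F367308
theorem F494319 : act 2 n196038 = n218530 := d1_3 F494318 F399137 D196038
theorem F494320 : act 5 n217188 = n218530 := d16_3 (iv4 F137108) D186982 D217188 F494318 (iv5 D196035) (iv4 F245953) F245954 (iv7 F333146) F151741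
def n218531 : Q := act 5 n189448
theorem D218531 : act 5 n189448 = n218531 := rfl
theorem F494321 : act 2 n218531 = n218524 := d2_1 D218531 F494307 F494302
theorem F494322 : act 3 n218531 = n189451 := d6_1 D218531 (iv5 D189451) (iv3 F376618)
theorem F494323 : act 0 n218531 = n207538 := d17_2 (iv1 D218530) D218531 (iv5 D207538) (iv4 D131946) (iv5 D61910) D61908 (iv5 F354693) (iv0 F399140) (iv4 F494318)
def n218532 : Q := act 7 n189448
theorem D218532 : act 7 n189448 = n218532 := rfl
theorem F494324 : act 2 n218532 = n207489 := d4_1 D218532 (iv7 F494305) F494302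
theorem F494325 : act 3 n218532 = n189452 := d8_1 D218532 (iv7 D189452) (iv3 F376618)
theorem F494326 : act 4 n218532 = n207531 := d11_1 D218532 (iv7 F494313) F494311
theorem F494327 : act 6 n218532 = n207530 := d14_1 D218532 (iv7 F490972) F490969 F372238 D189448
theorem F494328 : act 1 n196038 = n218532 := d15_1 F494308 (iv7 D218532) (iv2 F494302)
theorem F494329 : act 1 n218532 = n207482 := d15_1 F494328 (iv7 F494317) (iv2 F494319)
def n218533 : Q := act 3 n189454
theorem D218533 : act 3 n189454 = n218533 := rfl
theorem F494330 : act 5 n218533 = n218526 := d6_2 (iv5 F491000) D218533 (iv3 D218526)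
theorem F494331 : act 7 n218533 = n218475 := d8_2 F493786 D218533 (iv3 F494068)
theorem F494332 : act 0 n218533 = n218476 := d19_4 F447611 F447609 F443803 D218533 F494071 F376656 F376191 (iv1 F147617) (iv5 F70380) (iv4 D44806) D44805 (iv1 F365036) (iv5 D95960) D95959 F147593 (iv1 F289259) (iv5 F344343) (iv4 F447647) (iv3 D208052)
theorem F494333 : act 6 n194204 = n218533 := d21_3 F376627 (iv1 F376645) F474468 F494332 F494072 (iv5 D214985) F430193 (iv5 F430965) (iv6 D189463) D189458
theorem F494334 : act 1 n218533 = n189460 := d15_1 (iv0 F494332) (iv7 F494076) F494073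
theorem F494335 : act 2 n218533 = n218474 := d3_1 F494333 F494067 (iv2 F479280)
def n218534 : Q := act 6 n189454
theorem D218534 : act 6 n189454 = n218534 := rfl
theorem F494336 : act 3 n218534 = n194204 := d7_1 D218534 F494333 (iv3 D218533)
theorem F494337 : act 4 n218534 = n218344 := d10_1 D218534 F493422 F443803
theorem F494338 : act 5 n190914 = n218534 := d21_2 D218433 F493869 (iv6 D218534) (iv1 D189454) (iv6 F376183) (iv5 F376416) (iv1 D189332) F376409 (iv6 F493739) F493741
def n218535 : Q := act 6 n189458
theorem D218535 : act 6 n189458 = n218535 := rfl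
theorem F494339 : act 2 n218535 = n189462 := d3_1 D218535 F430970 F376625
theorem F494340 : act 3 n218535 = n191248 := d7_1 D218535 (iv6 F382748) F376640
theorem F494341 : act 4 n218535 = n218106 := d10_1 D218535 (iv6 D218106) (iv4 F376626)
theorem F494342 : act 7 n218535 = n189467 := d14_2 (iv7 F376628) D218535 F493902 F493899 F376418
theorem F494343 : act 5 n218535 = n189459 := d21_6 (iv5 D214985) F430193 (iv5 F430965) (iv6 D189463) D189458 D218535 F486024 F144787 (iv6 F376184) (iv1 F477758)
theorem F494344 : act 1 n194199 = n218535 := d17_6 (iv1 F373778) F390834 (iv1 D158004) F112838 (iv4 F158255) (iv5 F392357) F494343 F486025 (iv4 F145484)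
theorem F494345 : act 0 n218486 = n218535 := d20_7 (iv4 D97324) D97322 D191146 F474774 (iv1 F474773) D215683 (iv4 F494128) F494341 F492172 (iv1 D191150)
def n218536 : Q := act 4 n189459
theorem D218536 : act 4 n189459 = n218536 := rfl
theorem F494346 : act 2 n218536 = n189461 := d1_1 D218536 (iv4 D189461) D189459
theorem F494347 : act 3 n218536 = n191717 := d5_1 D218536 F384247 (iv3 D189402) D189403 F376635
theorem F494348 : act 7 n218536 = n189466 := d11_2 F376630 D218536 (iv4 D189466)
theorem F494349 : act 0 n218536 = n215654 := d17_0 (iv5 D215654) F477501 F477500 (iv4 F479278) F479277 (iv0 D189258) (iv5 F144787) (iv0 F486024) D218536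
theorem F494350 : act 5 n218536 = n214599 := d18_4 (iv1 F373773) F145484 (iv1 F486025) D218536 (iv4 D214599) F253203 F196332 F248915 (iv5 F390830)
theorem F494351 : act 6 n214959 = n218536 := d12_0 F494350 F475989 F300948 (iv6 F258595) D214959
def n218537 : Q := act 6 n189459
theorem D218537 : act 6 n189459 = n218537 := rfl
theorem F494352 : act 2 n218537 = n189463 := d3_1 D218537 (iv6 D189463) D189459
theorem F494353 : act 3 n218537 = n196190 := d7_1 D218537 (iv6 F399800) F376635
theorem F494354 : act 4 n218537 = n214959 := d10_1 D218537 F494351 (iv4 D218536)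
theorem F494355 : act 5 n218537 = n218402 := d12_1 D218537 F493702 (iv5 F376627) D218535 F494343
theorem F494356 : act 7 n214989 = n218537 := d13_0 F494355 F493703 (iv5 F477772)
def n218538 : Q := act 1 n189460
theorem D218538 : act 1 n189460 = n218538 := rfl
theorem F494357 : act 1 n218538 = n218476 := d15_1 D218538 (iv7 D218476) (iv2 F430971)
theorem F494358 : act 7 n218538 = n218474 := d15_2 F494334 D218538 (iv2 F494335)
theorem F494359 : act 3 n189561 = n218538 := d19_19 (iv1 D218538) F430972 F144790 F294561 D92347 D188521 (iv4 F377166) (iv3 D186667) F136661 F69041 (iv4 D43909) (iv3 F69031) D93935 (iv5 F293761) F158245 D185649 F370102 (iv5 F380944) (iv4 F380946)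
theorem F494360 : act 6 n218531 = n218538 := d21_3 F494320 (iv1 D218530) D218531 (iv1 D218538) F430973 (iv5 D189239) D189237 (iv5 F376416) D218470 (iv1 F494049)
theorem F494361 : act 5 n189560 = n218538 := d21_6 (iv5 F144630) F144631 (iv5 F144735) D189360 F447612 D189560 (iv1 D218538) F430972 (iv6 D93982) (iv1 F139699)
theorem F494362 : act 2 n218538 = n218475 := d3_1 F494360 (iv6 F494285) (iv2 F494321)
def n218539 : Q := act 4 n189460
theorem D218539 : act 4 n189460 = n218539 := rfl
theorem F494363 : act 2 n218539 = n216919 := d1_1 D218539 (iv4 F486540) (iv2 F430971)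
theorem F494364 : act 6 n218539 = n214974 := d10_2 (iv6 F430973) D218539 F477721
theorem F494365 : act 7 n218539 = n214987 := d11_2 F494076 D218539 (iv4 F494077)
theorem F494366 : act 0 n218539 = n194222 := d18_2 (iv1 D218538) D218539 F392404 F376546 F377166 (iv0 F376491) (iv4 F494180) (iv0 F494182) F494361
def n218540 : Q := act 0 n189461
theorem D218540 : act 0 n189461 = n218540 := rfl
theorem F494367 : act 5 n218540 = n215652 := d17_1 D218540 F480973 F474541 F392373 (iv5 F474468) F376645 (iv5 F376627) (iv0 D189458) D189461
theorem F494368 : act 4 n218540 = n218521 := d18_1 D218540 F494274 (iv4 D218104) F390830 (iv4 F412209) F412239 (iv4 F455354) (iv0 F455356) F430960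
theorem F494369 : act 2 n215654 = n218540 := d15_3 (iv0 D218540) (iv0 F474510) (iv7 F480979)
theorem F494370 : act 3 n218540 = n217494 := d0_2 (iv3 F480978) F494369 F489157 F370182 (iv2 F348782)
theorem F494371 : act 0 n218540 = n189466 := d19_4 (iv1 F138309) D187398 D217494 (iv3 F494370) (iv5 F430977) (iv4 D204071) D204070 (iv1 F433423) F412112 (iv4 F406261) (iv3 F480283) (iv1 F486563) (iv5 D216927) (iv4 D186384) (iv3 F291629) (iv1 F331398) (iv5 D186181) (iv4 F292438) (iv3 F293462)
def n218541 : Q := act 3 n189461
theorem D218541 : act 3 n189461 = n218541 := rfl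
theorem F494372 : act 2 n218541 = n215952 := d0_1 D218541 F482240 F474473 (iv3 F494347) F494346
theorem F494373 : act 5 n218541 = n210013 := d6_2 F430960 D218541 F455748
theorem F494374 : act 6 n218541 = n198820 := d7_2 (iv6 F430963) D218541 F409399
theorem F494375 : act 0 n218541 = n199856 := d19_4 (iv1 F430967) (iv5 D189462) D189461 D218541 (iv5 D199856) F392189 (iv3 F392188) (iv1 F172611) (iv5 F343098) (iv4 F325748) F143636 (iv1 F294927) F293396 (iv4 F292718) F65532 (iv1 F65552) (iv5 F69018) D93910 D189359
theorem F494376 : act 0 n215951 = n218541 := d20_4 D176889 (iv1 F473939) (iv4 F474884) (iv3 F482237) (iv3 D218541) (iv4 D189461) D189458 F376626 F373774 (iv1 F276254)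
theorem F494377 : act 7 n218541 = n215945 := d15_2 (iv0 F474549) (iv0 F494375) F482202
def n218542 : Q := act 7 n189461
theorem D218542 : act 7 n189461 = n218542 := rfl
theorem F494378 : act 2 n218542 = n189466 := d4_1 D218542 (iv7 F494348) F494346
theorem F494379 : act 3 n218542 = n215945 := d8_1 D218542 (iv7 F494377) (iv3 D218541)
theorem F494380 : act 4 n218542 = n189464 := d11_1 D218542 (iv7 D189464) D189461
theorem F494381 : act 5 n218542 = n214597 := d13_1 D218542 F475979 F430960
theorem F494382 : act 6 n218542 = n215943 := d14_1 D218542 F482193 (iv6 F474705) F474706 (iv6 F430963)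
theorem F494383 : act 0 n215654 = n218542 := d17_2 (iv1 F477506) D215654 F494381 (iv4 D214597) D214598 (iv0 F475986) (iv5 D163941) D163939 D214932
def n218543 : Q := act 0 n189462
theorem D218543 : act 0 n189462 = n218543 := rfl
theorem F494384 : act 5 n218543 = n194205 := d17_3 D93976 D189462 D218543 F392374 (iv5 F248917) F248919 F377571 (iv0 D94363) F69444
theorem F494385 : act 4 n218543 = n209908 := d20_2 (iv4 F430969) D218543 (iv3 F474758) F474755 (iv3 F447518) (iv4 D208029) (iv1 F217471) (iv4 F451285) F492178 (iv1 D218108)
theorem F494386 : act 3 n218543 = n194205 := d20_5 (iv4 D189488) (iv1 D93984) (iv4 F144790) (iv3 F430968) D218543 F392374 (iv1 F270256) D215298 (iv3 F493983) F493986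
theorem F494387 : act 2 n194199 = n218543 := d15_3 (iv0 D218543) F430967 (iv7 F392358)
theorem F494388 : act 1 n189467 = n218543 := d15_0 (iv0 D218543) (iv7 F494054) F494051
theorem F494389 : act 7 n218543 = n218486 := d15_2 F377576 F494388 (iv2 D218486)
theorem F494390 : act 6 n218543 = n209907 := d3_2 (iv6 F456079) F494387 (iv2 F456076)
def n218544 : Q := act 0 n189463
theorem D218544 : act 0 n189463 = n218544 := rfl
theorem F494391 : act 4 n218544 = n199993 := d18_1 D218544 F414523 D214975 (iv5 F477745) (iv4 D214981) (iv0 F476411) (iv4 F477756) F477758 (iv5 F430965)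
theorem F494392 : act 3 n218472 = n218544 := d5_5 F494391 (iv3 F473741) (iv4 D214151) (iv3 F473734) (iv4 F494057)
theorem F494393 : act 1 n214989 = n218544 := d17_8 F414523 (iv5 D164107) (iv1 F296968) D214690 (iv4 F477756) (iv5 D214985) D214983 (iv5 F477772) F494391
theorem F494394 : act 6 n207491 = n218544 := d21_9 F477772 (iv1 D214983) D214985 (iv6 F494072) (iv1 F494357) (iv6 F494360) (iv5 D218531) F493760 D207491 (iv1 F494393)
def n218545 : Q := act 7 n189463
theorem D218545 : act 7 n189463 = n218545 := rfl
theorem F494395 : act 2 n218545 = n214989 := d4_1 D218545 F494356 F494352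
theorem F494396 : act 3 n218545 = n214973 := d8_1 D218545 F477719 F430966
theorem F494397 : act 4 n218545 = n214349 := d11_1 D218545 F474706 F430964
theorem F494398 : act 5 n218545 = n215636 := d13_1 D218545 F480884 (iv5 F430965)
theorem F494399 : act 6 n214984 = n218545 := d12_0 F494398 F480883 F382756 D218509 F494218
def n218546 : Q := act 6 n189464
theorem D218546 : act 6 n189464 = n218546 := rfl
theorem F494400 : act 2 n218546 = n189468 := d3_1 D218546 (iv6 D189468) (iv2 F376631)
theorem F494401 : act 3 n218546 = n214986 := d7_1 D218546 (iv6 F494075) F494074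
theorem F494402 : act 4 n218546 = n215943 := d10_1 D218546 (iv6 F494382) F494380
theorem F494403 : act 7 n218546 = n214984 := d14_2 D189464 D218546 F494399 (iv7 D218545) (iv6 D189463)
theorem F494404 : act 0 n200401 = n218546 := d18_0 F494402 F482194 (iv4 F494013) F494014 F376554 F376239 D218413 (iv0 F493769) (iv5 F416307)
theorem F494405 : act 1 n200396 = n218546 := d18_6 F388006 F246812 F222100 (iv4 D113067) D113068 D200396 F494402 F482195 (iv5 F388004)
def n218547 : Q := act 6 n189465
theorem D218547 : act 6 n189465 = n218547 := rfl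
theorem F494406 : act 2 n218547 = n218509 := d3_1 D218547 (iv6 D218509) (iv2 F376633)
theorem F494407 : act 3 n218547 = n189468 := d7_1 D218547 (iv6 D189468) D189465
theorem F494408 : act 4 n218547 = n208133 := d10_1 D218547 (iv6 F448028) F376632
theorem F494409 : act 7 n218547 = n218439 := d14_2 (iv7 F376634) D218547 (iv6 D218439) F399801 (iv6 F399800)
theorem F494410 : act 0 n196205 = n218547 := d18_2 F398466 D196205 F494408 (iv5 F488503) F488502 (iv0 F457357) (iv4 D159595) F193482 D114262
theorem F494411 : act 0 n218547 = n218426 := d20_1 (iv4 F494408) F493828 F399102 (iv1 D152450) (iv3 F334827) F210442 (iv1 F162597) (iv4 F247675) D214220 F474051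
def n218548 : Q := act 4 n189467
theorem D218548 : act 4 n189467 = n218548 := rfl
theorem F494412 : act 2 n218548 = n218110 := d1_1 D218548 (iv4 F494053) F494051
theorem F494413 : act 3 n218548 = n217498 := d5_1 D218548 F489177 F379916 D216129 F483108
theorem F494414 : act 6 n218548 = n200365 := d10_2 (iv6 F493902) D218548 (iv4 F493898)
theorem F494415 : act 7 n218548 = n218106 := d11_2 F494342 D218548 (iv4 F494341)
theorem F494416 : act 0 n218548 = n218108 := d18_2 (iv1 F494388) D218548 (iv4 F494156) F494157 F382760 D191254 (iv4 F479288) F479286 (iv5 F494384)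
theorem F494417 : act 0 n218107 = n218548 := d20_10 (iv4 D218548) (iv1 F377576) (iv4 F494118) (iv3 D218484) (iv1 F383030) F462861 F462858 (iv1 D201704) D201705 (iv3 F492174)
def n218549 : Q := act 7 n189468
theorem D218549 : act 7 n189468 = n218549 := rfl
theorem F494418 : act 2 n218549 = n214984 := d4_1 D218549 (iv7 F494403) F494400
theorem F494419 : act 3 n218549 = n218439 := d8_1 D218549 (iv7 F494409) F494407
theorem F494420 : act 4 n218549 = n207173 := d11_1 D218549 (iv7 F447748) (iv4 F447752)
theorem F494421 : act 5 n218549 = n218547 := d13_1 D218549 F494409 F493904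
theorem F494422 : act 6 n218549 = n214989 := d14_1 D218549 F494356 (iv6 D218537) (iv7 F376630) D189468
theorem F494423 : act 1 n200401 = n218549 := d15_1 (iv0 F494404) (iv7 D218549) (iv2 F494400)
theorem F494424 : act 1 n218549 = n200396 := d15_1 F494423 (iv7 F416290) (iv2 F416306)
def n218550 : Q := act 4 n189472
theorem D218550 : act 4 n189472 = n218550 := rfl
theorem F494425 : act 2 n218550 = n218422 := d1_1 D218550 (iv4 D218422) (iv2 F479284)
theorem F494426 : act 3 n218550 = n215712 := d5_1 D218550 F481203 F377327 (iv4 F494180) F494179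
theorem F494427 : act 6 n218550 = n208450 := d10_2 F494178 D218550 (iv4 F494176)
theorem F494428 : act 7 n218550 = n200408 := d11_2 F479283 D218550 F481108
theorem F494429 : act 0 n218550 = n207239 := d18_2 D189472 D218550 (iv4 F494215) (iv5 F494272) (iv4 F494368) (iv0 D218540) (iv4 D189461) (iv0 D93976) D93979
theorem F494430 : act 0 n208031 = n218550 := d20_10 (iv4 D218550) (iv1 F376644) (iv4 F493695) F493694 (iv1 F474904) F474900 (iv4 D208030) (iv1 D133225) D133226 D208031
def n218551 : Q := act 4 n189473
theorem D218551 : act 4 n189473 = n218551 := rfl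
theorem F494431 : act 2 n218551 = n200408 := d1_1 D218551 F481108 F479281
theorem F494432 : act 3 n218551 = n191193 := d5_1 D218551 F382546 F381179 D190914 F381537
theorem F494433 : act 7 n218551 = n218422 := d11_2 (iv7 F479285) D218551 (iv4 D218422)
theorem F494434 : act 0 n218551 = n208031 := d20_1 D218551 (iv4 F494205) F494204 F447491 (iv3 F492165) (iv4 D218104) (iv1 F373773) F145484 (iv3 F376245) (iv1 F376645)
theorem F494435 : act 0 n207239 = n218551 := d20_10 (iv4 D218551) (iv1 D189473) D189474 F376646 (iv1 F377133) (iv3 F377135) F214432 (iv1 F175842) D130634 D207239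
theorem F494436 : act 6 n218551 = n195209 := d21_5 (iv5 D200036) (iv1 F414513) (iv5 F477626) F477631 F494435 (iv5 F396272) (iv1 F214375) (iv5 F416284) (iv6 F416288) (iv1 F414717)
def n218552 : Q := act 6 n189473
theorem D218552 : act 6 n189473 = n218552 := rfl
theorem F494437 : act 2 n218552 = n200407 := d3_1 D218552 (iv6 F481109) F479281
theorem F494438 : act 4 n218552 = n195209 := d10_1 D218552 (iv6 F494436) (iv4 D218551)
theorem F494439 : act 5 n218552 = n196205 := d12_1 D218552 (iv6 F494294) (iv5 F494330) (iv6 F494333) (iv5 F474468)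
theorem F494440 : act 7 n218552 = n200404 := d14_2 (iv7 F479285) D218552 (iv6 F494040) F494041 (iv6 F483096)
theorem F494441 : act 0 n218552 = n218514 := d21_4 F494129 F479265 (iv5 F474468) D218552 F494240 F493706 (iv1 F399802) (iv5 F399807) D218471 (iv1 F494130)
theorem F494442 : act 1 n218552 = n218516 := d15_1 (iv0 F494441) F494247 F494241
def n218553 : Q := act 0 n189474
theorem D218553 : act 0 n189474 = n218553 := rfl
theorem F494443 : act 4 n218553 = n218505 := d18_3 (iv1 D189473) D189474 D218553 F494206 (iv4 D194216) (iv0 D102999) (iv4 F158255) D194204 (iv5 F474468)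
theorem F494444 : act 3 n218553 = n190648 := d20_5 (iv4 D189614) (iv1 F145099) (iv4 F363535) (iv3 F376646) D218553 (iv4 F382707) (iv1 F288014) F288011 (iv3 F287997) (iv1 F377122)
theorem F494445 : act 1 n218401 = n218553 := d15_0 (iv0 D218553) F376647 D218401
theorem F494446 : act 7 n218399 = n218553 := d8_0 F494444 (iv7 F382695) (iv3 F493692)
theorem F494447 : act 2 n218553 = n218400 := d15_3 F493699 F493693 F494446
def n218554 : Q := act 1 n189474
theorem D218554 : act 1 n189474 = n218554 := rfl
theorem F494448 : act 1 n218554 = n218401 := d15_1 D218554 F493698 F382749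
theorem F494449 : act 7 n218554 = n218400 := d15_2 (iv0 D218553) D218554 (iv2 F494447)
theorem F494450 : act 4 n218506 = n218554 := d20_6 (iv4 F69127) F69125 D92418 D188528 D218121 F494208 (iv1 D218554) (iv4 D189474) F144784 (iv1 F69045)
theorem F494451 : act 6 n200374 = n218554 := d21_3 (iv5 D215943) F443554 F443551 (iv1 D218554) (iv6 F376648) (iv5 F294075) (iv1 D89989) D89991 D187379 (iv1 F482195)
theorem F494452 : act 3 n218554 = n200375 := d7_1 F494451 (iv6 D200375) D200374
theorem F494453 : act 2 n218399 = n218554 := d0_5 F494452 F416188 (iv3 F416195) F382697 (iv3 F493692)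
def n218555 : Q := act 0 n189475
theorem D218555 : act 0 n189475 = n218555 := rfl
theorem F494454 : act 4 n218555 = n215303 := d18_1 D218555 (iv1 F479299) F477749 F376200 (iv4 F376305) (iv0 D189275) (iv4 F376292) (iv0 F493741) F493738
theorem F494455 : act 1 n216129 = n218555 := d15_0 (iv0 D218555) (iv7 F382757) (iv2 F483104)
theorem F494456 : act 3 n189557 = n218555 := d20_3 (iv4 D218488) F376472 (iv4 F376881) (iv1 F494455) F483108 D218548 F494416 (iv4 F494156) F494155 (iv1 F494138)
theorem F494457 : act 7 n218555 = n215302 := d8_2 F376882 F494456 F479291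
def n218556 : Q := act 1 n189475
theorem D218556 : act 1 n189475 = n218556 := rfl
theorem F494458 : act 1 n218556 = n216129 := d15_1 D218556 F483106 F382746
theorem F494459 : act 4 n218556 = n190752 := d17_9 F380918 (iv5 F380767) F380768 D192862 (iv4 F493867) (iv5 D218433) (iv0 F493741) F493738 D218556
theorem F494460 : act 6 n215295 = n218556 := d21_3 F494055 (iv1 F494130) F494129 (iv1 D218556) (iv6 D189475) (iv5 D93979) D93976 D189462 F430970 (iv1 F486027)
theorem F494461 : act 2 n218556 = n215302 := d3_1 F494460 (iv6 D215302) (iv2 F479263)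
def n218557 : Q := act 3 n189477
theorem D218557 : act 3 n189477 = n218557 := rfl
theorem F494462 : act 4 n218557 = n208524 := d5_2 F376724 D218557 (iv3 D208524) F345024 F376726
theorem F494463 : act 6 n218557 = n200557 := d7_2 F465960 D218557 (iv3 F465959)
theorem F494464 : act 0 n218557 = n218523 := d19_4 D216953 F486690 F376724 D218557 F494283 (iv4 D191244) F150247 F147187 (iv5 D47874) F36090 (iv3 F65927) (iv1 D22878) D22879 (iv4 F69085) D94032 F374493 (iv5 F376704) (iv4 F448409) F468080
theorem F494465 : act 0 n218534 = n218557 := d20_4 F494198 F382737 F392373 (iv3 F494336) (iv3 D218557) (iv4 F376724) F399005 (iv4 F493984) F493983 F494200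
theorem F494466 : act 5 n200554 = n194210 := d21_8 F493821 (iv1 F490999) (iv5 F491000) D218534 F494465 F494463 (iv5 D200557) D200554 F392381 (iv1 F493823)
theorem F494467 : act 7 n194209 = n200554 := d13_0 F494466 (iv7 D194210) D194209
def n218558 : Q := act 5 n189477
theorem D218558 : act 5 n189477 = n218558 := rfl
theorem F494468 : act 4 n218558 = n210081 := d9_1 D218558 F477280 (iv4 F492137) (iv5 F492134) (iv4 F486615) F486616 (iv4 F399007) (iv5 F494133) F494132 F486031 (iv4 F492129) F492128 (iv4 F486691) F486690 F376724
theorem F494469 : act 1 n216813 = n218492 := d18_8 F376723 F376722 D189501 F376724 D218558 F494468 (iv0 F456087) (iv4 F486029) F494151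
theorem F494470 : act 6 n210080 = n218558 := d10_0 F494468 (iv6 D210081) D210080
def n218559 : Q := act 6 n189478
theorem D218559 : act 6 n189478 = n218559 := rfl
theorem F494471 : act 3 n218559 = n189530 := d7_1 D218559 F493854 (iv3 F493853)
theorem F494472 : act 5 n218559 = n215302 := d12_1 D218559 (iv6 D215302) (iv5 F376467) D218487 F494133
theorem F494473 : act 0 n218523 = n218559 := d17_0 F494472 F479293 F382747 (iv4 D189403) (iv5 F371428) F463902 (iv5 F493811) (iv0 F493813) (iv4 F494282)
theorem F494474 : act 1 n218534 = n218559 := d17_6 (iv1 D97473) (iv5 D45520) (iv1 F71795) D97041 D190914 F494338 F494472 F479294 (iv4 D191250)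
def n218560 : Q := act 5 n189480
theorem D218560 : act 5 n189480 = n218560 := rfl
theorem F494475 : act 2 n218560 = n218558 := d2_1 D218560 (iv5 D218558) (iv2 F486424)
theorem F494476 : act 3 n218560 = n218424 := d6_1 D218560 F493818 (iv3 F486419)
theorem F494477 : act 7 n218560 = n218487 := d13_2 (iv7 F486426) D218560 F494133
theorem F494478 : act 4 n218560 = n209904 := d16_2 F486418 D218560 F455312 F492132 (iv5 D215717) (iv4 F481216) F486434 F486430 F486423
theorem F494479 : act 6 n218560 = n209903 := d21_3 F430972 D189480 D218560 F455311 (iv6 F487855) F494320 (iv1 D218530) D218531 F494360 (iv1 D218538)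
def n218561 : Q := act 6 n189480
theorem D218561 : act 6 n189480 = n218561 := rfl
theorem F494480 : act 2 n218561 = n212472 := d3_1 D218561 F465960 (iv2 F486424)
theorem F494481 : act 4 n218561 = n212470 := d10_1 D218561 (iv6 F486421) F486418
def n218562 : Q := act 3 n189481
theorem D218562 : act 3 n189481 = n218562 := rfl
theorem F494482 : act 2 n218562 = n218559 := d0_1 D218562 F494471 F493856 (iv3 F493853) F486427
theorem F494483 : act 4 n218562 = n207274 := d5_2 (iv4 F486431) D218562 F444090 (iv4 F428314) F486432
theorem F494484 : act 7 n218562 = n218557 := d8_2 F486428 D218562 (iv3 D218557)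
theorem F494485 : act 6 n189481 = n218562 := d14_5 F494484 F494463 (iv7 F465961) F465960 F486428
theorem F494486 : act 5 n218562 = n218556 := d21_6 (iv5 F376424) (iv1 F477718) F477715 (iv6 F376657) (iv1 F376660) F494485 (iv1 D218556) (iv5 F493738) F493739 F376375
def n218563 : Q := act 5 n189481
theorem D218563 : act 5 n189481 = n218563 := rfl
theorem F494487 : act 2 n218563 = n218487 := d2_1 D218563 F494133 F486427
theorem F494488 : act 3 n218563 = n218556 := d6_1 D218563 (iv5 F494486) (iv3 D218562)
theorem F494489 : act 6 n218563 = n218486 := d12_2 (iv6 F494485) D218563 F494129 F494460 (iv5 F494486)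
theorem F494490 : act 7 n218563 = n218558 := d13_2 F486428 D218563 (iv5 D218558)
def n218564 : Q := act 0 n189499
theorem D218564 : act 0 n189499 = n218564 := rfl
theorem F494491 : act 4 n218564 = n189547 := d18_3 F493950 F486189 D218564 (iv5 F443869) F443868 D207226 (iv4 F443891) (iv0 F377328) (iv5 F493948)
theorem F494492 : act 3 n218564 = n189735 := d20_5 (iv4 F69093) F69091 D93998 D189499 D218564 (iv4 D189735) (iv1 D94364) F69444 (iv3 D43923) D43921
theorem F494493 : act 1 n217028 = n218564 := d15_0 (iv0 D218564) F376720 D217028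
theorem F494494 : act 2 n217027 = n218564 := d0_5 F494492 (iv2 F492164) F492165 F443800 F493781
theorem F494495 : act 7 n217026 = n218564 := d8_0 F494492 (iv7 F492169) (iv3 F492170)
theorem F494496 : act 6 n218564 = n189545 := d3_2 (iv6 F493783) F494494 F376858
def n218565 : Q := act 1 n189499
theorem D218565 : act 1 n189499 = n218565 := rfl
theorem F494497 : act 1 n218565 = n217028 := d15_1 D218565 (iv7 F492225) F492224
theorem F494498 : act 7 n218565 = n217027 := d15_2 (iv0 D218564) D218565 F494494
theorem F494499 : act 4 n218565 = n216954 := d17_9 F486697 (iv5 D216891) (iv1 D186249) D186250 (iv4 F376548) (iv5 F492234) (iv0 D218121) (iv5 F376719) D218565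
theorem F494500 : act 3 n216841 = n218565 := d20_3 F447619 (iv1 F443808) D216841 (iv1 D218565) (iv3 D189499) (iv4 D93998) (iv1 F69126) F69127 D93974 D189453
theorem F494501 : act 6 n217853 = n218565 := d21_9 F376719 D218121 F492234 (iv6 D189407) (iv1 F144776) D93968 D189434 (iv1 F376933) (iv5 F490936) (iv1 D218565)
theorem F494502 : act 5 n218565 = n216813 := d12_1 F494501 (iv6 D216813) D216812 (iv6 F486028) (iv5 F490936)
theorem F494503 : act 2 n217026 = n218565 := d2_3 F494502 F494146 (iv5 F494149)
def n218566 : Q := act 7 n189500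
theorem D218566 : act 7 n189500 = n218566 := rfl
theorem F494504 : act 2 n218566 = n218456 := d4_1 D218566 F493985 (iv2 F376721)
theorem F494505 : act 3 n218566 = n218489 := d8_1 D218566 F494140 F486183
theorem F494506 : act 4 n218566 = n189503 := d11_1 D218566 (iv7 D189503) (iv4 F376722)
theorem F494507 : act 5 n218566 = n218122 := d13_1 D218566 (iv7 F494225) F494226
theorem F494508 : act 6 n218566 = n196139 := d14_1 D218566 F399580 F367593 (iv7 F144829) D189500
theorem F494509 : act 1 n189521 = n218566 := d15_1 (iv0 F376899) (iv7 D218566) F376721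
theorem F494510 : act 1 n218566 = n208195 := d15_1 F494509 F448307 F376796
def n218567 : Q := act 6 n189502
theorem D218567 : act 6 n189502 = n218567 := rfl
theorem F494511 : act 2 n218567 = n207274 := d3_1 D218567 F486433 F486435
theorem F494512 : act 3 n218567 = n214489 := d7_1 D218567 F475417 (iv3 F399008)
theorem F494513 : act 4 n218567 = n218559 := d10_1 D218567 (iv6 D218559) F399007
theorem F494514 : act 5 n218567 = n207273 := d12_1 D218567 F444087 F443267 D216939 F486616
theorem F494515 : act 7 n218567 = n218480 := d14_2 (iv7 F486425) D218567 (iv6 F494095) F480729 (iv6 F486421)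
theorem F494516 : act 0 n218567 = n218404 := d21_4 (iv5 F443869) F486617 F486616 D218567 F493715 (iv5 D208016) (iv1 F442231) F442229 (iv6 F486415) F486416
theorem F494517 : act 0 n218481 = n218567 := d21_4 (iv5 F475117) F475119 (iv5 F469133) (iv6 F494101) (iv6 D218567) (iv5 F486616) (iv1 F486618) D216954 F486696 (iv1 F377210)
def n218568 : Q := act 1 n189513
theorem D218568 : act 1 n189513 = n218568 := rfl
theorem F494518 : act 1 n218568 = n196022 := d15_1 D218568 (iv7 F399909) (iv2 F399910)
theorem F494519 : act 7 n218568 = n209343 := d15_2 (iv0 F399341) D218568 F453324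
theorem F494520 : act 4 n218568 = n217328 := d18_7 (iv1 D214245) (iv4 F439741) F463404 F463402 (iv5 D189516) (iv4 F376777) D218568 F488453 (iv5 F474188)
theorem F494521 : act 5 n218568 = n207871 := d18_9 F446825 F400078 (iv1 D196255) (iv4 D106835) D106836 F399076 (iv0 D189514) (iv4 F376777) D218568
theorem F494522 : act 3 n200745 = n218568 := d20_3 (iv4 F398926) (iv1 F398929) F417748 (iv1 D218568) (iv3 F445622) F445621 (iv1 F445320) (iv4 D207530) (iv3 F399194) F399197
theorem F494523 : act 2 n218568 = n209347 := d0_1 F494522 F453341 (iv2 F382566) (iv3 F377466) F417747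
def n218569 : Q := act 5 n189513
theorem D218569 : act 5 n189513 = n218569 := rfl
theorem F494524 : act 2 n218569 = n196120 := d2_1 D218569 (iv5 F399907) (iv2 F399910)
theorem F494525 : act 3 n218569 = n207458 := d6_1 D218569 (iv5 F445620) F445622
theorem F494526 : act 6 n218569 = n217041 := d12_2 D189513 D218569 F487104 F379665 (iv5 D189512)
theorem F494527 : act 0 n218569 = n206879 := d17_2 (iv1 D218568) D218569 F442490 F398938 (iv5 F398944) (iv0 D187957) (iv5 F369397) D217328 (iv4 F494520)
theorem F494528 : act 1 n218569 = n200743 := d17_6 (iv1 F164445) (iv5 F205545) F376780 (iv5 D189516) (iv4 F376777) D218569 F417738 F399226 F399223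
theorem F494529 : act 4 n218569 = n208318 := d18_5 (iv1 F370130) (iv4 F395356) (iv1 D189515) (iv4 F376777) D218569 F448895 F445961 F214459 (iv5 F343682)
def n218570 : Q := act 0 n189520
theorem D218570 : act 0 n189520 = n218570 := rfl
theorem F494530 : act 3 n218570 = n190009 := d20_5 D216847 F486195 F376798 (iv3 F376791) D218570 F378555 D216850 F486210 F379741 (iv1 F376477)
theorem F494531 : act 5 n218570 = n208965 := d21_2 (iv5 F376792) D218570 (iv6 F451600) (iv1 D206065) (iv6 D127344) (iv5 D59812) D59810 (iv5 F104817) D146320 F367269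
theorem F494532 : act 6 n218570 = n190008 := d21_5 F367588 (iv1 D102571) (iv5 F144844) D189520 D218570 F378552 F451982 F451978 F379989 (iv1 F367587)
theorem F494533 : act 2 n208973 = n218570 := d15_3 (iv0 D218570) (iv0 F475859) (iv7 F475861)
theorem F494534 : act 1 n201876 = n218570 := d15_0 (iv0 D218570) (iv7 F466697) F466694
theorem F494535 : act 7 n218570 = n208975 := d15_2 (iv0 F475860) F494534 (iv2 F475855)
theorem F494536 : act 4 n209097 = n218570 := d11_3 F494535 (iv4 F486438) F486441
def n218571 : Q := act 7 n189522
theorem D218571 : act 7 n189522 = n218571 := rfl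
theorem F494537 : act 2 n218571 = n207972 := d4_1 D218571 F447211 (iv2 F376797)
theorem F494538 : act 3 n218571 = n216131 := d8_1 D218571 F483117 F376806
theorem F494539 : act 4 n218571 = n189525 := d11_1 D218571 (iv7 D189525) (iv4 F376798)
theorem F494540 : act 5 n218571 = n214897 := d13_1 D218571 F477329 F382759
theorem F494541 : act 6 n218571 = n215605 := d14_1 D218571 F480732 (iv6 D189367) (iv7 F144846) D189522
theorem F494542 : act 1 n218489 = n218571 := d15_1 (iv0 F494141) (iv7 D218571) F376797
theorem F494543 : act 1 n218571 = n218488 := d15_1 F494542 F494137 (iv2 F494139)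
def n218572 : Q := act 0 n189526
theorem D218572 : act 0 n189526 = n218572 := rfl
theorem F494544 : act 5 n218572 = n218564 := d17_3 F445387 (iv5 F376808) D218572 F494491 (iv5 F443869) (iv0 F486695) F486690 (iv0 D189501) (iv4 F376722)
theorem F494545 : act 2 n218491 = n218572 := d15_3 (iv0 D218572) F486032 F494145
theorem F494546 : act 1 n218492 = n218572 := d15_0 (iv0 D218572) F376809 D218492
theorem F494547 : act 7 n218572 = n218490 := d15_2 F494469 F494546 (iv2 F494146)
theorem F494548 : act 6 n218463 = n218572 := d21_9 F494151 F376723 (iv5 F494226) (iv6 F494227) F489824 (iv6 F447963) (iv5 F493747) (iv1 F493753) (iv5 F494014) (iv1 F494546)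
def n218573 : Q := act 2 n189526
theorem D218573 : act 2 n189526 = n218573 := rfl
theorem F494549 : act 3 n218573 = n208195 := d0_2 D189526 D218573 F448306 (iv3 D189366) (iv2 F144852)
theorem F494550 : act 4 n218573 = n208196 := d1_2 F461824 D218573 (iv2 F461822)
theorem F494551 : act 5 n218573 = n208195 := d2_2 (iv5 F376808) D218573 F448306
theorem F494552 : act 6 n218573 = n209945 := d3_2 F456095 D218573 (iv2 F456096)
theorem F494553 : act 7 n218573 = n218492 := d4_2 (iv7 F376809) D218573 (iv2 D218492)
theorem F494554 : act 1 n218573 = n218490 := d15_0 (iv0 D218490) (iv7 F376809) D218573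
theorem F494555 : act 1 n218491 = n218573 := d15_0 F494554 (iv7 F494547) (iv2 F494545)
def n218574 : Q := act 1 n189527
theorem D218574 : act 1 n189527 = n218574 := rfl
theorem F494556 : act 1 n218574 = n215605 := d15_1 D218574 F480732 (iv2 F376810)
theorem F494557 : act 7 n218574 = n194211 := d15_2 (iv0 F376812) D218574 F392382
theorem F494558 : act 4 n218574 = n194201 := d18_7 (iv1 F353839) (iv4 D175936) (iv1 F272134) (iv4 F342083) (iv5 F144857) (iv4 F376811) D218574 F392361 F355836
theorem F494559 : act 2 n194212 = n218574 := d1_3 F494558 (iv2 F392364) D194212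
theorem F494560 : act 3 n218513 = n218574 := d5_5 F494558 (iv3 F392365) F355691 (iv3 F466676) (iv4 F494237)
theorem F494561 : act 6 n218446 = n218574 := d10_0 F494558 F392366 (iv4 F493936)
def n218575 : Q := act 5 n189527
theorem D218575 : act 5 n189527 = n218575 := rfl
theorem F494562 : act 2 n218575 = n200553 := d2_1 D218575 F416963 (iv2 F376810)
theorem F494563 : act 6 n218575 = n200553 := d12_2 D189527 D218575 F416963 (iv6 D189367) (iv5 F144853)
theorem F494564 : act 4 n218575 = n200547 := d16_2 (iv4 F376811) D218575 F416952 (iv4 D175943) (iv5 D83959) (iv4 F128942) D175933 (iv7 F373946) F373944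
theorem F494565 : act 7 n200550 = n218575 := d11_0 F494564 F416951 D200550
def n218576 : Q := act 7 n189527
theorem D218576 : act 7 n189527 = n218576 := rfl
theorem F494566 : act 2 n218576 = n215605 := d4_1 D218576 F480732 (iv2 F376810)
theorem F494567 : act 3 n218576 = n209947 := d8_1 D218576 (iv7 F456092) (iv3 F456094)
theorem F494568 : act 4 n218576 = n189529 := d11_1 D218576 (iv7 D189529) (iv4 F376811)
theorem F494569 : act 5 n218576 = n200550 := d13_1 D218576 F494565 (iv5 D218575)
theorem F494570 : act 6 n218576 = n207972 := d14_1 D218576 F447211 (iv6 D189365) (iv7 F144854) D189527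
theorem F494571 : act 1 n194212 = n218576 := d15_1 (iv0 F392385) (iv7 D218576) F376810
theorem F494572 : act 1 n218576 = n194211 := d15_1 F494571 (iv7 F494557) (iv2 F494559)
def n218577 : Q := act 4 n189530
theorem D218577 : act 4 n189530 = n218577 := rfl
theorem F494573 : act 3 n218577 = n209077 := d5_1 D218577 (iv4 F475418) (iv3 F494512) F494513 F494471
theorem F494574 : act 5 n218577 = n209076 := d16_1 D218577 F452133 (iv5 F317500) (iv4 F334340) (iv5 F376476) (iv4 F493815) F493818 (iv7 F493851) (iv2 F493856)
theorem F494575 : act 1 n214909 = n218577 := d17_6 F334631 (iv5 D62360) D62358 D132882 (iv4 F417727) (iv5 F477385) F494574 (iv0 F452135) F280704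
theorem F494576 : act 0 n207480 = n218577 := d21_7 (iv5 F329445) F329442 (iv5 F300707) (iv6 F347467) D206554 (iv6 F447227) (iv5 F447229) F494574 F452136 F303732
def n218578 : Q := act 4 n189531
theorem D218578 : act 4 n189531 = n218578 := rfl
theorem F494577 : act 3 n218578 = n207472 := d5_1 D218578 F445082 (iv3 F486420) F486418 F486419
theorem F494578 : act 5 n218578 = n216072 := d9_2 F493818 D218578 F482787 (iv5 D185902) F135599 D88543 D185911 (iv5 F376823) D218577 F494574 F452133 (iv5 F317500) (iv4 F334340) (iv5 F376476) (iv4 F493815)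
theorem F494579 : act 0 n214909 = n218578 := d20_10 (iv4 D218578) (iv1 D189531) (iv4 F376769) (iv3 D189511) D189509 F376761 (iv4 F358961) (iv1 D185610) (iv4 F257752) (iv3 F477384)
theorem F494580 : act 1 n207480 = n218578 := d15_0 (iv0 F494579) F477386 F445336
def n218579 : Q := act 6 n189531
theorem D218579 : act 6 n189531 = n218579 := rfl
theorem F494581 : act 3 n218579 = n218561 := d7_1 D218579 (iv6 D218561) F486419
def n218580 : Q := act 1 n189541
theorem D218580 : act 1 n189541 = n218580 := rfl
theorem F494582 : act 1 n218580 = n189546 := d15_1 D218580 (iv7 F493837) F493834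
theorem F494583 : act 7 n218580 = n195998 := d15_2 F376848 D218580 F399011
theorem F494584 : act 4 n218580 = n204223 := d17_9 (iv1 F490924) F490922 (iv1 F377006) F364225 (iv4 F413482) F413483 F376277 D189541 D218580
theorem F494585 : act 5 n218580 = n195999 := d18_9 F402761 F402757 F492875 (iv4 D218234) (iv5 D188815) (iv4 F374981) F490515 F490513 D218580
theorem F494586 : act 3 n196005 = n218580 := d20_3 (iv4 F490930) F490933 F467962 (iv1 D218580) (iv3 F402744) F402745 (iv1 F166825) (iv4 F165939) F322882 D195982
theorem F494587 : act 6 n207960 = n218580 := d21_3 (iv5 D132789) D132787 D207960 (iv1 D218580) (iv6 F491669) F491668 (iv1 F493172) (iv5 D218297) F447171 (iv1 D207962)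
theorem F494588 : act 2 n218580 = n204197 := d3_1 F494587 F431442 (iv2 F447159)
def n218581 : Q := act 3 n189545
theorem D218581 : act 3 n189545 = n218581 := rfl
theorem F494589 : act 2 n218581 = n207147 := d0_1 D218581 F443519 F209182 D189315 (iv2 F376858)
theorem F494590 : act 4 n218581 = n189736 := d5_2 D189545 D218581 (iv3 F444604) F444605 F377002
theorem F494591 : act 5 n218581 = n201193 := d6_2 F490569 D218581 (iv3 F490567)
theorem F494592 : act 6 n218581 = n189735 := d7_2 F494496 D218581 (iv3 F494492)
theorem F494593 : act 7 n218581 = n218464 := d8_2 F376929 D218581 F494016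
theorem F494594 : act 0 n218581 = n218463 := d19_4 F376832 (iv5 D189546) D189545 D218581 F494014 F376554 F364514 (iv1 F161802) (iv5 F340677) F340676 (iv3 F227911) (iv1 F233087) (iv5 F236031) F280321 (iv3 F305152) (iv1 F197291) (iv5 F197308) F364651 (iv3 F371593)
theorem F494595 : act 0 n217485 = n218581 := d20_4 (iv4 D207530) F352570 D207481 (iv3 F489103) (iv3 D218581) (iv4 D189545) (iv1 D94027) (iv4 F144859) (iv3 F376825) (iv1 F445320)
def n218582 : Q := act 7 n189547
theorem D218582 : act 7 n189547 = n218582 := rfl
theorem F494596 : act 2 n218582 = n216954 := d4_1 D218582 (iv7 F493844) F493840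
theorem F494597 : act 4 n218582 = n217026 := d11_1 D218582 F494495 F494491
theorem F494598 : act 5 n218582 = n189753 := d13_1 D218582 (iv7 F443870) F443869
theorem F494599 : act 6 n218582 = n196013 := d14_1 D218582 F399062 (iv6 F376269) F376841 D189547
theorem F494600 : act 1 n190461 = n218582 := d15_1 (iv0 F493846) (iv7 D218582) (iv2 F493840)
theorem F494601 : act 1 n218582 = n217919 := d15_1 F494600 F491264 F486413
def n218583 : Q := act 0 n189555
theorem D218583 : act 0 n189555 = n218583 := rfl
theorem F494602 : act 4 n218583 = n197081 := d18_1 D218583 F402966 (iv4 F378536) F378537 F376686 (iv0 F413867) F413866 (iv0 F474571) F474568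
theorem F494603 : act 2 n207223 = n218583 := d15_3 (iv0 D218583) (iv0 F376873) D207223
theorem F494604 : act 1 n190464 = n218583 := d15_0 (iv0 D218583) (iv7 F444095) F444094
theorem F494605 : act 7 n218583 = n201475 := d15_2 (iv0 F379828) F494604 F420648
theorem F494606 : act 3 n190446 = n218583 := d20_3 F392292 (iv1 F367587) (iv4 F379787) (iv1 F494604) (iv3 D190464) D190465 F445131 F445128 F399570 (iv1 F392290)
def n218584 : Q := act 6 n189559
theorem D218584 : act 6 n189559 = n218584 := rfl
theorem F494607 : act 2 n218584 = n189560 := d3_1 D218584 (iv6 D189560) D189559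
theorem F494608 : act 3 n218584 = n217864 := d7_1 D218584 (iv6 F493860) F493857
theorem F494609 : act 4 n218584 = n190461 := d10_1 D218584 (iv6 F447477) F447479
theorem F494610 : act 5 n218584 = n218475 := d12_1 D218584 (iv6 F494285) F494307 (iv6 D218528) (iv5 F376883)
theorem F494611 : act 7 n218584 = n218526 := d14_2 F493822 D218584 F494294 F399871 F493825
theorem F494612 : act 0 n218421 = n218584 := d21_4 (iv5 F376924) (iv1 F493833) (iv5 F493940) (iv6 F493944) (iv6 D218584) F376883 (iv1 F490995) (iv5 F493787) (iv6 F493790) F376614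
def n218585 : Q := act 1 n189560
theorem D218585 : act 1 n189560 = n218585 := rfl
theorem F494613 : act 1 n218585 = n218526 := d15_1 D218585 (iv7 F494611) F494607
theorem F494614 : act 4 n218585 = n190028 := d17_9 F378614 (iv5 D188526) (iv1 D92348) F293659 (iv4 F144790) (iv5 F430972) D218538 (iv5 F494361) D218585
theorem F494615 : act 3 n190027 = n218585 := d20_3 F376533 F370074 D190027 (iv1 D218585) F376884 F144895 D94052 D189564 (iv3 F376900) (iv1 F381949)
theorem F494616 : act 6 n217766 = n218585 := d21_3 D217861 F490976 (iv5 F490517) (iv1 D218585) (iv6 D189560) F144894 D189444 (iv5 F400112) (iv6 F490547) F490549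
theorem F494617 : act 2 n218585 = n218421 := d3_1 F494616 F493944 F493938
def n218586 : Q := act 7 n189560
theorem D218586 : act 7 n189560 = n218586 := rfl
theorem F494618 : act 2 n218586 = n218526 := d4_1 D218586 (iv7 F494611) F494607
theorem F494619 : act 3 n218586 = n189562 := d8_1 D218586 (iv7 D189562) (iv3 F376884)
theorem F494620 : act 4 n218586 = n217919 := d11_1 D218586 F491264 F486417
theorem F494621 : act 5 n218586 = n218474 := d13_1 D218586 (iv7 F494358) (iv5 F494361)
theorem F494622 : act 1 n218421 = n218586 := d15_1 (iv0 F494612) (iv7 D218586) (iv2 F494607)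
def n218587 : Q := act 7 n189561
theorem D218587 : act 7 n189561 = n218587 := rfl
theorem F494623 : act 3 n218587 = n218474 := d8_1 D218587 (iv7 F494358) (iv3 F494359)
theorem F494624 : act 4 n218587 = n189965 := d11_1 D218587 (iv7 F380945) (iv4 F380946)
theorem F494625 : act 5 n218587 = n189562 := d13_1 D218587 (iv7 D189562) D189561
theorem F494626 : act 1 n191244 = n218587 := d15_1 F493868 (iv7 D218587) (iv2 F493864)
theorem F494627 : act 1 n218587 = n190914 := d15_1 F494626 (iv7 F483093) F483091
def n218588 : Q := act 5 n189569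
theorem D218588 : act 5 n189569 = n218588 := rfl
theorem F494628 : act 2 n218588 = n214426 := d2_1 D218588 (iv5 F475127) (iv2 F447498)
theorem F494629 : act 3 n218588 = n212284 := d6_1 D218588 (iv5 F494113) F494111
theorem F494630 : act 6 n218588 = n196354 := d12_2 F447482 D218588 F400462 (iv6 F447457) F447456
theorem F494631 : act 7 n218588 = n212607 := d13_2 F447499 D218588 F466663
theorem F494632 : act 4 n218588 = n196355 := d16_2 F490560 D218588 (iv5 F474997) F474996 F250865 (iv4 F376401) (iv5 F490551) F490557 F490562
theorem F494633 : act 1 n218588 = n214427 := d17_8 (iv1 D203773) D203775 (iv1 F489512) (iv5 D217562) F370822 (iv5 F144913) D189569 D218588 F475132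
theorem F494634 : act 0 n218588 = n214424 := d18_0 F475116 (iv1 F482540) F482541 F371796 D189438 F379477 (iv4 F144912) D189569 D218588
def n218589 : Q := act 1 n189571
theorem D218589 : act 1 n189571 = n218589 := rfl
theorem F494635 : act 1 n218589 = n191417 := d15_1 D218589 (iv7 F486975) F486974
theorem F494636 : act 7 n218589 = n216153 := d15_2 F487442 D218589 (iv2 F487438)
theorem F494637 : act 4 n218589 = n191334 := d18_7 F157298 F151226 (iv1 D96052) F70407 D94097 D189571 D218589 (iv0 F383090) (iv5 D190208)
theorem F494638 : act 2 n209605 = n218589 := d1_3 F494637 F383088 (iv4 F454313)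
theorem F494639 : act 6 n200908 = n218589 := d10_0 F494637 (iv6 F383092) (iv4 F418363)
def n218590 : Q := act 5 n189571
theorem D218590 : act 5 n189571 = n218590 := rfl
theorem F494640 : act 7 n218590 = n216155 := d13_2 (iv7 F377007) D218590 (iv5 D216155)
def n218591 : Q := act 6 n189571
theorem D218591 : act 6 n189571 = n218591 := rfl
theorem F494641 : act 3 n218591 = n201773 := d7_1 D218591 (iv6 F484048) F484047
theorem F494642 : act 4 n218591 = n189572 := d10_1 D218591 (iv6 D189572) D189571
theorem F494643 : act 7 n218591 = n207707 := d14_2 (iv7 F377007) D218591 (iv6 D207707) F212266 (iv6 F355254)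
theorem F494644 : act 5 n218591 = n206581 := d21_6 (iv5 D201068) F177139 D200908 F494639 (iv1 D218589) D218591 F441422 (iv5 F465610) (iv6 D212383) (iv1 F418972)
theorem F494645 : act 0 n208742 = n218591 := d17_0 F494644 F441422 (iv5 F465610) F465609 F336975 F217201 D208725 F450594 D208742
theorem F494646 : act 1 n209359 = n218591 := d17_6 (iv1 F217204) (iv5 F405388) (iv1 F405392) F445947 (iv4 F445945) (iv5 F453386) F494644 (iv0 F441425) (iv4 D197521)
def n218592 : Q := act 0 n189576
theorem D218592 : act 0 n189576 = n218592 := rfl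
theorem F494647 : act 5 n218592 = n195751 := d19_1 D218592 (iv4 F441277) F441276 (iv1 D198930) (iv5 D110729) (iv4 D51047) (iv3 D24828) (iv1 F19852) (iv5 F39909) (iv4 F49214) (iv3 F101378) (iv1 F223015) F318731 (iv4 F319324) F187305 (iv1 F186652) D203303 (iv4 F489687) F489686
theorem F494648 : act 4 n218592 = n190517 := d20_0 (iv1 F379980) (iv4 F448083) F448072 (iv1 F218385) (iv3 F452321) (iv4 F466625) (iv1 F466628) (iv4 F489687) F489686 D218592
theorem F494649 : act 6 n218592 = n212286 := d21_5 F134186 F295016 F294671 D189576 D218592 (iv5 D212286) (iv1 F426323) F426321 (iv6 D188302) (iv1 F295015)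
theorem F494650 : act 7 n189585 = n218592 := d14_0 F494649 (iv7 F470752) F470751 F460305 (iv6 F429821)
theorem F494651 : act 0 n218592 = n189587 := d21_4 (iv5 D146460) D146457 D212286 (iv6 F494649) F377051 (iv5 D149367) D149365 (iv5 F439791) F439792 (iv1 F420064)
theorem F494652 : act 3 n218592 = n201676 := d8_1 F494650 F421908 F429822
theorem F494653 : act 2 n218592 = n189584 := d15_3 (iv0 D189584) D189585 F494650
def n218593 : Q := act 1 n189576
theorem D218593 : act 1 n189576 = n218593 := rfl
theorem F494654 : act 1 n218593 = n189587 := d15_1 D218593 (iv7 D189587) (iv2 F377018)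
theorem F494655 : act 7 n218593 = n189584 := d15_2 (iv0 D218592) D218593 (iv2 F494653)
theorem F494656 : act 4 n218593 = n190518 := d18_7 (iv1 D136559) (iv4 F167875) F389255 F389254 F156183 (iv4 F377019) D218593 F379976 F358542
theorem F494657 : act 5 n218593 = n195121 := d18_9 F406143 (iv4 F398046) F406142 F218464 D135826 (iv4 F448078) (iv0 D189577) (iv4 F377019) D218593
theorem F494658 : act 2 n189585 = n218593 := d2_3 F494657 (iv2 F475818) F475819
theorem F494659 : act 3 n195122 = n218593 := d6_3 F494657 (iv3 D195121) D195122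
theorem F494660 : act 6 n206238 = n218593 := d21_5 (iv5 D49141) (iv1 F77581) (iv5 F163376) (iv6 F356685) (iv1 F439863) F494657 F406143 D195753 F398049 (iv1 D106330)
def n218594 : Q := act 5 n189576
theorem D218594 : act 5 n189576 = n218594 := rfl
theorem F494661 : act 2 n218594 = n189586 := d2_1 D218594 (iv5 D189586) (iv2 F377018)
theorem F494662 : act 3 n218594 = n217685 := d6_1 D218594 F490103 F489686
theorem F494663 : act 6 n218594 = n202947 := d12_2 D189576 D218594 F426321 (iv6 D188302) F294671
theorem F494664 : act 4 n218594 = n205509 := d16_2 (iv4 F377019) D218594 (iv5 F481228) F481227 (iv5 F464520) (iv4 F405217) F377057 (iv7 D94118) (iv2 F145018)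
def n218595 : Q := act 7 n189576
theorem D218595 : act 7 n189576 = n218595 := rfl
theorem F494665 : act 2 n218595 = n189587 := d4_1 D218595 (iv7 D189587) (iv2 F377018)
theorem F494666 : act 3 n218595 = n212906 := d8_1 D218595 (iv7 F489688) F489686
theorem F494667 : act 4 n218595 = n189579 := d11_1 D218595 (iv7 D189579) (iv4 F377019)
theorem F494668 : act 6 n218595 = n206289 := d14_1 D218595 F440090 (iv6 D183173) (iv7 F145015) D189576
theorem F494669 : act 1 n189585 = n218595 := d15_1 D189585 (iv7 D218595) F377018
theorem F494670 : act 1 n218595 = n189584 := d15_1 F494669 (iv7 F494655) (iv2 F494658)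
def n218596 : Q := act 3 n189578
theorem D218596 : act 3 n189578 = n218596 := rfl
theorem F494671 : act 2 n218596 = n209727 := d0_1 D218596 F454773 F429512 (iv3 F366866) (iv2 F377023)
theorem F494672 : act 5 n218596 = n193204 := d6_2 F377022 D218596 F389171
theorem F494673 : act 6 n218596 = n208904 := d7_2 F377021 D218596 (iv3 F451339)
theorem F494674 : act 7 n218596 = n189588 := d8_2 F377030 D218596 (iv3 D189588)
theorem F494675 : act 0 n218596 = n209456 := d20_4 (iv4 F452386) (iv1 F483967) F483970 D218596 F453777 D209457 (iv1 F454606) (iv4 D209680) F426547 (iv1 F379982)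
theorem F494676 : act 4 n218596 = n212101 := d20_6 (iv4 D93296) (iv1 F142807) (iv4 F143879) F295177 (iv1 F377020) D218596 (iv1 F464331) F384599 F152551 (iv1 F368002)
theorem F494677 : act 0 n196431 = n205124 := d19_0 F464333 (iv4 F494676) (iv3 D218596) (iv1 D189578) (iv5 F156183) (iv4 F389254) F389253 F322972 D147907 (iv4 F416865) F416863 (iv1 F395121) (iv5 F395120) F176552 F168143 F171995 (iv5 D110943) (iv4 F166502) D196431
def n218597 : Q := act 5 n189581
theorem D218597 : act 5 n189581 = n218597 := rfl
theorem F494678 : act 7 n218597 = n218005 := d13_2 (iv7 F377037) D218597 (iv5 D218005)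
theorem F494679 : act 4 n218597 = n216931 := d16_2 D189581 D218597 (iv5 D216931) (iv4 D186388) (iv5 F295032) (iv4 F140194) D188281 (iv7 F377034) (iv2 D189580)
theorem F494680 : act 0 n218597 = n191873 := d17_2 F384588 D218597 (iv5 D191873) (iv4 D99038) F292416 D92552 (iv5 F367139) F367067 D191850
def n218598 : Q := act 0 n189582
theorem D218598 : act 0 n189582 = n218598 := rfl
theorem F494681 : act 4 n218598 = n217813 := d18_3 (iv1 F470476) F419934 D218598 F490760 F405241 F471681 F471678 F466513 (iv5 F471607)
theorem F494682 : act 3 n218598 = n192623 := d20_5 F373612 (iv1 F371552) F371548 (iv3 F377039) D218598 F387265 F372032 (iv4 F420108) (iv3 D201353) (iv1 F373611)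
theorem F494683 : act 6 n218598 = n193378 := d21_5 F375767 (iv1 F372829) F292413 D189582 D218598 (iv5 D193378) F199581 D122337 (iv6 F368116) (iv1 F375765)
theorem F494684 : act 2 n192572 = n218598 := d15_3 (iv0 D218598) (iv0 F412815) (iv7 F412814)
theorem F494685 : act 1 n213447 = n218598 := d15_0 (iv0 D218598) (iv7 F490261) F490257
theorem F494686 : act 7 n218598 = n217986 := d15_2 (iv0 F470447) F494685 F491563
def n218599 : Q := act 6 n189584
theorem D218599 : act 6 n189584 = n218599 := rfl
theorem F494687 : act 2 n218599 = n212286 := d3_1 D218599 (iv6 F494649) F494653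
theorem F494688 : act 3 n218599 = n197808 := d7_1 D218599 F420129 (iv3 F444488)
theorem F494689 : act 4 n218599 = n212521 := d10_1 D218599 F466232 (iv4 F444489)
theorem F494690 : act 5 n218599 = n202946 := d12_1 D218599 (iv6 F444484) F444483 F342937 (iv5 F444490)
theorem F494691 : act 7 n218599 = n212287 := d14_2 F494655 D218599 F465150 (iv7 F439861) F494660
theorem F494692 : act 0 n218599 = n200645 := d21_4 F439769 F419058 (iv5 F444490) D218599 (iv6 F420116) F420113 F386909 F377594 (iv6 F475287) F475289
def n218600 : Q := act 1 n189586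
theorem D218600 : act 1 n189586 = n218600 := rfl
theorem F494693 : act 4 n218600 = n195052 := d17_9 F445080 F445078 F452097 (iv5 D209069) (iv4 F342938) (iv5 F444490) (iv0 D189584) D189586 D218600
theorem F494694 : act 5 n211141 = n218600 := d21_0 (iv1 D218600) (iv5 D189586) (iv6 D94114) D94112 F356658 F94501 (iv1 F114674) F163401 (iv6 F398049) F460300
theorem F494695 : act 6 n195824 = n218600 := d21_3 F398020 (iv1 F366155) (iv5 F398345) (iv1 D218600) F377048 (iv5 F356634) (iv1 F484012) F484008 (iv6 D195779) (iv1 F398018)
theorem F494696 : act 3 n218600 = n208151 := d7_1 F494695 F448129 F398348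
def n218601 : Q := act 7 n189586
theorem D218601 : act 7 n189586 = n218601 := rfl
theorem F494697 : act 3 n218601 = n201874 := d8_1 D218601 F422165 (iv3 F377047)
theorem F494698 : act 4 n218601 = n205514 := d11_1 D218601 (iv7 D205514) F377049
theorem F494699 : act 5 n218601 = n189587 := d13_1 D218601 (iv7 D189587) D189586
theorem F494700 : act 6 n218601 = n200986 := d14_1 D218601 F418629 (iv6 D146461) (iv7 F183742) (iv6 F377048)
def n218602 : Q := act 0 n189588
theorem D218602 : act 0 n189588 = n218602 := rfl
theorem F494701 : act 1 n209727 = n218602 := d15_0 (iv0 D218602) (iv7 F494674) F494671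
theorem F494702 : act 7 n218602 = n209456 := d15_2 (iv0 F487568) F494701 (iv2 F487565)
theorem F494703 : act 3 n209154 = n218602 := d8_3 F494702 F453777 (iv7 F452485)
theorem F494704 : act 5 n209153 = n218602 := d13_3 F494702 (iv5 D209456) (iv7 F452483)
theorem F494705 : act 6 n208712 = n218602 := d14_5 F494702 F453778 F372887 D217124 (iv7 F487549)
def n218603 : Q := act 2 n189588
theorem D218603 : act 2 n189588 = n218603 := rfl
theorem F494706 : act 4 n218603 = n212102 := d1_2 (iv4 F464330) D218603 F464311
theorem F494707 : act 5 n218603 = n209721 := d2_2 F389175 D218603 F454748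
theorem F494708 : act 7 n218603 = n209727 := d4_2 F494674 D218603 (iv2 F494671)
theorem F494709 : act 1 n218603 = n209456 := d15_0 (iv0 F494675) F494674 D218603
def n218604 : Q := act 6 n189588
theorem D218604 : act 6 n189588 = n218604 := rfl
theorem F494710 : act 3 n218604 = n189591 := d7_1 D218604 (iv6 D189591) D189588
theorem F494711 : act 5 n218604 = n213546 := d12_1 D218604 F470964 (iv5 F453464) F453466 F389175
theorem F494712 : act 7 n218604 = n213545 := d14_2 F494674 D218604 F470958 (iv7 F451336) (iv6 F494673)
theorem F494713 : act 0 n208706 = n218604 := d21_4 (iv5 D63465) D63462 (iv5 F336996) D208706 (iv6 D218604) (iv5 F389175) (iv1 D136860) D136861 (iv6 F361062) (iv1 D135036)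
def n218605 : Q := act 4 n189590
theorem D218605 : act 4 n189590 = n218605 := rfl
theorem F494714 : act 2 n218605 = n204673 := d1_1 D218605 (iv4 F474138) F474137
theorem F494715 : act 5 n218605 = n204672 := d9_2 D189590 D218605 F433218 F361242 (iv4 F361247) (iv5 F448075) (iv4 D189592) (iv5 F366865) (iv4 F474145) F474146 F429797 (iv5 F359330) (iv4 F218430) (iv5 F448080) (iv4 D189589)
theorem F494716 : act 6 n218605 = n214191 := d10_2 F469730 D218605 F473923
theorem F494717 : act 7 n218605 = n193206 := d11_2 (iv7 F377052) D218605 F389176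
def n218606 : Q := act 3 n189593
theorem D218606 : act 3 n189593 = n218606 := rfl
theorem F494718 : act 6 n218606 = n209491 := d7_2 F471237 D218606 (iv3 F471232)
theorem F494719 : act 7 n218606 = n209429 := d8_2 (iv7 F470344) D218606 (iv3 F454778)
theorem F494720 : act 1 n209153 = n218606 := d15_1 F453776 F494719 F453667
theorem F494721 : act 2 n218606 = n209454 := d15_3 (iv0 D209454) (iv0 F453669) (iv7 F494719)
theorem F494722 : act 7 n209454 = n205089 := d4_2 (iv7 F494719) F494721 (iv2 F453667)
theorem F494723 : act 1 n218606 = n209455 := d15_0 (iv0 F453775) (iv7 F494722) (iv2 F494721)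
def n218607 : Q := act 4 n189593
theorem D218607 : act 4 n189593 = n218607 := rfl
theorem F494724 : act 2 n218607 = n204668 := d1_1 D218607 (iv4 F433211) F470343
theorem F494725 : act 6 n218607 = n192501 := d10_2 F471237 D218607 (iv4 F471234)
theorem F494726 : act 7 n218607 = n215783 := d11_2 (iv7 F470344) D218607 (iv4 F481559)
theorem F494727 : act 5 n218607 = n204667 := d16_7 (iv4 F199181) D204859 F433882 (iv5 F492413) F492412 F491715 D218607 F433205 (iv2 D177798)
theorem F494728 : act 0 n218607 = n209503 := d18_2 D189593 D218607 (iv4 D209503) (iv5 F358542) (iv4 F448083) F448081 (iv4 D189589) (iv0 D94115) D94117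
theorem F494729 : act 1 n218607 = n194728 := d18_6 D209504 F453949 (iv1 F492416) F492412 F491715 D218607 F394277 F358540 D136560
theorem F494730 : act 3 n218607 = n201310 := d19_3 F491717 F491715 D218607 (iv1 F419965) (iv5 F433228) F433226 F430100 (iv1 F346937) (iv5 F330730) (iv4 F378639) F378638 D190120 (iv5 F448491) F448490 F372455 F366980 (iv5 F156492) (iv4 F375740) (iv3 F450645)
def n218608 : Q := act 3 n189595
theorem D218608 : act 3 n189595 = n218608 := rfl
theorem F494731 : act 2 n218608 = n214138 := d0_1 D218608 (iv3 D214138) (iv2 F363747) (iv3 F389253) F389252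
theorem F494732 : act 4 n218608 = n218368 := d5_2 D189595 D218608 (iv3 D218368) (iv4 D189161) F294832
theorem F494733 : act 6 n218608 = n189599 := d7_2 (iv6 F377055) D218608 (iv3 D189599)
theorem F494734 : act 7 n218608 = n212155 := d8_2 F405216 D218608 F464528
theorem F494735 : act 0 n197573 = n218608 := d20_4 (iv4 F419966) (iv1 F419967) F404878 (iv3 F404877) (iv3 D218608) (iv4 D189595) D189593 D218607 F494730 (iv1 F419965)
theorem F494736 : act 5 n218608 = n211898 := d21_0 (iv1 D211898) (iv5 F401715) (iv6 D196763) (iv1 F172206) F363390 (iv5 F401773) (iv1 F410884) F387341 D197573 F494735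
def n218609 : Q := act 5 n189595
theorem D218609 : act 5 n189595 = n218609 := rfl
theorem F494737 : act 3 n218609 = n211898 := d6_1 D218609 (iv5 F494736) (iv3 D218608)
theorem F494738 : act 6 n218609 = n204738 := d12_2 (iv6 F377055) D218609 F433437 (iv6 D190907) F360807
theorem F494739 : act 7 n218609 = n198116 := d13_2 F405216 D218609 (iv5 F464520)
theorem F494740 : act 0 n218609 = n198348 := d17_2 F405205 D218609 (iv5 F423992) F423991 (iv5 F426546) (iv0 D183135) D183137 F405228 (iv4 F405204)
theorem F494741 : act 1 n218609 = n204686 := d17_6 F460230 F366865 (iv1 D94116) D94117 D189595 D218609 F459703 F459702 (iv4 F460227)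
theorem F494742 : act 4 n206615 = n218609 := d16_0 (iv5 D218609) (iv4 D189595) (iv5 D94117) (iv4 F145055) D189586 (iv4 F377049) D205513 (iv7 F478386) F478383
def n218610 : Q := act 4 n189600
theorem D218610 : act 4 n189600 = n218610 := rfl
theorem F494743 : act 2 n218610 = n192269 := d1_1 D218610 (iv4 D192269) (iv2 F377070)
theorem F494744 : act 3 n218610 = n193300 := d5_1 D218610 (iv4 D193300) (iv3 D101443) F145072 (iv3 F377071)
theorem F494745 : act 5 n218610 = n216051 := d9_2 D189600 D218610 F482672 F459787 F394641 (iv5 F382771) (iv4 F391432) F391436 F385837 D197273 (iv4 F459791) F459790 (iv4 D190697) F148375 F147283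
theorem F494746 : act 6 n218610 = n203226 := d10_2 F454677 D218610 (iv4 F454678)
theorem F494747 : act 7 n218610 = n192267 := d11_2 (iv7 F377072) D218610 (iv4 D192267)
theorem F494748 : act 0 n218610 = n192827 := d18_2 (iv1 F377074) D218610 (iv4 D192827) (iv5 D100748) (iv4 F147943) F289591 F70778 (iv0 F73636) D99818
theorem F494749 : act 1 n218610 = n197272 := d15_0 (iv0 D197272) (iv7 F386255) (iv2 F494743)
def n218611 : Q := act 0 n189606
theorem D218611 : act 0 n189606 = n218611 := rfl
theorem F494750 : act 4 n218611 = n216881 := d18_1 D218611 F486363 (iv4 F474520) F474521 F381667 F363601 F160695 D190256 (iv5 F379216)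
theorem F494751 : act 3 n218611 = n217497 := d20_5 F363063 (iv1 F217962) (iv4 F451263) (iv3 F451265) D218611 (iv4 D217497) (iv1 F370238) D191148 (iv3 F414697) F414700
theorem F494752 : act 2 n190431 = n218611 := d15_3 (iv0 D218611) (iv0 F462785) F462784
theorem F494753 : act 1 n189612 = n218611 := d15_0 (iv0 D218611) F377096 (iv2 F377113)
theorem F494754 : act 7 n218611 = n216884 := d15_2 F462786 F494753 F486377
theorem F494755 : act 6 n190000 = n218611 := d14_5 F494754 F486379 F402387 (iv6 F366864) (iv7 F402374)
def n218612 : Q := act 7 n189607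
theorem D218612 : act 7 n189607 = n218612 := rfl
theorem F494756 : act 2 n218612 = n190479 := d4_1 D218612 F379863 (iv2 F377097)
theorem F494757 : act 3 n218612 = n209110 := d8_1 D218612 F452303 F447949
theorem F494758 : act 4 n218612 = n190014 := d11_1 D218612 F379221 (iv4 F379219)
theorem F494759 : act 5 n218612 = n218163 := d13_1 D218612 (iv7 D218163) (iv5 F377098)
theorem F494760 : act 6 n218612 = n209108 := d14_1 D218612 F452292 (iv6 D189229) (iv7 F344300) D189607
theorem F494761 : act 1 n190414 = n218612 := d15_1 (iv0 F379718) (iv7 D218612) F377097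
theorem F494762 : act 1 n218612 = n189668 := d15_1 F494761 (iv7 F379894) F379890
def n218613 : Q := act 7 n189613
theorem D218613 : act 7 n189613 = n218613 := rfl
theorem F494763 : act 2 n218613 = n209108 := d4_1 D218613 F452292 (iv2 F377115)
theorem F494764 : act 3 n218613 = n209051 := d8_1 D218613 F452029 (iv3 F379693)
theorem F494765 : act 4 n218613 = n190481 := d11_1 D218613 (iv7 F481071) F481068
theorem F494766 : act 5 n218613 = n209050 := d13_1 D218613 F452024 (iv5 F377116)
theorem F494767 : act 6 n218613 = n190479 := d14_1 D218613 F379863 (iv6 D189223) F344292 D189613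
theorem F494768 : act 1 n189682 = n218613 := d15_1 (iv0 F379733) (iv7 D218613) F377115
theorem F494769 : act 1 n218613 = n218398 := d15_1 F494768 F493691 (iv2 F377385)
def n218614 : Q := act 5 n189617
theorem D218614 : act 5 n189617 = n218614 := rfl
theorem F494770 : act 2 n218614 = n208079 := d2_1 D218614 (iv5 D208079) (iv2 F377131)
theorem F494771 : act 4 n218614 = n190364 := d9_1 D218614 (iv5 D190364) F364062 F294552 D186042 (iv5 F415772) F415773 (iv5 F489067) F489066 F377121 (iv4 D189614) F335768 D186037 (iv5 F415763) F415764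
theorem F494772 : act 6 n218614 = n190365 := d12_2 F377130 D218614 F379559 F358454 D133364
theorem F494773 : act 7 n218614 = n206169 := d13_2 F377132 D218614 F439550
theorem F494774 : act 1 n218614 = n215694 := d17_6 F486364 (iv5 D216881) F288957 (iv5 F415763) F415764 D218614 (iv5 D215694) D215693 F481145
def n218615 : Q := act 5 n189625
theorem D218615 : act 5 n189625 = n218615 := rfl
theorem F494775 : act 2 n218615 = n194141 := d2_1 D218615 (iv5 D194141) F377169
theorem F494776 : act 6 n218615 = n218120 := d12_2 F396373 D218615 F492231 F444282 (iv5 F396372)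
theorem F494777 : act 7 n218615 = n194143 := d13_2 F377170 D218615 (iv5 D194143)
theorem F494778 : act 0 n218615 = n217804 := d17_2 D189625 D218615 F490713 (iv4 F396192) F396194 (iv0 F396200) D210536 F457966 (iv4 F333379)
theorem F494779 : act 1 n218615 = n194198 := d17_6 F348019 (iv5 F426180) F426182 (iv5 F426171) F426173 D218615 F392356 (iv0 F355642) F355645
def n218616 : Q := act 5 n189630
theorem D218616 : act 5 n189630 = n218616 := rfl
theorem F494780 : act 2 n218616 = n194689 := d2_1 D218616 F394097 (iv2 F377192)
theorem F494781 : act 3 n218616 = n212010 := d6_1 D218616 (iv5 D212010) (iv3 F377193)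
theorem F494782 : act 4 n218616 = n209773 := d9_1 D218616 F454906 F220082 (iv5 D114823) F83713 D52987 D114837 (iv5 F387719) (iv4 F450369) F450370 (iv4 F438254) F438255 F353784 (iv5 F145331) (iv4 F377194)
theorem F494783 : act 6 n218616 = n193788 := d12_2 D189630 D218616 (iv5 D193788) (iv6 D102330) (iv5 F290936)
theorem F494784 : act 7 n218616 = n204346 := d13_2 (iv7 F377195) D218616 (iv5 D204346)
theorem F494785 : act 0 n218616 = n204488 := d17_2 (iv1 F377197) D218616 (iv5 F432691) F427049 (iv5 D201225) F177754 (iv5 F142462) F142465 D114134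
theorem F494786 : act 1 n218616 = n204201 := d17_6 (iv1 D201579) (iv5 D114828) (iv1 F144676) (iv5 F145331) (iv4 F377194) D218616 F431462 (iv0 F432178) F432177
def n218617 : Q := act 3 n189632
theorem D218617 : act 3 n189632 = n218617 := rfl
theorem F494787 : act 2 n218617 = n196012 := d0_1 D218617 (iv3 F445107) F445106 F211250 (iv2 F377204)
theorem F494788 : act 4 n218617 = n189633 := d5_2 D189632 D218617 F377207 F187377 (iv3 F145396)
theorem F494789 : act 5 n218617 = n218282 := d6_2 F493706 D218617 F493711
theorem F494790 : act 7 n218617 = n203436 := d8_2 (iv7 F377205) D218617 (iv3 D203436)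
theorem F494791 : act 0 n218617 = n217769 := d20_10 (iv4 D217769) (iv1 F376948) (iv4 F493936) F493935 (iv1 D189410) F376383 F376382 F164415 D189632 D218617
theorem F494792 : act 6 n189632 = n218617 := d21_3 D189239 D218403 F493706 F494791 (iv6 F490974) (iv5 D217861) (iv1 F490543) (iv5 F490544) (iv6 D195996) F163769
theorem F494793 : act 1 n218617 = n217766 := d15_1 (iv0 F494791) F490516 (iv2 F490525)
def n218618 : Q := act 5 n189635
theorem D218618 : act 5 n189635 = n218618 := rfl
theorem F494794 : act 2 n218618 = n215968 := d2_1 D218618 F482330 F461740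
theorem F494795 : act 3 n218618 = n189636 := d6_1 D218618 (iv5 D189636) D189635
theorem F494796 : act 4 n218618 = n190745 := d9_1 D218618 (iv5 F393205) F393203 F316977 (iv4 F230846) D202886 (iv4 F426043) F366491 F395061 (iv5 F458877) F458876 F356831 (iv4 F331610) D202885 (iv4 F426035)
theorem F494797 : act 6 n218618 = n211772 := d12_2 F447985 D218618 F463038 (iv6 F415628) (iv5 F447984)
theorem F494798 : act 7 n218618 = n214152 := d13_2 (iv7 F425193) D218618 F473745
theorem F494799 : act 0 n218618 = n215967 := d17_2 F426036 D218618 F482327 (iv4 F416176) F416174 F397760 (iv5 F392237) (iv0 D194169) (iv4 F392236)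
theorem F494800 : act 1 n218618 = n215966 := d17_6 D110766 F333589 D117191 D202885 (iv4 F426035) D218618 F482325 (iv0 D198964) F171453
def n218619 : Q := act 5 n189642
theorem D218619 : act 5 n189642 = n218619 := rfl
theorem F494801 : act 2 n218619 = n190488 := d2_1 D218619 (iv5 F382626) F382623
theorem F494802 : act 3 n218619 = n189643 := d6_1 D218619 (iv5 D189643) D189642
theorem F494803 : act 4 n218619 = n190743 := d9_1 D218619 (iv5 D190743) (iv4 F359663) (iv5 D120102) F87466 (iv5 F80529) (iv4 F171453) D198966 F410093 (iv5 D190741) (iv4 F234575) F382260 (iv4 F382258) (iv5 F410059) F410058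
theorem F494804 : act 6 n218619 = n190484 := d12_2 (iv6 F382622) D218619 (iv5 D190484) (iv6 F150145) D191217
theorem F494805 : act 0 n218619 = n215692 := d18_0 F481141 F443684 F416033 (iv5 F477849) (iv4 D215005) F416179 F416176 F410090 D218619
def n218620 : Q := act 0 n189643
theorem D218620 : act 0 n189643 = n218620 := rfl
theorem F494806 : act 5 n218620 = n196129 := d17_1 D218620 (iv1 D196129) D196130 F399543 F376425 (iv0 F376372) D218438 F493901 (iv4 F377241)
theorem F494807 : act 4 n218620 = n201194 := d18_1 D218620 F419392 (iv4 F447922) (iv5 D208111) (iv4 D133396) F138537 D113017 F176058 D189643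
theorem F494808 : act 1 n189648 = n218620 := d15_0 (iv0 D218620) (iv7 F490320) F490317
theorem F494809 : act 3 n200242 = n218620 := d19_19 (iv1 F494808) (iv5 D189648) (iv4 D94271) F82965 (iv1 F47564) (iv5 D29616) (iv4 D14067) F10891 F4719 (iv5 D1544) D1543 D3498 F10288 D5672 D12011 D25296 D52101 D112880 D200242
theorem F494810 : act 2 n218620 = n200359 := d0_1 F494809 F439761 (iv2 F445560) F445557 F415727
theorem F494811 : act 6 n218620 = n211733 := d7_2 F415680 F494809 (iv3 D211733)
theorem F494812 : act 7 n218620 = n200360 := d8_2 F415725 F494809 F416136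
def n218621 : Q := act 1 n189643
theorem D218621 : act 1 n189643 = n218621 := rfl
theorem F494813 : act 1 n218621 = n189648 := d15_1 D218621 F382731 F382728
theorem F494814 : act 7 n218621 = n200359 := d15_2 (iv0 D218620) D218621 (iv2 F494810)
theorem F494815 : act 5 n218621 = n196128 := d17_7 (iv1 F163326) (iv5 D106280) F114358 (iv5 F82956) D94269 D189643 D218621 (iv0 D196128) (iv4 D106683)
theorem F494816 : act 4 n218621 = n218457 := d17_9 (iv1 F493991) (iv5 D189321) (iv1 F367595) D217025 F487041 (iv5 D200354) F176058 D189643 D218621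
theorem F494817 : act 3 n207585 = n218621 := d19_19 (iv1 D218621) (iv5 D189643) (iv4 D94269) F96185 (iv1 D61619) (iv5 D29196) (iv4 D13889) (iv3 D6603) (iv1 D2955) D2957 D6613 D13917 D29285 F211043 D129190 D206759 F442081 F373535 (iv4 F445564)
theorem F494818 : act 6 n214310 = n218621 := d21_3 (iv5 F474541) F474729 F474726 (iv1 D218621) F377240 (iv5 D181923) F295214 D97470 D191246 F382737
theorem F494819 : act 2 n218621 = n200360 := d0_1 F494817 F416136 F415724 F415702 (iv2 F445567)
def n218622 : Q := act 3 n189644
theorem D218622 : act 3 n189644 = n218622 := rfl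
theorem F494820 : act 2 n218622 = n218461 := d0_1 D218622 (iv3 D218461) F447616 (iv3 F447617) F392324
theorem F494821 : act 5 n218622 = n208986 := d6_2 F488471 D218622 (iv3 F488473)
theorem F494822 : act 6 n218622 = n189714 := d7_2 (iv6 F377243) D218622 (iv3 D189714)
theorem F494823 : act 7 n218622 = n209133 := d8_2 F398919 D218622 F452410
theorem F494824 : act 0 n198944 = n218622 := d20_4 D135529 F410013 F410012 (iv3 F410010) (iv3 D218622) F377242 (iv1 F381718) F451699 (iv3 D208983) (iv1 D135528)
def n218623 : Q := act 6 n189648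
theorem D218623 : act 6 n189648 = n218623 := rfl
theorem F494825 : act 2 n218623 = n210086 := d3_1 D218623 (iv6 F490319) F490317
theorem F494826 : act 3 n218623 = n189851 := d7_1 D218623 (iv6 F494171) F494169
theorem F494827 : act 4 n218623 = n218470 := d10_1 D218623 (iv6 D218470) (iv4 F377254)
theorem F494828 : act 5 n218623 = n189846 := d12_1 D218623 F377977 F377257 (iv6 D189649) D189648
theorem F494829 : act 7 n218623 = n189845 := d14_2 (iv7 F382731) D218623 F377973 (iv7 F150248) D191245
theorem F494830 : act 0 n218623 = n210077 := d21_4 (iv5 D200354) F176057 D189648 D218623 (iv6 D210077) (iv5 D137490) (iv1 F333098) D194060 F391910 (iv1 F416116)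
theorem F494831 : act 0 n210087 = n218623 := d21_4 (iv5 D198813) F362594 D199960 (iv6 F456104) (iv6 D218623) (iv5 D189648) (iv1 F152170) D191716 F384244 (iv1 F409367)
def n218624 : Q := act 0 n189649
theorem D218624 : act 0 n189649 = n218624 := rfl
theorem F494832 : act 5 n218624 = n192840 := d17_1 D218624 F413818 F413816 (iv4 F293806) (iv5 F370775) F370779 D187968 (iv0 F371962) (iv4 F377255)
theorem F494833 : act 4 n218624 = n208112 := d18_3 F371976 (iv4 F377255) D218624 F447925 (iv4 F377638) (iv0 D187961) F139612 D90702 D187970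
theorem F494834 : act 3 n218624 = n189849 := d20_5 D97297 F340397 (iv4 F380347) F380346 D218624 (iv4 F377983) (iv1 D95953) (iv4 D44783) (iv3 F34140) D45448
theorem F494835 : act 6 n218624 = n210492 := d21_5 (iv5 F494806) (iv1 F494808) (iv5 D189648) D189649 D218624 (iv5 D210492) F222474 (iv5 F355630) (iv6 F376359) (iv1 F399533)
theorem F494836 : act 1 n189917 = n218624 := d15_0 (iv0 D218624) F377256 (iv2 F378236)
theorem F494837 : act 2 n217091 = n218624 := d3_3 F494835 F457767 F487365
theorem F494838 : act 7 n214313 = n218624 := d14_0 F494835 F457769 F448469 F377418 D214313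
def n218625 : Q := act 1 n189649
theorem D218625 : act 1 n189649 = n218625 := rfl
theorem F494839 : act 1 n218625 = n189917 := d15_1 D218625 (iv7 F410038) F410036
theorem F494840 : act 7 n218625 = n217091 := d15_2 (iv0 D218624) D218625 F494837
theorem F494841 : act 4 n218625 = n194174 := d17_9 F400392 (iv5 F398542) F398543 (iv5 D186437) (iv4 F374375) (iv5 F368652) F368655 F377257 D218625
theorem F494842 : act 2 n214313 = n218625 := d1_3 F494841 F392252 (iv4 F474526)
theorem F494843 : act 6 n189692 = n218625 := d10_0 F494841 (iv6 D194174) (iv4 F377424)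
def n218626 : Q := act 7 n189656
theorem D218626 : act 7 n189656 = n218626 := rfl
theorem F494844 : act 2 n218626 = n215050 := d4_1 D218626 F478080 F438997
theorem F494845 : act 3 n218626 = n190962 := d8_1 D218626 (iv7 F416026) (iv3 F416030)
theorem F494846 : act 5 n218626 = n190959 := d13_1 D218626 (iv7 F381714) F377278
theorem F494847 : act 6 n218626 = n190960 := d14_1 D218626 F477705 (iv6 D214971) F340684 D189656
theorem F494848 : act 1 n215673 = n218626 := d15_1 F481046 (iv7 D218626) (iv2 F438997)
theorem F494849 : act 1 n218626 = n211830 := d15_1 F494848 (iv7 F490720) F490716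
def n218627 : Q := act 6 n189690
theorem D218627 : act 6 n189690 = n218627 := rfl
theorem F494850 : act 2 n218627 = n189691 := d3_1 D218627 (iv6 D189691) D189690
theorem F494851 : act 3 n218627 = n207981 := d7_1 D218627 F447258 (iv3 F377407)
theorem F494852 : act 4 n218627 = n195970 := d10_1 D218627 (iv6 F444122) F444118
theorem F494853 : act 5 n218627 = n205132 := d12_1 D218627 F435093 F408548 (iv6 F174530) (iv5 F377408)
theorem F494854 : act 0 n198630 = n218627 := d21_4 (iv5 D116457) D116454 (iv5 F227347) (iv6 F408626) (iv6 D218627) F377408 (iv1 F174531) (iv5 F174532) D199864 F413859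
def n218628 : Q := act 7 n189691
theorem D218628 : act 7 n189691 = n218628 := rfl
theorem F494855 : act 3 n218628 = n189694 := d8_1 D218628 (iv7 D189694) (iv3 F377412)
theorem F494856 : act 4 n218628 = n201477 := d11_1 D218628 F420654 (iv4 F410063)
theorem F494857 : act 5 n218628 = n205137 := d13_1 D218628 (iv7 D205137) (iv5 F377413)
theorem F494858 : act 6 n218628 = n200025 := d14_1 D218628 (iv7 D200025) F174600 (iv7 F326853) D189691
theorem F494859 : act 1 n198630 = n218628 := d15_1 (iv0 F494854) (iv7 D218628) (iv2 F494850)
def n218629 : Q := act 3 n189702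
theorem D218629 : act 3 n189702 = n218629 := rfl
theorem F494860 : act 4 n218629 = n197052 := d5_2 D189702 D218629 (iv3 F402835) (iv4 D194180) (iv3 F331372)
theorem F494861 : act 5 n218629 = n216119 := d6_2 (iv5 F377457) D218629 (iv3 D216119)
theorem F494862 : act 6 n218629 = n218568 := d7_2 F417746 D218629 (iv3 F494522)
theorem F494863 : act 7 n218629 = n207492 := d8_2 F392330 D218629 F445127
theorem F494864 : act 0 n218629 = n196208 := d20_4 (iv4 D194194) F293777 D189702 D218629 (iv3 F494298) (iv4 D218527) (iv1 D189445) D189447 (iv3 F376864) (iv1 F392339)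
theorem F494865 : act 0 n196232 = n218629 := d20_4 F77874 D106545 F354467 D196232 (iv3 D218629) (iv4 D189702) (iv1 F214551) (iv4 F211243) (iv3 F358287) (iv1 D106652)
def n218630 : Q := act 2 n189704
theorem D218630 : act 2 n189704 = n218630 := rfl
theorem F494866 : act 4 n218630 = n189708 := d1_2 (iv4 F377462) D218630 (iv2 D189708)
theorem F494867 : act 5 n218630 = n197837 := d2_2 F433317 D218630 (iv2 F433314)
theorem F494868 : act 6 n218630 = n191204 := d3_2 F377465 D218630 (iv2 F382566)
theorem F494869 : act 7 n218630 = n205532 := d4_2 (iv7 F377463) D218630 (iv2 F436871)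
theorem F494870 : act 1 n218630 = n205533 := d15_0 (iv0 F436875) (iv7 F377463) D218630
theorem F494871 : act 1 n205528 = n218630 := d15_0 F494870 (iv7 D205533) (iv2 F436851)
def n218631 : Q := act 3 n189706
theorem D218631 : act 3 n189706 = n218631 := rfl
theorem F494872 : act 4 n218631 = n191230 := d5_2 (iv4 F377472) D218631 F382666 (iv4 F347520) (iv3 F213569)
theorem F494873 : act 5 n218631 = n209375 := d6_2 (iv5 F377473) D218631 F453451
theorem F494874 : act 0 n207378 = n218631 := d20_4 (iv4 D61514) D61512 D131113 D207378 (iv3 D218631) F377472 (iv1 F211477) (iv4 F247868) (iv3 D157392) F112348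
theorem F494875 : act 6 n218631 = n190381 := d21_5 F376447 F370471 (iv5 F427656) (iv6 F444585) F494874 (iv5 F379619) (iv1 F218132) (iv5 F379690) F379692 F377102
theorem F494876 : act 1 n203660 = n218631 := d15_0 (iv0 F494874) F444586 F443825
def n218632 : Q := act 6 n189706
theorem D218632 : act 6 n189706 = n218632 := rfl
theorem F494877 : act 3 n218632 = n190381 := d7_1 D218632 (iv6 F494875) (iv3 D218631)
theorem F494878 : act 4 n218632 = n190783 := d10_1 D218632 F381061 (iv4 F377472)
theorem F494879 : act 5 n218632 = n209049 := d12_1 D218632 F452019 (iv5 F421173) F421172 (iv5 F377473)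
theorem F494880 : act 7 n218632 = n196136 := d14_2 (iv7 F398930) D218632 (iv6 D196136) (iv7 F362873) D195975
theorem F494881 : act 0 n218632 = n208198 := d21_10 F448315 (iv1 D159658) F114504 (iv6 D49699) (iv1 F37997) D49294 (iv5 F114191) D159340 (iv5 F377473) D218632
theorem F494882 : act 1 n218632 = n214504 := d15_1 (iv0 F494881) F475507 (iv2 F448311)
def n218633 : Q := act 6 n189711
theorem D218633 : act 6 n189711 = n218633 := rfl
theorem F494883 : act 2 n218633 = n211832 := d3_1 D218633 F463232 (iv2 F379481)
theorem F494884 : act 4 n218633 = n189712 := d10_1 D218633 (iv6 D189712) D189711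
theorem F494885 : act 7 n218633 = n211833 := d14_2 F379485 D218633 (iv6 F463234) (iv7 F481093) (iv6 D215680)
theorem F494886 : act 5 n218633 = n216912 := d21_6 (iv5 D34670) D34667 F292434 D94362 (iv1 F377559) D218633 (iv1 D216912) F289074 (iv6 D88758) F63886
theorem F494887 : act 0 n211826 = n218633 := d21_4 (iv5 F357478) (iv1 F182912) D144145 D211826 (iv6 D218633) F416241 (iv1 F452461) F452459 (iv6 D202842) F355658
theorem F494888 : act 1 n211835 = n218633 := d15_0 (iv0 F494887) (iv7 F492195) F492192
def n218634 : Q := act 5 n189719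
theorem D218634 : act 5 n189719 = n218634 := rfl
theorem F494889 : act 3 n218634 = n189721 := d6_1 D218634 (iv5 D189721) (iv3 F377520)
theorem F494890 : act 6 n218634 = n214357 := d12_2 D189719 D218634 (iv5 D214357) (iv6 D158890) (iv5 F292455)
theorem F494891 : act 7 n218634 = n212188 := d13_2 F397241 D218634 F464682
theorem F494892 : act 4 n218634 = n206641 := d16_2 (iv4 F377521) D218634 F441708 F228500 (iv5 F177942) (iv4 F380243) (iv5 F440550) F440549 (iv2 F365071)
theorem F494893 : act 1 n218634 = n206523 := d17_8 (iv1 F440695) (iv5 D206418) (iv1 F206825) D128774 (iv4 F395324) (iv5 F397254) (iv0 F397257) D218634 (iv4 D206523)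
theorem F494894 : act 0 n218634 = n206526 := d18_0 (iv4 D206526) (iv1 D128779) D128780 (iv5 F439001) (iv4 D206049) F378455 (iv4 F397253) (iv0 F397257) D218634
def n218635 : Q := act 4 n189723
theorem D218635 : act 4 n189723 = n218635 := rfl
theorem F494895 : act 2 n218635 = n215667 := d1_1 D218635 (iv4 D215667) F443763
theorem F494896 : act 3 n218635 = n191093 := d5_1 D218635 (iv4 F382196) (iv3 F436852) (iv4 F492019) F492018
theorem F494897 : act 6 n218635 = n191091 := d10_2 F492016 D218635 (iv4 F492011)
theorem F494898 : act 7 n218635 = n214362 := d11_2 F443765 D218635 F474770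
theorem F494899 : act 1 n218635 = n215687 := d18_6 F474545 (iv4 F474544) (iv1 F474367) (iv4 D194149) (iv5 F443829) D218635 (iv4 F482203) (iv0 F482205) (iv5 F481139)
theorem F494900 : act 0 n218635 = n215688 := d20_1 D218635 (iv4 F482241) F482240 F474477 (iv3 D158066) F112886 F66455 (iv4 F291529) D94360 D189723
theorem F494901 : act 5 n217462 = n218635 := d13_3 F494898 (iv5 F488568) (iv7 F488982)
theorem F494902 : act 0 n215665 = n189967 := d17_0 (iv5 F488551) F488983 F494901 (iv4 D218635) F443829 (iv0 D102783) (iv5 F129391) (iv0 F382067) D215665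
theorem F494903 : act 1 n191197 = n189967 := d15_0 (iv0 F494902) F481018 (iv2 F399903)
def n218636 : Q := act 4 n189725
theorem D218636 : act 4 n189725 = n218636 := rfl
theorem F494904 : act 2 n218636 = n189726 := d1_1 D218636 (iv4 D189726) D189725
theorem F494905 : act 6 n218636 = n210448 := d10_2 (iv6 F377547) D218636 (iv4 D210448)
theorem F494906 : act 7 n218636 = n215666 := d11_2 (iv7 F377548) D218636 (iv4 D215666)
theorem F494907 : act 0 n218636 = n215670 := d18_2 (iv1 F377549) D218636 (iv4 F481029) F414675 (iv4 F365858) F392193 F392191 F258600 (iv5 F414784)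
theorem F494908 : act 1 n218636 = n215669 := d18_6 (iv1 F414667) F281165 F406783 F406782 (iv5 F377546) D218636 (iv4 F481138) F482244 F482242
def n218637 : Q := act 0 n189726
theorem D218637 : act 0 n189726 = n218637 := rfl
theorem F494909 : act 4 n218637 = n215951 := d18_3 (iv1 D189724) D189726 D218637 F482238 F474552 (iv0 F280853) F158030 D102784 (iv5 F443835)
theorem F494910 : act 2 n215670 = n218637 := d15_3 (iv0 D218637) (iv0 F477804) (iv7 F481031)
theorem F494911 : act 1 n215666 = n218637 := d15_0 (iv0 D218637) F377553 (iv2 F481020)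
theorem F494912 : act 7 n218637 = n215669 := d15_2 (iv0 F481022) F494911 (iv2 F481033)
def n218638 : Q := act 5 n189726
theorem D218638 : act 5 n189726 = n218638 := rfl
theorem F494913 : act 3 n218638 = n216874 := d6_1 D218638 (iv5 D216874) (iv3 F377552)
theorem F494914 : act 7 n218638 = n215671 := d13_2 (iv7 F377553) D218638 (iv5 D215671)
def n218639 : Q := act 0 n189731
theorem D218639 : act 0 n189731 = n218639 := rfl
theorem F494915 : act 4 n218639 = n215654 := d18_3 D94363 D189731 D218639 (iv5 D215654) D215653 (iv0 F480977) (iv4 D214954) (iv0 D164074) F293691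
theorem F494916 : act 2 n218521 = n218639 := d15_3 (iv0 D218639) F494213 (iv7 F494273)
theorem F494917 : act 1 n189735 = n218639 := d15_0 (iv0 D218639) (iv7 F492167) F492164
def n218640 : Q := act 3 n189731
theorem D218640 : act 3 n189731 = n218640 := rfl
theorem F494918 : act 2 n218640 = n216841 := d0_1 D218640 F494500 (iv2 F494503) F492170 F492168
theorem F494919 : act 4 n218640 = n207210 := d5_2 D189731 D218640 F443805 (iv4 F377563) (iv3 D189730)
theorem F494920 : act 6 n218640 = n218443 := d7_2 F477725 D218640 (iv3 F493923)
theorem F494921 : act 7 n218640 = n207207 := d8_2 F492167 D218640 (iv3 F492165)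
theorem F494922 : act 0 n218640 = n218407 := d19_4 D82420 F377571 D189731 D218640 (iv5 F493734) (iv4 D191212) (iv3 D97392) (iv1 D45479) (iv5 F294092) (iv4 D35780) (iv3 F43507) F43509 (iv5 F28268) (iv4 F27549) (iv3 D16788) (iv1 F12390) D8545 D18128 D37806
theorem F494923 : act 1 n218640 = n218459 := d15_1 (iv0 F494922) (iv7 F493999) (iv2 F493731)
def n218641 : Q := act 5 n189731
theorem D218641 : act 5 n189731 = n218641 := rfl
theorem F494924 : act 6 n218641 = n218639 := d21_3 D218507 (iv1 F494213) D218641 (iv1 F494917) (iv6 F494592) F494591 F487039 (iv5 F487038) F494209 (iv1 D218506)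
def n218642 : Q := act 5 n189735
theorem D218642 : act 5 n189735 = n218642 := rfl
theorem F494925 : act 3 n218642 = n218572 := d6_1 D218642 F494544 F494492
theorem F494926 : act 6 n218642 = n201194 := d12_2 F494592 D218642 (iv5 D201194) (iv6 F419391) (iv5 F494591)
theorem F494927 : act 4 n218642 = n211733 := d18_5 D189458 F376626 (iv1 F373779) D189735 D218642 (iv0 F474760) (iv4 F494385) (iv0 D218543) (iv5 D189462)
def n218643 : Q := act 7 n189741
theorem D218643 : act 7 n189741 = n218643 := rfl
theorem F494928 : act 3 n218643 = n189756 := d8_1 D218643 (iv7 D189756) (iv3 F377587)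
theorem F494929 : act 5 n218643 = n189742 := d13_1 D218643 (iv7 D189742) D189741
theorem F494930 : act 6 n218643 = n195800 := d14_1 D218643 F398238 F397716 F251993 (iv6 F377588)
theorem F494931 : act 1 n201322 = n218643 := d15_1 F441469 (iv7 D218643) (iv2 F441467)
theorem F494932 : act 1 n218643 = n207191 := d15_1 F494931 F443724 F440508
def n218644 : Q := act 5 n189744
theorem D218644 : act 5 n189744 = n218644 := rfl
theorem F494933 : act 2 n218644 = n214418 := d2_1 D218644 F475094 F441472
theorem F494934 : act 0 n218644 = n217836 := d17_2 F377598 D218644 (iv5 D217836) F374251 F374248 (iv0 F371817) (iv5 D92907) (iv0 F177365) D188867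
theorem F494935 : act 1 n218644 = n217837 := d17_6 (iv1 F251135) F369985 (iv1 D94406) D94407 D189744 D218644 (iv5 D217837) F421602 F421599
def n218645 : Q := act 1 n189748
theorem D218645 : act 1 n189748 = n218645 := rfl
theorem F494936 : act 1 n218645 = n189752 := d15_1 D218645 F377624 (iv2 F377611)
theorem F494937 : act 7 n218645 = n195869 := d15_2 F377627 D218645 F398540
theorem F494938 : act 5 n218645 = n208113 := d17_7 (iv1 D217091) (iv5 D186759) F352644 D186953 (iv4 F377606) D189748 D218645 F447931 F487364
theorem F494939 : act 4 n218645 = n197553 := d17_9 (iv1 D197553) (iv5 D108445) D108442 (iv5 F372020) F372019 F154821 (iv0 F291639) D189748 D218645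
theorem F494940 : act 3 n195872 = n218645 := d19_19 (iv1 D218645) (iv5 D189748) F377606 (iv3 F380292) (iv1 F381339) (iv5 D190854) F338159 F192114 (iv1 F105063) (iv5 F60289) (iv4 F313368) (iv3 F96968) (iv1 F96970) F209645 D62077 D132317 (iv1 F219386) D209328 F453250
theorem F494941 : act 6 n192790 = n218645 := d21_3 (iv5 D207356) (iv1 F389540) (iv5 F389538) (iv1 D218645) (iv6 F468088) (iv5 F489683) F490834 (iv5 D217831) F451799 (iv1 F451798)
theorem F494942 : act 2 n218645 = n216947 := d3_1 F494941 F486666 F387790
def n218646 : Q := act 2 n189750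
theorem D218646 : act 2 n189750 = n218646 := rfl
theorem F494943 : act 3 n218646 = n216950 := d0_2 D189750 D218646 (iv2 D216950) (iv3 D186435) (iv2 F377609)
theorem F494944 : act 4 n218646 = n201892 := d1_2 F377615 D218646 F422254
theorem F494945 : act 5 n218646 = n213098 := d2_2 F387380 D218646 (iv2 F468999)
theorem F494946 : act 6 n218646 = n218583 := d3_2 F443883 D218646 (iv2 F494603)
theorem F494947 : act 7 n218646 = n203805 := d4_2 (iv7 F377614) D218646 F429895
theorem F494948 : act 1 n218646 = n207277 := d15_0 (iv0 F444104) (iv7 F377614) D218646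
theorem F494949 : act 1 n196209 = n218646 := d15_0 F494948 F444103 (iv2 F399882)
def n218647 : Q := act 0 n189753
theorem D218647 : act 0 n189753 = n218647 := rfl
theorem F494950 : act 5 n218647 = n216892 := d19_1 D218647 F486418 F486419 (iv1 D189531) F144858 D189455 F376621 F420640 F420639 F218298 (iv3 F437577) F437579 F383955 F379624 F379620 (iv1 F202271) F328440 (iv4 F443882) F443881
theorem F494951 : act 3 n218647 = n190467 := d20_5 (iv4 F363790) (iv1 F363788) (iv4 F443882) F443881 D218647 (iv4 F443682) F443683 (iv4 F420342) F420341 (iv1 D190417)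
theorem F494952 : act 6 n218647 = n200362 := d21_5 F447917 F377625 (iv5 D189752) D189753 D218647 (iv5 F465956) F465957 (iv5 F355118) (iv6 F387838) F447919
theorem F494953 : act 2 n216953 = n218647 := d15_3 (iv0 D218647) (iv0 F481217) F486694
theorem F494954 : act 1 n216955 = n218647 := d15_0 (iv0 D218647) (iv7 F443870) (iv2 F486699)
theorem F494955 : act 7 n218647 = n216939 := d15_2 F486703 F494954 F486613
def n218648 : Q := act 5 n189757
theorem D218648 : act 5 n189757 = n218648 := rfl
theorem F494956 : act 2 n218648 = n216924 := d2_1 D218648 (iv5 D216924) (iv2 F377640)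
theorem F494957 : act 6 n218648 = n199906 := d12_2 (iv6 F392401) D218648 (iv5 D199906) F413674 (iv5 F413675)
theorem F494958 : act 7 n218648 = n216926 := d13_2 (iv7 F377641) D218648 (iv5 D216926)
theorem F494959 : act 0 n218648 = n190411 := d17_2 (iv1 F489315) D218648 (iv5 D190411) (iv4 F379703) F379704 (iv0 F375748) (iv5 F468384) F468387 (iv4 F489314)
def n218649 : Q := act 3 n189759
theorem D218649 : act 3 n189759 = n218649 := rfl
theorem F494960 : act 2 n218649 = n215697 := d0_1 D218649 (iv3 F481166) F481165 (iv3 F291650) (iv2 F377645)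
theorem F494961 : act 4 n218649 = n190495 := d5_2 D189759 D218649 (iv3 D190495) F331416 (iv3 F331415)
theorem F494962 : act 6 n218649 = n190486 := d7_2 F380438 D218649 (iv3 F380433)
theorem F494963 : act 7 n218649 = n215698 := d8_2 (iv7 F377646) D218649 (iv3 F481163)
theorem F494964 : act 0 n218649 = n190750 := d20_4 (iv4 D186388) (iv1 F291648) D189759 D218649 (iv3 F380910) (iv4 F462604) (iv1 F462608) F379746 (iv3 F379708) (iv1 F379709)
theorem F494965 : act 1 n218649 = n190756 := d15_1 (iv0 F494964) F380936 (iv2 F380908)
def n218650 : Q := act 5 n189762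
theorem D218650 : act 5 n189762 = n218650 := rfl
theorem F494966 : act 2 n218650 = n216931 := d2_1 D218650 (iv5 D216931) (iv2 F377660)
theorem F494967 : act 7 n218650 = n211497 := d13_2 (iv7 F377661) D218650 (iv5 D211497)
def n218651 : Q := act 5 n189763
theorem D218651 : act 5 n189763 = n218651 := rfl
theorem F494968 : act 2 n218651 = n211975 := d2_1 D218651 (iv5 D211975) F377665
theorem F494969 : act 6 n218651 = n202861 := d12_2 F377666 D218651 (iv5 D202861) (iv6 D117049) D117048
theorem F494970 : act 7 n218651 = n216934 := d13_2 F377667 D218651 (iv5 D216934)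
theorem F494971 : act 1 n218651 = n194167 := d17_6 F376160 F376159 (iv1 F370472) (iv5 F376447) (iv4 F377663) D218651 (iv5 D194167) D194166 (iv4 F392234)
def n218652 : Q := act 5 n189764
theorem D218652 : act 5 n189764 = n218652 := rfl
theorem F494972 : act 2 n218652 = n216934 := d2_1 D218652 (iv5 D216934) F377670
theorem F494973 : act 3 n218652 = n215134 := d6_1 D218652 F478534 F377671
theorem F494974 : act 7 n218652 = n211975 := d13_2 (iv7 F377669) D218652 (iv5 D211975)
theorem F494975 : act 0 n218652 = n194167 := d17_2 (iv1 F377668) D218652 (iv5 D194167) (iv4 D102866) (iv5 D47705) D47703 (iv5 F291610) F291647 D186384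
theorem F494976 : act 6 n217342 = n218652 := d14_5 F494974 F463806 D211982 (iv6 F488800) F488801
def n218653 : Q := act 6 n189764
theorem D218653 : act 6 n189764 = n218653 := rfl
theorem F494977 : act 2 n218653 = n211966 := d3_1 D218653 F463767 F377670
theorem F494978 : act 3 n218653 = n216817 := d7_1 D218653 (iv6 D216817) F377671
theorem F494979 : act 4 n218653 = n201072 := d10_1 D218653 (iv6 F488442) F488446
theorem F494980 : act 7 n218653 = n201882 := d14_2 (iv7 F377669) D218653 F422203 F183081 D144549
theorem F494981 : act 0 n208029 = n218653 := d21_4 D218618 F494799 F482327 (iv6 F447520) (iv6 D218653) D218652 F494975 (iv5 D194167) D194168 F426036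
theorem F494982 : act 1 n200033 = n218653 := d15_0 (iv0 F494981) F447521 (iv2 F414696)
def n218654 : Q := act 4 n189765
theorem D218654 : act 4 n189765 = n218654 := rfl
theorem F494983 : act 2 n218654 = n216905 := d1_1 D218654 F486492 (iv2 F480282)
theorem F494984 : act 5 n218654 = n216899 := d9_2 D189765 D218654 (iv4 D216899) (iv5 D186287) F136082 D88783 D186384 D216927 F486562 (iv5 D191857) (iv4 D99014) (iv5 D46320) F63030 D44141 D94447
theorem F494985 : act 6 n218654 = n212079 := d10_2 (iv6 F394961) D218654 F464253
theorem F494986 : act 7 n218654 = n216937 := d11_2 (iv7 F377672) D218654 (iv4 D216937)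
theorem F494987 : act 0 n218654 = n218347 := d18_2 F480245 D218654 F493436 (iv5 D217528) (iv4 D187485) F362337 D186053 F474559 (iv5 F480244)
theorem F494988 : act 3 n212091 = n218654 := d7_3 F494985 F464252 D212091
def n218655 : Q := act 5 n189769
theorem D218655 : act 5 n189769 = n218655 := rfl
theorem F494989 : act 3 n218655 = n207929 := d6_1 D218655 (iv5 D207929) (iv3 F377686)
theorem F494990 : act 6 n218655 = n208574 := d12_2 F437484 D218655 (iv5 F456834) F456837 (iv5 F437482)
theorem F494991 : act 4 n218655 = n208575 := d16_2 D189769 D218655 F449965 F389237 F385908 (iv4 F370544) F374632 F374631 F371144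
theorem F494992 : act 0 n218655 = n217671 := d17_2 F422100 D218655 (iv5 D217671) (iv4 F426334) F426332 F384611 (iv5 F422101) (iv0 D201861) (iv4 F422099)
theorem F494993 : act 1 n218655 = n217674 := d17_6 (iv1 F139209) F139207 F138819 D94450 D189769 D218655 (iv5 D217674) F371320 F326333
def n218656 : Q := act 5 n189773
theorem D218656 : act 5 n189773 = n218656 := rfl
theorem F494994 : act 2 n218656 = n206103 := d2_1 D218656 F439267 (iv2 F407076)
theorem F494995 : act 3 n218656 = n207064 := d6_1 D218656 F453259 F453256
theorem F494996 : act 4 n218656 = n201868 := d9_1 D218656 (iv5 F464929) F464928 (iv5 F291008) F291007 D182415 (iv4 F383896) F437924 F437923 F422114 F326239 (iv5 D88689) (iv4 F76400) (iv5 F292473) D189773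
theorem F494997 : act 7 n218656 = n201866 := d13_2 (iv7 F377701) D218656 (iv5 F422130)
theorem F494998 : act 0 n218656 = n206104 := d17_2 F487141 D218656 F439272 (iv4 D186730) F136766 D100152 (iv5 F367255) F367758 D217048
theorem F494999 : act 1 n218656 = n206095 := d17_6 F327069 (iv5 F339538) (iv1 D105041) (iv5 F292473) D189773 D218656 (iv5 F439232) F437399 F437396
theorem F495000 : act 6 n217682 = n218656 := d21_5 (iv5 F383950) (iv1 F383951) (iv5 F437482) F437484 (iv1 F490089) (iv5 D218656) F377702 D191585 (iv6 F465621) F465622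
def n218657 : Q := act 3 n189774
theorem D218657 : act 3 n189774 = n218657 := rfl
theorem F495001 : act 4 n218657 = n200991 := d5_2 F399467 D218657 F418655 (iv4 F343624) (iv3 F399465)
theorem F495002 : act 5 n218657 = n200762 := d6_2 F380715 D218657 F417824
theorem F495003 : act 6 n218657 = n200990 := d7_2 F445035 D218657 (iv3 F445034)
theorem F495004 : act 7 n218657 = n200887 := d8_2 (iv7 F380713) D218657 F474226
theorem F495005 : act 0 n200616 = n218657 := d20_4 F327599 (iv1 F98287) D113283 D200616 (iv3 D218657) (iv4 F399467) F399468 (iv4 F328353) F176466 F327656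
theorem F495006 : act 1 n200885 = n218657 := d15_0 (iv0 F495005) F417228 (iv2 F418282)
theorem F495007 : act 2 n200888 = n218657 := d3_3 F495003 F418650 F418290
def n218658 : Q := act 0 n189777
theorem D218658 : act 0 n189777 = n218658 := rfl
theorem F495008 : act 5 n218658 = n200634 := d17_3 F397982 F377717 D218658 (iv4 F492683) F492682 F492285 (iv5 D206126) (iv0 F386960) (iv4 F397980)
theorem F495009 : act 6 n218658 = n200636 := d21_5 (iv5 F395389) (iv1 D169908) (iv5 F294455) D189777 D218658 (iv5 D200636) D200635 F417307 F395395 (iv1 F395394)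
theorem F495010 : act 1 n190557 = n218658 := d15_0 (iv0 D218658) (iv7 F490242) F490239
theorem F495011 : act 3 n216398 = n218658 := d19_19 (iv1 F495010) (iv5 F380137) (iv4 D188795) (iv3 D92807) (iv1 D43420) (iv5 D20530) (iv4 F15636) F15635 D10094 (iv5 F291361) (iv4 F64329) (iv3 F136192) (iv1 F136196) D88828 D186501 (iv3 F398136) F398140 (iv5 F397799) (iv4 F484181)
theorem F495012 : act 2 n218658 = n200646 := d0_1 F495011 F417345 (iv2 F203064) (iv3 F436992) (iv2 F484179)
def n218659 : Q := act 1 n189777
theorem D218659 : act 1 n189777 = n218659 := rfl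
theorem F495013 : act 1 n218659 = n190557 := d15_1 D218659 (iv7 F490136) F490134
theorem F495014 : act 7 n218659 = n200646 := d15_2 (iv0 D218658) D218659 (iv2 F495012)
theorem F495015 : act 5 n218659 = n200647 := d17_7 (iv1 F288283) F290245 F335793 (iv5 F143127) D188781 F377717 D218659 F417349 (iv4 D187694)
theorem F495016 : act 3 n200659 = n218659 := d6_3 F495015 F417347 (iv5 F417381)
def n218660 : Q := act 0 n189782
theorem D218660 : act 0 n189782 = n218660 := rfl
theorem F495017 : act 3 n218660 = n209798 := d20_5 (iv4 F364817) F377735 (iv4 D189783) D189782 D218660 F454992 (iv1 F239913) D152732 (iv3 F397635) (iv1 D183492)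
theorem F495018 : act 5 n218660 = n209796 := d21_2 (iv5 F377731) D218660 F454982 D213123 F469104 F432578 (iv1 F241657) D213464 F485508 (iv1 D216695)
theorem F495019 : act 1 n208512 = n218660 := d15_0 (iv0 D218660) (iv7 F470989) F470986
theorem F495020 : act 7 n218660 = n216289 := d15_2 (iv0 F483274) F495019 F483658
theorem F495021 : act 6 n199687 = n218660 := d21_3 (iv5 F394036) (iv1 F449278) F456196 (iv1 F495019) F449668 F431281 (iv1 F429863) F389027 F449232 (iv1 D208410)
def n218661 : Q := act 4 n189782
theorem D218661 : act 4 n189782 = n218661 := rfl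
theorem F495022 : act 3 n218661 = n206083 := d5_1 D218661 (iv4 D206083) F377733 (iv4 D189783) D189782
theorem F495023 : act 6 n218661 = n206091 := d10_2 (iv6 F455979) D218661 F455977
def n218662 : Q := act 0 n189783
theorem D218662 : act 0 n189783 = n218662 := rfl
theorem F495024 : act 5 n218662 = n207764 := d17_1 D218662 F446315 (iv5 D207623) (iv4 F216411) F349424 F352432 F287447 F285262 D189783
theorem F495025 : act 4 n218662 = n189899 := d18_1 D218662 (iv1 F378161) F369419 (iv5 F341760) F354354 (iv0 D62393) (iv4 F97277) (iv0 F362097) (iv5 F377732)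
theorem F495026 : act 6 n218662 = n196112 := d21_5 (iv5 D205225) F360430 D127366 F377734 D218662 (iv5 F440921) (iv1 D206459) (iv5 F342947) (iv6 F440805) (iv1 F440806)
theorem F495027 : act 2 n195243 = n218662 := d15_3 (iv0 D218662) (iv0 F377735) (iv7 F396440)
theorem F495028 : act 1 n189785 = n218662 := d15_0 (iv0 D218662) (iv7 F470807) F470803
theorem F495029 : act 7 n218662 = n189802 := d15_2 (iv0 F377746) F495028 F377801
theorem F495030 : act 3 n201685 = n218662 := d19_19 (iv1 F495028) F394695 F394693 (iv3 F394691) (iv1 F207893) (iv5 F207925) (iv4 F429206) (iv3 D203642) (iv1 F397603) (iv5 F468691) F468692 F239580 (iv1 F163413) F163410 F77604 (iv3 F77595) (iv1 F163381) D195818 (iv4 F421367)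
def n218663 : Q := act 0 n189787
theorem D218663 : act 0 n189787 = n218663 := rfl
theorem F495031 : act 5 n218663 = n216146 := d17_1 D218663 (iv1 F483172) (iv5 D185281) (iv4 F157159) D193820 F391089 (iv5 F475910) (iv0 F475911) F380153
theorem F495032 : act 3 n218663 = n191311 := d20_5 (iv4 F337961) (iv1 F69719) D94816 D189787 D218663 F382988 (iv1 F390975) (iv4 D193775) F390250 (iv1 D88217)
theorem F495033 : act 6 n218663 = n194120 := d21_5 F390911 D210392 (iv5 F475904) F475906 D218663 F392111 (iv1 F460973) F460970 F390909 D193757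
theorem F495034 : act 2 n216625 = n218663 := d15_3 (iv0 D218663) (iv0 F475924) (iv7 F485230)
theorem F495035 : act 1 n216626 = n218663 := d15_0 (iv0 D218663) F377750 D216626
theorem F495036 : act 7 n218663 = n191308 := d15_2 F485241 F495035 (iv2 F475922)
def n218664 : Q := act 2 n189787
theorem D218664 : act 2 n189787 = n218664 := rfl
theorem F495037 : act 3 n218664 = n190568 := d0_2 D189787 D218664 F380149 (iv3 D185059) (iv2 F146162)
theorem F495038 : act 4 n218664 = n214582 := d1_2 F380153 D218664 (iv2 F475907)
theorem F495039 : act 6 n218664 = n190570 := d3_2 F475906 D218664 F475907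
theorem F495040 : act 7 n218664 = n216626 := d4_2 (iv7 F377750) D218664 (iv2 D216626)
theorem F495041 : act 1 n218664 = n191308 := d15_0 (iv0 F433083) (iv7 F377750) D218664
theorem F495042 : act 1 n216625 = n218664 := d15_0 F495041 (iv7 F495036) (iv2 F495034)
def n218665 : Q := act 4 n189803
theorem D218665 : act 4 n189803 = n218665 := rfl
theorem F495043 : act 2 n218665 = n214871 := d1_1 D218665 F477219 (iv2 F399479)
theorem F495044 : act 3 n218665 = n214875 := d5_1 D218665 (iv4 F477231) (iv3 D214264) F399375 F399374
theorem F495045 : act 6 n218665 = n214894 := d10_2 (iv6 F377809) D218665 (iv4 D214894)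
theorem F495046 : act 0 n218665 = n190607 := d17_0 (iv5 F492247) F492248 (iv5 F474433) F474435 (iv5 F417072) F417075 (iv5 F380458) F380461 D218665
theorem F495047 : act 0 n214861 = n218665 := d20_1 (iv4 F477181) (iv4 D218665) (iv3 F399374) F399376 F176467 F82661 (iv1 F76504) D105198 D195043 (iv1 F439096)
def n218666 : Q := act 3 n189804
theorem D218666 : act 3 n189804 = n218666 := rfl
theorem F495048 : act 2 n218666 = n206527 := d0_1 D218666 F441196 (iv2 F417136) (iv3 F380454) F399478
theorem F495049 : act 5 n218666 = n201127 := d6_2 F418422 D218666 F419185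
theorem F495050 : act 0 n218666 = n214314 := d20_4 F478133 F480939 F480937 D218666 F474531 F280680 D188493 F373682 D195002 F478138
theorem F495051 : act 0 n214315 = n218666 := d20_4 F207306 (iv1 F206942) (iv4 F358300) (iv3 F474535) (iv3 D218666) (iv4 F480937) F480938 F477181 F439092 (iv1 F207315)
theorem F495052 : act 6 n218666 = n201128 := d21_5 F440741 (iv1 F211235) (iv5 F441320) (iv6 F474536) F495051 (iv5 D201128) F342939 D128881 (iv6 F362248) (iv1 F440739)
def n218667 : Q := act 6 n189804
theorem D218667 : act 6 n189804 = n218667 := rfl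
theorem F495053 : act 2 n218667 = n207105 := d3_1 D218667 F443346 F399478
theorem F495054 : act 3 n218667 = n201128 := d7_1 D218667 (iv6 F495052) (iv3 D218666)
theorem F495055 : act 5 n218667 = n201124 := d12_1 D218667 (iv6 D201124) (iv5 F396110) D200931 F418422
theorem F495056 : act 7 n218667 = n206522 := d14_2 F399481 D218667 (iv6 F441187) (iv7 F367213) (iv6 F399480)
theorem F495057 : act 0 n218667 = n209073 := d21_10 F452123 (iv1 F441162) (iv5 F441163) (iv6 D205346) (iv1 F408238) F408236 (iv5 F377837) F418424 F418422 D218667
theorem F495058 : act 0 n214913 = n218667 := d21_4 F455428 (iv1 F435296) (iv5 F441692) (iv6 F477408) (iv6 D218667) (iv5 F418422) (iv1 F418423) (iv5 D169913) (iv6 F296356) (iv1 F455430)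
def n218668 : Q := act 4 n189811
theorem D218668 : act 4 n189811 = n218668 := rfl
theorem F495059 : act 2 n218668 = n194973 := d1_1 D218668 F395256 F383829
theorem F495060 : act 3 n218668 = n215132 := d5_1 D218668 (iv4 F478526) F436025 (iv4 F436018) (iv3 F436023)
theorem F495061 : act 6 n218668 = n194972 := d10_2 F383830 D218668 F395251
theorem F495062 : act 7 n218668 = n215178 := d11_2 F383832 D218668 (iv4 D215178)
theorem F495063 : act 0 n218668 = n209933 := d18_2 D189811 D218668 F455418 F435943 (iv4 F391728) F417379 (iv4 F417375) (iv0 F419095) (iv5 F364714)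
theorem F495064 : act 1 n218668 = n215117 := d18_6 F402725 (iv4 D197023) (iv1 D107542) (iv4 F165921) (iv5 F383828) D218668 F478443 F435791 (iv5 F364822)
def n218669 : Q := act 6 n189819
theorem D218669 : act 6 n189819 = n218669 := rfl
theorem F495065 : act 2 n218669 = n195942 := d3_1 D218669 F398796 (iv2 F380841)
theorem F495066 : act 3 n218669 = n207493 := d7_1 D218669 F445134 F418283
theorem F495067 : act 4 n218669 = n207730 := d10_1 D218669 F446174 F442007
theorem F495068 : act 5 n218669 = n206112 := d12_1 D218669 (iv6 D206112) F204715 F359016 F377947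
theorem F495069 : act 7 n218669 = n207495 := d14_2 F380843 D218669 (iv6 F445139) (iv7 F445458) F445455
theorem F495070 : act 0 n218669 = n207494 := d21_4 (iv5 F359010) (iv1 F283868) F377947 D218669 (iv6 F447903) (iv5 F436285) F435980 D205322 F435933 F359014
theorem F495071 : act 0 n207474 = n218669 := d21_4 D49367 D106845 F358298 D207474 (iv6 D218669) (iv5 F377947) (iv1 D182329) (iv5 F359002) (iv6 D106842) (iv1 D49365)
def n218670 : Q := act 0 n189820
theorem D218670 : act 0 n189820 = n218670 := rfl
def n218671 : Q := act 4 n189831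
theorem D218671 : act 4 n189831 = n218671 := rfl
theorem F495072 : act 2 n218671 = n200581 := d1_1 D218671 F417049 (iv2 F408295)
theorem F495073 : act 3 n218671 = n198864 := d5_1 D218671 (iv4 D198864) (iv3 F373715) F373716 F377907
theorem F495074 : act 6 n218671 = n206558 := d10_2 F395701 D218671 F441326
theorem F495075 : act 7 n218671 = n200587 := d11_2 F408280 D218671 F417077
theorem F495076 : act 0 n218671 = n195045 := d17_0 F395560 F397888 (iv5 D195696) (iv4 F377901) (iv5 D189827) (iv0 D95311) D95313 D189831 D218671
theorem F495077 : act 1 n218671 = n200588 := d18_6 (iv1 F393643) F393640 (iv1 D164428) (iv4 F259074) F377908 D218671 F417083 (iv0 D137275) D137278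
def n218672 : Q := act 6 n189832
theorem D218672 : act 6 n189832 = n218672 := rfl
theorem F495078 : act 2 n218672 = n199846 := d3_1 D218672 (iv6 D199846) (iv2 F377910)
theorem F495079 : act 3 n218672 = n189860 := d7_1 D218672 (iv6 D189860) (iv3 F377911)
theorem F495080 : act 4 n218672 = n195114 := d10_1 D218672 (iv6 D195114) (iv4 F377912)
theorem F495081 : act 5 n218672 = n194809 := d12_1 D218672 F394550 F380256 F148008 (iv5 F377913)
theorem F495082 : act 7 n218672 = n189842 := d14_2 D189832 D218672 (iv6 D189842) (iv7 D95325) (iv6 F146958)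
theorem F495083 : act 0 n218672 = n216879 := d21_4 F414329 (iv1 F377883) (iv5 F377913) D218672 (iv6 F486354) F440702 (iv1 F440628) F440521 (iv6 D199959) F414332
theorem F495084 : act 0 n215743 = n218672 := d21_4 (iv5 F332887) F332884 D200131 (iv6 F481361) (iv6 D218672) F377913 F259558 (iv5 F414348) (iv6 F455422) F455424
def n218673 : Q := act 6 n189841
theorem D218673 : act 6 n189841 = n218673 := rfl
theorem F495085 : act 2 n218673 = n206599 := d3_1 D218673 (iv6 D206599) (iv2 F377943)
theorem F495086 : act 3 n218673 = n214634 := d7_1 D218673 (iv6 F478294) F478289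
theorem F495087 : act 4 n218673 = n207618 := d10_1 D218673 (iv6 F445697) F436807
theorem F495088 : act 5 n218673 = n200948 := d12_1 D218673 (iv6 D200948) (iv5 D113654) (iv6 F356011) D189841
theorem F495089 : act 0 n218673 = n190660 := d21_4 F435743 (iv1 F356015) D189841 D218673 F380484 F202982 (iv1 F202029) (iv5 F417563) (iv6 F482712) F482714
theorem F495090 : act 0 n195699 = n218673 := d21_4 F418261 (iv1 F409774) (iv5 D195698) D195699 (iv6 D218673) (iv5 D189841) (iv1 F355998) D205272 F435701 F418260
def n218674 : Q := act 0 n189842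
theorem D218674 : act 0 n189842 = n218674 := rfl
theorem F495091 : act 5 n218674 = n195083 := d17_1 D218674 F479392 (iv5 D215322) F271601 D177424 F358236 (iv5 F418469) (iv0 F435734) F435731
theorem F495092 : act 6 n218674 = n196629 := d21_5 (iv5 F347473) F142871 (iv5 F146963) D189842 D218674 (iv5 D196629) F388047 F388044 (iv6 F261688) F347475
theorem F495093 : act 2 n215743 = n218674 := d15_3 (iv0 D218674) (iv0 F482959) F482958
theorem F495094 : act 1 n199846 = n218674 := d15_0 (iv0 D218674) (iv7 F495082) F495078
theorem F495095 : act 7 n218674 = n216879 := d15_2 F482960 F495094 F486355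
theorem F495096 : act 3 n218674 = n194807 := d0_2 D215743 F495093 (iv2 F455405) F455406 F433779
def n218675 : Q := act 5 n189844
theorem D218675 : act 5 n189844 = n218675 := rfl
theorem F495097 : act 3 n218675 = n212797 := d6_1 D218675 (iv5 D212797) F377971
theorem F495098 : act 6 n218675 = n218400 := d21_3 F456100 (iv1 F380520) D218675 (iv1 D218400) (iv6 F430192) F430188 (iv1 F362599) D198712 (iv6 F484113) F484115
def n218676 : Q := act 4 n189845
theorem D218676 : act 4 n189845 = n218676 := rfl
theorem F495099 : act 3 n218676 = n217766 := d5_1 D218676 (iv4 D217766) (iv3 F377987) (iv4 D189850) (iv3 F377972)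
theorem F495100 : act 6 n218676 = n190027 := d10_2 (iv6 F377973) D218676 (iv4 D190027)
theorem F495101 : act 7 n218676 = n218470 := d11_2 F494829 D218676 (iv4 F494827)
theorem F495102 : act 5 n218676 = n207536 := d16_7 (iv4 F445341) F399105 F383793 (iv5 F377954) F377953 D189845 D218676 (iv7 F445340) F445344
def n218677 : Q := act 6 n189852
theorem D218677 : act 6 n189852 = n218677 := rfl
theorem F495103 : act 2 n218677 = n189853 := d3_1 D218677 (iv6 D189853) D189852
theorem F495104 : act 3 n218677 = n189920 := d7_1 D218677 (iv6 D189920) (iv3 F377989)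
theorem F495105 : act 4 n218677 = n207852 := d10_1 D218677 F446723 (iv4 F377990)
theorem F495106 : act 7 n218677 = n217264 := d14_2 F380535 D218677 (iv6 D217264) F369041 (iv6 F380538)
theorem F495107 : act 0 n218677 = n198718 := d21_4 F248412 (iv1 F174294) (iv5 F377991) D218677 (iv6 F427673) F444656 F444655 (iv5 D203793) F192151 D157641
theorem F495108 : act 0 n206193 = n218677 := d21_4 F350700 D119244 (iv5 F363701) (iv6 F439656) (iv6 D218677) F377991 (iv1 D109872) (iv5 F169515) F378647 (iv1 D190050)
def n218678 : Q := act 0 n189853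
theorem D218678 : act 0 n189853 = n218678 := rfl
theorem F495109 : act 3 n218678 = n206189 := d20_5 F317850 (iv1 D146189) (iv4 F318895) (iv3 F377994) D218678 (iv4 D206189) (iv1 F205321) (iv4 F205185) F205184 (iv1 F317848)
theorem F495110 : act 2 n198718 = n218678 := d15_3 (iv0 D218678) (iv0 F414395) (iv7 F414396)
theorem F495111 : act 7 n218678 = n206193 := d4_2 (iv7 F414396) F495110 F439655
theorem F495112 : act 1 n217264 = n218678 := d15_1 (iv0 F488181) F495111 F439655
def n218679 : Q := act 7 n189853
theorem D218679 : act 7 n189853 = n218679 := rfl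
theorem F495113 : act 2 n218679 = n217264 := d4_1 D218679 (iv7 F495106) F495103
theorem F495114 : act 3 n218679 = n189854 := d8_1 D218679 (iv7 D189854) (iv3 F377994)
theorem F495115 : act 4 n218679 = n206196 := d11_1 D218679 F439666 (iv4 F377995)
theorem F495116 : act 5 n218679 = n190072 := d13_1 D218679 (iv7 F381609) F381608
theorem F495117 : act 6 n218679 = n214148 := d14_1 D218679 F473722 (iv6 D190676) (iv7 F318884) D189853
theorem F495118 : act 1 n206193 = n218679 := d15_1 (iv0 F495108) (iv7 D218679) (iv2 F495103)
theorem F495119 : act 1 n218679 = n198718 := d15_1 F495118 F414396 (iv2 F439655)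
theorem F495120 : act 0 n216381 = n190072 := d21_1 D216381 (iv5 F495116) F495117 F473723 F467245 (iv5 F429326) (iv1 F429327) F360275 F173704 F361182
def n218680 : Q := act 6 n189862
theorem D218680 : act 6 n189862 = n218680 := rfl
theorem F495121 : act 2 n218680 = n189867 := d3_1 D218680 (iv6 D189867) (iv2 F378031)
theorem F495122 : act 3 n218680 = n189925 := d7_1 D218680 (iv6 D189925) (iv3 F378032)
theorem F495123 : act 0 n218680 = n198727 := d21_4 (iv5 D190579) F289590 D189862 D218680 (iv6 D198727) (iv5 F408159) F409001 (iv5 F380648) (iv6 D190698) F380196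
def n218681 : Q := act 6 n189866
theorem D218681 : act 6 n189866 = n218681 := rfl
theorem F495124 : act 3 n218681 = n205039 := d7_1 D218681 F434735 (iv3 F378037)
theorem F495125 : act 4 n218681 = n189867 := d10_1 D218681 (iv6 D189867) D189866
theorem F495126 : act 7 n218681 = n205048 := d14_2 F380594 D218681 F441230 F441226 (iv6 F435061)
theorem F495127 : act 0 n194880 = n218681 := d21_4 F361575 D199126 F410776 F407268 (iv6 D218681) (iv5 F456483) F456484 (iv5 F394630) (iv6 F408833) (iv1 D198675)
def n218682 : Q := act 0 n189867
theorem D218682 : act 0 n189867 = n218682 := rfl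
theorem F495128 : act 4 n218682 = n204683 := d20_2 F495125 D218682 (iv3 F478234) F481897 (iv3 D215877) (iv4 F365763) F287720 (iv4 F407277) F407276 F495127
theorem F495129 : act 2 n198727 = n218682 := d15_3 (iv0 D218682) (iv0 F408788) (iv7 F409003)
theorem F495130 : act 6 n218682 = n198726 := d3_2 D198727 F495129 (iv2 D198726)
def n218683 : Q := act 7 n189867
theorem D218683 : act 7 n189867 = n218683 := rfl
theorem F495131 : act 3 n218683 = n189871 := d8_1 D218683 (iv7 D189871) (iv3 F378039)
theorem F495132 : act 4 n218683 = n205048 := d11_1 D218683 (iv7 F495126) F495125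
theorem F495133 : act 6 n218683 = n198628 := d14_1 D218683 (iv7 F408620) (iv6 D190688) F148360 D189867
theorem F495134 : act 0 n198727 = n218683 := d20_1 F413073 F495132 (iv3 D205048) (iv1 F383316) (iv3 F467796) F467798 (iv1 F478204) F478201 F460265 F433253
def n218684 : Q := act 4 n189872
theorem D218684 : act 4 n189872 = n218684 := rfl
theorem F495135 : act 2 n218684 = n191257 := d1_1 D218684 (iv4 D191257) F378054
theorem F495136 : act 3 n218684 = n203688 := d5_1 D218684 F452105 (iv3 F478366) F478367 F380260
theorem F495137 : act 5 n218684 = n197555 := d9_2 (iv5 F378053) D218684 F404803 (iv5 F471334) F471333 F285732 F283702 (iv5 F287718) (iv4 F407277) F407278 F388155 (iv5 F353860) F364814 F287608 F285237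
theorem F495138 : act 6 n218684 = n199445 := d10_2 F474500 D218684 F474502
theorem F495139 : act 0 n218684 = n215289 := d17_0 (iv5 F479237) (iv1 D210916) (iv5 F378263) (iv4 D95466) (iv5 D44598) (iv0 F70054) D95355 D189872 D218684
theorem F495140 : act 1 n218684 = n215291 := d18_6 (iv1 F479249) F479250 F378893 F285237 (iv5 F378053) D218684 (iv4 D215291) F394583 F394581
def n218685 : Q := act 7 n189873
theorem D218685 : act 7 n189873 = n218685 := rfl
theorem F495141 : act 3 n218685 = n189877 := d8_1 D218685 (iv7 D189877) (iv3 F378055)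
theorem F495142 : act 5 n218685 = n197050 := d13_1 D218685 F402827 (iv5 F378056)
theorem F495143 : act 6 n218685 = n194967 := d14_1 D218685 F395211 (iv6 D190681) F148340 D189873
theorem F495144 : act 1 n194987 = n218685 := d15_1 (iv0 F413160) (iv7 D218685) (iv2 F394979)
theorem F495145 : act 1 n218685 = n199695 := d15_1 F495144 F413152 F407213
def n218686 : Q := act 5 n189879
theorem D218686 : act 5 n189879 = n218686 := rfl
theorem F495146 : act 2 n218686 = n211026 := d2_1 D218686 F459787 (iv2 F394642)
theorem F495147 : act 3 n218686 = n213747 := d6_1 D218686 F471901 F430541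
theorem F495148 : act 7 n218686 = n211027 := d13_2 F380643 D218686 F459790
theorem F495149 : act 4 n218686 = n197402 := d16_2 D189879 D218686 (iv5 F404153) (iv4 D192269) (iv5 F367529) (iv4 F378814) (iv5 F380638) F380639 (iv2 D189878)
theorem F495150 : act 0 n218686 = n210376 := d17_2 (iv1 F378069) D218686 F457271 (iv4 D194960) (iv5 F369704) F370007 F370012 (iv0 D103658) D103660
theorem F495151 : act 1 n218686 = n194855 := d17_6 (iv1 F380588) F381215 F381214 F361846 D189879 D218686 (iv5 D194855) D194853 (iv4 F394758)
theorem F495152 : act 6 n218686 = n197401 := d21_3 (iv5 D194492) (iv1 F378069) D218686 F404151 D204958 F434346 (iv1 D145431) D145433 D212176 (iv1 F464626)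
def n218687 : Q := act 6 n189900
theorem D218687 : act 6 n189900 = n218687 := rfl
theorem F495153 : act 2 n218687 = n207498 := d3_1 D218687 F445151 (iv2 F380504)
theorem F495154 : act 4 n218687 = n203964 := d10_1 D218687 F430616 (iv4 F378164)
theorem F495155 : act 5 n218687 = n207118 := d12_1 D218687 F443407 (iv5 F478130) (iv6 D215058) (iv5 F378163)
theorem F495156 : act 0 n207771 = n218687 := d21_4 D132936 F382296 F382294 D207771 (iv6 D218687) F378163 (iv1 F358991) (iv5 D133001) (iv6 D62406) (iv1 F97276)
theorem F495157 : act 1 n207795 = n218687 := d15_0 (iv0 F495156) (iv7 F446358) (iv2 F446476)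
theorem F495158 : act 7 n218687 = n206802 := d15_2 (iv0 F446479) F495157 F442248
def n218688 : Q := act 4 n189910
theorem D218688 : act 4 n189910 = n218688 := rfl
theorem F495159 : act 2 n218688 = n216724 := d1_1 D218688 (iv4 D216724) (iv2 F378202)
theorem F495160 : act 7 n218688 = n216722 := d11_2 (iv7 F378203) D218688 (iv4 D216722)
theorem F495161 : act 0 n218688 = n192369 := d17_0 (iv5 D192369) F342226 (iv5 F387904) F387901 (iv5 F483579) (iv0 F483584) (iv5 F287608) (iv0 F378204) D218688
theorem F495162 : act 1 n218688 = n193761 := d18_6 F292390 (iv4 F153224) F378200 (iv4 D189909) D189910 D218688 (iv4 D193761) (iv0 F372708) (iv5 D188216)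
theorem F495163 : act 6 n218688 = n191629 := d21_5 F492381 (iv1 F486965) F486954 F390934 (iv1 F495162) (iv5 F395966) F395965 D208795 F450911 D218150
def n218689 : Q := act 6 n189910
theorem D218689 : act 6 n189910 = n218689 := rfl
theorem F495164 : act 2 n218689 = n216241 := d3_1 D218689 F483440 (iv2 F378202)
theorem F495165 : act 4 n218689 = n191629 := d10_1 D218689 (iv6 F495163) (iv4 D218688)
theorem F495166 : act 5 n218689 = n216238 := d12_1 D218689 (iv6 F483442) F384281 F372524 D189910
theorem F495167 : act 0 n218689 = n190568 := d21_4 (iv5 D95437) D95435 D189910 D218689 F380150 (iv5 F347709) (iv1 F139800) F290684 D102359 F370380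
theorem F495168 : act 0 n193839 = n218689 := d21_4 F471440 F251058 D213781 (iv6 F472063) (iv6 D218689) (iv5 D189910) (iv1 F147053) D185309 D216725 (iv1 F485641)
theorem F495169 : act 7 n216236 = n218689 := d13_0 F495166 (iv7 D216238) D216236
def n218690 : Q := act 6 n189911
theorem D218690 : act 6 n189911 = n218690 := rfl
theorem F495170 : act 2 n218690 = n216723 := d3_1 D218690 (iv6 D216723) (iv2 F378206)
theorem F495171 : act 3 n218690 = n192246 := d7_1 D218690 (iv6 D192246) (iv3 F378207)
theorem F495172 : act 5 n218690 = n217905 := d12_1 D218690 F491190 F379968 F370480 D189911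
theorem F495173 : act 0 n218690 = n213615 := d21_4 (iv5 D185309) (iv1 F147054) D189911 D218690 (iv6 D213615) (iv5 F466345) (iv1 F484890) F484886 F391069 (iv1 F378215)
theorem F495174 : act 0 n216801 = n218690 := d21_4 (iv5 F466406) F468199 F468198 F485966 (iv6 D218690) (iv5 D189911) (iv1 D95436) D95437 (iv6 F359655) F421380
theorem F495175 : act 7 n216800 = n218690 := d13_0 F495172 F491191 (iv5 F485974)
def n218691 : Q := act 5 n189920
theorem D218691 : act 5 n189920 = n218691 := rfl
theorem F495176 : act 2 n218691 = n190075 := d2_1 D218691 (iv5 F380532) F380529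
theorem F495177 : act 7 n218691 = n190124 := d13_2 (iv7 F378253) D218691 F378937
theorem F495178 : act 4 n218691 = n214093 := d16_2 (iv4 F378252) D218691 (iv5 D214093) (iv4 F410641) F410642 F384987 (iv5 F157501) D193983 F391614
theorem F495179 : act 0 n218691 = n190118 := d17_2 F487756 D218691 (iv5 D190118) (iv4 F308361) F154739 F159483 (iv5 F391573) F391577 D217168
theorem F495180 : act 1 n218691 = n190127 := d17_6 D213757 F471951 (iv1 F384995) (iv5 F369045) (iv4 F378252) D218691 F378940 (iv0 F366367) F361109
def n218692 : Q := act 4 n189921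
theorem D218692 : act 4 n189921 = n218692 := rfl
theorem F495181 : act 2 n218692 = n197867 := d1_1 D218692 F406063 F380551
theorem F495182 : act 3 n218692 = n197894 := d5_1 D218692 (iv4 F411940) (iv3 F413765) (iv4 D199841) (iv3 F380552)
theorem F495183 : act 5 n218692 = n218030 := d9_2 F439404 D218692 (iv4 F493685) (iv5 D218397) F376116 (iv5 F370527) (iv4 F230656) (iv5 F378014) (iv4 F459456) F459457 F387453 (iv5 F367506) (iv4 F450892) F450893 (iv4 F439403)
theorem F495184 : act 7 n218692 = n198003 := d11_2 F408253 D218692 (iv4 F408254)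
theorem F495185 : act 0 n218692 = n197708 := d18_2 D189921 D218692 F405457 F351020 F230162 (iv0 F378242) (iv4 D189918) (iv0 D95459) D95461
theorem F495186 : act 1 n218692 = n198004 := d18_6 F391562 F391559 (iv1 F360248) (iv4 F439403) F439404 D218692 F406472 (iv0 F173879) D137271
theorem F495187 : act 6 n218692 = n203886 := d21_5 D215878 F481899 F457857 F406473 (iv1 F495186) (iv5 F433486) (iv1 F433485) (iv5 D204074) (iv6 F430938) (iv1 F430941)
def n218693 : Q := act 6 n189921
theorem D218693 : act 6 n189921 = n218693 := rfl
theorem F495188 : act 2 n218693 = n214932 := d3_1 D218693 F477503 F380551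
theorem F495189 : act 3 n218693 = n199842 := d7_1 D218693 (iv6 D199842) (iv3 F380552)
theorem F495190 : act 4 n218693 = n203886 := d10_1 D218693 (iv6 F495187) (iv4 D218692)
theorem F495191 : act 7 n218693 = n214931 := d14_2 F408253 D218693 F477499 (iv7 F394656) F408261
theorem F495192 : act 0 n218693 = n215652 := d21_10 (iv5 F494367) F494371 (iv5 F430977) (iv6 F430979) (iv1 F413146) F378713 D198206 (iv1 F439407) F439404 D218693
theorem F495193 : act 0 n214355 = n218693 := d21_4 F378056 F399672 F399673 (iv6 F474727) (iv6 D218693) (iv5 F439404) (iv1 F439408) (iv5 D198201) D198202 F407216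
def n218694 : Q := act 3 n189922
theorem D218694 : act 3 n189922 = n218694 := rfl
theorem F495194 : act 4 n218694 = n189936 := d5_2 D189922 D218694 (iv3 D189936) (iv4 D95479) (iv3 F147108)
theorem F495195 : act 5 n218694 = n217915 := d6_2 F378261 D218694 (iv3 D217915)
theorem F495196 : act 6 n218694 = n189930 := d7_2 (iv6 F378255) D218694 (iv3 D189930)
theorem F495197 : act 7 n218694 = n210905 := d8_2 F378258 D218694 (iv3 D210905)
theorem F495198 : act 0 n218694 = n199917 := d19_4 F348020 D95461 D189922 D218694 (iv5 F426682) (iv4 D203025) (iv3 F361669) F230138 (iv5 D117245) (iv4 D54038) F51022 (iv1 D32088) (iv5 D15143) (iv4 D7192) D7191 (iv1 F26978) D32012 (iv4 F316568) D95338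
theorem F495199 : act 0 n197855 = n218694 := d20_4 F418224 (iv1 F406131) (iv4 D197856) D197855 (iv3 D218694) (iv4 D189922) D189921 D218692 F495182 (iv1 F418228)
def n218695 : Q := act 3 n189926
theorem D218695 : act 3 n189926 = n218695 := rfl
theorem F495200 : act 2 n218695 = n215909 := d0_1 D218695 (iv3 D215909) F481925 (iv3 D215884) (iv2 F378271)
theorem F495201 : act 4 n218695 = n197857 := d5_2 D189926 D218695 F406040 F394641 F378067
theorem F495202 : act 6 n218695 = n197856 := d7_2 (iv6 F412765) D218695 F412762
theorem F495203 : act 7 n218695 = n215883 := d8_2 (iv7 F378272) D218695 (iv3 D215883)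
theorem F495204 : act 0 n197899 = n218695 := d20_4 (iv4 F199181) F406144 F406140 (iv3 F406134) (iv3 D218695) (iv4 D189926) F160470 D194915 F394983 (iv1 D177797)
theorem F495205 : act 1 n197899 = n214178 := d15_1 (iv0 F495204) (iv7 F482044) (iv2 F495200)
def n218696 : Q := act 6 n189929
theorem D218696 : act 6 n189929 = n218696 := rfl
theorem F495206 : act 2 n218696 = n198526 := d3_1 D218696 F408234 F394995
theorem F495207 : act 3 n218696 = n214279 := d7_1 D218696 (iv6 F474370) (iv3 F459840)
theorem F495208 : act 4 n218696 = n214273 := d10_1 D218696 F474348 F395105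
theorem F495209 : act 0 n214264 = n218696 := d18_0 F495208 (iv1 F476398) F476396 F376981 (iv4 D188000) (iv0 D90719) (iv4 F139625) D187996 (iv5 F474301)
theorem F495210 : act 0 n218696 = n217818 := d20_1 (iv4 F495208) F490780 (iv3 D214873) (iv1 D163265) (iv3 D78468) F56436 F54906 D75215 D157882 D214273
def n218697 : Q := act 0 n189930
theorem D218697 : act 0 n189930 = n218697 := rfl
theorem F495211 : act 4 n218697 = n199840 := d20_2 (iv4 F378278) D218697 F413759 (iv1 D174679) (iv3 D83467) F299333 F297217 (iv4 F74946) (iv3 F158042) F365880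
theorem F495212 : act 6 n199839 = n218697 := d10_0 F495211 (iv6 D199840) D199839
def n218698 : Q := act 0 n189941
theorem D218698 : act 0 n189941 = n218698 := rfl
theorem F495213 : act 5 n218698 = n194746 := d17_3 F367275 D189941 D218698 (iv4 F394919) (iv5 F475752) F488814 (iv5 D190739) (iv0 F353221) F149573
theorem F495214 : act 3 n218698 = n190819 := d20_5 D190239 (iv1 F463775) F463773 (iv3 F378317) D218698 (iv4 F381951) (iv1 F488517) F488514 F369823 F369584
theorem F495215 : act 2 n214552 = n218698 := d15_3 (iv0 D218698) F394506 (iv7 F475753)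
theorem F495216 : act 1 n217419 = n218698 := d15_0 (iv0 D218698) (iv7 F488541) (iv2 F488810)
theorem F495217 : act 7 n218698 = n190833 := d15_2 (iv0 F488813) F495216 F381273
def n218699 : Q := act 4 n189941
theorem D218699 : act 4 n189941 = n218699 := rfl
theorem F495218 : act 0 n218699 = n191018 := d18_2 (iv1 F394506) D218699 (iv4 D191018) F290794 F75810 (iv0 F343080) (iv4 F392436) (iv0 F394504) (iv5 F394503)
theorem F495219 : act 1 n218699 = n191048 := d18_6 (iv1 D89888) F64806 F289535 (iv4 F147122) D189941 D218699 (iv4 D191048) (iv0 F369770) (iv5 D187304)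
def n218700 : Q := act 4 n189942
theorem D218700 : act 4 n189942 = n218700 := rfl
theorem F495220 : act 2 n218700 = n212777 := d1_1 D218700 (iv4 D212777) (iv2 F378318)
theorem F495221 : act 6 n218700 = n189944 := d10_2 (iv6 F378319) D218700 (iv4 D189944)
theorem F495222 : act 5 n218700 = n206733 := d16_1 D218700 F441999 (iv5 F428795) F428792 F337079 (iv4 F362066) (iv5 F439524) F439523 (iv2 F378318)
theorem F495223 : act 0 n218700 = n208009 := d17_0 (iv5 D208009) (iv1 F366306) D206960 F442745 (iv5 D206159) F439510 F439508 F381870 D218700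
def n218701 : Q := act 7 n189942
theorem D218701 : act 7 n189942 = n218701 := rfl
theorem F495224 : act 2 n218701 = n206160 := d4_1 D218701 F439523 (iv2 F378318)
theorem F495225 : act 5 n218701 = n189943 := d13_1 D218701 (iv7 D189943) D189942
theorem F495226 : act 1 n190294 = n218701 := d15_1 (iv0 F379309) (iv7 D218701) F378318
theorem F495227 : act 1 n218701 = n190246 := d15_1 F495226 F379179 (iv2 F379307)
def n218702 : Q := act 0 n189944
theorem D218702 : act 0 n189944 = n218702 := rfl
theorem F495228 : act 4 n218702 = n214552 := d18_3 F289703 D189944 D218702 F475752 F394919 (iv0 F394335) F392436 F343081 (iv5 F149926)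
theorem F495229 : act 1 n217420 = n218702 := d15_0 (iv0 D218702) (iv7 F488544) (iv2 F488815)
def n218703 : Q := act 1 n189944
theorem D218703 : act 1 n189944 = n218703 := rfl
theorem F495230 : act 1 n218703 = n217420 := d15_1 D218703 F488816 F380880
theorem F495231 : act 4 n218703 = n190833 := d18_7 F369549 F149573 F367275 F147122 D95494 D189944 D218703 (iv0 F488543) (iv5 D217344)
theorem F495232 : act 6 n209138 = n218703 := d10_0 F495231 F482012 F482009
theorem F495233 : act 3 n218703 = n205813 := d19_3 F482763 F482760 (iv4 F495231) (iv1 F443465) F443467 (iv4 F407067) F407066 F173723 (iv5 D63892) D63891 D135872 F349034 F335889 F356613 (iv3 F356602) F356604 (iv5 F347746) (iv4 F380411) (iv3 F394603)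
theorem F495234 : act 5 n205812 = n218703 := d6_0 F495233 (iv5 D205813) D205812
theorem F495235 : act 6 n207133 = n217420 := d21_3 F442734 F437504 (iv5 F443467) (iv1 F495230) (iv6 F495232) (iv5 D209138) (iv1 D135850) D135851 F218510 D206955
theorem F495236 : act 6 n217345 = n208010 := d3_2 F495235 F488815 (iv2 F447424)
theorem F495237 : act 4 n217421 = n207133 := d10_3 F495235 (iv4 D217420) D217421
theorem F495238 : act 5 n217420 = n207734 := d12_1 F495235 (iv6 D207734) (iv5 D132252) D132253 (iv5 F443467)
theorem F495239 : act 5 n207943 = n217345 := d2_2 F495238 (iv2 F447091) (iv2 F488815)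
theorem F495240 : act 4 n208010 = n217346 := d1_2 F495237 F447424 (iv2 F488817)
def n218704 : Q := act 3 n189944
theorem D218704 : act 3 n189944 = n218704 := rfl
def n218705 : Q := act 5 n189944
theorem D218705 : act 5 n189944 = n218705 := rfl
theorem F495241 : act 6 n218705 = n206732 := d12_2 F495221 D218705 (iv5 D206732) D206733 (iv5 F495222)
theorem F495242 : act 7 n218705 = n207943 := d13_2 F488544 D218705 F495239
def n218706 : Q := act 4 n189949
theorem D218706 : act 4 n189949 = n218706 := rfl
theorem F495243 : act 2 n218706 = n198966 := d1_1 D218706 F410093 F380881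
theorem F495244 : act 3 n218706 = n217722 := d5_1 D218706 F490318 (iv3 F494039) F494042 F416313
theorem F495245 : act 5 n218706 = n198955 := d9_2 D189949 D218706 F410049 F171445 (iv4 F178654) (iv5 F378349) (iv4 D189950) D189951 (iv4 F379883) (iv5 F382626) F382625 F171458 (iv4 F189724) (iv5 F378342) (iv4 D189948)
theorem F495246 : act 6 n218706 = n200280 := d10_2 (iv6 F416312) D218706 (iv4 F416311)
theorem F495247 : act 7 n218706 = n218619 := d11_2 F380888 D218706 F494803
def n218707 : Q := act 5 n189952
theorem D218707 : act 5 n189952 = n218707 := rfl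
theorem F495248 : act 2 n218707 = n206158 := d2_1 D218707 (iv5 D206158) (iv2 F378356)
theorem F495249 : act 7 n218707 = n206159 := d13_2 (iv7 F378355) D218707 (iv5 D206159)
theorem F495250 : act 4 n218707 = n207879 := d16_2 (iv4 F378354) D218707 (iv5 D207879) (iv4 F446845) F446846 F302949 (iv5 F346234) (iv7 F381103) F381100
theorem F495251 : act 0 n218707 = n191044 := d17_2 F378358 D218707 (iv5 D191044) F319353 (iv5 F317621) F278620 (iv5 F333726) (iv0 D127714) (iv4 F205180)
theorem F495252 : act 1 n218707 = n191006 := d17_6 (iv1 F334999) (iv5 F334996) (iv1 D158458) (iv5 F346218) (iv4 F378354) D218707 (iv5 D191006) F362087 F147124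
def n218708 : Q := act 3 n189953
theorem D218708 : act 3 n189953 = n218708 := rfl
theorem F495253 : act 2 n218708 = n208488 := d0_1 D218708 (iv3 F481043) (iv2 F490716) F490717 (iv2 F393210)
theorem F495254 : act 4 n218708 = n207491 := d5_2 F473744 D218708 F445126 (iv4 F493891) F493890
theorem F495255 : act 5 n218708 = n199991 := d6_2 (iv5 F378360) D218708 F414508
theorem F495256 : act 6 n218708 = n199993 := d7_2 F473742 D218708 (iv3 F473741)
theorem F495257 : act 7 n218708 = n216968 := d8_2 F393209 D218708 F486785
theorem F495258 : act 1 n215007 = n218708 := d15_1 (iv0 F477860) F495257 F486784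
theorem F495259 : act 0 n215040 = n218708 := d21_4 (iv5 F375660) F375663 D191034 (iv6 F478025) F495256 (iv5 D199993) F325270 D176676 F463304 F463303
def n218709 : Q := act 6 n189956
theorem D218709 : act 6 n189956 = n218709 := rfl
theorem F495260 : act 2 n218709 = n214965 := d3_1 D218709 (iv6 F477672) F380896
theorem F495261 : act 3 n218709 = n189990 := d7_1 D218709 (iv6 D189990) (iv3 F378364)
theorem F495262 : act 4 n218709 = n199873 := d10_1 D218709 F416327 F416323
theorem F495263 : act 5 n218709 = n214965 := d12_1 D218709 (iv6 F477672) F380898 F148699 (iv5 F378365)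
theorem F495264 : act 7 n218709 = n189975 := d14_2 D189956 D218709 (iv6 D189975) (iv7 D95514) (iv6 F147132)
theorem F495265 : act 0 n218709 = n198816 := d21_4 (iv5 D190741) (iv1 F148700) (iv5 F378365) D218709 (iv6 F409376) (iv5 D164094) (iv1 F141770) F250817 D176902 F380885
theorem F495266 : act 1 n218709 = n214967 := d15_1 (iv0 F495265) (iv7 D214967) (iv2 F409374)
def n218710 : Q := act 4 n189958
theorem D218710 : act 4 n189958 = n218710 := rfl
theorem F495267 : act 2 n218710 = n218555 := d1_1 D218710 F494454 F479295
theorem F495268 : act 3 n218710 = n218558 := d5_1 D218710 F494468 F456086 (iv4 D189962) (iv3 F378372)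
theorem F495269 : act 5 n218710 = n218557 := d9_2 D189958 D218710 F494462 F449729 F422024 (iv5 F365618) (iv4 F375659) F375660 (iv4 F479292) (iv5 F494472) (iv4 F494513) F494514 F444086 (iv5 D189092) F294215
theorem F495270 : act 7 n218710 = n218556 := d11_2 F380917 D218710 F494459
theorem F495271 : act 0 n218710 = n191250 := d18_2 F380117 D218710 (iv4 D191250) F294696 (iv4 F294695) D99779 (iv4 F370100) (iv0 F370102) (iv5 F376512)
theorem F495272 : act 1 n218710 = n191248 := d18_6 (iv1 F71795) (iv4 F127122) (iv1 F294212) F294215 D189958 D218710 (iv4 D191248) (iv0 D97472) (iv5 D45520)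
def n218711 : Q := act 5 n189962
theorem D218711 : act 5 n189962 = n218711 := rfl
theorem F495273 : act 3 n218711 = n214885 := d6_1 D218711 (iv5 F477280) F456086
def n218712 : Q := act 6 n189965
theorem D218712 : act 6 n189965 = n218712 := rfl
theorem F495274 : act 3 n218712 = n189967 := d7_1 D218712 (iv6 D189967) D189965
theorem F495275 : act 7 n218712 = n200397 := d14_2 F380945 D218712 (iv6 D200397) D200398 (iv6 F416297)
theorem F495276 : act 0 n218712 = n211496 := d21_4 F477750 (iv1 F372679) (iv5 F378379) D218712 (iv6 D211496) F225389 (iv1 F396255) (iv5 F392407) (iv6 F479298) (iv1 F479299)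
def n218713 : Q := act 0 n189966
theorem D218713 : act 0 n189966 = n218713 := rfl
theorem F495277 : act 4 n218713 = n216885 := d18_3 D95511 D189966 D218713 F486383 F376500 (iv0 F370142) (iv4 D95504) (iv0 D44614) D44616
theorem F495278 : act 1 n189968 = n218713 := d15_0 (iv0 D218713) (iv7 F380951) F380950
theorem F495279 : act 3 n214323 = n218713 := d20_9 (iv4 D189968) (iv1 D95512) D95513 D189972 F486552 (iv3 D216923) (iv4 D186369) F295069 (iv4 F474574) (iv1 F495278)
theorem F495280 : act 6 n198814 = n218713 := d21_3 F408631 (iv1 F407811) (iv5 F409368) (iv1 F495278) (iv6 F378991) (iv5 D179313) (iv1 F351354) D198548 F408312 (iv1 F408630)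
theorem F495281 : act 5 n218713 = n198732 := d12_1 F495280 (iv6 D198732) F170702 D198376 (iv5 F409368)
theorem F495282 : act 0 n198732 = n215699 := d21_7 (iv5 F476353) F476355 F409380 (iv6 D198817) D198814 F495280 F495281 (iv5 D215699) (iv6 D176907) D176903
theorem F495283 : act 0 n218711 = n198732 := d21_1 D218711 (iv5 F495281) (iv6 F495280) (iv1 F409369) (iv6 D190500) F147681 D185458 (iv5 F381220) (iv6 F481160) (iv1 F481161)
def n218714 : Q := act 1 n189966
theorem D218714 : act 1 n189966 = n218714 := rfl
theorem F495284 : act 1 n218714 = n189968 := d15_1 D218714 (iv7 F380942) F380941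
theorem F495285 : act 4 n218714 = n190818 := d18_7 (iv1 F370175) F370171 F288962 (iv4 D182853) (iv5 F343042) D189966 D218714 (iv0 F489123) (iv5 D217488)
theorem F495286 : act 3 n215666 = n218714 := d20_9 (iv4 D189966) (iv1 F293079) D188445 F373504 F382197 (iv3 F494896) (iv4 D218635) (iv1 F377544) D215666 (iv1 D218714)
def n218715 : Q := act 3 n189966
theorem D218715 : act 3 n189966 = n218715 := rfl
theorem F495287 : act 4 n218715 = n218474 := d5_2 D189966 D218715 (iv3 F494623) F494624 (iv3 D189965)
theorem F495288 : act 0 n218715 = n214886 := d19_4 (iv1 F293074) (iv5 F343042) D189966 D218715 (iv5 D214886) F257603 (iv3 F257596) F376177 (iv5 D189236) (iv4 D93794) F68908 D43850 F292766 (iv4 F292765) F33537 F293026 (iv5 F293024) (iv4 F36738) (iv3 F76187)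
theorem F495289 : act 6 n191253 = n218715 := d21_3 (iv5 D215654) F477501 F477500 F495288 F477279 (iv5 D203864) (iv1 F298083) D214959 F494351 F494349
theorem F495290 : act 5 n214752 = n218715 := d21_6 (iv5 D75278) F54685 D35244 D77215 D160913 D214752 F495288 (iv5 D214886) (iv6 D163287) F119681
theorem F495291 : act 0 n217404 = n214752 := d21_1 (iv5 F488751) F495290 (iv6 F495289) (iv1 F382768) (iv6 D137087) (iv5 D64441) D64438 D137076 D209904 F486036
def n218716 : Q := act 5 n189966
theorem D218716 : act 5 n189966 = n218716 := rfl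
theorem F495292 : act 3 n218716 = n214752 := d6_1 D218716 F495290 (iv3 D218715)
theorem F495293 : act 4 n218716 = n217459 := d16_2 D189966 D218716 F488967 F416022 F416021 (iv4 D182848) (iv5 F343046) (iv7 F158931) F158933
theorem F495294 : act 6 n214750 = n218716 := d7_0 F495292 (iv6 D214752) D214750
theorem F495295 : act 0 n198503 = n214750 := d21_4 F408929 (iv1 F169864) (iv5 F169865) D198503 F495294 (iv5 D218716) D218713 F495281 (iv6 D198732) (iv1 F408931)
def n218717 : Q := act 6 n189966
theorem D218717 : act 6 n189966 = n218717 := rfl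
theorem F495296 : act 3 n218717 = n191253 := d7_1 D218717 F495289 (iv3 D218715)
theorem F495297 : act 4 n218717 = n189967 := d10_1 D218717 (iv6 D189967) D189966
theorem F495298 : act 5 n218717 = n214318 := d12_1 D218717 F474547 (iv5 F476649) F495294 (iv5 D218716)
theorem F495299 : act 1 n214321 = n218717 := d17_6 (iv1 F392192) (iv5 F479097) F479099 (iv5 F406501) (iv4 F414417) (iv5 F474563) F495298 (iv0 F474545) F413831
def n218718 : Q := act 7 n189967
theorem D218718 : act 7 n189967 = n218718 := rfl
theorem F495300 : act 3 n218718 = n200397 := d8_1 D218718 (iv7 F495275) F495274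
theorem F495301 : act 6 n218718 = n200389 := d14_1 D218718 F416257 (iv6 D190762) (iv7 F158932) D189967
theorem F495302 : act 1 n216822 = n218718 := d15_1 F486067 (iv7 D218718) (iv2 F380943)
theorem F495303 : act 1 n218718 = n190424 := d15_1 F495302 (iv7 F481018) (iv2 F486063)
def n218719 : Q := act 3 n189968
theorem D218719 : act 3 n189968 = n218719 := rfl
theorem F495304 : act 4 n218719 = n218622 := d5_2 D189968 D218719 (iv3 D218622) F377242 F372690
theorem F495305 : act 6 n218719 = n190150 := d7_2 F378991 D218719 F378985
theorem F495306 : act 0 n218719 = n214327 := d19_4 D87289 (iv5 F343046) D189968 D218719 F476171 (iv4 D214639) F253427 (iv1 F119946) F119944 (iv4 D55942) F43540 F28330 (iv5 D8684) D8683 (iv3 F13596) (iv1 F6124) D8998 D19151 D40538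
theorem F495307 : act 5 n190148 = n218719 := d17_1 F378980 F495306 F476171 (iv4 D214639) (iv5 D160435) D160433 D214635 (iv0 F476153) F389423
theorem F495308 : act 1 n218719 = n196159 := d17_8 D196161 (iv5 F465152) F465154 (iv5 F451651) (iv4 F486218) F486219 (iv0 F476246) F495307 F399654
def n218720 : Q := act 5 n189968
theorem D218720 : act 5 n189968 = n218720 := rfl
theorem F495309 : act 3 n218720 = n190148 := d6_1 D218720 F495307 (iv3 D218719)
theorem F495310 : act 4 n218720 = n215703 := d9_1 D218720 (iv5 D215703) (iv4 F481172) (iv5 F481174) (iv4 D182853) (iv5 F343042) D189966 D218716 F495293 F488967 F416022 F416021 (iv4 D182848) (iv5 F343046) D189968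
theorem F495311 : act 6 n218720 = n190146 := d12_2 F378991 D218720 (iv5 D190146) F347832 D179313
def n218721 : Q := act 3 n189971
theorem D218721 : act 3 n189971 = n218721 := rfl
theorem F495312 : act 2 n218721 = n216917 := d0_1 D218721 F486530 F289099 F380956 F445707
theorem F495313 : act 6 n218721 = n190357 := d7_2 F416024 D218721 F392697
theorem F495314 : act 7 n218721 = n211870 := d8_2 (iv7 F445706) D218721 F463339
theorem F495315 : act 1 n216916 = n218721 := d15_1 D216916 F495314 F463338
theorem F495316 : act 1 n218721 = n216915 := d15_1 F495315 (iv7 F486525) (iv2 F486528)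
def n218722 : Q := act 1 n189972
theorem D218722 : act 1 n189972 = n218722 := rfl
theorem F495317 : act 1 n218722 = n217508 := d15_1 D218722 F489233 F416339
theorem F495318 : act 4 n200349 = n218722 := d20_6 F295305 (iv1 F295303) (iv4 F147640) D190413 F492156 F492153 (iv1 D218722) F378382 (iv3 D95543) D95541
theorem F495319 : act 2 n218722 = n208130 := d1_1 F495318 F448013 (iv2 F416096)
theorem F495320 : act 6 n218722 = n196006 := d10_2 D200349 F495318 F399031
theorem F495321 : act 5 n218722 = n217394 := d16_1 F495318 F488712 F475728 F392616 (iv5 F373472) (iv4 F373808) (iv5 F448022) (iv7 D208132) (iv2 F416096)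
def n218723 : Q := act 5 n189972
theorem D218723 : act 5 n189972 = n218723 := rfl
theorem F495322 : act 2 n218723 = n214878 := d2_1 D218723 (iv5 F477246) F416339
theorem F495323 : act 3 n218723 = n189973 := d6_1 D218723 (iv5 D189973) D189972
theorem F495324 : act 4 n218723 = n214882 := d9_1 D218723 F477266 F430156 (iv5 F367036) F150122 D190466 (iv4 F489231) F489232 (iv4 D214863) (iv5 D163238) (iv4 F140912) (iv5 F141242) F294889 F147656 (iv4 F378382)
def n218724 : Q := act 0 n189973
theorem D218724 : act 0 n189973 = n218724 := rfl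
theorem F495325 : act 5 n218724 = n217490 := d17_3 (iv1 D189971) D189973 D218724 F489134 (iv5 D189960) (iv0 F205497) D190029 (iv0 F416023) (iv4 F416022)
theorem F495326 : act 1 n218069 = n218724 := d15_0 (iv0 D218724) F414786 (iv2 F492001)
theorem F495327 : act 4 n215699 = n218724 := d18_5 (iv1 D217490) (iv4 D187387) F335321 (iv4 F276267) D215699 (iv0 D218724) (iv4 F492005) F495326 F495325
def n218725 : Q := act 1 n189973
theorem D218725 : act 1 n189973 = n218725 := rfl
theorem F495328 : act 1 n218725 = n218069 := d15_1 D218725 F492004 F380960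
theorem F495329 : act 5 n218725 = n217489 := d17_7 F335321 F335316 (iv1 D44615) D44616 D95513 D189973 D218725 (iv0 D217489) (iv4 D187387)
theorem F495330 : act 4 n218725 = n218711 := d17_9 F495283 (iv5 F495281) (iv1 F495278) D218720 F495310 (iv5 D215703) F445705 D189973 D218725
theorem F495331 : act 6 n217362 = n218725 := d21_5 (iv5 D187231) (iv1 D89834) D89836 D187237 D217362 F495329 (iv1 F489128) (iv5 F488965) (iv6 D217458) (iv1 F369866)
def n218726 : Q := act 4 n189976
theorem D218726 : act 4 n189976 = n218726 := rfl
theorem F495332 : act 2 n218726 = n211869 := d1_1 D218726 F463335 F463325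
theorem F495333 : act 5 n218726 = n206526 := d9_2 D189976 D218726 (iv4 D206526) F342951 (iv4 F332637) F163312 (iv4 F361700) D190354 (iv4 F395340) (iv5 F441189) (iv4 D206523) F355245 D128873 F342932 (iv4 F261858)
theorem F495334 : act 6 n218726 = n200255 := d10_2 (iv6 F425826) D218726 (iv4 F425825)
theorem F495335 : act 7 n218726 = n190358 := d11_2 (iv7 F378392) D218726 (iv4 D190358)
theorem F495336 : act 0 n218726 = n211871 := d17_0 F463343 (iv1 D194989) D194991 (iv4 F395329) (iv5 F439018) (iv0 F475672) (iv5 F481200) F481202 D218726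
theorem F495337 : act 1 n218726 = n211714 := d18_6 (iv1 D159521) F114419 D76319 (iv4 F261858) D189976 D218726 F462810 (iv0 F475346) (iv5 D214474)
def n218727 : Q := act 4 n189978
theorem D218727 : act 4 n189978 = n218727 := rfl
theorem F495338 : act 2 n218727 = n190343 := d1_1 D218727 (iv4 D190343) F378412
theorem F495339 : act 3 n218727 = n195990 := d5_1 D218727 F398987 (iv3 F417715) F417717 F379174
theorem F495340 : act 5 n218727 = n211142 := d9_2 (iv5 F378411) D218727 F460302 (iv5 D149794) F106861 F51754 (iv4 F104659) D146024 D212247 F464960 F439860 F240876 (iv4 F235617) F235618 F363396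
theorem F495341 : act 7 n218727 = n190345 := d11_2 (iv7 F378414) D218727 (iv4 D190345)
theorem F495342 : act 6 n195989 = n218727 := d21_5 (iv5 D49318) (iv1 F77967) D106707 (iv6 F398059) (iv1 F443757) F495340 (iv1 F460304) (iv5 F356682) F348080 (iv1 D106721)
def n218728 : Q := act 6 n189978
theorem D218728 : act 6 n189978 = n218728 := rfl
theorem F495343 : act 2 n218728 = n190344 := d3_1 D218728 (iv6 D190344) F378412
theorem F495344 : act 3 n218728 = n200742 := d7_1 D218728 F417733 F379174
theorem F495345 : act 4 n218728 = n195989 := d10_1 D218728 F495342 (iv4 D218727)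
theorem F495346 : act 5 n218728 = n191010 := d12_1 D218728 (iv6 D191010) (iv5 D97135) D97136 (iv5 F378411)
theorem F495347 : act 7 n218728 = n190404 := d14_2 (iv7 F378414) D218728 (iv6 D190404) (iv7 F378491) (iv6 F378492)
theorem F495348 : act 0 n218728 = n218078 := d21_4 D95950 (iv1 F363397) (iv5 F378411) D218728 (iv6 D218078) (iv5 D188458) (iv1 F373514) (iv5 F378473) (iv6 D189990) (iv1 F147149)
theorem F495349 : act 0 n194998 = n218728 := d21_4 D196172 F399700 (iv5 D194997) D194998 (iv6 D218728) F378411 F363395 (iv5 D95945) D95946 F340314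
def n218729 : Q := act 3 n189989
theorem D218729 : act 3 n189989 = n218729 := rfl
theorem F495350 : act 2 n218729 = n212981 := d0_1 D218729 F468441 F448375 F350238 F378471
theorem F495351 : act 4 n218729 = n201378 := d5_2 (iv4 F380311) D218729 F420247 (iv4 F420276) F420275
theorem F495352 : act 6 n218729 = n201377 := d7_2 F399732 D218729 F420244
theorem F495353 : act 7 n218729 = n190372 := d8_2 (iv7 F378470) D218729 (iv3 D190372)
theorem F495354 : act 0 n218729 = n201474 := d19_4 F378667 (iv5 F380309) (iv4 F380311) D218729 (iv5 F448211) F448210 F432849 (iv1 F470685) F470683 F443257 F319940 (iv1 F339423) (iv5 D135607) (iv4 F216048) F216047 (iv1 F211383) F354692 D193989 F391651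
theorem F495355 : act 0 n212980 = n218729 := d20_4 (iv4 F349635) (iv1 F329292) F377602 (iv3 F468438) (iv3 D218729) F380311 (iv1 D190617) (iv4 F379589) (iv3 F379590) F375070
def n218730 : Q := act 6 n189991
theorem D218730 : act 6 n189991 = n218730 := rfl
theorem F495356 : act 2 n218730 = n190377 := d3_1 D218730 (iv6 D190377) (iv2 F378477)
theorem F495357 : act 3 n218730 = n214970 := d7_1 D218730 (iv6 F494261) F494258
theorem F495358 : act 4 n218730 = n215006 := d10_1 D218730 F477854 F378481
theorem F495359 : act 5 n218730 = n214969 := d12_1 D218730 (iv6 F477695) F335376 F294109 D189991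
theorem F495360 : act 7 n218730 = n215005 := d14_2 (iv7 F378478) D218730 F477848 F259012 F336411
theorem F495361 : act 0 n218730 = n190476 := d21_4 F306977 (iv1 F147157) D189991 D218730 F451266 F451262 F408181 F379152 (iv6 F364266) (iv1 D144186)
theorem F495362 : act 0 n198967 = n218730 := d21_4 (iv5 D199866) (iv1 F173714) D111870 (iv6 F410098) (iv6 D218730) (iv5 D189991) (iv1 D95530) D95532 (iv6 F346838) (iv1 F413868)
def n218731 : Q := act 4 n189994
theorem D218731 : act 4 n189994 = n218731 := rfl
theorem F495363 : act 2 n218731 = n190405 := d1_1 D218731 (iv4 D190405) (iv2 F378493)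
theorem F495364 : act 6 n218731 = n190345 := d10_2 F378492 D218731 (iv4 D190345)
theorem F495365 : act 7 n218731 = n190403 := d11_2 (iv7 F378491) D218731 (iv4 D190403)
theorem F495366 : act 5 n218731 = n207119 := d16_1 D218731 (iv4 D207119) (iv5 D130307) F95659 D61158 D130326 (iv5 F363508) F364486 (iv2 F378493)
theorem F495367 : act 0 n218731 = n190023 := d17_0 F402708 (iv1 D197019) (iv5 F175887) (iv4 F356894) (iv5 D176875) (iv0 F346842) F160339 D189994 D218731
theorem F495368 : act 1 n218731 = n190525 := d18_6 (iv1 D176711) F129315 D120957 (iv4 F382099) F382100 D218731 F379993 F378604 F378607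
def n218732 : Q := act 5 n189999
theorem D218732 : act 5 n189999 = n218732 := rfl
theorem F495369 : act 2 n218732 = n190426 := d2_1 D218732 (iv5 D190426) (iv2 F402370)
theorem F495370 : act 3 n218732 = n214757 := d6_1 D218732 F476673 F418571
theorem F495371 : act 7 n218732 = n190430 := d13_2 (iv7 F402372) D218732 (iv5 D190430)
theorem F495372 : act 4 n218732 = n214637 := d16_4 F399973 D200972 F418567 D218732 F476159 (iv4 F341836) (iv5 F399989) (iv7 D196231) (iv2 F399971)
def n218733 : Q := act 4 n190000
theorem D218733 : act 4 n190000 = n218733 := rfl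
theorem F495373 : act 2 n218733 = n190429 := d1_1 D218733 (iv4 D190429) (iv2 F402373)
theorem F495374 : act 3 n218733 = n200295 := d5_1 D218733 F415874 F382486 D215665 F481019
theorem F495375 : act 6 n218733 = n216881 := d10_2 (iv6 F494755) D218733 (iv4 F494750)
theorem F495376 : act 7 n218733 = n190425 := d11_2 (iv7 F402374) D218733 (iv4 D190425)
theorem F495377 : act 5 n218733 = n206117 := d16_1 D218733 (iv4 F439322) F399989 F341836 (iv5 F476159) (iv4 F495372) (iv5 D218732) F402372 (iv2 F402373)
theorem F495378 : act 0 n218733 = n190009 := d18_2 (iv1 F378516) D218733 F378555 (iv5 F379020) F379019 (iv0 F433398) F488639 F488633 F379755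
theorem F495379 : act 0 n190452 = n218733 := d20_10 (iv4 D218733) (iv1 D190000) (iv4 F378513) F378512 F217957 (iv3 F363062) (iv4 F355829) (iv1 D131308) (iv4 F210445) (iv3 F379801)
def n218734 : Q := act 5 n190000
theorem D218734 : act 5 n190000 = n218734 := rfl
theorem F495380 : act 2 n218734 = n190430 := d2_1 D218734 (iv5 D190430) (iv2 F402373)
theorem F495381 : act 4 n218734 = n214638 := d9_1 D218734 F476166 (iv4 F365833) F399974 F399973 D200972 F418567 D218732 F495372 F476159 (iv4 F341836) (iv5 F399989) F439322 (iv5 F495377) (iv4 D218733)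
theorem F495382 : act 7 n218734 = n190426 := d13_2 (iv7 F402374) D218734 (iv5 D190426)
theorem F495383 : act 6 n218734 = n191032 := d21_3 F379755 (iv1 F378516) D218734 (iv1 F381939) (iv6 D190300) F147502 (iv1 F71607) D97135 D191010 (iv1 F433396)
theorem F495384 : act 1 n194768 = n218734 := d18_6 (iv1 F253425) (iv4 F417825) F417827 (iv4 F377864) D199738 (iv4 F413320) F495381 F476164 (iv5 D204724)
theorem F495385 : act 1 n218732 = n194768 := d15_0 F495384 F495382 (iv2 F495369)
def n218735 : Q := act 1 n190008
theorem D218735 : act 1 n190008 = n218735 := rfl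
theorem F495386 : act 7 n218735 = n190454 := d15_2 F402737 D218735 (iv2 F402734)
theorem F495387 : act 5 n218735 = n208215 := d17_7 (iv1 D102904) (iv5 D47724) D47721 (iv5 F293769) F376261 (iv5 F378552) D218735 F448407 F379791
theorem F495388 : act 3 n216954 = n218735 := d19_19 (iv1 D218735) F378552 (iv4 F376261) (iv3 F251949) (iv1 D93936) (iv5 D43907) D43906 F69029 F66331 D45326 (iv4 F147645) D190415 F379721 (iv5 D189489) D189488 (iv3 F494150) (iv1 F494469) (iv5 F494502) F494499
theorem F495389 : act 6 n207400 = n218735 := d21_3 F487032 F468258 (iv5 F444701) (iv1 D218735) (iv6 F494532) F494531 (iv1 F451598) (iv5 F451661) (iv6 F466662) F487035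
theorem F495390 : act 2 n218735 = n190453 := d3_1 F495389 F448371 F448373
theorem F495391 : act 4 n218735 = n212973 := d10_1 F495389 F468398 F444700
theorem F495392 : act 0 n190455 = n218735 := d21_4 F468371 F444760 F444756 F430451 (iv6 F495389) F444701 F468074 (iv5 F475852) (iv6 D214572) (iv1 F468374)
def n218736 : Q := act 2 n190008
theorem D218736 : act 2 n190008 = n218736 := rfl
theorem F495393 : act 3 n218736 = n190448 := d0_2 D190008 D218736 (iv2 D190448) (iv3 D96037) F147182
theorem F495394 : act 5 n218736 = n212931 := d2_2 (iv5 F378552) D218736 (iv2 F468187)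
theorem F495395 : act 6 n218736 = n208973 := d3_2 F494532 D218736 F494533
theorem F495396 : act 7 n218736 = n190455 := d4_2 (iv7 F378553) D218736 (iv2 D190455)
theorem F495397 : act 1 n218736 = n190453 := d15_0 (iv0 D190453) (iv7 F378553) D218736
theorem F495398 : act 4 n218736 = n197164 := d16_0 (iv5 F403354) (iv4 F452252) F452253 (iv4 D187165) D187166 F369306 F147693 (iv7 F378553) D218736
theorem F495399 : act 1 n190454 = n218736 := d17_8 (iv1 D197164) D197165 F403356 F374694 (iv4 F365424) F147765 D190447 (iv5 F379804) F495398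
def n218737 : Q := act 4 n190008
theorem D218737 : act 4 n190008 = n218737 := rfl
theorem F495400 : act 2 n218737 = n197164 := d1_1 D218737 (iv4 F495398) (iv2 D218736)
theorem F495401 : act 3 n218737 = n216848 := d5_1 D218737 (iv4 D216848) F288461 (iv4 F295305) D190008
theorem F495402 : act 6 n218737 = n209097 := d10_2 F494532 D218737 F494536
theorem F495403 : act 7 n218737 = n190456 := d11_2 (iv7 F378553) D218737 (iv4 D190456)
theorem F495404 : act 5 n218737 = n209096 := d16_1 D218737 F452238 F384130 (iv4 D102898) (iv5 F293771) F375297 (iv5 F379806) (iv7 F495396) (iv2 D218736)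
theorem F495405 : act 0 n218737 = n196154 := d17_0 F399641 D212013 F463931 F444748 F379990 F448403 F448400 F402737 D218737
theorem F495406 : act 1 n218737 = n197166 := d18_6 (iv1 D189663) (iv4 D94292) D94290 F376261 (iv5 F378552) D218737 F403359 F410113 F410112
def n218738 : Q := act 5 n190009
theorem D218738 : act 5 n190009 = n218738 := rfl
theorem F495407 : act 2 n218738 = n190451 := d2_1 D218738 (iv5 D190451) (iv2 F378554)
theorem F495408 : act 3 n218738 = n208965 := d6_1 D218738 (iv5 F494531) F494530
theorem F495409 : act 4 n218738 = n215181 := d9_1 D218738 F478759 (iv4 F430259) (iv5 F476237) F476240 F394347 F379955 (iv5 F398359) F398358 (iv5 D189801) F146887 (iv5 F198785) (iv4 F379019) F379020 (iv4 F378555)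
theorem F495410 : act 6 n218738 = n197019 := d12_2 D190009 D218738 (iv5 F402708) (iv6 D190023) F147227
theorem F495411 : act 7 n218738 = n208974 := d13_2 F399779 D218738 (iv5 F451651)
def n218739 : Q := act 4 n190010
theorem D218739 : act 4 n190010 = n218739 := rfl
theorem F495412 : act 3 n218739 = n209929 := d5_1 D218739 F455397 (iv3 F463346) (iv4 F486615) F486614
theorem F495413 : act 6 n218739 = n209927 := d10_2 (iv6 F416202) D218739 F455386
theorem F495414 : act 7 n218739 = n207182 := d11_2 (iv7 F398811) D218739 F443682
theorem F495415 : act 1 n218739 = n200262 := d18_6 (iv1 D195947) (iv4 F211431) D207545 F445383 F395350 D218739 (iv4 F447980) (iv0 F447982) F398820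
theorem F495416 : act 0 n218739 = n214324 := d20_1 D218739 F474578 (iv3 D207279) F378539 (iv3 D190004) (iv4 D95539) (iv1 D44626) D44627 D95543 D190010
def n218740 : Q := act 3 n190014
theorem D218740 : act 3 n190014 = n218740 := rfl
theorem F495417 : act 2 n218740 = n198967 := d0_1 D218740 F410097 F392219 (iv3 D190478) F379222
theorem F495418 : act 4 n218740 = n198956 := d5_2 F494758 D218740 F429888 (iv4 F452302) (iv3 F494757)
theorem F495419 : act 5 n218740 = n217503 := d6_2 F378560 D218740 F489199
theorem F495420 : act 6 n218740 = n199830 := d7_2 F481100 D218740 F481097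
theorem F495421 : act 7 n218740 = n190476 := d8_2 (iv7 F379221) D218740 (iv3 D190476)
theorem F495422 : act 0 n218740 = n190377 := d20_10 (iv4 F415808) F416177 F416176 (iv3 F481140) F481142 F410091 F379900 (iv1 F494762) F494758 D218740
theorem F495423 : act 0 n215005 = n218740 := d20_4 (iv4 F493912) F493913 F443798 (iv3 F477847) (iv3 D218740) (iv4 F494758) (iv1 F494761) F379716 (iv3 F382729) (iv1 F416135)
def n218741 : Q := act 0 n190015
theorem D218741 : act 0 n190015 = n218741 := rfl
theorem F495424 : act 5 n218741 = n206409 := d17_3 (iv1 D207585) (iv5 F378562) D218741 (iv4 F445603) F445604 F213560 F359025 D188453 (iv4 F445564)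
theorem F495425 : act 4 n218741 = n190473 := d18_1 D218741 (iv1 F379848) F379844 F378473 F373510 F373541 (iv4 F445556) (iv0 D207584) (iv5 F378562)
theorem F495426 : act 3 n218741 = n206410 := d20_5 F377279 (iv1 F376423) F382732 F382729 D218741 (iv4 F474198) F474201 (iv4 F494267) F494266 F447923
theorem F495427 : act 6 n218741 = n215693 := d21_5 (iv5 D44631) D44629 D95545 D190015 D218741 F481146 (iv1 D190105) (iv5 F373605) (iv6 D188472) (iv1 F295306)
theorem F495428 : act 2 n190491 = n218741 := d15_3 (iv0 D218741) (iv0 F384242) F384241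
theorem F495429 : act 1 n190493 = n218741 := d15_0 (iv0 D218741) (iv7 F494172) F494168
theorem F495430 : act 7 n218741 = n190492 := d15_2 F384243 F495429 F384254
def n218742 : Q := act 3 n190021
theorem D218742 : act 3 n190021 = n218742 := rfl
theorem F495431 : act 2 n218742 = n211772 := d0_1 D218742 (iv3 F463039) F391909 F340519 F378589
theorem F495432 : act 4 n218742 = n211828 := d5_2 (iv4 F379647) D218742 (iv3 D211828) D211829 F463222
theorem F495433 : act 5 n218742 = n196767 := d6_2 (iv5 F378588) D218742 (iv3 D196767)
theorem F495434 : act 7 n218742 = n190503 := d8_2 (iv7 F378587) D218742 (iv3 D190503)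
theorem F495435 : act 0 n218742 = n202794 := d19_4 (iv1 F318193) (iv5 F379646) (iv4 F379647) D218742 F425617 F226832 F422762 (iv1 D202031) D202033 (iv4 F426653) (iv3 F466245) F466248 F426705 F394308 F354087 (iv1 F181777) (iv5 F248517) F248516 F225399
theorem F495436 : act 0 n211468 = n218742 := d20_4 (iv4 F355191) (iv1 F419695) F419698 D211468 (iv3 D218742) F379647 (iv1 D190389) F147620 (iv3 F306966) (iv1 F355186)
theorem F495437 : act 0 n216938 = n214652 := d21_7 (iv5 F461669) F495436 F495433 F401730 F393881 D200322 (iv5 F486612) F476232 F455318 (iv1 F410803)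
theorem F495438 : act 6 n215968 = n218742 := d14_5 F495434 F379939 F200882 D179102 D215968
def n218743 : Q := act 6 n190021
theorem D218743 : act 6 n190021 = n218743 := rfl
theorem F495439 : act 2 n218743 = n190504 := d3_1 D218743 (iv6 D190504) F378589
theorem F495440 : act 3 n218743 = n215968 := d7_1 D218743 F495438 (iv3 D218742)
theorem F495441 : act 7 n218743 = n208075 := d14_2 (iv7 F378587) D218743 (iv6 D208075) (iv7 F355409) (iv6 F355410)
theorem F495442 : act 0 n218743 = n200358 := d21_10 (iv5 F439760) (iv1 F382629) (iv5 F494170) F494171 (iv1 F380307) (iv6 F420274) F420269 F206759 (iv5 F378588) D218743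
theorem F495443 : act 0 n200342 = n218743 := d21_4 F398291 F394574 (iv5 F399657) F416069 (iv6 D218743) F378588 D196766 F401721 F398288 D195812
def n218744 : Q := act 7 n190023
theorem D218744 : act 7 n190023 = n218744 := rfl
theorem F495444 : act 2 n218744 = n190525 := d4_1 D218744 (iv7 D190525) (iv2 F378596)
theorem F495445 : act 4 n218744 = n190026 := d11_1 D218744 (iv7 D190026) (iv4 F378597)
theorem F495446 : act 5 n218744 = n195830 := d13_1 D218744 (iv7 F402707) (iv5 F402708)
theorem F495447 : act 6 n218744 = n190502 := d14_1 D218744 (iv7 D190502) (iv6 D96081) (iv7 F147228) D190023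
theorem F495448 : act 1 n190405 = n218744 := d15_1 (iv0 F379687) (iv7 D218744) F378596
theorem F495449 : act 1 n218744 = n190403 := d15_1 F495448 (iv7 F495365) F495363
def n218745 : Q := act 3 n190024
theorem D218745 : act 3 n190024 = n218745 := rfl
theorem F495450 : act 2 n218745 = n218717 := d0_1 D218745 F495296 (iv2 F382764) (iv3 D190526) (iv2 F378609)
theorem F495451 : act 5 n218745 = n199853 := d6_2 (iv5 F378607) D218745 F413828
theorem F495452 : act 7 n218745 = n190529 := d8_2 (iv7 F378606) D218745 (iv3 D190529)
theorem F495453 : act 0 n218745 = n211773 := d20_4 (iv4 F147637) (iv1 F379683) F378608 D218745 F463041 F365096 D211807 F463147 F364485 (iv1 D96010)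
theorem F495454 : act 4 n218745 = n190759 := d20_6 (iv4 F416099) (iv1 F416101) F376508 F376506 D190024 D218745 F462794 F399904 (iv3 F415861) (iv1 F415864)
theorem F495455 : act 0 n199861 = n218745 := d20_4 F344963 (iv1 F402361) (iv4 F402359) D199861 (iv3 D218745) (iv4 F378608) F374938 (iv4 F378497) (iv3 F414462) F414465
theorem F495456 : act 6 n190758 = n218745 := d10_0 F495454 (iv6 D190759) D190758
def n218746 : Q := act 6 n190024
theorem D218746 : act 6 n190024 = n218746 := rfl
theorem F495457 : act 2 n218746 = n190528 := d3_1 D218746 (iv6 D190528) (iv2 F378609)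
theorem F495458 : act 3 n218746 = n190758 := d7_1 D218746 F495456 (iv3 D218745)
theorem F495459 : act 4 n218746 = n209133 := d10_1 D218746 F452411 F378608
theorem F495460 : act 7 n218746 = n218719 := d14_2 (iv7 F378606) D218746 F495305 F378986 (iv6 F363846)
theorem F495461 : act 0 n218746 = n215658 := d21_4 F474513 F276075 (iv5 F378607) D218746 (iv6 F480993) (iv5 F477230) F477229 (iv5 F398291) (iv6 F398292) (iv1 F474515)
def n218747 : Q := act 0 n190027
theorem D218747 : act 0 n190027 = n218747 := rfl
theorem F495462 : act 5 n218747 = n218434 := d17_1 D218747 (iv1 F493874) (iv5 F382747) (iv4 D191248) F356257 (iv0 D88408) D88411 (iv0 F294698) D190027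
theorem F495463 : act 4 n218747 = n217962 := d18_3 F370074 D190027 D218747 (iv5 D217962) F372676 (iv0 D99778) F294695 F138236 D187377
theorem F495464 : act 3 n218747 = n218416 := d20_5 F377166 F379788 (iv4 F494614) (iv3 F494615) D218747 F493780 (iv1 D189319) (iv4 F376399) F493781 (iv1 D217027)
theorem F495465 : act 2 n218587 = n218747 := d15_3 (iv0 D218747) (iv0 F380949) D218587
theorem F495466 : act 1 n216127 = n218747 := d15_0 (iv0 D218747) (iv7 F382727) (iv2 F483091)
theorem F495467 : act 7 n218747 = n218433 := d15_2 (iv0 F483094) F495466 F493864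
def n218748 : Q := act 5 n190027
theorem D218748 : act 5 n190027 = n218748 := rfl
theorem F495468 : act 2 n218748 = n218534 := d2_1 D218748 (iv5 F494338) F381536
theorem F495469 : act 6 n218748 = n218416 := d12_2 F495100 D218748 F493779 F490989 (iv5 F495102)
theorem F495470 : act 7 n218748 = n218523 := d13_2 F382727 D218748 F494283
theorem F495471 : act 4 n218748 = n218462 := d16_2 D190027 D218748 F494009 F376539 F339513 F295446 D181923 (iv7 F295362) F149693
theorem F495472 : act 1 n218748 = n218562 := d17_6 (iv1 F294712) (iv5 D97470) F136693 D95559 D190027 D218748 F494486 F494458 (iv4 D216129)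
def n218749 : Q := act 4 n190029
theorem D218749 : act 4 n190029 = n218749 := rfl
theorem F495473 : act 2 n218749 = n218714 := d1_1 D218749 F495285 F381233
theorem F495474 : act 3 n218749 = n194163 := d5_1 D218749 (iv4 D194163) (iv3 F292450) (iv4 F331366) (iv3 F378615)
theorem F495475 : act 6 n218749 = n215967 := d10_2 F465988 D218749 F482328
theorem F495476 : act 7 n218749 = n218713 := d11_2 F486384 D218749 F495277
theorem F495477 : act 0 n218749 = n190758 := d18_2 F416023 D218749 (iv4 D190758) (iv5 F343077) D187384 (iv0 F370174) F370171 F370097 (iv5 F416021)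
theorem F495478 : act 1 n218749 = n190761 := d18_6 (iv1 F70972) D96542 (iv1 F205508) F149542 D190029 D218749 (iv4 D190761) F148708 F147138
def n218750 : Q := act 0 n190030
theorem D218750 : act 0 n190030 = n218750 := rfl
theorem F495479 : act 5 n218750 = n215017 := d17_3 D95570 D190030 D218750 F477911 F369495 (iv0 F369337) F369338 (iv0 D121357) F88601
theorem F495480 : act 4 n218750 = n217403 := d20_8 (iv4 D217388) (iv1 D187260) (iv4 F369649) (iv3 F488668) (iv1 F488706) (iv3 F488709) F462961 D218750 F488749 (iv1 F488686)
theorem F495481 : act 6 n218750 = n207236 := d21_5 F369599 F369671 D205286 F435777 D218750 F443917 (iv1 F214428) D208084 F488593 (iv1 D217365)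
theorem F495482 : act 2 n217477 = n218750 := d15_3 (iv0 D218750) (iv0 F439582) (iv7 F489060)
theorem F495483 : act 1 n190033 = n218750 := d15_0 (iv0 D218750) (iv7 F419375) F419373
theorem F495484 : act 7 n218750 = n211792 := d15_2 F439583 F495483 F463081
theorem F495485 : act 3 n217173 = n218750 := d8_3 F495484 F463082 D217173
def n218751 : Q := act 1 n190031
theorem D218751 : act 1 n190031 = n218751 := rfl
theorem F495486 : act 1 n218751 = n212199 := d15_1 D218751 F464720 F462045
theorem F495487 : act 7 n218751 = n195653 := d15_2 (iv0 F477990) D218751 (iv2 F477986)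
theorem F495488 : act 5 n218751 = n198694 := d17_7 (iv1 D125704) (iv5 F202075) F366358 (iv5 F366352) D205207 F435449 D218751 F408907 F380250
theorem F495489 : act 4 n218751 = n208131 := d17_9 F448019 (iv5 D195950) (iv1 D106471) (iv5 F120346) (iv4 F147991) D190585 (iv0 F435451) F435449 D218751
theorem F495490 : act 3 n190063 = n218751 := d19_19 (iv1 D218751) (iv5 F435449) (iv4 D205207) (iv3 F417055) (iv1 F417059) (iv5 F435426) (iv4 F435469) (iv3 F435953) F435954 F366009 F267344 F363445 (iv1 D105329) D105331 (iv4 F229943) F341079 F312810 D138534 (iv4 F378749)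
theorem F495491 : act 6 n203792 = n218751 := d21_3 D164453 D215030 F477976 (iv1 D218751) (iv6 D190031) D190030 D218750 F495479 F477913 (iv1 D164452)
def n218752 : Q := act 7 n190031
theorem D218752 : act 7 n190031 = n218752 := rfl
theorem F495492 : act 2 n218752 = n212199 := d4_1 D218752 F464720 F462045
theorem F495493 : act 3 n218752 = n206130 := d8_1 D218752 F439378 (iv3 F378616)
theorem F495494 : act 4 n218752 = n195664 := d11_1 D218752 F397785 (iv4 F378617)
theorem F495495 : act 5 n218752 = n190594 := d13_1 D218752 (iv7 F435448) F435449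
theorem F495496 : act 6 n218752 = n206145 := d14_1 D218752 (iv7 F439455) (iv6 D201190) F177602 D190031
theorem F495497 : act 0 n195653 = n218752 := d21_4 F439031 (iv1 F439030) (iv5 D195652) D195653 F495496 F448003 F448004 (iv5 F415713) D214473 F475341
def n218753 : Q := act 5 n190032
theorem D218753 : act 5 n190032 = n218753 := rfl
theorem F495498 : act 2 n218753 = n212770 := d2_1 D218753 (iv5 D212770) (iv2 F378618)
theorem F495499 : act 3 n218753 = n190033 := d6_1 D218753 (iv5 D190033) D190032
theorem F495500 : act 7 n218753 = n212769 := d13_2 (iv7 F378620) D218753 (iv5 D212769)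
theorem F495501 : act 4 n218753 = n215157 := d16_2 (iv4 F378619) D218753 (iv5 D215157) (iv4 D167349) (iv5 D80313) D80312 D167345 (iv7 F301929) (iv2 F267996)
theorem F495502 : act 0 n218753 = n212760 := d17_2 (iv1 F378622) D218753 (iv5 D212760) F234550 (iv5 F210713) (iv0 F278617) F317621 (iv0 F317619) (iv4 F234652)
def n218754 : Q := act 4 n190033
theorem D218754 : act 4 n190033 = n218754 := rfl
theorem F495503 : act 5 n218754 = n191040 := d9_2 D190033 D218754 F381951 F381235 F367170 F288167 (iv4 F147237) D190030 (iv4 F462961) F462962 F381955 (iv5 D189835) (iv4 F288034) F288036 (iv4 F147238)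
theorem F495504 : act 1 n218754 = n217463 := d18_6 (iv1 F373901) F147493 (iv1 F142187) (iv4 F147238) D190033 D218754 F488986 (iv0 F492258) (iv5 D218127)
def n218755 : Q := act 6 n190033
theorem D218755 : act 6 n190033 = n218755 := rfl
theorem F495505 : act 0 n211787 = n218755 := d21_4 F161631 (iv1 F160406) D194898 (iv6 F463075) (iv6 D218755) (iv5 D190033) (iv1 D95571) D95572 F147240 D95581
def n218756 : Q := act 5 n190034
theorem D218756 : act 5 n190034 = n218756 := rfl
theorem F495506 : act 2 n218756 = n207181 := d2_1 D218756 F443680 F419376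
theorem F495507 : act 4 n218756 = n211871 := d9_1 D218756 F463343 F395323 (iv5 F417215) F417214 (iv5 F419381) (iv4 F439454) F448003 (iv4 F462810) F462811 (iv4 F435924) F435923 F419243 (iv5 F398213) (iv4 F378623)
theorem F495508 : act 7 n218756 = n209926 := d16_8 (iv4 F462810) F462811 (iv4 F435924) F435923 F419243 (iv5 F398213) (iv4 F378623) D218756 F455383
theorem F495509 : act 0 n218756 = n214474 := d17_2 (iv1 F419245) D218756 (iv5 D214474) F336918 (iv5 F120359) (iv0 F333503) D115123 (iv0 F418305) F418304
theorem F495510 : act 1 n218756 = n200252 := d17_6 D76319 (iv5 F342932) (iv1 F398209) (iv5 F398213) (iv4 F378623) D218756 (iv5 F415713) (iv0 D159520) F114419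
def n218757 : Q := act 7 n190034
theorem D218757 : act 7 n190034 = n218757 := rfl
theorem F495511 : act 2 n218757 = n206145 := d4_1 D218757 (iv7 F439455) F419376
theorem F495512 : act 3 n218757 = n212200 := d8_1 D218757 F464723 F462123
theorem F495513 : act 4 n218757 = n200973 := d11_1 D218757 F418577 (iv4 F378623)
theorem F495514 : act 5 n218757 = n209926 := d13_1 D218757 (iv7 F495508) (iv5 D218756)
theorem F495515 : act 6 n218757 = n212199 := d14_1 D218757 F464720 F462048 F251959 D190034
theorem F495516 : act 1 n206147 = n218757 := d15_1 F439467 (iv7 D218757) (iv2 F419376)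
theorem F495517 : act 1 n218757 = n206143 := d15_1 F495516 F439447 (iv2 F439462)
def n218758 : Q := act 4 n190035
theorem D218758 : act 4 n190035 = n218758 := rfl
theorem F495518 : act 3 n218758 = n191041 := d5_1 D218758 F381955 F377928 (iv4 F379271) (iv3 F379274)
theorem F495519 : act 5 n218758 = n217393 := d16_1 D218758 F488708 (iv5 D188542) (iv4 D92436) D92437 D188543 (iv5 F378625) F475768 (iv2 F475766)
theorem F495520 : act 0 n218758 = n191043 := d17_0 (iv5 D191043) D191040 (iv5 F495503) (iv4 D218754) (iv5 D190033) F251964 (iv5 F475777) F475780 D218758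
theorem F495521 : act 1 n218758 = n218130 := d18_6 F382231 F382230 F288137 D188538 (iv5 F378624) D218758 (iv4 D218130) D218129 F492267
theorem F495522 : act 6 n208091 = n218758 := d12_0 F495519 F488710 F462894 F226770 D208091
def n218759 : Q := act 6 n190035
theorem D218759 : act 6 n190035 = n218759 := rfl
theorem F495523 : act 3 n218759 = n197482 := d7_1 D218759 F404514 (iv3 F379274)
theorem F495524 : act 4 n218759 = n208091 := d10_1 D218759 F495522 (iv4 D218758)
theorem F495525 : act 5 n218759 = n197481 := d12_1 D218759 F404512 D210093 F456125 (iv5 F378624)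
theorem F495526 : act 0 n218755 = n211785 := d21_4 F475777 (iv1 F251964) D190033 D218755 F463068 (iv5 F462890) F415646 (iv5 F495525) (iv6 D218759) (iv1 F475780)
def n218760 : Q := act 3 n190036
theorem D218760 : act 3 n190036 = n218760 := rfl
theorem F495527 : act 2 n218760 = n212772 := d0_1 D218760 (iv3 F467448) (iv2 F379267) F475772 (iv2 F475773)
theorem F495528 : act 5 n218760 = n206186 := d6_2 (iv5 F378625) D218760 F439633
theorem F495529 : act 7 n218760 = n212771 := d8_2 (iv7 F475768) D218760 F475767
theorem F495530 : act 4 n218760 = n207131 := d20_6 F476587 (iv1 F478485) (iv4 F478520) (iv3 F478523) (iv1 F475779) D218760 F478613 (iv4 D212777) (iv3 F467451) F476589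
theorem F495531 : act 0 n212774 = n218760 := d18_0 F495530 F478613 (iv4 D212777) (iv5 D149277) (iv4 F230854) F334998 (iv4 F378619) F378622 (iv5 F467450)
theorem F495532 : act 1 n207417 = n218760 := d15_0 (iv0 F495531) (iv7 D212774) (iv2 F444794)
def n218761 : Q := act 4 n190036
theorem D218761 : act 4 n190036 = n218761 := rfl
theorem F495533 : act 3 n218761 = n207134 := d5_1 D218761 (iv4 D207134) (iv3 F443461) (iv4 F495530) (iv3 D218760)
theorem F495534 : act 5 n218761 = n217392 := d9_2 (iv5 F378625) D218761 F488701 (iv5 D188536) (iv4 D92431) D92432 D188538 (iv5 F378624) D218758 F495519 F488708 (iv5 D188542) (iv4 D92436) D92437 D188543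
theorem F495535 : act 6 n218761 = n208184 := d10_2 F476462 D218761 (iv4 F476463)
theorem F495536 : act 0 n218761 = n218130 := d17_0 F492270 (iv1 F488516) (iv5 F462962) F462961 (iv5 D190030) (iv0 D95570) D95572 D190036 D218761
theorem F495537 : act 1 n218761 = n191043 := d18_6 (iv1 F382255) F382253 (iv1 F373859) D188543 (iv5 F378625) D218761 F381964 F492264 F492260
def n218762 : Q := act 3 n190037
theorem D218762 : act 3 n190037 = n218762 := rfl
theorem F495538 : act 2 n218762 = n217364 := d0_1 D218762 F488586 (iv2 F369842) (iv3 F475762) F475761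
theorem F495539 : act 4 n218762 = n190079 := d5_2 D190037 D218762 (iv3 D190079) (iv4 D95609) (iv3 F147239)
theorem F495540 : act 6 n218762 = n190047 := d7_2 (iv6 F378626) D218762 (iv3 D190047)
theorem F495541 : act 7 n218762 = n217360 := d8_2 (iv7 F381287) D218762 F488580
theorem F495542 : act 0 n217362 = n218762 := d20_4 (iv4 D97167) D97165 (iv4 F381281) (iv3 F488585) (iv3 D218762) (iv4 D190037) D190035 D218758 F495518 (iv1 D191041)
theorem F495543 : act 1 n217363 = n218762 := d15_1 D217363 F495541 F488579
def n218763 : Q := act 0 n190041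
theorem D218763 : act 0 n190041 = n218763 := rfl
theorem F495544 : act 5 n218763 = n194820 := d17_3 F369766 D190041 D218763 (iv4 D194820) (iv5 F369772) (iv0 D187305) (iv5 D89889) D89888 D187303
theorem F495545 : act 4 n218763 = n217426 := d18_1 D218763 (iv1 F488835) (iv4 D190904) (iv5 D97017) F71480 F289534 (iv4 F147122) (iv0 F367275) D190041
theorem F495546 : act 3 n218763 = n190173 := d20_5 D194350 F392896 F259073 (iv3 F378632) D218763 (iv4 F463782) (iv1 D211970) F356588 (iv3 F251814) F251816
theorem F495547 : act 1 n218124 = n218763 := d15_0 (iv0 D218763) (iv7 F475743) (iv2 F492240)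
def n218764 : Q := act 1 n190041
theorem D218764 : act 1 n190041 = n218764 := rfl
theorem F495548 : act 1 n218764 = n218124 := d15_1 D218764 F492243 F381261
theorem F495549 : act 3 n190086 = n218764 := d20_3 (iv4 F464250) (iv1 D212078) (iv4 F400067) (iv1 D218764) F378632 (iv4 F259073) (iv1 F477887) F477890 (iv3 F475725) F394357
theorem F495550 : act 5 n194442 = n218764 := d21_0 (iv1 D218764) (iv5 D190041) D190042 (iv1 F488861) F488857 F480842 (iv1 F280588) D180282 D216068 (iv1 F482764)
theorem F495551 : act 4 n218764 = n212088 := d18_5 (iv1 F160293) F147005 (iv1 F343083) (iv4 F393234) F495550 F488840 (iv4 D190904) F369773 F369772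
def n218765 : Q := act 4 n190041
theorem D218765 : act 4 n190041 = n218765 := rfl
theorem F495552 : act 0 n218765 = n217350 := d17_0 F488822 (iv1 F488825) F495234 F495231 (iv5 F482760) (iv0 F482763) (iv5 F495544) (iv0 D218763) D218765
theorem F495553 : act 1 n218765 = n217348 := d18_6 D89822 D187221 F369549 F149573 D190041 D218765 (iv4 D217348) (iv0 D187223) (iv5 D89824)
def n218766 : Q := act 1 n190044
theorem D218766 : act 1 n190044 = n218766 := rfl
theorem F495554 : act 1 n218766 = n208084 := d15_1 D218766 F447815 F443904
theorem F495555 : act 4 n218766 = n214700 := d17_9 (iv1 F477975) F477972 (iv1 F262334) (iv5 F369686) (iv4 F443916) F443917 F214434 (iv5 F378634) D218766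
theorem F495556 : act 3 n190105 = n218766 := d19_19 (iv1 D218766) F378634 F340442 (iv3 F291543) D187162 F369268 F209257 (iv3 F97506) D133266 F334650 (iv4 F280704) (iv3 F334648) (iv1 F282830) D214765 (iv4 F476723) (iv3 F399901) (iv1 F476726) F376156 (iv4 F378863)
def n218767 : Q := act 4 n190045
theorem D218767 : act 4 n190045 = n218767 := rfl
theorem F495557 : act 2 n218767 = n218703 := d1_1 D218767 F495231 F381273
theorem F495558 : act 7 n218767 = n218702 := d11_2 F475753 D218767 F495228
theorem F495559 : act 0 n218767 = n190740 := d18_2 F488813 D218767 (iv4 D190740) (iv5 D96528) (iv4 F148683) (iv0 F353221) F149573 (iv0 F369766) D217419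
theorem F495560 : act 1 n218767 = n217345 := d18_6 D104615 D194820 F482763 F482759 (iv5 F394503) D218767 (iv4 D217345) (iv0 F369553) F147459
theorem F495561 : act 6 n218767 = n209058 := d21_5 (iv5 D207138) D207136 (iv5 F447423) (iv6 F495236) (iv1 F495560) (iv5 D209058) (iv1 D135653) D135654 F218149 (iv1 F443481)
def n218768 : Q := act 6 n190045
theorem D218768 : act 6 n190045 = n218768 := rfl
theorem F495562 : act 2 n218768 = n215904 := d3_1 D218768 (iv6 F482012) F381273
theorem F495563 : act 3 n218768 = n190046 := d7_1 D218768 (iv6 D190046) D190045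
theorem F495564 : act 4 n218768 = n209058 := d10_1 D218768 (iv6 F495561) (iv4 D218767)
theorem F495565 : act 5 n218768 = n204895 := d12_1 D218768 F434055 F348565 D194795 (iv5 F394503)
theorem F495566 : act 7 n215903 = n218768 := d13_0 F495565 F434056 D215903
theorem F495567 : act 0 n198455 = n218768 := d17_2 F352214 D198455 F495565 (iv4 D204895) F340174 F340169 (iv5 F321410) (iv0 F340154) (iv4 F258691)
theorem F495568 : act 1 n215910 = n218768 := d17_6 (iv1 D194849) (iv5 F352036) F258993 F334714 D178336 D215910 F495565 F434057 F408796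
def n218769 : Q := act 5 n190055
theorem D218769 : act 5 n190055 = n218769 := rfl
theorem F495569 : act 2 n218769 = n192841 := d2_1 D218769 (iv5 D192841) (iv2 F378669)
theorem F495570 : act 3 n218769 = n190056 := d6_1 D218769 (iv5 D190056) D190055
theorem F495571 : act 4 n218769 = n202663 := d9_1 D218769 (iv5 F491472) F491476 F484659 (iv4 F486796) (iv5 D216970) (iv4 F378921) (iv5 F448491) F448490 (iv5 F372456) D189136 D218357 F493483 (iv5 D216969) F378672
theorem F495572 : act 6 n218769 = n199700 := d12_2 F407230 D218769 (iv5 D199700) F378713 D198206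
theorem F495573 : act 7 n218769 = n192839 := d13_2 (iv7 F378670) D218769 (iv5 D192839)
theorem F495574 : act 0 n218769 = n213269 := d18_0 F469646 (iv1 F424939) F391812 F353238 F391566 F391563 F369005 (iv0 F378671) D218769
theorem F495575 : act 0 n215368 = n218769 := d21_10 (iv5 D218769) F378671 D190121 F378927 F329984 (iv6 F154928) F356143 (iv1 F128176) (iv5 F272502) D215368
def n218770 : Q := act 6 n190058
theorem D218770 : act 6 n190058 = n218770 := rfl
theorem F495576 : act 2 n218770 = n216526 := d3_1 D218770 (iv6 D216526) F378728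
theorem F495577 : act 3 n218770 = n202782 := d7_1 D218770 (iv6 F447728) (iv3 F389446)
theorem F495578 : act 4 n218770 = n194551 := d10_1 D218770 (iv6 D194551) F378730
theorem F495579 : act 5 n218770 = n190182 := d12_1 D218770 (iv6 F381311) F381309 (iv6 F380361) (iv5 F378726)
theorem F495580 : act 0 n218770 = n196950 := d21_4 F348024 D189857 (iv5 F378726) D218770 (iv6 D196950) D196949 (iv1 F411201) (iv5 D199218) (iv6 F346809) F348025
def n218771 : Q := act 3 n190059
theorem D218771 : act 3 n190059 = n218771 := rfl
theorem F495581 : act 2 n218771 = n192844 := d0_1 D218771 (iv3 F389438) (iv2 F397748) (iv3 F397747) F378734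
theorem F495582 : act 4 n218771 = n192883 := d5_2 F378735 D218771 F455629 F455628 (iv3 D194552)
theorem F495583 : act 5 n218771 = n199962 := d6_2 (iv5 F378733) D218771 (iv3 F414361)
theorem F495584 : act 7 n218771 = n192843 := d8_2 (iv7 F378732) D218771 F393295
theorem F495585 : act 0 n218771 = n190121 := d20_4 (iv4 F393304) (iv1 F393305) F378735 D218771 F378926 (iv4 D119158) (iv1 F187038) F346762 (iv3 D103756) (iv1 F158959)
theorem F495586 : act 0 n192845 = n218771 := d20_4 D103192 D194306 F392760 (iv3 F387993) (iv3 D218771) (iv4 F378735) (iv1 D103765) (iv4 D48044) F36290 D47825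
theorem F495587 : act 6 n207172 = n218771 := d21_5 (iv5 F326131) F326127 D162754 (iv6 F348122) D207172 F495583 (iv1 D199962) D199963 F414364 F326153
def n218772 : Q := act 6 n190059
theorem D218772 : act 6 n190059 = n218772 := rfl
theorem F495588 : act 2 n218772 = n207158 := d3_1 D218772 F443560 F378734
theorem F495589 : act 3 n218772 = n207172 := d7_1 D218772 F495587 (iv3 D218771)
theorem F495590 : act 4 n218772 = n194554 := d10_1 D218772 (iv6 D194554) F378735
theorem F495591 : act 5 n218772 = n215187 := d12_1 D218772 (iv6 D215187) (iv5 D170410) D170411 (iv5 F378733)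
theorem F495592 : act 0 n218772 = n200265 := d21_4 F391367 (iv1 F366429) (iv5 F378733) D218772 F415746 (iv5 D200000) (iv1 F174516) (iv5 F393867) F393868 (iv1 F391369)
theorem F495593 : act 0 n205099 = n218772 := d21_4 F464551 (iv1 F430063) D214824 F477008 (iv6 D218772) F378733 F346814 (iv5 F348024) D193620 F464553
def n218773 : Q := act 5 n190061
theorem D218773 : act 5 n190061 = n218773 := rfl
theorem F495594 : act 2 n218773 = n198552 := d2_1 D218773 (iv5 D198552) F378741
theorem F495595 : act 3 n218773 = n212774 := d6_1 D218773 F467450 (iv3 F378740)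
theorem F495596 : act 7 n218773 = n198554 := d13_2 (iv7 F378743) D218773 (iv5 D198554)
theorem F495597 : act 0 n190072 = n218773 := d19_0 (iv5 D218773) (iv4 F471117) F471118 F438239 (iv5 D130223) (iv4 F208740) (iv3 F380778) (iv1 D190719) F293590 (iv4 F368935) (iv3 F368939) F368828 F368824 (iv4 F385772) F385771 (iv1 F440232) F440234 (iv4 D190073) D190072
def n218774 : Q := act 0 n190062
theorem D218774 : act 0 n190062 = n218774 := rfl
theorem F495598 : act 6 n218774 = n204748 := d21_5 (iv5 D111994) F81553 D109525 (iv6 F378746) D218774 (iv5 F474891) F474892 (iv5 F409380) (iv6 F409383) F409386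
theorem F495599 : act 1 n198558 = n218774 := d15_0 (iv0 D218774) (iv7 F381583) (iv2 F408343)
theorem F495600 : act 5 n218774 = n218678 := d17_7 F354320 (iv5 F347852) (iv1 D132595) D132596 (iv4 F348890) (iv5 F408344) F495599 (iv0 D218678) F377995
theorem F495601 : act 2 n198555 = n218774 := d2_3 F495600 (iv2 F495110) (iv5 F427674)
theorem F495602 : act 7 n198556 = n218774 := d13_0 F495600 F495111 (iv5 F439657)
theorem F495603 : act 4 n218774 = n214949 := d1_2 F482989 F495601 (iv2 F482987)
def n218775 : Q := act 1 n190062
theorem D218775 : act 1 n190062 = n218775 := rfl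
theorem F495604 : act 1 n218775 = n198558 := d15_1 D218775 (iv7 D198558) (iv2 F378744)
theorem F495605 : act 7 n218775 = n198555 := d15_2 (iv0 D218774) D218775 F495601
theorem F495606 : act 5 n218775 = n199968 := d17_7 F447025 (iv5 D207926) (iv1 F212840) F326082 (iv4 F348887) D190062 D218775 (iv0 F488181) F488180
theorem F495607 : act 6 n211978 = n218775 := d21_3 (iv5 D214218) F341154 D211978 (iv1 D218775) F378746 (iv5 D109525) (iv1 F326040) D174694 F463819 (iv1 F474039)
theorem F495608 : act 2 n198556 = n218775 := d2_3 F495606 (iv2 F439655) (iv5 F439657)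
def n218776 : Q := act 4 n190062
theorem D218776 : act 4 n190062 = n218776 := rfl
theorem F495609 : act 2 n218776 = n198557 := d1_1 D218776 (iv4 D198557) (iv2 F378744)
theorem F495610 : act 6 n218776 = n198532 := d10_2 (iv6 F378746) D218776 (iv4 D198532)
theorem F495611 : act 0 n218776 = n204746 := d21_4 (iv5 F454618) (iv1 F454621) (iv5 F453806) (iv6 F495610) (iv6 D204746) F250820 (iv1 D78770) D78772 D163967 (iv1 F409388)
def n218777 : Q := act 2 n190072
theorem D218777 : act 2 n190072 = n218777 := rfl
theorem F495612 : act 3 n218777 = n190124 := d0_2 D190072 D218777 (iv2 F381604) (iv3 D190934) (iv2 F361127)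
theorem F495613 : act 5 n218777 = n217264 := d2_2 F495116 D218777 (iv2 F495113)
theorem F495614 : act 1 n218777 = n198554 := d15_0 (iv0 F408339) F381609 D218777
theorem F495615 : act 1 n198552 = n218777 := d15_0 F495614 (iv7 F495596) F495594
theorem F495616 : act 4 n211423 = n218777 := d18_7 (iv1 D109569) (iv4 F169520) (iv1 F348892) (iv4 F348928) (iv5 F381800) (iv4 F477558) (iv0 F477562) F495614 (iv5 D198554)
def n218778 : Q := act 4 n190072
theorem D218778 : act 4 n190072 = n218778 := rfl
theorem F495617 : act 2 n218778 = n211423 := d1_1 D218778 F495616 (iv2 D218777)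
theorem F495618 : act 0 n190982 = n218778 := d20_1 D190982 (iv4 D218778) (iv3 D190072) (iv1 F149732) (iv3 F381555) (iv4 F474455) (iv1 D214300) (iv4 F254036) F474456 (iv1 D190981)
def n218779 : Q := act 6 n190072
theorem D218779 : act 6 n190072 = n218779 := rfl
theorem F495619 : act 3 n218779 = n190074 := d7_1 D218779 (iv6 D190074) D190072
theorem F495620 : act 5 n218779 = n194648 := d12_1 D218779 F393946 (iv5 F473721) (iv6 F495117) F495116
theorem F495621 : act 0 n218779 = n198458 := d21_4 F427674 (iv1 F495119) F495116 D218779 F408081 (iv5 D109321) F79988 D50551 (iv6 F169521) D198555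
def n218780 : Q := act 3 n190073
theorem D218780 : act 3 n190073 = n218780 := rfl
theorem F495622 : act 2 n218780 = n215497 := d0_1 D218780 (iv3 F480228) F474035 F463823 (iv2 F379185)
theorem F495623 : act 6 n218780 = n215147 := d7_2 F393941 D218780 (iv3 F478566)
theorem F495624 : act 7 n218780 = n215498 := d8_2 F379189 D218780 F480230
theorem F495625 : act 0 n215337 = n218780 := d21_4 F128580 (iv1 F127830) D173326 D215337 F495623 (iv5 D215147) (iv1 D166714) (iv5 F256910) (iv6 D162672) (iv1 F301423)
def n218781 : Q := act 4 n190075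
theorem D218781 : act 4 n190075 = n218781 := rfl
theorem F495626 : act 2 n218781 = n214093 := d1_1 D218781 (iv4 F495178) F495176
theorem F495627 : act 3 n218781 = n211981 := d5_1 D218781 (iv4 D211981) F378781 (iv4 D190076) D190075
theorem F495628 : act 5 n218781 = n214092 := d16_1 D218781 F473441 (iv5 D192720) F154631 (iv5 F137236) (iv4 F369044) (iv5 F378937) (iv7 F495177) F495176
theorem F495629 : act 0 n218781 = n196352 := d17_0 (iv5 D196352) F400434 D141984 (iv4 F348936) F348934 (iv0 D95649) D95651 (iv0 F379280) D218781
theorem F495630 : act 1 n218781 = n211432 := d18_8 (iv1 F400451) F400450 (iv1 D107357) (iv4 F165412) (iv5 F388940) (iv4 D190126) (iv0 F379280) D218781 (iv5 D211432)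
def n218782 : Q := act 3 n190077
theorem D218782 : act 3 n190077 = n218782 := rfl
theorem F495631 : act 5 n218782 = n206279 := d6_2 (iv5 F378782) D218782 (iv3 D206279)
theorem F495632 : act 6 n218782 = n217451 := d7_2 F378786 D218782 (iv3 D217451)
theorem F495633 : act 7 n218782 = n206166 := d8_2 F378785 D218782 (iv3 D206166)
def n218783 : Q := act 3 n190078
theorem D218783 : act 3 n190078 = n218783 := rfl
theorem F495634 : act 5 n218783 = n196939 := d6_2 F378794 D218783 F402376
theorem F495635 : act 6 n218783 = n218732 := d7_2 F476671 D218783 F495370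
theorem F495636 : act 7 n218783 = n206325 := d8_2 (iv7 F378791) D218783 F440251
theorem F495637 : act 0 n211849 = n218783 := d20_4 D208092 (iv1 F463085) F463088 D211849 (iv3 D218783) F378792 (iv1 D95771) D95772 (iv3 F425577) (iv1 F226820)
theorem F495638 : act 2 n218783 = n211711 := d15_3 (iv0 F491866) (iv0 F491867) (iv7 F495636)
def n218784 : Q := act 1 n190079
theorem D218784 : act 1 n190079 = n218784 := rfl
theorem F495639 : act 6 n218724 = n218784 := d21_9 (iv5 F453188) (iv1 F453187) (iv5 F488571) (iv6 D217358) (iv1 F369865) D217458 F488965 (iv1 F489132) (iv5 F495325) (iv1 D218784)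
theorem F495640 : act 5 n218784 = n202813 := d12_1 F495639 (iv6 D202813) D202812 F489136 (iv5 F495325)
theorem F495641 : act 0 n217361 = n218784 := d21_4 (iv5 D202838) F408450 F408449 D217361 (iv6 F495639) F495325 (iv1 D217490) (iv5 F488972) F488973 F457556
theorem F495642 : act 2 n202815 = n218784 := d15_3 (iv0 F495641) (iv0 F488584) F473990
theorem F495643 : act 3 n218784 = n211827 := d0_2 (iv3 F425703) F495642 F463215 F226858 (iv2 F182911)
def n218785 : Q := act 2 n190079
theorem D218785 : act 2 n190079 = n218785 := rfl
theorem F495644 : act 4 n218785 = n217364 := d1_2 F495539 D218785 (iv2 F495538)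
theorem F495645 : act 5 n218785 = n209301 := d2_2 F453188 D218785 F453183
theorem F495646 : act 6 n218785 = n190111 := d3_2 (iv6 F378795) D218785 (iv2 D190111)
theorem F495647 : act 7 n217361 = n218785 := d15_2 D218784 (iv0 F495641) (iv2 D218785)
theorem F495648 : act 0 n202815 = n218785 := d21_1 D202815 F495645 (iv6 F464632) F464627 (iv6 D209305) (iv5 F382047) F419761 F379464 D194305 F392774
def n218786 : Q := act 7 n190079
theorem D218786 : act 7 n190079 = n218786 := rfl
theorem F495649 : act 2 n218786 = n217361 := d4_1 D218786 F495647 (iv2 D218785)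
theorem F495650 : act 3 n218786 = n190081 := d8_1 D218786 (iv7 D190081) D190079
theorem F495651 : act 4 n218786 = n217360 := d11_1 D218786 (iv7 F495541) F495539
theorem F495652 : act 5 n218786 = n206335 := d13_1 D218786 (iv7 F453185) F453188
theorem F495653 : act 6 n218786 = n211853 := d14_1 D218786 F463276 F379113 F369544 (iv6 F378795)
theorem F495654 : act 1 n202815 = n218786 := d15_1 (iv0 F495648) (iv7 D218786) D218785
def n218787 : Q := act 5 n190082
theorem D218787 : act 5 n190082 = n218787 := rfl
theorem F495655 : act 2 n218787 = n217250 := d2_1 D218787 (iv5 D217250) (iv2 F378805)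
theorem F495656 : act 3 n218787 = n193767 := d6_1 D218787 F390947 (iv3 F378806)
theorem F495657 : act 6 n218787 = n202919 := d12_2 (iv6 F378807) D218787 (iv5 D202919) F390390 F390386
theorem F495658 : act 7 n218787 = n215306 := d13_2 (iv7 F378808) D218787 (iv5 D215306)
theorem F495659 : act 4 n218787 = n216753 := d17_4 (iv1 F486227) (iv5 D216852) F378809 D218787 F485790 (iv0 F460751) F460747 (iv0 F454295) D210655
theorem F495660 : act 1 n218787 = n216854 := d17_6 F381204 F160403 (iv1 F381205) (iv5 D190083) D190082 D218787 F486237 (iv0 F394352) F385217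
def n218788 : Q := act 4 n190083
theorem D218788 : act 4 n190083 = n218788 := rfl
theorem F495661 : act 5 n218788 = n196679 := d16_1 D218788 F401464 D211239 F460763 (iv5 D191327) F151220 D183221 (iv7 F381623) F381621
theorem F495662 : act 3 n218788 = n196422 := d19_3 D95611 D190083 D218788 (iv1 F402254) (iv5 D196910) F165755 (iv3 F82117) (iv1 F53471) F40790 (iv4 F48012) F323388 (iv1 F74818) F290841 F64546 (iv3 F291303) (iv1 F67682) (iv5 D43217) (iv4 F63436) D44652
def n218789 : Q := act 6 n190083
theorem D218789 : act 6 n190083 = n218789 := rfl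
def n218790 : Q := act 4 n190084
theorem D218790 : act 4 n190084 = n218790 := rfl
theorem F495663 : act 2 n218790 = n190088 := d1_1 D218790 (iv4 D190088) (iv2 F378810)
theorem F495664 : act 3 n218790 = n197951 := d5_1 D218790 F406267 (iv3 F406229) (iv4 D190128) (iv3 F378811)
theorem F495665 : act 5 n218790 = n215459 := d9_2 D190084 D218790 F480084 F455743 (iv4 D182266) (iv5 D87026) (iv4 F71543) D97074 F364880 (iv5 D174586) (iv4 F273333) D215413 F479868 (iv5 D191418) F151744
theorem F495666 : act 7 n218790 = n215462 := d11_2 F381628 D218790 F480103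
theorem F495667 : act 0 n218790 = n215464 := d18_2 (iv1 F381639) D218790 F480111 F369603 F154120 (iv0 F285749) (iv4 F287732) F394959 F394954
theorem F495668 : act 1 n218790 = n215463 := d18_6 (iv1 D97100) (iv4 F72589) D98335 F151744 D190084 D218790 F480108 F394356 (iv5 D190968)
theorem F495669 : act 6 n197949 = n218790 := d14_5 F495666 F480104 F461176 F413071 F413069
def n218791 : Q := act 6 n190084
theorem D218791 : act 6 n190084 = n218791 := rfl
theorem F495670 : act 2 n218791 = n190089 := d3_1 D218791 (iv6 D190089) (iv2 F378810)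
theorem F495671 : act 3 n218791 = n190129 := d7_1 D218791 (iv6 D190129) (iv3 F378811)
theorem F495672 : act 4 n218791 = n197949 := d10_1 D218791 F495669 (iv4 D218790)
theorem F495673 : act 0 n218791 = n198569 := d21_4 (iv5 D190808) F289563 D190084 D218791 (iv6 D198569) D198568 F408352 (iv5 F378869) F378870 F381171
def n218792 : Q := act 6 n190086
theorem D218792 : act 6 n190086 = n218792 := rfl
theorem F495674 : act 4 n218792 = n196907 := d10_1 D218792 F402243 (iv4 F400067)
theorem F495675 : act 5 n218792 = n199939 := d12_1 D218792 (iv6 D199939) (iv5 F358515) F363038 (iv5 F378815)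
theorem F495676 : act 7 n218792 = n216938 := d14_2 (iv7 F381647) D218792 (iv6 D216938) (iv7 F377672) F394961
def n218793 : Q := act 4 n190087
theorem D218793 : act 4 n190087 = n218793 := rfl
theorem F495677 : act 2 n218793 = n212079 := d1_1 D218793 F464253 (iv2 F381646)
theorem F495678 : act 6 n218793 = n216905 := d10_2 F480281 D218793 F486492
theorem F495679 : act 7 n218793 = n212069 := d11_2 F381644 D218793 F464226
theorem F495680 : act 5 n218793 = n212070 := d16_7 F104278 D139474 D210655 F458352 F391179 F380581 D218793 (iv7 D212070) F228327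
theorem F495681 : act 0 n218793 = n212078 := d18_2 F381630 D218793 F464250 (iv5 D190966) (iv4 F288480) (iv0 F289554) F151220 (iv0 F289557) D190941
theorem F495682 : act 1 n218793 = n212077 := d18_6 F370219 (iv4 F388059) F391183 F391179 F380581 D218793 F464246 (iv0 F381752) F369603
def n218794 : Q := act 0 n190088
theorem D218794 : act 0 n190088 = n218794 := rfl
theorem F495683 : act 5 n218794 = n196919 := d17_1 D218794 F458340 F458338 F430274 (iv5 F393112) (iv0 F393116) (iv5 F378815) (iv0 D190086) D190088
theorem F495684 : act 4 n218794 = n190986 := d18_3 (iv1 D190087) D190088 D218794 F381804 (iv4 D185521) (iv0 D88373) (iv4 F135313) D185470 F380581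
theorem F495685 : act 3 n218794 = n196921 := d20_5 F303400 (iv1 D173333) D173334 (iv3 F378816) D218794 F402296 (iv1 D190846) (iv4 F338161) F273936 (iv1 F303398)
theorem F495686 : act 2 n215464 = n218794 := d15_3 (iv0 D218794) (iv0 F394358) (iv7 F480110)
theorem F495687 : act 1 n215462 = n218794 := d15_0 (iv0 D218794) F378817 (iv2 F480101)
theorem F495688 : act 7 n218794 = n215463 := d15_2 (iv0 F480105) F495687 (iv2 F480109)
def n218795 : Q := act 4 n190093
theorem D218795 : act 4 n190093 = n218795 := rfl
theorem F495689 : act 2 n218795 = n190136 := d1_1 D218795 F378951 (iv2 F378830)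
theorem F495690 : act 5 n218795 = n201420 := d9_2 D190093 D218795 F420446 F178532 F178469 (iv5 F306631) F70214 D44680 D95656 D190135 (iv4 F378949) (iv5 F390397) (iv4 F421252) F421251 F367322
theorem F495691 : act 7 n218795 = n190119 := d11_2 (iv7 F378831) D218795 (iv4 D190119)
theorem F495692 : act 0 n218795 = n190133 := d17_0 (iv5 F475714) F421323 F404721 (iv4 D194416) (iv5 D103357) (iv0 F76114) (iv5 F147306) (iv0 F378832) D218795
theorem F495693 : act 1 n218795 = n190132 := d18_6 D186754 F367888 F367326 F367322 D190093 D218795 F487351 (iv0 D217088) (iv5 D186755)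
def n218796 : Q := act 6 n190093
theorem D218796 : act 6 n190093 = n218796 := rfl
theorem F495694 : act 2 n218796 = n190137 := d3_1 D218796 (iv6 D190137) (iv2 F378830)
theorem F495695 : act 3 n218796 = n191043 := d7_1 D218796 F381962 F381240
theorem F495696 : act 5 n218796 = n191042 := d12_1 D218796 F381960 (iv5 D187293) F147288 D190093
theorem F495697 : act 0 n218796 = n217414 := d21_10 (iv5 F492220) (iv1 F476646) (iv5 F476981) (iv6 F480304) (iv1 F480305) (iv6 D190129) (iv5 D95653) (iv1 F147289) D190093 D218796
def n218797 : Q := act 6 n190094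
theorem D218797 : act 6 n190094 = n218797 := rfl
theorem F495698 : act 2 n218797 = n190098 := d3_1 D218797 (iv6 D190098) (iv2 F378834)
theorem F495699 : act 4 n218797 = n217784 := d10_1 D218797 F490609 (iv4 F378836)
theorem F495700 : act 5 n218797 = n214828 := d12_1 D218797 F477026 F387995 (iv6 F367116) D190094
def n218798 : Q := act 4 n190096
theorem D218798 : act 4 n190096 = n218798 := rfl
theorem F495701 : act 2 n218798 = n194416 := d1_1 D218798 (iv4 D194416) F378847
theorem F495702 : act 5 n218798 = n217803 := d9_2 (iv5 F378846) D218798 F490708 (iv5 F486777) F486778 (iv5 D189889) (iv4 F291918) (iv5 F378840) (iv4 F433373) F433374 (iv4 F420444) (iv5 F462627) F462626 (iv5 D194076) (iv4 F158629)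
theorem F495703 : act 6 n218798 = n218321 := d10_2 F462949 D218798 F493310
theorem F495704 : act 7 n218798 = n217155 := d11_2 (iv7 F378845) D218798 (iv4 D217155)
theorem F495705 : act 0 n218798 = n217570 := d17_0 (iv5 D217570) F388943 (iv5 D190135) (iv4 D95656) (iv5 D44680) (iv0 F70205) D95620 D190096 D218798
theorem F495706 : act 1 n218798 = n217895 := d18_6 F387930 F387929 F285787 (iv4 F158629) (iv5 F378846) D218798 F491135 F487345 (iv5 D193592)
def n218799 : Q := act 0 n190097
theorem D218799 : act 0 n190097 = n218799 := rfl
theorem F495707 : act 4 n218799 = n217963 := d18_3 (iv1 D190096) D190097 D218799 (iv5 D217963) F372682 F357546 (iv4 F156947) (iv0 F158630) (iv5 F378846)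
theorem F495708 : act 1 n190128 = n218799 := d15_0 (iv0 D218799) F378849 (iv2 F378941)
theorem F495709 : act 2 n217157 = n218799 := d1_3 F495707 F491440 (iv4 F487699)
theorem F495710 : act 7 n217156 = n218799 := d11_0 F495707 F491443 (iv4 F487696)
def n218800 : Q := act 1 n190097
theorem D218800 : act 1 n190097 = n218800 := rfl
theorem F495711 : act 1 n218800 = n190128 := d15_1 D218800 F378943 (iv2 F378848)
theorem F495712 : act 7 n218800 = n217157 := d15_2 (iv0 D218799) D218800 F495709
theorem F495713 : act 5 n218800 = n217802 := d17_7 (iv1 F421111) (iv5 F486777) (iv1 F486781) F368424 (iv4 F370721) (iv5 F378850) D218800 (iv0 F490705) (iv4 F449982)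
theorem F495714 : act 4 n218800 = n217347 := d17_9 (iv1 F488549) (iv5 D190231) (iv1 F364382) D215305 (iv4 F491141) (iv5 D217896) F372350 (iv5 F378850) D218800
theorem F495715 : act 2 n217156 = n218800 := d1_3 F495714 F488545 (iv4 F487696)
def n218801 : Q := act 6 n190097
theorem D218801 : act 6 n190097 = n218801 := rfl
theorem F495716 : act 2 n218801 = n217784 := d3_1 D218801 F490609 (iv2 F378848)
theorem F495717 : act 3 n218801 = n218776 := d7_1 D218801 F495610 F408247
theorem F495718 : act 4 n218801 = n190098 := d10_1 D218801 (iv6 D190098) D190097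
theorem F495719 : act 5 n218801 = n192698 := d12_1 D218801 (iv6 D192698) (iv5 F344198) D187537 (iv5 F378850)
def n218802 : Q := act 0 n190098
theorem D218802 : act 0 n190098 = n218802 := rfl
def n218803 : Q := act 1 n190098
theorem D218803 : act 1 n190098 = n218803 := rfl
def n218804 : Q := act 7 n190098
theorem D218804 : act 7 n190098 = n218804 := rfl
theorem F495720 : act 3 n218804 = n190100 := d8_1 D218804 (iv7 D190100) (iv3 F378851)
theorem F495721 : act 5 n218804 = n214829 := d13_1 D218804 F477029 F393900
theorem F495722 : act 6 n218804 = n214743 := d14_1 D218804 F476621 (iv6 D186898) (iv7 F147295) D190098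
def n218805 : Q := act 6 n190105
theorem D218805 : act 6 n190105 = n218805 := rfl
theorem F495723 : act 4 n218805 = n194904 := d10_1 D218805 (iv6 D194904) (iv4 F378863)
theorem F495724 : act 0 n214740 = n218805 := d21_4 D217466 F489011 (iv5 D217415) F476610 (iv6 D218805) (iv5 F481146) (iv1 D215693) D215694 F489002 (iv1 D217465)
theorem F495725 : act 1 n214737 = n218805 := d15_0 (iv0 F495724) (iv7 F478543) F478540
def n218806 : Q := act 4 n190106
theorem D218806 : act 4 n190106 = n218806 := rfl
theorem F495726 : act 2 n218806 = n190107 := d1_1 D218806 (iv4 D190107) D190106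
theorem F495727 : act 3 n218806 = n197929 := d5_1 D218806 (iv4 F430290) F430289 F381839 F381674
theorem F495728 : act 6 n218806 = n212117 := d10_2 (iv6 F378865) D218806 F464378
theorem F495729 : act 7 n218806 = n190130 := d11_2 (iv7 F378866) D218806 (iv4 D190130)
theorem F495730 : act 5 n218806 = n197928 := d16_1 D218806 (iv4 F449982) (iv5 D186964) (iv4 D89424) (iv5 F74570) (iv4 F156947) F156948 F149760 D190106
theorem F495731 : act 0 n218806 = n217089 := d17_0 F487352 F487706 (iv5 D217158) (iv4 D186897) (iv5 D89363) (iv0 F136666) D95645 F378868 D218806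
theorem F495732 : act 1 n218806 = n217153 := d18_6 (iv1 F394945) F372682 F357545 (iv4 F148323) (iv5 F378864) D218806 (iv4 D217153) F487348 F487346
theorem F495733 : act 3 n190132 = n218061 := d20_3 (iv4 D217089) D217088 (iv4 F487351) (iv1 D218061) F373432 (iv4 F461410) (iv1 F461411) F430290 (iv3 F495727) F495731
def n218807 : Q := act 5 n190107
theorem D218807 : act 5 n190107 = n218807 := rfl
theorem F495734 : act 2 n218807 = n197928 := d2_1 D218807 (iv5 F495730) F495726
theorem F495735 : act 3 n218807 = n209475 := d6_1 D218807 (iv5 F461485) F461487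
theorem F495736 : act 4 n218807 = n217182 := d9_1 D218807 (iv5 D217182) (iv4 D186960) (iv5 F156941) (iv4 F158634) F158635 D190130 (iv5 F459973) F459972 F372056 (iv4 D102006) (iv5 D47378) (iv4 F74565) (iv5 F147306) D190107
def n218808 : Q := act 3 n190109
theorem D218808 : act 3 n190109 = n218808 := rfl
theorem F495737 : act 2 n218808 = n215482 := d0_1 D218808 (iv3 D215482) (iv2 F303300) (iv3 F476954) F476953
theorem F495738 : act 4 n218808 = n197476 := d5_2 F381615 D218808 (iv3 F404487) (iv4 F254050) (iv3 F365914)
theorem F495739 : act 6 n218808 = n198736 := d7_2 (iv6 F381616) D218808 (iv3 D198736)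
theorem F495740 : act 7 n218808 = n190281 := d8_2 F488524 D218808 (iv3 F488520)
theorem F495741 : act 0 n218808 = n211743 := d19_4 (iv1 D109899) D109900 F381615 D218808 F462918 F407958 (iv3 D172489) D172487 F270684 (iv4 D83962) F319786 (iv1 F57699) F317566 F304581 (iv3 F215497) F278617 F210713 (iv4 F234550) F358573
theorem F495742 : act 0 n211748 = n218808 := d20_4 (iv4 F461486) (iv1 F461488) F453815 F462939 (iv3 D218808) (iv4 F381615) D198722 (iv4 F414158) F414156 F378871
def n218809 : Q := act 0 n190119
theorem D218809 : act 0 n190119 = n218809 := rfl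
theorem F495743 : act 5 n218809 = n214456 := d17_1 D218809 F475257 (iv5 F433374) F433373 F378840 F158646 F156948 F289951 D190119
theorem F495744 : act 4 n218809 = n190279 := d18_1 D218809 (iv1 F486769) (iv4 F491145) (iv5 D217897) (iv4 D188118) F251148 D214459 (iv0 F475267) (iv5 F378919)
theorem F495745 : act 4 n205808 = n217451 := d19_14 D218809 F495743 (iv4 D214456) F251124 (iv1 F251107) F251109 (iv4 F205538) (iv3 F373866) F373868 (iv5 F332614) F216447 F211728 (iv1 F203671) D205808 (iv3 D217451) (iv1 D187326) (iv5 F147515) (iv4 F379352) F379351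
theorem F495746 : act 1 n190136 = n218809 := d15_0 (iv0 D218809) (iv7 F495691) F495689
theorem F495747 : act 4 n217367 = n205698 := d11_3 (iv7 F437941) F495745 F488941
theorem F495748 : act 0 n217421 = n217367 := d18_2 (iv1 F443465) (iv4 F495237) F495747 (iv5 D205698) F203453 F102164 (iv4 F97057) (iv0 F203678) D205813
theorem F495749 : act 2 n190132 = n218809 := d1_3 F495744 F487347 (iv4 F487351)
theorem F495750 : act 7 n190133 = n218809 := d11_0 F495744 (iv7 F475710) (iv4 F475713)
def n218810 : Q := act 1 n190119
theorem D218810 : act 1 n190119 = n218810 := rfl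
theorem F495751 : act 1 n218810 = n190136 := d15_1 D218810 (iv7 D190136) (iv2 F378918)
theorem F495752 : act 7 n218810 = n190132 := d15_2 (iv0 D218809) D218810 F495749
theorem F495753 : act 4 n218810 = n190238 := d18_7 (iv1 F289501) F367604 (iv1 D186669) F136665 D95645 D190119 D218810 (iv0 F486768) (iv5 D216965)
theorem F495754 : act 3 n211370 = n218810 := d19_19 (iv1 D218810) F378919 (iv4 D187921) F368681 (iv1 F374296) (iv5 F468263) F468262 F406398 F406400 (iv5 F353503) (iv4 F171179) F168781 (iv1 F82626) F40161 (iv4 F82436) (iv3 F175936) (iv1 F331347) (iv5 F381344) (iv4 F461310)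
theorem F495755 : act 6 n218810 = n215432 := d7_2 F461309 F495754 F479963
theorem F495756 : act 2 n190133 = n218810 := d3_3 F495755 F479962 F476913
def n218811 : Q := act 3 n190123
theorem D218811 : act 3 n190123 = n218811 := rfl
theorem F495757 : act 2 n218811 = n203642 := d0_1 D218811 (iv3 D203642) F189188 D155493 (iv2 F378934)
theorem F495758 : act 4 n218811 = n198550 := d5_2 D190123 D218811 F408322 F169520 (iv3 F348932)
theorem F495759 : act 6 n218811 = n194079 := d7_2 (iv6 F378935) D218811 (iv3 D194079)
theorem F495760 : act 7 n218811 = n206998 := d8_2 F475898 D218811 F475901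
theorem F495761 : act 0 n218811 = n207006 := d19_4 (iv1 D215526) F348934 D190123 D218811 F442944 (iv4 F418399) F339339 (iv1 F443960) (iv5 D207248) F209220 (iv3 D128682) F96484 F96482 D67709 (iv3 F222969) F366108 D145364 F378962 (iv3 F480329)
theorem F495762 : act 0 n201198 = n218811 := d20_4 (iv4 F347685) (iv1 D114113) (iv4 F177718) (iv3 F419414) (iv3 D218811) (iv4 D190123) F378756 F378755 F368351 (iv1 D123866)
def n218812 : Q := act 5 n190123
theorem D218812 : act 5 n190123 = n218812 := rfl
theorem F495763 : act 2 n218812 = n213758 := d2_1 D218812 (iv5 D213758) (iv2 F378934)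
theorem F495764 : act 4 n218812 = n196820 := d9_1 D218812 (iv5 D196820) (iv4 F400450) (iv5 F480140) F480139 (iv5 D190067) D190066 (iv5 F457935) F457934 (iv5 D196747) F165314 D141984 (iv4 F348936) F348934 D190123
theorem F495765 : act 6 n218812 = n217285 := d12_2 (iv6 F378935) D218812 (iv5 D217285) F392006 (iv5 D194080)
theorem F495766 : act 7 n218812 = n192761 := d13_2 F475898 D218812 (iv5 F475899)
theorem F495767 : act 0 n218812 = n192743 := d18_0 (iv4 F459301) (iv1 D210922) (iv4 F459296) F459298 (iv4 F379118) F487338 F487336 F391621 D218812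
def n218813 : Q := act 4 n190124
theorem D218813 : act 4 n190124 = n218813 := rfl
theorem F495768 : act 3 n218813 = n196330 := d5_1 D218813 (iv4 F400353) D211423 F495616 F495612
theorem F495769 : act 5 n218813 = n197545 := d9_2 (iv5 F378937) D218813 F404761 (iv5 F401758) (iv4 F401762) (iv5 F391617) F391616 F380532 D218781 F495628 F473441 (iv5 D192720) F154631 (iv5 F137236) (iv4 F369044)
theorem F495770 : act 7 n218813 = n214093 := d11_2 F495177 D218813 (iv4 F495178)
theorem F495771 : act 0 n218813 = n211432 := d17_0 (iv5 D211432) (iv1 F400451) (iv5 F480140) F480139 (iv5 D190067) D190064 (iv5 F379277) F379282 D218813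
theorem F495772 : act 1 n218813 = n196352 := d18_8 F400434 (iv4 F165314) F389241 F389239 (iv5 F367261) (iv4 F379276) F379282 D218813 (iv5 D196352)
def n218814 : Q := act 3 n190126
theorem D218814 : act 3 n190126 = n218814 := rfl
theorem F495773 : act 2 n218814 = n191029 := d0_1 D218814 F381930 F149877 (iv3 F379347) F379346
theorem F495774 : act 4 n218814 = n190159 := d5_2 D190126 D218814 (iv3 D190159) (iv4 D95670) (iv3 F147347)
theorem F495775 : act 5 n218814 = n193253 := d6_2 (iv5 F388940) D218814 F389327
theorem F495776 : act 6 n218814 = n190134 := d7_2 (iv6 F378938) D218814 (iv3 D190134)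
theorem F495777 : act 7 n218814 = n191027 := d8_2 (iv7 F379344) D218814 F381921
theorem F495778 : act 0 n191025 = n218814 := d20_4 D211429 F461501 F413947 F381919 (iv3 D218814) (iv4 D190126) D190124 D218813 F495768 (iv1 F400350)
theorem F495779 : act 1 n191026 = n218814 := d15_0 (iv0 F495778) F381920 F404750
def n218815 : Q := act 6 n190127
theorem D218815 : act 6 n190127 = n218815 := rfl
theorem F495780 : act 3 n218815 = n190162 := d7_1 D218815 (iv6 D190162) (iv3 F378939)
theorem F495781 : act 5 n218815 = n217413 := d12_1 D218815 F488793 F381556 F149717 (iv5 F378940)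
theorem F495782 : act 7 n218815 = n190137 := d14_2 D190127 D218815 (iv6 D190137) (iv7 D95657) (iv6 F147348)
theorem F495783 : act 0 n217414 = n218815 := d17_2 D214747 F492220 F495781 (iv4 F488919) F488920 F394648 F459628 (iv0 D160913) (iv4 F254110)
def n218816 : Q := act 6 n190128
theorem D218816 : act 6 n190128 = n218816 := rfl
theorem F495784 : act 2 n218816 = n217159 := d3_1 D218816 (iv6 D217159) (iv2 F378941)
theorem F495785 : act 3 n218816 = n197950 := d7_1 D218816 (iv6 F406265) (iv3 F406229)
theorem F495786 : act 4 n218816 = n190129 := d10_1 D218816 (iv6 D190129) D190128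
theorem F495787 : act 5 n199667 = n218816 := d16_1 F490964 F495786 (iv5 F394989) F394988 (iv5 F406487) F465254 (iv5 F489683) (iv7 F491670) (iv2 F491671)
theorem F495788 : act 0 n215229 = n218816 := d18_0 F495786 F479466 F479464 F476934 (iv4 F471639) F419932 (iv4 F375164) (iv0 F492578) F492577
def n218817 : Q := act 0 n190131
theorem D218817 : act 0 n190131 = n218817 := rfl
theorem F495789 : act 1 n215473 = n218817 := d15_0 (iv0 D218817) (iv7 F476969) (iv2 F480152)
def n218818 : Q := act 1 n190131
theorem D218818 : act 1 n190131 = n218818 := rfl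
theorem F495790 : act 1 n218818 = n215473 := d15_1 D218818 F480156 F381659
theorem F495791 : act 4 n214594 = n218818 := d20_6 F91662 D120274 F191508 (iv3 F326833) (iv1 F343778) (iv3 F475963) (iv1 D218818) F382752 F258392 F119924
theorem F495792 : act 6 n214328 = n218818 := d21_3 F479474 (iv1 F276116) D214328 (iv1 D218818) (iv6 D190131) (iv5 F158635) (iv1 F158638) (iv5 F368449) (iv6 F368450) (iv1 F479477)
theorem F495793 : act 3 n218818 = n190189 := d7_1 F495792 (iv6 F476169) F476168
def n218819 : Q := act 6 n190132
theorem D218819 : act 6 n190132 = n218819 := rfl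
theorem F495794 : act 3 n218819 = n204705 := d7_1 D218819 F491960 (iv3 F495733)
theorem F495795 : act 5 n218819 = n204703 := d12_1 D218819 (iv6 F474299) F474301 D217820 (iv5 F490788)
theorem F495796 : act 0 n214594 = n218819 := d17_2 F474508 (iv5 F475964) F495795 F480972 (iv5 F494367) (iv0 D218540) (iv5 F430960) (iv0 F430961) D214309
def n218820 : Q := act 3 n190133
theorem D218820 : act 3 n190133 = n218820 := rfl
theorem F495797 : act 4 n218820 = n190980 := d5_2 (iv4 F475713) D218820 F419610 F419605 (iv3 F475708)
def n218821 : Q := act 6 n190136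
theorem D218821 : act 6 n190136 = n218821 := rfl
theorem F495798 : act 4 n218821 = n190137 := d10_1 D218821 (iv6 D190137) (iv4 F378951)
def n218822 : Q := act 4 n190139
theorem D218822 : act 4 n190139 = n218822 := rfl
theorem F495799 : act 6 n218822 = n214753 := d10_2 F378970 D218822 (iv4 D214753)
def n218823 : Q := act 4 n190140
theorem D218823 : act 4 n190140 = n218823 := rfl
theorem F495800 : act 2 n218823 = n212138 := d1_1 D218823 F464456 (iv2 F381305)
theorem F495801 : act 3 n218823 = n215463 := d5_1 D218823 F480108 F475725 (iv4 F477890) F477892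
theorem F495802 : act 5 n218823 = n196922 := d9_2 (iv5 F378958) D218823 F402300 (iv5 F363148) F340992 (iv5 F205882) (iv4 F378288) F378961 (iv4 F378962) (iv5 D145364) (iv4 F228407) (iv5 F429864) F429865 F319723 (iv4 F267893)
theorem F495803 : act 7 n218823 = n196921 := d11_2 F381308 D218823 F402296
theorem F495804 : act 0 n218823 = n190291 := d17_0 (iv5 F402059) (iv1 F402060) (iv5 D190160) (iv4 D95670) (iv5 D44684) D44683 D95666 F378959 D218823
theorem F495805 : act 1 n218823 = n190288 := d18_6 (iv1 F364481) F341007 F341003 (iv4 F267893) (iv5 F378958) D218823 (iv4 D190288) D190287 (iv5 F379293)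
def n218824 : Q := act 6 n190140
theorem D218824 : act 6 n190140 = n218824 := rfl
theorem F495806 : act 5 n218824 = n191236 := d12_1 D218824 F382691 (iv5 D170428) D170429 (iv5 F378958)
def n218825 : Q := act 3 n190142
theorem D218825 : act 3 n190142 = n218825 := rfl
theorem F495807 : act 2 n218825 = n215348 := d0_1 D218825 F479499 F271860 (iv3 F273936) (iv2 F378963)
theorem F495808 : act 5 n218825 = n215347 := d6_2 F378964 D218825 F479498
theorem F495809 : act 6 n218825 = n211376 := d7_2 (iv6 F378968) D218825 F461326
def n218826 : Q := act 4 n190144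
theorem D218826 : act 4 n190144 = n218826 := rfl
theorem F495810 : act 2 n218826 = n205878 := d1_1 D218826 F438229 (iv2 F381292)
theorem F495811 : act 3 n218826 = n212236 := d5_1 D218826 F464889 (iv3 F408329) (iv4 D198551) F378972
theorem F495812 : act 6 n218826 = n198551 := d10_2 F378973 D218826 (iv4 D198551)
theorem F495813 : act 7 n218826 = n203812 := d11_2 (iv7 F378971) D218826 F429927
theorem F495814 : act 0 n218826 = n190222 := d17_0 F392925 F466304 (iv5 D212533) (iv4 F358574) D198721 F408988 (iv5 D190146) D190144 D218826
theorem F495815 : act 5 n218826 = n205872 := d18_4 F464972 F464968 (iv1 F381300) D218826 F438212 D210995 F459672 (iv0 F428649) F428648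
theorem F495816 : act 0 n190218 = n218826 := d20_10 (iv4 D218826) (iv1 D190144) F347831 F130724 D85559 (iv3 F366769) F239557 (iv1 F363830) (iv4 F251643) (iv3 F379115)
def n218827 : Q := act 5 n190144
theorem D218827 : act 5 n190144 = n218827 := rfl
theorem F495817 : act 2 n218827 = n198723 := d2_1 D218827 F408992 (iv2 F381292)
theorem F495818 : act 3 n218827 = n198552 := d6_1 D218827 (iv5 D198552) F378972
theorem F495819 : act 7 n218827 = n198722 := d13_2 (iv7 F378971) D218827 F408989
theorem F495820 : act 4 n218827 = n198562 := d16_2 (iv4 D218826) D218827 (iv5 D198562) (iv4 F172990) (iv5 F360138) (iv4 F428674) (iv5 F429910) (iv7 F438227) (iv2 F495810)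
theorem F495821 : act 0 n218827 = n190154 := d17_2 (iv1 F381300) D218827 F378996 F169856 D125969 D205437 (iv5 F436420) (iv0 F464971) F464968
theorem F495822 : act 1 n218827 = n198724 := d17_8 (iv1 F488523) F392209 (iv1 D194158) D194159 (iv4 F392211) (iv5 D190146) D190144 D218827 (iv4 F488519)
def n218828 : Q := act 5 n190145
theorem D218828 : act 5 n190145 = n218828 := rfl
theorem F495823 : act 2 n218828 = n190146 := d2_1 D218828 (iv5 D190146) D190145
theorem F495824 : act 3 n218828 = n217172 := d6_1 D218828 F487780 F381321
theorem F495825 : act 4 n218828 = n217471 := d9_1 D218828 F489030 F406095 (iv5 F406096) F405276 (iv5 F229436) F347828 D190844 (iv4 F476949) (iv5 D214807) (iv4 F406090) F406093 F405318 (iv5 F359974) (iv4 F378974)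
def n218829 : Q := act 7 n190148
theorem D218829 : act 7 n190148 = n218829 := rfl
theorem F495826 : act 2 n218829 = n194750 := d4_1 D218829 F394345 F381334
theorem F495827 : act 4 n218829 = n211382 := d11_1 D218829 F461347 (iv4 F413357)
theorem F495828 : act 5 n218829 = n218746 := d13_1 D218829 F495460 (iv5 F495307)
theorem F495829 : act 6 n218829 = n211381 := d14_1 D218829 F461343 (iv6 D190847) F366194 D190148
theorem F495830 : act 1 n190165 = n218829 := d15_1 (iv0 F381335) (iv7 D218829) (iv2 F381334)
theorem F495831 : act 1 n218829 = n194751 := d15_1 F495830 (iv7 D194751) (iv2 F379018)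
def n218830 : Q := act 3 n190152
theorem D218830 : act 3 n190152 = n218830 := rfl
theorem F495832 : act 5 n218830 = n196906 := d6_2 F379321 D218830 (iv3 F424527)
def n218831 : Q := act 1 n190153
theorem D218831 : act 1 n190153 = n218831 := rfl
theorem F495833 : act 5 n218831 = n193513 := d17_7 (iv1 F466228) (iv5 D212520) F392934 D147737 (iv4 F390481) F390482 D218831 F425923 F425920
theorem F495834 : act 3 n193519 = n218831 := d19_19 (iv1 D218831) (iv5 F390482) F390481 F231470 D147745 F231489 F230913 F190155 (iv1 F183997) (iv5 D54903) D54902 (iv3 F151268) (iv1 F343990) (iv5 F442700) (iv4 F461100) (iv3 D211319) (iv1 D141826) D141827 (iv4 F390149)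
theorem F495835 : act 4 n218831 = n211334 := d5_2 (iv4 F390149) F495834 (iv3 D211334) (iv4 D141839) (iv3 F224852)
def n218832 : Q := act 3 n190157
theorem D218832 : act 3 n190157 = n218832 := rfl
theorem F495836 : act 4 n218832 = n206325 := d5_2 (iv4 F379281) D218832 F440251 (iv4 F366330) F353133
theorem F495837 : act 5 n218832 = n194546 := d6_2 F402291 D218832 F402292
def n218833 : Q := act 6 n190157
theorem D218833 : act 6 n190157 = n218833 := rfl
theorem F495838 : act 4 n218833 = n190293 := d10_1 D218833 (iv6 D190293) (iv4 F379281)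
theorem F495839 : act 0 n211334 = n218833 := d18_0 F495838 F461314 (iv4 D211371) (iv5 D141902) (iv4 F331070) F366880 (iv4 F432396) (iv0 F432397) (iv5 F461170)
def n218834 : Q := act 0 n190159
theorem D218834 : act 0 n190159 = n218834 := rfl
theorem F495840 : act 6 n218834 = n211332 := d21_5 (iv5 D141842) (iv1 F360798) F365369 (iv6 F379006) D218834 F461159 (iv1 D197586) F343178 F343806 (iv1 F224886)
theorem F495841 : act 2 n211424 = n218834 := d15_3 (iv0 D218834) (iv0 F406257) (iv7 F461483)
theorem F495842 : act 1 n191002 = n218834 := d15_0 (iv0 D218834) (iv7 F477556) F477552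
theorem F495843 : act 4 n214096 = n218834 := d20_0 (iv1 F495842) F381841 (iv3 D97144) (iv1 F147376) D190186 F425787 F429227 (iv4 F459175) (iv3 F461490) F490591
def n218835 : Q := act 6 n190163
theorem D218835 : act 6 n190163 = n218835 := rfl
theorem F495844 : act 2 n218835 = n194912 := d3_1 D218835 (iv6 D194912) F379015
theorem F495845 : act 3 n218835 = n211787 := d7_1 D218835 F463075 F394925
theorem F495846 : act 5 n218835 = n211786 := d12_1 D218835 F463072 (iv5 D185599) (iv6 F294699) (iv5 F379014)
theorem F495847 : act 0 n214752 = n218835 := d21_4 (iv5 F160330) D194831 F459628 D214752 (iv6 D218835) F379014 (iv1 F160421) (iv5 F149618) D190888 F381457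
def n218836 : Q := act 0 n190164
theorem D218836 : act 0 n190164 = n218836 := rfl
theorem F495848 : act 5 n218836 = n208080 := d17_3 F390483 (iv5 F379017) D218836 F447799 F427236 (iv0 F392921) (iv5 D194356) (iv0 F392932) (iv4 F390481)
theorem F495849 : act 4 n218836 = n211368 := d18_3 F488654 F488653 D218836 (iv5 D211368) (iv4 F393079) (iv0 D194408) (iv4 F393075) F425305 D204399
theorem F495850 : act 3 n218836 = n190233 := d20_5 D144135 D211822 F463193 F415969 D218836 (iv4 D190233) F356594 (iv4 F346829) F222132 F167333
theorem F495851 : act 6 n218836 = n217417 := d21_5 (iv5 F71468) (iv1 F75225) (iv5 F147364) D190164 D218836 (iv5 D217417) (iv1 D187300) (iv5 F147384) (iv6 D95696) (iv1 F71467)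
theorem F495852 : act 1 n194422 = n218836 := d15_0 (iv0 D218836) (iv7 F415957) F415954
theorem F495853 : act 2 n194420 = n218836 := d3_3 F495851 F488803 (iv6 F478563)
theorem F495854 : act 7 n194421 = n218836 := d15_2 (iv0 D194420) D194421 (iv2 F495853)
def n218837 : Q := act 1 n190164
theorem D218837 : act 1 n190164 = n218837 := rfl
theorem F495855 : act 1 n218837 = n194422 := d15_1 D218837 (iv7 D194422) (iv2 F379016)
theorem F495856 : act 7 n218837 = n194420 := d15_2 (iv0 D218836) D218837 F495853
theorem F495857 : act 5 n218837 = n209899 := d17_7 F423864 F206346 (iv1 F198196) (iv5 F392531) F392529 (iv5 F379017) D218837 F462933 F462929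
theorem F495858 : act 2 n194421 = n218837 := d2_3 F495857 F455291 F425921
theorem F495859 : act 4 n211367 = n218837 := d9_15 F495857 (iv4 F466096) F466093 F354075 (iv5 F393076) F393079 D211368 (iv4 F495849) F495848 F447799 F427236 F205817 F393089 F393091 D211367
def n218838 : Q := act 0 n190166
theorem D218838 : act 0 n190166 = n218838 := rfl
theorem F495860 : act 5 n218838 = n216472 := d17_1 D218838 (iv1 F484542) (iv5 F463289) (iv4 D211858) (iv5 D144176) D144175 D211856 F473962 F473958
theorem F495861 : act 3 n211412 = n218838 := d6_3 F495860 F484541 (iv5 F461459)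
theorem F495862 : act 7 n216111 = n218838 := d13_0 F495860 F484544 (iv5 F483007)
def n218839 : Q := act 2 n190166
theorem D218839 : act 2 n190166 = n218839 := rfl
theorem F495863 : act 3 n218839 = n211320 := d0_2 D190166 D218839 F461101 (iv3 D190868) F149600
theorem F495864 : act 4 n218839 = n211505 := d1_2 F473958 D218839 F473959
theorem F495865 : act 5 n218839 = n211319 := d2_2 F394274 D218839 F461099
theorem F495866 : act 1 n218839 = n216111 := d15_0 (iv0 F483008) F381422 D218839
def n218840 : Q := act 6 n190171
theorem D218840 : act 6 n190171 = n218840 := rfl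
def n218841 : Q := act 6 n190173
theorem D218841 : act 6 n190173 = n218841 := rfl
theorem F495867 : act 5 n218841 = n215697 := d12_1 D218841 F481160 F381220 F380413 (iv5 F380414)
def n218842 : Q := act 3 n190175
theorem D218842 : act 3 n190175 = n218842 := rfl
theorem F495868 : act 4 n218842 = n190179 := d5_2 D190175 D218842 (iv3 D190179) (iv4 D95683) (iv3 F147373)
theorem F495869 : act 5 n218842 = n193522 := d6_2 (iv5 F379036) D218842 (iv3 F390157)
theorem F495870 : act 7 n218842 = n209948 := d8_2 (iv7 F379035) D218842 F455490
theorem F495871 : act 6 n215474 = n218842 := d21_5 (iv5 D162658) F300460 D83444 D174620 D215474 F495869 (iv1 F408231) (iv5 F479454) (iv6 D215335) (iv1 F303304)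
def n218843 : Q := act 6 n190175
theorem D218843 : act 6 n190175 = n218843 := rfl
theorem F495872 : act 3 n218843 = n215474 := d7_1 D218843 F495871 (iv3 D218842)
theorem F495873 : act 4 n218843 = n190176 := d10_1 D218843 (iv6 D190176) D190175
theorem F495874 : act 0 n218843 = n198740 := d21_4 (iv5 F408449) F408451 (iv5 F379036) D218843 (iv6 D198740) (iv5 D109917) D109915 D198739 (iv6 F457595) F457598
def n218844 : Q := act 0 n190179
theorem D218844 : act 0 n190179 = n218844 := rfl
theorem F495875 : act 5 n218844 = n213690 := d17_3 D141825 (iv5 F379045) D218844 F471652 (iv5 F384855) (iv0 D191829) (iv5 F154038) (iv0 F350402) F171789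
theorem F495876 : act 3 n218844 = n211378 := d20_5 F369624 (iv1 F147365) D95683 D190179 D218844 F461330 (iv1 D187270) F360806 F360805 D187249
theorem F495877 : act 4 n218844 = n200231 := d20_8 D202807 F425670 (iv4 F404500) F404499 (iv1 F379037) D218842 F495868 D218844 F415630 (iv1 F182884)
theorem F495878 : act 2 n203698 = n218844 := d15_3 (iv0 D218844) (iv0 F404725) F429445
theorem F495879 : act 1 n211320 = n218844 := d15_0 (iv0 D218844) (iv7 F381393) (iv2 F461101)
theorem F495880 : act 7 n218844 = n218321 := d15_2 (iv0 F461102) F495879 F493308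
theorem F495881 : act 6 n203695 = n218844 := d14_5 F495880 (iv6 F495703) F495704 F487694 F433352
def n218845 : Q := act 2 n190179
theorem D218845 : act 2 n190179 = n218845 := rfl
theorem F495882 : act 5 n218845 = n211313 := d2_2 (iv5 F379045) D218845 (iv2 F461081)
theorem F495883 : act 7 n218845 = n211320 := d4_2 F381393 D218845 F461101
theorem F495884 : act 1 n218845 = n218321 := d15_0 F493311 F381393 D218845
theorem F495885 : act 1 n203698 = n218845 := d15_0 F495884 (iv7 F495880) (iv2 F495878)
def n218846 : Q := act 6 n190179
theorem D218846 : act 6 n190179 = n218846 := rfl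
theorem F495886 : act 3 n218846 = n190180 := d7_1 D218846 (iv6 D190180) D190179
theorem F495887 : act 4 n218846 = n215474 := d10_1 D218846 F495871 F495868
theorem F495888 : act 0 n214815 = n218846 := d21_4 (iv5 D214799) F303389 (iv5 F302245) D214815 (iv6 D218846) F379045 F439964 (iv5 F480051) (iv6 D215450) (iv1 F476912)
theorem F495889 : act 3 n215138 = n214817 := d20_9 (iv4 F476979) F495888 F495887 (iv3 F495872) F495874 (iv3 F477468) F477469 (iv1 F394971) (iv4 F478549) (iv1 D214817)
theorem F495890 : act 2 n214817 = n215516 := d0_1 F495889 (iv3 F480291) (iv2 F481156) (iv3 F489003) (iv2 F489004)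
theorem F495891 : act 7 n214817 = n215515 := d8_2 (iv7 F488993) F495889 F488998
theorem F495892 : act 2 n215515 = n214816 := d15_3 (iv0 D214816) D214817 F495891
theorem F495893 : act 7 n215516 = n214816 := d4_2 (iv7 F495891) F495890 (iv2 F495892)
def n218847 : Q := act 7 n190180
theorem D218847 : act 7 n190180 = n218847 := rfl
theorem F495894 : act 4 n218847 = n190183 := d11_1 D218847 (iv7 D190183) (iv4 F379046)
theorem F495895 : act 5 n218847 = n215546 := d13_1 D218847 F480444 F480036
theorem F495896 : act 6 n218847 = n214629 := d14_1 D218847 F476120 (iv6 D190869) F149601 D190180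
theorem F495897 : act 0 n214803 = n218847 := d21_4 (iv5 D213689) D213687 (iv5 F486078) F486079 F495896 F476121 (iv1 D160416) D160418 F394373 F471650
def n218848 : Q := act 3 n190181
theorem D218848 : act 3 n190181 = n218848 := rfl
def n218849 : Q := act 4 n190181
theorem D218849 : act 4 n190181 = n218849 := rfl
theorem F495898 : act 7 n218849 = n196953 := d11_2 (iv7 F381437) D218849 (iv4 F402434)
theorem F495899 : act 0 n218849 = n217456 := d18_2 D190181 D218849 F488956 (iv5 F373272) F373271 D215447 (iv4 F480038) (iv0 D194622) F159295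
theorem F495900 : act 3 n218849 = n198319 := d20_3 F379046 D190181 D218849 (iv1 F480107) (iv3 D174709) (iv4 D83477) D83475 (iv4 F273416) (iv3 F464711) F464714
theorem E104044 : n218848 = n218802 := ((c20_5 F369795 F364589 (iv4 F361147) (iv3 F378851) D218802 (iv3 D218848) D218849 F495899 F488956 F369860 (iv1 F369794))).symm
theorem F495901 : act 3 n218802 = n190181 := (sb E104044 (iv3 D218848))
theorem F495902 : act 4 n218802 = n198315 := d5_2 (iv4 D218849) (iv3 F495901) F407577 D198319 (iv3 F495900)
theorem F495903 : act 0 n190204 = n218849 := d20_4 D145309 D212086 F464277 F401259 F495900 (iv4 D198319) D198317 (iv4 F413113) F413112 (iv1 D145308)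
theorem F495904 : act 5 n218849 = n196954 := d17_1 F495903 (iv1 F402436) (iv5 F495837) F495836 (iv5 D206325) (iv0 F354132) (iv5 F379070) (iv0 D190205) (iv4 F379068)
theorem F495905 : act 2 n218849 = n217454 := d15_3 (iv0 D217454) (iv0 F402435) (iv7 F495898)
theorem F495906 : act 4 n217454 = n190878 := d1_2 D218849 F495905 F381436
theorem F495907 : act 5 n217454 = n199141 := d2_2 (iv5 F495904) F495905 F410852
theorem F495908 : act 7 n217454 = n199140 := d4_2 (iv7 F495898) F495905 F410848
def n218850 : Q := act 5 n190181
theorem D218850 : act 5 n190181 = n218850 := rfl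
theorem F495909 : act 7 n218850 = n216526 := d13_2 (iv7 F381437) D218850 F484814
theorem F495910 : act 4 n218850 = n214801 := d18_5 (iv1 D190206) (iv4 F379068) F495903 (iv4 D218849) D218850 F476923 F415007 (iv0 F379358) F379076
theorem F495911 : act 0 n196950 = n218850 := d20_1 (iv4 F402432) F495910 (iv3 F476920) (iv1 F464222) F228330 F104285 (iv1 F78387) (iv4 F165057) D196556 F407856
def n218851 : Q := act 6 n190181
theorem D218851 : act 6 n190181 = n218851 := rfl
theorem F495912 : act 5 n218851 = n191237 := d21_6 F71472 (iv1 F34034) D44690 D95684 D190181 D218851 (iv1 D191237) F150185 (iv6 D95687) (iv1 F71478)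
def n218852 : Q := act 3 n190182
theorem D218852 : act 3 n190182 = n218852 := rfl
theorem F495913 : act 5 n218852 = n202782 := d6_2 F495579 D218852 (iv3 F495577)
theorem F495914 : act 6 n218852 = n215008 := d7_2 F381311 D218852 F477862
theorem F495915 : act 0 n218852 = n218126 := d19_4 F393673 D199140 (iv4 F410850) D218852 F492252 (iv4 F431961) F431957 (iv1 F341365) F341367 (iv4 D81890) F117267 (iv1 D45157) (iv5 D21556) (iv4 F33916) (iv3 F71134) (iv1 F308537) (iv5 F340810) (iv4 F402290) (iv3 F402292)
def n218853 : Q := act 1 n190184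
theorem D218853 : act 1 n190184 = n218853 := rfl
theorem F495916 : act 1 n218853 = n217407 := d15_1 D218853 F488767 F381559
theorem F495917 : act 4 n218853 = n190738 := d18_7 F387868 F155004 (iv1 F343084) F291781 F158650 D190184 D218853 F488888 F488883
theorem F495918 : act 2 n217079 = n218853 := d1_3 F495917 F380876 D217079
theorem F495919 : act 6 n214702 = n218853 := d10_0 F495917 (iv6 F467452) (iv4 F476452)
def n218854 : Q := act 0 n190186
theorem D218854 : act 0 n190186 = n218854 := rfl
theorem F495920 : act 4 n218854 = n211979 := d18_1 D218854 (iv1 F474039) F474037 (iv5 D214095) (iv4 F443505) (iv0 F471900) F471897 (iv0 F394257) F394255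
theorem F495921 : act 5 n218854 = n211344 := d19_1 D218854 F461215 F447330 F390489 F390487 F262995 F310548 (iv1 F128706) (iv5 F274113) (iv4 F368960) (iv3 F372375) (iv1 F372379) F369426 (iv4 F291777) F75215 D47898 F75216 D95686 D190186
theorem F495922 : act 3 n211345 = n218854 := d6_3 F495921 F461214 D211345
theorem F495923 : act 6 n209511 = n218854 := d12_0 F495921 (iv6 D211344) (iv5 F420010) F420011 D209511
def n218855 : Q := act 1 n190186
theorem D218855 : act 1 n190186 = n218855 := rfl
theorem F495924 : act 4 n218855 = n211980 := d17_9 (iv1 D211980) (iv5 D144552) D144550 D211976 (iv4 F483006) F483007 (iv0 F394257) F394255 D218855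
def n218856 : Q := act 6 n190186
theorem D218856 : act 6 n190186 = n218856 := rfl
theorem F495925 : act 2 n218856 = n218005 := d3_1 D218856 F491646 F463288
theorem F495926 : act 3 n218856 = n190187 := d7_1 D218856 (iv6 D190187) D190186
theorem F495927 : act 4 n218856 = n211497 := d10_1 D218856 F461825 (iv4 F425787)
theorem F495928 : act 5 n218856 = n216904 := d12_1 D218856 F492531 F492525 F394258 F394255
theorem F495929 : act 0 n191873 = n218856 := d21_4 (iv5 D214668) (iv1 D160568) D160570 (iv6 F384631) (iv6 D218856) (iv5 F394255) F394257 (iv5 F483007) (iv6 D216111) (iv1 F476312)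
def n218857 : Q := act 0 n190187
theorem D218857 : act 0 n190187 = n218857 := rfl
theorem F495930 : act 6 n218857 = n214633 := d21_5 F369607 (iv1 F159824) (iv5 F367196) D190187 D218857 (iv5 D214633) (iv1 F253404) (iv5 F412089) (iv6 D190869) (iv1 F369609)
theorem F495931 : act 2 n194761 = n218857 := d15_3 (iv0 D218857) (iv0 F413090) F413089
theorem F495932 : act 1 n211386 = n218857 := d15_0 (iv0 D218857) (iv7 F471648) F471645
theorem F495933 : act 7 n218857 = n194766 := d15_2 (iv0 F461364) F495932 F413091
theorem F495934 : act 4 n218857 = n191020 := d18_7 (iv1 F361260) (iv4 F382278) F395666 F395664 (iv5 F381448) (iv4 F461361) F495932 (iv0 D191020) F290796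
def n218858 : Q := act 5 n190189
theorem D218858 : act 5 n190189 = n218858 := rfl
theorem F495935 : act 6 n218858 = n191219 := d12_2 F476169 D218858 F439760 (iv6 F474588) F476171
theorem F495936 : act 7 n218858 = n215655 := d13_2 (iv7 F478515) D218858 F480982
theorem F495937 : act 4 n218858 = n191161 := d17_4 (iv1 F382699) (iv5 F381448) (iv1 F381451) D218858 (iv5 F435367) (iv0 D163410) D163413 F327188 (iv4 F382704)
theorem F495938 : act 1 n218858 = n205243 := d17_8 D205241 (iv5 F435575) F478358 F478353 F382687 F150185 D190189 D218858 (iv4 D205243)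
theorem F495939 : act 1 n217495 = n218858 := d15_0 F495938 (iv7 F486042) (iv2 F489163)
def n218859 : Q := act 6 n190191
theorem D218859 : act 6 n190191 = n218859 := rfl
theorem F495940 : act 2 n218859 = n190193 := d3_1 D218859 (iv6 D190193) D190191
theorem F495941 : act 3 n218859 = n217408 := d7_1 D218859 (iv6 D217408) (iv3 F379049)
theorem F495942 : act 4 n218859 = n190225 := d10_1 D218859 F379164 (iv4 F379162)
theorem F495943 : act 5 n218859 = n218680 := d12_1 D218859 (iv6 D218680) (iv5 D189862) D189863 (iv5 F379050)
theorem F495944 : act 0 n218859 = n198562 := d21_4 F380414 (iv1 F380412) (iv5 F379050) D218859 F408609 (iv5 D198472) (iv1 F393850) F393847 (iv6 D190176) D190173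
def n218860 : Q := act 6 n190192
theorem D218860 : act 6 n190192 = n218860 := rfl
theorem F495945 : act 2 n218860 = n190225 := d3_1 D218860 F379164 F379163
theorem F495946 : act 4 n218860 = n190193 := d10_1 D218860 (iv6 D190193) D190192
theorem F495947 : act 5 n218860 = n206163 := d12_1 D218860 (iv6 F439530) F382173 (iv6 F366598) F379052
theorem F495948 : act 7 n218860 = n190226 := d14_2 (iv7 F379159) D218860 F379122 (iv7 F408171) (iv6 F408173)
theorem F495949 : act 0 n190215 = n218860 := d21_4 (iv5 D187230) (iv1 F137891) D95739 (iv6 F379103) (iv6 D218860) (iv5 F379052) (iv1 F366532) (iv5 F369646) (iv6 D187256) F369573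
theorem F495950 : act 1 n190228 = n218860 := d15_0 (iv0 F495949) (iv7 F379105) (iv2 F379129)
def n218861 : Q := act 0 n190193
theorem D218861 : act 0 n190193 = n218861 := rfl
theorem F495951 : act 5 n218861 = n198561 := d17_3 F408788 (iv5 F379054) D218861 F408347 (iv5 F459681) F459684 F406099 (iv0 F407675) (iv4 F408786)
theorem F495952 : act 4 n218861 = n198723 := d18_1 D218861 (iv1 D198723) F381615 (iv5 F394856) (iv4 F459691) F459693 (iv4 F495128) (iv0 D218682) (iv5 F379054)
theorem F495953 : act 2 n198562 = n218861 := d15_3 (iv0 D218861) (iv0 F414159) F414157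
theorem F495954 : act 3 n218861 = n215910 := d0_2 (iv3 F408348) F495953 F482046 F480234 F365862
def n218862 : Q := act 7 n190193
theorem D218862 : act 7 n190193 = n218862 := rfl
theorem F495955 : act 3 n218862 = n190197 := d8_1 D218862 (iv7 D190197) (iv3 F379053)
theorem F495956 : act 4 n218862 = n190226 := d11_1 D218862 (iv7 F495948) F495946
theorem F495957 : act 5 n218862 = n218683 := d13_1 D218862 (iv7 D218683) (iv5 F379054)
theorem F495958 : act 6 n218862 = n213838 := d14_1 D218862 F472318 (iv6 D190883) F149616 D190193
theorem F495959 : act 0 n198562 = n218862 := d21_1 D198562 F495957 F495133 (iv1 F414310) (iv6 D199952) (iv5 F248412) F408270 (iv5 D198537) D198538 F414148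
def n218863 : Q := act 0 n190198
theorem D218863 : act 0 n190198 = n218863 := rfl
theorem F495960 : act 4 n218863 = n190313 := d18_3 (iv1 D190200) (iv4 F379063) D218863 (iv5 F488684) (iv4 D217388) F369900 F369896 D215139 (iv5 F478552)
theorem F495961 : act 6 n218863 = n204726 := d21_5 F360807 (iv1 F293848) F149684 D190198 D218863 F433443 (iv1 F406201) F389424 (iv6 D193303) F360809
def n218864 : Q := act 1 n190198
theorem D218864 : act 1 n190198 = n218864 := rfl
theorem F495962 : act 4 n218864 = n190314 := d18_7 (iv1 F369841) (iv4 F379181) F379182 F369750 (iv5 F147384) (iv4 F379063) D218864 F381892 F381890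
def n218865 : Q := act 3 n190199
theorem D218865 : act 3 n190199 = n218865 := rfl
theorem F495963 : act 5 n218865 = n214817 := d6_2 F478547 D218865 (iv3 F495889)
theorem F495964 : act 7 n218865 = n217412 := d8_2 F488994 D218865 F488791
theorem F495965 : act 4 n215479 = n218865 := d19_2 (iv1 F395263) D215479 (iv3 D218865) (iv1 F381367) F381364 (iv4 F488534) F488533 F463277 F379161 F366536 (iv3 D156636) (iv1 F316994) (iv5 F204834) (iv4 F230979) (iv3 F339602) F348624 F262056 (iv4 F352057) D194975
theorem F495966 : act 2 n218865 = n217411 := d1_1 F495965 F488785 (iv2 F480202)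
theorem F495967 : act 6 n218865 = n214884 := d10_2 F492130 F495965 (iv4 F492129)
theorem F495968 : act 0 n218865 = n217413 := d18_2 F480199 F495965 (iv4 F488919) F488920 (iv4 F460156) F460159 (iv4 F414075) (iv0 F414082) D215487
theorem F495969 : act 1 n218865 = n191042 := d18_6 F380565 (iv4 F394760) F413608 (iv4 F413609) D215479 F495965 F381959 (iv0 F381457) F381456
def n218866 : Q := act 4 n190199
theorem D218866 : act 4 n190199 = n218866 := rfl
theorem F495970 : act 1 n218866 = n191031 := d18_6 F489016 F477469 (iv1 F394971) (iv4 F478549) F478547 D218866 F381938 D191033 (iv5 F489015)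
def n218867 : Q := act 6 n190199
theorem D218867 : act 6 n190199 = n218867 := rfl
theorem F495971 : act 3 n218867 = n214884 := d7_1 D218867 (iv6 F495967) (iv3 D218865)
theorem F495972 : act 5 n218867 = n190509 := d12_1 D218867 F464052 D218485 F494126 F478547
theorem F495973 : act 0 n204728 = n218867 := d21_4 F149603 F326718 (iv5 F474447) (iv6 F474449) (iv6 D218867) (iv5 F478547) (iv1 F478548) D217384 F488670 (iv1 D190871)
def n218868 : Q := act 3 n190200
theorem D218868 : act 3 n190200 = n218868 := rfl
def n218869 : Q := act 4 n190200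
theorem D218869 : act 4 n190200 = n218869 := rfl
theorem F495974 : act 5 n218869 = n214088 := d16_1 D218869 F473424 (iv5 D199133) (iv4 F410806) F410807 (iv4 F478549) F478547 (iv7 F488994) F488996
theorem F495975 : act 0 n218869 = n191031 := d18_2 (iv1 F381366) D218869 F381938 F149882 (iv4 F369601) (iv0 F381607) F381606 F369751 (iv5 F381364)
def n218870 : Q := act 6 n190200
theorem D218870 : act 6 n190200 = n218870 := rfl
def n218871 : Q := act 3 n190201
theorem D218871 : act 3 n190201 = n218871 := rfl
theorem F495976 : act 4 n218871 = n190203 := d5_2 D190201 D218871 (iv3 D190203) (iv4 D95699) (iv3 F147386)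
theorem F495977 : act 0 n218871 = n207638 := d19_4 (iv1 F137862) D95697 D190201 D218871 (iv5 D207638) (iv4 F216447) F216446 F101883 (iv5 F327999) F313959 D68448 D145994 (iv5 F418898) F418897 (iv3 F337254) (iv1 F156959) F335751 D186562 F289499
theorem F495978 : act 6 n212086 = n218871 := d10_0 F495976 F401258 (iv4 F464277)
def n218872 : Q := act 5 n190201
theorem D218872 : act 5 n190201 = n218872 := rfl
theorem F495979 : act 2 n218872 = n217429 := d2_1 D218872 (iv5 D217429) (iv2 F379064)
theorem F495980 : act 4 n218872 = n217355 := d16_2 D190201 D218872 (iv5 D217355) (iv4 D187225) (iv5 D89824) F64731 D89824 (iv7 F137995) (iv2 F147385)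
def n218873 : Q := act 6 n190201
theorem D218873 : act 6 n190201 = n218873 := rfl
theorem F495981 : act 2 n218873 = n217430 := d3_1 D218873 (iv6 D217430) (iv2 F379064)
theorem F495982 : act 3 n218873 = n212086 := d7_1 D218873 F495978 (iv3 D218871)
theorem F495983 : act 4 n218873 = n190202 := d10_1 D218873 (iv6 D190202) D190201
def n218874 : Q := act 0 n190202
theorem D218874 : act 0 n190202 = n218874 := rfl
theorem F495984 : act 3 n218874 = n214725 := d20_5 F410850 F410851 F379068 (iv3 F379066) D218874 (iv4 F476554) (iv1 D214697) (iv4 F257579) (iv3 F381431) (iv1 F381434)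
theorem F495985 : act 7 n217432 = n218874 := d8_0 F495984 F476552 F488848
theorem F495986 : act 0 n218874 = n217433 := d19_4 F393740 (iv5 F476434) F476554 (iv3 F495984) F488853 F458667 F222813 D139645 D210752 F458691 (iv3 D193770) (iv1 D102311) F291468 (iv4 D43877) (iv3 F68975) D93859 (iv5 F193571) (iv4 F251680) D194576
theorem F495987 : act 2 n218874 = n217431 := d15_3 (iv0 D217431) D217432 F495985
def n218875 : Q := act 1 n190202
theorem D218875 : act 1 n190202 = n218875 := rfl
theorem F495988 : act 1 n218875 = n217433 := d15_1 D218875 (iv7 D217433) (iv2 F379065)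
theorem F495989 : act 7 n218875 = n217431 := d15_2 (iv0 D218874) D218875 (iv2 F495987)
theorem F495990 : act 5 n212767 = n218875 := d21_6 (iv5 D103026) (iv1 D47765) D47766 (iv6 F106430) D149236 D212767 (iv1 D218875) (iv5 F393697) (iv6 D194562) F363042
theorem F495991 : act 2 n218875 = n217432 := d2_1 F495990 (iv5 F488851) (iv2 F467427)
def n218876 : Q := act 7 n190202
theorem D218876 : act 7 n190202 = n218876 := rfl
theorem F495992 : act 2 n218876 = n217433 := d4_1 D218876 (iv7 D217433) (iv2 F379065)
theorem F495993 : act 3 n218876 = n190207 := d8_1 D218876 (iv7 D190207) (iv3 F379066)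
theorem F495994 : act 6 n218876 = n218091 := d14_1 D218876 F492116 (iv6 D190905) F149643 D190202
theorem F495995 : act 1 n217432 = n218876 := d15_1 D217432 (iv7 D218876) F379065
theorem F495996 : act 1 n218876 = n217431 := d15_1 F495995 (iv7 F495989) F495991
def n218877 : Q := act 0 n190203
theorem D218877 : act 0 n190203 = n218877 := rfl
theorem F495997 : act 5 n218877 = n193312 := d19_1 D218877 (iv4 F397738) (iv3 F493323) F493326 F387994 (iv4 F353230) (iv3 F353231) F243338 D212680 F467028 (iv3 F383437) (iv1 F383439) F151782 F72596 F71605 (iv1 F63262) D44697 D95699 D190203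
theorem F495998 : act 2 n193315 = n218877 := d2_3 F495997 F389439 D193315
theorem F495999 : act 3 n218326 = n218877 := d6_3 F495997 F389440 D218326
theorem F496000 : act 7 n193310 = n218877 := d13_0 F495997 (iv7 D193312) D193310
def n218878 : Q := act 1 n190203
theorem D218878 : act 1 n190203 = n218878 := rfl
theorem F496001 : act 7 n218878 = n193315 := d15_2 (iv0 D218877) D218878 F495998
theorem F496002 : act 5 n218878 = n193308 := d17_7 (iv1 F378398) F378399 F390448 (iv5 D193607) (iv4 F389265) F389266 D218878 F389443 F156258
theorem F496003 : act 2 n193310 = n218878 := d2_3 F496002 (iv2 D193308) D193310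
theorem F496004 : act 3 n215469 = n218878 := d6_3 F496002 (iv3 F457202) F480135
def n218879 : Q := act 7 n190204
theorem D218879 : act 7 n190204 = n218879 := rfl
theorem F496005 : act 2 n218879 = n217456 := d4_1 D218879 (iv7 D217456) (iv2 F379067)
theorem F496006 : act 3 n218879 = n196559 := d8_1 D218879 F401081 F401259
theorem F496007 : act 4 n218879 = n190207 := d11_1 D218879 (iv7 D190207) (iv4 F379068)
theorem F496008 : act 5 n218879 = n196854 := d13_1 D218879 (iv7 F445464) F445462
theorem F496009 : act 6 n218879 = n197924 := d14_1 D218879 F406206 (iv6 D190907) F149645 D190204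
theorem F496010 : act 1 n196953 = n218879 := d15_1 (iv0 F402435) (iv7 D218879) F379067
theorem F496011 : act 1 n218879 = n217454 := d15_1 F496010 F495908 F410848
theorem F496012 : act 3 n214654 = n217454 := d19_19 (iv1 F496011) F496008 F402046 (iv3 F393699) F397271 (iv5 F415946) (iv4 F447858) F447861 (iv1 F455792) F455794 (iv4 D198582) (iv3 F395461) F395464 F161230 (iv4 F175752) D200221 (iv1 F416386) D200438 F476233
def n218880 : Q := act 4 n190206
theorem D218880 : act 4 n190206 = n218880 := rfl
theorem F496013 : act 2 n218880 = n212196 := d1_1 D218880 (iv4 F464713) (iv2 F379077)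
theorem F496014 : act 3 n218880 = n200107 := d5_1 D218880 (iv4 F436683) (iv3 F461548) (iv4 F463284) F463283
theorem F496015 : act 5 n218880 = n200100 := d9_2 F379076 D218880 F415007 D211711 F462797 (iv5 D205102) F201794 (iv5 F379070) (iv4 F476932) (iv5 D214803) F256840 D206325 (iv4 F495836) F495837 F393672
theorem F496016 : act 6 n218880 = n202766 := d10_2 F381858 D218880 F425485
theorem F496017 : act 7 n218880 = n217457 := d11_2 (iv7 F379075) D218880 (iv4 D217457)
theorem F496018 : act 0 n218880 = n190877 := d17_0 F480446 (iv1 D215547) D215548 (iv4 F480449) F463256 (iv0 D194563) F159215 D190206 D218880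
theorem F496019 : act 1 n218880 = n218847 := d18_8 (iv1 F480437) F480040 (iv1 F393704) (iv4 F445461) F445462 F379068 D190206 D218880 F495895
def n218881 : Q := act 1 n190210
theorem D218881 : act 1 n190210 = n218881 := rfl
theorem F496020 : act 1 n218881 = n216819 := d15_1 D218881 F486052 F381727
theorem F496021 : act 4 n218881 = n190485 := d18_7 D96051 F147664 F157292 F147420 D95728 D190210 D218881 (iv0 D190485) (iv5 D96054)
theorem F496022 : act 2 n208083 = n218881 := d1_3 F496021 F381228 (iv4 F447810)
def n218882 : Q := act 5 n190210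
theorem D218882 : act 5 n190210 = n218882 := rfl
theorem F496023 : act 3 n218882 = n214651 := d6_1 D218882 F476226 (iv3 F379090)
def n218883 : Q := act 5 n190213
theorem D218883 : act 5 n190213 = n218883 := rfl
theorem F496024 : act 2 n218883 = n190219 := d2_1 D218883 (iv5 D190219) F379097
theorem F496025 : act 3 n218883 = n214808 := d6_1 D218883 F476952 F432340
theorem F496026 : act 6 n218883 = n214807 := d12_2 F474180 D218883 (iv5 D214807) (iv6 F382058) (iv5 F474175)
theorem F496027 : act 7 n218883 = n190223 := d13_2 F379098 D218883 (iv5 D190223)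
theorem F496028 : act 0 n218883 = n212550 := d17_2 D190213 D218883 (iv5 D212550) F231539 D147812 F405302 (iv5 F464969) (iv0 F464972) F347846
theorem F496029 : act 1 n218883 = n217398 := d17_8 D217396 F488721 (iv1 F392206) (iv5 F392209) (iv4 F379131) F379132 F379100 D218883 (iv4 D217398)
def n218884 : Q := act 5 n190214
theorem D218884 : act 5 n190214 = n218884 := rfl
theorem F496030 : act 2 n218884 = n190223 := d2_1 D218884 (iv5 D190223) (iv2 F379099)
theorem F496031 : act 3 n218884 = n190268 := d6_1 D218884 (iv5 D190268) F379095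
theorem F496032 : act 6 n218884 = n217459 := d12_2 F392698 D218884 F488967 (iv6 F416024) F392695
theorem F496033 : act 7 n218884 = n190219 := d13_2 (iv7 F379096) D218884 (iv5 D190219)
theorem F496034 : act 0 n218884 = n217398 := d17_2 (iv1 F379094) D218884 F488733 F439535 (iv5 F408978) (iv0 D148665) (iv5 F130725) (iv0 F347843) F347844
theorem F496035 : act 4 n218884 = n214750 := d17_4 (iv1 F495950) F379132 (iv1 F379094) D218884 F476649 F414152 (iv5 F495951) (iv0 D218861) (iv4 F495946)
theorem F496036 : act 1 n218884 = n212550 := d17_8 F443834 (iv5 D194159) F365880 (iv5 F369543) (iv4 F379104) (iv5 D190215) D190214 D218884 F466383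
def n218885 : Q := act 4 n190219
theorem D218885 : act 4 n190219 = n218885 := rfl
theorem F496037 : act 7 n218885 = n214750 := d11_2 F496033 D218885 (iv4 F496035)
theorem F496038 : act 0 n218885 = n198566 := d17_0 (iv5 F408787) F408788 (iv5 F379054) (iv4 F495946) F495947 (iv0 F439533) (iv5 F489039) (iv0 F489041) D218885
theorem F496039 : act 3 n218885 = n214712 := d19_3 D95746 D190219 D218885 (iv1 D214712) F348747 (iv4 F479702) F479701 (iv1 D215234) (iv5 F359314) F314542 F312230 F95838 F309980 F51761 (iv3 F52622) F130785 D33709 (iv4 F312407) (iv3 F70300)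
theorem F496040 : act 5 n198538 = n218885 := d19_1 F414147 (iv4 D218885) (iv3 F492255) F492258 (iv5 D191106) (iv4 F259112) F374030 (iv1 D188573) (iv5 D92494) F67866 (iv3 D41692) (iv1 F64332) (iv5 F136930) F291551 F352032 F352030 F346412 (iv4 F408063) (iv3 F414144)
def n218886 : Q := act 5 n190221
theorem D218886 : act 5 n190221 = n218886 := rfl
theorem F496041 : act 3 n218886 = n190223 := d6_1 D218886 (iv5 D190223) D190221
theorem F496042 : act 6 n218886 = n215710 := d12_2 F486659 D218886 F481196 (iv6 F289224) (iv5 F486658)
theorem F496043 : act 7 n218886 = n214808 := d13_2 F432339 D218886 F476952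
theorem F496044 : act 0 n218886 = n217268 := d18_0 F488201 (iv1 D211434) (iv4 F348936) F348934 D190123 (iv0 F378936) (iv4 F368384) F379119 D218886
theorem F496045 : act 4 n218886 = n211380 := d19_2 (iv1 F487338) D218886 F461339 F353408 (iv5 D150710) (iv4 D71061) (iv3 D32905) (iv1 D15845) (iv5 D7428) F5400 (iv3 F5787) D8463 D17942 D37381 D81773 (iv1 F312452) (iv5 F252622) (iv4 F378322) (iv3 F487335)
def n218887 : Q := act 4 n190223
theorem D218887 : act 4 n190223 = n218887 := rfl
theorem F496046 : act 2 n218887 = n214750 := d1_1 D218887 (iv4 F496035) F496030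
theorem F496047 : act 3 n218887 = n211381 := d5_1 D218887 (iv4 D211381) (iv3 F461339) (iv4 F496045) F496041
theorem F496048 : act 5 n218887 = n198559 := d17_5 (iv1 F379133) (iv5 F379108) (iv1 F379109) D190223 D218887 (iv0 D198559) D198562 (iv0 F495944) F495942
theorem F496049 : act 0 n198566 = n218887 := d20_10 (iv4 D218887) (iv1 F439540) F488729 F488726 (iv1 F447870) F418450 D200945 F418453 (iv4 D198567) D198566
def n218888 : Q := act 6 n190223
theorem D218888 : act 6 n190223 = n218888 := rfl
theorem F496050 : act 2 n218888 = n217459 := d3_1 D218888 (iv6 F496032) F496030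
theorem F496051 : act 3 n218888 = n215710 := d7_1 D218888 (iv6 F496042) F496041
theorem F496052 : act 5 n218888 = n190764 := d12_1 D218888 (iv6 F486636) F486635 (iv6 D190224) D190223
theorem F496053 : act 7 n218888 = n215703 := d14_2 F496027 D218888 F481176 (iv7 F476948) (iv6 F496026)
theorem F496054 : act 0 n218888 = n217460 := d21_4 (iv5 F379108) (iv1 F379109) D190223 D218888 F488973 (iv5 D210442) (iv1 F366533) (iv5 F379161) (iv6 F379164) (iv1 F379133)
theorem F496055 : act 0 n217458 = n218888 := d21_4 F369586 (iv1 F160393) (iv5 F369863) D217458 (iv6 D218888) (iv5 D190223) (iv1 D95747) D95748 F147443 D95757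
def n218889 : Q := act 3 n190226
theorem D218889 : act 3 n190226 = n218889 := rfl
theorem F496056 : act 4 n218889 = n211385 := d5_2 F495956 D218889 (iv3 D211385) (iv4 F379061) (iv3 F495955)
theorem F496057 : act 5 n218889 = n213835 := d6_2 F379121 D218889 F472306
theorem F496058 : act 6 n218889 = n213836 := d7_2 (iv6 F379122) D218889 F472310
theorem F496059 : act 0 n218889 = n217141 := d19_4 F495134 (iv5 F495957) F495956 D218889 (iv5 D217141) F368384 F255567 (iv1 F341513) F341505 (iv4 F410551) F410550 (iv1 F400672) F228361 F104293 (iv3 F104286) (iv1 F203874) (iv5 F203877) F202927 (iv3 F409002)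
def n218890 : Q := act 6 n190231
theorem D218890 : act 6 n190231 = n218890 := rfl
theorem F496060 : act 2 n218890 = n214211 := d3_1 D218890 F475741 F475736
theorem F496061 : act 3 n218890 = n190234 := d7_1 D218890 (iv6 D190234) (iv3 F379140)
theorem F496062 : act 4 n218890 = n217816 := d10_1 D218890 F490773 (iv4 F379141)
theorem F496063 : act 5 n218890 = n192873 := d12_1 D218890 (iv6 D192873) F379146 (iv6 D190232) D190231
def n218891 : Q := act 6 n190233
theorem D218891 : act 6 n190233 = n218891 := rfl
theorem F496064 : act 3 n218891 = n217417 := d7_1 D218891 (iv6 F495851) F495850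
theorem F496065 : act 4 n218891 = n190234 := d10_1 D218891 (iv6 D190234) D190233
theorem F496066 : act 5 n218891 = n217416 := d12_1 D218891 F488800 F463824 (iv6 F425931) F425930
def n218892 : Q := act 1 n190234
theorem D218892 : act 1 n190234 = n218892 := rfl
theorem F496067 : act 1 n218892 = n209302 := d15_1 D218892 (iv7 F488572) F488569
theorem F496068 : act 7 n218892 = n217474 := d15_2 (iv0 F453199) D218892 (iv2 D217474)
theorem F496069 : act 5 n214204 = n218892 := d21_0 (iv1 D218892) F453198 F453195 F379150 D192419 (iv5 F488603) F488604 F463180 (iv6 F247455) D214204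
theorem F496070 : act 6 n217398 = n218892 := d21_3 (iv5 F436742) (iv1 F439537) (iv5 F488733) (iv1 D218892) (iv6 D190234) (iv5 D95755) (iv1 D44721) D44722 (iv6 F147443) D190225
theorem F496071 : act 2 n218892 = n217436 := d3_1 F496070 F488868 (iv2 F488731)
theorem F496072 : act 3 n218892 = n217481 := d7_1 F496070 F489082 (iv3 F488732)
theorem F496073 : act 4 n218892 = n217399 := d10_1 F496070 (iv6 D217399) D217398
def n218893 : Q := act 3 n190242
theorem D218893 : act 3 n190242 = n218893 := rfl
theorem F496074 : act 5 n218893 = n194347 := d6_2 (iv5 F379161) D218893 (iv3 F466467)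
theorem F496075 : act 6 n218893 = n218128 := d7_2 F379164 D218893 (iv3 F492262)
def n218894 : Q := act 4 n190243
theorem D218894 : act 4 n190243 = n218894 := rfl
theorem F496076 : act 3 n218894 = n217430 := d5_1 D218894 F488845 F369781 F358005 (iv3 F379165)
theorem F496077 : act 6 n218894 = n217428 := d10_2 F379166 D218894 F488837
theorem F496078 : act 5 n218894 = n213148 := d16_1 D218894 (iv4 D213148) (iv5 D152703) (iv4 F324173) F210746 (iv4 F362079) D190289 (iv7 F381853) F381851
theorem F496079 : act 0 n218894 = n207925 := d18_2 F439520 D218894 F447019 (iv5 D206190) (iv4 D127720) (iv0 D59962) (iv4 F94399) D127616 D206159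
theorem F496080 : act 1 n218894 = n207949 := d18_6 (iv1 D149265) F106462 D70064 (iv4 F362071) D190243 D218894 F447108 (iv0 F467443) (iv5 D212770)
def n218895 : Q := act 4 n190246
theorem D218895 : act 4 n190246 = n218895 := rfl
theorem F496081 : act 7 n218895 = n206161 := d11_2 (iv7 F379179) D218895 (iv4 D206161)
theorem F496082 : act 5 n218895 = n206992 := d16_1 D218895 (iv4 F442883) (iv5 F347023) (iv4 F344087) (iv5 D127716) (iv4 F205180) (iv5 F379308) (iv7 F381869) F381868
theorem F496083 : act 1 n218895 = n212773 := d18_6 (iv1 F439646) (iv4 D206189) (iv1 F205321) (iv4 F205185) (iv5 F379178) D218895 (iv4 D212773) D212772 F467447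
def n218896 : Q := act 6 n190246
theorem D218896 : act 6 n190246 = n218896 := rfl
theorem F496084 : act 3 n218896 = n190247 := d7_1 D218896 (iv6 D190247) D190246
theorem F496085 : act 5 n218896 = n194583 := d12_1 D218896 F393757 F385999 (iv6 F353139) (iv5 F379178)
theorem F496086 : act 0 n218896 = n215096 := d21_4 (iv5 D218707) F378359 (iv5 F379178) D218896 (iv6 D215096) (iv5 D166413) D166411 D215094 F478312 (iv1 F495252)
def n218897 : Q := act 0 n190253
theorem D218897 : act 0 n190253 = n218897 := rfl
theorem F496087 : act 4 n218897 = n217344 := d18_3 (iv1 F343070) D190253 D218897 (iv5 D217344) (iv4 D187221) (iv0 D89822) F64731 F289565 D96528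
theorem F496088 : act 5 n218897 = n207750 := d21_8 F437423 F203585 D205752 (iv6 F465370) (iv1 D212333) (iv6 F452059) F452058 D218897 (iv6 D207750) (iv1 F437426)
theorem F496089 : act 1 n190301 = n218897 := d15_0 (iv0 D218897) (iv7 F381985) F381984
theorem F496090 : act 1 n218872 = n207750 := d17_6 F369553 (iv5 D187222) (iv1 F137862) D95697 D190201 D218872 (iv5 F496088) (iv0 D218897) (iv4 D190253)
theorem F496091 : act 1 n207750 = n217355 := d15_1 F496090 (iv7 F488844) (iv2 F495979)
theorem F496092 : act 6 n218897 = n207752 := d21_9 (iv5 D205806) (iv1 F203668) D132176 (iv6 F445801) (iv1 F456910) (iv6 F456911) D217355 (iv1 F496091) (iv5 F496088) F446241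
theorem F496093 : act 7 n218699 = n218897 := d11_0 F496087 F488541 D218699
def n218898 : Q := act 1 n190253
theorem D218898 : act 1 n190253 = n218898 := rfl
theorem F496094 : act 1 n218898 = n190301 := d15_1 D218898 (iv7 F381895) F381894
theorem F496095 : act 4 n218898 = n190739 := d18_7 (iv1 F482764) F393234 F343082 F76045 (iv5 F147459) D190253 D218898 (iv0 F482762) (iv5 F482760)
theorem F496096 : act 2 n218699 = n218898 := d1_3 F496095 F380878 D218699
theorem F496097 : act 6 n212773 = n218898 := d10_0 F496095 F380879 D212773
def n218899 : Q := act 0 n190254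
theorem D218899 : act 0 n190254 = n218899 := rfl
theorem F496098 : act 5 n218899 = n191150 := d17_3 (iv1 F382540) (iv5 F382541) D218899 (iv4 F382741) F382739 F367075 (iv5 F381220) (iv0 D190815) D190817
theorem F496099 : act 6 n218899 = n218089 := d21_5 (iv5 F369779) F343082 (iv5 F147459) D190254 D218899 (iv5 D218089) F373630 (iv5 F381504) (iv6 D190905) (iv1 F369776)
theorem F496100 : act 1 n216821 = n218899 := d15_0 (iv0 D218899) (iv7 F395290) (iv2 F486059)
theorem F496101 : act 2 n218090 = n218899 := d3_3 F496099 F492105 (iv6 F492110)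
theorem F496102 : act 4 n216793 = n218899 := d16_2 D185495 D216793 F496098 (iv4 F382741) F382739 F287916 F293665 F287738 F287736
def n218900 : Q := act 1 n190254
theorem D218900 : act 1 n190254 = n218900 := rfl
theorem F496103 : act 1 n218900 = n216821 := d15_1 D218900 F486062 F381896
theorem F496104 : act 7 n218900 = n218090 := d15_2 (iv0 D218899) D218900 F496101
theorem F496105 : act 5 n218900 = n190499 := d17_7 D97322 F357386 (iv1 F138331) F291953 D191191 (iv5 F382541) D218900 F379921 (iv4 D97324)
theorem F496106 : act 3 n218098 = n218900 := d6_3 F496105 F379919 (iv5 F492138)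
def n218901 : Q := act 3 n190255
theorem D218901 : act 3 n190255 = n218901 := rfl
theorem F496107 : act 2 n218901 = n211817 := d0_1 D218901 F463182 (iv2 F408185) (iv3 D194903) F379208
theorem F496108 : act 4 n218901 = n211789 := d5_2 F381671 D218901 (iv3 F477283) F477284 F381673
theorem F496109 : act 5 n218901 = n202830 := d6_2 (iv5 F379206) D218901 F425768
theorem F496110 : act 6 n218901 = n214726 := d7_2 (iv6 F476669) D218901 F476668
theorem F496111 : act 7 n218901 = n194905 := d8_2 F379209 D218901 (iv3 D194905)
theorem F496112 : act 0 n217442 = n218901 := d20_4 (iv4 D205078) (iv1 F434866) F434870 (iv3 F488895) (iv3 D218901) (iv4 F381671) (iv1 D190950) (iv4 F377140) (iv3 F477521) F477524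
def n218902 : Q := act 0 n190267
theorem D218902 : act 0 n190267 = n218902 := rfl
theorem F496113 : act 5 n218902 = n191102 := d17_3 D95794 D190267 D218902 F382230 (iv5 D185824) F288037 (iv5 D164484) (iv0 D78994) (iv4 F70331)
theorem F496114 : act 6 n218902 = n214203 := d21_5 F462918 F407959 (iv5 F463202) (iv6 F463205) D218902 F473977 F415760 F415758 (iv6 F495739) F495741
theorem F496115 : act 2 n191106 = n218902 := d15_3 (iv0 D218902) F463097 (iv7 F463095)
theorem F496116 : act 1 n190268 = n218902 := d15_0 (iv0 D218902) (iv7 F475666) F475665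
theorem F496117 : act 7 n218902 = n214215 := d15_2 (iv0 F463096) F496116 F474027
def n218903 : Q := act 4 n190268
theorem D218903 : act 4 n190268 = n218903 := rfl
theorem F496118 : act 3 n218903 = n214751 := d5_1 D218903 (iv4 D214751) D214750 (iv4 F496035) F496031
theorem F496119 : act 5 n218903 = n217441 := d9_2 D190268 D218903 (iv4 D217441) F369833 (iv4 F369335) F369338 F251678 D190267 (iv4 F463206) (iv5 F474000) F473999 F369827 F158401 F193580 (iv4 F193581)
theorem F496120 : act 1 n218903 = n217403 := d18_6 (iv1 F251965) F251962 (iv1 F193579) (iv4 F193581) D190268 D218903 (iv4 F495480) (iv0 D218750) (iv5 D190030)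
def n218904 : Q := act 6 n190268
theorem D218904 : act 6 n190268 = n218904 := rfl
theorem F496121 : act 3 n218904 = n217459 := d7_1 D218904 (iv6 F496032) F496031
theorem F496122 : act 5 n218904 = n218721 := d12_1 D218904 F495313 F379540 (iv6 D190269) D190268
theorem F496123 : act 6 n211845 = n194765 := d21_9 F379263 F382228 (iv5 F473977) (iv6 F496114) (iv1 F496116) D218904 F496122 (iv1 F495315) F486529 (iv1 F443930)
theorem F496124 : act 3 n194768 = n211845 := d7_3 F496123 (iv3 D194765) D194768
def n218905 : Q := act 6 n190270
theorem D218905 : act 6 n190270 = n218905 := rfl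
theorem F496125 : act 2 n218905 = n218893 := d3_1 D218905 F496075 (iv2 F492261)
theorem F496126 : act 3 n218905 = n215485 := d7_1 D218905 (iv6 F487740) F487739
theorem F496127 : act 5 n218905 = n218368 := d12_1 D218905 F493533 F375894 (iv6 F382244) (iv5 F382243)
theorem F496128 : act 0 n211850 = n218905 := d21_4 (iv5 F393732) F393733 F226862 D211850 (iv6 D218905) F382243 (iv1 F486105) F486103 (iv6 D214215) (iv1 F381688)
def n218906 : Q := act 0 n190272
theorem D218906 : act 0 n190272 = n218906 := rfl
theorem F496129 : act 5 n218906 = n190829 := d17_3 F381270 (iv5 F379254) D218906 (iv4 D190829) (iv5 D96975) F149557 (iv5 F381241) F381243 D190831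
theorem F496130 : act 4 n218906 = n214555 := d18_1 D218906 (iv1 F475774) (iv4 F381286) (iv5 D190839) (iv4 D96979) D96978 D190834 F381275 (iv5 F379254)
theorem F496131 : act 1 n190841 = n218906 := d15_0 (iv0 D218906) (iv7 F381963) F381961
theorem F496132 : act 3 n208011 = n218906 := d19_19 (iv1 F496131) F381291 F369542 F149905 (iv1 F369593) F369595 (iv4 F385463) F385462 (iv1 F291546) D189887 (iv4 F421273) F421271 (iv1 F179442) F179303 (iv4 F208180) F208179 F102061 D133170 D208011
theorem F496133 : act 7 n218906 = n218761 := d8_2 (iv7 F447427) F496132 F495533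
theorem F496134 : act 2 n218906 = n218758 := d15_3 F495521 (iv0 F495536) (iv7 F496133)
def n218907 : Q := act 1 n190272
theorem D218907 : act 1 n190272 = n218907 := rfl
theorem F496135 : act 1 n218907 = n190841 := d15_1 D218907 F492273 F492269
theorem F496136 : act 7 n218907 = n218758 := d15_2 (iv0 D218906) D218907 (iv2 F496134)
theorem F496137 : act 5 n218907 = n190825 := d17_7 F369821 (iv5 D187317) (iv1 D89898) D89900 D187321 (iv5 F379254) D218907 (iv0 F488693) (iv4 D217390)
theorem F496138 : act 4 n218907 = n214556 := d18_7 (iv1 F177604) (iv4 D114084) F142196 (iv4 F70331) D95796 D190272 D218907 F475769 F378628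
theorem F496139 : act 3 n190831 = n218907 := d19_19 (iv1 D218907) F379254 (iv4 D187321) F138036 F64837 (iv5 D23536) F17901 F7447 (iv1 F14824) (iv5 F14484) (iv4 F292202) (iv3 F31554) F291417 F291207 (iv4 F75066) (iv3 F139575) F370168 (iv5 F370169) D190831
theorem F496140 : act 2 n218761 = n218907 := d1_3 F496138 (iv2 F475773) D218761
def n218908 : Q := act 3 n190272
theorem D218908 : act 3 n190272 = n218908 := rfl
theorem F496141 : act 2 n218908 = n218815 := d0_1 D218908 F495780 (iv2 F381363) F492272 F492269
theorem F496142 : act 4 n218908 = n190298 := d5_2 D190272 D218908 (iv3 D190298) (iv4 D95819) (iv3 F147490)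
theorem F496143 : act 5 n218908 = n217443 := d6_2 (iv5 F379254) D218908 (iv3 D217443)
theorem F496144 : act 6 n218908 = n190284 := d7_2 (iv6 F379253) D218908 (iv3 D190284)
theorem F496145 : act 7 n218908 = n218796 := d8_2 F381963 D218908 F495695
theorem F496146 : act 0 n218908 = n215147 := d20_4 F488907 (iv1 D190271) D190272 D218908 (iv3 F478566) F393940 F378777 F369840 (iv3 F369836) D217444
theorem F496147 : act 0 n215143 = n218908 := d17_2 D166713 D215143 F496143 F488901 F369837 D194496 (iv5 F476481) (iv0 D214711) F253819
def n218909 : Q := act 6 n190273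
theorem D218909 : act 6 n190273 = n218909 := rfl
theorem F496148 : act 2 n218909 = n190840 := d3_1 D218909 (iv6 F492277) F492274
theorem F496149 : act 3 n218909 = n190300 := d7_1 D218909 (iv6 D190300) (iv3 F379255)
theorem F496150 : act 4 n218909 = n190820 := d10_1 D218909 (iv6 F381962) F381964
theorem F496151 : act 5 n218909 = n214554 := d12_1 D218909 (iv6 D214554) F251887 (iv6 F147494) (iv5 F379256)
theorem F496152 : act 7 n218909 = n190285 := d14_2 D190273 D218909 (iv6 D190285) (iv7 D95806) (iv6 F147491)
theorem F496153 : act 0 n218909 = n190837 := d21_4 (iv5 D218127) (iv1 F373901) (iv5 F379256) D218909 F381686 (iv5 D133385) (iv1 F112219) (iv5 F247463) D214215 (iv1 F492259)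
theorem F496154 : act 1 n218909 = n190836 := d15_1 (iv0 F496153) F474003 F473998
def n218910 : Q := act 4 n190274
theorem D218910 : act 4 n190274 = n218910 := rfl
theorem F496155 : act 2 n218910 = n217895 := d1_1 D218910 F491135 F487340
theorem F496156 : act 5 n218910 = n214459 := d9_2 D190274 D218910 (iv4 D214459) (iv5 F251386) (iv4 F475464) F475465 (iv4 F367604) D190231 F379141 (iv5 D188114) F139796 D90820 D188121 F372377 F367596
theorem F496157 : act 7 n218910 = n217570 := d11_2 F475738 D218910 F489546
theorem F496158 : act 0 n218910 = n194416 := d17_0 (iv5 F404721) F490789 (iv5 F490788) F487351 F487346 F394946 (iv5 F488546) (iv0 F488548) D218910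
theorem F496159 : act 1 n218910 = n217155 := d18_6 (iv1 F147293) (iv4 F136665) D186668 F367596 D190274 D218910 (iv4 D217155) (iv0 F378838) (iv5 D190094)
def n218911 : Q := act 6 n190276
theorem D218911 : act 6 n190276 = n218911 := rfl
theorem F496160 : act 2 n218911 = n194348 := d3_1 D218911 F392892 F379261
theorem F496161 : act 3 n218911 = n211813 := d7_1 D218911 (iv6 F463173) F381807
theorem F496162 : act 4 n218911 = n218852 := d10_1 D218911 F495914 F477863
theorem F496163 : act 5 n218911 = n194339 := d12_1 D218911 (iv6 D194339) (iv5 D103233) D103234 (iv5 F379260)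
def n218912 : Q := act 0 n190277
theorem D218912 : act 0 n190277 = n218912 := rfl
theorem F496164 : act 4 n218912 = n198823 := d18_3 F488700 F477954 D218912 (iv5 D198823) F170572 D110336 (iv4 F402351) F404480 (iv5 F488698)
theorem F496165 : act 5 n218912 = n200779 := d21_2 F395116 D218912 F429397 F418474 F408835 (iv5 F444614) (iv1 F444616) (iv5 F455812) (iv6 F489087) F489089
theorem F496166 : act 6 n218912 = n200316 := d21_5 (iv5 D44740) D44738 D95799 D190277 D218912 (iv5 F415966) (iv1 F476965) F476963 (iv6 D190281) (iv1 D95804)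
theorem F496167 : act 2 n208189 = n218912 := d15_3 (iv0 D218912) (iv0 F488664) F488663
theorem F496168 : act 3 n218912 = n214722 := d0_2 (iv3 F448289) F496167 F476541 F433472 F381511
theorem F496169 : act 0 n218912 = n214210 := d19_4 (iv1 F406250) (iv5 F433471) (iv4 F476539) (iv3 F496168) F474010 F414022 F201891 D125528 (iv5 F332827) F164186 (iv3 F164430) D196140 (iv5 F447456) F447455 F214234 (iv1 F209367) D130820 D207319 F444319
def n218913 : Q := act 7 n190277
theorem D218913 : act 7 n190277 = n218913 := rfl
theorem F496170 : act 2 n218913 = n214210 := d4_1 D218913 (iv7 F475729) F475726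
theorem F496171 : act 3 n218913 = n215480 := d8_1 D218913 (iv7 F480172) F478959
theorem F496172 : act 4 n218913 = n217395 := d11_1 D218913 F488717 F477954
theorem F496173 : act 5 n218913 = n218066 := d13_1 D218913 F491984 F395116
theorem F496174 : act 6 n218913 = n200312 := d14_1 D218913 F415949 (iv6 F410895) F251839 D190277
theorem F496175 : act 0 n208189 = n218913 := d17_2 F474497 F474493 F496173 (iv4 D218066) (iv5 F373480) F370266 F288005 (iv0 F327624) (iv4 F409029)
def n218914 : Q := act 6 n190279
theorem D218914 : act 6 n190279 = n218914 := rfl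
theorem F496176 : act 3 n218914 = n190280 := d7_1 D218914 (iv6 D190280) D190279
theorem F496177 : act 5 n218914 = n218501 := d12_1 D218914 (iv6 D218501) F376512 F390383 (iv5 F390384)
theorem F496178 : act 7 n218914 = n215483 := d14_2 F475710 D218914 (iv6 D215483) (iv7 F303306) (iv6 F475709)
def n218915 : Q := act 0 n190280
theorem D218915 : act 0 n190280 = n218915 := rfl
theorem F496179 : act 5 n218915 = n215686 := d17_1 D218915 F481125 (iv5 F473968) (iv4 F473971) (iv5 D163249) D163247 (iv5 F476449) F477974 F477971
theorem F496180 : act 1 n198736 = n218915 := d15_0 (iv0 D218915) (iv7 F443932) F443931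
theorem F496181 : act 3 n214645 = n218915 := d19_19 (iv1 F496180) (iv5 F415758) (iv4 D200267) F238575 (iv1 D151693) (iv5 F183732) (iv4 F421294) (iv3 F444631) F448037 (iv5 D208136) F396241 (iv3 D194215) (iv1 F270254) (iv5 D172105) (iv4 F196332) F196331 (iv1 F115550) D160455 D214645
def n218916 : Q := act 6 n190282
theorem D218916 : act 6 n190282 = n218916 := rfl
theorem F496182 : act 2 n218916 = n215018 := d3_1 D218916 (iv6 D215018) F379267
theorem F496183 : act 4 n218916 = n207230 := d10_1 D218916 F443905 (iv4 F379265)
def n218917 : Q := act 3 n190286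
theorem D218917 : act 3 n190286 = n218917 := rfl
theorem F496184 : act 5 n218917 = n190770 := d6_2 (iv5 F379287) D218917 F380982
theorem F496185 : act 6 n218917 = n214647 := d7_2 F379289 D218917 (iv3 F476207)
theorem F496186 : act 0 n218917 = n215025 := d19_4 (iv1 F425493) (iv5 F480461) F480462 D218917 (iv5 D215025) (iv4 F477835) (iv3 D215003) (iv1 D164263) D164264 (iv4 F349324) (iv3 F306327) F431284 F431281 F429861 F270743 (iv1 F298349) F298350 (iv4 F303395) F341148
theorem F496187 : act 4 n214648 = n218917 := d20_8 D190291 F380998 F378962 (iv3 F480329) (iv1 D215526) (iv3 F348935) D198557 F477534 (iv3 D218917) (iv1 F379288)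
theorem F496188 : act 1 n218917 = n210020 := d15_1 (iv0 F496186) F455782 (iv2 F477951)
def n218918 : Q := act 4 n190289
theorem D218918 : act 4 n190289 = n218918 := rfl
theorem F496189 : act 3 n218918 = n212087 := d5_1 D218918 F464281 F401261 (iv4 D190291) (iv3 F379299)
theorem F496190 : act 0 n218918 = n207949 := d17_0 (iv5 D207949) (iv1 F447011) (iv5 F447015) (iv4 D206161) (iv5 D127617) D127616 D206159 F439521 D218918
theorem F496191 : act 1 n218918 = n207925 := d18_6 (iv1 F444801) F444798 (iv1 F210610) (iv4 F362079) D190289 D218918 F447019 (iv0 F467440) (iv5 D212769)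
def n218919 : Q := act 6 n190289
theorem D218919 : act 6 n190289 = n218919 := rfl
theorem F496192 : act 2 n218919 = n217462 := d3_1 D218919 F488981 F381965
theorem F496193 : act 3 n218919 = n190292 := d7_1 D218919 (iv6 D190292) (iv3 F379299)
theorem F496194 : act 5 n218919 = n215667 := d12_1 D218919 (iv6 F481025) F379466 (iv6 D190290) D190289
theorem F496195 : act 7 n218919 = n215689 := d14_2 F381853 D218919 (iv6 F488565) F488562 F478312
theorem F496196 : act 0 n217423 = n218919 := d21_4 F147459 D104615 (iv5 F369772) D217423 (iv6 D218919) (iv5 D190289) F362078 D149277 F234656 (iv1 F343070)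
def n218920 : Q := act 1 n190293
theorem D218920 : act 1 n190293 = n218920 := rfl
theorem F496197 : act 5 n194392 = n218920 := d21_0 (iv1 D218920) F392491 (iv6 F392490) (iv1 D103167) D103169 (iv5 F381017) (iv1 F454454) (iv5 D209643) D209644 (iv1 F454463)
theorem F496198 : act 6 n211849 = n218920 := d21_3 (iv5 F159215) D194563 (iv5 F463256) (iv1 D218920) (iv6 D190293) (iv5 F150038) (iv1 F381006) F381856 F381858 (iv1 D190206)
theorem F496199 : act 2 n218920 = n218062 := d3_1 F496198 F491961 F491864
theorem F496200 : act 3 n218920 = n211850 := d7_1 F496198 (iv6 D211850) D211849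
theorem F496201 : act 4 n218920 = n218050 := d10_1 F496198 F491897 (iv4 F480449)
def n218921 : Q := act 4 n190294
theorem D218921 : act 4 n190294 = n218921 := rfl
theorem F496202 : act 2 n218921 = n206161 := d1_1 D218921 (iv4 D206161) (iv2 F379307)
theorem F496203 : act 3 n218921 = n197464 := d5_1 D218921 (iv4 D197464) (iv3 F379005) F379003 D190294
theorem F496204 : act 5 n218921 = n206991 := d9_2 (iv5 F379308) D218921 F442880 F359264 (iv4 D133751) F315911 (iv4 F205185) (iv5 F379178) D218895 F496082 (iv4 F442883) (iv5 F347023) (iv4 F344087) (iv5 D127716) (iv4 F205180)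
theorem F496205 : act 6 n218921 = n209625 := d10_2 F478150 D218921 (iv4 F478151)
theorem F496206 : act 0 n218921 = n212773 := d17_0 F467449 (iv1 F469208) (iv5 F496078) (iv4 D218894) (iv5 D190243) F362070 D149277 (iv0 F379309) D218921
def n218922 : Q := act 7 n190295
theorem D218922 : act 7 n190295 = n218922 := rfl
theorem F496207 : act 2 n218922 = n215149 := d4_1 D218922 F478570 F381873
theorem F496208 : act 3 n218922 = n218092 := d8_1 D218922 F492120 (iv3 F478148)
theorem F496209 : act 5 n218922 = n194875 := d13_1 D218922 F394838 F382078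
theorem F496210 : act 1 n217483 = n218922 := d15_1 (iv0 F489095) (iv7 D218922) (iv2 F381873)
theorem F496211 : act 1 n218922 = n203692 := d15_1 F496210 F429430 (iv2 F489092)
def n218923 : Q := act 3 n190297
theorem D218923 : act 3 n190297 = n218923 := rfl
theorem F496212 : act 4 n218923 = n215121 := d5_2 (iv4 F379314) D218923 F478464 (iv4 F262385) (iv3 F364153)
theorem F496213 : act 5 n218923 = n211894 := d6_2 F425470 D218923 F463462
theorem F496214 : act 6 n218923 = n215120 := d7_2 F433296 D218923 F478459
theorem F496215 : act 7 n218923 = n218830 := d8_2 (iv7 F379313) D218923 (iv3 D218830)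
def n218924 : Q := act 0 n190298
theorem D218924 : act 0 n190298 = n218924 := rfl
theorem F496216 : act 5 n218924 = n210985 := d17_1 D218924 (iv1 F464237) (iv5 F476980) F476979 F256910 D166714 D215147 (iv0 F496146) F496142
def n218925 : Q := act 1 n190298
theorem D218925 : act 1 n190298 = n218925 := rfl
theorem F496217 : act 5 n210982 = n218925 := d21_0 (iv1 D218925) (iv5 F480458) F480459 (iv1 D199196) (iv6 D111062) D111061 (iv1 F227076) (iv5 F202852) D205488 F459620
theorem F496218 : act 6 n218925 = n203693 := d12_2 (iv6 F459619) F496217 (iv5 D203693) (iv6 F365183) (iv5 F458558)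
theorem F496219 : act 0 n218821 = n218925 := d21_4 F496156 F475266 (iv5 F378952) D218821 F496218 (iv5 D203693) (iv1 F198744) D204711 (iv6 F487694) (iv1 F496159)
def n218926 : Q := act 2 n190298
theorem D218926 : act 2 n190298 = n218926 := rfl
theorem F496220 : act 3 n218926 = n214782 := d0_2 D190298 D218926 (iv2 F476820) (iv3 D191014) F149863
theorem F496221 : act 4 n218926 = n218815 := d1_2 F496142 D218926 (iv2 F496141)
theorem F496222 : act 6 n218926 = n190310 := d3_2 (iv6 F379316) D218926 (iv2 D190310)
theorem F496223 : act 7 n218821 = n218926 := d15_2 D218925 (iv0 F496219) (iv2 D218926)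
theorem F496224 : act 5 n214087 = n218866 := d19_17 F495968 (iv5 F495781) (iv4 F496221) F496220 F476821 F461398 (iv4 F463569) (iv3 D211916) (iv1 D144413) D144414 (iv4 F424884) (iv3 D202640) F181189 F329890 (iv4 F111575) (iv3 F245665) D214087 (iv4 D218866) D218865
def n218927 : Q := act 7 n190298
theorem D218927 : act 7 n190298 = n218927 := rfl
theorem F496225 : act 2 n218927 = n218821 := d4_1 D218927 F496223 (iv2 D218926)
theorem F496226 : act 3 n218927 = n190299 := d8_1 D218927 (iv7 D190299) D190298
theorem F496227 : act 4 n218927 = n218796 := d11_1 D218927 (iv7 F496145) F496142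
theorem F496228 : act 5 n218927 = n212863 := d13_1 D218927 (iv7 F480460) F480458
theorem F496229 : act 6 n218927 = n218795 := d14_1 D218927 F495691 F379350 (iv7 D190311) (iv6 F379316)
theorem F496230 : act 1 n218821 = n218924 := d15_0 (iv0 D218924) D218927 F496225
def n218928 : Q := act 6 n190299
theorem D218928 : act 6 n190299 = n218928 := rfl
theorem F496231 : act 3 n218928 = n218795 := d7_1 D218928 (iv6 F496229) F496226
theorem F496232 : act 4 n218928 = n190300 := d10_1 D218928 (iv6 D190300) (iv4 F379317)
theorem F496233 : act 5 n218928 = n212864 := d12_1 D218928 (iv6 D212864) (iv5 D151163) D151164 (iv5 F379318)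
theorem F496234 : act 7 n218928 = n190312 := d14_2 D190299 D218928 (iv6 D190312) (iv7 D95828) (iv6 F147501)
theorem F496235 : act 0 n218928 = n218869 := d21_10 F495974 (iv1 D214088) (iv5 F467754) (iv6 D212845) F351591 (iv6 F378968) (iv5 F378964) (iv1 F381883) (iv5 F379318) D218928
theorem F496236 : act 0 n218866 = n218928 := d21_1 F496224 F496233 (iv6 D212864) (iv1 F241264) F345112 F245792 (iv1 D74353) D74355 D156325 D214087
def n218929 : Q := act 5 n190301
theorem D218929 : act 5 n190301 = n218929 := rfl
theorem F496237 : act 2 n218929 = n209144 := d2_1 D218929 F452446 F381984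
theorem F496238 : act 3 n218929 = n201010 := d6_1 D218929 (iv5 F418721) F389451
theorem F496239 : act 6 n218929 = n201009 := d12_2 (iv6 F452062) D218929 F452066 (iv6 D209064) D209063
theorem F496240 : act 4 n218929 = n209062 := d16_2 D190301 D218929 F452058 (iv4 D190253) F147459 F76045 (iv5 F147459) (iv7 F149927) F149925
def n218930 : Q := act 0 n190307
theorem D218930 : act 0 n190307 = n218930 := rfl
theorem F496241 : act 1 n211858 = n218930 := d15_0 (iv0 D218930) F379342 (iv2 F463288)
def n218931 : Q := act 1 n190307
theorem D218931 : act 1 n190307 = n218931 := rfl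
theorem F496242 : act 4 n218931 = n198564 := d18_7 D202859 F425903 (iv1 F457314) F457311 D214197 F473952 D218931 (iv0 F425915) (iv5 D202861)
theorem F496243 : act 2 n218854 = n218931 := d1_3 F496242 F463818 (iv4 F495920)
theorem F496244 : act 6 n198563 = n218931 := d10_0 F496242 (iv6 D198564) D198563
theorem F496245 : act 7 n218855 = n218931 := d11_0 F496242 (iv7 F463820) (iv4 F495924)
theorem F496246 : act 0 n211858 = n218931 := d18_2 (iv1 D211857) D211858 F496242 F408612 (iv4 F408615) (iv0 D177050) (iv4 F344497) (iv0 F461728) (iv5 F463286)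
theorem F496247 : act 7 n218930 = n218854 := d15_2 (iv0 F496246) F496241 F496243
theorem F496248 : act 2 n218855 = n218930 := d4_3 F496247 F496243 (iv7 F496245)
def n218932 : Q := act 2 n190307
theorem D218932 : act 2 n190307 = n218932 := rfl
theorem F496249 : act 3 n218932 = n218323 := d0_2 D190307 D218932 F493317 (iv3 D190194) F147511
theorem F496250 : act 4 n218932 = n211859 := d1_2 F473952 D218932 (iv2 F473950)
theorem F496251 : act 5 n218932 = n216474 := d2_2 (iv5 F379341) D218932 (iv2 D216474)
theorem F496252 : act 7 n218932 = n211858 := d4_2 (iv7 F379342) D218932 F463288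
theorem F496253 : act 1 n218932 = n218854 := d15_0 (iv0 D218854) (iv7 F379342) D218932
theorem F496254 : act 1 n218855 = n218932 := d15_0 F496253 (iv7 F496247) (iv2 F496248)
def n218933 : Q := act 3 n190308
theorem D218933 : act 3 n190308 = n218933 := rfl
theorem F496255 : act 2 n218933 = n213685 := d0_1 D218933 F471622 (iv2 F322941) D211385 F461358
theorem F496256 : act 5 n218933 = n213679 := d6_2 F389349 D218933 F471596
theorem F496257 : act 6 n218597 = n218933 := d12_0 F496256 (iv6 D213679) (iv5 F419935) (iv6 F419937) D218597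
def n218934 : Q := act 4 n190308
theorem D218934 : act 4 n190308 = n218934 := rfl
theorem F496258 : act 2 n218934 = n218889 := d1_1 D218934 F496056 F461358
theorem F496259 : act 5 n218934 = n217166 := d16_1 D218934 F487744 F368494 (iv4 F372047) (iv5 F469605) F469601 (iv5 F389459) (iv7 F461357) F461358
theorem F496260 : act 0 n218934 = n217085 := d17_0 (iv5 D217085) F432341 (iv5 F476952) F476951 (iv5 F459287) F389287 (iv5 F388940) F379349 D218934
theorem F496261 : act 3 n218934 = n218129 := d19_3 D193264 F389349 D218934 (iv1 D218129) (iv5 D188548) (iv4 D92441) F67733 D43246 (iv5 F73630) (iv4 D46618) F34861 F292994 (iv5 F15254) (iv4 F32761) (iv3 F293949) D44000 F72338 D47202 D101423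
theorem F496262 : act 7 n217165 = n218934 := d8_0 F496261 F492266 (iv3 F487739)
def n218935 : Q := act 6 n190308
theorem D218935 : act 6 n190308 = n218935 := rfl
theorem F496263 : act 2 n218935 = n218241 := d3_1 D218935 F492912 F461358
theorem F496264 : act 3 n218935 = n218597 := d7_1 D218935 F496257 (iv3 D218933)
theorem F496265 : act 5 n218935 = n201307 := d12_1 D218935 (iv6 D201307) (iv5 F241516) (iv6 F389345) F389349
theorem F496266 : act 0 n218935 = n204720 := d21_4 (iv5 D193267) D193264 F389349 D218935 (iv6 D204720) (iv5 D124258) D124255 (iv5 F433356) (iv6 F461340) F461342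
theorem F496267 : act 7 n218935 = n218181 := d15_2 (iv0 F476935) (iv0 F496266) F492559
theorem F496268 : act 1 n218935 = n218288 := d15_0 (iv0 D218288) (iv7 F492913) (iv2 F496263)
theorem F496269 : act 3 n194766 = n218288 := d19_19 (iv1 F496268) F496265 F419940 F371573 (iv1 F283437) (iv5 F283449) (iv4 D182039) D182038 (iv1 F378878) (iv5 D190112) (iv4 F149790) F149789 (iv1 F157275) D45455 D97324 D191151 F435368 (iv5 D194767) D194766
def n218936 : Q := act 7 n190308
theorem D218936 : act 7 n190308 = n218936 := rfl
theorem F496270 : act 2 n218936 = n190309 := d4_1 D218936 (iv7 F461357) F461358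
theorem F496271 : act 4 n218936 = n217165 := d11_1 D218936 F496262 (iv4 D218934)
theorem F496272 : act 6 n218936 = n218323 := d14_1 D218936 (iv7 D218323) (iv6 F492561) (iv7 F496267) (iv6 D218935)
theorem F496273 : act 1 n190310 = n218936 := d15_1 F461360 (iv7 D218936) (iv2 F461358)
theorem F496274 : act 1 n218936 = n190311 := d15_1 F496273 (iv7 D190311) D190310
def n218937 : Q := act 4 n190309
theorem D218937 : act 4 n190309 = n218937 := rfl
theorem F496275 : act 2 n218937 = n217165 := d1_1 D218937 (iv4 F496271) F496270
theorem F496276 : act 3 n218937 = n218860 := d5_1 D218937 F495946 F379053 (iv4 F379056) F389458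
theorem F496277 : act 5 n218937 = n193597 := d9_2 (iv5 F389459) D218937 F390406 F157470 (iv4 F159477) D194688 (iv4 F394095) F389349 D218934 F496259 F487744 F368494 (iv4 F372047) (iv5 F469605) F469601
theorem F496278 : act 6 n218937 = n193600 := d10_2 (iv6 F389460) D218937 (iv4 F390411)
theorem F496279 : act 7 n218937 = n218889 := d11_2 F461357 D218937 F496056
theorem F496280 : act 1 n218937 = n217085 := d18_8 F432341 (iv4 D204386) (iv1 F368354) (iv4 F378755) (iv5 F379277) F379276 D190309 D218937 (iv5 D217085)
def n218938 : Q := act 0 n190312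
theorem D218938 : act 0 n190312 = n218938 := rfl
theorem F496281 : act 4 n218938 = n190902 := d18_3 (iv1 D190314) (iv4 F379352) D218938 F489005 F489001 F394966 F393953 (iv0 F488683) F488680
theorem F496282 : act 6 n218938 = n199753 := d21_5 F360813 F159839 F292272 D190312 D218938 (iv5 F433336) F433335 (iv5 F406282) F379754 F360814
theorem F496283 : act 2 n218866 = n218938 := d1_3 F496281 (iv2 F488995) D218866
theorem F496284 : act 7 n218869 = n218938 := d11_0 F496281 (iv7 F488997) D218869
def n218939 : Q := act 1 n190312
theorem D218939 : act 1 n190312 = n218939 := rfl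
theorem F496285 : act 7 n218939 = n218866 := d15_2 (iv0 D218938) D218939 F496283
theorem F496286 : act 4 n218939 = n190903 := d18_7 (iv1 F369755) F393940 F378777 F369840 (iv5 F147515) (iv4 F379352) D218939 F381499 F379011
theorem F496287 : act 2 n218869 = n218939 := d1_3 F496286 F488996 D218869
def n218940 : Q := act 3 n190314
theorem D218940 : act 3 n190314 = n218940 := rfl
theorem F496288 : act 2 n218940 = n217451 := d0_1 D218940 (iv3 D217451) (iv2 F378787) (iv3 F440253) F440255
theorem F496289 : act 4 n205700 = n218940 := d1_0 F496288 (iv4 F495745) F437940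
theorem F496290 : act 0 n218940 = n217421 := d18_2 F442063 F496289 F495237 F443467 (iv4 F407067) (iv0 F407071) (iv4 F442060) (iv0 D206754) D206755
def n218941 : Q := act 6 n190314
theorem D218941 : act 6 n190314 = n218941 := rfl
theorem F496291 : act 2 n218941 = n206325 := d3_1 D218941 F440252 F440255
theorem F496292 : act 5 n218941 = n206324 := d12_1 D218941 (iv6 F488677) (iv5 D217387) F488682 F488680
theorem F496293 : act 7 n218941 = n211711 := d14_2 F440257 D218941 F462796 (iv7 F495382) F495383
theorem F496294 : act 0 n218941 = n211849 := d21_4 (iv5 D217400) F488681 F488680 D218941 F496198 (iv5 F496197) F440314 (iv5 F392949) (iv6 F488600) F488739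
def n218942 : Q := act 7 n190334
theorem D218942 : act 7 n190334 = n218942 := rfl
theorem F496295 : act 2 n218942 = n190341 := d4_1 D218942 (iv7 D190341) (iv2 F379436)
theorem F496296 : act 3 n218942 = n193721 := d8_1 D218942 (iv7 D193721) (iv3 F379437)
theorem F496297 : act 4 n218942 = n203452 := d11_1 D218942 F428378 (iv4 F379438)
theorem F496298 : act 5 n218942 = n193714 := d13_1 D218942 (iv7 D193714) F379439
theorem F496299 : act 6 n218942 = n206164 := d14_1 D218942 F439536 F436408 F378442 D190334
theorem F496300 : act 1 n190339 = n218942 := d15_1 D190339 (iv7 D218942) F379436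
theorem F496301 : act 1 n218942 = n190338 := d15_1 F496300 (iv7 F453120) F453118
def n218943 : Q := act 4 n190340
theorem D218943 : act 4 n190340 = n218943 := rfl
theorem F496302 : act 2 n218943 = n193713 := d1_1 D218943 (iv4 D193713) (iv2 F379459)
theorem F496303 : act 3 n218943 = n215285 := d5_1 D218943 (iv4 D215285) F379528 (iv4 D190352) (iv3 F379460)
theorem F496304 : act 6 n218943 = n195472 := d10_2 F379502 D218943 (iv4 F397095)
theorem F496305 : act 7 n218943 = n194304 := d11_2 F379462 D218943 (iv4 D194304)
theorem F496306 : act 5 n218943 = n203222 := d16_1 D218943 F427461 F210371 F350915 D203452 (iv4 F496297) F496298 (iv7 D193714) (iv2 F379459)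
theorem F496307 : act 0 n218943 = n216523 := d17_0 F484802 (iv1 F472280) F472276 F453229 (iv5 F319848) (iv0 F339745) F364426 (iv0 F379461) D218943
theorem F496308 : act 1 n218943 = n192272 := d18_6 F369042 (iv4 F473727) (iv1 F473732) F379450 D190340 D218943 F386260 D192275 F386271
def n218944 : Q := act 0 n190344
theorem D218944 : act 0 n190344 = n218944 := rfl
theorem F496309 : act 4 n218944 = n208893 := d18_3 D196161 (iv4 F399663) D218944 (iv5 D208893) F217478 F399990 F439322 F439320 F397997
theorem F496310 : act 5 n218944 = n194768 := d21_2 (iv5 F379469) D218944 (iv6 D194768) (iv1 D104353) (iv6 D48291) (iv5 D23432) D23429 D48279 (iv6 F290799) F379306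
theorem F496311 : act 6 n218944 = n218070 := d21_5 (iv5 F147143) (iv1 F324999) (iv5 F147574) D190344 D218944 (iv5 D218070) (iv1 F373512) F293107 (iv6 D95957) (iv1 F147142)
theorem F496312 : act 1 n190404 = n218944 := d15_0 (iv0 D218944) (iv7 F481121) F481118
theorem F496313 : act 2 n218078 = n218944 := d3_3 F496311 F492006 D218078
theorem F496314 : act 3 n216916 = n218944 := d7_3 F496311 F492007 F486527
theorem F496315 : act 7 n194998 = n218944 := d14_0 F496311 F492008 (iv6 F379631) (iv7 F379634) D194998
def n218945 : Q := act 1 n190344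
theorem D218945 : act 1 n190344 = n218945 := rfl
theorem F496316 : act 1 n218945 = n190404 := d15_1 D218945 (iv7 F495347) F495343
theorem F496317 : act 7 n218945 = n218078 := d15_2 (iv0 D218944) D218945 F496313
theorem F496318 : act 4 n218945 = n196155 := d17_9 F494006 F494003 (iv1 D208036) D208038 (iv4 F447561) (iv5 F488641) F488644 (iv5 F379469) D218945
theorem F496319 : act 3 n217527 = n218945 := d20_3 (iv4 F468383) (iv1 F468386) (iv4 F489322) (iv1 D218945) (iv3 F481023) (iv4 D215667) (iv1 D176832) D176833 F276208 (iv1 F468388)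
theorem F496320 : act 6 n190387 = n218945 := d21_3 D106731 D196180 F399739 (iv1 D218945) (iv6 D190344) F147574 F324998 (iv5 F335105) F160700 F356895
theorem F496321 : act 2 n218945 = n194998 := d3_1 F496320 (iv6 D194998) F379638
def n218946 : Q := act 3 n190348
theorem D218946 : act 3 n190348 = n218946 := rfl
theorem F496322 : act 5 n218946 = n202410 := d6_2 (iv5 F379494) D218946 F423899
theorem F496323 : act 6 n218946 = n190390 := d7_2 (iv6 F379493) D218946 (iv3 D190390)
theorem F496324 : act 0 n193695 = n218946 := d20_4 (iv4 F352954) D189637 F377223 (iv3 F390708) (iv3 D218946) (iv4 F419737) F419739 (iv4 F364333) F214415 (iv1 F214532)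
def n218947 : Q := act 6 n190349
theorem D218947 : act 6 n190349 = n218947 := rfl
theorem F496325 : act 2 n218947 = n218076 := d3_1 D218947 (iv6 F492049) F392861
theorem F496326 : act 3 n218947 = n217504 := d7_1 D218947 (iv6 F489208) F382214
theorem F496327 : act 4 n218947 = n196002 := d10_1 D218947 (iv6 F443667) F443665
theorem F496328 : act 5 n218947 = n191172 := d12_1 D218947 (iv6 D191172) (iv5 F372119) (iv6 F372118) F379498
theorem F496329 : act 7 n218947 = n190392 := d14_2 F392866 D218947 (iv6 D190392) F306965 (iv6 F392869)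
theorem F496330 : act 0 n218947 = n194995 := d21_4 (iv5 F139652) D188016 F379498 D218947 (iv6 D194995) D194994 (iv1 F399701) (iv5 D196172) F356826 (iv1 D96035)
theorem F496331 : act 0 n218070 = n218947 := d21_4 D218734 (iv1 F495384) (iv5 F496310) F496311 (iv6 D218947) (iv5 F379498) (iv1 F372116) (iv5 F378548) F378549 (iv1 F378516)
def n218948 : Q := act 6 n190353
theorem D218948 : act 6 n190353 = n218948 := rfl
theorem F496332 : act 2 n218948 = n206050 := d3_1 D218948 (iv6 D206050) (iv2 F379529)
theorem F496333 : act 3 n218948 = n218073 := d7_1 D218948 (iv6 F492029) F382154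
theorem F496334 : act 4 n218948 = n200241 := d10_1 D218948 F440626 F440625
theorem F496335 : act 5 n218948 = n218080 := d12_1 D218948 (iv6 F492067) (iv5 D191100) (iv6 F347584) D190353
theorem F496336 : act 7 n218948 = n190394 := d14_2 (iv7 F379530) D218948 (iv6 D190394) F157290 (iv6 F355233)
theorem F496337 : act 0 n218948 = n190478 := d21_4 F463327 (iv1 F347580) D190353 D218948 F392218 (iv5 F377512) (iv1 D102814) (iv5 F129393) D176924 F463328
theorem F496338 : act 1 n218948 = n200451 := d15_1 (iv0 F496337) F416471 F392219
def n218949 : Q := act 4 n190357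
theorem D218949 : act 4 n190357 = n218949 := rfl
theorem F496339 : act 2 n218949 = n206569 := d1_1 D218949 (iv4 F481199) F481197
theorem F496340 : act 5 n218949 = n206567 := d9_2 (iv5 F379540) D218949 (iv4 D206567) (iv5 D128881) (iv4 F347549) D201113 (iv4 F439010) (iv5 F439012) (iv4 F382642) (iv5 F440724) (iv4 D206425) (iv5 D128600) F95064 D115123 (iv4 F379251)
theorem F496341 : act 7 n218949 = n217493 := d11_2 (iv7 F425838) D218949 F489154
theorem F496342 : act 1 n218949 = n206414 := d18_6 (iv1 F439456) (iv4 F418304) F418305 (iv4 F379251) (iv5 F379540) D218949 F440672 (iv0 F448004) (iv5 F448003)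
def n218950 : Q := act 1 n190358
theorem D218950 : act 1 n190358 = n218950 := rfl
theorem F496343 : act 1 n218950 = n211869 := d15_1 D218950 (iv7 F463337) (iv2 F395341)
theorem F496344 : act 7 n218950 = n211714 := d15_2 F439015 D218950 F462808
theorem F496345 : act 4 n218950 = n207181 := d18_7 (iv1 F336930) F251261 (iv1 F346179) (iv4 D95930) D95931 D190358 D218950 (iv0 F443681) (iv5 F416198)
theorem F496346 : act 3 n215719 = n218950 := d20_9 (iv4 D190358) (iv1 F381340) (iv4 F382642) F382641 (iv1 F416074) (iv3 F416139) F416140 D200362 (iv4 F481223) (iv1 D218950)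
theorem F496347 : act 2 n211871 = n218950 := d1_3 F496345 (iv2 F495506) F495507
theorem F496348 : act 6 n211874 = n218950 := d14_5 F496344 (iv6 D211714) F350526 D144235 D211874
def n218951 : Q := act 3 n190358
theorem D218951 : act 3 n190358 = n218951 := rfl
theorem F496349 : act 4 n218951 = n190363 := d5_2 D190358 D218951 (iv3 D190363) (iv4 D95936) (iv3 F147582)
theorem F496350 : act 6 n218951 = n216921 := d7_2 (iv6 F486524) D218951 (iv3 F486546)
theorem F496351 : act 0 n218951 = n211862 := d20_4 (iv4 D218949) (iv1 D190357) D190358 D218951 F463307 D215637 F480889 (iv4 D214316) (iv3 F440671) (iv1 F496342)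
theorem F496352 : act 5 n205134 = n218951 := d21_0 F496351 F463308 (iv6 D176672) (iv1 F331200) D104813 F160648 (iv1 F392968) D207153 (iv6 F461843) F461845
def n218952 : Q := act 5 n190358
theorem D218952 : act 5 n190358 = n218952 := rfl
theorem F496353 : act 2 n218952 = n206523 := d2_1 D218952 F441189 (iv2 F395341)
theorem F496354 : act 3 n218952 = n205134 := d6_1 D218952 F496352 (iv3 D218951)
theorem F496355 : act 7 n218952 = n206526 := d13_2 F495335 D218952 (iv5 F495333)
theorem F496356 : act 4 n218952 = n206419 := d16_2 D190358 D218952 F440698 (iv4 F213418) F347551 F332627 (iv5 F463327) (iv7 F463329) F379533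
theorem F496357 : act 1 n218952 = n212188 := d17_6 (iv1 F379532) (iv5 D190353) (iv1 D95928) D95931 D190358 D218952 F464682 F397240 (iv4 F395329)
theorem F496358 : act 6 n214719 = n218952 := d21_5 (iv5 F138106) (iv1 F283794) F160601 D194942 (iv1 F489091) (iv5 D218952) (iv1 F439015) (iv5 F392614) (iv6 D194275) F160666
def n218953 : Q := act 0 n190359
theorem D218953 : act 0 n190359 = n218953 := rfl
def n218954 : Q := act 0 n190363
theorem D218954 : act 0 n190363 = n218954 := rfl
theorem F496359 : act 5 n218954 = n201549 := d17_1 D218954 (iv1 F420923) (iv5 D201478) (iv4 F356885) F356887 (iv0 F380403) (iv5 F463308) (iv0 F496351) F496349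
theorem F496360 : act 3 n218954 = n214508 := d20_5 (iv4 D190343) (iv1 F147578) D95936 D190363 D218954 (iv4 D214508) (iv1 D159685) D159686 (iv3 F443668) F443671
theorem F496361 : act 6 n218954 = n209048 := d21_5 F377349 F288645 (iv5 F377126) (iv6 F379555) D218954 F452015 (iv1 F218127) F365387 D190410 (iv1 F379705)
theorem F496362 : act 1 n207214 = n218954 := d15_0 (iv0 D218954) (iv7 F429287) (iv2 F443825)
theorem F496363 : act 2 n218631 = n218954 := d3_3 F496361 F452013 (iv6 F494875)
def n218955 : Q := act 1 n190363
theorem D218955 : act 1 n190363 = n218955 := rfl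
theorem F496364 : act 1 n218955 = n207214 := d15_1 D218955 (iv7 F444586) F444584
theorem F496365 : act 7 n218955 = n218631 := d15_2 (iv0 D218954) D218955 F496363
theorem F496366 : act 5 n218955 = n201550 := d18_9 (iv1 D201550) (iv4 F420916) (iv1 F454116) (iv4 F454117) D213133 F469137 (iv0 F496351) F496349 D218955
theorem F496367 : act 3 n195975 = n218955 := d19_19 (iv1 D218955) (iv5 F483941) F483940 (iv3 F483934) F483932 (iv5 D209497) F219642 F352329 F352302 D125094 (iv4 F391636) (iv3 D193986) (iv1 F354716) (iv5 F245954) F245953 F163837 (iv1 F325763) F325764 (iv4 F398926)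
theorem F496368 : act 6 n195974 = n218955 := d21_3 (iv5 D133230) D133228 (iv5 F398922) (iv1 D218955) F379555 F377126 F374161 (iv5 F486595) F486593 (iv1 F422085)
def n218956 : Q := act 0 n190379
theorem D218956 : act 0 n190379 = n218956 := rfl
theorem F496369 : act 5 n218956 = n214962 := d17_3 (iv1 F395084) F394616 D218956 F477652 F435081 F227051 (iv5 F435057) (iv0 D205120) F395083
theorem F496370 : act 4 n218956 = n203660 := d20_2 F486336 D218956 F429286 (iv1 F378418) (iv3 D189714) D189715 F377498 F292436 (iv3 F288666) D216876
theorem F496371 : act 6 n218956 = n200446 := d21_5 F147170 D103213 F251253 D190379 D218956 (iv5 F481028) F481027 (iv5 F495359) (iv6 D218730) F378479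
theorem F496372 : act 2 n194993 = n218956 := d3_3 F496371 (iv2 F461821) (iv6 F461820)
theorem F496373 : act 3 n218726 = n218956 := d7_3 F496371 (iv3 F425192) (iv6 F495334)
theorem F496374 : act 7 n218951 = n218956 := d14_0 F496371 F461814 F489318 (iv7 F489319) (iv6 F496350)
theorem F496375 : act 0 n218956 = n214977 := d21_4 (iv5 F492024) (iv1 F492027) F481028 (iv6 F496371) F477729 F447535 F408926 (iv5 F451262) (iv6 F451266) F415804
def n218957 : Q := act 1 n190379
theorem D218957 : act 1 n190379 = n218957 := rfl
theorem F496376 : act 1 n218957 = n214977 := d15_1 D218957 F477727 F463306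
theorem F496377 : act 7 n218957 = n194993 := d15_2 (iv0 D218956) D218957 F496372
theorem F496378 : act 4 n218957 = n207378 := d17_9 F494874 F494873 F453453 F420922 F225400 D142492 (iv0 F394617) F394616 D218957
theorem F496379 : act 3 n190387 = n218957 := d19_19 (iv1 D218957) (iv5 F394616) F459437 F459440 (iv1 D196465) (iv5 D107009) (iv4 F80745) (iv3 D51184) F39051 D25349 F47557 D62620 (iv1 F214490) (iv5 D133400) (iv4 F114356) (iv3 F114391) F114393 D106710 (iv4 F379637)
theorem F496380 : act 5 n214692 = n218957 := d21_0 (iv1 D218957) (iv5 F394616) (iv6 D194823) (iv1 F160644) D194961 F395194 F443541 F443542 F430042 F476420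
theorem F496381 : act 2 n218957 = n218951 := d2_1 F496380 (iv5 F496352) (iv2 F476416)
theorem F496382 : act 6 n218957 = n217527 := d21_3 (iv5 F461766) F476420 F496380 (iv1 D217527) F370533 (iv5 F393606) (iv1 F472335) F472337 (iv6 F379565) (iv1 F461762)
def n218958 : Q := act 7 n190379
theorem D218958 : act 7 n190379 = n218958 := rfl
theorem F496383 : act 2 n218958 = n214977 := d4_1 D218958 F477727 F463306
theorem F496384 : act 3 n218958 = n217505 := d8_1 D218958 F489209 F382488
theorem F496385 : act 4 n218958 = n208985 := d11_1 D218958 (iv7 F486340) F486336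
theorem F496386 : act 5 n218958 = n194985 := d13_1 D218958 (iv7 F461852) F394616
theorem F496387 : act 6 n218958 = n198737 := d14_1 D218958 F409027 (iv6 F364266) F360335 D190379
theorem F496388 : act 1 n218951 = n218958 := d15_1 (iv0 F496351) (iv7 D218958) (iv2 F463306)
theorem F496389 : act 1 n218958 = n194993 := d15_1 F496388 (iv7 F496377) F496381
def n218959 : Q := act 6 n190389
theorem D218959 : act 6 n190389 = n218959 := rfl
theorem F496390 : act 2 n218959 = n211543 := d3_1 D218959 (iv6 D211543) (iv2 F379648)
theorem F496391 : act 3 n218959 = n217552 := d7_1 D218959 F489453 F463222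
theorem F496392 : act 4 n218959 = n218743 := d10_1 D218959 (iv6 D218743) F379647
theorem F496393 : act 5 n218959 = n208592 := d12_1 D218959 F450044 F375808 (iv6 F253015) (iv5 F379646)
theorem F496394 : act 7 n218959 = n208680 := d14_2 (iv7 F379645) D218959 F450430 (iv7 F392350) F392352
theorem F496395 : act 0 n218959 = n218077 := d21_10 F492051 (iv1 F450653) F377004 F379583 (iv1 F379579) (iv6 F356960) (iv5 F225397) (iv1 F318193) (iv5 F379646) D218959
theorem F496396 : act 0 n196164 = n218959 := d21_4 F376124 (iv1 F164465) D106717 D196164 (iv6 D218959) F379646 (iv1 D114553) D114554 F178629 D114557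
def n218960 : Q := act 3 n190405
theorem D218960 : act 3 n190405 = n218960 := rfl
theorem F496397 : act 6 n218960 = n206239 := d7_2 F464958 D218960 (iv3 F464961)
theorem F496398 : act 7 n218960 = n207199 := d8_2 F481113 D218960 (iv3 F481116)
theorem F496399 : act 0 n218960 = n200351 := d19_4 F413698 (iv5 F364484) D190405 D218960 F416103 F365045 (iv3 F397828) (iv1 D190668) (iv5 D96347) (iv4 F89011) (iv3 D56275) F318104 (iv5 D29049) F23088 (iv3 F23074) D29030 F81330 D111796 D199829
theorem F496400 : act 0 n195867 = n218960 := d20_4 (iv4 F379985) F382616 (iv4 F451665) (iv3 F451669) (iv3 D218960) (iv4 D190405) (iv1 D96010) (iv4 F147637) (iv3 F379670) (iv1 F379675)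
theorem F496401 : act 5 n218960 = n195123 := d17_3 F163446 D195867 F496400 (iv4 F417375) F417377 (iv0 D190652) (iv5 F364801) (iv0 F179076) F176447
theorem F496402 : act 2 n200933 = n218960 := d15_3 (iv0 F496400) (iv0 F447912) F447911
def n218961 : Q := act 5 n190405
theorem D218961 : act 5 n190405 = n218961 := rfl
theorem F496403 : act 2 n218961 = n207119 := d2_1 D218961 (iv5 F495366) F495363
theorem F496404 : act 3 n218961 = n195123 := d6_1 D218961 (iv5 F496401) (iv3 D218960)
theorem F496405 : act 4 n218961 = n207110 := d9_1 D218961 (iv5 D207110) F208761 F334291 D163351 F364244 D190403 (iv5 F452115) F452114 F354365 F208841 F334282 (iv4 F334281) (iv5 F364484) D190405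
theorem F496406 : act 6 n218961 = n195121 := d12_2 F464958 D218961 (iv5 F494657) (iv6 F494660) (iv5 F464960)
theorem F496407 : act 1 n218961 = n205556 := d17_6 (iv1 F481094) F481096 F413698 (iv5 F364484) D190405 D218961 F436980 F415830 F399783
def n218962 : Q := act 5 n190408
theorem D218962 : act 5 n190408 = n218962 := rfl
theorem F496408 : act 2 n218962 = n190411 := d2_1 D218962 (iv5 D190411) (iv2 F379694)
theorem F496409 : act 6 n218962 = n194753 := d12_2 D190408 D218962 (iv5 D194753) F366987 F160705
theorem F496410 : act 0 n218962 = n216926 := d17_2 (iv1 F379697) D218962 (iv5 D216926) (iv4 D186378) (iv5 D88781) F293477 D94443 F291648 D186388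
theorem F496411 : act 1 n218962 = n216924 := d17_6 (iv1 F429293) (iv5 D191847) F152533 D189608 (iv4 F379695) D218962 (iv5 D216924) D216922 F486548
def n218963 : Q := act 4 n190411
theorem D218963 : act 4 n190411 = n218963 := rfl
theorem F496412 : act 3 n218963 = n214662 := d5_1 D218963 F476271 F406283 (iv4 D190432) (iv3 F379706)
theorem F496413 : act 6 n218963 = n194754 := d10_2 (iv6 F379707) D218963 (iv4 D194754)
theorem F496414 : act 5 n218963 = n218004 := d16_3 F379703 D190411 D218963 (iv4 D218004) F372948 F294592 D189218 (iv7 F377101) (iv2 F379702)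
theorem F496415 : act 1 n218963 = n215511 := d18_6 D186396 D216933 F486597 F379703 D190411 D218963 F480279 (iv0 F376739) (iv5 D186399)
def n218964 : Q := act 7 n190411
theorem D218964 : act 7 n190411 = n218964 := rfl
theorem F496416 : act 3 n218964 = n190433 := d8_1 D218964 (iv7 D190433) (iv3 F379706)
theorem F496417 : act 5 n218964 = n190412 := d13_1 D218964 (iv7 D190412) D190411
theorem F496418 : act 6 n218964 = n211814 := d14_1 D218964 (iv7 F488607) (iv6 D217370) F369604 (iv6 F379707)
theorem F496419 : act 1 n216924 = n218964 := d15_1 F496411 (iv7 D218964) (iv2 F496408)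
theorem F496420 : act 1 n218964 = n216926 := d15_1 F496419 (iv7 F494958) F494956
def n218965 : Q := act 4 n190413
theorem D218965 : act 4 n190413 = n218965 := rfl
theorem F496421 : act 2 n218965 = n218500 := d1_1 D218965 F494180 (iv2 F379713)
theorem F496422 : act 3 n218965 = n191244 := d5_1 D218965 (iv4 D191244) F150247 (iv4 F147640) D190413
theorem F496423 : act 6 n218965 = n218283 := d10_2 F379712 D218965 (iv4 D218283)
theorem F496424 : act 7 n218965 = n218585 := d11_2 (iv7 F379711) D218965 F494614
theorem F496425 : act 0 n218965 = n218586 := d17_0 F494621 (iv1 F494079) (iv5 D218477) F376432 (iv5 F294563) F373757 D218102 (iv0 F492156) D218965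
theorem F496426 : act 1 n218965 = n218584 := d18_8 (iv1 D218475) F486540 (iv1 F486539) (iv4 F494231) F494232 F492157 (iv0 F492156) D218965 F494610
def n218966 : Q := act 5 n190424
theorem D218966 : act 5 n190424 = n218966 := rfl
theorem F496427 : act 3 n218966 = n190426 := d6_1 D218966 (iv5 D190426) D190424
theorem F496428 : act 0 n218966 = n215065 := d17_2 F462794 D218966 F481129 (iv4 F482203) F482204 (iv0 F414583) (iv5 F463043) (iv0 F495453) F495454
def n218967 : Q := act 0 n190426
theorem D218967 : act 0 n190426 = n218967 := rfl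
theorem F496429 : act 5 n218967 = n194998 := d17_1 D218967 F495349 F495346 (iv4 F433393) (iv5 D204721) (iv0 D124274) D124277 D204727 F434983
theorem F496430 : act 6 n218967 = n215651 := d21_5 (iv5 F379076) F379358 D211711 F462796 D218967 (iv5 D215651) (iv1 F370054) F370051 (iv6 F369861) (iv1 F379074)
theorem F496431 : act 1 n190430 = n218967 := d15_0 (iv0 D218967) (iv7 F495382) F495380
theorem F496432 : act 7 n218967 = n194768 := d15_2 (iv0 F433446) F496431 (iv2 F413358)
def n218968 : Q := act 0 n190432
theorem D218968 : act 0 n190432 = n218968 := rfl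
theorem F496433 : act 5 n218968 = n199737 := d17_1 D218968 (iv1 D199737) D199738 (iv4 F413320) (iv5 F496310) (iv0 D218944) F379469 (iv0 F379306) D190432
theorem F496434 : act 4 n218968 = n190853 := d18_1 D218968 F415958 (iv4 F476240) F476237 F430259 F380466 (iv4 F477564) (iv0 F477568) (iv5 F406282)
theorem F496435 : act 6 n218968 = n190852 := d21_5 (iv5 F367195) (iv1 F156250) D101435 (iv6 F379754) D218968 (iv5 F440385) F440388 F366096 F147501 D95824
theorem F496436 : act 2 n199750 = n218968 := d15_3 (iv0 D218968) (iv0 F461348) F461347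
theorem F496437 : act 3 n218968 = n205064 := d0_2 (iv3 F429439) F496436 (iv2 F476306) F476307 (iv2 F433362)
theorem F496438 : act 7 n218968 = n199748 := d4_2 F461347 F496436 (iv2 F461345)
def n218969 : Q := act 4 n190436
theorem D218969 : act 4 n190436 = n218969 := rfl
theorem F496439 : act 2 n218969 = n210090 := d1_1 D218969 (iv4 F481076) F481074
theorem F496440 : act 6 n218969 = n206388 := d10_2 (iv6 F413666) D218969 (iv4 F440552)
theorem F496441 : act 7 n218969 = n216126 := d11_2 F457577 D218969 F483088
theorem F496442 : act 0 n218969 = n200249 := d17_0 F415704 (iv1 F175975) (iv5 F331504) (iv4 F415720) (iv5 F416389) F416388 F372105 D190436 D218969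
theorem F496443 : act 1 n218969 = n200242 := d18_6 D130548 D207157 F443557 (iv4 F404366) F404371 D218969 (iv4 D200242) F415641 (iv5 D130551)
def n218970 : Q := act 6 n190438
theorem D218970 : act 6 n190438 = n218970 := rfl
theorem F496444 : act 2 n218970 = n200024 := d3_1 D218970 F414663 F379768
theorem F496445 : act 3 n218970 = n212879 := d7_1 D218970 F467922 F410118
theorem F496446 : act 4 n218970 = n200001 := d10_1 D218970 F414563 (iv4 F379766)
theorem F496447 : act 5 n218970 = n212869 := d12_1 D218970 F467874 (iv5 D201476) F379729 F379767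
theorem F496448 : act 0 n218970 = n200434 := d21_4 (iv5 F452295) F452297 F379767 D218970 (iv6 F416415) (iv5 D189218) F367041 (iv5 F468384) F468385 (iv1 F448255)
theorem F496449 : act 0 n200440 = n218970 := d21_4 (iv5 D135637) (iv1 F378532) F378530 (iv6 F416437) (iv6 D218970) (iv5 F379767) (iv1 D190417) F147647 D190398 (iv1 F379675)
def n218971 : Q := act 5 n190444
theorem D218971 : act 5 n190444 = n218971 := rfl
theorem F496450 : act 2 n218971 = n193694 := d2_1 D218971 F415909 F382162
theorem F496451 : act 3 n218971 = n190445 := d6_1 D218971 (iv5 D190445) D190444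
theorem F496452 : act 4 n218971 = n202374 := d9_1 D218971 F423815 F351396 D179249 (iv4 F352643) D190769 (iv4 F382168) (iv5 F415934) (iv4 F423627) (iv5 F423629) F359957 (iv5 F279189) F350614 D191084 (iv4 F382161)
theorem F496453 : act 6 n218971 = n194376 := d12_2 F399693 D218971 (iv5 F479200) F479198 F434466
theorem F496454 : act 7 n218971 = n193693 := d13_2 F474749 D218971 (iv5 F474748)
theorem F496455 : act 1 n218971 = n193696 := d17_8 (iv1 F443615) F443613 (iv1 D156952) (iv5 F245463) (iv4 F392429) F392430 (iv0 F392431) D218971 (iv4 F390711)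
theorem F496456 : act 0 n218971 = n193690 := d18_0 F390699 (iv1 D156045) F111078 (iv5 F210034) D207390 (iv0 F482402) F482401 (iv0 F392431) D218971
def n218972 : Q := act 3 n190453
theorem D218972 : act 3 n190453 = n218972 := rfl
theorem F496457 : act 4 n218972 = n200035 := d5_2 F402742 D218972 (iv3 F444612) F444613 (iv3 F402741)
theorem F496458 : act 5 n218972 = n218583 := d6_2 (iv5 F379803) D218972 (iv3 F494606)
theorem F496459 : act 6 n218972 = n200285 := d7_2 (iv6 F448371) D218972 (iv3 F448374)
theorem F496460 : act 7 n218972 = n205317 := d8_2 (iv7 F402738) D218972 F435916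
theorem F496461 : act 0 n218972 = n199857 := d20_10 (iv4 D199857) (iv1 F174527) (iv4 F379766) (iv3 F410118) (iv1 D198973) (iv3 F410110) F410111 F410114 F402742 D218972
theorem F496462 : act 0 n199860 = n218972 := d20_4 (iv4 F486646) F486649 (iv4 F486691) F486692 (iv3 D218972) (iv4 F402742) (iv1 F468389) (iv4 F488466) F488465 F379889
def n218973 : Q := act 4 n190455
theorem D218973 : act 4 n190455 = n218973 := rfl
theorem F496463 : act 2 n218973 = n190456 := d1_1 D218973 (iv4 D190456) D190455
theorem F496464 : act 3 n218973 = n201472 := d5_1 D218973 F420637 F178681 D189622 (iv3 F379805)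
theorem F496465 : act 5 n218973 = n209100 := d9_2 (iv5 F379806) D218973 F452257 (iv5 D194179) (iv4 D102893) (iv5 F293769) F376261 (iv5 F378552) D218737 F495404 F452238 F384130 (iv4 D102898) (iv5 F293771) F375297
theorem F496466 : act 6 n218973 = n201471 := d10_2 F430451 D218973 F430455
theorem F496467 : act 7 n218973 = n197164 := d11_2 F495396 D218973 (iv4 F495398)
theorem F496468 : act 0 n218973 = n197166 := d17_0 F403360 (iv1 F463936) F463939 F444752 F378574 D208215 (iv5 F495387) (iv0 F495392) D218973
theorem F496469 : act 1 n218973 = n196154 := d18_6 F376788 F369345 (iv1 F369344) F375297 (iv5 F379806) D218973 (iv4 F468402) (iv0 F488469) F488467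
def n218974 : Q := act 0 n190462
theorem D218974 : act 0 n190462 = n218974 := rfl
theorem F496470 : act 4 n218974 = n198973 := d18_3 D96041 D190462 D218974 (iv5 F420343) F420342 (iv0 F443683) F443682 (iv0 D190467) (iv5 D96044)
theorem F496471 : act 6 n218974 = n209347 := d21_5 F176652 (iv1 F165572) (iv5 F202087) F379825 D218974 (iv5 D209347) (iv1 F399220) (iv5 F399224) F399225 (iv1 F332828)
theorem F496472 : act 2 n218629 = n218974 := d15_3 (iv0 D218974) (iv0 F445130) (iv7 F494863)
theorem F496473 : act 1 n190465 = n218974 := d15_0 (iv0 D218974) (iv7 F399881) F399879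
theorem F496474 : act 3 n218630 = n218974 := d20_3 F348786 (iv1 F377484) (iv4 F494866) (iv1 F496473) F379829 F365951 (iv1 D106765) F78008 (iv3 F96574) (iv1 F365954)
def n218975 : Q := act 3 n190462
theorem D218975 : act 3 n190462 = n218975 := rfl
theorem F496475 : act 2 n218975 = n196266 := d0_1 D218975 (iv3 D196266) (iv2 F365955) D196232 (iv2 F399993)
theorem F496476 : act 4 n218975 = n217864 := d5_2 D190462 D218975 (iv3 F494608) F494609 (iv3 D190461)
theorem F496477 : act 5 n218975 = n215736 := d6_2 F478433 D218975 F481322
theorem F496478 : act 6 n218975 = n205253 := d7_2 F379825 D218975 (iv3 D205253)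
theorem F496479 : act 7 n218975 = n218527 := d8_2 F399881 D218975 F494298
theorem F496480 : act 0 n218975 = n215110 := d19_4 D113014 F376735 D190462 D218975 F478402 F280704 (iv3 F280702) (iv1 F362660) (iv5 F447202) F447201 F337813 (iv1 F151977) F294473 F293513 F75115 (iv1 F66291) (iv5 F70364) D95978 F348072
def n218976 : Q := act 4 n190468
theorem D218976 : act 4 n190468 = n218976 := rfl
theorem F496481 : act 2 n218976 = n218739 := d1_1 D218976 (iv4 D218739) F398813
theorem F496482 : act 3 n218976 = n214996 := d5_1 D218976 F477803 F413834 D199857 F413835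
theorem F496483 : act 6 n218976 = n191357 := d10_2 (iv6 F415870) D218976 (iv4 F415869)
theorem F496484 : act 7 n218976 = n208127 := d11_2 (iv7 F398812) D218976 F448000
theorem F496485 : act 5 n218976 = n208187 := d17_5 (iv1 D107480) (iv5 F163715) D195945 F398804 D218976 (iv0 D208187) (iv5 D133655) D133654 (iv4 F364663)
theorem F496486 : act 1 n218976 = n200344 := d18_6 (iv1 D133664) (iv4 F211231) D207471 F445081 F398804 D218976 (iv4 F420342) (iv0 F420344) F416097
def n218977 : Q := act 1 n190469
theorem D218977 : act 1 n190469 = n218977 := rfl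
theorem F496487 : act 1 n218977 = n200415 := d15_1 D218977 (iv7 F489233) F489229
theorem F496488 : act 7 n218977 = n218722 := d15_2 (iv0 F448014) D218977 F495319
theorem F496489 : act 4 n218977 = n218117 := d18_7 (iv1 D197052) F373521 (iv1 D97396) F71724 D96044 D190469 D218977 F492214 F447981
theorem F496490 : act 6 n191178 = n218977 := d21_3 (iv5 F455812) F474470 F474464 (iv1 D218977) F489220 F489216 F455756 F455753 (iv6 F444615) (iv1 F444616)
theorem F496491 : act 3 n218977 = n215297 := d7_1 F496490 (iv6 D215297) F415867
theorem F496492 : act 2 n216923 = n218977 := d0_5 F496491 F479269 F392403 F377640 D216923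
def n218978 : Q := act 5 n190469
theorem D218978 : act 5 n190469 = n218978 := rfl
theorem F496493 : act 2 n218978 = n214863 := d2_1 D218978 (iv5 F489232) F489229
theorem F496494 : act 3 n218978 = n198514 := d6_1 D218978 F414783 (iv3 F379838)
theorem F496495 : act 4 n218978 = n214862 := d9_1 D218978 (iv5 D214862) (iv4 F373485) (iv5 F373525) (iv4 F379811) F379812 (iv4 F416340) F477246 F477243 F257600 F193183 F294907 F71724 D96044 D190469
theorem F496496 : act 6 n218978 = n198511 := d12_2 (iv6 F489220) D218978 (iv5 D198511) D198512 (iv5 F489216)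
theorem F496497 : act 7 n218978 = n218723 := d13_2 (iv7 F379839) D218978 (iv5 D218723)
theorem F496498 : act 0 n218978 = n208193 := d17_2 (iv1 D218977) D218978 (iv5 D208193) (iv4 D133658) D133659 (iv0 F398916) F444114 (iv0 F492215) (iv4 F496489)
theorem F496499 : act 1 n218978 = n208197 := d17_6 (iv1 F176046) (iv5 F376745) (iv1 D96042) D96044 D190469 D218978 (iv5 D208197) F376681 (iv4 F361221)
def n218979 : Q := act 5 n190473
theorem D218979 : act 5 n190473 = n218979 := rfl
theorem F496500 : act 2 n218979 = n208675 := d2_1 D218979 F450416 F379849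
theorem F496501 : act 3 n218979 = n212600 := d6_1 D218979 F466631 F384217
theorem F496502 : act 6 n218979 = n212846 := d12_2 (iv6 F379847) D218979 F467757 (iv6 D189221) D189220
theorem F496503 : act 7 n218979 = n208677 := d13_2 F379850 D218979 F450419
theorem F496504 : act 4 n218979 = n199573 := d16_2 F495425 D218979 (iv5 D199573) (iv4 F211414) (iv5 F445109) F445674 F445673 F384241 F495428
theorem F496505 : act 1 n218979 = n206212 := d17_6 (iv1 F443661) F443658 F440656 (iv5 F495424) F495425 D218979 (iv5 F439734) (iv0 F399684) (iv4 F416132)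
theorem F496506 : act 0 n218979 = n218348 := d18_0 F493440 (iv1 F483650) F483649 F450428 (iv4 D190479) F378475 (iv4 F379844) F379848 D218979
def n218980 : Q := act 5 n190474
theorem D218980 : act 5 n190474 = n218980 := rfl
theorem F496507 : act 2 n218980 = n208677 := d2_1 D218980 F450419 F379854
theorem F496508 : act 3 n218980 = n212928 := d6_1 D218980 F468167 F379853
theorem F496509 : act 4 n218980 = n199571 := d9_1 D218980 (iv5 D199571) F213557 (iv5 F445604) F445603 (iv5 F495424) F495425 D218979 F496504 (iv5 D199573) (iv4 F211414) (iv5 F445109) F445674 F445673 F384239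
theorem F496510 : act 7 n218980 = n208675 := d13_2 (iv7 F379852) D218980 F450416
theorem F496511 : act 0 n218980 = n206212 := d17_2 (iv1 F379851) D218980 (iv5 F439734) (iv4 F496327) F496328 (iv0 F400105) (iv5 D190480) F378475 (iv4 F379844)
theorem F496512 : act 1 n218980 = n218348 := d17_8 (iv1 F483650) (iv5 D216287) (iv1 F337803) (iv5 F364104) (iv4 F379856) (iv5 D190475) D190474 D218980 F493440
def n218981 : Q := act 0 n190477
theorem D218981 : act 0 n190477 = n218981 := rfl
theorem F496513 : act 5 n218981 = n211713 := d17_1 D218981 (iv1 F492009) (iv5 D218070) (iv4 F373548) F360832 (iv0 D106658) (iv5 F164267) (iv0 F349639) (iv4 F379861)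
theorem F496514 : act 6 n218981 = n194571 := d21_5 D191202 (iv1 F477241) F477238 F379862 D218981 (iv5 D194571) F295616 (iv5 F295479) F293091 (iv1 F367192)
theorem F496515 : act 2 n217504 = n218981 := d15_3 (iv0 D218981) (iv0 F382469) (iv7 F489205)
theorem F496516 : act 1 n190480 = n218981 := d15_0 (iv0 D218981) F379860 (iv2 F379864)
theorem F496517 : act 7 n218981 = n217501 := d15_2 (iv0 F400105) F496516 F489188
theorem F496518 : act 3 n199826 = n218981 := d20_3 F481039 F354549 D199826 (iv1 F496516) F392223 (iv4 F364995) (iv1 F176143) (iv4 F175973) F408636 F481041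
def n218982 : Q := act 3 n190479
theorem D218982 : act 3 n190479 = n218982 := rfl
theorem F496519 : act 2 n218982 = n200440 := d0_1 D218982 (iv3 F443884) (iv2 F452301) (iv3 F494757) F494756
theorem F496520 : act 4 n218982 = n200436 := d5_2 D190479 D218982 F416424 F392220 (iv3 D190478)
theorem F496521 : act 6 n218982 = n209051 := d7_2 F494767 D218982 (iv3 F494764)
theorem F496522 : act 7 n218982 = n200434 := d8_2 (iv7 F379863) D218982 F416414
theorem F496523 : act 0 n218982 = n200024 := d20_4 F379844 (iv1 F378475) D190479 D218982 F414662 F392300 D194186 (iv4 F429306) F384217 (iv1 F379848)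
def n218983 : Q := act 4 n190482
theorem D218983 : act 4 n190482 = n218983 := rfl
theorem F496524 : act 3 n218983 = n202803 := d5_1 D218983 (iv4 F425717) (iv3 F489127) F489126 (iv3 F379866)
theorem F496525 : act 7 n218983 = n202795 := d11_2 F381195 D218983 F425620
theorem F496526 : act 0 n218983 = n215690 := d18_2 F379867 D218983 F481133 (iv5 D187405) D187404 (iv0 F370940) F370936 (iv0 D185458) (iv5 F147681)
theorem F496527 : act 1 n218983 = n217496 := d18_6 F294579 (iv4 F142797) F294796 (iv4 F147664) D190482 D218983 (iv4 D217496) (iv0 F370232) (iv5 D97320)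
theorem F496528 : act 6 n211776 = n218983 := d14_5 F496525 (iv6 D202795) F182871 D144088 D211776
def n218984 : Q := act 6 n190482
theorem D218984 : act 6 n190482 = n218984 := rfl
theorem F496529 : act 2 n218984 = n199861 := d3_1 D218984 F413845 F381207
theorem F496530 : act 3 n218984 = n214380 := d7_1 D218984 F474878 (iv3 F379866)
theorem F496531 : act 4 n218984 = n211776 := d10_1 D218984 F496528 (iv4 D218983)
theorem F496532 : act 5 n218984 = n200027 := d12_1 D218984 F414672 F378822 (iv6 F378823) D190482
theorem F496533 : act 7 n218984 = n211773 := d14_2 F381195 D218984 (iv6 D211773) (iv7 F425616) (iv6 F425618)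
theorem F496534 : act 0 n190529 = n218984 := d21_4 F336225 F354569 D203793 F429838 (iv6 D218984) (iv5 D190482) F149506 D190810 F416043 (iv1 D200336)
theorem F496535 : act 1 n218717 = n218984 := d15_0 (iv0 F496534) (iv7 F495452) F495450
def n218985 : Q := act 4 n190483
theorem D218985 : act 4 n190483 = n218985 := rfl
theorem F496536 : act 2 n218985 = n202795 := d1_1 D218985 F425620 F381193
theorem F496537 : act 3 n218985 = n211717 := d5_1 D218985 F462823 F451669 F451665 F382613
theorem F496538 : act 0 n218985 = n217496 := d18_2 (iv1 F382744) D218985 (iv4 D217496) (iv5 D187408) (iv4 F139102) D187600 F370983 F357387 (iv5 F382739)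
theorem F496539 : act 1 n218985 = n215690 := d18_6 (iv1 F294106) (iv4 F147420) F157298 F151226 D190483 D218985 F481133 (iv0 F370211) F138378
theorem F496540 : act 6 n218985 = n202792 := d21_5 (iv5 D164131) F248859 (iv5 F281170) F481135 (iv1 F496539) (iv5 D202792) (iv1 F182869) (iv5 F365103) F413849 (iv1 F413851)
def n218986 : Q := act 6 n190483
theorem D218986 : act 6 n190483 = n218986 := rfl
theorem F496541 : act 2 n218986 = n202794 := d3_1 D218986 (iv6 F425618) F381193
theorem F496542 : act 3 n218986 = n202702 := d7_1 D218986 (iv6 F425188) F382613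
theorem F496543 : act 4 n218986 = n202792 := d10_1 D218986 (iv6 F496540) (iv4 D218985)
theorem F496544 : act 5 n218986 = n202855 := d12_1 D218986 F425890 F379042 (iv6 F379044) D190483
theorem F496545 : act 7 n218986 = n211468 := d14_2 F381209 D218986 (iv6 F474564) F474565 F413845
theorem F496546 : act 0 n218986 = n190503 := d21_4 (iv5 D190810) (iv1 F149507) D190483 D218986 F379939 (iv5 D125045) (iv1 F316038) D200330 F416011 (iv1 F381181)
theorem F496547 : act 1 n218986 = n211772 := d15_1 (iv0 F496546) (iv7 F463040) F455339
def n218987 : Q := act 5 n190487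
theorem D218987 : act 5 n190487 = n218987 := rfl
theorem F496548 : act 6 n218987 = n218707 := d12_2 (iv6 F379881) D218987 (iv5 D218707) (iv6 D189952) D189951
theorem F496549 : act 1 n218987 = n191152 := d17_6 (iv1 F382744) (iv5 D190483) (iv1 D96052) D96054 D190487 D218987 (iv5 D191152) D191150 (iv4 F382741)
def n218988 : Q := act 0 n190488
theorem D218988 : act 0 n190488 = n218988 := rfl
theorem F496550 : act 5 n218988 = n194168 := d17_1 D218988 F426036 D218618 F494796 (iv5 F393205) (iv0 F393207) D210814 F458886 (iv4 F379883)
theorem F496551 : act 4 n218988 = n214992 := d18_3 (iv1 F382192) (iv4 F379883) D218988 F477782 F464722 F346243 (iv4 F458876) F458880 (iv5 F382189)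
theorem F496552 : act 6 n218988 = n214363 := d21_5 (iv5 D190483) (iv1 D96052) D96054 D190488 D218988 F474772 F434896 (iv5 F481103) F481104 (iv1 F382744)
theorem F496553 : act 1 n218706 = n218988 := d15_0 (iv0 D218988) (iv7 F410092) (iv2 F495243)
theorem F496554 : act 2 n215692 = n218988 := d3_3 F496552 (iv2 F474775) D215692
def n218989 : Q := act 1 n190488
theorem D218989 : act 1 n190488 = n218989 := rfl
theorem F496555 : act 1 n218989 = n218706 := d15_1 D218989 F495247 F494801
theorem F496556 : act 7 n218989 = n215692 := d15_2 (iv0 D218988) D218989 F496554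
theorem F496557 : act 5 n218989 = n211480 := d17_7 F426032 (iv5 D201467) (iv1 F178657) (iv5 F171458) (iv4 F382625) F382626 D218989 F461738 F426035
theorem F496558 : act 4 n218989 = n208126 := d18_7 (iv1 F465993) F465991 (iv1 F378350) (iv4 D189950) D189951 (iv4 F379883) D218989 (iv0 F467421) F415849
theorem F496559 : act 3 n200030 = n218989 := d19_19 (iv1 D218989) (iv5 F382626) F382625 F171457 (iv1 F80541) (iv5 F78524) (iv4 F83752) (iv3 F179024) (iv1 F355355) F142438 F336945 (iv3 D134055) D134053 (iv5 F411700) (iv4 F426053) (iv3 D202888) F230699 (iv5 F399042) (iv4 F414682)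
theorem F496560 : act 6 n200028 = n218989 := d21_3 F495298 (iv1 D214318) (iv5 F414675) (iv1 D218989) (iv6 D190488) (iv5 D96054) D96051 D190482 D218984 (iv1 F496535)
def n218990 : Q := act 5 n190491
theorem D218990 : act 5 n190491 = n218990 := rfl
theorem F496561 : act 2 n218990 = n206409 := d2_1 D218990 (iv5 F495424) (iv2 F495428)
theorem F496562 : act 3 n218990 = n212994 := d6_1 D218990 (iv5 D212994) F379899
theorem F496563 : act 4 n218990 = n208734 := d9_1 D218990 (iv5 D208734) (iv4 D134991) (iv5 F332732) D208677 F450419 F384255 (iv5 F440574) F440575 F359028 (iv4 D134986) (iv5 F332713) D208675 F450416 (iv4 F379898)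
theorem F496564 : act 7 n218990 = n207612 := d13_2 F384241 D218990 F445673
theorem F496565 : act 0 n218990 = n196098 := d17_2 D190491 D218990 (iv5 F399397) (iv4 F462050) (iv5 F492453) (iv0 D218162) (iv5 F377098) (iv0 F379895) F379892
theorem F496566 : act 1 n218990 = n207611 := d17_8 (iv1 F399280) (iv5 F349640) (iv1 D106613) D106615 (iv4 F377252) (iv5 F494170) F494174 D218990 (iv4 D207611)
theorem F496567 : act 6 n218990 = n215657 := d21_3 F150156 D190491 D218990 (iv1 D215657) (iv6 D176737) (iv5 D84259) D84256 D176726 F382632 (iv1 D191220)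
def n218991 : Q := act 4 n190503
theorem D218991 : act 4 n190503 = n218991 := rfl
theorem F496568 : act 3 n218991 = n200382 := d5_1 D218991 F416223 F392355 (iv4 F363581) D190503
theorem F496569 : act 6 n218991 = n204995 := d10_2 (iv6 F379939) D218991 (iv4 D204995)
theorem F496570 : act 7 n218991 = n211828 := d11_2 F495434 D218991 (iv4 F495432)
theorem F496571 : act 5 n218991 = n200381 := d16_1 D218991 F416218 F330553 (iv4 F179736) (iv5 F360864) (iv4 F391906) (iv5 F463038) (iv7 F463040) F455339
theorem F496572 : act 0 n218991 = n211709 := d17_0 (iv5 D211709) F392459 F392455 (iv4 F440643) (iv5 F452672) F452675 (iv5 F408749) (iv0 F379940) D218991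
theorem F496573 : act 1 n218991 = n191153 := d18_6 (iv1 F347191) F162241 D105644 D195514 (iv5 F397199) D218991 F382414 D191154 (iv5 F382418)
def n218992 : Q := act 5 n190508
theorem D218992 : act 5 n190508 = n218992 := rfl
theorem F496574 : act 0 n218992 = n204728 := d17_2 D190508 D218992 (iv5 F480991) F480990 (iv5 D195758) D195757 (iv5 F398060) (iv0 F379751) (iv4 F147724)
def n218993 : Q := act 6 n190512
theorem D218993 : act 6 n190512 = n218993 := rfl
theorem F496575 : act 2 n218993 = n216349 := d3_1 D218993 (iv6 D216349) F379964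
theorem F496576 : act 3 n218993 = n217549 := d7_1 D218993 (iv6 F489435) (iv3 F486915)
theorem F496577 : act 5 n218993 = n216320 := d12_1 D218993 (iv6 D216320) F368863 F372635 (iv5 F379962)
theorem F496578 : act 7 n218993 = n217792 := d14_2 F379965 D218993 F490654 F475864 (iv6 F385150)
theorem F496579 : act 0 n218993 = n217935 := d21_4 (iv5 F294366) (iv1 F372631) (iv5 F379962) D218993 F491331 F454156 (iv1 F319028) (iv5 F453537) F453538 F366996
theorem F496580 : act 0 n218087 = n218993 := d19_0 F496577 F483821 D217954 F491403 F483417 F475809 (iv3 D159851) F114684 (iv5 F114200) (iv4 D76226) D76225 (iv1 F178539) (iv5 D114479) (iv4 D52840) D52839 F162627 (iv5 F370578) (iv4 F373612) D218087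
def n218994 : Q := act 0 n190514
theorem D218994 : act 0 n190514 = n218994 := rfl
theorem F496581 : act 4 n218994 = n201223 := d18_3 F491485 F491482 D218994 (iv5 D201223) (iv4 D114139) F142464 (iv4 F374141) (iv0 F374144) D201208
theorem F496582 : act 3 n218994 = n212315 := d20_5 D189592 (iv1 F448084) F379974 (iv3 F379971) D218994 (iv4 D212315) (iv1 F465113) (iv4 F493455) F493454 (iv1 F377027)
theorem F496583 : act 6 n218994 = n208235 := d21_5 (iv5 D190511) (iv1 D96103) D96105 D190514 D218994 F448513 (iv1 F424621) F424617 (iv6 D191780) (iv1 F379961)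
theorem F496584 : act 2 n204483 = n218994 := d3_3 F496583 F448511 (iv6 F432677)
def n218995 : Q := act 1 n190514
theorem D218995 : act 1 n190514 = n218995 := rfl
theorem F496585 : act 7 n218995 = n204483 := d15_2 (iv0 D218994) D218995 F496584
theorem F496586 : act 6 n208917 = n218995 := d21_3 F384379 (iv1 F238368) D208917 (iv1 D218995) (iv6 D190514) (iv5 D96105) (iv1 F157243) D190112 F378875 F384380
theorem F496587 : act 3 n218995 = n191860 := d7_1 F496586 (iv6 F384600) (iv3 F451399)
theorem F496588 : act 4 n218995 = n201218 := d10_1 F496586 (iv6 F419485) (iv4 F451400)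
def n218996 : Q := act 7 n190514
theorem D218996 : act 7 n190514 = n218996 := rfl
theorem F496589 : act 3 n218996 = n190519 := d8_1 D218996 (iv7 D190519) (iv3 F379971)
theorem F496590 : act 6 n218996 = n216351 := d14_1 D218996 (iv7 D216351) (iv6 D183122) (iv7 F147743) D190514
def n218997 : Q := act 1 n190515
theorem D218997 : act 1 n190515 = n218997 := rfl
theorem F496591 : act 7 n218997 = n201444 := d15_2 F428029 D218997 (iv2 F428025)
theorem F496592 : act 5 n218997 = n201445 := d18_9 F420534 (iv4 F384413) F428450 F428448 F187588 (iv4 F239740) D213120 (iv4 F469092) D218997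
theorem F496593 : act 4 n193025 = n218997 := d20_6 (iv4 D217580) F370948 D188222 (iv3 F388557) (iv1 D193030) (iv3 F388544) (iv1 D218997) F469092 (iv3 F469091) (iv1 F489612)
theorem F496594 : act 6 n192708 = n218997 := d21_3 (iv5 D184494) F154731 D192708 (iv1 D218997) (iv6 F452036) (iv5 F452034) F451897 F443947 F431373 (iv1 F373342)
theorem F496595 : act 2 n218997 = n216352 := d3_1 F496594 F483965 (iv2 F387576)
theorem F496596 : act 3 n218997 = n201452 := d7_1 F496594 F420555 (iv3 F387577)
theorem F496597 : act 0 n201537 = n218997 := d21_4 F420601 (iv1 F178609) D114797 D201537 (iv6 F496594) (iv5 D192708) F154612 D184506 (iv6 F371370) (iv1 F420604)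
def n218998 : Q := act 2 n190515
theorem D218998 : act 2 n190515 = n218998 := rfl
theorem F496598 : act 3 n218998 = n201443 := d0_2 D190515 D218998 F420528 (iv3 D183133) (iv2 F147746)
theorem F496599 : act 4 n218998 = n192740 := d1_2 (iv4 F469092) D218998 F469090
theorem F496600 : act 6 n218998 = n209029 := d3_2 F452036 D218998 (iv2 F452035)
theorem F496601 : act 7 n218998 = n201537 := d4_2 (iv7 F379972) D218998 F420889
theorem F496602 : act 1 n218998 = n216352 := d15_0 (iv0 D216352) (iv7 F379972) D218998
theorem F496603 : act 1 n201444 = n218998 := d15_0 F496602 (iv7 F483966) F428025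
def n218999 : Q := act 6 n190520
theorem D218999 : act 6 n190520 = n218999 := rfl
theorem F496604 : act 2 n218999 = n190645 := d3_1 D218999 (iv6 D190645) (iv2 F379983)
theorem F496605 : act 3 n218999 = n190521 := d7_1 D218999 (iv6 D190521) D190520
theorem F496606 : act 4 n218999 = n201073 := d10_1 D218999 (iv6 F418988) (iv4 F379985)
theorem F496607 : act 0 n218999 = n208056 := d21_4 (iv5 F365942) (iv1 F283164) (iv5 F379984) D218999 (iv6 D208056) (iv5 F365206) (iv1 D183228) (iv5 F330361) F330362 D183236
theorem F496608 : act 0 n208984 = n218999 := d21_4 (iv5 D200001) F403799 (iv5 F415846) (iv6 F451704) (iv6 D218999) F379984 (iv1 F283169) F367090 (iv6 F482226) F482228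
def n219000 : Q := act 6 n190526
theorem D219000 : act 6 n190526 = n219000 := rfl
theorem F496609 : act 2 n219000 = n218715 := d3_1 D219000 (iv6 F495289) (iv2 F382764)
theorem F496610 : act 3 n219000 = n190528 := d7_1 D219000 (iv6 D190528) D190526
theorem F496611 : act 4 n219000 = n218533 := d10_1 D219000 (iv6 F494333) (iv4 F392373)
theorem F496612 : act 0 n219000 = n203873 := d21_4 F494367 F480973 F474541 D219000 F430184 (iv5 D121148) (iv1 F298016) D164126 (iv6 F430963) D218540
def n219001 : Q := act 6 n190527
theorem D219001 : act 6 n190527 = n219001 := rfl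
theorem F496613 : act 2 n219001 = n209133 := d3_1 D219001 F452411 (iv2 F379994)
theorem F496614 : act 3 n219001 = n207209 := d7_1 D219001 (iv6 F493422) F493421
theorem F496615 : act 4 n219001 = n190528 := d10_1 D219001 (iv6 D190528) D190527
theorem F496616 : act 5 n219001 = n207350 := d12_1 D219001 (iv6 D207350) (iv5 F209509) D135828 (iv5 F379996)
theorem F496617 : act 7 n219001 = n218461 := d14_2 (iv7 F379995) D219001 F494004 (iv7 F490536) F490535
theorem F496618 : act 0 n219001 = n198944 := d21_4 F376158 F364361 (iv5 F379996) D219001 (iv6 D198944) (iv5 D110746) F164405 (iv5 F398282) F398287 F379733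
def n219002 : Q := act 7 n190528
theorem D219002 : act 7 n190528 = n219002 := rfl
theorem F496619 : act 2 n219002 = n218719 := d4_1 D219002 (iv7 F495460) F495457
theorem F496620 : act 4 n219002 = n218461 := d11_1 D219002 (iv7 F496617) F496615
theorem F496621 : act 5 n219002 = n190853 := d13_1 D219002 (iv7 F394345) (iv5 F394346)
theorem F496622 : act 6 n219002 = n190854 := d14_1 D219002 (iv7 F429806) F429805 (iv7 F378611) D190528
theorem F496623 : act 0 n215658 = n219002 := d21_4 (iv5 F477766) (iv1 F477770) F477230 F480993 F496622 (iv5 D190854) (iv1 F347840) (iv5 F377980) (iv6 F399688) F399690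
def n219003 : Q := act 2 n190529
theorem D219003 : act 2 n190529 = n219003 := rfl
theorem F496624 : act 5 n219003 = n199842 := d2_2 (iv5 F408250) D219003 F413766
theorem F496625 : act 7 n219003 = n218717 := d4_2 F495452 D219003 (iv2 F495450)
theorem F496626 : act 1 n219003 = n211773 := d15_0 (iv0 F495453) F495452 D219003
theorem F496627 : act 1 n199861 = n219003 := d15_0 F496626 (iv7 F496533) F496529
theorem F496628 : act 4 n218718 = n219003 := d18_7 F414583 (iv4 F482892) F482896 F394764 F341814 (iv4 F486064) F495302 F496626 F463043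
theorem F496629 : act 0 n200397 = n218493 := d20_4 (iv4 F463042) (iv1 F496626) (iv4 F496628) F495300 F494152 (iv4 D189762) (iv1 D94446) D94447 F291650 F416422
def n219004 : Q := act 4 n190529
theorem D219004 : act 4 n190529 = n219004 := rfl
theorem F496630 : act 2 n219004 = n218718 := d1_1 D219004 F496628 (iv2 D219003)
theorem F496631 : act 3 n219004 = n211832 := d5_1 D219004 F463231 F392311 (iv4 D190530) D190529
theorem F496632 : act 6 n219004 = n215679 := d10_2 F429838 D219004 F481082
theorem F496633 : act 7 n219004 = n190759 := d11_2 F495452 D219004 (iv4 F495454)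
theorem F496634 : act 0 n219004 = n215665 := d18_2 F474566 D219004 (iv4 D215665) (iv5 D176827) D176826 F481012 F481010 (iv0 F414419) (iv5 F474563)
theorem F496635 : act 0 n191197 = n219004 := d20_10 (iv4 D219004) F496534 F496531 F463051 (iv1 F370188) F370186 (iv4 F294906) (iv1 F358964) (iv4 F358965) D191197
def n219005 : Q := act 2 n190533
theorem D219005 : act 2 n190533 = n219005 := rfl
theorem F496636 : act 3 n219005 = n193646 := d0_2 D190533 D219005 (iv2 D193646) (iv3 D102140) (iv2 F147797)
theorem F496637 : act 4 n219005 = n201048 := d1_2 F490123 D219005 (iv2 F490121)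
theorem F496638 : act 5 n219005 = n193646 := d2_2 (iv5 F380016) D219005 (iv2 D193646)
theorem F496639 : act 6 n219005 = n195724 := d3_2 F456139 D219005 (iv2 F456137)
theorem F496640 : act 1 n219005 = n206576 := d15_0 (iv0 F441400) F380125 D219005
theorem F496641 : act 1 n206616 = n219005 := d15_0 F496640 F441398 (iv2 F441588)
def n219006 : Q := act 5 n190537
theorem D219006 : act 5 n190537 = n219006 := rfl
theorem F496642 : act 2 n219006 = n194073 := d2_1 D219006 (iv5 D194073) (iv2 F380028)
theorem F496643 : act 3 n219006 = n196045 := d6_1 D219006 F399172 (iv3 F380029)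
theorem F496644 : act 6 n219006 = n194073 := d12_2 D190537 D219006 (iv5 D194073) F157831 (iv5 F147810)
theorem F496645 : act 7 n219006 = n196040 := d13_2 (iv7 F380031) D219006 (iv5 D196040)
theorem F496646 : act 0 n219006 = n205475 := d17_2 (iv1 F380033) D219006 F436609 F418006 F225340 F99532 D64654 F220917 D137137
theorem F496647 : act 1 n219006 = n205476 := d17_6 (iv1 F418042) F367709 (iv1 D99857) D99858 (iv4 F380030) D219006 F436611 F418011 (iv4 F418041)
def n219007 : Q := act 3 n190538
theorem D219007 : act 3 n190538 = n219007 := rfl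
theorem F496648 : act 5 n219007 = n207494 := d6_2 F389059 D219007 (iv3 F445136)
theorem F496649 : act 0 n219007 = n207499 := d19_4 D125836 (iv5 F417180) F417181 D219007 F445155 (iv4 F437678) (iv3 D205746) (iv1 D126570) D126571 F345894 F208190 D129852 F208200 F203353 F167951 (iv1 D62981) (iv5 F76482) F76481 (iv3 F93140)
def n219008 : Q := act 3 n190539
theorem D219008 : act 3 n190539 = n219008 := rfl
theorem F496650 : act 4 n219008 = n197020 := d5_2 (iv4 F417200) D219008 F402710 (iv4 F402717) F417199
theorem F496651 : act 5 n219008 = n207771 := d6_2 F384162 D219008 F446355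
theorem F496652 : act 6 n219008 = n191117 := d7_2 F441022 D219008 (iv3 F441021)
theorem F496653 : act 7 n219008 = n197017 := d8_2 (iv7 F417188) D219008 (iv3 F402715)
theorem F496654 : act 0 n219008 = n207493 := d19_4 (iv1 F436037) (iv5 F417202) (iv4 F417200) D219008 F445133 F418067 (iv3 D200078) (iv1 D112603) (iv5 D51955) F39695 F19741 D11970 F23002 D28846 D60814 (iv1 F341925) (iv5 F341928) (iv4 F430017) (iv3 F436034)
theorem F496655 : act 0 n195943 = n219008 := d20_4 F164303 (iv1 F77890) D106466 D195943 (iv3 D219008) F417200 (iv1 D200610) F328353 (iv3 D131859) (iv1 F164306)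
theorem F496656 : act 2 n219008 = n207466 := d15_3 (iv0 F445066) (iv0 F443402) (iv7 F496653)
def n219009 : Q := act 3 n190548
theorem D219009 : act 3 n190548 = n219009 := rfl
theorem F496657 : act 2 n219009 = n193030 := d0_1 D219009 F388557 F372723 F367956 F380099
theorem F496658 : act 5 n219009 = n198939 := d6_2 F389583 D219009 F409990
theorem F496659 : act 7 n219009 = n193029 := d8_2 (iv7 F380097) D219009 F388554
theorem F496660 : act 0 n219009 = n192970 := d19_4 (iv1 F248852) D157975 (iv4 F380098) D219009 F388389 (iv4 F438639) F438638 (iv1 F209366) F321980 F122246 (iv3 D57931) (iv1 F87597) D120268 (iv4 F191550) D203699 F477592 (iv5 D214948) (iv4 F410620) (iv3 F410621)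
theorem F496661 : act 0 n193031 = n219009 := d20_4 (iv4 F496599) (iv1 F496603) (iv4 F420532) (iv3 F388558) (iv3 D219009) F380098 F354688 F154648 (iv3 F154645) D192740
def n219010 : Q := act 6 n190548
theorem D219010 : act 6 n190548 = n219010 := rfl
theorem F496662 : act 2 n219010 = n193055 := d3_1 D219010 F388696 F380099
theorem F496663 : act 4 n219010 = n214288 := d10_1 D219010 (iv6 D214288) (iv4 F380098)
theorem F496664 : act 7 n219010 = n193056 := d14_2 (iv7 F380097) D219010 (iv6 F487764) F487761 (iv6 D193081)
theorem F496665 : act 0 n219010 = n193058 := d21_4 F482828 F434825 F389583 D219010 F388614 (iv5 F389691) (iv1 F389693) (iv5 D188155) D188156 (iv1 F482831)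
theorem F496666 : act 0 n192011 = n219010 := d21_4 F155785 F310374 F308582 D192011 (iv6 D219010) (iv5 F389583) (iv1 D193363) F156342 (iv6 D101127) D101124
def n219011 : Q := act 2 n190553
theorem D219011 : act 2 n190553 = n219011 := rfl
theorem F496667 : act 3 n219011 = n207464 := d0_2 D190553 D219011 F445054 (iv3 D190534) (iv2 F147838)
theorem F496668 : act 4 n219011 = n208140 := d1_2 F443993 D219011 F448059
theorem F496669 : act 5 n219011 = n207464 := d2_2 (iv5 F380124) D219011 F445054
theorem F496670 : act 6 n219011 = n191130 := d3_2 F443991 D219011 (iv2 F443985)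
theorem F496671 : act 7 n219011 = n219005 := d4_2 (iv7 F380125) D219011 (iv2 D219005)
theorem F496672 : act 1 n219011 = n201686 := d15_0 (iv0 F421373) (iv7 F380125) D219011
theorem F496673 : act 1 n215182 = n219011 := d15_0 F496672 (iv7 F441398) (iv2 F478764)
def n219012 : Q := act 3 n190554
theorem D219012 : act 3 n190554 = n219012 := rfl
theorem F496674 : act 5 n219012 = n208107 := d6_2 (iv5 F380717) D219012 F447899
theorem F496675 : act 7 n219012 = n219007 := d8_2 (iv7 F417187) D219012 (iv3 D219007)
theorem F496676 : act 0 n219012 = n206573 := d21_1 (iv5 F496674) (iv5 D206573) (iv6 F395731) F439135 F439132 (iv5 D128680) D128678 D206483 F445139 F447901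
def n219013 : Q := act 4 n190554
theorem D219013 : act 4 n190554 = n219013 := rfl
theorem F496677 : act 2 n219013 = n200610 := d1_1 D219013 (iv4 F417200) (iv2 F417189)
theorem F496678 : act 5 n219013 = n200693 := d9_2 (iv5 F380717) D219013 F417519 (iv5 F407346) F407344 (iv5 F407347) (iv4 F394026) (iv5 F380127) (iv4 F402714) (iv5 F436020) F436018 (iv5 F364846) (iv4 F461288) F461290 F394246
theorem F496679 : act 6 n219013 = n206415 := d10_2 F437152 D219013 F440680
theorem F496680 : act 7 n219013 = n200609 := d11_2 (iv7 F417187) D219013 F417181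
theorem F496681 : act 0 n219013 = n200599 := d17_0 (iv5 D200599) F399377 (iv5 D196093) F399369 (iv5 F395402) (iv0 F456820) F456818 F380126 D219013
theorem F496682 : act 1 n219013 = n200611 := d18_6 (iv1 F441405) F441404 (iv1 F378151) F394246 (iv5 F380717) D219013 F417204 (iv0 F483716) F483715
def n219014 : Q := act 0 n190568
theorem D219014 : act 0 n190568 = n219014 := rfl
theorem F496683 : act 5 n219014 = n216233 := d17_1 D219014 F483458 F283658 (iv4 F285562) (iv5 F445316) (iv0 F452736) F452735 (iv0 D190566) D190568
theorem F496684 : act 4 n219014 = n191628 := d18_3 (iv1 D190567) D190568 D219014 F383980 F216409 F396092 (iv4 F450614) (iv0 F450618) (iv5 F449830)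
theorem F496685 : act 6 n219014 = n216800 := d21_5 D102361 F347708 F347709 (iv6 F380150) D219014 F485974 F485988 F485989 (iv6 D191303) (iv1 F151047)
theorem F496686 : act 2 n216236 = n219014 := d15_3 (iv0 D219014) (iv0 F495167) (iv7 F495169)
theorem F496687 : act 7 n219014 = n216241 := d4_2 (iv7 F495169) F496686 (iv2 F495164)
theorem F496688 : act 1 n193839 = n219014 := d15_1 (iv0 F495168) F496687 (iv2 F495164)
def n219015 : Q := act 7 n190568
theorem D219015 : act 7 n190568 = n219015 := rfl
theorem F496689 : act 2 n219015 = n193839 := d4_1 D219015 F391155 (iv2 F380149)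
theorem F496690 : act 3 n219015 = n216626 := d8_1 D219015 (iv7 F495040) F495037
theorem F496691 : act 4 n219015 = n190569 := d11_1 D219015 (iv7 D190569) D190568
theorem F496692 : act 6 n219015 = n214440 := d14_1 D219015 F475191 F388662 F157129 (iv6 F380150)
theorem F496693 : act 1 n216241 = n219015 := d15_1 (iv0 F483444) (iv7 D219015) F380149
theorem F496694 : act 1 n219015 = n216236 := d15_1 F496693 F495169 F495164
def n219016 : Q := act 2 n190581
theorem D219016 : act 2 n190581 = n219016 := rfl
theorem F496695 : act 3 n219016 = n211104 := d0_2 D190581 D219016 F460115 (iv3 D184221) (iv2 F147966)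
theorem F496696 : act 4 n219016 = n193853 := d1_2 (iv4 F380200) D219016 F391214
theorem F496697 : act 5 n219016 = n216512 := d2_2 (iv5 F380201) D219016 (iv2 D216512)
theorem F496698 : act 6 n219016 = n193852 := d3_2 (iv6 F380202) D219016 F391210
theorem F496699 : act 0 n219016 = n217720 := d21_10 (iv5 D217720) F373398 (iv5 F393860) F401804 (iv1 F449023) (iv6 F449024) (iv5 F449059) (iv1 F490072) F490070 (iv6 F496698)
def n219017 : Q := act 5 n190583
theorem D219017 : act 5 n190583 = n219017 := rfl
theorem F496700 : act 2 n219017 = n210437 := d2_1 D219017 F457530 (iv2 F380209)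
theorem F496701 : act 4 n219017 = n214394 := d9_1 D219017 F474952 F421656 F251990 F176033 D103857 F331287 (iv5 F413505) (iv4 F474943) F474944 (iv4 D188712) (iv5 D92688) (iv4 F70606) D96219 D190583
theorem F496702 : act 0 n219017 = n208641 := d17_2 (iv1 F380210) D219017 (iv5 D208641) F372082 (iv5 D188010) F177338 (iv5 F314178) F314176 D103264
theorem F496703 : act 1 n219017 = n194344 := d17_6 (iv1 F375085) (iv5 D188869) F176028 D96219 D190583 D219017 (iv5 D194344) D194343 F392887
def n219018 : Q := act 0 n190588
theorem D219018 : act 0 n190588 = n219018 := rfl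
theorem F496704 : act 5 n219018 = n215014 := d17_1 D219018 (iv1 F477894) F439443 (iv4 F258978) (iv5 F176097) (iv0 F397761) (iv5 F443737) (iv0 F443739) (iv4 F380231)
theorem F496705 : act 4 n219018 = n207205 := d18_1 D219018 F443794 F419626 (iv5 D191100) (iv4 F259000) F177963 (iv4 F352663) (iv0 F350602) D190588
theorem F496706 : act 3 n219018 = n218625 := d20_5 (iv4 F172129) F377522 F377521 (iv3 F380229) D219018 F494841 F400392 (iv4 F438999) (iv3 D206048) (iv1 D127110)
theorem F496707 : act 6 n219018 = n207169 := d21_5 (iv5 D93934) (iv1 F178361) D96957 (iv6 F380230) D219018 F443627 (iv1 F441490) (iv5 F486374) (iv6 D216883) (iv1 F331391)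
theorem F496708 : act 2 n215030 = n219018 := d15_3 (iv0 D219018) (iv0 F420277) F477980
theorem F496709 : act 1 n215031 = n219018 := d15_0 (iv0 D219018) (iv7 F456111) (iv2 F477982)
theorem F496710 : act 7 n219018 = n211697 := d15_2 F477985 F496709 F462740
def n219019 : Q := act 7 n190590
theorem D219019 : act 7 n190590 = n219019 := rfl
theorem F496711 : act 2 n219019 = n212478 := d4_1 D219019 (iv7 D212478) (iv2 F380238)
theorem F496712 : act 3 n219019 = n190591 := d8_1 D219019 (iv7 D190591) (iv3 F380239)
theorem F496713 : act 4 n219019 = n203658 := d11_1 D219019 F429273 (iv4 F380240)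
theorem F496714 : act 6 n219019 = n212478 := d14_1 D219019 (iv7 D212478) F230849 (iv7 F148000) D190590
theorem F496715 : act 1 n212476 = n219019 := d15_1 D212476 (iv7 D219019) F380238
theorem F496716 : act 1 n219019 = n212475 := d15_1 F496715 (iv7 F465981) F465984
def n219020 : Q := act 0 n190592
theorem D219020 : act 0 n190592 = n219020 := rfl
theorem F496717 : act 5 n219020 = n215032 := d17_1 D219020 F477989 F464719 F413768 (iv5 F435192) F435195 F366354 F202188 (iv4 F380248)
theorem F496718 : act 4 n219020 = n198079 := d18_1 D219020 F406707 F202350 (iv5 F338517) (iv4 F338506) F259544 (iv4 F380222) F380225 D190592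
theorem F496719 : act 3 n219020 = n197778 := d20_5 (iv4 F176639) F377902 (iv4 F377901) (iv3 F380247) D219020 (iv4 D197778) (iv1 F168587) D109044 (iv3 F244965) (iv1 F244969)
theorem F496720 : act 2 n199946 = n219020 := d15_3 (iv0 D219020) (iv0 F408906) (iv7 F414270)
theorem F496721 : act 1 n190593 = n219020 := d15_0 (iv0 D219020) (iv7 F395479) F395478
theorem F496722 : act 7 n219020 = n198200 := d15_2 F408907 F496721 (iv2 F408905)
theorem F496723 : act 6 n200682 = n219020 := d21_3 (iv5 F397281) (iv1 F410985) (iv5 F417463) (iv1 F496721) (iv6 F455303) F455300 (iv1 F220700) D200723 F417640 F413990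
def n219021 : Q := act 5 n190596
theorem D219021 : act 5 n190596 = n219021 := rfl
theorem F496724 : act 2 n219021 = n205352 := d2_1 D219021 F436040 (iv2 F405935)
theorem F496725 : act 3 n219021 = n205164 := d6_1 D219021 (iv5 F435636) F435635
theorem F496726 : act 6 n219021 = n205323 := d12_2 (iv6 F380252) D219021 F441337 (iv6 D206561) F362290
theorem F496727 : act 7 n219021 = n205160 := d13_2 F436253 D219021 (iv5 F436254)
theorem F496728 : act 4 n219021 = n207616 := d16_2 D190596 D219021 F445686 (iv4 F356100) F356101 (iv4 F380222) (iv5 F479772) F479773 F380217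
theorem F496729 : act 0 n219021 = n205362 := d17_2 (iv1 F380253) D219021 F436079 F202354 (iv5 F338519) (iv0 D97209) D97211 F318863 D137283
theorem F496730 : act 1 n219021 = n205359 := d17_6 (iv1 F496721) (iv5 D190593) (iv1 D96227) D96228 D190596 D219021 (iv5 D205359) (iv0 F406707) (iv4 F496718)
def n219022 : Q := act 1 n190599
theorem D219022 : act 1 n190599 = n219022 := rfl
theorem F496731 : act 1 n219022 = n190601 := d15_1 D219022 (iv7 F394509) F394507
theorem F496732 : act 7 n219022 = n215638 := d15_2 (iv0 F380262) D219022 F480891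
theorem F496733 : act 4 n219022 = n194842 := d17_9 (iv1 F394709) F360320 F159057 (iv5 F159115) (iv4 F393464) F393465 (iv0 F436376) F436375 D219022
theorem F496734 : act 5 n219022 = n206087 := d18_9 F439196 (iv4 F489760) F489762 (iv4 F447883) (iv5 F478368) F478367 (iv0 D190598) D190599 D219022
theorem F496735 : act 3 n199987 = n219022 := d20_3 F203086 F174362 (iv4 F414487) (iv1 D219022) F436803 (iv4 F440729) (iv1 F440732) (iv4 F417762) F417761 F203087
theorem F496736 : act 6 n199985 = n219022 := d21_3 F415178 F397856 F414479 (iv1 D219022) F417037 (iv5 F417035) (iv1 F202448) (iv5 F202175) D205284 (iv1 F435769)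
theorem F496737 : act 2 n219022 = n194843 := d3_1 F496736 F394716 (iv2 F414475)
def n219023 : Q := act 5 n190601
theorem D219023 : act 5 n190601 = n219023 := rfl
theorem F496738 : act 3 n219023 = n206455 := d6_1 D219023 F440896 (iv3 F380265)
theorem F496739 : act 4 n219023 = n206671 := d9_1 D219023 (iv5 F486093) F486094 (iv5 D187636) (iv4 F139166) D96231 D190599 (iv5 F436375) F436374 D208958 F451560 (iv5 D186194) (iv4 F292565) D96235 D190601
theorem F496740 : act 6 n219023 = n217077 := d12_2 F395744 D219023 F487293 (iv6 D206448) F395745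
theorem F496741 : act 7 n219023 = n200852 := d13_2 F394509 D219023 (iv5 F418156)
theorem F496742 : act 0 n219023 = n200675 := d17_2 (iv1 F380266) D219023 (iv5 D200675) (iv4 F321136) (iv5 D103671) D103670 F331169 (iv0 F350447) D190396
theorem F496743 : act 1 n219023 = n193364 := d17_6 (iv1 F160243) (iv5 D104588) (iv1 F76033) D96235 D190601 D219023 (iv5 F393465) F393467 (iv4 D190603)
def n219024 : Q := act 1 n190609
theorem D219024 : act 1 n190609 = n219024 := rfl
theorem F496744 : act 1 n219024 = n190613 := d15_1 D219024 (iv7 D190613) (iv2 F380280)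
theorem F496745 : act 7 n219024 = n190610 := d15_2 (iv0 F478350) D219024 (iv2 F478345)
theorem F496746 : act 4 n219024 = n197096 := d17_9 (iv1 D197096) (iv5 D107642) (iv1 F360181) (iv5 F166939) (iv4 F173667) (iv5 F336225) D200336 (iv5 F416044) D219024
theorem F496747 : act 3 n212476 = n219024 := d20_3 (iv4 F183361) (iv1 F234582) (iv4 F465983) (iv1 D219024) F380281 (iv4 F377957) (iv1 F445251) (iv4 F445253) (iv3 D189947) (iv1 F148702)
theorem F496748 : act 6 n218678 = n219024 := d21_3 D190062 D218774 F495600 (iv1 D219024) (iv6 D190609) F148017 (iv1 F71403) D87459 D183218 (iv1 F361183)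
theorem F496749 : act 5 n215982 = n219024 := d21_6 F379879 (iv1 D188470) D188471 F373635 (iv1 F474893) (iv6 F482407) (iv1 D219024) F416044 (iv6 F416043) (iv1 F381182)
theorem F496750 : act 2 n219024 = n190611 := d2_1 F496749 F444656 F482406
def n219025 : Q := act 7 n190609
theorem D219025 : act 7 n190609 = n219025 := rfl
theorem F496751 : act 2 n219025 = n190613 := d4_1 D219025 (iv7 D190613) (iv2 F380280)
theorem F496752 : act 3 n219025 = n190672 := d8_1 D219025 (iv7 D190672) (iv3 F380281)
theorem F496753 : act 4 n219025 = n200512 := d11_1 D219025 F416805 (iv4 F380282)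
theorem F496754 : act 5 n219025 = n200280 := d13_1 D219025 (iv7 F416042) (iv5 F416044)
theorem F496755 : act 6 n219025 = n198954 := d14_1 D219025 F410044 F363167 (iv7 F148018) D190609
theorem F496756 : act 1 n190611 = n219025 := d15_1 D190611 (iv7 D219025) F380280
theorem F496757 : act 1 n219025 = n190610 := d15_1 F496756 (iv7 F496745) F496750
def n219026 : Q := act 4 n190612
theorem D219026 : act 4 n190612 = n219026 := rfl
theorem F496758 : act 3 n219026 = n193699 := d5_1 D219026 F390720 F379590 F379589 (iv3 F380285)
theorem F496759 : act 5 n219026 = n193696 := d9_2 D190612 D219026 (iv4 F390711) F416801 (iv4 D200511) D200512 (iv4 F496753) F496754 (iv4 F416311) F416310 F390699 F332268 F278461 D178917 F351335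
theorem F496760 : act 6 n219026 = n190817 := d10_2 (iv6 F380286) D219026 (iv4 D190817)
theorem F496761 : act 7 n219026 = n193695 := d11_2 (iv7 F416039) D219026 (iv4 F416035)
def n219027 : Q := act 4 n190614
theorem D219027 : act 4 n190614 = n219027 := rfl
theorem F496762 : act 2 n219027 = n207179 := d1_1 D219027 F443669 (iv2 F380291)
theorem F496763 : act 3 n219027 = n214572 := d5_1 D219027 F475851 (iv3 D189746) F377606 (iv3 F380292)
theorem F496764 : act 6 n219027 = n207175 := d10_2 (iv6 F380293) D219027 (iv4 D207175)
theorem F496765 : act 7 n219027 = n216348 := d11_2 (iv7 F380294) D219027 F483956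
theorem F496766 : act 5 n219027 = n191343 := d16_1 D219027 (iv4 D191343) F304537 (iv4 F233808) F310949 (iv4 F334523) D190615 F380298 (iv2 F380291)
theorem F496767 : act 0 n219027 = n218727 := d17_0 F495340 (iv1 F460304) (iv5 F356682) (iv4 F377981) F377980 F347840 D190854 F381339 D219027
theorem F496768 : act 1 n219027 = n212247 := d18_6 (iv1 D44619) (iv4 F33982) D45227 (iv4 F352640) D190614 D219027 (iv4 D212247) (iv0 F363586) (iv5 D95523)
def n219028 : Q := act 4 n190615
theorem D219028 : act 4 n190615 = n219028 := rfl
theorem F496769 : act 2 n219028 = n216348 := d1_1 D219028 F483956 (iv2 F380296)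
theorem F496770 : act 3 n219028 = n212985 := d5_1 D219028 F468464 F251572 (iv4 F209155) (iv3 F380297)
theorem F496771 : act 5 n219028 = n191341 := d9_2 D190615 D219028 (iv4 D191341) F304535 (iv4 F191875) F310948 (iv4 F352640) D190614 D219027 F496766 (iv4 D191343) F304537 (iv4 F233808) F310949 (iv4 F334523)
theorem F496772 : act 6 n219028 = n200270 := d10_2 F380300 D219028 F415773
theorem F496773 : act 7 n219028 = n207179 := d11_2 (iv7 F380298) D219028 F443669
theorem F496774 : act 0 n219028 = n212247 := d17_0 F464960 F439862 F350239 F377983 F377982 (iv0 D120581) D120584 (iv0 F380299) D219028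
theorem F496775 : act 1 n219028 = n218727 := d18_6 (iv1 F70148) (iv4 F70356) (iv1 F71296) (iv4 F334523) D190615 D219028 (iv4 D218727) (iv0 D189978) (iv5 D95518)
def n219029 : Q := act 5 n190620
theorem D219029 : act 5 n190620 = n219029 := rfl
theorem F496776 : act 2 n219029 = n218675 := d2_1 D219029 (iv5 D218675) (iv2 F380328)
theorem F496777 : act 3 n219029 = n190621 := d6_1 D219029 (iv5 D190621) D190620
theorem F496778 : act 7 n219029 = n215186 := d13_2 (iv7 F380330) D219029 (iv5 D215186)
theorem F496779 : act 0 n219029 = n217184 := d17_2 F380332 D219029 (iv5 D217184) (iv4 F368714) (iv5 D134333) (iv0 D63109) D63112 D134342 (iv4 F377976)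
theorem F496780 : act 1 n219029 = n217183 := d17_6 D89429 F367305 F211629 F368377 (iv4 F380329) D219029 (iv5 D217183) (iv0 D186969) F137102
theorem F496781 : act 6 n219029 = n218553 := d21_3 F494828 F380332 D219029 (iv1 F494445) F493697 (iv5 D198813) F362594 D199960 (iv6 F456104) F494831
def n219030 : Q := act 1 n190629
theorem D219030 : act 1 n190629 = n219030 := rfl
theorem F496782 : act 1 n219030 = n199964 := d15_1 D219030 (iv7 D199964) (iv2 F380376)
theorem F496783 : act 7 n219030 = n199961 := d15_2 (iv0 F439590) D219030 (iv2 F439591)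
theorem F496784 : act 4 n219030 = n213543 := d17_9 F470948 (iv5 F390690) F486790 (iv5 D216969) F378672 D218769 (iv0 F495575) F479610 D219030
theorem F496785 : act 5 n219030 = n192844 := d18_9 (iv1 D192844) F361894 F361895 (iv4 D102247) (iv5 F137244) (iv4 F369025) (iv0 F466845) F466842 D219030
theorem F496786 : act 3 n214473 = n219030 := d20_3 (iv4 F475798) F475801 (iv4 F475339) (iv1 D219030) F380377 F360232 F243002 (iv4 F378428) F378427 F378433
theorem F496787 : act 2 n219030 = n199962 := d0_1 F496786 (iv3 F414361) F350622 D206178 (iv2 F475338)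
theorem F496788 : act 6 n219030 = n190670 := d7_2 D214473 F496786 F380511
def n219031 : Q := act 7 n190645
theorem D219031 : act 7 n190645 = n219031 := rfl
theorem F496789 : act 3 n219031 = n190650 := d8_1 D219031 (iv7 D190650) (iv3 F380439)
theorem F496790 : act 4 n219031 = n195974 := d11_1 D219031 (iv7 F399116) (iv4 F399118)
theorem F496791 : act 5 n219031 = n213838 := d13_1 D219031 F472318 F381445
theorem F496792 : act 1 n208984 = n219031 := d15_1 (iv0 F496608) (iv7 D219031) (iv2 F496604)
theorem F496793 : act 1 n219031 = n208056 := d15_1 F496792 F447668 (iv2 F451702)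
def n219032 : Q := act 5 n190648
theorem D219032 : act 5 n190648 = n219032 := rfl
theorem F496794 : act 2 n219032 = n218824 := d2_1 D219032 F495806 (iv2 F382692)
theorem F496795 : act 6 n219032 = n190845 := d12_2 (iv6 F380447) D219032 F381303 (iv6 D190622) D190621
theorem F496796 : act 7 n219032 = n218851 := d13_2 F382695 D219032 F495912
def n219033 : Q := act 5 n190649
theorem D219033 : act 5 n190649 = n219033 := rfl
theorem F496797 : act 2 n219033 = n218851 := d2_1 D219033 F495912 (iv2 F382697)
theorem F496798 : act 3 n219033 = n211738 := d6_1 D219033 (iv5 F462902) (iv3 F416195)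
theorem F496799 : act 7 n219033 = n218824 := d13_2 (iv7 F382693) D219033 F495806
theorem F496800 : act 6 n219033 = n190878 := d21_3 (iv5 F382710) (iv1 F382711) D219033 (iv1 F381433) (iv6 F381409) F381408 F328209 (iv5 F478510) (iv6 F478513) (iv1 F381450)
def n219034 : Q := act 4 n190652
theorem D219034 : act 4 n190652 = n219034 := rfl
theorem F496801 : act 2 n219034 = n215645 := d1_1 D219034 F480937 (iv2 F399478)
theorem F496802 : act 3 n219034 = n215399 := d5_1 D219034 F479786 (iv3 D215242) F365757 (iv3 F380454)
theorem F496803 : act 6 n219034 = n206633 := d10_2 F443346 D219034 (iv4 F443348)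
theorem F496804 : act 7 n219034 = n218665 := d11_2 F399473 D219034 (iv4 D218665)
theorem F496805 : act 0 n219034 = n215060 := d18_2 D190652 D219034 F478140 F415207 (iv4 F365045) F176942 (iv4 F402717) (iv0 F402720) F364801
theorem F496806 : act 1 n219034 = n194800 := d18_6 D131986 (iv4 F397713) F417378 (iv4 F417375) F417377 D219034 F418166 (iv0 D200615) F332802
def n219035 : Q := act 3 n190653
theorem D219035 : act 3 n190653 = n219035 := rfl
theorem F496807 : act 2 n219035 = n200607 := d0_1 D219035 (iv3 D200607) (iv2 F399470) F399374 F399479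
theorem F496808 : act 4 n219035 = n210026 := d5_2 F477219 D219035 (iv3 F477224) (iv4 D214872) D214871
theorem F496809 : act 6 n219035 = n216119 := d7_2 (iv6 F399480) D219035 (iv3 D216119)
theorem F496810 : act 7 n219035 = n218666 := d8_2 (iv7 F399481) D219035 (iv3 D218666)
theorem F496811 : act 0 n219035 = n214993 := d20_4 (iv4 F478140) F478143 F477219 D219035 (iv3 D214993) (iv4 D164137) (iv1 F258235) (iv4 F258237) D180350 F415209
theorem F496812 : act 0 n206648 = n219035 := d20_4 F95273 D60677 D129071 D206648 (iv3 D219035) (iv4 F477219) (iv1 F477220) F418166 F417223 (iv1 D129066)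
def n219036 : Q := act 3 n190657
theorem D219036 : act 3 n190657 = n219036 := rfl
theorem F496813 : act 4 n219036 = n200714 := d5_2 F412913 D219036 (iv3 F418240) (iv4 F430655) F430656
theorem F496814 : act 5 n219036 = n216301 := d6_2 F380716 D219036 (iv3 D216301)
theorem F496815 : act 6 n219036 = n200713 := d7_2 (iv6 F412911) D219036 F417607
theorem F496816 : act 7 n219036 = n206599 := d8_2 (iv7 F380710) D219036 F441504
theorem F496817 : act 0 n219036 = n195699 := d20_4 (iv4 F405660) F412915 F412913 D219036 (iv3 F435788) (iv4 F478443) (iv1 F495064) (iv4 D218668) F436023 (iv1 F436024)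
theorem F496818 : act 0 n190660 = n219036 := d20_4 (iv4 D203827) F380486 (iv4 D190661) D190660 (iv3 D219036) (iv4 F412913) (iv1 F412916) F405642 F360223 (iv1 F429990)
def n219037 : Q := act 4 n190663
theorem D219037 : act 4 n190663 = n219037 := rfl
theorem F496819 : act 2 n219037 = n215117 := d1_1 D219037 F478443 F435787
theorem F496820 : act 3 n219037 = n198707 := d5_1 D219037 F408947 (iv3 F380488) (iv4 D190664) D190663
theorem F496821 : act 6 n219037 = n195030 := d10_2 (iv6 F416708) D219037 (iv4 D195030)
theorem F496822 : act 7 n219037 = n209933 := d11_2 F435942 D219037 F455418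
theorem F496823 : act 5 n219037 = n218916 := d16_1 D219037 F496183 (iv5 D207230) (iv4 F365039) D200369 (iv4 F445486) (iv5 F463878) F463883 F435787
theorem F496824 : act 0 n219037 = n194973 := d18_2 (iv1 F416706) D219037 F395256 F364823 F176447 D113714 F365045 F415233 F415231
theorem F496825 : act 0 n215178 = n219037 := d20_10 (iv4 D219037) F416705 (iv4 F364820) F358382 (iv1 F244997) (iv3 F472312) F472313 (iv1 F413239) F476591 (iv3 F478745)
def n219038 : Q := act 5 n190665
theorem D219038 : act 5 n190665 = n219038 := rfl
theorem F496826 : act 3 n219038 = n195031 := d6_1 D219038 (iv5 D195031) (iv3 F416703)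
theorem F496827 : act 6 n219038 = n200842 := d12_2 D190665 D219038 (iv5 D200842) (iv6 F416710) F338378
theorem F496828 : act 0 n219038 = n214836 := d17_2 (iv1 F435214) D219038 (iv5 D214836) F257227 (iv5 F318577) (iv0 F402887) (iv5 D197064) D197063 (iv4 F435211)
theorem F496829 : act 1 n219038 = n205268 := d17_6 (iv1 F416821) (iv5 F479819) F479821 (iv5 F416700) (iv4 F416704) D219038 (iv5 D205268) D205267 F435678
theorem F496830 : act 4 n219038 = n216294 := d18_5 D58912 D125796 (iv1 F416697) (iv4 F416704) D219038 (iv0 D216294) (iv4 F416828) (iv0 D125806) (iv5 D58915)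
def n219039 : Q := act 6 n190667
theorem D219039 : act 6 n190667 = n219039 := rfl
theorem F496831 : act 2 n219039 = n195677 := d3_1 D219039 (iv6 F397827) (iv2 F380500)
theorem F496832 : act 3 n219039 = n200657 := d7_1 D219039 (iv6 F441769) F441768
theorem F496833 : act 4 n219039 = n207414 := d10_1 D219039 F444781 (iv4 F380497)
theorem F496834 : act 5 n219039 = n206482 := d12_1 D219039 (iv6 F441032) (iv5 F433999) F434001 (iv5 F380496)
theorem F496835 : act 0 n219039 = n216117 := d21_4 F338319 D180343 (iv5 F380496) D219039 (iv6 D216117) (iv5 D181681) F297513 D124607 D204878 F433990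
theorem F496836 : act 0 n213156 = n219039 := d21_4 (iv5 F377732) D218662 F495024 (iv6 F469253) (iv6 D219039) F380496 (iv1 F280651) F358997 F439145 (iv1 D206076)
def n219040 : Q := act 5 n190670
theorem D219040 : act 5 n190670 = n219040 := rfl
theorem F496837 : act 2 n219040 = n215186 := d2_1 D219040 (iv5 D215186) F380512
theorem F496838 : act 3 n219040 = n200252 := d6_1 D219040 (iv5 F415713) (iv3 F380511)
theorem F496839 : act 6 n219040 = n200251 := d12_2 F496788 D219040 (iv5 F447708) F447709 (iv5 F496785)
theorem F496840 : act 7 n219040 = n218675 := d13_2 (iv7 F380514) D219040 (iv5 D218675)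
theorem F496841 : act 0 n219040 = n217183 := d17_2 D190670 D219040 (iv5 D217183) F368711 (iv5 D134337) F211384 D207517 F445251 F377957
theorem F496842 : act 1 n219040 = n217184 := d17_6 (iv1 F367301) (iv5 F354705) (iv1 F216520) (iv5 F368373) (iv4 F380513) D219040 (iv5 D217184) F408300 F408298
def n219041 : Q := act 4 n190671
theorem D219041 : act 4 n190671 = n219041 := rfl
theorem F496843 : act 2 n219041 = n218676 := d1_1 D219041 (iv4 D218676) (iv2 F380516)
theorem F496844 : act 5 n219041 = n218467 := d9_2 D190671 D219041 (iv4 F494035) F399876 F399498 F361767 (iv4 F377976) (iv5 F494828) F494827 F494048 (iv4 F445621) F445620 (iv4 D207458) (iv5 F377958) F377957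
theorem F496845 : act 6 n219041 = n190914 := d10_2 (iv6 F380517) D219041 (iv4 D190914)
theorem F496846 : act 7 n219041 = n218469 := d11_2 F456099 D219041 F494044
theorem F496847 : act 0 n219041 = n207491 := d18_2 F456075 D219041 (iv4 F495254) F495255 F414509 F354716 D193987 (iv0 F391645) (iv5 F456074)
theorem F496848 : act 1 n219041 = n217188 := d18_6 (iv1 D208449) (iv4 D134343) D134341 F377957 D190671 D219041 (iv4 D217188) (iv0 F477860) F477857
theorem F496849 : act 3 n219041 = n218552 := d19_3 F380331 D190671 D219041 F494441 (iv5 F494242) (iv4 D189415) D189414 (iv1 F429284) (iv5 D203659) F315728 F103215 (iv1 F311599) F85395 (iv4 F317418) (iv3 F104797) (iv1 F348984) (iv5 D97245) (iv4 F335826) D190620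
def n219042 : Q := act 4 n190679
theorem D219042 : act 4 n190679 = n219042 := rfl
theorem F496850 : act 2 n219042 = n198226 := d1_1 D219042 F407277 F380556
theorem F496851 : act 6 n219042 = n198209 := d10_2 (iv6 F455382) D219042 (iv4 F455379)
theorem F496852 : act 7 n219042 = n218684 := d11_2 (iv7 F380554) D219042 (iv4 D218684)
theorem F496853 : act 1 n219042 = n198338 := d18_6 (iv1 F484210) (iv4 D216403) (iv1 F483590) F483586 (iv5 F380555) D219042 F407658 F387871 (iv5 F380924)
def n219043 : Q := act 3 n190680
theorem D219043 : act 3 n190680 = n219043 := rfl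
theorem F496854 : act 4 n219043 = n190682 := d5_2 D190680 D219043 (iv3 D190682) (iv4 D96383) (iv3 F148339)
theorem F496855 : act 6 n219043 = n213371 := d7_2 F380567 D219043 F470113
theorem F496856 : act 7 n219043 = n215877 := d8_2 (iv7 F380558) D219043 (iv3 D215877)
theorem F496857 : act 0 n219043 = n214135 := d20_4 (iv4 D219042) (iv1 D190679) D190680 D219043 F473645 (iv4 F405988) F407673 F407670 (iv3 F407657) (iv1 F496853)
theorem F496858 : act 1 n219043 = n215900 := d15_1 (iv0 F496857) F481993 F478231
def n219044 : Q := act 5 n190683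
theorem D219044 : act 5 n190683 = n219044 := rfl
theorem F496859 : act 2 n219044 = n192072 := d2_1 D219044 (iv5 D192072) (iv2 F380571)
theorem F496860 : act 3 n219044 = n192215 := d6_1 D219044 F386041 (iv3 F380572)
theorem F496861 : act 7 n219044 = n192014 := d13_2 (iv7 F380574) D219044 (iv5 D192014)
theorem F496862 : act 0 n219044 = n192056 := d17_2 F380576 D219044 (iv5 F480924) F480923 (iv5 F370015) F160322 (iv5 D104623) F76051 F153409
theorem F496863 : act 1 n219044 = n192083 := d17_6 F382774 F382771 (iv1 F380198) (iv5 F354565) D190683 D219044 (iv5 F480915) (iv0 D215642) (iv4 F378820)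
theorem F496864 : act 4 n219044 = n197272 := d18_5 F153662 (iv4 F153660) (iv1 F148355) D190683 D219044 (iv0 D197272) (iv4 F385837) F385833 (iv5 D99946)
theorem F496865 : act 6 n203393 = n219044 := d10_0 F496864 F472360 F428133
def n219045 : Q := act 6 n190685
theorem D219045 : act 6 n190685 = n219045 := rfl
theorem F496866 : act 2 n219045 = n198655 := d3_1 D219045 F408726 (iv2 F380586)
theorem F496867 : act 3 n219045 = n199974 := d7_1 D219045 F414425 (iv3 F380583)
theorem F496868 : act 4 n219045 = n199647 := d10_1 D219045 F478994 F478990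
theorem F496869 : act 5 n219045 = n198609 := d12_1 D219045 F408513 F379040 (iv6 F472055) F472053
theorem F496870 : act 7 n219045 = n198658 := d14_2 F380585 D219045 (iv6 F408744) (iv7 F414673) F414672
theorem F496871 : act 0 n219045 = n199951 := d21_4 (iv5 F361846) D213778 F472053 D219045 (iv6 D199951) (iv5 F380534) (iv1 F380537) (iv5 D109535) D109536 F361848
theorem F496872 : act 1 n219045 = n199971 := d15_1 (iv0 F496871) (iv7 F414414) (iv2 F414299)
def n219046 : Q := act 1 n190692
theorem D219046 : act 1 n190692 = n219046 := rfl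
theorem F496873 : act 1 n219046 = n198430 := d15_1 D219046 F407990 (iv2 F380619)
theorem F496874 : act 7 n219046 = n211114 := d15_2 (iv0 F382087) D219046 F460150
theorem F496875 : act 4 n219046 = n199004 := d17_9 (iv1 F410280) F354409 (iv1 F395003) (iv5 D111610) D111609 D199700 (iv0 F413168) F393049 D219046
theorem F496876 : act 3 n206514 = n219046 := d20_3 (iv4 F377805) (iv1 F377807) D206514 (iv1 D219046) F380620 F344702 (iv1 F175528) (iv4 F174010) F174009 (iv1 F174031)
theorem F496877 : act 5 n193488 = n219046 := d21_0 (iv1 D219046) (iv5 F393049) (iv6 D194398) F356263 D192847 F388004 (iv1 F482195) (iv5 D215943) D215944 F482200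
theorem F496878 : act 6 n193490 = n219046 := d21_3 (iv5 D193939) F389985 D193490 (iv1 D219046) (iv6 D190692) F148367 F147770 (iv5 F287718) F407271 F407272
theorem F496879 : act 2 n219046 = n198369 := d3_1 F496878 F479802 (iv2 F479801)
def n219047 : Q := act 7 n190692
theorem D219047 : act 7 n190692 = n219047 := rfl
theorem F496880 : act 2 n219047 = n198430 := d4_1 D219047 F407990 (iv2 F380619)
theorem F496881 : act 3 n219047 = n190695 := d8_1 D219047 (iv7 D190695) (iv3 F380620)
theorem F496882 : act 4 n219047 = n199508 := d11_1 D219047 F412456 (iv4 F380621)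
theorem F496883 : act 6 n219047 = n203865 := d14_1 D219047 F430169 F344664 (iv7 F148368) D190692
theorem F496884 : act 1 n198369 = n219047 := d15_1 (iv0 F412767) (iv7 D219047) F380619
theorem F496885 : act 1 n219047 = n211114 := d15_1 F496884 (iv7 F496874) F496879
def n219048 : Q := act 6 n190696
theorem D219048 : act 6 n190696 = n219048 := rfl
theorem F496886 : act 2 n219048 = n190698 := d3_1 D219048 (iv6 D190698) D190696
theorem F496887 : act 3 n219048 = n194916 := d7_1 D219048 (iv6 D194916) (iv3 F380637)
theorem F496888 : act 4 n219048 = n214943 := d10_1 D219048 F477572 F393424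
theorem F496889 : act 5 n219048 = n218791 := d12_1 D219048 (iv6 D218791) (iv5 D190084) D190085 (iv5 F380638)
theorem F496890 : act 7 n219048 = n198432 := d14_2 (iv7 F380639) D219048 (iv6 D198432) (iv7 F344713) (iv6 F378068)
theorem F496891 : act 0 n219048 = n197941 := d21_10 (iv5 F409008) F476607 (iv5 D214739) F414413 (iv1 F496872) (iv6 D219045) (iv5 F472053) (iv1 F472057) (iv5 F380638) D219048
theorem F496892 : act 0 n198484 = n219048 := d21_4 (iv5 F482242) (iv1 F482244) (iv5 F481139) F413832 (iv6 D219048) F380638 (iv1 F381216) (iv5 F381215) F380592 D200026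
def n219049 : Q := act 0 n190698
theorem D219049 : act 0 n190698 = n219049 := rfl
theorem F496893 : act 4 n219049 = n197940 := d20_2 (iv4 F380647) D219049 (iv3 F444319) (iv1 F444322) F433500 D214932 (iv1 F477506) D215653 F480975 F476524
theorem F496894 : act 3 n219049 = n198490 := d20_5 F258254 F258228 (iv4 F344653) (iv3 F380646) D219049 (iv4 F444303) F444302 F262473 (iv3 D163338) (iv1 F257634)
theorem F496895 : act 2 n197941 = n219049 := d15_3 (iv0 D219049) (iv0 F380650) (iv7 F406252)
theorem F496896 : act 1 n198432 = n219049 := d15_0 (iv0 D219049) F380649 (iv2 F407994)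
theorem F496897 : act 7 n219049 = n198484 := d15_2 (iv0 F474550) F496896 (iv2 D198484)
theorem F496898 : act 6 n205136 = n219049 := d7_0 F496894 F477812 F477813
def n219050 : Q := act 5 n190711
theorem D219050 : act 5 n190711 = n219050 := rfl
theorem F496899 : act 2 n219050 = n216565 := d2_1 D219050 F484967 F384194
theorem F496900 : act 3 n219050 = n192007 := d6_1 D219050 F385177 (iv3 F380743)
theorem F496901 : act 6 n219050 = n192004 := d12_2 F380745 D219050 (iv5 D192004) D192005 F385170
theorem F496902 : act 7 n219050 = n210466 := d13_2 (iv7 F380744) D219050 F457656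
theorem F496903 : act 4 n219050 = n216123 := d16_2 D190711 D219050 F483073 (iv4 D186810) F136890 F73890 (iv5 F136890) (iv7 F152101) (iv2 F294413)
theorem F496904 : act 0 n219050 = n209587 := d17_2 (iv1 F487536) D219050 F454245 (iv4 F448823) F448824 (iv0 D189892) F356317 (iv0 F383525) (iv4 F487533)
theorem F496905 : act 1 n219050 = n209588 := d17_6 D98646 (iv5 F294407) (iv1 D96442) D96444 D190711 D219050 F454248 (iv0 F350429) (iv4 D98648)
def n219051 : Q := act 6 n190725
theorem D219051 : act 6 n190725 = n219051 := rfl
theorem F496906 : act 2 n219051 = n200090 := d3_1 D219051 F414974 F409760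
theorem F496907 : act 3 n219051 = n207743 := d7_1 D219051 F446220 F442037
theorem F496908 : act 4 n219051 = n208684 := d10_1 D219051 F450443 F448876
theorem F496909 : act 5 n219051 = n191586 := d12_1 D219051 (iv6 D191586) D191585 (iv6 F465621) F465620
theorem F496910 : act 0 n219051 = n207746 := d21_4 D183412 (iv1 F465623) F465620 D219051 (iv6 F446227) (iv5 F449203) F449963 (iv5 F456834) F456837 (iv1 D183410)
theorem F496911 : act 0 n207676 = n219051 := d21_4 D105493 D195282 (iv5 F442310) D207676 (iv6 D219051) (iv5 F465620) F465622 (iv5 F383950) F383948 (iv1 D105491)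
theorem F496912 : act 7 n219051 = n207747 := d15_2 D207746 (iv0 F496910) (iv2 D207747)
def n219052 : Q := act 0 n190726
theorem D219052 : act 0 n190726 = n219052 := rfl
theorem F496913 : act 5 n219052 = n207743 := d17_3 D207944 F447093 D219052 (iv4 F451678) F451679 F416199 F415875 (iv0 D159860) (iv4 F365591)
theorem F496914 : act 4 n219052 = n191596 := d18_3 (iv1 D190731) (iv4 F380817) D219052 F474534 (iv4 D214314) (iv0 D158092) (iv4 F132082) D180337 F380844
theorem F496915 : act 3 n219052 = n191586 := d20_5 (iv4 D98591) F295067 D96481 D190726 D219052 F383901 D191587 F446606 F446604 F384114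
theorem F496916 : act 1 n205685 = n219052 := d15_0 (iv0 D219052) F380818 (iv2 F437454)
theorem F496917 : act 2 n207744 = n219052 := d0_5 F496915 F451518 F451515 F414976 (iv3 F446222)
theorem F496918 : act 6 n191584 = n219052 := d7_0 F496915 (iv6 D191586) D191584
def n219053 : Q := act 1 n190726
theorem D219053 : act 1 n190726 = n219053 := rfl
theorem F496919 : act 7 n219053 = n207744 := d15_2 (iv0 D219052) D219053 F496917
theorem F496920 : act 5 n219053 = n200086 := d18_9 F442402 F442400 (iv1 F447646) F447643 (iv5 D206738) (iv4 F380838) (iv0 D190730) (iv4 F380817) D219053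
theorem F496921 : act 3 n200087 = n219053 := d19_19 (iv1 D219053) (iv5 F447093) F447092 (iv3 F465116) (iv1 F465119) F396075 (iv4 F349257) F165948 F157310 (iv5 F288367) (iv4 F443077) (iv3 D207040) (iv1 D129838) D129839 (iv4 F345894) (iv3 F436487) F436490 D206732 F441996
theorem F496922 : act 0 n205685 = n219053 := d20_4 F436550 (iv1 F402891) (iv4 F442232) (iv3 F442236) (iv3 F496921) (iv4 F441996) F441997 (iv4 F437210) F437209 (iv1 F436548)
theorem F496923 : act 2 n219053 = n218670 := d15_3 (iv0 D218670) (iv0 F446223) (iv7 F496919)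
theorem F496924 : act 3 n218670 = n208949 := d0_2 F496921 F496923 (iv2 F451523) F446229 (iv2 F414965)
theorem F496925 : act 7 n218670 = n219052 := d4_2 (iv7 F496919) F496923 (iv2 F496917)
def n219054 : Q := act 2 n190726
theorem D219054 : act 2 n190726 = n219054 := rfl
theorem F496926 : act 3 n219054 = n205781 := d0_2 D190726 D219054 (iv2 F442179) F442180 F380812
theorem F496927 : act 4 n219054 = n190732 := d1_2 (iv4 F380817) D219054 (iv2 D190732)
theorem F496928 : act 5 n219054 = n205686 := d2_2 F447093 D219054 F447095
theorem F496929 : act 6 n219054 = n205572 := d3_2 (iv6 F418178) D219054 F437039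
theorem F496930 : act 7 n219054 = n205685 := d4_2 (iv7 F380818) D219054 F437454
theorem F496931 : act 1 n219054 = n218670 := d15_0 (iv0 D218670) (iv7 F380818) D219054
theorem F496932 : act 1 n207744 = n219054 := d15_0 F496931 F496925 (iv2 F496917)
def n219055 : Q := act 3 n190728
theorem D219055 : act 3 n190728 = n219055 := rfl
theorem F496933 : act 2 n219055 = n207457 := d0_1 D219055 (iv3 D207457) F354695 (iv3 F383770) F383769
theorem F496934 : act 4 n219055 = n201829 := d5_2 (iv4 F380822) D219055 (iv3 F437546) (iv4 D205716) (iv3 F380823)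
theorem F496935 : act 5 n219055 = n212923 := d6_2 (iv5 F380821) D219055 F468139
theorem F496936 : act 6 n219055 = n206989 := d7_2 F383761 D219055 F442868
theorem F496937 : act 7 n219055 = n208316 := d8_2 F441950 D219055 F448888
theorem F496938 : act 0 n219055 = n210201 := d19_4 D62121 (iv5 F212967) (iv4 F380822) D219055 (iv5 F456543) F434590 F403002 F166243 (iv5 D107602) (iv4 D49709) F38965 (iv1 F47951) (iv5 D29795) F23672 F19139 F19539 D6651 D13987 D29411
theorem F496939 : act 0 n208301 = n219055 := d20_4 F352546 F448819 (iv4 D208302) D208301 (iv3 D219055) F380822 F212966 (iv4 F216150) F347283 (iv1 F380087)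
def n219056 : Q := act 6 n190729
theorem D219056 : act 6 n190729 = n219056 := rfl
theorem F496940 : act 3 n219056 = n207459 := d7_1 D219056 (iv6 D207459) F380836
theorem F496941 : act 4 n219056 = n206964 := d10_1 D219056 (iv6 D206964) (iv4 F380834)
theorem F496942 : act 7 n219056 = n217040 := d14_2 (iv7 F383776) D219056 (iv6 D217040) F367685 D191551
def n219057 : Q := act 3 n190731
theorem D219057 : act 3 n190731 = n219057 := rfl
theorem F496943 : act 2 n219057 = n200616 := d0_1 D219057 (iv3 D200616) F176479 D128737 (iv2 F380845)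
theorem F496944 : act 5 n219057 = n200886 := d6_2 F380844 D219057 F418286
theorem F496945 : act 6 n219057 = n213518 := d7_2 F445455 D219057 F470811
theorem F496946 : act 7 n219057 = n200885 := d8_2 (iv7 F380843) D219057 F418283
theorem F496947 : act 4 n219057 = n208037 := d20_6 F446470 (iv1 F212382) (iv4 F380493) F380490 (iv1 F380846) D219057 (iv1 F447554) F478753 F478748 (iv1 F446474)
theorem F496948 : act 1 n200888 = n219057 := d17_8 (iv1 F447554) (iv5 F496616) F496618 (iv5 F418918) F418917 F398079 D199742 F418289 F496947
theorem F496949 : act 0 n200887 = n219057 := d18_0 F496947 (iv1 F447554) F478753 (iv5 D215179) F377828 F413323 (iv4 F474218) (iv0 F474223) (iv5 F474224)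
def n219058 : Q := act 4 n190731
theorem D219058 : act 4 n190731 = n219058 := rfl
theorem F496950 : act 2 n219058 = n205617 := d1_1 D219058 F437241 (iv2 F380845)
theorem F496951 : act 3 n219058 = n205634 := d5_1 D219058 (iv4 F437284) (iv3 F447550) (iv4 F496947) (iv3 D219057)
theorem F496952 : act 7 n219058 = n206737 := d11_2 (iv7 F380843) D219058 F442007
theorem F496953 : act 0 n219058 = n206705 := d17_0 F451564 F442022 F442020 (iv4 F332791) (iv5 D125777) (iv0 F328128) (iv5 F148588) D190731 D219058
theorem F496954 : act 1 n219058 = n206735 := d18_8 F467013 F251354 D159583 (iv4 F447092) F447093 F380817 D190731 D219058 (iv5 F467012)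
def n219059 : Q := act 2 n190736
theorem D219059 : act 2 n190736 = n219059 := rfl
theorem F496955 : act 3 n219059 = n195574 := d0_2 D190736 D219059 F397405 (iv3 D189904) (iv2 F345950)
theorem F496956 : act 4 n219059 = n209079 := d1_2 F418766 D219059 F452148
theorem F496957 : act 5 n219059 = n201288 := d2_2 (iv5 F380872) D219059 F419871
theorem F496958 : act 7 n219059 = n201287 := d4_2 (iv7 F380873) D219059 F419866
theorem F496959 : act 1 n219059 = n201284 := d15_0 F419856 (iv7 F380873) D219059
theorem F496960 : act 1 n208146 = n219059 := d15_0 F496959 (iv7 F444018) (iv2 F448098)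
theorem F496961 : act 6 n195573 = n219059 := d14_5 F496958 F419868 D213499 F470700 F460632
def n219060 : Q := act 6 n190736
theorem D219060 : act 6 n190736 = n219060 := rfl
theorem F496962 : act 2 n219060 = n195573 := d3_1 D219060 F496961 (iv2 D219059)
theorem F496963 : act 3 n219060 = n190737 := d7_1 D219060 (iv6 D190737) D190736
theorem F496964 : act 4 n219060 = n218273 := d10_1 D219060 F493066 F418766
theorem F496965 : act 7 n219060 = n211596 := d14_2 (iv7 F380873) D219060 (iv6 F462313) (iv7 D153972) (iv6 F241978)
theorem F496966 : act 0 n219060 = n211550 := d21_4 (iv5 F419851) F419853 (iv5 F380872) D219060 F462083 F444473 (iv1 F450815) (iv5 D208774) (iv6 F364331) F374659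
theorem F496967 : act 0 n211597 = n219060 := d21_4 (iv5 D186782) F284747 D216356 F483982 (iv6 D219060) F380872 (iv1 F251275) (iv5 F448731) F448732 F367980
def n219061 : Q := act 0 n190738
theorem D219061 : act 0 n190738 = n219061 := rfl
theorem F496968 : act 5 n219061 = n192870 := d17_1 D219061 (iv1 F489647) F489643 (iv4 F476568) F390746 F385794 F385780 D218853 F495917
theorem F496969 : act 4 n219061 = n190925 := d18_1 D219061 (iv1 F381977) F381972 (iv5 D187293) (iv4 F152408) F152410 D182924 (iv0 F353220) D190738
theorem F496970 : act 2 n191038 = n219061 := d15_3 (iv0 D219061) F488888 F488885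
theorem F496971 : act 1 n217080 = n219061 := d15_0 (iv0 D219061) (iv7 F488807) F488805
theorem F496972 : act 7 n219061 = n190997 := d15_2 (iv0 F488887) F496971 (iv2 F488882)
theorem E104045 : n215492 = n208101 := (c20_5 (iv4 F496969) (iv1 F496971) F487309 F480211 D215492 F447871 F381683 (iv1 D190954) (iv4 F366035) (iv3 F366034) D190925)
theorem F496973 : act 1 n208101 = n174665 := (sb E104045 (iv0 D215492))
theorem F496974 : act 3 n190969 = n219061 := d8_3 F496972 (iv3 D190997) F381756
theorem F496975 : act 6 n215717 = n219061 := d14_5 F496972 (iv6 F480209) F480205 (iv6 F492130) (iv7 F492131)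
def n219062 : Q := act 0 n190740
theorem D219062 : act 0 n190740 = n219062 := rfl
theorem F496976 : act 5 n219062 = n205704 := d17_1 D219062 (iv1 F474831) F488821 (iv4 D217422) F369772 (iv0 D104615) (iv5 F147459) F343070 D190740
theorem F496977 : act 4 n219062 = n218698 := d18_3 F343069 D190740 D219062 F495213 (iv4 F394919) (iv0 F394923) F393234 F343083 (iv5 F147504)
theorem F496978 : act 2 n218702 = n219062 := d15_3 (iv0 D219062) (iv0 F495559) F495558
theorem F496979 : act 1 n217345 = n219062 := d15_0 (iv0 D219062) (iv7 F488816) F488815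
theorem F496980 : act 7 n219062 = n218703 := d15_2 F495560 F496979 (iv2 F495557)
theorem F496981 : act 3 n205705 = n219062 := d8_3 F496980 F495233 F437948
def n219063 : Q := act 3 n190740
theorem D219063 : act 3 n190740 = n219063 := rfl
def n219064 : Q := act 5 n190740
theorem D219064 : act 5 n190740 = n219064 := rfl
theorem F496982 : act 2 n219064 = n218705 := d2_1 D219064 (iv5 D218705) (iv2 F380880)
theorem F496983 : act 6 n219064 = n207041 := d12_2 F467457 D219064 F443079 (iv6 F478611) F478609
theorem F496984 : act 7 n219064 = n207734 := d13_2 F488816 D219064 (iv5 F495238)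
theorem F496985 : act 4 n219064 = n207750 := d16_2 D190740 D219064 (iv5 F496088) F496087 (iv5 D217344) (iv4 D187221) D187222 F369551 (iv2 F148685)
def n219065 : Q := act 5 n190742
theorem D219065 : act 5 n190742 = n219065 := rfl
theorem F496986 : act 2 n219065 = n208450 := d2_1 D219065 (iv5 D208450) F383866
theorem F496987 : act 3 n219065 = n190743 := d6_1 D219065 (iv5 D190743) D190742
theorem F496988 : act 7 n219065 = n200405 := d13_2 (iv7 F380886) D219065 (iv5 F416315)
theorem F496989 : act 4 n219065 = n207538 := d16_2 (iv4 F383865) D219065 (iv5 D207538) (iv4 D131946) (iv5 D61910) (iv4 F96498) D131922 F211386 (iv2 F216345)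
theorem F496990 : act 0 n219065 = n215299 := d17_2 (iv1 F478030) D219065 F479275 (iv4 D186974) (iv5 F354705) (iv0 F211630) F368377 F470943 (iv4 F478029)
theorem F496991 : act 1 n219065 = n217185 := d17_6 D102556 (iv5 F354715) (iv1 F211378) D134339 (iv4 F383865) D219065 (iv5 D217185) F368720 F137108
theorem F496992 : act 6 n218422 = n219065 := d21_5 (iv5 D217962) F372678 (iv5 F376512) D218501 F494188 (iv5 D219065) (iv1 F445260) (iv5 F415790) F415791 (iv1 F491439)
def n219066 : Q := act 6 n190745
theorem D219066 : act 6 n190745 = n219066 := rfl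
theorem F496993 : act 2 n219066 = n211828 := d3_1 D219066 (iv6 F463217) (iv2 F393208)
theorem F496994 : act 3 n219066 = n192209 := d7_1 D219066 (iv6 F486786) F486785
theorem F496995 : act 4 n219066 = n211772 := d10_1 D219066 (iv6 F494797) F494796
theorem F496996 : act 5 n219066 = n192208 := d12_1 D219066 (iv6 D192208) (iv5 F353166) D194436 F393205
theorem F496997 : act 0 n219066 = n191153 := d21_4 (iv5 D210814) F393207 F393205 D219066 (iv6 D191153) D191152 (iv1 F496549) (iv5 D218987) F379881 (iv1 F458886)
theorem F496998 : act 0 n211709 = n219066 := d17_2 F425734 D211709 F496996 F386002 D202192 F423189 F365076 D144071 (iv4 F425735)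
theorem F496999 : act 0 n212767 = n211710 := d21_4 F385992 F346267 F346268 D212767 (iv6 D211710) D211709 F496998 F496996 (iv6 D192208) D192206
def n219067 : Q := act 5 n190750
theorem D219067 : act 5 n190750 = n219067 := rfl
theorem F497000 : act 2 n219067 = n218711 := d2_1 D219067 (iv5 D218711) (iv2 F380908)
theorem F497001 : act 3 n219067 = n218992 := d6_1 D219067 (iv5 D218992) F380910
theorem F497002 : act 7 n219067 = n215699 := d13_2 (iv7 F380909) D219067 (iv5 D215699)
def n219068 : Q := act 6 n190750
theorem D219068 : act 6 n190750 = n219068 := rfl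
theorem F497003 : act 2 n219068 = n206407 := d3_1 D219068 (iv6 F440645) (iv2 F380908)
theorem F497004 : act 3 n219068 = n196949 := d7_1 D219068 (iv6 F402430) F380910
theorem F497005 : act 4 n219068 = n190751 := d10_1 D219068 (iv6 D190751) D190750
theorem F497006 : act 7 n219068 = n206408 := d14_2 (iv7 F380909) D219068 F440654 F250198 D176907
theorem F497007 : act 5 n219068 = n196948 := d21_6 F379917 (iv1 F373596) (iv5 F379879) (iv6 F494962) F494964 D219068 F402425 (iv5 F425617) (iv6 F425618) F381196
theorem F497008 : act 0 n198467 = n219068 := d17_0 F497007 F402425 (iv5 F425617) (iv4 D202794) (iv5 D116981) D116979 (iv5 F425537) F425535 (iv4 F408116)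
theorem F497009 : act 1 n202777 = n219068 := d17_6 (iv1 F396802) (iv5 F411770) (iv1 F416365) F416363 (iv4 F414208) (iv5 F425545) F497007 (iv0 F402426) F227340
def n219069 : Q := act 3 n190756
theorem D219069 : act 3 n190756 = n219069 := rfl
theorem F497010 : act 2 n219069 = n216814 := d0_1 D219069 (iv3 F486033) (iv2 F481150) F481151 (iv2 F380934)
theorem F497011 : act 4 n219069 = n218563 := d5_2 D190756 D219069 F494488 F494459 F380916
theorem F497012 : act 6 n219069 = n215683 := d7_2 (iv6 F380935) D219069 (iv3 D215683)
theorem F497013 : act 7 n219069 = n210081 := d8_2 (iv7 F380936) D219069 F456086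
theorem F497014 : act 0 n219069 = n211786 := d20_4 (iv4 F348071) (iv1 F343053) D190756 D219069 (iv3 D211786) F425644 (iv1 D202801) (iv4 F182910) F382551 (iv1 F382550)
theorem F497015 : act 0 n216815 = n219069 := d20_4 F358965 (iv1 F430228) F430225 (iv3 F486034) (iv3 D219069) (iv4 D190756) F343049 (iv4 F327100) F150111 D97375
theorem F497016 : act 5 n203871 = n219069 := d21_0 F497014 (iv5 F495846) (iv6 D218835) (iv1 D190163) F365878 F115969 F59870 D55899 D121145 D203871
def n219070 : Q := act 5 n190756
theorem D219070 : act 5 n190756 = n219070 := rfl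
theorem F497017 : act 2 n219070 = n215699 := d2_1 D219070 (iv5 D215699) (iv2 F380934)
theorem F497018 : act 3 n219070 = n203871 := d6_1 D219070 F497016 (iv3 D219069)
theorem F497019 : act 7 n219070 = n218711 := d13_2 (iv7 F380936) D219070 (iv5 D218711)
def n219071 : Q := act 6 n190757
theorem D219071 : act 6 n190757 = n219071 := rfl
theorem F497020 : act 2 n219071 = n211833 := d3_1 D219071 (iv6 F463234) F380939
theorem F497021 : act 3 n219071 = n190759 := d7_1 D219071 (iv6 D190759) D190757
theorem F497022 : act 4 n219071 = n209130 := d10_1 D219071 F452396 F398920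
theorem F497023 : act 5 n219071 = n216911 := d12_1 D219071 F486510 (iv5 D193592) (iv6 F370088) (iv5 F380937)
theorem F497024 : act 7 n219071 = n211832 := d14_2 (iv7 F380938) D219071 F463232 (iv7 F379482) F377497
theorem F497025 : act 0 n219071 = n211826 := d21_4 D176945 F370093 (iv5 F380937) D219071 (iv6 D211826) (iv5 D144145) (iv1 F182917) F357475 (iv6 F270263) (iv1 F270265)
theorem F497026 : act 1 n219071 = n211835 := d15_1 (iv0 F497025) (iv7 D211835) (iv2 F463213)
def n219072 : Q := act 0 n190758
theorem D219072 : act 0 n190758 = n219072 := rfl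
theorem F497027 : act 4 n219072 = n216125 := d18_3 D96545 D190758 D219072 F483083 (iv4 F376500) (iv0 F376504) (iv4 D96537) (iv0 D45078) D45080
theorem F497028 : act 3 n219072 = n218636 := d20_5 F496309 F452412 (iv4 F495459) F495458 D219072 (iv4 D218636) (iv1 F377551) D215667 F481023 D218944
theorem F497029 : act 6 n219072 = n198497 := d21_5 (iv5 D199856) D199853 (iv5 F495451) (iv6 F495456) D219072 (iv5 D198497) F220391 D198820 (iv6 F494374) F494375
theorem F497030 : act 2 n218713 = n219072 := d15_3 (iv0 D219072) (iv0 F495477) F495476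
theorem F497031 : act 1 n190761 = n219072 := d15_0 (iv0 D219072) F380942 (iv2 F380950)
theorem F497032 : act 7 n219072 = n218714 := d15_2 F495478 F497031 (iv2 F495473)
theorem F497033 : act 5 n219072 = n198496 := d2_2 (iv5 F495281) F497030 (iv2 F409013)
theorem F497034 : act 0 n198496 = n219070 := d17_2 D219072 F497033 (iv5 D219070) (iv4 D190756) (iv5 D96543) F70972 (iv5 F147138) F148713 D190758
theorem F497035 : act 1 n198496 = n219067 := d17_6 F393039 (iv5 D189960) F370142 (iv5 F483083) (iv4 F497027) F497033 (iv5 D219067) (iv0 F494964) F494961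
def n219073 : Q := act 5 n190758
theorem D219073 : act 5 n190758 = n219073 := rfl
theorem F497036 : act 2 n219073 = n218716 := d2_1 D219073 (iv5 D218716) (iv2 F380941)
theorem F497037 : act 3 n219073 = n218829 := d6_1 D219073 F495828 F495458
theorem F497038 : act 6 n219073 = n218887 := d12_2 (iv6 F495456) D219073 F496048 (iv6 F414151) (iv5 F495451)
theorem F497039 : act 7 n219073 = n218720 := d13_2 (iv7 F380942) D219073 (iv5 D218720)
theorem F497040 : act 4 n219073 = n218888 := d16_2 D190758 D219073 F496052 (iv4 F489125) (iv5 D217488) (iv4 D187386) F343072 (iv7 F158932) (iv2 F158933)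
theorem F497041 : act 0 n219073 = n218841 := d17_2 F495477 D219073 F495867 F481159 F382644 F370115 F481174 (iv0 F481173) D218749
def n219074 : Q := act 3 n190761
theorem D219074 : act 3 n190761 = n219074 := rfl
theorem F497042 : act 4 n219074 = n218538 := d5_2 D190761 D219074 (iv3 F494359) F380946 (iv3 D190760)
theorem F497043 : act 7 n219074 = n218715 := d8_2 (iv7 F380951) D219074 (iv3 D218715)
theorem F497044 : act 0 n203873 = n219074 := d20_4 F477376 (iv1 F358968) (iv4 F445637) F445636 (iv3 D219074) (iv4 D190761) (iv1 D96546) D96547 F367174 D214907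
def n219075 : Q := act 5 n190761
theorem D219075 : act 5 n190761 = n219075 := rfl
theorem F497045 : act 2 n219075 = n218720 := d2_1 D219075 (iv5 D218720) (iv2 F380950)
theorem F497046 : act 6 n219075 = n218828 := d12_2 (iv6 F482404) D219075 (iv5 D218828) F378975 D215981
theorem F497047 : act 7 n219075 = n218716 := d13_2 (iv7 F380951) D219075 (iv5 D218716)
theorem F497048 : act 1 n219075 = n218841 := d17_6 D176908 F343064 (iv1 F138245) F343072 D190761 D219075 F495867 (iv0 D215697) F276267
def n219076 : Q := act 5 n190763
theorem D219076 : act 5 n190763 = n219076 := rfl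
theorem F497049 : act 2 n219076 = n215703 := d2_1 D219076 (iv5 D215703) F380958
theorem F497050 : act 4 n219076 = n219075 := d9_1 D219076 (iv5 D219075) (iv4 D190761) (iv5 F343072) D187386 D217488 F489125 (iv5 F496052) (iv4 F497040) (iv5 D219073) (iv4 D190758) (iv5 F343077) D187384 D217487 F489117
theorem F497051 : act 6 n219076 = n217471 := d12_2 (iv6 F380959) D219076 F489030 (iv6 D194157) (iv5 F276269)
theorem F497052 : act 7 n219076 = n217459 := d13_2 F445706 D219076 F488967
theorem F497053 : act 0 n219076 = n217458 := d17_2 D190763 D219076 F488965 F382544 F343064 F138240 F343077 (iv0 D96545) D96547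
theorem F497054 : act 1 n219076 = n217460 := d17_6 F489150 F489147 F370174 D217487 F489117 D219076 F488972 D217490 F489134
def n219077 : Q := act 0 n190765
theorem D219077 : act 0 n190765 = n219077 := rfl
theorem F497055 : act 5 n219077 = n191194 := d17_3 (iv1 D190764) D190765 D219077 F382548 (iv5 D190748) (iv0 F205507) D190818 (iv0 F489123) F489125
theorem F497056 : act 6 n219077 = n202815 := d21_5 (iv5 D208891) D208888 F451262 F414788 D219077 (iv5 D202815) D202814 (iv5 F489045) F489049 (iv1 F451283)
theorem F497057 : act 1 n198514 = n219077 := d15_0 (iv0 D219077) (iv7 F492004) F492001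
theorem F497058 : act 4 n219070 = n219077 := d18_5 (iv1 F382550) (iv4 F348071) (iv1 F343053) D190756 D219070 (iv0 D219077) F414787 F497057 F497055
theorem F497059 : act 2 n219077 = n218724 := d1_1 F497058 (iv4 F495327) (iv2 F497017)
theorem F497060 : act 7 n219077 = n218725 := d11_2 (iv7 F497019) F497058 F495330
theorem F497061 : act 3 n202818 = n219077 := d7_3 F497056 F425703 (iv6 F425715)
def n219078 : Q := act 1 n190765
theorem D219078 : act 1 n190765 = n219078 := rfl
theorem F497062 : act 1 n219078 = n198514 := d15_1 D219078 (iv7 F414786) (iv2 F380960)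
theorem F497063 : act 7 n219078 = n218724 := d15_2 (iv0 D219077) D219078 (iv2 F497059)
theorem F497064 : act 5 n219078 = n191195 := d17_7 (iv1 F343053) (iv5 D96543) (iv1 D45079) D45080 D96547 D190765 D219078 F382552 (iv4 F348071)
theorem F497065 : act 4 n219078 = n219067 := d17_9 (iv1 F497035) (iv5 F497033) (iv1 F497031) D219075 (iv4 F497050) (iv5 D219076) (iv0 D190763) D190765 D219078
theorem F497066 : act 2 n218725 = n219078 := d1_3 F497065 F497000 (iv4 F495330)
def n219079 : Q := act 1 n190770
theorem D219079 : act 1 n190770 = n219079 := rfl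
theorem F497067 : act 1 n219079 = n207930 := d15_1 D219079 (iv7 F482391) F482388
theorem F497068 : act 7 n219079 = n217174 := d15_2 (iv0 F421046) D219079 F487787
theorem F497069 : act 5 n219079 = n190981 := d18_9 (iv1 D190981) D190982 F495618 (iv4 D218778) (iv5 F495116) F495115 (iv0 F439668) (iv4 F380983) D219079
theorem F497070 : act 3 n200047 = n219079 := d20_3 F289483 D186553 (iv4 F414763) (iv1 D219079) F380982 (iv4 F364479) F248102 (iv4 F378291) F378290 F369057
theorem F497071 : act 6 n191051 = n219079 := d21_3 F414761 (iv1 D200046) F381992 (iv1 D219079) (iv6 D190770) D190769 (iv1 F486631) F486628 (iv6 F472324) F472326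
theorem F497072 : act 2 n219079 = n191057 := d3_1 F497071 (iv6 D191057) F381991
def n219080 : Q := act 7 n190770
theorem D219080 : act 7 n190770 = n219080 := rfl
theorem F497073 : act 2 n219080 = n207930 := d4_1 D219080 (iv7 F482391) F482388
theorem F497074 : act 3 n219080 = n190774 := d8_1 D219080 (iv7 D190774) (iv3 F380982)
theorem F497075 : act 4 n219080 = n207926 := d11_1 D219080 F447023 (iv4 F380983)
theorem F497076 : act 6 n219080 = n191089 := d14_1 D219080 (iv7 D191089) (iv6 D97262) (iv7 F288190) D190770
theorem F497077 : act 1 n191057 = n219080 := d15_1 (iv0 F482392) (iv7 D219080) (iv2 F482388)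
theorem F497078 : act 1 n219080 = n217174 := d15_1 F497077 (iv7 F497068) F497072
def n219081 : Q := act 2 n190777
theorem D219081 : act 2 n190777 = n219081 := rfl
theorem F497079 : act 3 n219081 = n191121 := d0_2 D190777 D219081 (iv2 D191121) (iv3 D97301) (iv2 F340403)
theorem F497080 : act 5 n219081 = n194288 := d2_2 (iv5 F381013) D219081 F392672
theorem F497081 : act 6 n219081 = n201265 := d3_2 (iv6 F392703) D219081 F419755
theorem F497082 : act 7 n219081 = n191114 := d4_2 (iv7 F381014) D219081 (iv2 D191114)
theorem F497083 : act 1 n219081 = n191083 := d15_0 (iv0 F382157) (iv7 F381014) D219081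
theorem F497084 : act 4 n219081 = n218946 := d16_0 F496322 (iv4 D202410) (iv5 D115710) (iv4 F170804) (iv5 F175186) F175185 (iv5 F340401) (iv7 F381014) D219081
theorem F497085 : act 1 n190962 = n219081 := d18_6 D193693 F390706 F355490 (iv4 F211370) (iv5 F211372) (iv4 F381725) F497084 (iv0 F496324) (iv5 D193695)
def n219082 : Q := act 4 n190777
theorem D219082 : act 4 n190777 = n219082 := rfl
theorem F497086 : act 2 n219082 = n218946 := d1_1 D219082 (iv4 F497084) (iv2 D219081)
theorem F497087 : act 3 n219082 = n191097 := d5_1 D219082 (iv4 F410100) (iv3 D198969) F335830 D190777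
theorem F497088 : act 6 n219082 = n191169 := d10_2 (iv6 F392703) D219082 (iv4 F410105)
theorem F497089 : act 7 n219082 = n191115 := d11_2 (iv7 F381014) D219082 (iv4 D191115)
theorem F497090 : act 5 n219082 = n199150 := d16_1 D219082 F410899 F347954 F176356 (iv5 F347903) (iv4 F347907) (iv5 F382287) (iv7 F497082) (iv2 D219081)
theorem F497091 : act 0 n219082 = n219026 := d17_0 F496759 (iv1 F496455) (iv5 D218971) F382161 (iv5 D191084) (iv0 F350615) D190209 (iv0 F381015) D219082
theorem F497092 : act 1 n219082 = n200403 := d18_6 D198547 F408305 (iv1 F192215) (iv4 F347958) (iv5 F381013) D219082 F416311 F415815 (iv5 D198548)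
def n219083 : Q := act 7 n190778
theorem D219083 : act 7 n190778 = n219083 := rfl
theorem F497093 : act 2 n219083 = n191129 := d4_1 D219083 (iv7 D191129) (iv2 F381016)
theorem F497094 : act 3 n219083 = n195513 := d8_1 D219083 F397192 F392704
theorem F497095 : act 5 n219083 = n194300 := d13_1 D219083 (iv7 D194300) (iv5 F381017)
theorem F497096 : act 6 n219083 = n191120 := d14_1 D219083 (iv7 D191120) (iv6 D97299) (iv7 F340404) D190778
theorem F497097 : act 1 n191127 = n219083 := d15_1 D191127 (iv7 D219083) F381016
theorem F497098 : act 1 n219083 = n191126 := d15_1 F497097 (iv7 F454473) F454471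
def n219084 : Q := act 0 n190783
theorem D219084 : act 0 n190783 = n219084 := rfl
theorem F497099 : act 5 n219084 = n196251 := d17_1 D219084 (iv1 D196251) F164626 (iv4 F78526) (iv5 F114504) D159658 (iv5 F448315) (iv0 F494881) F494878
theorem F497100 : act 4 n219084 = n208525 := d18_3 (iv1 F494882) F494878 D219084 F449731 F399939 F441844 F441841 F251523 D214504
theorem F497101 : act 3 n219084 = n207471 := d20_5 (iv4 D45499) D45497 F293573 (iv3 F381060) D219084 F445081 (iv1 F398805) F287995 (iv3 D88459) (iv1 F293071)
theorem F497102 : act 1 n200793 = n219084 := d15_0 (iv0 D219084) F381062 (iv2 F417922)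
theorem F497103 : act 7 n209075 = n219084 := d8_0 F497101 (iv7 F445389) (iv3 F452129)
theorem F497104 : act 2 n219084 = n209077 := d15_3 (iv0 F452140) (iv0 F452131) F497103
theorem F497105 : act 6 n207471 = n219084 := d3_0 F497104 F452139 (iv2 F445384)
def n219085 : Q := act 1 n190783
theorem D219085 : act 1 n190783 = n219085 := rfl
theorem F497106 : act 1 n219085 = n200793 := d15_1 D219085 F417926 F417757
theorem F497107 : act 7 n219085 = n209077 := d15_2 (iv0 D219084) D219085 (iv2 F497104)
theorem F497108 : act 5 n219085 = n196250 := d17_7 F327651 F381095 (iv1 D190794) (iv5 D96679) (iv4 F148940) D190783 D219085 (iv0 D196250) F358303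
theorem F497109 : act 6 n205251 = n219085 := d21_3 (iv5 F435151) (iv1 F435153) D205251 (iv1 D219085) F381061 (iv5 D131881) (iv1 D61884) D61886 D131888 F398830
theorem F497110 : act 2 n209075 = n219085 := d2_3 F497108 (iv2 F400058) D209075
def n219086 : Q := act 0 n190784
theorem D219086 : act 0 n190784 = n219086 := rfl
theorem F497111 : act 4 n219086 = n215453 := d18_1 D219086 (iv1 D215453) D215455 (iv5 F480077) F455775 F455772 D215486 F480195 (iv5 F459239)
theorem F497112 : act 1 n213691 = n219086 := d15_0 (iv0 D219086) F381063 (iv2 F471657)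
theorem F497113 : act 6 n215417 = n219086 := d21_3 F360587 F363237 D215417 (iv1 F497112) (iv6 D213691) F374969 (iv1 F471557) (iv5 D213670) F459941 (iv1 D211057)
theorem F497114 : act 2 n219086 = n213693 := d3_1 F497113 (iv6 F480428) (iv2 F480426)
theorem F497115 : act 7 n219086 = n213692 := d14_2 (iv7 F480421) F497113 F471661 (iv7 F493115) F493118
def n219087 : Q := act 1 n190784
theorem D219087 : act 1 n190784 = n219087 := rfl
theorem F497116 : act 7 n219087 = n213693 := d15_2 (iv0 D219086) D219087 (iv2 F497114)
theorem F497117 : act 4 n215452 = n219087 := d20_0 (iv1 D219087) (iv4 F480457) (iv3 D215551) (iv1 D175028) (iv3 D83588) (iv4 D38543) D38541 F128564 D174577 D215452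
theorem F497118 : act 2 n219087 = n213692 := d1_1 F497117 (iv4 F471662) F480065
theorem F497119 : act 6 n219087 = n211349 := d10_2 (iv6 F480061) F497117 F461229
theorem F497120 : act 1 n219087 = n213691 := d18_8 F393427 F223460 F365989 (iv4 F197896) D204297 (iv4 F431928) F480063 F497117 F471659
theorem F497121 : act 3 n219087 = n199503 := d19_3 F480122 (iv5 F480062) F497117 (iv1 F412433) (iv5 D197737) (iv4 D108624) (iv3 F80993) (iv1 F80996) (iv5 F49315) (iv4 F101629) (iv3 F223645) (iv1 F459670) (iv5 F459673) F430928 (iv3 D162652) F300456 D83455 (iv4 F273442) D215466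
def n219088 : Q := act 2 n190784
theorem D219088 : act 2 n190784 = n219088 := rfl
theorem F497122 : act 3 n219088 = n194830 := d0_2 D190784 D219088 F394645 (iv3 D169875) (iv2 F148981)
theorem F497123 : act 5 n219088 = n194829 := d2_2 (iv5 F459239) D219088 F459238
theorem F497124 : act 7 n219088 = n213691 := d4_2 (iv7 F381063) D219088 F471657
theorem F497125 : act 1 n219088 = n213692 := d15_0 (iv0 D213692) (iv7 F381063) D219088
theorem F497126 : act 1 n213693 = n219088 := d15_0 F497125 (iv7 F497115) F497114
def n219089 : Q := act 5 n190789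
theorem D219089 : act 5 n190789 = n219089 := rfl
theorem F497127 : act 3 n219089 = n190790 := d6_1 D219089 (iv5 D190790) D190789
theorem F497128 : act 6 n219089 = n206085 := d12_2 F481319 D219089 (iv5 D206085) (iv6 F435464) (iv5 F481318)
theorem F497129 : act 4 n219089 = n207945 := d16_2 (iv4 F381082) D219089 (iv5 D207945) F365591 F114714 (iv4 F210038) F332878 F254479 F288736
def n219090 : Q := act 4 n190790
theorem D219090 : act 4 n190790 = n219090 := rfl
theorem F497130 : act 3 n219090 = n207739 := d5_1 D219090 F446200 (iv3 F447099) (iv4 F497129) F497127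
theorem F497131 : act 6 n219090 = n206086 := d10_2 (iv6 F381083) D219090 (iv4 D206086)
theorem F497132 : act 0 n219090 = n208959 := d18_2 (iv1 F381085) D219090 F451566 (iv5 D206655) F207311 F206947 D129071 F343671 D157777
theorem F497133 : act 1 n219090 = n206646 := d18_6 F495090 F495087 (iv1 D207618) F341809 D190790 D219090 (iv4 D206646) D206645 (iv5 F441721)
def n219091 : Q := act 4 n190791
theorem D219091 : act 4 n190791 = n219091 := rfl
theorem F497134 : act 3 n219091 = n207834 := d5_1 D219091 F446638 (iv3 F383858) (iv4 F482774) (iv3 F482777)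
theorem F497135 : act 0 n219091 = n206646 := d18_2 (iv1 F381088) D219091 (iv4 D206646) (iv5 D129067) F95273 D60678 D129076 F341794 F343667
theorem F497136 : act 1 n219091 = n208959 := d18_6 F496818 F496813 F417609 F341807 D190791 D219091 F451566 (iv0 F441762) F409954
theorem F497137 : act 6 n219091 = n207833 := d21_5 F398781 (iv1 D159554) (iv5 F362915) D208959 (iv1 F497136) (iv5 D207833) F365650 F251333 (iv6 F419324) F419325
def n219092 : Q := act 6 n190791
theorem D219092 : act 6 n190791 = n219092 := rfl
theorem F497138 : act 3 n219092 = n194061 := d7_1 D219092 F482776 (iv3 F482777)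
theorem F497139 : act 4 n219092 = n207833 := d10_1 D219092 (iv6 F497137) (iv4 D219091)
theorem F497140 : act 5 n219092 = n205217 := d12_1 D219092 F435476 F435309 (iv6 F361389) D190791
theorem F497141 : act 7 n219092 = n205216 := d14_2 (iv7 F417430) D219092 F435473 F202063 D200673
theorem F497142 : act 0 n219092 = n216298 := d21_4 (iv5 F362766) F327440 D190791 D219092 F483704 F441433 (iv1 F441179) F418110 (iv6 F418109) (iv1 F381092)
def n219093 : Q := act 3 n190793
theorem D219093 : act 3 n190793 = n219093 := rfl
theorem F497143 : act 5 n219093 = n214315 := d6_2 F400119 D219093 F474535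
theorem F497144 : act 6 n219093 = n207552 := d7_2 (iv6 F418109) D219093 (iv3 F445421)
theorem F497145 : act 4 n219093 = n219053 := d20_6 (iv4 D40526) (iv1 F61570) (iv4 F71166) (iv3 F148998) D190793 D219093 (iv1 D219053) F380817 (iv3 D96487) F70910
theorem F497146 : act 1 n200855 = n219093 := d18_6 (iv1 F365589) F365591 D159860 (iv4 F466935) F466938 F446540 F497145 (iv0 F496922) (iv5 D205685)
def n219094 : Q := act 4 n190793
theorem D219094 : act 4 n190793 = n219094 := rfl
theorem F497147 : act 3 n219094 = n206732 := d5_1 D219094 F441996 F496921 (iv4 F497145) (iv3 D219093)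
theorem F497148 : act 5 n219094 = n206731 := d16_1 D219094 (iv4 F441995) D214504 F475508 (iv5 D206470) F358307 F381095 (iv7 F441750) F441748
def n219095 : Q := act 4 n190794
theorem D219095 : act 4 n190794 = n219095 := rfl
theorem F497149 : act 3 n219095 = n217044 := d5_1 D219095 F487119 F367727 (iv4 F367731) F381094
theorem F497150 : act 5 n219095 = n214487 := d9_2 F381095 D219095 F475409 (iv5 F448315) F448313 (iv5 D206471) (iv4 F358300) F400119 D219094 F497148 (iv4 F441995) D214504 F475508 (iv5 D206470) F358307
theorem F497151 : act 6 n219095 = n217043 := d10_2 (iv6 F381096) D219095 F487114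
def n219096 : Q := act 4 n190808
theorem D219096 : act 4 n190808 = n219096 := rfl
theorem F497152 : act 2 n219096 = n216382 := d1_1 D219096 (iv4 D216382) (iv2 F381168)
theorem F497153 : act 7 n219096 = n218788 := d11_2 (iv7 F381170) D219096 (iv4 D218788)
theorem F497154 : act 5 n219096 = n211880 := d16_1 D219096 F463379 (iv5 F473551) (iv4 F488112) (iv5 D217250) F368904 D190940 F381623 (iv2 F381168)
theorem F497155 : act 0 n219096 = n190995 := d17_0 (iv5 F381832) (iv1 F464231) (iv5 F495680) (iv4 D218793) (iv5 F380581) (iv0 F393115) F393112 F381172 D219096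
theorem F497156 : act 1 n219096 = n190998 := d18_6 (iv1 F149821) D97120 (iv1 F353223) F270416 D190808 D219096 (iv4 D190998) F381770 F381769
theorem F497157 : act 3 n219096 = n211881 := d19_3 (iv1 F289564) D190808 D219096 F463385 (iv5 D145303) F104279 F53457 D34066 (iv5 F53464) (iv4 F98431) F321702 (iv1 F142893) F142895 (iv4 D87039) (iv3 F133573) (iv1 D87023) (iv5 D40420) (iv4 F63199) D45375
def n219097 : Q := act 4 n190809
theorem D219097 : act 4 n190809 = n219097 := rfl
theorem F497158 : act 2 n219097 = n211968 := d1_1 D219097 F463773 (iv2 F381173)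
theorem F497159 : act 6 n219097 = n199920 := d10_2 F408990 D219097 F414158
theorem F497160 : act 7 n219097 = n211967 := d11_2 (iv7 F381175) D219097 F463770
theorem F497161 : act 5 n219097 = n198646 := d16_1 D219097 F408695 D210819 F458895 F390386 F344215 D190863 F381369 (iv2 F381173)
theorem F497162 : act 0 n219097 = n210456 := d17_0 (iv5 D210456) (iv1 F366529) (iv5 F463781) F463782 F380414 (iv0 D190638) F367252 (iv0 F381176) D219097
theorem F497163 : act 1 n219097 = n210455 := d18_6 D89833 F356581 F356582 F281616 D190809 D219097 F457612 (iv0 D187234) (iv5 D89836)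
theorem F497164 : act 3 n198649 = n219097 := d6_3 F497161 F408694 D198649
def n219098 : Q := act 4 n190813
theorem D219098 : act 4 n190813 = n219098 := rfl
theorem F497165 : act 2 n219098 = n218983 := d1_1 D219098 (iv4 D218983) (iv2 F381207)
theorem F497166 : act 3 n219098 = n208185 := d5_1 D219098 F448281 (iv3 F447511) F447509 (iv3 F381208)
theorem F497167 : act 6 n219098 = n208183 := d10_2 F413845 D219098 F448279
theorem F497168 : act 7 n219098 = n218985 := d11_2 (iv7 F381209) D219098 (iv4 D218985)
theorem F497169 : act 0 n219098 = n191148 := d18_2 (iv1 F381211) D219098 (iv4 D191148) F294039 D185631 (iv0 F367113) F373598 F373596 (iv5 F379917)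
theorem F497170 : act 1 n219098 = n191146 := d18_6 D45452 D97312 (iv1 F289236) (iv4 F289238) D190813 D219098 (iv4 D191146) (iv0 D97322) (iv5 D45455)
def n219099 : Q := act 4 n190815
theorem D219099 : act 4 n190815 = n219099 := rfl
theorem F497171 : act 2 n219099 = n207229 := d1_1 D219099 F443901 F381223
theorem F497172 : act 3 n219099 = n191225 := d5_1 D219099 (iv4 F463340) F463339 (iv4 F489117) F489113
theorem F497173 : act 6 n219099 = n191224 := d10_2 F481160 D219099 (iv4 F481159)
theorem F497174 : act 7 n219099 = n218881 := d11_2 F381224 D219099 F496021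
theorem F497175 : act 0 n219099 = n191141 := d18_2 D190815 D219099 (iv4 D191141) (iv5 D97313) D97312 (iv0 F295337) F295340 (iv0 D96949) D96951
theorem F497176 : act 1 n219099 = n190963 := d18_6 (iv1 F138332) (iv4 F139102) (iv1 F370941) F370936 (iv5 F381220) D219099 (iv4 D190963) F335371 F295136
def n219100 : Q := act 5 n190817
theorem D219100 : act 5 n190817 = n219100 := rfl
theorem F497177 : act 7 n219100 = n218987 := d13_2 (iv7 F381231) D219100 (iv5 D218987)
theorem F497178 : act 1 n219100 = n217499 := d17_6 (iv1 F381211) (iv5 D190813) (iv1 D96950) D96951 D190817 D219100 (iv5 D217499) D217498 F489177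
theorem F497179 : act 6 n219100 = n218874 := d21_3 (iv5 D216821) (iv1 F381232) D219100 F495986 F488854 (iv5 D214892) F373632 D218089 (iv6 F496099) (iv1 F496100)
def n219101 : Q := act 6 n190819
theorem D219101 : act 6 n190819 = n219101 := rfl
theorem F497180 : act 2 n219101 = n190832 := d3_1 D219101 (iv6 D190832) F381236
theorem F497181 : act 4 n219101 = n211791 := d10_1 D219101 F463080 F381951
theorem F497182 : act 5 n219101 = n191225 := d12_1 D219101 (iv6 D191225) F360348 (iv6 F367171) (iv5 F381235)
theorem F497183 : act 7 n219101 = n211790 := d14_2 (iv7 F381237) D219101 F463078 (iv7 F381280) (iv6 D190835)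
theorem F497184 : act 0 n219101 = n211736 := d21_10 (iv5 D211736) (iv1 D144056) D144057 F226771 D144063 F381258 F381254 F371802 (iv5 F381235) D219101
theorem F497185 : act 0 n211734 = n219101 := d21_1 D211734 F497182 (iv6 D191225) (iv1 D97424) F331293 F95039 F48670 D31361 D67493 D144055
def n219102 : Q := act 6 n190821
theorem D219102 : act 6 n190821 = n219102 := rfl
theorem F497186 : act 2 n219102 = n208097 := d3_1 D219102 F447854 (iv2 F381244)
theorem F497187 : act 3 n219102 = n205286 := d7_1 D219102 F435777 (iv3 F381245)
theorem F497188 : act 4 n219102 = n200346 := d10_1 D219102 (iv6 F416084) (iv4 F381247)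
theorem F497189 : act 5 n219102 = n205285 := d12_1 D219102 F435771 F408294 F366049 D190821
theorem F497190 : act 0 n219102 = n200313 := d21_10 F415952 F347470 (iv5 F381276) (iv6 D190835) (iv1 D96978) (iv6 F149561) (iv5 D96968) D96966 D190821 D219102
theorem F497191 : act 1 n219102 = n214214 := d15_1 (iv0 F497190) (iv7 D214214) (iv2 F415950)
theorem F497192 : act 7 n208094 = n219102 := d13_0 F497189 F435772 (iv5 F447844)
def n219103 : Q := act 6 n190822
theorem D219103 : act 6 n190822 = n219103 := rfl
theorem F497193 : act 2 n219103 = n208188 := d3_1 D219103 (iv6 F448286) (iv2 F381248)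
theorem F497194 : act 4 n219103 = n214551 := d10_1 D219103 (iv6 D214551) (iv4 F381249)
theorem F497195 : act 5 n219103 = n208127 := d12_1 D219103 (iv6 D208127) F381253 (iv6 D190823) D190822
theorem F497196 : act 0 n219103 = n198823 := d21_4 (iv5 F178937) (iv1 F178938) D190822 D219103 F409415 (iv5 D112978) F171778 D197482 F404514 (iv1 D190283)
theorem F497197 : act 0 n208190 = n219103 := d21_4 F370169 F370167 D194747 (iv6 F448294) (iv6 D219103) (iv5 D190822) (iv1 D96967) D96968 F149561 D96977
theorem F497198 : act 7 n208187 = n219103 := d13_0 F497195 (iv7 F496484) F496485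
def n219104 : Q := act 4 n190824
theorem D219104 : act 4 n190824 = n219104 := rfl
theorem F497199 : act 2 n219104 = n217778 := d1_1 D219104 (iv4 D217778) F381255
theorem F497200 : act 6 n219104 = n211751 := d10_2 F381258 D219104 (iv4 D211751)
theorem F497201 : act 5 n219104 = n217403 := d16_1 D219104 (iv4 F495480) F495479 F477911 F369495 (iv4 F291491) D104299 (iv7 F371825) F381255
theorem F497202 : act 0 n219104 = n191036 := d18_2 D190824 D219104 (iv4 D191036) (iv5 D97163) F138034 F114637 (iv4 F149555) (iv0 F149558) D96971
theorem F497203 : act 1 n219104 = n191035 := d18_6 (iv1 F178370) F158401 (iv1 F235288) (iv4 F371800) (iv5 F381254) D219104 (iv4 D191035) (iv0 F353186) F137911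
theorem F497204 : act 3 n219104 = n217405 := d20_3 (iv4 D190825) D190824 D219104 F488756 (iv3 F489017) (iv4 D217467) (iv1 F369899) (iv4 F478545) (iv3 F488691) F488693
def n219105 : Q := act 3 n190825
theorem D219105 : act 3 n190825 = n219105 := rfl
theorem F497205 : act 4 n219105 = n201189 := d5_2 D190825 D219105 F419374 F290521 (iv3 F149568)
theorem F497206 : act 5 n219105 = n190831 := d6_2 F496137 D219105 F496139
theorem F497207 : act 6 n219105 = n211740 := d7_2 (iv6 F462832) D219105 F462905
theorem F497208 : act 7 n219105 = n211753 := d8_2 F488707 D219105 F488709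
theorem F497209 : act 0 n219105 = n215514 := d19_4 D45334 D96971 D190825 D219105 F480289 (iv4 D187263) (iv3 D89846) (iv1 D41972) (iv5 D19774) (iv4 D9281) (iv3 D4194) (iv1 F3048) F3047 (iv4 F3360) (iv3 F7426) (iv1 F291214) (iv5 D10330) (iv4 F16430) (iv3 F34025)
theorem F497210 : act 2 n219105 = n218754 := d15_3 F495504 F488987 (iv7 F497208)
def n219106 : Q := act 0 n190826
theorem D219106 : act 0 n190826 = n219106 := rfl
theorem F497211 : act 5 n219106 = n215178 := d17_1 D219106 F496825 F496823 F496183 (iv5 D207230) (iv0 D130627) D130629 D207234 F462830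
theorem F497212 : act 4 n219106 = n200311 := d18_3 (iv1 F447828) F462830 D219106 (iv5 D200311) F175926 D113036 (iv4 F365044) F214435 (iv5 F447826)
theorem F497213 : act 6 n219106 = n200313 := d21_5 (iv5 D45336) D45334 D96971 D190826 D219106 F415952 F347470 (iv5 F381276) (iv6 D190835) (iv1 D96978)
theorem F497214 : act 2 n214202 = n219106 := d3_3 F497213 F415950 (iv6 F473974)
theorem F497215 : act 3 n215338 = n219106 := d7_3 F497213 (iv3 F415953) D215338
def n219107 : Q := act 1 n190826
theorem D219107 : act 1 n190826 = n219107 := rfl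
theorem F497216 : act 7 n219107 = n214202 := d15_2 (iv0 D219106) D219107 F497214
theorem F497217 : act 5 n219107 = n194973 := d17_7 F416705 (iv5 D144780) D144778 (iv5 F417224) (iv4 F418166) F394521 D219107 (iv0 F496824) (iv4 D219037)
theorem F497218 : act 3 n190871 = n219107 := d19_19 (iv1 D219107) (iv5 F394521) F418166 F417223 (iv1 D129066) D129067 D206646 (iv3 F466936) (iv1 F475461) F475458 F443145 D216409 (iv1 F484247) F399989 F341836 F341832 (iv1 F341838) D197909 F406177
theorem F497219 : act 4 n219107 = n214203 := d5_2 F406177 F497218 F473976 (iv4 D204745) (iv3 F406176)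
def n219108 : Q := act 7 n190826
theorem D219108 : act 7 n190826 = n219108 := rfl
theorem F497220 : act 3 n219108 = n208095 := d8_1 D219108 F447850 (iv3 F381260)
theorem F497221 : act 4 n219108 = n208086 := d11_1 D219108 F462831 F462830
theorem F497222 : act 5 n219108 = n214861 := d13_1 D219108 F477183 F394521
theorem F497223 : act 6 n219108 = n208093 := d14_1 D219108 F492253 (iv6 D218126) F373882 D190826
theorem F497224 : act 0 n214202 = n219108 := d17_2 F474436 F474433 F497222 F477181 F439093 (iv0 F402725) F364822 D205325 (iv4 F455418)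
def n219109 : Q := act 0 n190827
theorem D219109 : act 0 n190827 = n219109 := rfl
theorem F497225 : act 5 n219109 = n194721 := d17_3 F369549 D190827 D219109 (iv4 D194721) F369557 F369556 (iv5 D95697) F137862 D187221
theorem F497226 : act 4 n219109 = n217353 := d18_1 D219109 (iv1 D217353) (iv4 D187225) (iv5 D89824) F64731 F289565 (iv4 F148683) (iv0 F353221) D190827
theorem F497227 : act 3 n219109 = n190943 := d20_5 D187340 (iv1 F381269) (iv4 D190829) (iv3 F381262) D219109 (iv4 F464253) (iv1 F464255) (iv4 D190987) (iv3 F369818) F369820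
theorem F497228 : act 1 n214549 = n219109 := d15_0 (iv0 D219109) (iv7 F492243) F492240
theorem F497229 : act 2 n218763 = n219109 := d0_5 F497227 (iv2 F381646) F381386 (iv2 F381385) (iv3 F495546)
theorem F497230 : act 6 n215701 = n219109 := d7_0 F497227 (iv6 F394961) (iv3 F481170)
theorem F497231 : act 7 n218764 = n219109 := d8_0 F497227 (iv7 F381647) F495549
def n219110 : Q := act 1 n190827
theorem D219110 : act 1 n190827 = n219110 := rfl
theorem F497232 : act 1 n219110 = n214549 := d15_1 D219110 F475743 (iv2 F381261)
theorem F497233 : act 7 n219110 = n218763 := d15_2 (iv0 D219109) D219110 F497229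
theorem F497234 : act 5 n219110 = n194233 := d17_7 (iv1 F482764) F495550 (iv1 D218764) (iv5 D190041) (iv4 F149573) D190827 D219110 (iv0 F394504) (iv4 F482759)
theorem F497235 : act 2 n218764 = n219110 := d2_3 F497234 (iv2 F393232) F495550
theorem F497236 : act 3 n190865 = n219110 := d6_3 F497234 F392435 (iv5 F381378)
theorem F497237 : act 4 n217352 = n219110 := d18_3 (iv1 D187224) D187225 D217352 F497234 F392436 F343081 F76042 (iv0 F290791) F369557
def n219111 : Q := act 4 n190827
theorem D219111 : act 4 n190827 = n219111 := rfl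
theorem F497238 : act 2 n219111 = n218765 := d1_1 D219111 (iv4 D218765) (iv2 F381261)
theorem F497239 : act 0 n219111 = n217422 := d18_2 (iv1 D219110) D219111 (iv4 D217422) F369772 D194820 (iv0 F394922) F394919 (iv0 F394335) (iv5 F497234)
theorem F497240 : act 1 n219111 = n217424 := d18_6 (iv1 F137993) D187303 F369766 (iv4 F149573) D190827 D219111 (iv4 D217424) F369776 (iv5 D97017)
theorem F497241 : act 3 n219111 = n206955 := d19_3 F369549 D190827 D219111 (iv1 F442735) (iv5 D129823) F95528 F83834 (iv1 F48441) D63892 D135875 (iv3 F421286) F427749 (iv5 D203298) F349057 (iv3 F347296) F390388 F390386 F344215 (iv3 F369547)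
def n219112 : Q := act 6 n190827
theorem D219112 : act 6 n190827 = n219112 := rfl
theorem F497242 : act 2 n219112 = n208096 := d3_1 D219112 F447852 (iv2 F381261)
theorem F497243 : act 3 n219112 = n190830 := d7_1 D219112 (iv6 D190830) (iv3 F381262)
def n219113 : Q := act 3 n190829
theorem D219113 : act 3 n190829 = n219113 := rfl
theorem F497244 : act 4 n219113 = n206955 := d5_2 D190829 D219113 (iv3 F497241) (iv4 D219111) F381262
theorem F497245 : act 5 n219113 = n208011 := d6_2 F496129 D219113 F496132
theorem F497246 : act 0 n205703 = n219113 := d18_2 (iv1 D205702) D205703 F497244 F442734 (iv4 D205707) (iv0 F203463) (iv4 F409755) F446236 F446233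
theorem F497247 : act 1 n206829 = n219113 := d18_6 F203459 (iv4 D126539) (iv1 F93643) (iv4 F95383) D129416 D206829 F497244 (iv0 D206955) (iv5 D129642)
def n219114 : Q := act 6 n190829
theorem D219114 : act 6 n190829 = n219114 := rfl
theorem F497248 : act 2 n219114 = n211732 := d3_1 D219114 (iv6 F488710) (iv2 F488711)
theorem F497249 : act 4 n219114 = n190830 := d10_1 D219114 (iv6 D190830) D190829
theorem F497250 : act 7 n219114 = n211720 := d14_2 (iv7 F488704) D219114 F462844 F462828 (iv6 F488705)
theorem F497251 : act 5 n219114 = n211721 := d21_6 F475757 (iv1 F395253) (iv5 F462956) (iv6 F462960) (iv1 F381269) D219114 (iv1 F462850) D211729 F462883 (iv1 F475760)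
theorem F497252 : act 0 n219114 = n211731 := d21_10 (iv5 F462890) F415646 (iv5 F495525) (iv6 D218759) (iv1 F475780) F475778 (iv5 F379254) D218906 F496129 D219114
theorem F497253 : act 0 n211730 = n219114 := d21_4 F251884 F161613 (iv5 F378629) F462887 (iv6 D219114) (iv5 F496129) (iv1 F496131) F381291 (iv6 D187215) (iv1 F251882)
def n219115 : Q := act 0 n190830
theorem D219115 : act 0 n190830 = n219115 := rfl
theorem F497254 : act 5 n219115 = n208066 := d17_1 D219115 (iv1 F447834) D208091 (iv4 F495524) F495525 (iv0 F415646) F462890 (iv0 F497252) F497249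
theorem F497255 : act 6 n219115 = n211738 := d21_5 F381241 (iv1 F149557) D96975 D190830 D219115 (iv5 F462902) F447808 F447805 (iv6 D190832) (iv1 F381243)
theorem F497256 : act 3 n190878 = n219115 := d7_3 F497255 (iv3 F496798) F496800
theorem F497257 : act 7 n219115 = n218852 := d8_2 (iv7 F381435) F497256 (iv3 D218852)
theorem F497258 : act 0 n219115 = n208093 := d20_4 (iv4 F369857) D217454 F495906 F497256 (iv3 D208093) D208094 F447845 F366957 (iv3 F369859) (iv1 D187332)
def n219116 : Q := act 1 n190830
theorem D219116 : act 1 n190830 = n219116 := rfl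
theorem F497259 : act 1 n219116 = n208093 := d15_1 D219116 F492253 F492249
theorem F497260 : act 5 n219116 = n208089 := d17_7 F405130 (iv5 F411368) (iv1 D198052) D198053 (iv4 F493017) F493018 D219116 (iv0 D208089) (iv4 F405127)
theorem F497261 : act 6 n194350 = n219116 := d21_3 (iv5 F379273) D201231 F419552 (iv1 D219116) (iv6 D190830) (iv5 D96975) (iv1 D45335) D45336 (iv6 F149561) (iv1 F379269)
theorem F497262 : act 2 n219116 = n218852 := d3_1 F497261 F495914 F477861
theorem F497263 : act 4 n219116 = n194348 := d10_1 F497261 F392892 D194350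
theorem F497264 : act 3 n219116 = n218803 := d19_3 (iv1 D194347) D194348 (iv4 F497263) (iv1 D218803) (iv5 F393900) F393899 F286256 D184328 (iv5 F470280) F470279 (iv3 F469816) F427393 F427392 (iv4 F276450) (iv3 F429556) F429558 F380680 (iv4 F366536) F466467
def n219117 : Q := act 7 n190830
theorem D219117 : act 7 n190830 = n219117 := rfl
theorem F497265 : act 2 n219117 = n208093 := d4_1 D219117 F492253 F492249
theorem F497266 : act 4 n219117 = n211720 := d11_1 D219117 (iv7 F497250) F497249
theorem F497267 : act 1 n218852 = n219117 := d15_1 (iv0 F495915) (iv7 D219117) (iv2 F492249)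
def n219118 : Q := act 6 n190831
theorem D219118 : act 6 n190831 = n219118 := rfl
theorem F497268 : act 2 n219118 = n211791 := d3_1 D219118 F463080 (iv2 F381952)
theorem F497269 : act 4 n219118 = n190832 := d10_1 D219118 (iv6 D190832) D190831
theorem F497270 : act 5 n219118 = n202785 := d12_1 D219118 F425566 (iv5 F462906) (iv6 F497207) F497206
theorem F497271 : act 7 n219118 = n202784 := d14_2 F381954 D219118 F425563 (iv7 F214438) F381956
theorem F497272 : act 0 n211788 = n219118 := d21_4 F475750 (iv1 F430158) (iv5 F477266) (iv6 F477270) (iv6 D219118) (iv5 F497206) F497209 F480289 (iv6 F369653) F475751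
theorem F497273 : act 1 n211789 = n219118 := d15_1 D211789 F497271 F425562
def n219119 : Q := act 0 n190832
theorem D219119 : act 0 n190832 = n219119 := rfl
theorem F497274 : act 5 n219119 = n202801 := d17_3 F447808 F447805 D219119 (iv4 F425644) D211787 (iv0 F463076) (iv5 F462904) (iv0 F486390) F440660
theorem F497275 : act 2 n211736 = n219119 := d2_3 F497274 F425645 D211736
theorem F497276 : act 7 n211734 = n219119 := d13_0 F497274 F425643 D211734
theorem F497277 : act 4 n219119 = n211845 := d19_2 (iv1 F425642) (iv5 F497274) (iv3 F496124) (iv1 F495385) (iv5 D218732) (iv4 F418567) F418564 (iv1 F251392) F163790 (iv4 F332819) (iv3 F441395) F446357 (iv5 F496651) F496650 F402710 (iv1 F176942) (iv5 F416103) (iv4 F462864) F462863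
theorem F497278 : act 3 n219119 = n218817 := d19_3 (iv1 F495315) F486529 (iv4 F497277) (iv1 F495789) F480155 F376173 (iv3 D93815) D93814 (iv5 F144651) (iv4 D93827) (iv3 F144646) D189271 F376278 (iv4 F293510) D181893 F284400 (iv5 F416021) (iv4 F416022) D218721
def n219120 : Q := act 1 n190832
theorem D219120 : act 1 n190832 = n219120 := rfl
theorem F497279 : act 1 n219120 = n211790 := d15_1 D219120 (iv7 F497183) F497180
theorem F497280 : act 7 n219120 = n211736 := d15_2 (iv0 D219119) D219120 F497275
theorem F497281 : act 4 n219120 = n211844 := d18_7 D144154 (iv4 F416401) (iv1 F425776) F425773 (iv5 F497270) F497269 D219120 (iv0 D211844) (iv5 D144156)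
theorem F497282 : act 5 n219120 = n202800 := d18_9 (iv1 F425646) (iv4 F226860) (iv1 F425704) F425764 (iv5 F496109) F496108 F497273 F497269 D219120
theorem F497283 : act 2 n211734 = n219120 := d2_3 F497282 (iv2 F425638) D211734
theorem F497284 : act 1 n211790 = n219119 := d15_1 F497279 (iv7 F497276) F497283
theorem F497285 : act 3 n219120 = n190885 := d19_3 D216915 (iv5 F486526) (iv4 F497281) (iv1 D190885) (iv5 F367205) (iv4 F380443) F380442 (iv1 D131991) F332805 F165632 F165634 F81328 (iv5 F48024) (iv4 F98448) (iv3 F208660) (iv1 F366226) (iv5 F291544) F137449 (iv3 F289097)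
def n219121 : Q := act 7 n190832
theorem D219121 : act 7 n190832 = n219121 := rfl
theorem F497286 : act 2 n219121 = n211790 := d4_1 D219121 (iv7 F497183) F497180
theorem F497287 : act 3 n219121 = n207232 := d8_1 D219121 F443909 (iv3 F381272)
theorem F497288 : act 4 n219121 = n202784 := d11_1 D219121 (iv7 F497271) F497269
theorem F497289 : act 5 n219121 = n207231 := d13_1 D219121 (iv7 F447807) F447805
theorem F497290 : act 6 n219121 = n202788 := d14_1 D219121 (iv7 F447843) F447842 F377929 D190832
theorem F497291 : act 1 n211734 = n219121 := d15_1 (iv0 F497185) (iv7 D219121) (iv2 F497180)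
theorem F497292 : act 1 n219121 = n211736 := d15_1 F497291 (iv7 F497280) (iv2 F497283)
def n219122 : Q := act 3 n190834
theorem D219122 : act 3 n190834 = n219122 := rfl
theorem F497293 : act 2 n219122 = n208011 := d0_1 D219122 F496132 F496134 F495518 F381957
theorem F497294 : act 4 n219122 = n205813 := d5_2 D190834 D219122 (iv3 F495233) F495231 (iv3 D190833)
theorem F497295 : act 6 n219122 = n211784 := d7_2 (iv6 F381279) D219122 F463065
def n219123 : Q := act 5 n190834
theorem D219123 : act 5 n190834 = n219123 := rfl
theorem F497296 : act 2 n219123 = n211753 := d2_1 D219123 F462962 F381957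
theorem F497297 : act 4 n219123 = n214560 := d9_1 D219123 (iv5 D214560) F251958 D164484 (iv4 F370165) (iv5 F370169) D190831 (iv5 F497206) F497205 (iv5 D201189) (iv4 D114084) (iv5 F142874) F371820 F371823 D190834
theorem F497298 : act 6 n219123 = n200315 := d12_2 (iv6 F381279) D219123 F415963 F182887 (iv5 F226819)
theorem F497299 : act 7 n219123 = n218754 := d13_2 (iv7 F381953) D219123 F495503
theorem F497300 : act 1 n219123 = n215514 := d17_6 (iv1 F394340) (iv5 D194747) (iv1 F371818) F371823 D190834 D219123 F480289 D217393 F488708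
def n219124 : Q := act 0 n190835
theorem D219124 : act 0 n190835 = n219124 := rfl
theorem F497301 : act 5 n219124 = n200956 := d17_1 D219124 (iv1 F418494) (iv5 F447844) (iv4 D208094) (iv5 F410946) F415738 (iv5 F425581) F425579 F381277
theorem F497302 : act 4 n219124 = n202821 := d18_1 D219124 (iv1 D202821) (iv4 F381680) (iv5 F394887) (iv4 F440822) F440826 (iv4 F441346) (iv0 D206563) (iv5 F381276)
theorem F497303 : act 2 n211793 = n219124 := d15_3 (iv0 D219124) (iv0 F381278) (iv7 F463086)
theorem F497304 : act 1 n202788 = n219124 := d15_0 (iv0 D219124) F381280 (iv2 F425585)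
theorem F497305 : act 7 n219124 = n211749 := d15_2 F425724 F497304 F462941
theorem F497306 : act 3 n190889 = n219124 := d19_19 (iv1 F497304) (iv5 F441385) F441383 F207126 (iv1 F362299) (iv5 D127407) F94261 (iv3 F50401) D68857 (iv5 F144897) (iv4 F145058) (iv3 D94119) (iv1 F291430) D97021 (iv4 F369853) F369852 F319305 D213372 F470119
def n219125 : Q := act 5 n190836
theorem D219125 : act 5 n190836 = n219125 := rfl
theorem F497307 : act 2 n219125 = n218903 := d2_1 D219125 F496119 F488889
theorem F497308 : act 7 n219125 = n211824 := d13_2 (iv7 F474003) D219125 (iv5 F474000)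
theorem F497309 : act 4 n219125 = n214534 := d16_2 (iv4 F381281) D219125 (iv5 D214534) (iv4 D159734) (iv5 F367165) F367164 F251668 (iv7 F369832) (iv2 F369834)
theorem F497310 : act 0 n219125 = n217473 := d18_0 F489043 (iv1 F475795) (iv4 F497297) (iv5 D219123) (iv4 D190834) F381242 (iv4 F496150) F496154 D219125
theorem F497311 : act 6 n211821 = n219125 := d14_5 F497308 (iv6 D211824) (iv7 D144136) (iv6 F226845) D211821
def n219126 : Q := act 6 n190836
theorem D219126 : act 6 n190836 = n219126 := rfl
theorem F497312 : act 2 n219126 = n211847 := d3_1 D219126 F488893 F488889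
theorem F497313 : act 3 n219126 = n218725 := d7_1 D219126 (iv6 F495331) F488585
theorem F497314 : act 4 n219126 = n191039 := d10_1 D219126 (iv6 D191039) (iv4 F381281)
theorem F497315 : act 5 n219126 = n202819 := d12_1 D219126 F425718 (iv5 F463191) F497311 (iv5 D219125)
theorem F497316 : act 7 n219126 = n202818 := d14_2 (iv7 F474003) D219126 F425715 (iv7 F247458) D214208
theorem F497317 : act 1 n211845 = n219126 := d15_1 D211845 F497316 F425714
theorem F497318 : act 0 n211844 = n219126 := d21_1 (iv5 F486526) F497315 F425718 (iv1 F425762) (iv6 F425765) F364555 (iv1 D88755) D88757 D186320 D216915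
def n219127 : Q := act 3 n190837
theorem D219127 : act 3 n190837 = n219127 := rfl
theorem F497319 : act 6 n219127 = n208101 := d7_2 (iv6 F381686) D219127 F447871
theorem F497320 : act 4 n219127 = n218924 := d20_6 D218866 F496236 F496232 (iv3 F496149) F496153 D219127 (iv1 F496230) F495798 F378953 D190199
def n219128 : Q := act 5 n190837
theorem D219128 : act 5 n190837 = n219128 := rfl
theorem F497321 : act 2 n219128 = n211824 := d2_1 D219128 (iv5 F474000) F473998
theorem F497322 : act 4 n219128 = n218127 := d9_1 D219128 (iv5 D218127) F373897 (iv5 F193571) (iv4 F251680) (iv5 F251681) (iv4 F381281) D219125 F497309 (iv5 D214534) (iv4 D159734) (iv5 F367165) F367164 F251668 (iv4 F381282)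
theorem F497323 : act 6 n219128 = n197478 := d12_2 (iv6 F381686) D219128 F404495 F182929 D133385
theorem F497324 : act 7 n219128 = n218903 := d13_2 F488890 D219128 F496119
theorem F497325 : act 1 n219128 = n217473 := d17_8 (iv1 F475795) (iv5 D214560) (iv1 F251960) (iv5 F378628) (iv4 F381286) (iv5 D190839) D190837 D219128 F489043
def n219129 : Q := act 0 n190838
theorem D219129 : act 0 n190838 = n219129 := rfl
theorem F497326 : act 4 n219129 = n213685 := d20_8 (iv4 F381915) (iv1 D191024) (iv4 F381477) (iv3 D190894) (iv1 D97012) D97013 (iv4 F381283) D219129 F471622 F366266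
theorem F497327 : act 6 n219129 = n218650 := d21_5 (iv5 D97116) F149822 (iv5 F381769) (iv6 F381773) D219129 (iv5 D218650) (iv1 F377662) D190411 F379707 F370026
def n219130 : Q := act 1 n190838
theorem D219130 : act 1 n190838 = n219130 := rfl
theorem F497328 : act 3 n217445 = n219130 := d19_19 (iv1 D219130) (iv5 F488581) (iv4 F495651) F495650 (iv1 F378803) (iv5 F392775) F392776 (iv3 F440027) (iv1 F440031) F383345 F383342 F183472 D153231 (iv5 F334467) F150037 (iv3 F150036) D191104 (iv5 F382243) (iv4 F488910)
theorem F497329 : act 6 n211859 = n219130 := d21_3 (iv5 D214193) F341114 (iv5 F463291) (iv1 D219130) F381773 F381769 (iv1 F149821) D97121 D190994 (iv1 F473937)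
def n219131 : Q := act 7 n190838
theorem D219131 : act 7 n190838 = n219131 := rfl
theorem F497330 : act 3 n219131 = n190840 := d8_1 D219131 (iv7 D190840) D190838
theorem F497331 : act 4 n219131 = n190899 := d11_1 D219131 (iv7 D190899) (iv4 F381283)
theorem F497332 : act 5 n219131 = n218762 := d13_1 D219131 F495541 F488581
def n219132 : Q := act 0 n190839
theorem D219132 : act 0 n190839 = n219132 := rfl
theorem F497333 : act 5 n219132 = n191035 := d17_1 D219132 (iv1 F497203) F497201 (iv4 F495480) F495479 (iv0 D215017) (iv5 F475771) F475769 (iv4 F381286)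
theorem F497334 : act 4 n219132 = n218129 := d18_1 D219132 (iv1 D218129) D218130 F492270 F488514 F369826 (iv4 F381281) (iv0 D190836) D190839
theorem F497335 : act 6 n219132 = n208193 := d21_5 (iv5 D97160) (iv1 F138032) D187318 (iv6 F381285) D219132 (iv5 D208193) (iv1 F376736) (iv5 F369656) (iv6 D187264) F353186
theorem F497336 : act 1 n214554 = n219132 := d15_0 (iv0 D219132) (iv7 F381287) (iv2 F475761)
theorem F497337 : act 2 n217444 = n219132 := d1_3 F497334 (iv2 F492268) (iv4 F488907)
theorem F497338 : act 7 n217445 = n219132 := d11_0 F497334 F492266 (iv4 F488910)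
def n219133 : Q := act 1 n190839
theorem D219133 : act 1 n190839 = n219133 := rfl
theorem F497339 : act 1 n219133 = n214554 := d15_1 D219133 F475764 (iv2 F381284)
theorem F497340 : act 7 n219133 = n217444 := d15_2 (iv0 D219132) D219133 F497337
theorem F497341 : act 5 n219133 = n191036 := d17_7 (iv1 F381256) (iv5 D96975) (iv1 D45335) D45336 D96979 D190839 D219133 (iv0 F497202) (iv4 D219104)
theorem F497342 : act 4 n219133 = n218128 := d17_9 (iv1 F492264) F379256 F251660 D214534 (iv4 F497309) (iv5 D219125) (iv0 D190836) D190839 D219133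
theorem F497343 : act 2 n217445 = n219133 := d1_3 F497342 (iv2 F492261) (iv4 F488910)
def n219134 : Q := act 5 n190843
theorem D219134 : act 5 n190843 = n219134 := rfl
theorem F497344 : act 2 n219134 = n190844 := d2_1 D219134 (iv5 D190844) D190843
theorem F497345 : act 3 n219134 = n190918 := d6_1 D219134 (iv5 D190918) (iv3 F381297)
theorem F497346 : act 4 n219134 = n217396 := d9_1 D219134 F488721 (iv4 F412503) F412504 F231677 (iv5 F130725) (iv4 F347831) D190146 F392211 (iv5 D194159) (iv4 F277633) (iv5 F363362) (iv4 F405300) (iv5 F464969) F464968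
theorem F497347 : act 6 n219134 = n218885 := d12_2 (iv6 F408268) D219134 (iv5 F496040) (iv6 D198538) D198537
theorem F497348 : act 7 n219134 = n218828 := d13_2 (iv7 F381298) D219134 (iv5 D218828)
theorem F497349 : act 1 n219134 = n198721 := d17_6 (iv1 F408970) (iv5 F408978) (iv1 F405303) (iv5 F464969) F464968 D219134 (iv5 D198721) F408915 F408911
theorem F497350 : act 0 n219134 = n198720 := d18_0 (iv4 F434033) F496049 (iv4 D218887) (iv5 D190223) D190222 (iv0 F495814) (iv4 D218826) F381300 D219134
def n219135 : Q := act 0 n190844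
theorem D219135 : act 0 n190844 = n219135 := rfl
theorem F497351 : act 5 n219135 = n198695 := d17_1 D219135 (iv1 F408914) (iv5 F408995) (iv4 F488519) F488518 (iv0 F393405) (iv5 F369902) (iv0 F476950) F476949
theorem F497352 : act 4 n219135 = n198503 := d18_1 D219135 F495295 (iv4 F496035) (iv5 D218884) (iv4 F473137) F473140 F438229 (iv0 D190842) D190844
theorem F497353 : act 3 n219135 = n206190 := d20_5 F379295 F362765 F338161 (iv3 F381301) D219135 (iv4 F447019) (iv1 F496191) (iv4 D218918) F379299 (iv1 F379291)
theorem F497354 : act 1 n218828 = n219135 := d15_0 (iv0 D219135) F381302 (iv2 F495823)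
theorem F497355 : act 6 n198502 = n219135 := d21_9 (iv5 D218828) (iv1 F381296) (iv5 F408989) F408990 F381176 D190883 F381445 F429322 F429323 (iv1 F497354)
theorem F497356 : act 7 n198721 = n219135 := d8_0 F497353 (iv7 F467394) F467393
theorem F497357 : act 2 n219135 = n198720 := d15_3 (iv0 F497350) F497349 F497356
def n219136 : Q := act 1 n190844
theorem D219136 : act 1 n190844 = n219136 := rfl
theorem F497358 : act 1 n219136 = n218828 := d15_1 D219136 (iv7 F497348) F497344
theorem F497359 : act 7 n219136 = n198720 := d15_2 (iv0 D219135) D219136 (iv2 F497357)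
theorem F497360 : act 5 n219136 = n198696 := d17_7 (iv1 F408985) (iv5 F434606) (iv1 D205014) (iv5 F229436) F347828 D190844 D219136 F408908 (iv4 F408983)
theorem F497361 : act 4 n219136 = n215503 := d18_7 (iv1 D199919) F174068 D197879 F406090 D214807 F476949 D219136 (iv0 F480248) F476649
theorem F497362 : act 2 n198721 = n219136 := d16_9 F497361 F480246 (iv4 F413073) F413074 (iv4 F403170) (iv5 F429349) F429348 (iv5 F497351) (iv7 F497356)
theorem F497363 : act 3 n219136 = n218775 := d20_3 F496035 F480248 (iv4 F497361) (iv1 D218775) F378745 (iv4 F361147) F364590 F358455 (iv3 F466380) (iv1 F496036)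
theorem F497364 : act 6 n198479 = n219136 := d7_0 F497363 (iv6 F495607) F463814
def n219137 : Q := act 6 n190844
theorem D219137 : act 6 n190844 = n219137 := rfl
theorem F497365 : act 2 n219137 = n218885 := d3_1 D219137 (iv6 F497347) F497344
theorem F497366 : act 3 n219137 = n190847 := d7_1 D219137 (iv6 D190847) (iv3 F381301)
theorem F497367 : act 4 n219137 = n218883 := d10_1 D219137 F496026 F476949
theorem F497368 : act 5 n219137 = n199840 := d12_1 D219137 (iv6 D199840) F204862 (iv6 F347829) D190844
theorem F497369 : act 7 n219137 = n218887 := d14_2 (iv7 F381302) D219137 (iv6 F497038) F497039 F495311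
theorem F497370 : act 0 n219137 = n198503 := d21_4 F408989 F354567 D190844 D219137 (iv6 D198503) F169865 (iv1 D50685) D50686 (iv6 F169911) D198722
theorem F497371 : act 1 n219137 = n215503 := d15_1 (iv0 F497370) F480247 F408779
def n219138 : Q := act 3 n190845
theorem D219138 : act 3 n190845 = n219138 := rfl
theorem F497372 : act 2 n219138 = n215525 := d0_1 D219138 (iv3 F480327) F477891 F477892 F381305
theorem F497373 : act 5 n219138 = n217266 := d6_2 (iv5 F381303) D219138 (iv3 F488191)
theorem F497374 : act 7 n219138 = n215526 := d8_2 F381306 D219138 F480329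
theorem F497375 : act 0 n219138 = n215524 := d19_4 (iv1 F357277) (iv5 F464457) F464456 D219138 F480323 (iv4 F475900) (iv3 F475901) F442916 D214511 F475547 F420946 (iv1 F418955) F418956 F214582 (iv3 D132274) (iv1 D62057) F47068 (iv4 F79050) (iv3 F167316)
theorem F497376 : act 0 n190928 = n219138 := d20_4 (iv4 F381652) (iv1 D190946) (iv4 F361121) (iv3 F381572) (iv3 D219138) (iv4 F464456) (iv1 F464458) (iv4 D191009) F366293 (iv1 F363491)
def n219139 : Q := act 1 n190850
theorem D219139 : act 1 n190850 = n219139 := rfl
theorem F497377 : act 1 n219139 = n190917 := d15_1 D219139 (iv7 F391649) F391646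
theorem F497378 : act 7 n219139 = n192326 := d15_2 (iv0 F381327) D219139 F386442
theorem F497379 : act 4 n219139 = n212776 := d17_9 (iv1 F467455) F488204 (iv1 D217269) (iv5 D187083) F137245 D89534 D187092 (iv5 F381328) D219139
theorem F497380 : act 5 n219139 = n215591 := d18_9 F486812 F486810 (iv1 F480573) F480570 F274765 F308365 (iv0 F338150) D190850 D219139
theorem F497381 : act 3 n193821 = n219139 := d19_19 (iv1 D219139) F381328 (iv4 F391016) (iv3 F391023) (iv1 F222597) (iv5 D111157) F80880 F80596 (iv1 F166076) D108229 F326045 (iv3 D58697) (iv1 D27908) D27910 F314135 D62718 (iv1 F232796) (iv5 F238975) (iv4 F391093)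
theorem F497382 : act 6 n192723 = n219139 := d21_3 F137236 D100557 D192723 (iv1 D219139) F381325 (iv5 D134337) (iv1 D63110) D63112 D134344 F354735
theorem F497383 : act 2 n219139 = n204120 := d3_1 F497382 F471955 (iv2 F471953)
def n219140 : Q := act 4 n190851
theorem D219140 : act 4 n190851 = n219140 := rfl
theorem F497384 : act 2 n219140 = n202827 := d1_1 D219140 F487781 (iv2 F487782)
theorem F497385 : act 7 n219140 = n218822 := d11_2 (iv7 F381330) D219140 (iv4 D218822)
theorem F497386 : act 5 n219140 = n202824 := d16_1 D219140 F425745 F391020 F391019 F391025 (iv4 D190917) D190918 (iv7 F487779) (iv2 F487782)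
theorem F497387 : act 0 n219140 = n217270 := d18_2 (iv1 F487785) D219140 (iv4 D217270) (iv5 D187083) F137245 D89533 D187088 F369059 (iv5 F487784)
theorem F497388 : act 6 n218094 = n219140 := d21_3 (iv5 D188487) D188485 D218094 F497387 F488206 F390743 F393741 F393737 F492133 (iv1 D218097)
theorem F497389 : act 3 n211801 = n219140 := d6_3 F497386 F425744 D211801
theorem F497390 : act 0 n200399 = n219140 := d17_2 (iv1 F415576) D200399 F497386 F425745 F391020 F391018 (iv5 F352988) (iv0 F411480) F411477
def n219141 : Q := act 6 n190851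
theorem D219141 : act 6 n190851 = n219141 := rfl
theorem F497391 : act 3 n219141 = n190853 := d7_1 D219141 (iv6 D190853) (iv3 F381329)
theorem F497392 : act 4 n219141 = n218094 := d10_1 D219141 F497388 (iv4 D219140)
theorem F497393 : act 0 n219141 = n217404 := d21_10 F488751 F497015 (iv5 F497016) F488787 F488905 F488902 F478521 (iv1 D190848) D190851 D219141
theorem F497394 : act 0 n218835 = n219141 := d21_4 (iv5 F159339) (iv1 F160420) (iv5 F379014) D218835 (iv6 D219141) (iv5 D190851) F338150 D97049 F149715 D97053
def n219142 : Q := act 3 n190852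
theorem D219142 : act 3 n190852 = n219142 := rfl
theorem F497395 : act 2 n219142 = n211815 := d0_1 D219142 F463177 F289068 (iv3 F378979) (iv2 F381331)
theorem F497396 : act 4 n219142 = n211801 := d5_2 D190852 D219142 F497389 (iv4 D219140) F381329
theorem F497397 : act 6 n219142 = n205064 := d7_2 F496435 D219142 (iv3 F496437)
theorem F497398 : act 7 n219142 = n218825 := d8_2 (iv7 F381332) D219142 (iv3 D218825)
theorem F497399 : act 0 n219142 = n196907 := d19_4 (iv1 F71436) D96989 D190852 D219142 (iv5 D196907) (iv4 F218712) F218711 F99817 D64144 D136445 D209417 F470298 F470297 F387707 F154737 D100647 (iv5 F378930) F378929 F147349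
theorem F497400 : act 1 n215348 = n196907 := d15_0 (iv0 F497399) F497398 F495807
def n219143 : Q := act 0 n190856
theorem D219143 : act 0 n190856 = n219143 := rfl
theorem F497401 : act 5 n219143 = n211746 := d17_1 D219143 (iv1 F462933) (iv5 F495857) (iv4 F495859) (iv5 D211367) (iv0 D141900) D141902 D211370 F461310
theorem F497402 : act 3 n219143 = n215336 := d20_5 F463275 F369584 D190239 F385458 D219143 F479457 (iv1 F461111) (iv4 F480185) (iv3 F480186) (iv1 F463278)
theorem F497403 : act 6 n219143 = n190890 := d21_5 F378958 (iv1 F380369) F380366 D190856 D219143 (iv5 F381464) F378019 (iv5 F378965) (iv6 D190143) D190140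
theorem F497404 : act 2 n211747 = n219143 := d3_3 F497403 (iv2 F381466) (iv6 F462935)
theorem F497405 : act 0 n219143 = n194419 := d21_4 (iv5 F478698) F478701 F381464 (iv6 F497403) F393131 (iv5 D158027) D158024 (iv5 F379023) (iv6 F474014) F474015
theorem F497406 : act 7 n218831 = n219143 := d15_2 (iv0 F462936) D218831 (iv2 F497404)
def n219144 : Q := act 1 n190856
theorem D219144 : act 1 n190856 = n219144 := rfl
theorem F497407 : act 1 n219144 = n194419 := d15_1 D219144 F393132 (iv2 F381343)
theorem F497408 : act 7 n219144 = n211747 := d15_2 (iv0 D219143) D219144 F497404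
theorem F497409 : act 5 n219144 = n202804 := d17_7 F477093 F477090 F436777 F361780 (iv4 F331349) (iv5 F381344) D219144 F462927 (iv4 F466096)
theorem F497410 : act 3 n202805 = n219144 := d19_19 (iv1 D219144) F381344 F331349 (iv3 D148656) F167440 (iv5 F133113) F133112 F311261 F299083 (iv5 D124509) F296511 (iv3 F296152) (iv1 D19513) D19514 D41438 D88751 (iv1 F364566) D198420 (iv4 F425659)
theorem F497411 : act 2 n219144 = n218831 := d0_1 F497410 (iv3 F495834) (iv2 F462911) F462912 (iv2 F425657)
def n219145 : Q := act 7 n190856
theorem D219145 : act 7 n190856 = n219145 := rfl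
theorem F497412 : act 2 n219145 = n194419 := d4_1 D219145 F393132 (iv2 F381343)
theorem F497413 : act 3 n219145 = n210456 := d8_1 D219145 F457616 F385458
theorem F497414 : act 4 n219145 = n218061 := d11_1 D219145 F491958 F461310
theorem F497415 : act 5 n219145 = n194258 := d13_1 D219145 F392535 (iv5 F381344)
theorem F497416 : act 6 n219145 = n214296 := d14_1 D219145 F474440 (iv6 D190156) (iv7 F364157) D190856
theorem F497417 : act 1 n218831 = n219145 := d15_1 D218831 (iv7 D219145) F381343
theorem F497418 : act 1 n219145 = n211747 := d15_1 F497417 (iv7 F497408) F497411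
def n219146 : Q := act 6 n190857
theorem D219146 : act 6 n190857 = n219146 := rfl
theorem F497419 : act 2 n219146 = n218833 := d3_1 D219146 (iv6 D218833) F381347
theorem F497420 : act 3 n219146 = n211959 := d7_1 D219146 (iv6 D211959) (iv3 F381350)
theorem F497421 : act 4 n219146 = n191012 := d10_1 D219146 (iv6 D191012) (iv4 F381346)
theorem F497422 : act 5 n219146 = n213270 := d12_1 D219146 (iv6 D213270) (iv5 D152940) F316122 (iv5 F381345)
def n219147 : Q := act 3 n190858
theorem D219147 : act 3 n190858 = n219147 := rfl
theorem F497423 : act 2 n219147 = n205102 := d0_1 D219147 F434979 F201795 (iv3 F379005) F381354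
theorem F497424 : act 4 n219147 = n218783 := d5_2 (iv4 F381353) D219147 (iv3 D218783) F378792 F366327
theorem F497425 : act 5 n219147 = n196951 := d6_2 F381355 D219147 F407858
theorem F497426 : act 6 n219147 = n214637 := d7_2 F441640 D219147 F476160
theorem F497427 : act 7 n219147 = n218832 := d8_2 (iv7 F381352) D219147 (iv3 D218832)
def n219148 : Q := act 6 n190861
theorem D219148 : act 6 n190861 = n219148 := rfl
theorem F497428 : act 2 n219148 = n214939 := d3_1 D219148 (iv6 F477551) (iv2 F381359)
theorem F497429 : act 4 n219148 = n190862 := d10_1 D219148 (iv6 D190862) (iv4 F381360)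
theorem F497430 : act 5 n219148 = n213272 := d12_1 D219148 (iv6 D213272) F240280 D203273 F427607
theorem F497431 : act 7 n219148 = n190901 := d14_2 D190861 D219148 (iv6 D190901) (iv7 D97015) (iv6 F149582)
theorem F497432 : act 0 n218863 = n219148 := d21_4 F253465 F406200 (iv5 F433443) (iv6 F495961) (iv6 D219148) (iv5 F427607) F427606 F402059 (iv6 F476149) F476152
theorem F497433 : act 1 n218864 = n219148 := d15_1 D218864 F497431 F381496
def n219149 : Q := act 4 n190863
theorem D219149 : act 4 n190863 = n219149 := rfl
theorem F497434 : act 2 n219149 = n211967 := d1_1 D219149 F463770 (iv2 F381368)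
theorem F497435 : act 5 n219149 = n202864 := d9_2 D190863 D219149 (iv4 F463259) F463258 F429557 (iv5 F356971) F281616 D190809 D219097 F497161 F408695 D210819 F458895 F390386 F344215
theorem F497436 : act 7 n219149 = n211968 := d11_2 (iv7 F381369) D219149 F463773
theorem F497437 : act 0 n219149 = n210455 := d17_0 (iv5 D210455) (iv1 F356607) (iv5 F463776) F463777 (iv5 F381191) F381190 (iv5 F379050) (iv0 F381370) D219149
theorem F497438 : act 1 n219149 = n210456 := d18_6 F137893 (iv4 F137892) D186482 F344215 D190863 D219149 F457614 F369593 (iv5 D95739)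
theorem F497439 : act 6 n219149 = n198477 := d21_5 F173734 (iv1 F169875) (iv5 F408929) (iv6 F457615) (iv1 F497438) (iv5 D198477) (iv1 D109347) D109348 F169359 D109360
def n219150 : Q := act 6 n190863
theorem D219150 : act 6 n190863 = n219150 := rfl
theorem F497440 : act 2 n219150 = n218840 := d3_1 D219150 (iv6 D218840) (iv2 F381368)
theorem F497441 : act 4 n219150 = n198477 := d10_1 D219150 (iv6 F497439) (iv4 D219149)
theorem F497442 : act 5 n219150 = n218789 := d12_1 D219150 (iv6 D218789) (iv5 D190083) (iv6 F344217) D190863
theorem F497443 : act 0 n217416 = n218789 := d21_7 F379050 (iv1 F381190) F381191 (iv6 F463778) (iv1 F463779) D218891 F496066 (iv5 F497442) (iv6 D219150) F381370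
def n219151 : Q := act 4 n190865
theorem D219151 : act 4 n190865 = n219151 := rfl
theorem F497444 : act 2 n219151 = n211969 := d1_1 D219151 F463777 F381380
theorem F497445 : act 7 n219151 = n211970 := d11_2 F381381 D219151 F463782
theorem F497446 : act 5 n219151 = n203645 := d16_1 D219151 F429217 F420704 F227935 (iv5 F385448) F385452 (iv5 F381384) F381383 F381380
theorem F497447 : act 0 n219151 = n211971 := d17_0 F463785 (iv1 F408697) (iv5 F497161) (iv4 D219097) (iv5 D190809) F289553 D190172 F381379 D219151
theorem F497448 : act 1 n219151 = n202865 := d18_6 (iv1 F161650) F160318 F385138 F385135 (iv5 F381378) D219151 F425926 F369866 F369863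
theorem F497449 : act 6 n190865 = n219151 := d21_9 F463785 (iv1 F408697) (iv5 F497161) F497159 F414159 (iv6 D190193) F147378 D189868 (iv5 F381378) F497447
def n219152 : Q := act 4 n190866
theorem D219152 : act 4 n190866 = n219152 := rfl
theorem F497450 : act 2 n219152 = n211970 := d1_1 D219152 F463782 F381385
theorem F497451 : act 5 n219152 = n204994 := d9_2 (iv5 F381384) D219152 F434509 F404529 (iv4 F231936) (iv5 F385136) F385135 (iv5 F381378) D219151 F497446 F429217 F420704 F227935 (iv5 F385448) F385452
theorem F497452 : act 7 n219152 = n211969 := d11_2 (iv7 F381383) D219152 F463777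
theorem F497453 : act 0 n219152 = n202865 := d17_0 (iv5 D202865) D202864 (iv5 F497435) (iv4 D219149) (iv5 D190863) (iv0 D96995) D96998 D190866 D219152
theorem F497454 : act 1 n219152 = n211971 := d18_6 D104693 D194896 F394916 F385452 (iv5 F381384) D219152 F463784 (iv0 F369573) F137909
def n219153 : Q := act 6 n190866
theorem D219153 : act 6 n190866 = n219153 := rfl
theorem F497455 : act 2 n219153 = n218841 := d3_1 D219153 (iv6 D218841) F381385
theorem F497456 : act 3 n219153 = n215512 := d7_1 D219153 F480281 F381386
theorem F497457 : act 5 n219153 = n218649 := d12_1 D219153 F494962 F379879 F381183 (iv5 F381384)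
theorem F497458 : act 0 n219153 = n218720 := d21_4 F381440 (iv1 F380422) (iv5 F381384) D219153 F495311 (iv5 D190146) F364028 D216380 F484103 (iv1 F381442)
theorem F497459 : act 0 n218716 = n219153 := d21_4 F495951 (iv1 F414152) (iv5 F476649) F495294 (iv6 D219153) F381384 (iv1 D189869) (iv5 F147378) D190193 D218861
def n219154 : Q := act 6 n190868
theorem D219154 : act 6 n190868 = n219154 := rfl
theorem F497460 : act 3 n219154 = n190869 := d7_1 D219154 (iv6 D190869) D190868
theorem F497461 : act 5 n219154 = n199445 := d12_1 D219154 (iv6 F495138) F495137 (iv6 F404806) F389270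
def n219155 : Q := act 6 n190873
theorem D219155 : act 6 n190873 = n219155 := rfl
theorem F497462 : act 2 n219155 = n194640 := d3_1 D219155 F393918 F381415
theorem F497463 : act 3 n219155 = n211730 := d7_1 D219155 (iv6 F462887) F381416
theorem F497464 : act 4 n219155 = n216963 := d10_1 D219155 F486756 F385769
theorem F497465 : act 5 n219155 = n192848 := d12_1 D219155 (iv6 D192848) (iv5 D100798) D100799 (iv5 F381414)
theorem F497466 : act 0 n219155 = n215148 := d21_4 F369741 (iv1 F158655) (iv5 F381414) D219155 (iv6 D215148) D215147 F478560 F378954 (iv6 D187296) D187294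
theorem F497467 : act 0 n211963 = n219155 := d21_4 (iv5 F297237) F377163 D218116 F492208 (iv6 D219155) F381414 (iv1 F159341) F158650 (iv6 F381418) (iv1 D163289)
def n219156 : Q := act 5 n190874
theorem D219156 : act 5 n190874 = n219156 := rfl
theorem F497468 : act 2 n219156 = n193479 := d2_1 D219156 (iv5 F390738) (iv2 F390739)
theorem F497469 : act 3 n219156 = n203270 := d6_1 D219156 F427592 F381830
theorem F497470 : act 4 n219156 = n192102 := d9_1 D219156 F385554 F368816 (iv5 D186748) F335743 D97051 F365875 D214870 F477217 F385547 (iv4 F368820) (iv5 D185997) F135757 D97002 D190874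
theorem F497471 : act 6 n219156 = n203269 := d12_2 (iv6 F381813) D219156 F427587 (iv6 D190990) D190989
theorem F497472 : act 7 n219156 = n193478 := d13_2 (iv7 F381419) D219156 F389993
def n219157 : Q := act 1 n190876
theorem D219157 : act 1 n190876 = n219157 := rfl
theorem F497473 : act 7 n219157 = n214945 := d15_2 (iv0 F483008) D219157 (iv2 F483004)
theorem F497474 : act 4 n219157 = n211978 := d18_7 F461778 (iv4 F408615) (iv1 F344485) (iv4 F427591) F427592 F381831 D219157 F463816 F461780
theorem F497475 : act 2 n218838 = n219157 := d16_9 F497474 (iv5 D211978) (iv4 F341153) F357108 D177042 (iv5 F471898) F471897 (iv5 F483007) F495862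
theorem F497476 : act 0 n218839 = n219157 := d18_2 F473936 (iv4 F495864) F497474 (iv5 D211978) (iv4 F341153) F357110 F324368 (iv0 F341114) D214193
def n219158 : Q := act 2 n190876
theorem D219158 : act 2 n190876 = n219158 := rfl
theorem F497477 : act 3 n219158 = n218845 := d0_2 D190876 D219158 (iv2 D218845) (iv3 D190179) (iv2 F149609)
theorem F497478 : act 4 n219158 = n212892 := d1_2 F381831 D219158 F467982
theorem F497479 : act 6 n219158 = n212077 := d3_2 (iv6 F381829) D219158 (iv2 F464247)
theorem F497480 : act 7 n219158 = n218839 := d4_2 (iv7 F381422) D219158 (iv2 D218839)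
theorem F497481 : act 1 n219158 = n218838 := d15_0 (iv0 D218838) (iv7 F381422) D219158
theorem F497482 : act 1 n214945 = n219158 := d15_0 F497481 (iv7 F495862) F483004
def n219159 : Q := act 7 n190877
theorem D219159 : act 7 n190877 = n219159 := rfl
theorem F497483 : act 2 n219159 = n218847 := d4_1 D219159 (iv7 D218847) (iv2 F381423)
theorem F497484 : act 3 n219159 = n212078 := d8_1 D219159 F464249 F381828
theorem F497485 : act 4 n219159 = n190881 := d11_1 D219159 (iv7 D190881) (iv4 F381424)
theorem F497486 : act 5 n219159 = n215447 := d13_1 D219159 F480441 (iv5 F480446)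
theorem F497487 : act 6 n219159 = n203684 := d14_1 D219159 F429403 (iv6 D190167) (iv7 F149610) D190877
theorem F497488 : act 1 n212196 = n219159 := d15_1 (iv0 F464714) (iv7 D219159) F381423
theorem F497489 : act 1 n219159 = n217457 := d15_1 F497488 (iv7 F496017) F496013
def n219160 : Q := act 5 n190878
theorem D219160 : act 5 n190878 = n219160 := rfl
theorem F497490 : act 2 n219160 = n218850 := d2_1 D219160 (iv5 D218850) (iv2 F381436)
theorem F497491 : act 3 n219160 = n208066 := d6_1 D219160 (iv5 F497254) (iv3 F497256)
theorem F497492 : act 6 n219160 = n208064 := d12_2 F496800 D219160 F447715 F416194 D219033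
theorem F497493 : act 7 n219160 = n218770 := d13_2 (iv7 F381435) D219160 F495579
theorem F497494 : act 4 n219160 = n212194 := d18_5 (iv1 D187332) (iv4 F369857) D217454 F495906 D219160 (iv0 D212194) (iv4 F402377) (iv0 F402379) F369858
theorem F497495 : act 0 n193673 = n219160 := d19_0 (iv5 D219160) (iv4 F495906) (iv3 F496012) (iv1 D214654) (iv5 F476088) F476087 F455863 F455943 F488143 (iv4 F488142) (iv3 F478624) (iv1 F478628) (iv5 F431191) F430845 (iv3 F386413) (iv1 F483827) F483825 (iv4 D193674) D193673
def n219161 : Q := act 3 n190879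
theorem D219161 : act 3 n190879 = n219161 := rfl
theorem F497496 : act 2 n219161 = n218803 := d0_1 D219161 (iv3 F497264) F497262 (iv3 D218852) (iv2 F381427)
theorem F497497 : act 6 n219161 = n215526 := d7_2 F381426 D219161 F480329
theorem F497498 : act 7 n219161 = n218802 := d8_2 F381437 D219161 F495901
theorem F497499 : act 0 n218804 = n219161 := d20_4 D187354 (iv1 F369940) (iv4 F378856) (iv3 F495720) (iv3 D219161) F402434 F402435 F369857 F138047 D89918
theorem F497500 : act 1 n218797 = n219161 := d15_0 (iv0 F497499) (iv7 D218804) (iv2 F495698)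
def n219162 : Q := act 0 n190880
theorem D219162 : act 0 n190880 = n219162 := rfl
theorem F497501 : act 4 n219162 = n215546 := d18_1 D219162 (iv1 F480437) F480040 F393703 (iv4 F496007) F496011 F495906 (iv0 D190878) D190880
theorem F497502 : act 6 n219162 = n211704 := d21_5 (iv5 D91290) F292252 D97006 (iv6 F381429) D219162 F462772 F416497 (iv5 F159273) (iv6 D103855) F294331
theorem F497503 : act 2 n194622 = n219162 := d15_3 (iv0 D219162) (iv0 F477022) (iv7 F477024)
theorem F497504 : act 7 n219162 = n194623 := d4_2 (iv7 F477024) F497503 (iv2 F477020)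
theorem F497505 : act 1 n194624 = n219162 := d15_1 (iv0 F477023) F497504 (iv2 F477020)
theorem F497506 : act 3 n211706 = n219162 := d20_3 F392880 D213718 F471777 (iv1 F497505) F393857 F169223 D196602 (iv4 F453110) F464631 F464630
def n219163 : Q := act 7 n190880
theorem D219163 : act 7 n190880 = n219163 := rfl
theorem F497507 : act 2 n219163 = n194624 := d4_1 D219163 (iv7 D194624) (iv2 F381428)
theorem F497508 : act 3 n219163 = n193960 := d8_1 D219163 F391526 F389988
theorem F497509 : act 4 n219163 = n199164 := d11_1 D219163 F410963 F393707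
theorem F497510 : act 5 n219163 = n190881 := d13_1 D219163 (iv7 D190881) D190880
theorem F497511 : act 6 n219163 = n193959 := d14_1 D219163 F391520 (iv6 D103877) (iv7 F149613) (iv6 F381429)
theorem F497512 : act 1 n194623 = n219163 := d15_1 D194623 (iv7 D219163) F381428
theorem F497513 : act 1 n219163 = n194622 := d15_1 F497512 F477024 F477020
def n219164 : Q := act 6 n190882
theorem D219164 : act 6 n190882 = n219164 := rfl
theorem F497514 : act 2 n219164 = n190883 := d3_1 D219164 (iv6 D190883) D190882
theorem F497515 : act 3 n219164 = n190924 := d7_1 D219164 (iv6 D190924) (iv3 F381439)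
theorem F497516 : act 4 n219164 = n198739 := d10_1 D219164 (iv6 F457595) F457597
theorem F497517 : act 5 n219164 = n218999 := d12_1 D219164 (iv6 D218999) F379984 (iv6 F380417) (iv5 F381440)
theorem F497518 : act 0 n219164 = n198486 := d21_4 F381378 (iv1 F380419) (iv5 F381440) D219164 F409020 (iv5 D109353) (iv1 F169236) (iv5 F381389) (iv6 D190867) D190865
theorem F497519 : act 1 n219164 = n198495 := d15_1 (iv0 F497518) (iv7 F409017) F409016
theorem F497520 : act 7 n219164 = n205505 := d15_2 F472320 (iv0 F497518) (iv2 F472317)
def n219165 : Q := act 3 n190884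
theorem D219165 : act 3 n190884 = n219165 := rfl
theorem F497521 : act 2 n219165 = n218817 := d0_1 D219165 (iv3 F497278) (iv2 F497275) F462901 F478514
theorem F497522 : act 7 n219165 = n218818 := d8_2 F478515 D219165 F495793
theorem F497523 : act 4 n199447 = n219165 := d19_2 (iv1 D199446) D199447 (iv3 D219165) (iv1 F381450) (iv5 F382710) F382709 (iv3 D191214) (iv1 D97396) (iv5 F294907) (iv4 F193183) (iv3 D121135) F88431 D78469 F119669 (iv3 F253720) F433474 (iv5 F433473) F476314 (iv3 F476315)
theorem F497524 : act 1 n219165 = n190948 := d18_6 (iv1 F253202) F253200 (iv1 F248921) (iv4 F365620) D199447 F497523 (iv4 F477509) F477510 (iv5 D204068)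
theorem F497525 : act 0 n219165 = n214812 := d20_7 F115541 (iv1 F119157) (iv4 F191508) F365866 F173943 (iv3 F412231) F497523 F476968 (iv3 D163972) F119945
def n219166 : Q := act 4 n190884
theorem D219166 : act 4 n190884 = n219166 := rfl
theorem F497526 : act 2 n219166 = n194756 := d1_1 D219166 F474445 F478514
theorem F497527 : act 3 n219166 = n199419 := d5_1 D219166 F412105 (iv3 F412231) F497523 (iv3 D219165)
theorem F497528 : act 6 n219166 = n199416 := d10_2 (iv6 F478513) D219166 (iv4 F478511)
theorem F497529 : act 7 n219166 = n194757 := d11_2 F478515 D219166 F394363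
theorem F497530 : act 5 n219166 = n199413 := d16_3 (iv4 F480981) F480982 D219166 (iv4 F473637) F473634 F280908 F476736 F476734 F476731
theorem F497531 : act 0 n219166 = n194755 := d18_2 D190884 D219166 F394360 F159971 (iv4 F288011) F288014 F382707 (iv0 D190648) F367205
theorem F497532 : act 1 n219166 = n190893 := d18_6 (iv1 F476743) (iv4 D214768) D214766 (iv4 F480981) F480982 D219166 F381476 D191021 (iv5 F381900)
def n219167 : Q := act 4 n190885
theorem D219167 : act 4 n190885 = n219167 := rfl
theorem F497533 : act 2 n219167 = n194757 := d1_1 D219167 F394363 F478516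
theorem F497534 : act 7 n219167 = n194756 := d11_2 (iv7 F478517) D219167 F474445
theorem F497535 : act 0 n219167 = n190893 := d18_2 (iv1 F381446) D219167 F381476 F290796 F133985 D166611 (iv4 F380448) F382711 F382710
theorem F497536 : act 1 n219167 = n194755 := d18_8 D206274 F470491 (iv1 F470490) (iv4 F375256) (iv5 F379340) F379339 D190885 D219167 F394361
theorem F497537 : act 6 n219167 = n214636 := d21_5 (iv5 F436687) (iv1 D128013) (iv5 F352716) D194755 (iv1 F497536) (iv5 D214636) (iv1 F253426) D204723 (iv6 F461589) F461591
def n219168 : Q := act 5 n190885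
theorem D219168 : act 5 n190885 = n219168 := rfl
theorem F497538 : act 2 n219168 = n218858 := d2_1 D219168 (iv5 D218858) F478516
theorem F497539 : act 3 n219168 = n202800 := d6_1 D219168 (iv5 F497282) F497285
theorem F497540 : act 7 n219168 = n211735 := d13_2 (iv7 F478517) D219168 (iv5 F462900)
theorem F497541 : act 4 n219168 = n214767 := d16_2 (iv4 D219167) D219168 (iv5 F476736) (iv4 F280908) (iv5 F473634) F473637 (iv5 F497530) F497529 (iv2 F497533)
theorem F497542 : act 6 n219168 = n207584 := d21_3 F382710 (iv1 F381446) D219168 (iv1 F445558) F382637 F330365 (iv1 F148030) D190621 (iv6 F380447) (iv1 F382712)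
theorem F497543 : act 1 n216817 = n219168 := d18_6 (iv1 F282841) (iv4 F280772) F412701 F412697 (iv5 F435580) (iv4 F486041) F497541 F476733 F382451
def n219169 : Q := act 6 n190885
theorem D219169 : act 6 n190885 = n219169 := rfl
theorem F497544 : act 2 n219169 = n214639 := d3_1 D219169 F476169 F478516
theorem F497545 : act 4 n219169 = n214636 := d10_1 D219169 (iv6 F497537) (iv4 D219167)
theorem F497546 : act 1 n218992 = n219169 := d17_8 F476157 (iv5 F434981) F400820 (iv5 F253465) D214657 (iv5 F486219) F486222 D218992 F497545
theorem F497547 : act 0 n218867 = n219169 := d18_0 F497545 F476157 F434983 (iv5 D190426) D190425 (iv0 F379751) (iv4 F147724) D190509 (iv5 F495972)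
def n219170 : Q := act 1 n190887
theorem D219170 : act 1 n190887 = n219170 := rfl
theorem F497548 : act 1 n219170 = n190923 := d15_1 D219170 (iv7 F488767) F488765
theorem F497549 : act 7 n219170 = n218853 := d15_2 F487305 D219170 (iv2 F495918)
theorem F497550 : act 4 n219170 = n217418 := d17_9 F488808 F485775 F485773 (iv5 F390743) (iv4 D193709) (iv5 D102251) (iv0 F385781) (iv5 F381454) D219170
theorem F497551 : act 2 n215491 = n219170 := d1_3 F497550 F488805 F487309
theorem F497552 : act 6 n219170 = n215487 := d3_2 D215491 F497551 F480197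
def n219171 : Q := act 6 n190887
theorem D219171 : act 6 n190887 = n219171 := rfl
theorem F497553 : act 4 n219171 = n190888 := d10_1 D219171 (iv6 D190888) D190887
theorem F497554 : act 5 n219171 = n215474 := d12_1 D219171 F495871 F495869 F390155 (iv5 F381454)
theorem F497555 : act 0 n219171 = n215490 := d21_4 F476553 (iv1 F385818) (iv5 F381454) D219171 F487312 F487310 (iv1 F367875) (iv5 F476571) F476572 (iv1 F476551)
def n219172 : Q := act 6 n190889
theorem D219172 : act 6 n190889 = n219172 := rfl
theorem F497556 : act 2 n219172 = n215496 := d3_1 D219172 (iv6 D215496) F381459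
theorem F497557 : act 5 n219172 = n194623 := d12_1 D219172 (iv6 F477017) (iv5 D214825) F366170 (iv5 F381458)
theorem F497558 : act 0 n219172 = n218870 := d21_4 F378965 (iv1 F378020) (iv5 F381458) D219172 (iv6 D218870) F478552 (iv1 D215139) (iv5 F476976) (iv6 D214814) F378967
def n219173 : Q := act 0 n190892
theorem D219173 : act 0 n190892 = n219173 := rfl
theorem F497559 : act 5 n219173 = n211448 := d17_3 (iv1 F389444) (iv5 F381473) D219173 F461571 (iv5 F340465) (iv0 D106135) D106137 D195655 (iv4 F397746)
theorem F497560 : act 3 n219173 = n218361 := d20_5 (iv4 D45403) D45401 (iv4 F149623) D190892 D219173 F493499 (iv1 F390410) (iv4 F390411) (iv3 D190194) F147379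
theorem F497561 : act 1 n193317 = n219173 := d15_0 (iv0 D219173) F381474 (iv2 F389448)
theorem F497562 : act 7 n193318 = n219173 := d8_0 F497560 F493498 F480081
theorem F497563 : act 2 n193319 = n219173 := d2_3 F497559 F461569 F461585
def n219174 : Q := act 1 n190892
theorem D219174 : act 1 n190892 = n219174 := rfl
theorem F497564 : act 7 n219174 = n193319 := d15_2 (iv0 D219173) D219174 F497563
theorem F497565 : act 5 n219174 = n196698 := d17_7 F390442 (iv5 D103179) (iv1 F259134) (iv5 F311739) (iv4 F156261) (iv5 F381473) D219174 (iv0 F401524) (iv4 F390440)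
theorem F497566 : act 2 n193318 = n219174 := d2_3 F497565 (iv2 F410986) (iv5 F410988)
theorem F497567 : act 3 n211432 = n219174 := d6_3 F497565 F401522 D211432
theorem F497568 : act 6 n196699 = n219174 := d12_0 F497565 (iv6 D196698) (iv5 D107220) D107221 D196699
theorem F497569 : act 0 n193317 = n219174 := d17_2 F389441 D193317 F497565 F401523 (iv5 D195652) F259122 (iv5 F478001) F478004 F397738
def n219175 : Q := act 2 n190892
theorem D219175 : act 2 n190892 = n219175 := rfl
theorem F497570 : act 3 n219175 = n193323 := d0_2 D190892 D219175 F389461 (iv3 D104350) F291218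
theorem F497571 : act 5 n219175 = n193307 := d2_2 (iv5 F381473) D219175 (iv2 F389431)
theorem F497572 : act 7 n219175 = n193317 := d4_2 (iv7 F381474) D219175 F389448
theorem F497573 : act 1 n219175 = n193318 := d15_0 (iv0 D193318) (iv7 F381474) D219175
theorem F497574 : act 1 n193319 = n219175 := d15_0 F497573 F497562 (iv2 F497563)
def n219176 : Q := act 4 n190892
theorem D219176 : act 4 n190892 = n219176 := rfl
theorem F497575 : act 3 n219176 = n191018 := d5_1 D219176 (iv4 D191018) (iv3 D97141) (iv4 F149623) D190892
theorem F497576 : act 7 n219176 = n193320 := d11_2 (iv7 F381474) D219176 (iv4 D193320)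
theorem F497577 : act 5 n219176 = n207637 := d16_1 D219176 (iv4 F445796) F362726 (iv4 F314186) (iv5 D102266) (iv4 F156258) D193317 (iv7 F497572) (iv2 D219175)
def n219177 : Q := act 6 n190892
theorem D219177 : act 6 n190892 = n219177 := rfl
theorem F497578 : act 3 n219177 = n190893 := d7_1 D219177 (iv6 D190893) D190892
theorem F497579 : act 5 n219177 = n218276 := d12_1 D219177 (iv6 D218276) F379914 F365234 (iv5 F381473)
def n219178 : Q := act 5 n190893
theorem D219178 : act 5 n190893 = n219178 := rfl
theorem F497580 : act 2 n219178 = n194758 := d2_1 D219178 (iv5 D194758) (iv2 F381475)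
theorem F497581 : act 3 n219178 = n218276 := d6_1 D219178 (iv5 F497579) F497578
theorem F497582 : act 4 n219178 = n215249 := d9_1 D219178 (iv5 D215249) F268468 F358842 F288011 (iv5 F159971) (iv4 F394360) F394361 (iv4 F430676) (iv5 D203976) F195590 (iv5 F326387) (iv4 F133985) (iv5 F290796) (iv4 F381476)
theorem F497583 : act 6 n219178 = n193326 := d12_2 D190893 D219178 (iv5 D193326) (iv6 D101456) (iv5 F290795)
theorem F497584 : act 7 n219178 = n206252 := d16_8 (iv4 F430676) (iv5 D203976) F195590 (iv5 F326387) (iv4 F133985) (iv5 F290796) (iv4 F381476) D219178 F439935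
theorem F497585 : act 1 n219178 = n206274 := d17_8 (iv1 F470490) F372039 F395648 (iv5 F473634) F473637 (iv5 F497530) F497532 D219178 F470491
theorem F497586 : act 0 n219178 = n206275 := d18_0 (iv4 F470497) (iv1 D213459) (iv4 F242871) D213689 F471646 F381450 D219166 F497532 D219178
def n219179 : Q := act 7 n190893
theorem D219179 : act 7 n190893 = n219179 := rfl
theorem F497587 : act 2 n219179 = n194755 := d4_1 D219179 F394362 (iv2 F381475)
theorem F497588 : act 4 n219179 = n191022 := d11_1 D219179 (iv7 D191022) (iv4 F381476)
theorem F497589 : act 5 n219179 = n206252 := d13_1 D219179 (iv7 F497584) (iv5 D219178)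
theorem F497590 : act 6 n219179 = n193323 := d14_1 D219179 (iv7 D193323) (iv6 D101454) F291199 D190893
theorem F497591 : act 1 n194757 = n219179 := d15_1 D194757 (iv7 D219179) F381475
theorem F497592 : act 1 n219179 = n194756 := d15_1 F497591 (iv7 F497534) F497533
def n219180 : Q := act 2 n190895
theorem D219180 : act 2 n190895 = n219180 := rfl
theorem F497593 : act 7 n190896 = n219180 := d15_2 (iv0 D190895) D190896 (iv2 D219180)
theorem F497594 : act 4 n219180 = n217342 := d11_1 F497593 (iv7 F488801) F488802
theorem F497595 : act 3 n192484 = n219180 := d5_5 F497594 (iv3 D217342) (iv4 F393933) F480217 F480212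
theorem F497596 : act 5 n192481 = n219180 := d19_1 F386775 F497594 (iv3 D217342) (iv1 F369756) (iv5 F379011) F477550 (iv3 D214939) (iv1 F406222) (iv5 D197929) F360124 D210933 F459353 (iv5 D195917) (iv4 F163682) (iv3 F166138) (iv1 D59544) (iv5 F48122) (iv4 F98661) (iv3 F216976)
theorem F497597 : act 0 n190897 = n219180 := d20_7 F462967 F462966 F381970 (iv3 F440253) (iv1 D191033) (iv3 F381848) F381849 F497594 (iv3 D217342) (iv1 F369756)
theorem F497598 : act 0 n219180 = n190899 := d20_7 F473999 (iv1 F369828) (iv4 F369542) F369541 D187218 D217342 (iv4 F497594) (iv4 F497331) F497330 (iv1 F474002)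
def n219181 : Q := act 3 n190895
theorem D219181 : act 3 n190895 = n219181 := rfl
def n219182 : Q := act 4 n190895
theorem D219182 : act 4 n190895 = n219182 := rfl
theorem F497599 : act 2 n219182 = n217342 := d1_1 D219182 (iv4 F497594) (iv2 D219180)
theorem F497600 : act 3 n219182 = n215143 := d20_3 F381283 D190895 D219182 F496147 (iv3 D218908) (iv4 D190272) D190270 (iv4 F488910) F497328 (iv1 D219130)
theorem F497601 : act 5 n215141 = n219182 := d6_0 F497600 (iv5 D215143) D215141
theorem F497602 : act 6 n216934 = n219182 := d3_0 F497599 F494976 F494972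
theorem F497603 : act 1 n219182 = n218789 := d15_0 (iv0 F497443) F488801 (iv2 F497599)
def n219183 : Q := act 5 n190895
theorem D219183 : act 5 n190895 = n219183 := rfl
theorem F497604 : act 2 n219183 = n192481 := d2_1 D219183 F497596 (iv2 D219180)
theorem F497605 : act 1 n219183 = n193162 := d17_8 F469891 F469892 (iv1 F414460) (iv5 D195442) (iv4 F216759) D208557 F449883 D219183 (iv4 F438746)
theorem F497606 : act 0 n219183 = n193299 := d21_1 D219183 (iv5 F461525) F461526 F476177 F476173 (iv5 F378818) (iv1 F480094) F480091 F381356 D190895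
theorem F497607 : act 6 n192480 = n219183 := d21_5 F388739 (iv1 F400469) F400468 (iv6 F388262) (iv1 F388253) (iv5 D219183) (iv1 F449883) (iv5 D208557) (iv6 D134730) D134726
theorem F497608 : act 7 n193297 = n219183 := d15_2 (iv0 F386775) F389416 F497604
def n219184 : Q := act 6 n190895
theorem D219184 : act 6 n190895 = n219184 := rfl
theorem F497609 : act 4 n219184 = n216934 := d10_1 D219184 F497602 (iv4 D219182)
theorem F497610 : act 5 n219184 = n216902 := d12_1 D219184 (iv6 F493161) F493160 F497607 (iv5 D219183)
theorem F497611 : act 0 n219184 = n199663 := d21_4 F488646 (iv1 F497605) (iv5 D219183) D219184 F413046 (iv5 D111576) (iv1 F327521) D124300 D204742 F488650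
theorem F497612 : act 3 n199669 = n219184 := d19_19 F497611 (iv5 D199663) (iv4 F368143) (iv3 F368142) (iv1 F377144) (iv5 D189620) F145261 F69346 F294537 (iv5 F137621) D187180 F382521 (iv1 D191186) D191187 F382526 F168708 (iv1 F167991) D197718 (iv4 F413059)
theorem F497613 : act 6 n219181 = n199669 := d7_0 F497612 (iv6 D219184) D219181
theorem F497614 : act 7 n214096 = n219181 := d14_0 F497613 (iv7 F413062) F406240 F400355 D214096
def n219185 : Q := act 7 n190895
theorem D219185 : act 7 n190895 = n219185 := rfl
theorem F497615 : act 2 n219185 = n190896 := d4_1 D219185 F497593 (iv2 D219180)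
theorem F497616 : act 3 n219185 = n214096 := d8_1 D219185 F497614 (iv3 D219181)
theorem F497617 : act 5 n219185 = n193297 := d13_1 D219185 F497608 (iv5 D219183)
theorem F497618 : act 1 n190897 = n219185 := d15_1 (iv0 F497597) (iv7 D219185) D219180
theorem F497619 : act 1 n219185 = n190899 := d15_1 F497618 (iv7 D190899) D190897
theorem F497620 : act 6 n214095 = n219185 := d21_3 (iv5 F461551) F439975 D214095 (iv1 F497618) F381846 F392154 (iv1 D174584) D174586 D215465 F480118
def n219186 : Q := act 3 n190896
theorem D219186 : act 3 n190896 = n219186 := rfl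
theorem F497621 : act 4 n219186 = n193913 := d5_2 F488802 D219186 F391378 F381606 D217416
theorem F497622 : act 7 n219186 = n192484 := d8_2 (iv7 F497593) D219186 F497595
theorem F497623 : act 5 n192485 = n219186 := d13_3 F497622 (iv5 D192484) D192485
theorem F497624 : act 1 n218364 = n219186 := d15_1 (iv0 F493512) F497622 (iv2 F388291)
theorem F497625 : act 1 n219186 = n218361 := d15_1 F497624 F493498 (iv2 F493509)
def n219187 : Q := act 5 n190896
theorem D219187 : act 5 n190896 = n219187 := rfl
theorem F497626 : act 2 n219187 = n193297 := d2_1 D219187 (iv5 F497617) F497615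
theorem F497627 : act 3 n219187 = n192485 := d6_1 D219187 F497623 (iv3 D219186)
theorem F497628 : act 7 n219187 = n192481 := d13_2 (iv7 F497593) D219187 F497596
theorem F497629 : act 0 n219187 = n193162 := d18_0 (iv4 F438746) F469891 F469888 D213685 (iv4 F497326) (iv0 D219129) F381283 D190896 D219187
theorem F497630 : act 0 n193299 = n219187 := d19_0 (iv5 D219187) (iv4 F488802) (iv3 D217416) (iv1 D187300) (iv5 F147384) (iv4 F379063) (iv3 F400341) F400343 F360116 (iv4 D140624) D140623 F360114 (iv5 D107258) F163694 (iv3 F166201) (iv1 F93975) (iv5 F98663) (iv4 F216978) (iv3 F389417)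
def n219188 : Q := act 6 n190896
theorem D219188 : act 6 n190896 = n219188 := rfl
theorem F497631 : act 2 n219188 = n214095 := d3_1 D219188 F497620 F497615
theorem F497632 : act 4 n219188 = n211982 := d10_1 D219188 (iv6 F488800) F488802
theorem F497633 : act 0 n219188 = n211440 := d21_10 (iv5 D211440) (iv1 D141993) D141995 F413071 F413070 (iv6 F461526) F461525 F497630 (iv5 D219187) D219188
theorem F497634 : act 0 n210892 = n219188 := d21_4 D198576 (iv1 F452500) F452498 (iv6 F459174) (iv6 D219188) D219187 F497629 (iv5 F488646) (iv6 F488649) (iv1 D198575)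
theorem F497635 : act 5 n219188 = n214094 := d21_2 D210892 F497634 F473446 (iv1 D205445) (iv6 F436423) (iv5 F436426) F433253 F413074 (iv6 D141996) (iv1 F366181)
theorem F497636 : act 0 n214094 = n208352 := d18_0 F449046 F383151 (iv4 F394254) F394255 F425787 (iv0 F462643) F462642 (iv0 F497633) F497635
theorem F497637 : act 7 n211981 = n219188 := d11_0 F497632 (iv7 D211982) D211981
def n219189 : Q := act 4 n190898
theorem D219189 : act 4 n190898 = n219189 := rfl
theorem F497638 : act 2 n219189 = n195443 := d1_1 D219189 F397002 (iv2 F381484)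
theorem F497639 : act 3 n219189 = n192265 := d5_1 D219189 (iv4 D192265) F153880 (iv4 F293813) (iv3 F381485)
theorem F497640 : act 7 n219189 = n194741 := d11_2 F381486 D219189 F394319
theorem F497641 : act 5 n219189 = n196602 := d16_5 F495651 F488581 F381283 D190898 D219189 (iv4 F453110) (iv5 F495645) (iv7 F495647) (iv2 F495649)
theorem F497642 : act 0 n219189 = n195441 := d20_1 D219189 (iv4 F461263) (iv3 D211357) (iv1 D141887) (iv3 F224835) (iv4 F410426) F410429 (iv4 F493487) (iv3 F493491) (iv1 F449877)
theorem F497643 : act 0 n195440 = n219189 := d20_4 F401553 F342494 D210936 (iv3 F459372) F497639 (iv4 D192265) F329330 D137837 D210193 (iv1 F456514)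
def n219190 : Q := act 6 n190898
theorem D219190 : act 6 n190898 = n219190 := rfl
theorem F497644 : act 2 n219190 = n196314 := d3_1 D219190 F400299 (iv2 F381484)
theorem F497645 : act 3 n219190 = n190900 := d7_1 D219190 (iv6 D190900) (iv3 F381485)
theorem F497646 : act 5 n219190 = n196759 := d12_1 D219190 (iv6 F480092) F480091 F381356 D190898
theorem F497647 : act 7 n219190 = n196306 := d14_2 F381486 D219190 (iv6 D196306) (iv7 F216752) F365462
theorem F497648 : act 0 n219190 = n196312 := d21_4 (iv5 D219187) (iv1 D190896) D190898 D219190 F424763 (iv5 D198028) F393423 (iv5 F424043) F424044 F497630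
theorem F497649 : act 0 n196311 = n219190 := d21_4 (iv5 F492964) (iv1 D218250) (iv5 F384825) F400296 (iv6 D219190) (iv5 D190898) D190895 D219183 (iv6 F497607) (iv1 F388261)
def n219191 : Q := act 6 n190899
theorem D219191 : act 6 n190899 = n219191 := rfl
theorem F497650 : act 2 n219191 = n214941 := d3_1 D219191 F477560 F449879
theorem F497651 : act 3 n219191 = n190901 := d7_1 D219191 (iv6 D190901) (iv3 F381487)
theorem F497652 : act 1 n219191 = n218778 := d15_0 (iv0 F495618) (iv7 F477561) (iv2 F497650)
def n219192 : Q := act 0 n190901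
theorem D219192 : act 0 n190901 = n219192 := rfl
theorem F497653 : act 5 n219192 = n197918 := d17_1 D219192 (iv1 D197918) D197919 (iv4 F489010) (iv5 D217466) D217465 (iv5 F489005) (iv0 D190902) (iv4 F381497)
theorem F497654 : act 4 n219192 = n191032 := d18_3 (iv1 D190903) (iv4 F381497) D219192 (iv5 F489023) (iv4 D217469) F369893 (iv4 F478545) F488989 F488988
theorem F497655 : act 6 n219192 = n214638 := d21_5 (iv5 F360803) F156180 F293014 D190901 D219192 F476166 (iv1 D163950) (iv5 F198785) F369634 (iv1 D187250)
theorem F497656 : act 1 n214939 = n219192 := d15_0 (iv0 D219192) (iv7 F497431) F497428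
theorem F497657 : act 2 n218863 = n219192 := d3_3 F497655 (iv2 F476167) (iv6 F495961)
theorem F497658 : act 7 n218864 = n219192 := d15_2 (iv0 D218863) D218864 (iv2 F497657)
def n219193 : Q := act 1 n190901
theorem D219193 : act 1 n190901 = n219193 := rfl
theorem F497659 : act 1 n219193 = n214939 := d15_1 D219193 F477549 (iv2 F381496)
theorem F497660 : act 7 n219193 = n218863 := d15_2 (iv0 D219192) D219193 F497657
theorem F497661 : act 4 n219193 = n191033 := d18_7 (iv1 F369845) (iv4 F381970) F381971 F369545 (iv5 F149640) (iv4 F381497) D219193 F381940 F379322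
theorem F497662 : act 6 n218832 = n219193 := d21_3 F495904 (iv1 F402436) (iv5 F495837) (iv1 D219193) (iv6 D190901) (iv5 F293014) (iv1 F156186) F360808 D190204 F495903
theorem F497663 : act 3 n219193 = n218833 := d7_1 F497662 (iv6 D218833) D218832
theorem F497664 : act 5 n219193 = n197917 := d12_1 F497662 F406804 (iv5 D194545) D194546 (iv5 F495837)
theorem F497665 : act 2 n218864 = n219193 := d1_3 F497661 F440255 (iv4 F495962)
def n219194 : Q := act 5 n190901
theorem D219194 : act 5 n190901 = n219194 := rfl
theorem F497666 : act 2 n219194 = n196325 := d2_1 D219194 F400339 (iv2 F381496)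
theorem F497667 : act 4 n219194 = n199624 := d9_1 D219194 F412898 F401016 D211754 (iv4 F462967) (iv5 F379011) F477550 F477548 F440371 (iv5 F402455) (iv4 F488528) (iv5 D217340) F369545 (iv5 F149640) (iv4 F381497)
theorem F497668 : act 6 n219194 = n194745 := d12_2 D190901 D219194 (iv5 D194745) (iv6 D104280) F293014
theorem F497669 : act 7 n219194 = n213272 := d13_2 F497431 D219194 (iv5 F497430)
def n219195 : Q := act 3 n190902
theorem D219195 : act 3 n190902 = n219195 := rfl
theorem F497670 : act 5 n219195 = n215696 := d6_2 (iv5 F489005) D219195 (iv3 F489003)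
theorem F497671 : act 7 n219195 = n218868 := d8_2 F488997 D219195 (iv3 D218868)
theorem F497672 : act 4 n219195 = n218784 := d20_6 F488910 (iv1 F492279) F492275 F381290 D190902 D219195 (iv1 D218784) (iv4 F495539) (iv3 D218762) (iv1 F488909)
theorem F497673 : act 6 n215699 = n219195 := d10_0 F497672 (iv6 F495639) (iv4 F495327)
theorem F497674 : act 0 n218840 = n219195 := d21_4 (iv5 D190864) (iv1 F149594) D190171 D218840 (iv6 F497673) (iv5 D215699) D215697 (iv5 F495867) (iv6 D218841) (iv1 F381376)
def n219196 : Q := act 6 n190902
theorem D219196 : act 6 n190902 = n219196 := rfl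
theorem F497675 : act 2 n219196 = n218867 := d3_1 D219196 (iv6 D218867) F488995
theorem F497676 : act 3 n219196 = n215699 := d7_1 D219196 F497673 (iv3 D219195)
theorem F497677 : act 4 n219196 = n199753 := d10_1 D219196 (iv6 F496282) F496281
theorem F497678 : act 5 n219196 = n215695 := d12_1 D219196 (iv6 D215695) D215694 F489002 (iv5 F489005)
theorem F497679 : act 7 n218992 = n219196 := d13_0 F497678 F481153 D218992
theorem F497680 : act 1 n214639 = n219196 := d18_8 (iv1 F481155) (iv4 F378555) F418569 F418567 D218732 F495372 (iv0 D214637) D214639 F497678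
def n219197 : Q := act 6 n190903
theorem D219197 : act 6 n190903 = n219197 := rfl
theorem F497681 : act 2 n219197 = n218870 := d3_1 D219197 (iv6 D218870) (iv2 F488996)
theorem F497682 : act 3 n219197 = n217409 := d7_1 D219197 F488790 F488791
theorem F497683 : act 0 n215496 = n219197 := d20_4 D211841 F480028 F480026 (iv3 F480225) F497682 F488775 F480210 D217079 F487307 (iv1 D211840)
def n219198 : Q := act 3 n190904
theorem D219198 : act 3 n190904 = n219198 := rfl
theorem F497684 : act 4 n219198 = n190906 := d5_2 D190904 D219198 (iv3 D190906) (iv4 D97018) (iv3 F149642)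
theorem F497685 : act 7 n219198 = n218871 := d8_2 (iv7 F381501) D219198 (iv3 D218871)
theorem F497686 : act 0 n219198 = n205688 := d19_4 (iv1 F289534) D97017 D190904 D219198 (iv5 D205688) (iv4 F332604) F332603 F101902 (iv5 F328385) F316453 D145909 (iv1 F356479) F227827 (iv4 F329754) (iv3 F156936) (iv1 F289946) (iv5 D89095) (iv4 F136808) F136807
def n219199 : Q := act 5 n190904
theorem D219199 : act 5 n190904 = n219199 := rfl
theorem F497687 : act 2 n219199 = n217355 := d2_1 D219199 (iv5 D217355) (iv2 F381500)
theorem F497688 : act 7 n219199 = n218872 := d13_2 (iv7 F381501) D219199 (iv5 D218872)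
theorem F497689 : act 4 n219199 = n217429 := d16_2 D190904 D219199 (iv5 D217429) (iv4 D187307) (iv5 D89889) F64806 D89889 F137995 (iv2 F149641)
def n219200 : Q := act 6 n190904
theorem D219200 : act 6 n190904 = n219200 := rfl
theorem F497690 : act 2 n219200 = n210299 := d3_1 D219200 (iv6 F456911) (iv2 F381500)
theorem F497691 : act 4 n219200 = n190905 := d10_1 D219200 (iv6 D190905) D190904
theorem F497692 : act 7 n210307 = n219200 := d11_0 F497691 (iv7 F492116) F492115
theorem F497693 : act 5 n209292 = n219200 := d16_1 D209292 F497691 F381504 (iv4 F302179) F359632 F208747 D134379 F333885 (iv2 F359619)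
theorem F497694 : act 0 n206827 = n219200 := d18_0 F497691 (iv1 F429960) (iv4 F454312) (iv5 D209604) F219816 F218655 (iv4 F442331) (iv0 D206825) D206827
def n219201 : Q := act 1 n190905
theorem D219201 : act 1 n190905 = n219201 := rfl
theorem F497695 : act 1 n219201 = n214892 := d15_1 D219201 F477306 (iv2 F381502)
theorem F497696 : act 7 n219201 = n210292 := d15_2 F429960 D219201 F456883
theorem F497697 : act 5 n219201 = n194977 := d17_7 F402898 D205465 F436566 (iv5 F359632) F302179 (iv5 F381504) D219201 (iv0 F395275) (iv4 F402897)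
theorem F497698 : act 3 n215226 = n219201 := d19_19 (iv1 D219201) F381504 (iv4 F302179) (iv3 D163350) (iv1 F302175) (iv5 F336603) (iv4 F445169) F445168 F441549 (iv5 D196113) F164300 F98714 D63402 (iv5 F216316) (iv4 F424155) (iv3 F492887) F492890 D218291 F493136
theorem F497699 : act 2 n219201 = n209613 := d0_1 F497698 F454331 F248950 (iv3 F268328) (iv2 F478957)
theorem F497700 : act 6 n219201 = n207874 := d7_2 F480160 F497698 (iv3 F480159)
theorem F497701 : act 4 n207714 = n219201 := d19_2 (iv1 D207713) D207714 (iv3 F497698) (iv1 F480173) F480175 (iv4 F476391) (iv3 D198526) (iv1 F172625) (iv5 F367466) (iv4 D186621) (iv3 F367464) D216998 F486910 (iv4 D187468) (iv3 F287947) (iv1 F370943) (iv5 F367975) D217104 F487439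
def n219202 : Q := act 2 n190906
theorem D219202 : act 2 n190906 = n219202 := rfl
theorem F497702 : act 3 n219202 = n211451 := d0_2 D190906 D219202 F461587 F360805 (iv2 F149644)
theorem F497703 : act 5 n219202 = n211450 := d2_2 (iv5 F381505) D219202 F461581
theorem F497704 : act 7 n219202 = n211455 := d4_2 (iv7 F381506) D219202 F461611
theorem F497705 : act 1 n219202 = n218877 := d15_0 (iv0 D218877) (iv7 F381506) D219202
theorem F497706 : act 1 n218878 = n219202 := d15_0 F497705 (iv7 F496000) F496003
def n219203 : Q := act 6 n190906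
theorem D219203 : act 6 n190906 = n219203 := rfl
theorem F497707 : act 3 n219203 = n190907 := d7_1 D219203 (iv6 D190907) D190906
def n219204 : Q := act 7 n190911
theorem D219204 : act 7 n190911 = n219204 := rfl
theorem F497708 : act 2 n219204 = n193198 := d4_1 D219204 (iv7 F389148) (iv2 F381526)
theorem F497709 : act 3 n219204 = n202597 := d8_1 D219204 (iv7 F462233) F462230
theorem F497710 : act 5 n219204 = n193134 := d13_1 D219204 (iv7 D193134) (iv5 F381527)
theorem F497711 : act 6 n219204 = n193233 := d14_1 D219204 (iv7 D193233) (iv6 D101386) (iv7 F292259) D190911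
theorem F497712 : act 1 n193200 = n219204 := d15_1 F389156 (iv7 D219204) F381526
theorem F497713 : act 1 n219204 = n193140 := d15_1 F497712 (iv7 F493626) F493624
def n219205 : Q := act 1 n190913
theorem D219205 : act 1 n190913 = n219205 := rfl
theorem F497714 : act 1 n219205 = n194733 := d15_1 D219205 (iv7 D194733) (iv2 F381534)
theorem F497715 : act 7 n219205 = n194731 := d15_2 (iv0 F470919) D219205 (iv2 F470915)
theorem F497716 : act 5 n219205 = n211183 := d17_7 (iv1 F345789) (iv5 D162814) (iv1 F193076) (iv5 F336608) F336607 (iv5 F381535) D219205 (iv0 D211183) F324987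
theorem F497717 : act 3 n209270 = n219205 := d19_19 (iv1 D219205) F381535 (iv4 F336607) F336606 (iv1 F341638) (iv5 D166646) (iv4 F327957) F202971 (iv1 F93370) D113357 F328360 (iv3 F415198) (iv1 F415201) (iv5 D125545) F92914 (iv3 F92907) (iv1 F169722) D198665 (iv4 F452982)
theorem F497718 : act 4 n211439 = n219205 := d20_0 (iv1 D219205) (iv4 F389277) F464582 (iv1 D212166) F228449 D145428 (iv1 F464526) (iv4 D212154) D212153 F464521
theorem F497719 : act 2 n219205 = n194732 := d1_1 F497718 F445469 F461542
theorem F497720 : act 6 n219205 = n210074 := d10_2 F482027 F497718 (iv4 F482025)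
def n219206 : Q := act 7 n190913
theorem D219206 : act 7 n190913 = n219206 := rfl
theorem F497721 : act 2 n219206 = n194733 := d4_1 D219206 (iv7 D194733) (iv2 F381534)
theorem F497722 : act 3 n219206 = n193457 := d8_1 D219206 F389902 (iv3 F383169)
theorem F497723 : act 5 n219206 = n194706 := d13_1 D219206 (iv7 D194706) (iv5 F381535)
theorem F497724 : act 6 n219206 = n194730 := d14_1 D219206 (iv7 D194730) (iv6 D104243) F292168 D190913
theorem F497725 : act 1 n194732 = n219206 := d15_1 D194732 (iv7 D219206) F381534
theorem F497726 : act 1 n219206 = n194731 := d15_1 F497725 (iv7 F497715) F497719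
def n219207 : Q := act 4 n190918
theorem D219207 : act 4 n190918 = n219207 := rfl
theorem F497727 : act 2 n219207 = n218822 := d1_1 D219207 (iv4 D218822) (iv2 F381547)
theorem F497728 : act 3 n219207 = n197478 := d5_1 D219207 (iv4 F455825) (iv3 F488722) (iv4 F497346) F497345
theorem F497729 : act 5 n219207 = n202828 := d9_2 D190918 D219207 F425756 F391024 F391016 (iv5 F381328) (iv4 D190850) D190851 D219140 F497386 F425745 F391020 F391019 F391025 (iv4 D190917)
theorem F497730 : act 7 n219207 = n202827 := d11_2 F487779 D219207 F487781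
theorem F497731 : act 0 n219207 = n200399 := d17_0 (iv5 D200399) F391893 (iv5 F478476) F478475 F378992 F369059 (iv5 F487784) F487786 D219207
theorem F497732 : act 1 n219207 = n217270 := d18_6 F381788 F367871 F381545 (iv4 D190917) D190918 D219207 (iv4 D217270) D217269 (iv5 F488204)
def n219208 : Q := act 3 n190923
theorem D219208 : act 3 n190923 = n219208 := rfl
theorem F497733 : act 2 n219208 = n211854 := d0_1 D219208 F463279 (iv2 F425785) F425786 (iv2 F381559)
theorem F497734 : act 5 n219208 = n193678 := d6_2 (iv5 F381560) D219208 (iv3 D193678)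
theorem F497735 : act 0 n211756 = n219208 := d20_4 (iv4 D190073) (iv1 F149732) (iv4 F381612) (iv3 F462973) (iv3 D219208) (iv4 D190923) F369740 (iv4 F381972) (iv3 D191046) (iv1 F378776)
theorem F497736 : act 6 n219208 = n208197 := d21_5 (iv5 D67527) (iv1 F169268) D144067 D211756 F497735 (iv5 D208197) F376680 D197471 F404475 F167333
def n219209 : Q := act 6 n190923
theorem D219209 : act 6 n190923 = n219209 := rfl
theorem F497737 : act 2 n219209 = n214889 := d3_1 D219209 F477292 (iv2 F381559)
theorem F497738 : act 3 n219209 = n208197 := d7_1 D219209 (iv6 F497736) (iv3 D219208)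
theorem F497739 : act 4 n219209 = n190924 := d10_1 D219209 (iv6 D190924) D190923
theorem F497740 : act 5 n219209 = n208196 := d12_1 D219209 F448309 (iv5 D137133) (iv6 F365508) (iv5 F381560)
theorem F497741 : act 0 n219209 = n214293 := d21_4 (iv5 D102251) (iv1 F381561) (iv5 F381560) D219209 (iv6 D214293) (iv5 D158015) F112859 D77187 D160847 F369053
theorem F497742 : act 7 n214888 = n219209 := d11_0 F497739 (iv7 F443893) D214888
def n219210 : Q := act 3 n190925
theorem D219210 : act 3 n190925 = n219210 := rfl
theorem F497743 : act 5 n219210 = n193673 := d6_2 (iv5 F383642) D219210 (iv3 D193673)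
theorem F497744 : act 7 n219210 = n219197 := d8_2 (iv7 F488778) D219210 F497682
theorem F497745 : act 1 n219172 = n219210 := d15_1 (iv0 F497558) F497744 F497681
def n219211 : Q := act 3 n190926
theorem D219211 : act 3 n190926 = n219211 := rfl
theorem F497746 : act 5 n219211 = n193675 := d6_2 (iv5 F381566) D219211 (iv3 D193675)
def n219212 : Q := act 6 n190926
theorem D219212 : act 6 n190926 = n219212 := rfl
theorem F497747 : act 2 n219212 = n217412 := d3_1 D219212 (iv6 F488790) (iv2 F488777)
theorem F497748 : act 4 n219212 = n215478 := d10_1 D219212 (iv6 F488884) F488886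
theorem F497749 : act 7 n219212 = n217411 := d14_2 F488780 D219212 (iv6 F488787) F477290 F488783
theorem F497750 : act 0 n219212 = n191042 := d21_4 F476624 (iv1 F385774) (iv5 F381566) D219212 F381960 (iv5 D187293) (iv1 F137981) D97002 D190875 (iv1 F476622)
theorem F497751 : act 5 n219212 = n214816 := d21_6 (iv5 F394650) (iv1 D194832) F160330 (iv6 F381973) (iv1 F381976) D219212 (iv1 F480298) F480295 F476645 (iv1 F476494)
theorem F497752 : act 0 n217413 = n219212 := d21_4 (iv5 D190139) F366340 (iv5 F381556) (iv6 F488793) (iv6 D219212) F381566 (iv1 D102218) D102219 (iv6 F368523) F394657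
def n219213 : Q := act 1 n190928
theorem D219213 : act 1 n190928 = n219213 := rfl
theorem F497753 : act 1 n219213 = n215524 := d15_1 D219213 F480324 (iv2 F381571)
theorem F497754 : act 7 n219213 = n215525 := d15_2 (iv0 F497376) D219213 (iv2 F497372)
theorem F497755 : act 5 n219213 = n217265 := d17_7 D187077 D217267 F488196 (iv5 D213758) (iv4 F361109) D190928 D219213 (iv0 D217265) F369044
theorem F497756 : act 4 n219213 = n193267 := d18_7 F388932 F388927 (iv1 F401670) F401668 F348949 F381575 D219213 (iv0 F461342) (iv5 D211380)
theorem F497757 : act 3 n194350 = n219213 := d19_19 (iv1 D219213) (iv5 D190928) F361109 (iv3 D155493) (iv1 F244494) F372337 F372336 F139792 D90818 (iv5 F251152) (iv4 F335755) D193593 (iv1 F390389) (iv5 F385440) F385439 F159062 (iv1 D103240) D103241 D194350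
theorem F497758 : act 2 n219213 = n215526 := d0_1 F497757 F480329 F381310 (iv3 F477862) F477861
theorem F497759 : act 6 n219213 = n218803 := d7_2 (iv6 F497261) F497757 (iv3 F497264)
def n219214 : Q := act 4 n190930
theorem D219214 : act 4 n190930 = n219214 := rfl
theorem F497760 : act 7 n219214 = n218776 := d11_2 (iv7 F381583) D219214 (iv4 D218776)
theorem F497761 : act 1 n219214 = n214648 := d18_6 F361972 F348928 (iv1 D132609) (iv4 F348931) D190930 D219214 F496187 F496188 (iv5 D210020)
def n219215 : Q := act 4 n190934
theorem D219215 : act 4 n190934 = n219215 := rfl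
theorem F497762 : act 2 n219215 = n218813 := d1_1 D219215 (iv4 D218813) (iv2 F381604)
theorem F497763 : act 3 n219215 = n219188 := d5_1 D219215 F497632 F463823 F379184 D190934
theorem F497764 : act 6 n219215 = n219186 := d10_2 F391379 D219215 F497621
theorem F497765 : act 7 n219215 = n218781 := d11_2 (iv7 F381601) D219215 (iv4 D218781)
def n219216 : Q := act 2 n190936
theorem D219216 : act 2 n190936 = n219216 := rfl
theorem F497766 : act 3 n219216 = n218691 := d0_2 D190936 D219216 F495176 (iv3 D190075) (iv2 F361124)
theorem F497767 : act 5 n219216 = n218677 := d2_2 (iv5 F381608) D219216 F495103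
theorem F497768 : act 7 n219216 = n218777 := d4_2 (iv7 F381609) D219216 (iv2 D218777)
theorem F497769 : act 1 n219216 = n218773 := d15_0 (iv0 F495597) (iv7 F381609) D219216
theorem F497770 : act 1 n216381 = n219216 := d15_0 F497769 F495596 (iv2 F484107)
def n219217 : Q := act 4 n190936
theorem D219217 : act 4 n190936 = n219217 := rfl
theorem F497771 : act 6 n219217 = n214642 := d10_2 F478536 D219217 (iv4 F478538)
theorem F497772 : act 7 n219217 = n218778 := d11_2 (iv7 F381609) D219217 (iv4 D218778)
theorem F497773 : act 0 n214941 = n219217 := d20_7 D97067 (iv1 F366331) (iv4 F366330) F353133 (iv1 F149869) (iv3 F381799) (iv4 F477558) (iv4 D219217) (iv3 D190936) (iv1 D97066)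
def n219218 : Q := act 0 n190937
theorem D219218 : act 0 n190937 = n219218 := rfl
theorem F497774 : act 3 n219218 = n217407 := d20_5 F379190 (iv1 D97066) D97067 D190937 D219218 (iv4 D217407) (iv1 F369743) D190916 (iv3 F381979) (iv1 F381982)
theorem F497775 : act 4 n219218 = n218893 := d20_8 (iv4 D95759) D95757 D190236 (iv3 F379156) F391528 (iv3 F462876) F462878 D219218 (iv3 D218893) (iv1 D190242)
theorem F497776 : act 6 n219133 = n219218 := d10_0 F497775 F496075 (iv4 F497342)
theorem F497777 : act 7 n219208 = n219218 := d8_0 F497774 F488767 D219208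
def n219219 : Q := act 2 n190937
theorem D219219 : act 2 n190937 = n219219 := rfl
theorem F497778 : act 3 n219219 = n218785 := d0_2 D190937 D219219 (iv2 D218785) (iv3 D190079) (iv2 F149726)
theorem F497779 : act 5 n219219 = n212178 := d2_2 F440316 D219219 F464628
theorem F497780 : act 6 n219219 = n190955 := d3_2 (iv6 F381610) D219219 (iv2 D190955)
theorem F497781 : act 1 n219219 = n219208 := d15_0 (iv0 F497735) F462974 D219219
def n219220 : Q := act 4 n190940
theorem D219220 : act 4 n190940 = n219220 := rfl
theorem F497782 : act 2 n219220 = n218788 := d1_1 D219220 (iv4 D218788) (iv2 F381621)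
theorem F497783 : act 7 n219220 = n216382 := d11_2 (iv7 F381623) D219220 (iv4 D216382)
theorem F497784 : act 0 n219220 = n190998 := d17_0 F483138 (iv1 D145299) D145300 (iv4 F400067) F378815 (iv0 D185469) (iv5 F149765) (iv0 F381624) D219220
theorem F497785 : act 1 n219220 = n190995 := d18_6 D45393 D97115 F368905 F368904 D190940 D219220 (iv4 D190995) (iv0 D97123) (iv5 D45395)
def n219221 : Q := act 6 n190940
theorem D219221 : act 6 n190940 = n219221 := rfl
theorem F497786 : act 2 n219221 = n218789 := d3_1 D219221 (iv6 D218789) (iv2 F381621)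
theorem F497787 : act 3 n219221 = n218840 := d7_1 D219221 (iv6 D218840) (iv3 F381622)
theorem F497788 : act 5 n219221 = n218840 := d12_1 D219221 (iv6 D218840) (iv5 D190171) (iv6 F367273) D190940
theorem F497789 : act 0 n219221 = n217342 := d21_4 (iv5 D190084) (iv1 F149745) D190940 D219221 F494976 (iv5 D218652) (iv1 D189764) D189765 F394961 (iv1 F381639)
def n219222 : Q := act 6 n190941
theorem D219222 : act 6 n190941 = n219222 := rfl
theorem F497790 : act 2 n219222 = n190945 := d3_1 D219222 (iv6 D190945) (iv2 F381626)
theorem F497791 : act 3 n219222 = n218797 := d7_1 D219222 (iv6 D218797) (iv3 F381627)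
theorem F497792 : act 4 n219222 = n211336 := d10_1 D219222 (iv6 F480104) F480103
theorem F497793 : act 5 n219222 = n203268 := d12_1 D219222 (iv6 D203268) (iv5 F381635) (iv6 D190942) D190941
theorem F497794 : act 7 n211444 = n219222 := d13_0 F497793 (iv7 F461777) (iv5 F461780)
def n219223 : Q := act 6 n190944
theorem D219223 : act 6 n190944 = n219223 := rfl
theorem F497795 : act 2 n219223 = n218792 := d3_1 D219223 (iv6 D218792) (iv2 F381642)
theorem F497796 : act 3 n219223 = n211969 := d7_1 D219223 F463778 (iv3 F381643)
theorem F497797 : act 5 n219223 = n213777 := d12_1 D219223 (iv6 D213777) F358499 D184202 F381641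
theorem F497798 : act 0 n214652 = n219223 := d21_4 F476353 (iv1 F474756) F474753 D214652 (iv6 D219223) (iv5 F381641) F381204 F160403 D190104 (iv1 F476356)
def n219224 : Q := act 5 n190947
theorem D219224 : act 5 n190947 = n219224 := rfl
theorem F497799 : act 2 n219224 = n211066 := d2_1 D219224 F459973 (iv2 F381657)
theorem F497800 : act 3 n219224 = n214141 := d6_1 D219224 (iv5 F477530) F477528
theorem F497801 : act 4 n219224 = n201604 := d9_1 D219224 (iv5 D201604) (iv4 F363409) (iv5 D101968) (iv4 F148323) (iv5 F378864) D218806 F495730 (iv4 F449982) (iv5 D186964) (iv4 D89424) (iv5 F74570) (iv4 F156947) F156948 D190947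
theorem F497802 : act 6 n219224 = n214276 := d12_2 (iv6 F477512) D219224 (iv5 D214276) F366928 D214933
theorem F497803 : act 7 n219224 = n218807 := d13_2 (iv7 F381658) D219224 (iv5 D218807)
theorem F497804 : act 1 n219224 = n217802 := d17_6 (iv1 F378844) F378846 F158630 F156948 D190947 D219224 (iv5 F495713) F495711 (iv4 D190128)
def n219225 : Q := act 1 n190948
theorem D219225 : act 1 n190948 = n219225 := rfl
theorem F497805 : act 1 n219225 = n214812 := d15_1 D219225 F476969 (iv2 F381659)
theorem F497806 : act 7 n219225 = n218817 := d15_2 F497524 D219225 (iv2 F497521)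
theorem F497807 : act 5 n219225 = n211733 := d17_7 (iv1 F494388) (iv5 D189467) (iv1 D93977) D93979 D189474 (iv5 F381661) D219225 (iv0 F474760) (iv4 F494385)
theorem F497808 : act 6 n215660 = n219225 := d21_3 F273558 (iv1 F276112) D215660 (iv1 D219225) (iv6 D190948) (iv5 F156948) (iv1 F158646) (iv5 F378840) F433370 F433367
theorem F497809 : act 2 n219225 = n218818 := d3_1 F497808 (iv6 F495792) (iv2 F481001)
theorem F497810 : act 4 n219225 = n215294 := d10_1 F497808 F479262 (iv4 F481002)
theorem F497811 : act 3 n219225 = n211734 := d19_3 (iv1 F412236) D215294 (iv4 F497810) F497185 F497182 (iv4 F463340) F463339 (iv1 F380954) (iv5 F414783) (iv4 F414787) F477242 F477240 (iv5 D191198) F358965 (iv3 F476745) (iv1 F476749) (iv5 F429416) (iv4 D203687) (iv3 F429419)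
def n219226 : Q := act 3 n190949
theorem D219226 : act 3 n190949 = n219226 := rfl
theorem F497812 : act 2 n219226 = n214864 := d0_1 D219226 F477188 F257518 (iv3 F257596) (iv2 F381666)
theorem F497813 : act 4 n219226 = n198511 := d5_2 (iv4 F381664) D219226 F408176 D198513 F408182
theorem F497814 : act 5 n219226 = n211723 := d6_2 F383031 D219226 (iv3 F462861)
theorem F497815 : act 6 n219226 = n214862 := d7_2 (iv6 F381662) D219226 F477185
theorem F497816 : act 7 n219226 = n218766 := d8_2 F381665 D219226 (iv3 F495556)
theorem F497817 : act 0 n219226 = n207232 := d19_4 F462785 F379216 (iv4 F381664) D219226 (iv5 D207232) F365044 (iv3 F369287) (iv1 F369290) (iv5 F176983) F366056 (iv3 F214234) (iv1 F214237) D133278 (iv4 F441138) F441137 (iv1 F282840) (iv5 F382451) (iv4 F492057) (iv3 F492058)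
theorem F497818 : act 1 n219226 = n207230 := d15_1 (iv0 F497817) (iv7 F447815) F447814
def n219227 : Q := act 6 n190950
theorem D219227 : act 6 n190950 = n219227 := rfl
theorem F497819 : act 2 n219227 = n218805 := d3_1 D219227 (iv6 D218805) F381672
theorem F497820 : act 3 n219227 = n203874 := d7_1 D219227 F430185 F381673
theorem F497821 : act 4 n219227 = n214756 := d10_1 D219227 (iv6 F476669) (iv4 F381671)
theorem F497822 : act 5 n219227 = n215657 := d12_1 D219227 (iv6 F496567) (iv5 D218990) F383029 F383026
theorem F497823 : act 7 n219227 = n203869 := d14_2 (iv7 F381670) D219227 (iv6 D203869) F193205 D163281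
theorem F497824 : act 0 n219227 = n215136 := d21_4 (iv5 D191320) D191318 F383026 D219227 F478542 F379191 (iv1 D133371) D133372 (iv6 F447796) F447797
theorem F497825 : act 0 n215134 = n219227 := d21_4 D217384 F488671 (iv5 D217343) (iv6 F478532) (iv6 D219227) (iv5 F383026) (iv1 F383028) D218485 F494126 (iv1 F478548)
def n219228 : Q := act 6 n190953
theorem D219228 : act 6 n190953 = n219228 := rfl
theorem F497826 : act 2 n219228 = n211846 := d3_1 D219228 F463248 F381681
theorem F497827 : act 3 n219228 = n218114 := d7_1 D219228 F492199 F480201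
theorem F497828 : act 4 n219228 = n202818 := d10_1 D219228 F425715 (iv4 F381680)
theorem F497829 : act 7 n219228 = n191039 := d14_2 F473994 D219228 (iv6 D191039) F369830 (iv6 F473997)
theorem F497830 : act 5 n218953 = n219228 := d21_2 F463184 D218953 (iv6 D219228) F462981 (iv6 D211757) (iv5 D144069) F103387 D67527 (iv6 F226845) D211818
theorem F497831 : act 0 n218901 = n219228 := d21_4 (iv5 D214867) (iv1 F257542) D214726 (iv6 F496110) (iv6 D219228) (iv5 F394887) (iv1 F394892) F394890 (iv6 F409041) (iv1 F477206)
theorem E104046 : n218953 = n211874 := (c21_3 (iv5 F496109) F497831 (iv5 F497830) F496348 (iv1 D218950) F486524 (iv5 F486526) F497318 F497315 F425718 (iv1 F425762))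
theorem F497832 : act 1 n211874 = n190359 := (sb E104046 (iv0 D218953))
theorem F497833 : act 5 n211874 = n219228 := (sb E104046 F497830)
def n219229 : Q := act 5 n190963
theorem D219229 : act 5 n190963 = n219229 := rfl
theorem F497834 : act 2 n219229 = n218882 := d2_1 D219229 (iv5 D218882) (iv2 F381727)
theorem F497835 : act 6 n219229 = n211778 := d12_2 (iv6 F381728) D219229 (iv5 D211778) F365083 (iv5 F211372)
def n219230 : Q := act 0 n190964
theorem D219230 : act 0 n190964 = n219230 := rfl
theorem F497836 : act 3 n219230 = n214734 := d20_5 D218761 F495536 (iv4 D218130) (iv3 F381730) D219230 F476587 (iv1 F478485) (iv4 F478520) (iv3 F478523) (iv1 F475779)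
theorem F497837 : act 5 n219230 = n217174 := d21_2 D190964 D219230 F487788 (iv1 D190339) (iv6 D95909) D95908 F361784 (iv5 F393606) F393609 (iv1 F361974)
theorem F497838 : act 2 n190980 = n219230 := d15_3 (iv0 D219230) (iv0 F477966) F477965
theorem F497839 : act 7 n219230 = n190981 := d4_2 F477965 F497838 (iv2 F477963)
theorem F497840 : act 1 n190983 = n219230 := d15_1 (iv0 F477967) F497839 (iv2 F477963)
def n219231 : Q := act 4 n190964
theorem D219231 : act 4 n190964 = n219231 := rfl
theorem F497841 : act 2 n219231 = n190982 := d1_1 D219231 (iv4 D190982) (iv2 F381729)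
theorem F497842 : act 3 n219231 = n219148 := d5_1 D219231 F497429 F492272 (iv4 D218130) (iv3 F381730)
theorem F497843 : act 6 n219231 = n190971 := d10_2 (iv6 F381731) D219231 (iv4 D190971)
theorem F497844 : act 0 n219231 = n211423 := d18_2 F477966 D219231 F495616 F495613 F488180 (iv0 F442188) (iv4 F482390) (iv0 F482392) (iv5 F477964)
theorem F497845 : act 1 n219231 = n219217 := d18_6 (iv1 F361148) F348931 (iv1 F348930) (iv4 F149812) D190964 D219231 (iv4 D219217) (iv0 F408331) (iv5 D198552)
theorem F497846 : act 7 n219231 = n219191 := d15_2 (iv0 F477562) (iv0 F497844) F497650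
def n219232 : Q := act 7 n190964
theorem D219232 : act 7 n190964 = n219232 := rfl
theorem F497847 : act 2 n219232 = n190983 := d4_1 D219232 (iv7 D190983) (iv2 F381729)
theorem F497848 : act 3 n219232 = n218131 := d8_1 D219232 (iv7 D218131) (iv3 F381730)
theorem F497849 : act 4 n219232 = n219191 := d11_1 D219232 (iv7 F497846) (iv4 D219231)
theorem F497850 : act 5 n219232 = n190965 := d13_1 D219232 (iv7 D190965) D190964
theorem F497851 : act 6 n219232 = n219131 := d14_1 D219232 (iv7 D219131) F381773 (iv7 D190972) (iv6 F381731)
theorem F497852 : act 1 n190981 = n219232 := d15_1 D190981 (iv7 D219232) F381729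
theorem F497853 : act 1 n219232 = n190980 := d15_1 F497852 (iv7 F477965) F477963
def n219233 : Q := act 5 n190967
theorem D219233 : act 5 n190967 = n219233 := rfl
theorem F497854 : act 2 n219233 = n190991 := d2_1 D219233 (iv5 D190991) (iv2 F381743)
theorem F497855 : act 3 n219233 = n214541 := d6_1 D219233 (iv5 D214541) (iv3 F381744)
theorem F497856 : act 6 n219233 = n209710 := d12_2 (iv6 F381745) D219233 F454704 F418959 (iv5 F379627)
theorem F497857 : act 7 n219233 = n190984 := d13_2 (iv7 F381746) D219233 (iv5 D190984)
theorem F497858 : act 0 n219233 = n210655 := d17_2 F381748 D219233 F458352 F391179 F380581 (iv0 F381630) (iv5 D190941) F149744 D190082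
theorem F497859 : act 1 n219233 = n192867 := d17_6 F381836 (iv5 F369603) F381752 (iv5 D190968) D190967 D219233 (iv5 D192867) (iv0 F388065) F382841
theorem F497860 : act 4 n219233 = n209762 := d18_5 (iv1 F151748) F72596 (iv1 F149813) D190967 D219233 F486010 (iv4 D192433) (iv0 F383433) (iv5 D191418)
def n219234 : Q := act 4 n190969
theorem D219234 : act 4 n190969 = n219234 := rfl
theorem F497861 : act 2 n219234 = n190995 := d1_1 D219234 (iv4 D190995) F381754
theorem F497862 : act 7 n219234 = n190998 := d11_2 F381756 D219234 (iv4 D190998)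
theorem F497863 : act 5 n219234 = n212067 := d17_5 D190986 F381804 (iv1 F366989) (iv5 F381753) D219234 (iv0 D212067) D212069 F464225 (iv4 D190987)
theorem F497864 : act 0 n219234 = n218788 := d18_2 D190969 D219234 (iv4 D218788) (iv5 D190083) D190082 (iv0 F378809) F288480 (iv0 D97099) D97101
theorem F497865 : act 1 n219234 = n216382 := d18_6 F381645 (iv4 F385217) F394352 (iv4 D194752) (iv5 F381753) D219234 (iv4 D216382) F381678 F381675
theorem F497866 : act 6 n214672 = n219234 := d12_0 F497863 F464216 (iv5 F400567) (iv6 F364753) (iv5 F476328)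
def n219235 : Q := act 6 n190969
theorem D219235 : act 6 n190969 = n219235 := rfl
theorem F497867 : act 2 n219235 = n190996 := d3_1 D219235 (iv6 D190996) F381754
theorem F497868 : act 3 n219235 = n215717 := d7_1 D219235 F496975 (iv3 F496974)
theorem F497869 : act 4 n219235 = n214672 := d10_1 D219235 F497866 (iv4 D219234)
theorem F497870 : act 5 n219235 = n191149 := d12_1 D219235 (iv6 D191149) F294039 (iv6 F370218) (iv5 F381753)
theorem F497871 : act 0 n219235 = n194760 := d21_4 F381804 (iv1 F366989) (iv5 F381753) D219235 (iv6 F476190) (iv5 F476192) (iv1 F254003) (iv5 F381809) (iv6 D190988) D190986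
theorem F497872 : act 1 n219235 = n204740 := d15_1 (iv0 F497871) (iv7 F476201) F476199
def n219236 : Q := act 4 n190970
theorem D219236 : act 4 n190970 = n219236 := rfl
theorem F497873 : act 2 n219236 = n190998 := d1_1 D219236 (iv4 D190998) F381761
theorem F497874 : act 3 n219236 = n218924 := d5_1 D219236 (iv4 F497320) (iv3 D219127) F381282 F381760
theorem F497875 : act 7 n219236 = n190995 := d11_2 (iv7 F381758) D219236 (iv4 D190995)
theorem F497876 : act 5 n219236 = n212068 := d17_5 F365315 (iv5 D104317) (iv1 F367167) (iv5 F381759) D219236 F464219 (iv5 F464254) F464256 (iv4 D190993)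
theorem F497877 : act 0 n219236 = n216382 := d18_2 (iv1 F381757) D219236 (iv4 D216382) (iv5 D183221) (iv4 F151220) (iv0 F381747) (iv4 D190967) F149813 (iv5 F149857)
theorem F497878 : act 1 n219236 = n218788 := d18_6 D194906 F394955 (iv1 F392575) F392572 (iv5 F381759) D219236 (iv4 D218788) F381205 (iv5 F160403)
def n219237 : Q := act 0 n190975
theorem D219237 : act 0 n190975 = n219237 := rfl
theorem F497879 : act 5 n219237 = n215979 := d17_3 D97110 D190975 D219237 F482390 (iv5 F347852) F212834 F326082 (iv0 F348882) F149847
theorem F497880 : act 1 n190978 = n219237 := d15_0 (iv0 D219237) (iv7 F477953) F477951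
theorem F497881 : act 6 n204745 = n219237 := d21_9 (iv5 D190978) (iv1 D97111) D97112 F149849 D97123 D190996 (iv5 F482964) F482965 F473949 (iv1 F497880)
theorem F497882 : act 2 n219237 = n218917 := d3_1 F497881 F496185 F476204
theorem F497883 : act 3 n219237 = n218902 := d7_1 F497881 F496114 F473976
theorem F497884 : act 4 n219237 = n204746 := d10_1 F497881 (iv6 D204746) D204745
def n219238 : Q := act 1 n190975
theorem D219238 : act 1 n190975 = n219238 := rfl
theorem F497885 : act 1 n219238 = n190978 := d15_1 D219238 (iv7 F455782) F455780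
theorem F497886 : act 7 n219238 = n218917 := d15_2 (iv0 D219237) D219238 (iv2 F497882)
theorem F497887 : act 3 n191007 = n219238 := d19_19 (iv1 D219238) (iv5 D190975) F348883 (iv3 D164280) (iv1 F258911) (iv5 F374892) F374891 (iv3 F389010) F389012 (iv5 F303727) F303726 F127236 (iv1 F128567) (iv5 F199342) (iv4 F273399) F425480 (iv1 D202765) D202766 F425485
theorem F497888 : act 5 n219080 = n219238 := d21_0 (iv1 D219238) (iv5 D190975) F354600 F82845 D74186 F110952 D136308 F379517 (iv6 F487788) (iv1 F497078)
theorem F497889 : act 6 n211856 = n219238 := d21_3 (iv5 D214197) (iv1 F340805) D211856 (iv1 D219238) F381785 (iv5 D113649) (iv1 F169325) (iv5 F407986) (iv6 F463252) (iv1 F473955)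
def n219239 : Q := act 4 n190975
theorem D219239 : act 4 n190975 = n219239 := rfl
theorem F497890 : act 3 n219239 = n217570 := d5_1 D219239 F489546 F475737 (iv4 F419585) F419582
theorem F497891 : act 6 n219239 = n200945 := d10_2 (iv6 F381785) D219239 (iv4 D200945)
theorem F497892 : act 5 n219239 = n217569 := d16_1 D219239 F489544 F443199 F443197 (iv5 F381792) (iv4 D190977) D190978 (iv7 F455782) F455780
theorem F497893 : act 0 n219239 = n216107 := d20_1 D219239 F482989 (iv3 F427675) F408987 F378976 D190147 (iv1 F425486) F425485 F497887 (iv1 D219238)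
def n219240 : Q := act 4 n190978
theorem D219240 : act 4 n190978 = n219240 := rfl
theorem F497894 : act 5 n219240 = n211366 := d16_7 F489544 F443199 F443197 (iv5 F381792) (iv4 D190977) D190978 D219240 (iv7 F491940) F491938
theorem F497895 : act 1 n219240 = n216107 := d18_6 D109568 D198551 F408328 (iv4 D190977) D190978 D219240 F482989 (iv0 D198555) (iv5 D109570)
theorem F497896 : act 3 n219240 = n211367 := d20_5 (iv4 D109576) D109574 D198567 (iv3 F482988) (iv1 F497895) F495859 (iv1 D218837) (iv4 F488653) F488652 (iv1 D198575)
def n219241 : Q := act 6 n190980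
theorem D219241 : act 6 n190980 = n219241 := rfl
theorem F497897 : act 3 n219241 = n197474 := d7_1 D219241 (iv6 F419606) (iv3 F419610)
theorem F497898 : act 5 n219241 = n197473 := d12_1 D219241 F404482 D209304 (iv6 F453123) F421044
theorem F497899 : act 0 n219241 = n198422 := d21_4 F496184 F421046 F421044 D219241 F407977 (iv5 D109303) F100447 D137274 (iv6 F455781) (iv1 F496188)
def n219242 : Q := act 4 n190981
theorem D219242 : act 4 n190981 = n219242 := rfl
theorem F497900 : act 3 n219242 = n211369 := d5_1 D219242 F461315 F393130 (iv4 F254036) F474456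
theorem F497901 : act 6 n219242 = n214731 := d10_2 (iv6 F474457) D219242 (iv4 D214731)
def n219243 : Q := act 1 n190982
theorem D219243 : act 1 n190982 = n219243 := rfl
theorem F497902 : act 1 n219243 = n219191 := d15_1 D219243 (iv7 F497846) F497841
theorem F497903 : act 7 n219243 = n211423 := d15_2 (iv0 F495618) D219243 (iv2 F495617)
theorem F497904 : act 4 n219243 = n219216 := d18_7 (iv1 F378742) F348890 F336920 F149847 D97112 D190982 D219243 F497769 (iv5 D218773)
theorem F497905 : act 3 n211333 = n219243 := d20_3 F378945 F365368 (iv4 F461167) (iv1 D219243) F477519 F477513 F476833 F476830 F459968 F378946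
theorem F497906 : act 6 n204735 = n219243 := d21_3 F433471 F405494 F433427 (iv1 D219243) F381798 D191003 F381842 F378818 (iv6 F476173) F476176
theorem F497907 : act 2 n219243 = n219217 := d3_1 F497906 F497771 (iv2 F476185)
def n219244 : Q := act 5 n190982
theorem D219244 : act 5 n190982 = n219244 := rfl
theorem F497908 : act 3 n219244 = n208559 := d6_1 D219244 (iv5 F477514) (iv3 F477519)
theorem F497909 : act 7 n219244 = n208555 := d13_2 F477561 D219244 (iv5 F477559)
theorem F497910 : act 4 n219244 = n217676 := d16_2 D190982 D219244 (iv5 D217676) F371321 F348912 (iv4 F381734) (iv5 F497850) (iv7 D219232) F381729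
def n219245 : Q := act 6 n190983
theorem D219245 : act 6 n190983 = n219245 := rfl
theorem F497911 : act 2 n219245 = n219131 := d3_1 D219245 (iv6 F497851) F497847
theorem F497912 : act 3 n219245 = n191017 := d7_1 D219245 (iv6 D191017) (iv3 F381799)
theorem F497913 : act 4 n219245 = n208557 := d10_1 D219245 (iv6 F477560) F477558
theorem F497914 : act 5 n219245 = n217364 := d12_1 D219245 F488587 F379132 (iv6 F149851) (iv5 F381800)
theorem F497915 : act 7 n219245 = n191005 := d14_2 D190983 D219245 (iv6 D191005) (iv7 D97126) (iv6 F149849)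
theorem F497916 : act 1 n219130 = n219245 := d15_1 D219130 F497915 F381847
theorem F497917 : act 0 n219129 = n219245 := d20_7 (iv4 F461160) (iv1 F461161) F225009 (iv3 F224956) F321275 (iv3 F471622) (iv4 F497326) F497913 F449880 (iv1 F245683)
def n219246 : Q := act 5 n190985
theorem D219246 : act 5 n190985 = n219246 := rfl
theorem F497918 : act 2 n219246 = n192056 := d2_1 D219246 (iv5 F480924) F480926
theorem F497919 : act 3 n219246 = n192087 := d6_1 D219246 F385488 (iv3 F381802)
theorem F497920 : act 4 n219246 = n197299 := d9_1 D219246 (iv5 D197299) (iv4 F223629) F363364 (iv4 F331240) F331238 (iv4 F384670) F384668 D192084 (iv5 F463699) F463698 F394638 (iv4 D194827) (iv5 F160325) (iv4 F381803)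
theorem F497921 : act 6 n219246 = n209752 := d12_2 D190985 D219246 F469984 (iv6 F469985) (iv5 D190984)
theorem F497922 : act 7 n219246 = n192083 := d13_2 (iv7 F480921) D219246 (iv5 F480915)
theorem F497923 : act 0 n219246 = n192014 := d17_2 F391416 D219246 (iv5 D192014) F153280 (iv5 F354564) F380641 F380638 F472057 F472054
theorem F497924 : act 1 n219246 = n192072 := d17_6 (iv1 D48382) D48384 D104624 (iv5 F160325) (iv4 F381803) D219246 (iv5 D192072) (iv0 D99632) F76048
def n219247 : Q := act 3 n190987
theorem D219247 : act 3 n190987 = n219247 := rfl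
theorem F497925 : act 4 n219247 = n215475 := d5_2 D190987 D219247 (iv3 F488881) (iv4 D217439) F369818
theorem F497926 : act 0 n219247 = n214815 := d20_4 (iv4 D194754) F370026 D190987 D219247 F476978 F436681 (iv1 F490598) F490594 (iv3 F480102) F480105
def n219248 : Q := act 6 n190987
theorem D219248 : act 6 n190987 = n219248 := rfl
theorem F497927 : act 2 n219248 = n214696 := d3_1 D219248 F476431 (iv2 F464251)
theorem F497928 : act 4 n219248 = n190988 := d10_1 D219248 (iv6 D190988) D190987
theorem F497929 : act 5 n219248 = n214669 := d12_1 D219248 F476317 (iv5 D199253) D199254 F463382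
theorem F497930 : act 1 n216106 = n219248 := d17_6 (iv1 F476604) F408773 F477236 (iv5 D214876) (iv4 F281182) D216106 F497929 F476318 (iv4 F476601)
def n219249 : Q := act 4 n190991
theorem D219249 : act 4 n190991 = n219249 := rfl
theorem F497931 : act 2 n219249 = n209762 := d1_1 D219249 (iv4 F497860) F497854
theorem F497932 : act 6 n219249 = n209012 := d10_2 F384296 D219249 (iv4 F451842)
theorem F497933 : act 7 n219249 = n216055 := d11_2 F486225 D219249 (iv4 F486228)
theorem F497934 : act 5 n219249 = n209975 := d16_1 D219249 F455591 F463382 (iv4 D190987) (iv5 D97116) D97115 D190984 (iv7 F497857) F497854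
theorem F497935 : act 0 n219249 = n216809 := d18_2 (iv1 F488117) D219249 (iv4 D216809) (iv5 D185523) F290797 D104315 D194752 (iv0 F394352) (iv5 F488114)
theorem F497936 : act 1 n219249 = n216807 := d18_6 (iv1 F151758) F151755 (iv1 F149821) D97120 D190991 D219249 (iv4 D216807) (iv0 F287795) (iv5 D98346)
def n219250 : Q := act 5 n190993
theorem D219250 : act 5 n190993 = n219250 := rfl
theorem F497937 : act 3 n219250 = n215547 := d6_1 D219250 (iv5 F480446) (iv3 F381828)
theorem F497938 : act 0 n219250 = n211880 := d17_2 (iv1 F464227) D219250 (iv5 F497154) (iv4 D219096) (iv5 D190808) F289564 D97074 D190944 (iv4 F464226)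
def n219251 : Q := act 3 n190995
theorem D219251 : act 3 n190995 = n219251 := rfl
theorem F497939 : act 5 n219251 = n212071 := d6_2 F381832 D219251 (iv3 D212071)
theorem F497940 : act 6 n219251 = n204710 := d7_2 (iv6 F434869) D219251 F434868
theorem F497941 : act 7 n219251 = n218924 := d8_2 F497875 D219251 (iv3 F497874)
theorem F497942 : act 0 n219251 = n218926 := d20_4 (iv4 D97125) D97123 D190995 D219251 F496220 F476818 (iv1 F406222) (iv4 F430290) F430289 (iv1 D191001)
theorem F497943 : act 0 n218927 = n219251 := d20_4 F381346 (iv1 F149867) (iv4 F379317) (iv3 F496226) (iv3 D219251) (iv4 D190995) (iv1 F381771) F381768 (iv3 D190859) D190857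
theorem F497944 : act 2 n219251 = n218925 := d15_3 (iv0 F496219) F496230 (iv7 F497941)
def n219252 : Q := act 7 n190996
theorem D219252 : act 7 n190996 = n219252 := rfl
theorem F497945 : act 3 n219252 = n211846 := d8_1 D219252 (iv7 F488898) F488895
theorem F497946 : act 4 n219252 = n214673 := d11_1 D219252 F476333 F434870
theorem F497947 : act 5 n219252 = n214194 := d13_1 D219252 (iv7 F482963) F482964
theorem F497948 : act 6 n219252 = n198426 := d14_1 D219252 F414092 (iv6 F414091) F381758 D190996
theorem F497949 : act 1 n204740 = n219252 := d15_1 F497872 (iv7 D219252) (iv2 F497867)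
theorem F497950 : act 1 n219252 = n194760 := d15_1 F497949 (iv7 F413056) (iv2 F433452)
def n219253 : Q := act 3 n190998
theorem D219253 : act 3 n190998 = n219253 := rfl
theorem F497951 : act 4 n219253 = n219197 := d5_2 D190998 D219253 F497682 F488775 (iv3 D190997)
theorem F497952 : act 5 n219253 = n212073 := d6_2 (iv5 F483138) D219253 (iv3 D212073)
theorem F497953 : act 0 n219253 = n215548 := d19_4 (iv1 F381835) (iv5 D190999) D190998 D219253 (iv5 D215548) F352783 F352784 F340390 (iv5 F378802) F378801 (iv3 F378627) (iv1 F475769) F475771 F353131 F178164 (iv1 F193469) (iv5 F290541) (iv4 F392139) F392138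
theorem F497954 : act 1 n219253 = n211387 := d15_1 (iv0 F497953) (iv7 F491937) F491933
theorem F497955 : act 6 n219253 = n218939 := d21_3 F488961 (iv1 F476929) (iv5 F497952) (iv1 D218939) (iv6 D190312) (iv5 F292272) (iv1 F159845) (iv5 F360811) D190180 F488962
def n219254 : Q := act 6 n190998
theorem D219254 : act 6 n190998 = n219254 := rfl
theorem F497956 : act 3 n219254 = n218939 := d7_1 D219254 (iv6 F497955) (iv3 D219253)
theorem F497957 : act 4 n219254 = n191000 := d10_1 D219254 (iv6 D191000) D190998
theorem F497958 : act 0 n199921 = n219254 := d18_0 F497957 F408859 D198578 (iv5 F452498) (iv4 D209156) F220056 (iv4 F453971) (iv0 F454612) F454610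
theorem F497959 : act 1 n209511 = n219254 := d18_6 F100447 F100446 (iv1 F93035) F326926 D174694 (iv4 F453975) F497957 F408860 (iv5 D109303)
def n219255 : Q := act 5 n191001
theorem D219255 : act 5 n191001 = n219255 := rfl
theorem F497960 : act 2 n219255 = n210653 := d2_1 D219255 F458341 F381840
theorem F497961 : act 4 n219255 = n210644 := d9_1 D219255 (iv5 F458317) (iv4 D191434) (iv5 F283276) (iv4 F160402) F160403 D190103 F464374 F464372 (iv5 F457074) (iv4 D191436) (iv5 F151779) (iv4 F287732) (iv5 F381675) (iv4 F381839)
theorem F497962 : act 7 n219255 = n210651 := d13_2 (iv7 F430275) D219255 F458338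
def n219256 : Q := act 0 n191005
theorem D219256 : act 0 n191005 = n219256 := rfl
theorem F497963 : act 4 n219256 = n218933 := d18_3 (iv1 F497618) (iv4 F381849) D219256 F496256 F471597 (iv0 D205995) (iv4 F216977) F389416 (iv5 F497617)
theorem F497964 : act 3 n219256 = n219132 := d20_5 D218869 F495975 F381938 (iv3 F381848) D219256 F497334 (iv1 D218129) D218130 (iv3 F492272) (iv1 F381366)
theorem F497965 : act 6 n219256 = n216931 := d21_5 (iv5 D190966) (iv1 F149820) (iv5 F149857) D191005 D219256 (iv5 D216931) (iv1 F379697) D218962 F496409 F394357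
theorem F497966 : act 5 n219256 = n198481 := d21_8 F420334 F420333 D208032 F447529 (iv1 D187235) D187237 (iv5 F381850) D219256 F408131 D198504
theorem F497967 : act 1 n219131 = n219256 := d15_0 (iv0 D219256) (iv7 F497915) F497911
theorem F497968 : act 2 n219129 = n219256 := d3_3 F497965 (iv2 F494966) (iv6 F497327)
theorem F497969 : act 7 n219130 = n219256 := d14_0 F497965 F486587 F463282 D211859 F497329
def n219257 : Q := act 1 n191005
theorem D219257 : act 1 n191005 = n219257 := rfl
theorem F497970 : act 1 n219257 = n219131 := d15_1 D219257 (iv7 D219131) (iv2 F381847)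
theorem F497971 : act 7 n219257 = n219129 := d15_2 (iv0 D219256) D219257 F497968
theorem F497972 : act 3 n219171 = n219257 := d20_3 (iv4 F488919) (iv1 F488924) (iv4 F497553) (iv1 D219257) F381848 (iv4 F381938) (iv1 F495970) (iv4 D218866) D218865 F495968
theorem F497973 : act 4 n211384 = n219257 := d20_6 (iv4 F400358) (iv1 D141974) (iv4 D66553) (iv3 F102398) D141914 D211384 (iv1 D219257) F381849 F381482 (iv1 F400354)
theorem F497974 : act 6 n214197 = n219257 := d21_3 (iv5 D157235) D157233 D214197 (iv1 D219257) (iv6 D191005) F149857 (iv1 F149813) D190968 (iv6 F467984) F467986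
theorem F497975 : act 5 n218843 = n219257 := d21_6 F369589 F161633 (iv5 F369638) (iv6 F369642) (iv1 F379037) D218843 (iv1 D219257) F381850 (iv6 D187237) D187234
theorem F497976 : act 2 n219257 = n219130 := d3_1 F497974 (iv6 F497329) (iv2 F473950)
def n219258 : Q := act 1 n191006
theorem D219258 : act 1 n191006 = n219258 := rfl
theorem F497977 : act 1 n219258 = n191044 := d15_1 D219258 F381967 (iv2 F381851)
theorem F497978 : act 7 n219258 = n206158 := d15_2 F495252 D219258 (iv2 F495248)
theorem F497979 : act 5 n219258 = n206154 := d17_7 (iv1 F317384) (iv5 F210713) F307873 F318065 (iv4 F317682) D191006 D219258 F439500 F205185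
theorem F497980 : act 2 n206159 = n219258 := d2_3 F497979 F439504 D206159
theorem F497981 : act 4 n207938 = n219258 := d9_15 F497979 F439502 F346234 (iv4 F302949) (iv5 F446846) F446845 D207879 (iv4 F495250) (iv5 D218707) F378354 F346218 F113454 D75598 (iv4 F319893) D207938
theorem F497982 : act 6 n218875 = n219258 := d12_0 F497979 (iv6 F439503) F346268 D212767 F495990
def n219259 : Q := act 4 n191006
theorem D219259 : act 4 n191006 = n219259 := rfl
theorem F497983 : act 2 n219259 = n218894 := d1_1 D219259 (iv4 D218894) (iv2 F381851)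
theorem F497984 : act 7 n219259 = n218918 := d11_2 (iv7 F381853) D219259 (iv4 D218918)
theorem F497985 : act 5 n219259 = n214340 := d16_1 D219259 (iv4 D214340) (iv5 D158464) (iv4 F344382) F317621 (iv4 F319353) D191044 F381967 (iv2 F381851)
theorem F497986 : act 0 n219259 = n207073 := d17_0 (iv5 D207073) (iv1 F442882) (iv5 F496082) (iv4 D218895) F379178 (iv0 F378359) D218707 F495252 D219259
theorem F497987 : act 1 n219259 = n206993 := d18_6 F378621 (iv4 D131396) F318755 (iv4 F317682) D191006 D219259 (iv4 F467395) (iv0 F495502) (iv5 D218753)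
def n219260 : Q := act 4 n191011
theorem D219260 : act 4 n191011 = n219260 := rfl
theorem F497988 : act 2 n219260 = n218895 := d1_1 D219260 (iv4 D218895) (iv2 F381868)
theorem F497989 : act 3 n219260 = n211958 := d5_1 D219260 (iv4 D211958) (iv3 F381350) F381346 D191011
theorem F497990 : act 5 n219260 = n207122 := d9_2 F439508 D219260 (iv4 D207122) F347044 F344033 (iv5 D59964) (iv4 F94399) D127617 D206161 F447015 F447013 (iv5 D207416) (iv4 D131392) (iv5 F317386) (iv4 F439507)
theorem F497991 : act 7 n219260 = n218921 := d11_2 (iv7 F381869) D219260 (iv4 D218921)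
def n219261 : Q := act 6 n191011
theorem D219261 : act 6 n191011 = n219261 := rfl
theorem F497992 : act 2 n219261 = n218896 := d3_1 D219261 (iv6 D218896) (iv2 F381868)
theorem F497993 : act 3 n219261 = n191012 := d7_1 D219261 (iv6 D191012) D191011
theorem F497994 : act 5 n219261 = n193949 := d12_1 D219261 (iv6 D193949) F353168 (iv6 F439509) F439508
def n219262 : Q := act 0 n191012
theorem D219262 : act 0 n191012 = n219262 := rfl
theorem F497995 : act 4 n219262 = n211355 := d18_1 D219262 (iv1 F491957) (iv4 F497414) F497415 (iv4 F392916) (iv0 D194354) F158493 D103247 (iv5 F381872)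
theorem F497996 : act 6 n219262 = n191024 := d21_5 F379287 D190773 F380995 D191012 D219262 (iv5 F381916) F369925 (iv5 D187351) F363592 D190286
theorem F497997 : act 2 n211371 = n219262 := d15_3 (iv0 D219262) F491964 F491962
theorem F497998 : act 7 n219262 = n218920 := d4_2 F491962 F497997 F496199
theorem F497999 : act 1 n194360 = n219262 := d15_1 F491963 F497998 F496199
def n219263 : Q := act 7 n191012
theorem D219263 : act 7 n191012 = n219263 := rfl
theorem F498000 : act 2 n219263 = n194360 := d4_1 D219263 F392935 (iv2 F381871)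
theorem F498001 : act 5 n219263 = n194248 := d13_1 D219263 F392498 (iv5 F381872)
theorem F498002 : act 6 n219263 = n218922 := d14_1 D219263 (iv7 D218922) (iv6 D190295) (iv7 F290435) D191012
theorem F498003 : act 1 n218920 = n219263 := d15_1 D218920 (iv7 D219263) F381871
theorem F498004 : act 1 n219263 = n211371 := d15_1 F498003 (iv7 F491962) (iv2 F496199)
def n219264 : Q := act 5 n191014
theorem D219264 : act 5 n191014 = n219264 := rfl
theorem F498005 : act 2 n219264 = n211086 := d2_1 D219264 (iv5 F476817) (iv2 F476820)
theorem F498006 : act 3 n219264 = n191015 := d6_1 D219264 (iv5 D191015) D191014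
theorem F498007 : act 7 n219264 = n206363 := d13_2 F476823 D219264 (iv5 F476824)
theorem F498008 : act 0 n219264 = n210940 := d17_2 F400640 D219264 F459385 (iv4 F407583) F407578 F224854 (iv5 F224995) (iv0 F433285) F433283
theorem F498009 : act 1 n219264 = n198154 := d17_6 D197931 F406228 (iv1 F449893) (iv5 F477514) F477513 D219264 (iv5 F413114) (iv0 F413116) (iv4 D197933)
theorem F498010 : act 6 n219264 = n202694 := d21_3 D196419 F400640 D219264 F425141 (iv6 D195897) F163628 (iv1 F82137) (iv5 F182523) D126158 F364147
def n219265 : Q := act 6 n191016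
theorem D219265 : act 6 n191016 = n219265 := rfl
theorem F498011 : act 2 n219265 = n218928 := d3_1 D219265 (iv6 D218928) (iv2 F381884)
theorem F498012 : act 3 n219265 = n208560 := d7_1 D219265 F476826 F476827
theorem F498013 : act 4 n219265 = n191017 := d10_1 D219265 (iv6 D191017) (iv4 F381885)
theorem F498014 : act 5 n219265 = n206364 := d12_1 D219265 (iv6 D206364) (iv5 D128384) D128385 (iv5 F381886)
theorem F498015 : act 7 n219265 = n191031 := d14_2 D191016 D219265 (iv6 D191031) (iv7 D97146) (iv6 F149864)
theorem F498016 : act 0 n219265 = n218939 := d21_4 (iv5 D175030) (iv1 F366097) (iv5 F381886) D219265 (iv6 F497955) F497952 F476921 D212196 F464712 F362765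
theorem F498017 : act 1 n219265 = n218938 := d15_1 (iv0 F498016) (iv7 F496284) F496287
def n219266 : Q := act 0 n191018
theorem D219266 : act 0 n191018 = n219266 := rfl
theorem F498018 : act 4 n219266 = n217419 := d18_3 (iv1 F289705) D191018 D219266 (iv5 D217419) (iv4 D187303) F137993 F71480 F289534 D95494
theorem F498019 : act 2 n218897 = n219266 := d15_3 (iv0 D219266) (iv0 F495218) F496093
theorem F498020 : act 1 n191048 = n219266 := d15_0 (iv0 D219266) F381895 (iv2 F381984)
theorem F498021 : act 7 n219266 = n218898 := d15_2 F495219 F498020 (iv2 F496096)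
def n219267 : Q := act 5 n191018
theorem D219267 : act 5 n191018 = n219267 := rfl
theorem F498022 : act 2 n219267 = n209062 := d2_1 D219267 F452058 (iv2 F381894)
theorem F498023 : act 3 n219267 = n207637 := d6_1 D219267 (iv5 F497577) F497575
theorem F498024 : act 7 n219267 = n218929 := d13_2 (iv7 F381895) D219267 (iv5 D218929)
theorem F498025 : act 4 n219267 = n209144 := d16_2 D191018 D219267 F452446 (iv4 D191048) F149926 F76042 (iv5 F149926) F149927 (iv2 F149870)
theorem F498026 : act 6 n212334 = n219267 := d14_5 F498024 F496239 F418718 D212255 (iv7 F465363)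
def n219268 : Q := act 6 n191018
theorem D219268 : act 6 n191018 = n219268 := rfl
theorem F498027 : act 2 n219268 = n217021 := d3_1 D219268 F487019 (iv2 F381894)
theorem F498028 : act 4 n219268 = n191019 := d10_1 D219268 (iv6 D191019) D191018
theorem F498029 : act 5 n217019 = n219268 := d9_0 F498028 F381898 (iv4 D97368) F291955 (iv4 F67939) (iv5 F293094) D99026 D191867 (iv4 F395289) (iv5 F473773) F473772 F295136 (iv4 F138778) (iv5 F367559) D217019
def n219269 : Q := act 1 n191019
theorem D219269 : act 1 n191019 = n219269 := rfl
theorem F498030 : act 1 n219269 = n194981 := d15_1 D219269 F395290 (iv2 F381896)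
theorem F498031 : act 7 n219269 = n218899 := d15_2 F492112 D219269 (iv2 F496101)
theorem F498032 : act 5 n219269 = n217498 := d17_7 F370232 (iv5 D187408) (iv1 D90032) (iv5 F291955) D97368 (iv5 F381898) D219269 F489175 (iv4 D191143)
theorem F498033 : act 2 n218900 = n219269 := d2_3 F498032 (iv2 F489178) (iv5 F496105)
theorem F498034 : act 4 n218086 = n219269 := d16_2 D188473 D218086 F498032 F489177 F379917 F287716 D185476 (iv7 F287738) (iv2 F294098)
def n219270 : Q := act 3 n191020
theorem D219270 : act 3 n191020 = n219270 := rfl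
theorem F498035 : act 2 n219270 = n218915 := d0_1 D219270 (iv3 F496181) F476199 (iv3 D194760) (iv2 F394385)
theorem F498036 : act 7 n219270 = n194765 := d8_2 (iv7 F394386) D219270 (iv3 D194765)
theorem F498037 : act 0 n207238 = n219270 := d20_4 (iv4 D198495) F169919 F379153 (iv3 F443926) (iv3 D219270) (iv4 F495934) (iv1 F495932) F461361 (iv3 F472321) F472319
theorem F498038 : act 1 n207240 = n219270 := d15_0 (iv0 F498037) F443928 (iv2 F443931)
def n219271 : Q := act 5 n191020
theorem D219271 : act 5 n191020 = n219271 := rfl
theorem F498039 : act 2 n219271 = n194762 := d2_1 D219271 (iv5 D194762) (iv2 F394385)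
theorem F498040 : act 6 n219271 = n218081 := d12_2 F489096 D219271 F492071 F477221 D217483
theorem F498041 : act 7 n219271 = n194767 := d13_2 (iv7 F394386) D219271 (iv5 D194767)
theorem F498042 : act 4 n219271 = n205242 := d16_2 F495934 D219271 (iv5 F435576) (iv4 F430655) F430654 F406123 (iv5 F413087) F413089 F495931
theorem F498043 : act 1 n219271 = n214768 := d17_8 D214766 F476728 (iv1 F262130) F358842 F288011 (iv5 F159971) F381904 D219271 (iv4 D214768)
theorem F498044 : act 0 n219271 = n218079 := d18_0 F492057 (iv1 F476733) (iv4 F497541) (iv5 D219168) D219167 F497536 F394360 F381904 D219271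
def n219272 : Q := act 6 n191023
theorem D219272 : act 6 n191023 = n219272 := rfl
theorem F498045 : act 2 n219272 = n218046 := d3_1 D219272 F491869 (iv2 F381912)
theorem F498046 : act 3 n219272 = n198579 := d7_1 D219272 (iv6 D198579) (iv3 F381911)
theorem F498047 : act 4 n219272 = n211387 := d10_1 D219272 (iv6 D211387) (iv4 F381908)
theorem F498048 : act 7 n219272 = n218045 := d14_2 F381910 D219272 (iv6 F491961) F491962 F461311
theorem F498049 : act 0 n219272 = n218941 := d21_4 D187351 (iv1 F369926) (iv5 F381907) D219272 (iv6 D218941) (iv5 F488680) F488683 D217405 F488754 (iv1 D187349)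
theorem F498050 : act 5 n219272 = n194564 := d21_6 F290599 F74928 (iv5 F290647) D97143 D191023 D219272 (iv1 D194564) F159215 (iv6 D95700) (iv1 F137905)
theorem F498051 : act 0 n218783 = n219272 := d21_4 F369622 D189999 D218732 (iv6 F495635) (iv6 D219272) F381907 D198577 F408370 F488635 (iv1 D217376)
def n219273 : Q := act 2 n191025
theorem D219273 : act 2 n191025 = n219273 := rfl
theorem F498052 : act 3 n219273 = n211418 := d0_2 F381919 D219273 (iv2 D211418) (iv3 D141970) F224877
theorem F498053 : act 4 n219273 = n211428 := d1_2 F413944 D219273 F461495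
theorem F498054 : act 5 n219273 = n193287 := d2_2 (iv5 F381918) D219273 F456244
theorem F498055 : act 6 n219273 = n211422 := d3_2 (iv6 F413943) D219273 F461478
theorem F498056 : act 7 n219273 = n191026 := d4_2 (iv7 F381920) D219273 (iv2 F404750)
theorem F498057 : act 1 n219273 = n191027 := d15_0 F381933 (iv7 F381920) D219273
theorem F498058 : act 1 n191029 = n219273 := d15_0 F498057 (iv7 F495777) F495773
def n219274 : Q := act 3 n191026
theorem D219274 : act 3 n191026 = n219274 := rfl
theorem F498059 : act 2 n219274 = n211330 := d0_1 D219274 (iv3 D211330) (iv2 F224871) D141967 F404750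
theorem F498060 : act 6 n219274 = n211330 := d7_2 F381925 D219274 (iv3 D211330)
theorem F498061 : act 7 n219274 = n211418 := d8_2 F498056 D219274 (iv3 F498052)
theorem F498062 : act 5 n193716 = n219274 := d13_3 F498061 F477997 F477996
theorem F498063 : act 1 n211410 = n219274 := d15_1 (iv0 F461453) F498061 (iv2 D211418)
theorem F498064 : act 4 n219274 = n195625 := d9_1 F498062 (iv5 D195625) F163126 F77428 (iv4 F77438) D106137 (iv4 F390767) F390771 D211419 (iv5 F478020) F478019 F259208 (iv4 F259121) (iv5 F478001) F478000
theorem F498065 : act 1 n219274 = n211345 := d17_6 (iv1 F397736) (iv5 F340465) (iv1 F259123) (iv5 F478001) F478000 F498062 (iv5 D211345) F390437 (iv4 F220701)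
def n219275 : Q := act 4 n191026
theorem D219275 : act 4 n191026 = n219275 := rfl
theorem F498066 : act 2 n219275 = n211417 := d1_1 D219275 (iv4 D211417) F404750
theorem F498067 : act 6 n219275 = n211331 := d10_2 F381925 D219275 (iv4 D211331)
theorem F498068 : act 7 n219275 = n211428 := d11_2 F498056 D219275 (iv4 F498053)
theorem F498069 : act 5 n219275 = n196909 := d16_1 D219275 F402247 (iv5 F472764) F472763 (iv5 D210120) (iv4 F245673) (iv5 F381918) F381920 F404750
theorem F498070 : act 0 n219275 = n211401 := d17_0 F480017 (iv1 F480018) F433755 F429384 F360037 (iv0 F381924) (iv5 D191028) D191026 D219275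
theorem F498071 : act 0 n211335 = n219275 := d20_10 (iv4 D219275) (iv1 D191026) (iv4 F381841) (iv3 D191002) F378859 (iv3 F464375) F464376 F273460 (iv4 F273932) (iv3 F461172)
theorem F498072 : act 3 n196910 = n219275 := d20_5 (iv4 D190103) (iv1 F381205) D218788 F495662 (iv1 F402254) (iv4 D219275) (iv1 D191026) (iv4 F381841) (iv3 D191002) F378859
def n219276 : Q := act 5 n191026
theorem D219276 : act 5 n191026 = n219276 := rfl
theorem F498073 : act 2 n219276 = n193286 := d2_1 D219276 (iv5 F389402) F404750
theorem F498074 : act 3 n219276 = n193716 := d6_1 D219276 F498062 (iv3 D219274)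
theorem F498075 : act 6 n219276 = n202751 := d12_2 F381925 D219276 F425424 (iv6 F226574) (iv5 F224870)
theorem F498076 : act 7 n219276 = n193287 := d13_2 F498056 D219276 (iv5 F498054)
theorem F498077 : act 1 n219276 = n193288 := d17_6 F479979 (iv5 D215434) F402250 (iv5 F498069) (iv4 D219275) D219276 (iv5 F461425) (iv0 D211405) D211407
theorem F498078 : act 4 n219276 = n213913 := d19_2 (iv1 F495779) D219276 F472713 (iv1 F456260) (iv5 F431845) (iv4 D204282) F197754 (iv1 F231586) (iv5 D147825) (iv4 D69261) (iv3 F105521) D147802 (iv5 F348965) (iv4 D95604) D95603 F361105 D95651 D190126 D218814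
theorem F498079 : act 0 n219276 = n193152 := d20_1 (iv4 F498078) (iv4 F472547) F472546 F388946 (iv3 D152326) (iv4 D71866) D71864 D152321 (iv3 F456238) (iv1 F472715)
def n219277 : Q := act 4 n191028
theorem D219277 : act 4 n191028 = n219277 := rfl
theorem F498080 : act 2 n219277 = n211402 := d1_1 D219277 (iv4 D211402) (iv2 F381928)
theorem F498081 : act 3 n219277 = n193145 := d5_1 D219277 (iv4 D193145) F155959 (iv4 F292270) (iv3 F381922)
theorem F498082 : act 7 n219277 = n193251 := d11_2 F381923 D219277 F389324
theorem F498083 : act 6 n196808 = n219277 := d14_5 F498082 F389325 F349724 D201934 (iv7 F422436)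
def n219278 : Q := act 6 n191028
theorem D219278 : act 6 n191028 = n219278 := rfl
theorem F498084 : act 2 n219278 = n202615 := d3_1 D219278 (iv6 F424761) (iv2 F381928)
theorem F498085 : act 3 n219278 = n191030 := d7_1 D219278 (iv6 D191030) (iv3 F381922)
theorem F498086 : act 4 n219278 = n196808 := d10_1 D219278 F498083 (iv4 D219277)
theorem F498087 : act 5 n219278 = n202694 := d12_1 D219278 (iv6 F498010) (iv5 D219264) F381876 D191028
theorem F498088 : act 7 n219278 = n202601 := d14_2 F381923 D219278 (iv6 D202601) F349723 (iv6 F345475)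
theorem F498089 : act 0 n219278 = n196292 := d21_4 (iv5 D219276) (iv1 D191026) D191028 D219278 F400250 (iv5 D108889) D108887 D198048 (iv6 F406591) (iv1 F498077)
theorem F498090 : act 0 n202249 = n219278 := d21_4 F424130 (iv1 F413260) (iv5 F469323) F469321 (iv6 D219278) (iv5 D191028) D191025 F381918 F245674 D202468
def n219279 : Q := act 5 n191031
theorem D219279 : act 5 n191031 = n219279 := rfl
theorem F498091 : act 2 n219279 = n217786 := d2_1 D219279 F490617 (iv2 F381937)
theorem F498092 : act 3 n219279 = n211343 := d6_1 D219279 (iv5 F461499) F461498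
theorem F498093 : act 6 n219279 = n193254 := d12_2 D191031 D219279 (iv5 D193254) (iv6 D101414) (iv5 F290897)
theorem F498094 : act 7 n219279 = n206364 := d13_2 F498015 D219279 (iv5 F498014)
theorem F498095 : act 4 n219279 = n213710 := d16_6 F464730 (iv5 F462880) F369601 (iv5 F149882) (iv4 F381938) D219279 (iv5 F471736) (iv7 F471737) F471727
theorem F498096 : act 0 n217815 = n219279 := d19_0 (iv5 D219279) F381938 (iv3 F381848) D219256 F497966 (iv4 D198481) (iv3 F365778) F365779 (iv5 D102219) F74640 (iv3 F74639) (iv1 F329000) D64349 D136892 (iv3 F387443) F387445 (iv5 F293927) (iv4 F372044) (iv3 F490771)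
theorem F498097 : act 1 n209734 = n219279 := d15_1 (iv0 F467857) F498094 (iv2 F467854)
def n219280 : Q := act 3 n191032
theorem D219280 : act 3 n191032 = n219280 := rfl
theorem F498098 : act 2 n219280 = n217367 := d0_1 D219280 (iv3 D217367) (iv2 F378790) F399905 F440256
theorem F498099 : act 7 n219280 = n218940 := d8_2 (iv7 F440257) D219280 (iv3 D218940)
theorem F498100 : act 4 n205806 = n219280 := d11_3 F498099 (iv4 F496289) (iv7 F437937)
theorem F498101 : act 1 n219280 = n217346 := d18_6 (iv1 F102070) F95444 D63713 (iv4 F203667) D205806 F498100 (iv4 F495240) (iv0 D208010) (iv5 D133170)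
theorem F498102 : act 1 n217346 = n217451 := d15_1 F498101 F488941 (iv2 F498098)
def n219281 : Q := act 3 n191036
theorem D219281 : act 3 n191036 = n219281 := rfl
theorem F498103 : act 7 n219281 = n215475 := d8_2 F488880 D219281 (iv3 F488881)
theorem F498104 : act 2 n219281 = n215474 := d15_3 (iv0 D215474) D215475 (iv7 F498103)
def n219282 : Q := act 6 n191036
theorem D219282 : act 6 n191036 = n219282 := rfl
theorem F498105 : act 4 n219282 = n191037 := d10_1 D219282 (iv6 D191037) D191036
theorem F498106 : act 0 n194348 = n219282 := d21_4 (iv5 F159061) (iv1 D103240) D103241 (iv6 F392892) (iv6 D219282) (iv5 F497341) (iv1 D219133) (iv5 D190839) F379247 (iv1 F379245)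
def n219283 : Q := act 3 n191040
theorem D219283 : act 3 n191040 = n219283 := rfl
theorem F498107 : act 2 n219283 = n207134 := d0_1 D219283 (iv3 F495533) F496140 (iv3 F496139) F381952
theorem F498108 : act 4 n219283 = n205705 := d5_2 (iv4 F381951) D219283 F496981 F496977 F495214
theorem F498109 : act 7 n219283 = n219122 := d8_2 F381953 D219283 (iv3 D219122)
def n219284 : Q := act 4 n191044
theorem D219284 : act 4 n191044 = n219284 := rfl
theorem F498110 : act 2 n219284 = n218918 := d1_1 D219284 (iv4 D218918) (iv2 F381965)
theorem F498111 : act 5 n219284 = n214341 := d9_2 D191044 D219284 (iv4 D214341) (iv5 D158469) (iv4 F307280) F318065 (iv4 F317682) D191006 D219259 F497985 (iv4 D214340) (iv5 D158464) (iv4 F344382) F317621 (iv4 F319353)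
theorem F498112 : act 7 n219284 = n218894 := d11_2 (iv7 F381967) D219284 (iv4 D218894)
theorem F498113 : act 0 n219284 = n206993 := d17_0 (iv5 D206993) D206991 (iv5 F496204) (iv4 D218921) F379308 D206154 (iv5 F497979) F497977 D219284
theorem F498114 : act 1 n219284 = n207073 := d18_8 (iv1 F442882) (iv4 F442883) (iv1 D158472) (iv4 F319893) D207938 F497981 F497977 D219284 (iv5 D207073)
def n219285 : Q := act 3 n191049
theorem D219285 : act 3 n191049 = n219285 := rfl
theorem F498115 : act 2 n219285 = n218862 := d0_1 D219285 F495955 (iv2 F381467) F488913 F488915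
theorem F498116 : act 6 n219285 = n205505 := d7_2 F394769 D219285 (iv3 F436747)
theorem F498117 : act 7 n219285 = n218859 := d8_2 F488771 D219285 F495941
theorem F498118 : act 4 n219285 = n205503 := d20_6 F76068 (iv1 D45416) D45417 D97184 D191049 D219285 F436738 F379104 (iv3 D187216) F137860
theorem F498119 : act 1 n199920 = n219285 := d17_8 F436738 (iv5 D190215) D190213 D218883 (iv4 F497367) F497368 (iv0 F413760) D199920 F498118
theorem F498120 : act 0 n218861 = n219285 := d18_0 F498118 F436738 F379104 F369543 (iv4 F378278) (iv0 F481948) F481947 F414152 (iv5 F495951)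
def n219286 : Q := act 4 n191049
theorem D219286 : act 4 n191049 = n219286 := rfl
theorem F498121 : act 3 n219286 = n217444 := d5_1 D219286 F488907 (iv3 F436736) (iv4 F498118) (iv3 D219285)
theorem F498122 : act 6 n219286 = n214888 := d10_2 F394769 D219286 (iv4 D214888)
theorem F498123 : act 1 n219286 = n215490 := d18_6 (iv1 D215221) F268325 D170816 F431910 (iv5 F394768) D219286 (iv4 D215490) D215489 F480206
theorem F498124 : act 5 n215475 = n219286 := d19_1 (iv1 F480157) (iv4 D219286) D219285 (iv1 F498119) (iv5 D199920) F174068 F168698 F94230 (iv5 F336715) (iv4 F216797) F216796 F176830 D197311 (iv4 F413656) F413655 (iv1 D174647) D174649 F353319 (iv3 F478966)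
def n219287 : Q := act 4 n191053
theorem D219287 : act 4 n191053 = n219287 := rfl
theorem F498125 : act 2 n219287 = n191064 := d1_1 D219287 (iv4 D191064) (iv2 F382007)
theorem F498126 : act 3 n219287 = n195046 := d5_1 D219287 (iv4 D195046) D195045 F395563 (iv3 F382008)
theorem F498127 : act 6 n219287 = n194483 := d10_2 (iv6 F382009) D219287 (iv4 D194483)
theorem F498128 : act 7 n219287 = n200592 := d11_2 (iv7 F382010) D219287 F417104
theorem F498129 : act 0 n219287 = n199841 := d18_2 (iv1 F382011) D219287 (iv4 D199841) (iv5 F248414) F248413 F229429 (iv4 F368750) (iv0 F461880) (iv5 F379117)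
theorem F498130 : act 1 n219287 = n199839 := d18_6 (iv1 F320034) F320035 F248415 F347819 D191053 D219287 (iv4 D199839) (iv0 D111821) (iv5 F169904)
def n219288 : Q := act 6 n191055
theorem D219288 : act 6 n191055 = n219288 := rfl
theorem F498131 : act 3 n219288 = n197618 := d7_1 D219288 (iv6 F405041) (iv3 F382020)
theorem F498132 : act 4 n219288 = n191057 := d10_1 D219288 (iv6 D191057) D191055
theorem F498133 : act 5 n219288 = n207306 := d12_1 D219288 (iv6 F447605) (iv5 F461716) (iv6 D211476) F382022
def n219289 : Q := act 6 n191059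
theorem D219289 : act 6 n191059 = n219289 := rfl
theorem F498134 : act 2 n219289 = n215353 := d3_1 D219289 F479522 (iv2 F409840)
theorem F498135 : act 3 n219289 = n212510 := d7_1 D219289 (iv6 D212510) (iv3 F382037)
theorem F498136 : act 4 n219289 = n191061 := d10_1 D219289 (iv6 D191061) D191059
theorem F498137 : act 5 n219289 = n207433 := d12_1 D219289 (iv6 D207433) F354872 (iv6 F357760) F382039
theorem F498138 : act 0 n219289 = n203536 := d21_4 (iv5 F461702) (iv1 F461706) F382039 D219289 F428779 D212533 F466303 (iv5 F419361) F427709 F427711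
theorem F498139 : act 0 n203537 = n219289 := d21_4 F344956 (iv1 D120126) D120128 (iv6 F428782) (iv6 D219289) (iv5 F382039) F419645 F419642 (iv6 D118570) (iv1 F344955)
theorem F498140 : act 7 n219289 = n215403 := d15_2 F463732 (iv0 F498138) F479811
def n219290 : Q := act 5 n191064
theorem D219290 : act 5 n191064 = n219290 := rfl
theorem F498141 : act 3 n219290 = n199442 := d6_1 D219290 F412213 (iv3 F410282)
theorem F498142 : act 6 n219290 = n218232 := d12_2 (iv6 F382069) D219290 F492861 F466534 (iv5 D194492)
theorem F498143 : act 7 n219290 = n199711 := d13_2 F460165 D219290 (iv5 F460163)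
theorem F498144 : act 0 n219290 = n217018 := d17_2 F408262 D219290 F487008 (iv4 D199950) (iv5 F318883) F318881 (iv5 D109535) D109533 D198536
theorem F498145 : act 1 n219290 = n199456 := d17_6 F461879 (iv5 D191060) (iv1 D97191) D97192 D191064 D219290 (iv5 D199456) D199455 (iv4 F461876)
def n219291 : Q := act 5 n191068
theorem D219291 : act 5 n191068 = n219291 := rfl
theorem F498146 : act 3 n219291 = n191069 := d6_1 D219291 (iv5 D191069) D191068
theorem F498147 : act 6 n219291 = n211962 := d12_2 (iv6 F382086) D219291 F478490 (iv6 F478487) F369837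
theorem F498148 : act 1 n219291 = n214348 := d17_6 (iv1 F172769) D111613 (iv1 F412212) F412213 (iv4 F410283) D219291 (iv5 F479732) (iv0 F479735) (iv4 D199434)
theorem F498149 : act 0 n219291 = n215944 := d21_1 D219291 (iv5 F482201) (iv6 F475978) F475980 F474500 F378053 (iv1 F150260) (iv5 F148367) D190692 F382087
def n219292 : Q := act 4 n191098
theorem D219292 : act 4 n191098 = n219292 := rfl
theorem F498150 : act 2 n219292 = n191116 := d1_1 D219292 (iv4 F393720) F393715
theorem F498151 : act 3 n219292 = n197048 := d5_1 D219292 F402820 F443666 F443665 (iv3 F382214)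
theorem F498152 : act 5 n219292 = n205596 := d9_2 F382213 D219292 (iv4 F440680) F440675 D206460 F440928 F400655 (iv5 F382210) (iv4 F410100) F437155 F437153 F358256 D206461 F440931 F410766
theorem F498153 : act 6 n219292 = n197047 := d10_2 (iv6 F489208) D219292 (iv4 F489206)
theorem F498154 : act 0 n219292 = n207586 := d17_0 (iv5 F445571) (iv1 F440887) D206457 F440909 (iv5 F358269) F175922 (iv5 F340427) D191098 D219292
theorem F498155 : act 1 n219292 = n207486 := d18_8 F211631 (iv4 D128628) D128625 F206915 F164248 (iv4 F340426) D191098 D219292 F445117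
def n219293 : Q := act 5 n191103
theorem D219293 : act 5 n191103 = n219293 := rfl
theorem F498156 : act 2 n219293 = n214203 := d2_1 D219293 F473977 (iv2 F382233)
theorem F498157 : act 3 n219293 = n191112 := d6_1 D219293 (iv5 D191112) (iv3 F382234)
theorem F498158 : act 6 n219293 = n191106 := d12_2 D191103 D219293 (iv5 D191106) (iv6 D97285) D97284
theorem F498159 : act 7 n219293 = n200311 := d13_2 (iv7 F382236) D219293 (iv5 D200311)
theorem F498160 : act 0 n219293 = n214201 := d17_2 F382237 D219293 (iv5 F473972) (iv4 D212009) (iv5 D144787) F175396 (iv5 F175841) F175843 D130632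
theorem F498161 : act 1 n219293 = n214200 := d17_6 F443767 (iv5 D195679) (iv1 F176950) F176947 (iv4 F382235) D219293 F473968 (iv0 F481125) F481123
def n219294 : Q := act 0 n191112
theorem D219294 : act 0 n191112 = n219294 := rfl
theorem F498162 : act 5 n219294 = n191203 := d17_3 (iv1 F361260) D191112 D219294 F476723 (iv5 D214765) F282830 (iv5 F382706) (iv0 D166610) (iv4 F133985)
theorem F498163 : act 6 n219294 = n217450 := d21_5 (iv5 F149949) F341058 D97293 (iv6 F382281) D219294 (iv5 D217450) (iv1 F369844) (iv5 F381890) (iv6 D191017) (iv1 F149868)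
theorem F498164 : act 1 n216311 = n219294 := d15_0 (iv0 D219294) F382282 (iv2 F483777)
theorem F498165 : act 3 n217479 = n219294 := d20_3 (iv4 F486069) F488689 (iv4 F489073) (iv1 F498164) F483778 (iv4 D204743) (iv1 F253459) (iv4 F474786) F474785 F439551
theorem F498166 : act 7 n219294 = n216825 := d8_2 (iv7 F489071) F498165 F492062
theorem F498167 : act 2 n219294 = n216824 := d15_3 (iv0 D216824) D216825 (iv7 F498166)
def n219295 : Q := act 1 n191112
theorem D219295 : act 1 n191112 = n219295 := rfl
theorem F498168 : act 1 n219295 = n216311 := d15_1 D219295 F483780 (iv2 F382280)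
theorem F498169 : act 7 n219295 = n216824 := d15_2 (iv0 D219294) D219295 (iv2 F498167)
theorem F498170 : act 5 n191151 = n219295 := d21_0 (iv1 D219295) (iv5 D191112) (iv6 D97290) (iv1 F150027) F370248 (iv5 F379391) F477645 F477640 F445655 (iv1 F435370)
theorem F498171 : act 6 n194364 = n219295 := d21_3 F461312 F454462 F454461 (iv1 D219295) F382281 (iv5 D97293) D97291 F150038 D190293 F461314
theorem F498172 : act 2 n219295 = n216825 := d3_1 F498171 (iv6 F492061) F488620
theorem F498173 : act 3 n219295 = n191152 := d6_1 F498170 (iv5 D191152) D191151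
def n219296 : Q := act 4 n191112
theorem D219296 : act 4 n191112 = n219296 := rfl
theorem F498174 : act 2 n219296 = n216826 := d1_1 D219296 (iv4 D216826) (iv2 F382280)
theorem F498175 : act 6 n219296 = n191113 := d10_2 (iv6 F382281) D219296 (iv4 D191113)
theorem F498176 : act 7 n219296 = n216827 := d11_2 (iv7 F382282) D219296 (iv4 D216827)
theorem F498177 : act 5 n219296 = n213377 := d17_5 (iv1 D191021) F290796 (iv1 F361260) D191112 D219296 F470141 F407375 (iv0 F413090) F413086
def n219297 : Q := act 3 n191113
theorem D219297 : act 3 n191113 = n219297 := rfl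
theorem F498178 : act 4 n219297 = n215517 := d5_2 D191113 D219297 (iv3 F488984) F488986 F382251
theorem F498179 : act 5 n219297 = n212193 := d6_2 (iv5 F382284) D219297 F464706
theorem F498180 : act 7 n219297 = n212192 := d8_2 (iv7 F382283) D219297 F464703
theorem F498181 : act 0 n219297 = n219247 := d20_4 (iv4 D191008) F150040 D191113 D219297 (iv3 D219247) (iv4 D190987) D190986 (iv4 F495684) F495685 F402298
theorem F498182 : act 0 n218846 = n219297 := d20_4 (iv4 F410850) (iv1 D190182) (iv4 F379046) (iv3 F495886) (iv3 D219297) (iv4 D191113) F363394 D191009 (iv3 F488955) (iv1 F488958)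
def n219298 : Q := act 4 n191114
theorem D219298 : act 4 n191114 = n219298 := rfl
theorem F498183 : act 2 n219298 = n191115 := d1_1 D219298 (iv4 D191115) D191114
theorem F498184 : act 3 n219298 = n194335 := d5_1 D219298 (iv4 F447789) (iv3 F447793) (iv4 F478033) F478036
theorem F498185 : act 5 n219298 = n194334 := d9_2 (iv5 F382287) D219298 F392859 (iv5 F347949) (iv4 F351341) F351342 (iv4 F347958) (iv5 F381013) D219082 F497090 F410899 F347954 F176356 (iv5 F347903) (iv4 F347907)
theorem F498186 : act 6 n219298 = n198531 := d10_2 (iv6 F382288) D219298 (iv4 D198531)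
theorem F498187 : act 7 n219298 = n218946 := d11_2 F497082 D219298 (iv4 F497084)
theorem F498188 : act 0 n219298 = n200403 := d17_0 F416310 F415938 F415934 F382168 (iv5 D190769) D190768 (iv5 F416027) F416029 D219298
theorem F498189 : act 1 n219298 = n219026 := d18_6 (iv1 D179312) (iv4 D85556) D85554 (iv4 F347907) (iv5 F382287) D219298 (iv4 D219026) (iv0 F380287) F351357
def n219299 : Q := act 1 n191115
theorem D219299 : act 1 n191115 = n219299 := rfl
theorem F498190 : act 1 n219299 = n218946 := d15_1 D219299 (iv7 F498187) F498183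
theorem F498191 : act 7 n219299 = n200403 := d15_2 (iv0 F413631) D219299 F416309
theorem F498192 : act 5 n219299 = n207144 := d17_7 F355490 (iv5 F167100) D197289 F403848 (iv4 F393713) (iv5 F393714) D219299 F443512 F390706
theorem F498193 : act 4 n219299 = n200336 := d17_9 (iv1 D200336) F336225 F354569 D203793 (iv4 F481082) F481083 F415896 (iv5 F393714) D219299
theorem F498194 : act 3 n195209 = n219299 := d20_9 (iv4 D191115) F382157 F382155 F355491 (iv1 F362440) (iv3 F455344) (iv4 F494246) (iv1 F494442) F494438 (iv1 D219299)
theorem F498195 : act 2 n219299 = n219026 := d0_1 F498194 F496758 (iv2 F416319) (iv3 D200406) F396279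
theorem F498196 : act 6 n219299 = n191193 := d7_2 F494436 F498194 (iv3 F494432)
def n219300 : Q := act 0 n191116
theorem D219300 : act 0 n191116 = n219300 := rfl
theorem F498197 : act 5 n219300 = n196063 := d17_1 D219300 (iv1 F440894) F440891 (iv4 D191206) (iv5 F355504) (iv0 D112842) (iv5 F163777) (iv0 F393719) F393720
theorem F498198 : act 4 n219300 = n215187 := d18_1 D219300 F478792 F393893 (iv5 F399128) (iv4 F441091) (iv0 F448846) F448842 (iv0 F441024) F441025
theorem F498199 : act 2 n207586 = n219300 := d15_3 (iv0 D219300) (iv0 F478418) F478416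
theorem F498200 : act 3 n219300 = n196037 := d0_2 (iv3 F445568) F498199 (iv2 F399149) D207483 (iv2 F445110)
theorem F498201 : act 6 n219300 = n201884 := d3_2 D207586 F498199 F422210
theorem F498202 : act 7 n219300 = n207486 := d4_2 F478416 F498199 (iv2 F478413)
def n219301 : Q := act 6 n191116
theorem D219301 : act 6 n191116 = n219301 := rfl
theorem F498203 : act 2 n219301 = n197047 := d3_1 D219301 (iv6 F498153) F498150
theorem F498204 : act 3 n219301 = n191118 := d7_1 D219301 (iv6 D191118) D191116
theorem F498205 : act 4 n219301 = n218981 := d10_1 D219301 F496514 F393720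
theorem F498206 : act 5 n219301 = n207477 := d12_1 D219301 (iv6 F445101) F384162 (iv6 F441022) F441025
theorem F498207 : act 7 n219301 = n207592 := d14_2 F410099 D219301 F477342 F477340 F410101
theorem F498208 : act 0 n219301 = n207483 := d21_4 (iv5 F436616) (iv1 F441026) F441025 D219301 (iv6 F445112) (iv5 D132066) (iv1 F211583) (iv5 F77996) D106752 F357664
theorem F498209 : act 0 n207593 = n219301 := d21_4 (iv5 D163514) (iv1 F257785) (iv5 F417729) F445605 (iv6 D219301) (iv5 F441025) F441024 F399134 F430229 F430227
def n219302 : Q := act 5 n191125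
theorem D219302 : act 5 n191125 = n219302 := rfl
theorem F498210 : act 6 n219302 = n201170 := d12_2 D191125 D219302 (iv5 D201170) F382325 (iv5 D191124)
def n219303 : Q := act 7 n191125
theorem D219303 : act 7 n191125 = n219303 := rfl
theorem F498211 : act 3 n219303 = n197046 := d8_1 D219303 (iv7 F477927) F477925
theorem F498212 : act 4 n219303 = n191129 := d11_1 D219303 (iv7 D191129) (iv4 F382329)
theorem F498213 : act 6 n219303 = n197045 := d14_1 D219303 F402812 (iv6 F400097) F358379 D191125
theorem F498214 : act 1 n207509 = n219303 := d15_1 (iv0 F445210) (iv7 D219303) (iv2 F410102)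
def n219304 : Q := act 4 n191126
theorem D219304 : act 4 n191126 = n219304 := rfl
theorem F498215 : act 2 n219304 = n191164 := d1_1 D219304 (iv4 F454455) F454451
theorem F498216 : act 3 n219304 = n196102 := d5_1 D219304 F399415 (iv3 F331453) (iv4 F226666) F382480
theorem F498217 : act 5 n219304 = n205397 := d9_2 (iv5 F382479) D219304 F436240 (iv5 F438813) (iv4 D206008) F333077 F367017 (iv5 F392781) (iv4 F477417) F477418 F436224 (iv5 F438822) (iv4 D206010) (iv5 F333070) (iv4 F367013)
theorem F498218 : act 6 n219304 = n191163 := d10_2 (iv6 F492060) D219304 (iv4 F492057)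
theorem F498219 : act 7 n219304 = n205396 := d11_2 F454473 D219304 (iv4 F454474)
theorem F498220 : act 0 n219304 = n196196 := d18_2 D191126 D219304 F399829 (iv5 D126933) (iv4 D59573) D59571 D126926 (iv0 F382334) (iv5 D191128)
theorem F498221 : act 1 n219304 = n191133 := d18_6 F331271 (iv4 F331266) (iv1 F218790) (iv4 F367013) (iv5 F382479) D219304 F440536 F440535 (iv5 D144546)
def n219305 : Q := act 3 n191127
theorem D219305 : act 3 n191127 = n219305 := rfl
theorem F498222 : act 2 n219305 = n211709 := d0_1 D219305 F462791 (iv2 F402364) (iv3 F454472) F454471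
theorem F498223 : act 4 n219305 = n191155 := d5_2 F477417 D219305 F382422 (iv4 F382462) (iv3 F477416)
theorem F498224 : act 5 n219305 = n194386 := d6_2 (iv5 F392781) D219305 (iv3 D194386)
theorem F498225 : act 6 n219305 = n191197 := d7_2 (iv6 F392782) D219305 (iv3 D191197)
theorem F498226 : act 7 n219305 = n191153 := d8_2 F454453 D219305 (iv3 F454452)
theorem F498227 : act 0 n219305 = n211828 := d20_4 (iv4 F399829) F477421 F477417 D219305 (iv3 D211828) D211829 F463220 (iv4 F463750) F463749 (iv1 D206007)
def n219306 : Q := act 4 n191131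
theorem D219306 : act 4 n191131 = n219306 := rfl
theorem F498228 : act 2 n219306 = n207605 := d1_1 D219306 (iv4 D207605) (iv2 F382346)
def n219307 : Q := act 6 n191131
theorem D219307 : act 6 n191131 = n219307 := rfl
theorem F498229 : act 2 n219307 = n207606 := d3_1 D219307 (iv6 D207606) (iv2 F382346)
theorem F498230 : act 3 n219307 = n191133 := d7_1 D219307 (iv6 D191133) D191131
theorem F498231 : act 7 n219307 = n207606 := d14_2 F477397 D219307 (iv6 D207606) (iv7 F399831) (iv6 F477396)
def n219308 : Q := act 5 n191133
theorem D219308 : act 5 n191133 = n219308 := rfl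
theorem F498232 : act 7 n219308 = n207607 := d13_2 (iv7 F382350) D219308 (iv5 D207607)
theorem F498233 : act 4 n219308 = n206013 := d16_2 (iv4 F440536) D219308 (iv5 D206013) (iv4 D126937) (iv5 D59574) D59573 D126933 (iv7 F206743) (iv2 F440530)
def n219309 : Q := act 5 n191141
theorem D219309 : act 5 n191141 = n219309 := rfl
theorem F498234 : act 3 n219309 = n204748 := d6_1 D219309 (iv5 F474891) F474889
theorem F498235 : act 7 n219309 = n218882 := d13_2 (iv7 F382391) D219309 (iv5 D218882)
def n219310 : Q := act 6 n191141
theorem D219310 : act 6 n191141 = n219310 := rfl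
theorem F498236 : act 2 n219310 = n203666 := d3_1 D219310 (iv6 F486051) F486049
theorem F498237 : act 3 n219310 = n215982 := d7_1 D219310 F482407 F474889
theorem F498238 : act 4 n219310 = n191142 := d10_1 D219310 (iv6 D191142) D191141
theorem F498239 : act 7 n219310 = n200291 := d14_2 (iv7 F382391) D219310 (iv6 D200291) (iv7 F245138) (iv6 F379091)
theorem F498240 : act 5 n219310 = n212476 := d21_6 (iv5 F481174) (iv1 F370115) (iv5 F382644) (iv6 F497173) F497175 D219310 (iv1 D212476) D212477 F465988 F481173
theorem F498241 : act 1 n207183 = n219310 := d17_6 (iv1 D203658) (iv5 D120102) D120100 F355311 (iv4 F462119) F462120 F498240 F496715 F496713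
def n219311 : Q := act 5 n191143
theorem D219311 : act 5 n191143 = n219311 := rfl
theorem F498242 : act 2 n219311 = n191152 := d2_1 D219311 (iv5 D191152) (iv2 F382394)
theorem F498243 : act 3 n219311 = n217470 := d6_1 D219311 F489027 F486378
theorem F498244 : act 4 n219311 = n217013 := d16_2 D191143 D219311 (iv5 D217013) (iv4 D186640) (iv5 D88971) F294112 (iv5 F138378) (iv7 F293059) (iv2 F150065)
theorem F498245 : act 1 n219311 = n219100 := d17_6 (iv1 F294041) (iv5 D95728) (iv1 F157284) D97320 D191143 D219311 (iv5 D219100) F381232 (iv4 D185638)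
theorem F498246 : act 6 n217468 = n219311 := d7_0 F498243 (iv6 D217470) D217468
theorem F498247 : act 0 n217468 = n217349 := d21_4 (iv5 D218090) (iv1 F382395) D219311 (iv6 F498246) (iv6 D217349) F369554 F343080 (iv5 F290794) D191019 (iv1 F492112)
def n219312 : Q := act 6 n191143
theorem D219312 : act 6 n191143 = n219312 := rfl
theorem F498248 : act 2 n219312 = n191153 := d3_1 D219312 (iv6 D191153) (iv2 F382394)
theorem F498249 : act 3 n219312 = n196941 := d7_1 D219312 (iv6 F486379) F486378
theorem F498250 : act 4 n219312 = n191144 := d10_1 D219312 (iv6 D191144) D191143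
theorem F498251 : act 7 n219312 = n211709 := d14_2 F489172 D219312 (iv6 F462793) (iv7 F481018) (iv6 F489171)
theorem F498252 : act 5 n219312 = n196940 := d21_6 (iv5 F250817) (iv1 D92175) D92177 D188481 (iv1 F382395) D219312 (iv1 F422690) (iv5 F474766) (iv6 D214361) (iv1 F250193)
theorem F498253 : act 0 n211828 = n219312 := d17_0 F498252 (iv1 F422690) (iv5 F474766) F474765 (iv5 D209905) F410802 (iv5 F425617) (iv0 F495435) F495432
def n219313 : Q := act 4 n191145
theorem D219313 : act 4 n191145 = n219313 := rfl
theorem F498254 : act 2 n219313 = n191160 := d1_1 D219313 (iv4 D191160) (iv2 F382402)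
theorem F498255 : act 6 n219313 = n202810 := d10_2 (iv6 F382404) D219313 (iv4 D202810)
theorem F498256 : act 7 n219313 = n194366 := d11_2 (iv7 F382405) D219313 (iv4 D194366)
theorem F498257 : act 0 n219313 = n194369 := d17_0 (iv5 F467583) F472616 (iv5 D194326) (iv4 D103211) (iv5 D47832) (iv0 F157768) D103083 (iv0 F382407) D219313
theorem F498258 : act 1 n219313 = n194368 := d18_6 (iv1 D194411) F158606 (iv1 F294727) F152510 D191145 D219313 F392956 D194608 F393803
def n219314 : Q := act 5 n191146
theorem D219314 : act 5 n191146 = n219314 := rfl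
theorem F498259 : act 3 n219314 = n205078 := d6_1 D219314 (iv5 F474772) (iv3 F474774)
theorem F498260 : act 6 n215671 = n219314 := d7_0 F498259 F434900 (iv3 F481035)
def n219315 : Q := act 6 n191146
theorem D219315 : act 6 n191146 = n219315 := rfl
theorem F498261 : act 3 n219315 = n218988 := d7_1 D219315 F496552 (iv3 F474774)
theorem F498262 : act 4 n219315 = n191147 := d10_1 D219315 (iv6 D191147) D191146
theorem F498263 : act 5 n219315 = n215672 := d12_1 D219315 (iv6 D215672) D215671 F498260 (iv5 D219314)
def n219316 : Q := act 5 n191148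
theorem D219316 : act 5 n191148 = n219316 := rfl
theorem F498264 : act 3 n219316 = n198734 := d6_1 D219316 (iv5 F414699) F414697
theorem F498265 : act 6 n219316 = n198733 := d12_2 F414689 D219316 F409014 F407802 (iv5 F414686)
def n219317 : Q := act 1 n191152
theorem D219317 : act 1 n191152 = n219317 := rfl
theorem F498266 : act 5 n219317 = n191193 := d17_7 (iv1 F335371) (iv5 D97095) (iv1 F157275) D45455 D97324 D191152 D219317 F473776 F473772
theorem F498267 : act 2 n219100 = n219317 := d2_3 F498266 (iv2 F382547) D219100
theorem F498268 : act 6 n217431 = n219317 := d12_0 F498266 (iv6 F498196) F498192 (iv6 F463241) (iv5 F488846)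
theorem F498269 : act 4 n218590 = n219317 := d16_2 D189571 D218590 F498266 F382546 (iv5 D190810) F149504 D98334 (iv7 F367521) F367519
def n219318 : Q := act 4 n191152
theorem D219318 : act 4 n191152 = n219318 := rfl
theorem F498270 : act 2 n219318 = n217013 := d1_1 D219318 (iv4 F498244) F498242
theorem F498271 : act 5 n219318 = n216789 := d16_3 D97324 D191152 D219318 (iv4 D216789) F287767 F294589 (iv5 F370234) F370236 F150065
def n219319 : Q := act 6 n191152
theorem D219319 : act 6 n191152 = n219319 := rfl
theorem F498272 : act 2 n219319 = n217468 := d3_1 D219319 F498246 F498242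
theorem F498273 : act 3 n219319 = n194364 := d7_1 D219319 F498171 F498173
theorem F498274 : act 0 n219319 = n217425 := d21_4 F496098 (iv1 D191150) D191152 D219319 (iv6 D217425) (iv5 F369779) F343082 (iv5 F147459) D190254 D218899
def n219320 : Q := act 5 n191160
theorem D219320 : act 5 n191160 = n219320 := rfl
theorem F498275 : act 3 n219320 = n211998 := d6_1 D219320 F463859 (iv3 F427362)
theorem F498276 : act 7 n219320 = n194370 := d13_2 (iv7 F382444) D219320 (iv5 D194370)
theorem F498277 : act 4 n219320 = n216533 := d16_2 D191160 D219320 (iv5 D216533) (iv4 D184251) D184252 (iv4 F369964) F369965 (iv7 F382405) F382402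
theorem F498278 : act 1 n219320 = n199937 := d17_6 F386680 F367031 (iv1 D97327) D97328 D191160 D219320 (iv5 D199937) D199936 F414229
def n219321 : Q := act 5 n191164
theorem D219321 : act 5 n191164 = n219321 := rfl
theorem F498279 : act 2 n219321 = n205397 := d2_1 D219321 (iv5 F498217) F498215
theorem F498280 : act 3 n219321 = n191167 := d6_1 D219321 (iv5 D191167) (iv3 F382452)
theorem F498281 : act 6 n219321 = n205372 := d12_2 D191164 D219321 F436122 (iv6 D181703) (iv5 F294051)
theorem F498282 : act 7 n219321 = n205392 := d13_2 F477419 D219321 (iv5 F477418)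
theorem F498283 : act 0 n219321 = n205395 := d17_2 (iv1 F440547) D219321 (iv5 F477346) F477345 (iv5 F331275) F220241 D202862 (iv0 F425918) D206387
theorem F498284 : act 1 n219321 = n191241 := d17_6 (iv1 D97340) D97341 (iv1 F367009) D209643 F454455 D219321 (iv5 D191241) (iv0 F382467) (iv4 D191171)
def n219322 : Q := act 5 n191165
theorem D219322 : act 5 n191165 = n219322 := rfl
theorem F498285 : act 3 n219322 = n207616 := d6_1 D219322 F445686 F382455
theorem F498286 : act 6 n219322 = n205366 := d12_2 F393890 D219322 (iv5 F436908) F436911 F399128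
theorem F498287 : act 7 n219322 = n207613 := d13_2 F382456 D219322 (iv5 D207613)
theorem F498288 : act 0 n219322 = n219302 := d17_2 D191165 D219322 (iv5 D219302) F382329 D191128 (iv0 F382337) (iv5 F382338) (iv0 D97339) (iv4 F150086)
def n219323 : Q := act 3 n191166
theorem D219323 : act 3 n191166 = n219323 := rfl
theorem F498289 : act 2 n219323 = n196100 := d0_1 D219323 F399406 F164273 (iv3 F211660) (iv2 F382459)
theorem F498290 : act 4 n219323 = n203918 := d5_2 F382457 D219323 F430393 (iv4 D142407) (iv3 F225318)
theorem F498291 : act 6 n219323 = n196099 := d7_2 F382458 D219323 F399398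
theorem F498292 : act 7 n219323 = n207549 := d8_2 F382722 D219323 F445404
theorem F498293 : act 5 n205361 = n219323 := d13_3 F498292 F445406 F445216
def n219324 : Q := act 5 n191166
theorem D219324 : act 5 n191166 = n219324 := rfl
theorem F498294 : act 2 n219324 = n207613 := d2_1 D219324 (iv5 D207613) (iv2 F382459)
theorem F498295 : act 3 n219324 = n205361 := d6_1 D219324 F498293 (iv3 D219323)
theorem F498296 : act 1 n219324 = n219302 := d17_6 (iv1 D206386) (iv5 D128533) F102641 D142405 F382457 D219324 (iv5 D219302) (iv0 F477365) F477364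
theorem F498297 : act 4 n205368 = n219324 := d5_0 F498295 (iv4 D205361) F202351 D125855 D205368
def n219325 : Q := act 5 n191170
theorem D219325 : act 5 n191170 = n219325 := rfl
theorem F498298 : act 6 n219325 = n205364 := d12_2 (iv6 F410101) D219325 F436086 F437154 (iv5 F437155)
theorem F498299 : act 4 n219325 = n205365 := d16_2 D191170 D219325 F436092 F395756 (iv5 D126927) D126926 F372119 F379935 F379936
theorem F498300 : act 0 n219325 = n219308 := d17_2 (iv1 F382465) D219325 (iv5 D219308) F440536 (iv5 D206385) F206736 (iv5 F355424) (iv0 D97438) (iv4 F150186)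
def n219326 : Q := act 5 n191171
theorem D219326 : act 5 n191171 = n219326 := rfl
theorem F498301 : act 1 n219326 = n219308 := d17_6 (iv1 D191127) D191128 F382334 F372119 D191171 D219326 (iv5 D219308) (iv0 F477420) F477417
theorem F498302 : act 6 n219326 = n205477 := d21_3 (iv5 F477346) (iv1 F477348) D219326 (iv1 F483698) F483695 F435957 F416817 (iv5 F436122) (iv6 F498281) F498283
def n219327 : Q := act 0 n191176
theorem D219327 : act 0 n191176 = n219327 := rfl
theorem F498303 : act 5 n219327 = n199865 := d17_3 F377870 (iv5 F382487) D219327 F413861 F359046 (iv0 F363218) (iv5 D95289) D95287 D189817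
theorem F498304 : act 4 n219327 = n201393 := d18_1 D219327 (iv1 D201393) (iv4 F415852) F415854 F288742 F248679 D189814 F377871 (iv5 F382487)
theorem F498305 : act 3 n219327 = n199866 := d20_5 D219004 F496634 (iv4 D215665) (iv3 F382486) D219327 F413866 F416109 F416108 D214321 F474566
theorem F498306 : act 6 n219327 = n216923 := d21_5 (iv5 F331367) F293684 D97351 D191176 D219327 (iv5 F488718) (iv1 D217395) F369656 (iv6 D185660) (iv1 F295133)
theorem F498307 : act 2 n191178 = n219327 := d15_3 (iv0 D219327) F392396 (iv7 F415866)
theorem F498308 : act 1 n191180 = n219327 := d15_0 (iv0 D219327) (iv7 F415863) F415860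
theorem F498309 : act 7 n219327 = n191179 := d15_2 (iv0 F392395) F498308 F399041
def n219328 : Q := act 5 n191197
theorem D219328 : act 5 n191197 = n219328 := rfl
theorem F498310 : act 2 n219328 = n218966 := d2_1 D219328 (iv5 D218966) (iv2 F399903)
theorem F498311 : act 3 n219328 = n191198 := d6_1 D219328 (iv5 D191198) D191197
theorem F498312 : act 6 n206166 = n219328 := d7_0 F498311 F382557 D206166
def n219329 : Q := act 0 n191212
theorem D219329 : act 0 n191212 = n219329 := rfl
theorem F498313 : act 5 n219329 = n216845 := d17_3 F494922 (iv5 F493734) D219329 (iv4 D216845) (iv5 F447630) (iv0 F447631) F444576 F443809 (iv4 F494919)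
theorem F498314 : act 3 n218511 = n219329 := d6_3 F498313 F486183 (iv5 F494226)
def n219330 : Q := act 1 n191212
theorem D219330 : act 1 n191212 = n219330 := rfl
theorem F498315 : act 5 n219330 = n216847 := d17_7 (iv1 F376799) (iv5 F398456) F398455 D208016 (iv4 F493733) (iv5 F493734) D219330 F486196 (iv4 D207972)
theorem F498316 : act 4 n219330 = n215110 := d17_9 F478404 F416744 F430223 (iv5 F445338) (iv4 F494001) (iv5 D218460) F493735 (iv5 F493734) D219330
theorem F498317 : act 3 n218505 = n219330 := d20_3 D189474 D218553 F494443 (iv1 D219330) F382601 (iv4 D187378) (iv1 F356267) D190914 F381537 (iv1 D189473)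
def n219331 : Q := act 0 n191218
theorem D219331 : act 0 n191218 = n219331 := rfl
theorem F498318 : act 4 n219331 = n200278 := d18_1 D219331 (iv1 D200278) (iv4 F415801) (iv5 F492024) F492025 (iv0 F477783) (iv4 F496551) (iv0 D218988) (iv5 F382626)
theorem F498319 : act 6 n219331 = n208887 := d21_5 (iv5 D191216) (iv1 D97409) D97411 D191218 D219331 F451259 (iv1 F497519) F497517 (iv6 D218999) F382616
theorem F498320 : act 2 n198965 = n219331 := d15_3 (iv0 D219331) (iv0 F414683) (iv7 F414685)
theorem F498321 : act 1 n198955 = n219331 := d15_0 (iv0 D219331) F382627 (iv2 F410047)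
theorem F498322 : act 7 n219331 = n198964 := d15_2 F414684 F498321 (iv2 F414681)
def n219332 : Q := act 1 n191223
theorem D219332 : act 1 n191223 = n219332 := rfl
theorem F498323 : act 1 n219332 = n218949 := d15_1 D219332 F496341 F489152
theorem F498324 : act 7 n219332 = n206396 := d15_2 (iv0 F440674) D219332 (iv2 F440670)
theorem F498325 : act 4 n219332 = n214474 := d17_9 F475346 (iv5 F448003) (iv1 F439456) (iv5 D137502) (iv4 F206728) (iv5 F408645) (iv0 F440725) F440724 D219332
theorem F498326 : act 3 n191232 = n219332 := d19_19 (iv1 D219332) (iv5 F440724) (iv4 D206425) F206847 (iv1 F95149) (iv5 D60530) F47935 (iv3 F48158) (iv1 F48160) (iv5 D14270) F22496 (iv3 D11275) (iv1 F7760) (iv5 F10759) (iv4 F23244) (iv3 F47007) (iv1 F211586) (iv5 F211618) (iv4 F382674)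
def n219333 : Q := act 0 n191225
theorem D219333 : act 0 n191225 = n219333 := rfl
theorem F498327 : act 3 n219333 = n191236 := d20_5 (iv4 D190817) D190815 D219099 F497172 D219333 F382704 (iv1 F327188) F327190 F365806 (iv1 F381232)
theorem F498328 : act 6 n219333 = n214474 := d21_5 (iv5 D187398) (iv1 F138311) (iv5 F360348) D191225 D219333 (iv5 D214474) (iv1 D159521) D159522 F251260 (iv1 F370180)
theorem F498329 : act 7 n200254 = n219333 := d14_0 F498328 F475345 (iv6 D200377) F415170 D200254
theorem F498330 : act 0 n219333 = n207231 := d21_4 F440550 (iv1 F380245) D214474 (iv6 F498328) F443906 (iv5 D206569) F414355 (iv5 F440521) F440522 (iv1 F440548)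
def n219334 : Q := act 7 n191225
theorem D219334 : act 7 n191225 = n219334 := rfl
theorem F498331 : act 2 n219334 = n207231 := d4_1 D219334 (iv7 F447807) F447809
theorem F498332 : act 3 n219334 = n218881 := d8_1 D219334 (iv7 F497174) F497172
theorem F498333 : act 4 n219334 = n218721 := d11_1 D219334 F495314 F463340
theorem F498334 : act 5 n219334 = n211790 := d13_1 D219334 (iv7 F497183) F497182
theorem F498335 : act 6 n219334 = n218949 := d14_1 D219334 F496341 (iv6 D217493) F370153 D191225
theorem F498336 : act 1 n200254 = n219334 := d15_1 (iv0 F447808) (iv7 D219334) (iv2 F447809)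
theorem F498337 : act 4 n211842 = n211738 := d17_4 (iv1 D211845) (iv5 D144156) D144154 D211842 (iv5 F462902) F498336 F498334 F497284 F497277
def n219335 : Q := act 6 n191227
theorem D219335 : act 6 n191227 = n219335 := rfl
theorem F498338 : act 2 n219335 = n209929 := d3_1 D219335 (iv6 D209929) F382656
theorem F498339 : act 3 n219335 = n215669 := d7_1 D219335 F481034 F382655
theorem F498340 : act 4 n219335 = n211715 := d10_1 D219335 (iv6 D211715) (iv4 F382653)
theorem F498341 : act 0 n206393 = n219335 := d21_4 F382640 F416113 (iv5 F416112) D206393 (iv6 D219335) F382654 F373672 F283197 (iv6 F415703) F415705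
def n219336 : Q := act 6 n191229
theorem D219336 : act 6 n191229 = n219336 := rfl
theorem F498342 : act 2 n219336 = n191230 := d3_1 D219336 (iv6 D191230) D191229
theorem F498343 : act 3 n219336 = n217964 := d7_1 D219336 (iv6 D217964) (iv3 F382661)
theorem F498344 : act 4 n219336 = n218954 := d10_1 D219336 F496361 F452014
theorem F498345 : act 5 n219336 = n198629 := d12_1 D219336 (iv6 F408622) (iv5 D190684) F367147 (iv5 F382662)
theorem F498346 : act 0 n216875 = n219336 := d21_4 D211975 (iv1 F486332) (iv5 D216874) D216875 (iv6 D219336) F382662 (iv1 F283170) D190643 F380438 F377647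
def n219337 : Q := act 0 n191230
theorem D219337 : act 0 n191230 = n219337 := rfl
theorem F498347 : act 4 n219337 = n216877 := d18_3 F494874 F494872 D219337 (iv5 F492590) F492589 (iv0 F453439) D209394 (iv0 F454195) (iv5 F454196)
theorem F498348 : act 3 n219337 = n210446 := d20_5 F361706 (iv1 F213567) F347520 (iv3 F382666) D219337 (iv4 D210446) (iv1 F319044) D213035 F468704 (iv1 F370138)
theorem F498349 : act 7 n216875 = n219337 := d8_0 F498348 (iv7 F473763) (iv3 F486333)
def n219338 : Q := act 1 n191230
theorem D219338 : act 1 n191230 = n219338 := rfl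
theorem F498350 : act 4 n219338 = n216873 := d18_7 (iv1 D152578) (iv4 F239766) (iv1 F414315) D209375 (iv5 F494873) F494872 D219338 (iv0 F486330) F451707
theorem F498351 : act 2 n216875 = n219338 := d1_3 F498350 F486327 (iv4 F486334)
theorem F498352 : act 6 n214323 = n219338 := d10_0 F498350 (iv6 D216873) (iv4 F474574)
theorem F498353 : act 3 n198814 = n219338 := d20_5 D214958 (iv1 F493704) F493701 F409366 D198814 F498350 F486329 F469137 F463307 F276053
def n219339 : Q := act 7 n191230
theorem D219339 : act 7 n191230 = n219339 := rfl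
theorem F498354 : act 3 n219339 = n191233 := d8_1 D219339 (iv7 D191233) (iv3 F382666)
theorem F498355 : act 4 n219339 = n218955 := d11_1 D219339 F496365 F494872
theorem F498356 : act 5 n219339 = n198628 := d13_1 D219339 (iv7 F408620) (iv5 F382667)
theorem F498357 : act 6 n219339 = n219031 := d14_1 D219339 (iv7 D219031) (iv6 D190645) (iv7 F294506) D191230
theorem F498358 : act 1 n216875 = n219339 := d15_1 (iv0 F498346) (iv7 D219339) (iv2 F498342)
def n219340 : Q := act 7 n191234
theorem D219340 : act 7 n191234 = n219340 := rfl
theorem F498359 : act 2 n219340 = n207226 := d4_1 D219340 F443890 (iv2 F382680)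
theorem F498360 : act 3 n219340 = n191238 := d8_1 D219340 (iv7 D191238) (iv3 F382681)
theorem F498361 : act 4 n219340 = n197051 := d11_1 D219340 F402830 (iv4 F382682)
theorem F498362 : act 5 n219340 = n214865 := d13_1 D219340 F477195 (iv5 F382683)
theorem F498363 : act 6 n219340 = n197050 := d14_1 D219340 F402827 (iv6 D188218) F293831 D191234
theorem F498364 : act 1 n207225 = n219340 := d15_1 (iv0 F443889) (iv7 D219340) F382680
theorem F498365 : act 1 n219340 = n207228 := d15_1 F498364 (iv7 D207228) (iv2 F443887)
def n219341 : Q := act 6 n191237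
theorem D219341 : act 6 n191237 = n219341 := rfl
theorem F498366 : act 2 n219341 = n200253 := d3_1 D219341 F416194 F382697
theorem F498367 : act 4 n219341 = n207486 := d10_1 D219341 (iv6 F445118) F382696
theorem F498368 : act 7 n219341 = n215187 := d14_2 (iv7 F382695) D219341 (iv6 D215187) (iv7 F380334) (iv6 F380447)
theorem F498369 : act 1 n196016 = n219341 := d15_1 F416193 F498368 F478791
theorem F498370 : act 1 n219341 = n191243 := d15_1 F498369 (iv7 F393883) (iv2 F399077)
def n219342 : Q := act 5 n191240
theorem D219342 : act 5 n191240 = n219342 := rfl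
theorem F498371 : act 2 n219342 = n205395 := d2_1 D219342 (iv5 F477346) F477344
theorem F498372 : act 3 n219342 = n191241 := d6_1 D219342 (iv5 D191241) (iv3 F382716)
theorem F498373 : act 6 n219342 = n205234 := d12_2 D191240 D219342 F435546 (iv6 D185560) (iv5 F294067)
theorem F498374 : act 7 n219342 = n191241 := d13_2 (iv7 F382718) D219342 (iv5 D191241)
theorem F498375 : act 0 n219342 = n205392 := d17_2 (iv1 F477338) D219342 (iv5 F477418) F477417 F392781 F382477 F382475 F370262 (iv4 F477334)
theorem F498376 : act 1 n219342 = n205397 := d17_6 F440534 F438810 (iv1 D137071) (iv5 F331279) (iv4 F382717) D219342 (iv5 F498217) F498221 F440536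
def n219343 : Q := act 5 n191242
theorem D219343 : act 5 n191242 = n219343 := rfl
theorem F498377 : act 2 n219343 = n219322 := d2_1 D219343 (iv5 D219322) (iv2 F382721)
theorem F498378 : act 3 n219343 = n207511 := d6_1 D219343 (iv5 F445406) F445404
theorem F498379 : act 4 n219343 = n205472 := d9_1 D219343 (iv5 F436958) (iv4 F438518) F438519 F204188 F355416 F373556 D207613 F445680 F438900 F438898 (iv5 F322389) F204410 (iv5 F355424) D191242
theorem F498380 : act 6 n219343 = n205354 := d12_2 (iv6 F382725) D219343 (iv5 F437115) F437119 (iv5 F349606)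
theorem F498381 : act 7 n219343 = n219324 := d13_2 (iv7 F382722) D219343 (iv5 D219324)
def n219344 : Q := act 1 n191246
theorem D219344 : act 1 n191246 = n219344 := rfl
theorem F498382 : act 1 n219344 = n191255 := d15_1 D219344 (iv7 D191255) (iv2 F382734)
theorem F498383 : act 7 n219344 = n191253 := d15_2 (iv0 F382737) D219344 (iv2 F382764)
theorem F498384 : act 4 n219344 = n194203 := d17_9 (iv1 F479266) (iv5 F494129) F494345 F494343 D218536 F494350 F475991 F474499 D219344
theorem F498385 : act 5 n219344 = n218693 := d18_9 F495192 (iv4 F480972) F474472 (iv4 D214303) (iv5 F413687) D215296 F494201 F494198 D219344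
theorem F498386 : act 3 n219003 = n219344 := d20_3 (iv4 F399904) (iv1 F495303) F496628 (iv1 D219344) F382735 (iv4 F370145) F370148 F360347 F350475 (iv1 F289216)
theorem F498387 : act 6 n217184 = n219344 := d21_3 F484112 (iv1 F408300) D217184 (iv1 D219344) (iv6 D191246) (iv5 D97470) F136693 D95559 (iv6 F377973) F484116
theorem F498388 : act 2 n219344 = n191254 := d0_1 F498386 (iv3 F382762) (iv2 F378600) D190529 D219003
def n219345 : Q := act 0 n191251
theorem D219345 : act 0 n191251 = n219345 := rfl
theorem F498389 : act 5 n219345 = n216841 := d17_1 D219345 F486163 F447490 (iv4 D200808) (iv5 D113504) D113503 (iv5 F382778) (iv0 D191258) (iv4 F382758)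
theorem F498390 : act 4 n219345 = n214909 := d18_1 D219345 F494579 (iv4 D218578) (iv5 F493818) F493815 F376478 D216845 F486185 (iv5 F382759)
theorem F498391 : act 3 n219345 = n216813 := d20_5 (iv4 D191250) (iv1 D97473) D97474 D191251 D219345 F486029 F456087 (iv4 F494468) (iv3 F495268) F495271
theorem F498392 : act 6 n214908 = n219345 := d7_0 F498391 (iv6 D216813) (iv3 F477382)
theorem F498393 : act 7 n218460 = n219345 := d8_0 F498391 F494145 (iv3 F494143)
def n219346 : Q := act 1 n191251
theorem D219346 : act 1 n191251 = n219346 := rfl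
theorem F498394 : act 5 n219346 = n207207 := d17_7 F366145 F164431 F82934 (iv5 F144850) (iv4 F376798) (iv5 F382759) D219346 (iv0 F447491) (iv4 D208023)
theorem F498395 : act 4 n219346 = n207480 := d18_7 (iv1 D216072) F280704 F334631 (iv4 F323709) (iv5 F294071) (iv4 F382758) D219346 F494580 F494578
theorem F498396 : act 2 n218460 = n219346 := d1_3 F498395 (iv2 F445336) (iv4 F494001)
theorem F498397 : act 6 n207479 = n219346 := d10_0 F498395 (iv6 D207480) D207479
def n219347 : Q := act 7 n191252
theorem D219347 : act 7 n191252 = n219347 := rfl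
theorem F498398 : act 2 n219347 = n209919 := d4_1 D219347 (iv7 F494199) F494197
theorem F498399 : act 4 n219347 = n191255 := d11_1 D219347 (iv7 D191255) (iv4 F382760)
theorem F498400 : act 6 n219347 = n209910 := d14_1 D219347 (iv7 F483124) (iv6 D216132) (iv7 F294714) D191252
theorem F498401 : act 1 n215298 = n219347 := d15_1 (iv0 F494200) (iv7 D219347) (iv2 F494197)
theorem F498402 : act 1 n219347 = n215296 := d15_1 F498401 F479268 (iv2 F479271)
def n219348 : Q := act 6 n191254
theorem D219348 : act 6 n191254 = n219348 := rfl
theorem F498403 : act 2 n219348 = n217184 := d3_1 D219348 F498387 F498388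
theorem F498404 : act 3 n219348 = n203786 := d7_1 D219348 F429805 F382762
theorem F498405 : act 5 n219348 = n193989 := d12_1 D219348 F391652 (iv5 F380547) (iv6 F477503) F477505
theorem F498406 : act 7 n217183 = n219348 := d13_0 F498405 F391653 D217183
theorem F498407 : act 0 n218675 = n219348 := d17_2 (iv1 F380520) D218675 F498405 (iv4 D193989) (iv5 F354692) F211383 D134339 F445258 F445255
theorem F498408 : act 1 n215186 = n219348 := d17_6 (iv1 F367293) (iv5 F367294) (iv1 D134539) D134541 F355350 D215186 F498405 (iv0 F391655) F368715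
def n219349 : Q := act 1 n191257
theorem D219349 : act 1 n191257 = n219349 := rfl
theorem F498409 : act 1 n219349 = n219042 := d15_1 D219349 F496852 F495135
theorem F498410 : act 7 n219349 = n215289 := d15_2 (iv0 F407661) D219349 F479234
theorem F498411 : act 4 n219349 = n192809 := d17_9 F387864 (iv5 F380924) (iv1 F484210) F484206 F413751 (iv5 F386657) F461108 F461106 D219349
theorem F498412 : act 6 n215477 = n219349 := d21_9 (iv5 F461106) (iv1 F461108) F386657 (iv6 D140701) D140698 D211115 F460157 D213692 F480163 (iv1 D219349)
theorem F498413 : act 2 n215291 = n219349 := d1_3 F498411 F387862 D215291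
def n219350 : Q := act 0 n191265
theorem D219350 : act 0 n191265 = n219350 := rfl
theorem F498414 : act 4 n219350 = n192039 := d18_1 D219350 (iv1 F484592) F484589 F475212 F475210 D214448 (iv4 F475220) (iv0 F458239) F428192
theorem F498415 : act 3 n219350 = n210529 := d20_5 F239381 (iv1 F186820) (iv4 F239731) (iv3 F382816) D219350 F457938 F457525 F409305 (iv3 D152291) D152289
theorem F498416 : act 6 n219350 = n192039 := d21_5 F100034 (iv1 F219717) (iv5 F219760) (iv6 F382817) D219350 (iv5 F458515) F458518 (iv5 F454165) (iv6 D209567) (iv1 F219785)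
theorem F498417 : act 5 n219350 = n215823 := d21_8 (iv5 D191271) F157377 (iv5 F343276) (iv6 D118903) D118900 D203414 F428192 D219350 F481697 (iv1 F392015)
theorem F498418 : act 2 n192045 = n219350 := d15_3 (iv0 D219350) (iv0 F484629) F484628
theorem F498419 : act 1 n192048 = n219350 := d15_0 (iv0 D219350) (iv7 F420689) (iv2 F420690)
theorem F498420 : act 7 n219350 = n192046 := d15_2 F484630 F498419 (iv2 F484626)
def n219351 : Q := act 5 n191268
theorem D219351 : act 5 n191268 = n219351 := rfl
theorem F498421 : act 2 n219351 = n192027 := d2_1 D219351 (iv5 D192027) (iv2 F382831)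
theorem F498422 : act 3 n219351 = n203324 := d6_1 D219351 (iv5 D203324) (iv3 F382832)
theorem F498423 : act 6 n219351 = n210836 := d12_2 (iv6 F382833) D219351 (iv5 D210836) F359207 F382830
theorem F498424 : act 7 n219351 = n203401 := d13_2 (iv7 F382834) D219351 (iv5 D203401)
theorem F498425 : act 0 n219351 = n209829 := d17_2 (iv1 F382835) D219351 F455091 F426768 F356323 (iv0 D99519) D99521 F365275 (iv4 F218755)
theorem F498426 : act 1 n219351 = n209223 := d17_6 (iv1 F154220) (iv5 D87930) F157750 D97953 D191268 D219351 F452775 (iv0 F386793) (iv4 D192487)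
def n219352 : Q := act 6 n191269
theorem D219352 : act 6 n191269 = n219352 := rfl
theorem F498427 : act 3 n219352 = n191274 := d7_1 D219352 (iv6 D191274) (iv3 F382837)
def n219353 : Q := act 6 n191271
theorem D219353 : act 6 n191271 = n219353 := rfl
theorem F498428 : act 2 n219353 = n216422 := d3_1 D219353 (iv6 D216422) (iv2 F382842)
theorem F498429 : act 3 n219353 = n218689 := d7_1 D219353 (iv6 D218689) (iv3 F382843)
def n219354 : Q := act 5 n191272
theorem D219354 : act 5 n191272 = n219354 := rfl
theorem F498430 : act 2 n219354 = n191474 := d2_1 D219354 (iv5 F383536) (iv2 F382845)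
theorem F498431 : act 3 n219354 = n191725 := d6_1 D219354 F384281 (iv3 F382846)
theorem F498432 : act 4 n219354 = n216139 := d9_1 D219354 (iv5 F483148) F384358 D191759 F384372 (iv5 F295167) (iv4 F371010) (iv5 F486878) F486880 F483141 F451386 (iv5 F431628) F430819 (iv5 F283244) (iv4 F382847)
theorem F498433 : act 7 n219354 = n191473 := d13_2 F386327 D219354 F386329
theorem F498434 : act 0 n219354 = n191468 := d17_2 (iv1 F386336) D219354 (iv5 D191468) F151809 D98381 D191474 (iv5 F383536) F289911 (iv4 F386334)
theorem F498435 : act 1 n219354 = n191476 := d17_6 (iv1 F135749) (iv5 F288516) (iv1 F288517) (iv5 F283244) (iv4 F382847) D219354 F383538 F353212 (iv4 D181942)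
def n219355 : Q := act 0 n191273
theorem D219355 : act 0 n191273 = n219355 := rfl
theorem F498436 : act 5 n219355 = n191488 := d17_1 D219355 F484331 (iv5 D216428) (iv4 D183775) (iv5 F285254) (iv0 D183528) (iv5 F135145) (iv0 F157660) D191273
theorem F498437 : act 4 n219355 = n191490 := d18_1 D219355 F383561 (iv4 F428156) (iv5 F484380) F484381 (iv0 D208295) (iv4 F216921) F406330 (iv5 F382865)
theorem F498438 : act 2 n210241 = n219355 := d15_3 (iv0 D219355) (iv0 F485677) F485676
theorem F498439 : act 1 n191276 = n219355 := d15_0 (iv0 D219355) (iv7 F382864) F382862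
theorem F498440 : act 7 n219355 = n210240 := d15_2 F485678 F498439 (iv2 F485674)
theorem F498441 : act 1 n191488 = n216433 := d17_8 F484359 (iv5 F485213) (iv1 F485215) F485208 F456623 F382861 F498439 F498436 (iv4 F484356)
theorem F498442 : act 6 n191490 = n219355 := d21_3 F428207 F383390 D191490 (iv1 F498439) F382860 (iv5 D118894) (iv1 D54719) D54721 D118903 D203418
theorem F498443 : act 3 n219355 = n191492 := d7_1 F498442 F383567 (iv3 F383560)
def n219356 : Q := act 3 n191273
theorem D219356 : act 3 n191273 = n219356 := rfl
theorem F498444 : act 5 n219356 = n210229 := d6_2 (iv5 F382865) D219356 F456655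
theorem F498445 : act 7 n219356 = n210228 := d8_2 F382864 D219356 F456653
def n219357 : Q := act 6 n191278
theorem D219357 : act 6 n191278 = n219357 := rfl
theorem F498446 : act 3 n219357 = n191280 := d7_1 D219357 (iv6 D191280) D191278
theorem F498447 : act 5 n219357 = n199379 := d12_1 D219357 (iv6 F465052) (iv5 F465056) (iv6 F486737) F486736
theorem F498448 : act 7 n219357 = n199378 := d14_2 (iv7 F382866) D219357 F411909 F484349 (iv6 D216431)
theorem F498449 : act 0 n198065 = n219357 := d21_7 (iv5 F349218) F158453 (iv5 F349994) F349995 (iv1 D108900) (iv6 F168891) D198065 F498447 (iv6 F465052) (iv1 F465055)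
def n219358 : Q := act 3 n191279
theorem D219358 : act 3 n191279 = n219358 := rfl
theorem F498450 : act 2 n219358 = n193572 := d0_1 D219358 (iv3 D193572) F338096 (iv3 F364216) (iv2 F382867)
theorem F498451 : act 7 n219358 = n216432 := d8_2 (iv7 F382868) D219358 (iv3 D216432)
theorem F498452 : act 5 n217053 = n219358 := d2_0 F498450 F489883 F489884
def n219359 : Q := act 5 n191279
theorem D219359 : act 5 n191279 = n219359 := rfl
theorem F498453 : act 2 n219359 = n216428 := d2_1 D219359 (iv5 D216428) (iv2 F382867)
theorem F498454 : act 3 n219359 = n217053 := d6_1 D219359 F498452 (iv3 D219358)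
theorem F498455 : act 7 n219359 = n216433 := d13_2 (iv7 F382868) D219359 (iv5 D216433)
theorem F498456 : act 4 n219359 = n216413 := d16_2 D191279 D219359 F484263 (iv4 F428208) F428207 F383378 F289295 F289299 (iv2 F289301)
theorem F498457 : act 1 n219359 = n210197 := d17_6 F157644 F157123 (iv1 F289370) F289367 D191279 D219359 F456708 F456705 (iv4 D183758)
theorem F498458 : act 6 n219359 = n210207 := d21_3 (iv5 F484557) F484560 D219359 (iv1 D210207) (iv6 D137908) F103080 F169573 (iv5 F169671) D137977 F448718
def n219360 : Q := act 6 n191279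
theorem D219360 : act 6 n191279 = n219360 := rfl
theorem F498459 : act 2 n219360 = n216429 := d3_1 D219360 (iv6 D216429) (iv2 F382867)
theorem F498460 : act 4 n219360 = n191280 := d10_1 D219360 (iv6 D191280) D191279
theorem F498461 : act 7 n219360 = n215762 := d14_2 (iv7 F382868) D219360 (iv6 D215762) (iv7 F433170) F433178
theorem F498462 : act 0 n219360 = n215839 := d21_4 (iv5 F456708) (iv1 F498457) (iv5 D219359) D219360 F481744 F458267 (iv1 F458211) (iv5 F484312) (iv6 D216423) (iv1 F456705)
def n219361 : Q := act 5 n191282
theorem D219361 : act 5 n191282 = n219361 := rfl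
theorem F498463 : act 2 n219361 = n216433 := d2_1 D219361 (iv5 D216433) (iv2 F382871)
theorem F498464 : act 3 n219361 = n193574 := d6_1 D219361 (iv5 D193574) (iv3 F382873)
theorem F498465 : act 4 n219361 = n216412 := d9_1 D219361 F484260 (iv4 F428219) (iv5 F428218) F383557 F289367 D191279 D219359 F498456 F484263 (iv4 F428208) F428207 F383378 F289295 D191282
theorem F498466 : act 6 n219361 = n204152 := d12_2 (iv6 F433176) D219361 F431217 F431100 (iv5 F403503)
theorem F498467 : act 7 n219361 = n216428 := d13_2 (iv7 F382872) D219361 (iv5 D216428)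
theorem F498468 : act 0 n219361 = n210197 := d17_2 (iv1 F450200) D219361 F456708 F456706 F390537 (iv0 F383553) (iv5 F484369) F484371 (iv4 F450198)
def n219362 : Q := act 3 n191285
theorem D219362 : act 3 n191285 = n219362 := rfl
theorem F498469 : act 4 n219362 = n213941 := d5_2 F428208 D219362 (iv3 D213941) (iv4 F383397) (iv3 F428209)
theorem F498470 : act 6 n219362 = n215566 := d7_2 F444986 D219362 (iv3 D215566)
theorem F498471 : act 7 n219362 = n216434 := d8_2 (iv7 F428212) D219362 (iv3 D216434)
theorem F498472 : act 0 n219362 = n191503 := d19_4 F485682 (iv5 F428207) F428208 D219362 (iv5 F449066) F449065 F437832 (iv1 F445794) (iv5 F497577) (iv4 D219176) (iv3 D190892) (iv1 F149626) (iv5 F149684) (iv4 D97038) F328160 (iv1 F166091) D136088 F346050 (iv3 F485680)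
theorem F498473 : act 0 n208730 = n219362 := d20_4 D208860 F451142 (iv4 D208731) (iv3 F450608) (iv3 D219362) (iv4 F428208) (iv1 F428210) F448792 F448788 (iv1 F217386)
def n219363 : Q := act 6 n191291
theorem D219363 : act 6 n191291 = n219363 := rfl
theorem F498474 : act 2 n219363 = n193023 := d3_1 D219363 F388538 F382905
theorem F498475 : act 3 n219363 = n213048 := d7_1 D219363 F468770 F382906
theorem F498476 : act 4 n219363 = n213915 := d10_1 D219363 (iv6 D213915) (iv4 F382904)
theorem F498477 : act 5 n219363 = n192968 := d12_1 D219363 (iv6 D192968) (iv5 F375545) F375543 (iv5 F382903)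
theorem F498478 : act 7 n219363 = n209486 := d14_2 (iv7 F382902) D219363 (iv6 F453899) F449838 (iv6 D193780)
theorem F498479 : act 0 n219363 = n193561 := d21_4 F382925 F375569 (iv5 F382903) D219363 (iv6 D193561) (iv5 D101919) (iv1 F314166) D124702 F199507 (iv1 F382927)
theorem F498480 : act 0 n193786 = n219363 := d21_4 (iv5 D155375) D155373 (iv5 F346082) D193786 (iv6 D219363) F382903 (iv1 D186549) (iv5 F136231) D102350 F346064
def n219364 : Q := act 7 n191293
theorem D219364 : act 7 n191293 = n219364 := rfl
theorem F498481 : act 2 n219364 = n209827 := d4_1 D219364 F473270 F473265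
theorem F498482 : act 3 n219364 = n191295 := d8_1 D219364 (iv7 D191295) (iv3 F382912)
theorem F498483 : act 4 n219364 = n212763 := d11_1 D219364 F472577 F472576
theorem F498484 : act 5 n219364 = n217236 := d13_1 D219364 (iv7 D217236) (iv5 F382913)
theorem F498485 : act 6 n219364 = n193785 := d14_1 D219364 (iv7 D193785) (iv6 D102325) (iv7 F151005) D191293
theorem F498486 : act 1 n209225 = n219364 := d15_1 F473268 (iv7 D219364) (iv2 F473265)
theorem F498487 : act 1 n219364 = n209828 := d15_1 F498486 (iv7 D209828) (iv2 F452784)
def n219365 : Q := act 6 n191296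
theorem D219365 : act 6 n191296 = n219365 := rfl
theorem F498488 : act 2 n219365 = n191297 := d3_1 D219365 (iv6 D191297) D191296
theorem F498489 : act 3 n219365 = n192820 := d7_1 D219365 (iv6 D192820) (iv3 F382924)
theorem F498490 : act 5 n219365 = n218316 := d12_1 D219365 (iv6 D218316) (iv5 D189043) D189044 (iv5 F382925)
theorem F498491 : act 7 n219365 = n193802 := d14_2 (iv7 F382926) D219365 (iv6 D193802) (iv7 F382934) F382933
theorem F498492 : act 0 n210826 = n219365 := d21_4 (iv5 F422883) F458928 (iv5 F458927) (iv6 F458933) (iv6 D219365) F382925 F375569 (iv5 F382903) D219363 F498479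
theorem F498493 : act 0 n219365 = n216677 := d20_4 F470617 F368543 (iv4 F387899) (iv3 F498489) (iv3 D216677) D216678 F485442 F482186 F482183 F470620
theorem F498494 : act 5 n216692 = n217235 := d21_6 F382895 F375570 (iv5 F382925) D219365 F498493 (iv6 F485491) (iv1 D217235) (iv5 F382913) (iv6 D191293) D191290
theorem F498495 : act 3 n217235 = n216217 := d6_1 F498494 F484402 D216692
theorem F498496 : act 4 n217235 = n216808 := d20_6 (iv4 D40392) D40390 D86992 D182196 D216217 (iv3 F498495) F486004 (iv4 D216231) (iv3 D182213) (iv1 D86998)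
theorem F498497 : act 6 n216807 = n217235 := d10_0 F498496 (iv6 D216808) D216807
theorem F498498 : act 0 n216692 = n193567 := d21_7 F427400 (iv1 F280156) F280155 D213337 F486001 F498497 (iv5 F498494) (iv5 F427412) (iv6 D203208) D203205
def n219366 : Q := act 0 n191297
theorem D219366 : act 0 n191297 = n219366 := rfl
theorem F498499 : act 5 n219366 = n209998 := d21_8 (iv5 F476922) (iv1 F487977) F487973 (iv6 D191967) F343914 D189047 (iv5 F382930) D219366 (iv6 F473607) F473609
theorem F498500 : act 3 n210840 = n219366 := d6_3 F498499 F464470 (iv5 F458967)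
theorem F498501 : act 7 n210826 = n219366 := d13_0 F498499 F464472 D210826
theorem F498502 : act 0 n219366 = n193802 := d21_1 (iv5 F498499) (iv5 F411562) (iv6 D199301) F352630 F365538 (iv5 D136015) F99488 (iv5 F100432) D137232 D209998
theorem F498503 : act 2 n219366 = n216677 := d15_3 (iv0 F498493) (iv0 F498492) F498501
def n219367 : Q := act 1 n191297
theorem D219367 : act 1 n191297 = n219367 := rfl
theorem F498504 : act 1 n219367 = n193802 := d15_1 D219367 (iv7 F498491) F498488
theorem F498505 : act 7 n219367 = n216677 := d15_2 (iv0 D219366) D219367 (iv2 F498503)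
theorem F498506 : act 3 n216674 = n219367 := d19_19 (iv1 D219367) F382930 (iv4 F410762) (iv3 F493241) (iv1 D218309) (iv5 D189016) F143466 (iv3 F143458) D189011 F375401 F319324 (iv3 F229236) (iv1 F393550) (iv5 F393552) (iv4 F426977) F473812 (iv1 D214167) (iv5 F428263) (iv4 F485427)
theorem F498507 : act 5 n209999 = n219367 := d21_6 (iv5 D99428) F153161 (iv5 F375603) (iv6 F402179) F402182 F455690 (iv1 D219367) F382930 (iv6 D189047) F357589
theorem F498508 : act 2 n219367 = n210826 := d2_1 F498507 (iv5 D210826) (iv2 F455691)
def n219368 : Q := act 7 n191297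
theorem D219368 : act 7 n191297 = n219368 := rfl
theorem F498509 : act 2 n219368 = n193802 := d4_1 D219368 (iv7 F498491) F498488
theorem F498510 : act 3 n219368 = n191299 := d8_1 D219368 (iv7 D191299) (iv3 F382929)
theorem F498511 : act 5 n219368 = n199116 := d13_1 D219368 F410744 (iv5 F382930)
theorem F498512 : act 6 n219368 = n193801 := d14_1 D219368 (iv7 D193801) (iv6 D102350) (iv7 F151033) D191297
theorem F498513 : act 1 n210826 = n219368 := d15_1 (iv0 F498492) (iv7 D219368) (iv2 F498488)
theorem F498514 : act 1 n219368 = n216677 := d15_1 F498513 (iv7 F498505) F498508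
def n219369 : Q := act 0 n191303
theorem D219369 : act 0 n191303 = n219369 := rfl
theorem F498515 : act 5 n219369 = n191996 := d17_3 F485988 F485989 D219369 (iv4 D191996) (iv5 D99486) (iv0 F294868) D188135 F372434 D191998
theorem F498516 : act 4 n219369 = n192262 := d18_1 D219369 F480675 F480672 (iv5 D192002) (iv4 D99490) D99489 D192000 (iv0 F485987) F485989
theorem F498517 : act 3 n219369 = n203367 := d20_5 F471130 F485515 (iv4 F485992) F485990 D219369 F428059 (iv1 F251016) (iv4 F474932) (iv3 F485511) F485514
theorem F498518 : act 6 n219369 = n203415 := d21_5 F290981 F290701 (iv5 F151046) D191303 D219369 F428193 D206374 F440483 F388662 F157130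
theorem F498519 : act 1 n193546 = n219369 := d15_0 (iv0 D219369) (iv7 F480667) F480665
theorem F498520 : act 2 n193753 = n219369 := d3_3 F498518 F485652 (iv6 F485653)
theorem F498521 : act 7 n193754 = n219369 := d15_2 (iv0 D193753) D193754 (iv2 F498520)
def n219370 : Q := act 1 n191303
theorem D219370 : act 1 n191303 = n219370 := rfl
theorem F498522 : act 1 n219370 = n193546 := d15_1 D219370 F390217 (iv2 F382956)
theorem F498523 : act 7 n219370 = n193753 := d15_2 (iv0 D219369) D219370 F498520
theorem F498524 : act 4 n219370 = n192263 := d17_9 (iv1 D192263) F153873 D102408 D193861 (iv4 F485628) F485629 (iv0 F485987) F485989 D219370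
theorem F498525 : act 5 n219370 = n191991 := d18_9 F492426 F492422 (iv1 F387194) D194404 (iv5 F453894) (iv4 D209485) (iv0 F346670) (iv4 F382957) D219370
theorem F498526 : act 2 n193754 = n219370 := d2_3 F498525 (iv2 F491182) F491184
def n219371 : Q := act 3 n191304
theorem D219371 : act 3 n191304 = n219371 := rfl
theorem F498527 : act 2 n219371 = n209782 := d0_1 D219371 (iv3 F454939) (iv2 F220132) F359414 (iv2 F382961)
theorem F498528 : act 5 n219371 = n194413 := d6_2 F382960 D219371 (iv3 D194413)
theorem F498529 : act 6 n219371 = n193749 := d7_2 (iv6 F491517) D219371 F491516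
theorem F498530 : act 7 n219371 = n193748 := d8_2 (iv7 F382959) D219371 (iv3 D193748)
theorem F498531 : act 4 n219371 = n193750 := d20_6 (iv4 F471227) (iv1 D213598) F242500 (iv3 F310857) (iv1 F382958) D219371 F485648 F485645 F287576 D185316
theorem F498532 : act 1 n192825 = n219371 := d17_8 F485648 F485646 F484795 F388660 (iv4 F388661) F220118 (iv0 F347040) (iv5 F387915) F498531
theorem F498533 : act 0 n209777 = n219371 := d18_0 F498531 F485648 F485645 (iv5 F394251) F394250 (iv0 F353019) F331264 D136922 D209777
def n219372 : Q := act 4 n191304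
theorem D219372 : act 4 n191304 = n219372 := rfl
theorem F498534 : act 2 n219372 = n193751 := d1_1 D219372 (iv4 D193751) (iv2 F382961)
theorem F498535 : act 5 n219372 = n192596 := d9_2 F382960 D219372 (iv4 D192596) (iv5 D100437) (iv4 F147090) (iv5 F352881) F165087 D136526 D209485 F453894 (iv4 D194404) (iv5 D103341) F75165 D47894 D103354
theorem F498536 : act 7 n219372 = n193749 := d11_2 (iv7 F382959) D219372 (iv4 D193749)
theorem F498537 : act 0 n219372 = n193795 := d17_0 (iv5 F391029) F372703 D217965 F491459 (iv5 D192164) (iv0 D99813) (iv5 F151050) D191304 D219372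
theorem F498538 : act 3 n219372 = n217602 := d20_3 (iv4 D193546) (iv1 F382958) D219372 F489742 F487795 F474940 F250995 (iv4 F428059) (iv3 F498517) (iv1 F498519)
def n219373 : Q := act 0 n191307
theorem D219373 : act 0 n191307 = n219373 := rfl
theorem F498539 : act 4 n219373 = n216419 := d18_1 D219373 (iv1 F484295) (iv4 D213665) (iv5 D154650) F302828 F301619 D186676 (iv0 F367638) F382980
theorem F498540 : act 6 n219373 = n210426 := d21_5 F485568 F428925 (iv5 F426827) (iv6 F426829) D219373 (iv5 D210426) (iv1 F434400) (iv5 F458964) (iv6 F458966) (iv1 F485566)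
theorem F498541 : act 1 n192554 = n219373 := d15_0 (iv0 D219373) F382979 (iv2 F387048)
theorem F498542 : act 3 n204051 = n219373 := d7_3 F498540 F471350 F471346
theorem F498543 : act 2 n219373 = n194116 := d0_1 F498542 F467370 F390276 (iv3 F430752) F430905
theorem F498544 : act 7 n219373 = n194115 := d8_2 F430906 F498542 (iv3 F392102)
def n219374 : Q := act 1 n191307
theorem D219374 : act 1 n191307 = n219374 := rfl
theorem F498545 : act 1 n219374 = n192554 := d15_1 D219374 (iv7 F475919) F475915
theorem F498546 : act 7 n219374 = n194116 := d15_2 (iv0 D219373) D219374 (iv2 F498543)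
theorem F498547 : act 4 n219374 = n193779 := d17_9 F392097 (iv5 D183754) D183753 D216418 (iv4 F487065) (iv5 D217034) (iv0 F367638) F382980 D219374
theorem F498548 : act 3 n193558 = n219374 := d20_3 D149131 (iv1 F431846) (iv4 F423440) (iv1 D219374) F382978 F338147 D203908 (iv4 F431637) F431639 (iv1 F234497)
theorem F498549 : act 2 n219374 = n194115 := d0_1 F498548 (iv3 F392102) (iv2 F430910) F430911 (iv2 F390279)
def n219375 : Q := act 5 n191309
theorem D219375 : act 5 n191309 = n219375 := rfl
theorem F498550 : act 2 n219375 = n194103 := d2_1 D219375 (iv5 D194103) F390235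
theorem F498551 : act 3 n219375 = n216796 := d6_1 D219375 (iv5 D216796) (iv3 F390255)
theorem F498552 : act 6 n219375 = n217278 := d12_2 (iv6 F382985) D219375 (iv5 D217278) (iv6 D187090) D187089
theorem F498553 : act 7 n219375 = n194106 := d13_2 (iv7 F390237) D219375 (iv5 D194106)
theorem F498554 : act 0 n219375 = n191446 := d17_2 D191309 D219375 F383496 F421427 D213645 (iv0 F471434) (iv5 F485265) F485266 F370378
def n219376 : Q := act 3 n191310
theorem D219376 : act 3 n191310 = n219376 := rfl
theorem F498555 : act 2 n219376 = n216794 := d0_1 D219376 (iv3 D216794) (iv2 F392066) (iv3 D194105) F390233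
theorem F498556 : act 7 n219376 = n194102 := d8_2 F390234 D219376 (iv3 D194102)
theorem F498557 : act 0 n219376 = n192244 := d20_4 F382917 (iv1 F390228) (iv4 F390232) D219376 (iv3 F484306) F484307 (iv1 D213619) (iv4 F390971) (iv3 D193772) (iv1 F382923)
theorem F498558 : act 4 n216655 = n219376 := d20_8 (iv4 F370378) (iv1 F485266) (iv4 D216631) (iv3 D185068) (iv1 F135152) D88238 (iv4 F287494) D216655 (iv3 D219376) (iv1 D191310)
theorem F498559 : act 2 n216607 = n216655 := d1_3 F498558 F498555 F485939
theorem F498560 : act 7 n216606 = n216655 := d11_0 F498558 F498556 (iv4 F485151)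
theorem F498561 : act 2 n216606 = n216656 := d15_3 F485348 F485343 (iv7 F498560)
theorem F498562 : act 7 n216656 = n216607 := d4_2 (iv7 F498560) F498561 F498559
def n219377 : Q := act 6 n191310
theorem D219377 : act 6 n191310 = n219377 := rfl
theorem F498563 : act 2 n219377 = n194107 := d3_1 D219377 (iv6 D194107) F390233
theorem F498564 : act 4 n219377 = n217972 := d10_1 D219377 (iv6 F491493) (iv4 F390232)
theorem F498565 : act 5 n219377 = n194412 := d12_1 D219377 F393103 F391543 D217305 F488354
theorem F498566 : act 7 n219377 = n217276 := d14_2 F390234 D219377 (iv6 D217276) F392063 (iv6 D194104)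
theorem F498567 : act 0 n219377 = n193861 := d21_4 (iv5 F383496) F488355 F488354 D219377 F485626 F485623 F457871 (iv5 D192823) (iv6 F387884) F392070
theorem F498568 : act 0 n193863 = n219377 := d17_0 F498565 (iv1 F488253) F488254 F488251 (iv5 F491184) F491187 (iv5 F483938) D216800 (iv4 F485971)
def n219378 : Q := act 5 n191317
theorem D219378 : act 5 n191317 = n219378 := rfl
theorem F498569 : act 2 n219378 = n191320 := d2_1 D219378 (iv5 D191320) (iv2 F383024)
theorem F498570 : act 6 n219378 = n194910 := d12_2 (iv6 F402449) D219378 (iv5 F402452) (iv6 D196959) D196958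
theorem F498571 : act 7 n219378 = n218485 := d13_2 (iv7 F383025) D219378 (iv5 D218485)
theorem F498572 : act 4 n219378 = n215694 := d16_2 D191317 D219378 (iv5 D215694) F276263 F129395 F63761 (iv5 F129395) F129396 (iv2 F151163)
theorem F498573 : act 0 n219378 = n217478 := d17_2 F474523 D219378 F489067 (iv4 F415773) F415772 (iv0 F288977) (iv5 F376753) F377088 (iv4 F474520)
theorem F498574 : act 1 n219378 = n218614 := d17_6 D94140 F335768 (iv1 F135810) D98038 D191317 D219378 (iv5 D218614) (iv0 D189617) (iv4 D94142)
def n219379 : Q := act 4 n191324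
theorem D219379 : act 4 n191324 = n219379 := rfl
theorem F498575 : act 2 n219379 = n203487 := d1_1 D219379 F428515 (iv2 F383046)
theorem F498576 : act 5 n219379 = n191521 := d9_2 D191324 D219379 (iv4 F463550) F463553 F432109 (iv5 D157478) F112469 (iv5 F86833) (iv4 F187740) (iv5 F393810) (iv4 F463559) F463560 F432114 (iv5 D150124) (iv4 F151189)
theorem F498577 : act 6 n219379 = n203422 := d10_2 (iv6 F383048) D219379 (iv4 D203422)
theorem F498578 : act 7 n219379 = n203266 := d11_2 (iv7 F383049) D219379 F427573
theorem F498579 : act 0 n219379 = n203491 := d17_0 (iv5 F461677) F461678 (iv5 D202709) F181755 (iv5 F320424) (iv0 F121503) (iv5 F311807) (iv0 F383050) D219379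
theorem F498580 : act 1 n219379 = n203490 := d18_6 F386538 (iv4 D192349) F275042 (iv4 F151189) D191324 D219379 (iv4 F467566) (iv0 D212798) F236015
theorem F498581 : act 3 n219379 = n191522 := d19_3 F305752 D191324 D219379 (iv1 F385546) (iv5 D192100) (iv4 D99702) F327698 (iv1 F179691) (iv5 F362714) F236264 F192146 F190711 (iv5 D73029) (iv4 F190649) F315757 (iv1 F314872) (iv5 D62466) (iv4 F208983) D71766
def n219380 : Q := act 1 n191327
theorem D219380 : act 1 n191327 = n219380 := rfl
theorem F498582 : act 1 n219380 = n218787 := d15_1 D219380 F495658 F479311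
theorem F498583 : act 5 n219380 = n194265 := d17_7 (iv1 F394959) (iv5 F381675) (iv1 F381678) (iv5 D183221) (iv4 F151220) D191327 D219380 F392575 (iv4 F394955)
theorem F498584 : act 3 n214538 = n219380 := d20_3 (iv4 F475625) (iv1 F475627) (iv4 F475683) (iv1 D219380) F383064 D191329 (iv1 F430800) (iv4 D204005) F290088 (iv1 F287639)
theorem F498585 : act 2 n219380 = n216136 := d0_1 F498584 (iv3 D216136) (iv2 F285532) (iv3 F484302) F484301
def n219381 : Q := act 6 n191328
theorem D219381 : act 6 n191328 = n219381 := rfl
theorem F498586 : act 2 n219381 = n193845 := d3_1 D219381 (iv6 D193845) F383067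
theorem F498587 : act 3 n219381 = n216208 := d7_1 D219381 (iv6 D216208) F383070
theorem F498588 : act 5 n219381 = n213449 := d12_1 D219381 F470451 (iv5 D188287) F295077 (iv5 F383066)
theorem F498589 : act 0 n208386 = n219381 := d21_4 (iv5 F329398) F217084 (iv5 F216281) D208386 (iv6 D219381) F383066 (iv1 F157212) (iv5 F368917) (iv6 F368919) (iv1 D170661)
theorem F498590 : act 7 n213448 = n219381 := d13_0 F498588 (iv7 D213449) D213448
def n219382 : Q := act 6 n191330
theorem D219382 : act 6 n191330 = n219382 := rfl
theorem F498591 : act 2 n219382 = n217967 := d3_1 D219382 (iv6 D217967) (iv2 F383072)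
theorem F498592 : act 3 n219382 = n191332 := d7_1 D219382 (iv6 D191332) (iv3 F383073)
theorem F498593 : act 4 n219382 = n207769 := d10_1 D219382 F485934 (iv4 F485933)
theorem F498594 : act 5 n219382 = n199273 := d12_1 D219382 F411417 (iv5 F383078) (iv6 D191331) D191330
theorem F498595 : act 0 n219382 = n207914 := d21_10 F446974 (iv1 F424890) (iv5 F446098) (iv6 D207708) (iv1 F429704) (iv6 F429708) (iv5 D190208) F157298 D191330 D219382
theorem F498596 : act 0 n207919 = n219382 := d21_4 (iv5 D208653) F445948 (iv5 F445947) (iv6 F446990) (iv6 D219382) (iv5 D191330) (iv1 F294797) (iv5 F373068) (iv6 F450590) F450593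
theorem F498597 : act 7 n208714 = n219382 := d13_0 F498594 F411418 (iv5 F450540)
def n219383 : Q := act 1 n191337
theorem D219383 : act 1 n191337 = n219383 := rfl
theorem F498598 : act 5 n219383 = n197785 := d17_7 (iv1 F433804) (iv5 F434046) (iv1 F478963) F478964 (iv4 F410296) F410297 D219383 (iv0 F478955) (iv4 D215224)
theorem F498599 : act 4 n219383 = n218298 := d17_9 F493179 (iv5 F491668) (iv1 F493196) F493193 F489493 (iv5 F474301) (iv0 F474300) F410297 D219383
theorem F498600 : act 6 n198275 = n219383 := d21_3 F414849 F414847 F407438 (iv1 D219383) F383099 F364225 D199783 (iv5 F482530) F482904 F482902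
theorem F498601 : act 3 n215664 = n219383 := d6_3 F498598 (iv3 F405785) D215664
def n219384 : Q := act 3 n191338
theorem D219384 : act 3 n191338 = n219384 := rfl
theorem F498602 : act 2 n219384 = n212592 := d0_1 D219384 F466590 F231747 (iv3 F223919) (iv2 F383100)
theorem F498603 : act 4 n219384 = n193390 := d5_2 D191338 D219384 (iv3 D193390) (iv4 D101561) F155185
theorem F498604 : act 5 n219384 = n218729 := d6_2 (iv5 F383102) D219384 (iv3 D218729)
theorem F498605 : act 6 n219384 = n211138 := d7_2 (iv6 F383104) D219384 F460282
theorem F498606 : act 7 n219384 = n214433 := d8_2 (iv7 F383101) D219384 F475162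
theorem F498607 : act 0 n219384 = n208202 := d19_4 D45805 D98091 D191338 D219384 F448334 F430455 F430450 F215191 F363494 (iv4 F232204) F106501 F51609 (iv5 D16844) (iv4 D7853) D7852 F117239 F21768 (iv4 F29154) (iv3 F34398)
theorem F498608 : act 0 n208618 = n219384 := d20_4 (iv4 F375029) (iv1 F453881) F453878 F450182 (iv3 D219384) (iv4 D191338) F306350 D203737 F429612 (iv1 D188833)
def n219385 : Q := act 4 n191346
theorem D219385 : act 4 n191346 = n219385 := rfl
theorem F498609 : act 2 n219385 = n191350 := d1_1 D219385 (iv4 D191350) (iv2 F383139)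
theorem F498610 : act 3 n219385 = n211313 := d5_1 D219385 F461079 F385045 (iv4 F343435) (iv3 F383140)
theorem F498611 : act 5 n219385 = n219158 := d9_2 D191346 D219385 F497478 (iv5 D212892) (iv4 F344481) F276465 (iv4 F300731) D166202 (iv4 F394273) F394274 (iv4 F473958) F473956 F461771 (iv5 D177038) (iv4 F151259)
theorem F498612 : act 6 n219385 = n214774 := d10_2 (iv6 F383141) D219385 (iv4 D214774)
theorem F498613 : act 7 n219385 = n211319 := d11_2 F442699 D219385 F461100
theorem F498614 : act 1 n219385 = n211344 := d18_6 F479374 F479369 (iv1 D177037) (iv4 F151259) D191346 D219385 F461215 (iv0 F447333) F438697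
def n219386 : Q := act 4 n191347
theorem D219386 : act 4 n191347 = n219386 := rfl
theorem F498615 : act 2 n219386 = n206262 := d1_1 D219386 F439973 (iv2 F383143)
theorem F498616 : act 3 n219386 = n198046 := d5_1 D219386 F472709 (iv3 F472708) (iv4 D203506) (iv3 F383144)
theorem F498617 : act 6 n219386 = n198024 := d10_2 (iv6 F428642) D219386 (iv4 F428638)
theorem F498618 : act 7 n219386 = n203575 := d11_2 (iv7 F383145) D219386 (iv4 D203575)
theorem F498619 : act 5 n219386 = n204744 := d16_1 D219386 F473938 (iv5 D214193) F247447 F311910 (iv4 F343994) D191348 F383150 (iv2 F383143)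
theorem F498620 : act 0 n219386 = n214094 := d17_0 (iv5 F497635) F497633 (iv5 D211440) (iv4 F366178) (iv5 F365586) F342317 (iv5 F436456) (iv0 F436459) D219386
theorem F498621 : act 1 n219386 = n197544 := d18_6 F479373 F428764 (iv1 F189774) (iv4 F309895) D191347 D219386 F404758 (iv0 F403040) (iv5 F479370)
def n219387 : Q := act 0 n191350
theorem D219387 : act 0 n191350 = n219387 := rfl
theorem F498622 : act 5 n219387 = n218930 := d17_1 D219387 (iv1 F496241) F463289 (iv4 F428956) F428954 F342320 (iv5 F383152) (iv0 D191349) D191350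
theorem F498623 : act 4 n219387 = n194302 := d18_1 D219387 F392749 F204151 D141995 D211444 (iv0 F463807) (iv4 F483006) (iv0 F483008) F383157
theorem F498624 : act 3 n219387 = n194301 := d20_5 (iv4 D97038) D97036 F291804 (iv3 F383156) D219387 (iv4 D194301) F392712 (iv4 F377069) (iv3 D189599) (iv1 F293848)
theorem F498625 : act 1 n211319 = n219387 := d15_0 (iv0 D219387) (iv7 F394275) (iv2 F461099)
theorem F498626 : act 6 n206036 = n219387 := d7_0 F498624 F392744 (iv3 F438948)
theorem F498627 : act 7 n211344 = n219387 := d8_0 F498624 F392745 (iv3 F461214)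
def n219388 : Q := act 1 n191350
theorem D219388 : act 1 n191350 = n219388 := rfl
theorem F498628 : act 1 n219388 = n211319 := d15_1 D219388 (iv7 F498613) F498609
theorem F498629 : act 5 n219388 = n218931 := d17_7 F463255 F463251 F447048 F427592 F381831 F383157 D219388 (iv0 F496246) (iv4 D211858)
theorem F498630 : act 4 n219388 = n205953 := d17_9 (iv1 F478076) (iv5 D215049) (iv1 F357109) (iv5 F471898) F471897 (iv5 F483007) (iv0 F483008) F383157 D219388
theorem F498631 : act 2 n211344 = n219388 := d1_3 F498630 (iv2 F447329) (iv4 F461215)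
theorem F498632 : act 6 n205951 = n219388 := d10_0 F498630 (iv6 D205953) D205951
theorem F498633 : act 3 n219388 = n211373 := d20_3 (iv4 F204151) (iv1 F447318) (iv4 F498630) (iv1 D211373) (iv3 D141905) (iv4 F322936) F322136 D153610 (iv3 F366179) (iv1 D141993)
theorem E104047 : n211373 = n211353 := (c7_2 F498632 F498633 (iv6 D211353) (iv3 F438560))
theorem F498634 : act 0 n211353 = n141905 := (sb E104047 (iv1 D211373))
theorem F498635 : act 3 n211353 = n219388 := (sb E104047 (iv3 F498633))
def n219389 : Q := act 5 n191353
theorem D219389 : act 5 n191353 = n219389 := rfl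
theorem F498636 : act 2 n219389 = n219089 := d2_1 D219389 (iv5 D219089) (iv2 F383170)
theorem F498637 : act 3 n219389 = n193366 := d6_1 D219389 (iv5 F389596) (iv3 F383171)
theorem F498638 : act 7 n219389 = n216109 := d13_2 (iv7 F383172) D219389 (iv5 D216109)
theorem F498639 : act 4 n219389 = n212676 := d16_2 D191353 D219389 (iv5 D212676) F233581 F106102 (iv4 F209138) (iv5 F332879) F288738 (iv2 F288736)
theorem F498640 : act 0 n219389 = n209348 := d17_2 F395234 D219389 (iv5 F453348) F417178 F443837 F443766 F377574 (iv0 F362563) (iv4 F395232)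
theorem F498641 : act 1 n219389 = n201127 := d17_6 (iv1 D158093) (iv5 F249014) (iv1 F415855) (iv5 D191354) D191353 D219389 (iv5 F495049) (iv0 F495051) (iv4 D214315)
theorem F498642 : act 6 n219389 = n193364 := d21_9 (iv5 D219023) (iv1 F496731) F496734 (iv6 F439194) F397853 D200584 F417065 F395234 D219389 (iv1 F496743)
def n219390 : Q := act 5 n191356
theorem D219390 : act 5 n191356 = n219390 := rfl
theorem F498643 : act 2 n219390 = n216109 := d2_1 D219390 (iv5 D216109) (iv2 F383180)
theorem F498644 : act 3 n219390 = n205180 := d6_1 D219390 (iv5 D205180) (iv3 F383183)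
theorem F498645 : act 4 n219390 = n216393 := d9_1 D219390 F484151 F437701 F328783 (iv4 F383175) (iv5 D191354) D191353 D219389 F498639 (iv5 D212676) F233581 F106102 (iv4 F209138) (iv5 F332879) D191356
theorem F498646 : act 7 n219390 = n219089 := d13_2 (iv7 F383182) D219390 (iv5 D219089)
theorem F498647 : act 1 n219390 = n209348 := d17_6 (iv1 F276091) F443584 (iv1 D207162) (iv5 F332879) D191356 D219390 (iv5 F453348) (iv0 F474533) (iv4 D214314)
theorem F498648 : act 0 n219390 = n201127 := d18_0 (iv4 F443143) (iv1 F453351) (iv4 F453353) (iv5 F400091) (iv4 F270248) (iv0 F362563) (iv4 F395232) (iv0 F395233) D219390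
def n219391 : Q := act 6 n191365
theorem D219391 : act 6 n191365 = n219391 := rfl
theorem F498649 : act 2 n219391 = n217144 := d3_1 D219391 (iv6 D217144) (iv2 F383220)
theorem F498650 : act 3 n219391 = n213334 := d7_1 D219391 (iv6 D213334) (iv3 F383221)
theorem F498651 : act 4 n219391 = n217652 := d10_1 D219391 F489949 F487960
theorem F498652 : act 7 n219391 = n217639 := d14_2 F427436 D219391 (iv6 D217639) F371186 (iv6 F427438)
def n219392 : Q := act 4 n191370
theorem D219392 : act 4 n191370 = n219392 := rfl
theorem F498653 : act 2 n219392 = n217150 := d1_1 D219392 (iv4 D217150) F383239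
theorem F498654 : act 5 n219392 = n210913 := d9_2 F389855 D219392 F459266 (iv5 F358732) (iv4 F389877) (iv5 D193449) F156620 D101740 D193456 (iv5 F493340) F493339 F431998 F272922 (iv5 F304132) (iv4 F389854)
theorem F498655 : act 7 n219392 = n217152 := d11_2 F389851 D219392 F487683
theorem F498656 : act 0 n219392 = n192523 := d17_0 (iv5 D192523) (iv1 D100265) D100266 (iv4 F383233) (iv5 D191368) F354022 (iv5 F389895) F389893 D219392
theorem F498657 : act 1 n219392 = n192519 := d18_6 F478913 F478909 (iv1 F389871) (iv4 F389854) F389855 D219392 (iv4 F386939) (iv0 F480347) (iv5 D215529)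
theorem F498658 : act 6 n219392 = n217912 := d21_5 (iv5 F385547) F385551 F368854 (iv6 F386938) (iv1 F498657) (iv5 D217912) (iv1 F372476) (iv5 F368845) F368846 (iv1 F368818)
def n219393 : Q := act 6 n191370
theorem D219393 : act 6 n191370 = n219393 := rfl
theorem F498659 : act 2 n219393 = n217151 := d3_1 D219393 (iv6 D217151) F383239
theorem F498660 : act 3 n219393 = n213337 := d7_1 D219393 (iv6 D213337) (iv3 F383240)
theorem F498661 : act 4 n219393 = n217912 := d10_1 D219393 (iv6 F498658) (iv4 D219392)
theorem F498662 : act 5 n219393 = n192875 := d12_1 D219393 (iv6 F388077) (iv5 F320204) (iv6 F389856) F389855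
theorem F498663 : act 0 n202518 = n219393 := d21_1 D202518 F498662 (iv6 F388077) (iv1 F387939) (iv6 F424988) (iv5 F487372) (iv1 F493331) (iv5 D218325) F473471 (iv1 D202517)
def n219394 : Q := act 0 n191371
theorem D219394 : act 0 n191371 = n219394 := rfl
theorem F498664 : act 5 n219394 = n199580 := d17_1 D219394 F412755 (iv5 F488336) F488337 (iv5 D193454) F389857 F389855 (iv0 D191370) D191371
theorem F498665 : act 4 n219394 = n213297 := d18_1 D219394 (iv1 D213297) F368858 F384879 (iv4 F386717) (iv0 F459587) F459586 F372308 (iv5 F384758)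
theorem F498666 : act 6 n219394 = n217867 := d21_5 (iv5 F385952) (iv1 F487332) (iv5 D217084) (iv6 F383241) D219394 (iv5 D217867) (iv1 F488433) F488430 (iv6 F388084) F388087
theorem F498667 : act 1 n192317 = n219394 := d15_0 (iv0 D219394) F383501 (iv2 F386404)
theorem F498668 : act 2 n210524 = n219394 := d1_3 F498665 F483794 F483793
def n219395 : Q := act 1 n191371
theorem D219395 : act 1 n191371 = n219395 := rfl
theorem F498669 : act 1 n219395 = n192317 := d15_1 D219395 (iv7 F491047) F491043
theorem F498670 : act 7 n219395 = n210524 := d15_2 (iv0 D219394) D219395 F498668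
theorem F498671 : act 5 n219395 = n210525 := d17_7 (iv1 F431996) F431998 F358727 D180171 (iv4 F384761) (iv5 F384758) D219395 F457919 F411786
theorem F498672 : act 4 n219395 = n204112 := d17_9 (iv1 F443307) (iv5 D191721) (iv1 F354015) D191381 (iv4 F488343) F488344 F372308 (iv5 F384758) D219395
theorem F498673 : act 6 n194109 = n219395 := d10_0 F498672 F488068 F488066
def n219396 : Q := act 5 n191372
theorem D219396 : act 5 n191372 = n219396 := rfl
theorem F498674 : act 2 n219396 = n204143 := d2_1 D219396 F431187 (iv2 F383242)
theorem F498675 : act 4 n219396 = n203720 := d9_1 D219396 F429540 (iv4 F191811) F356444 (iv4 F335738) D187045 (iv4 F431180) (iv5 D204142) (iv4 D122715) (iv5 D56995) (iv4 F44464) F298112 (iv4 F72423) D98165 D191372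
theorem F498676 : act 6 n219396 = n204010 := d12_2 (iv6 F383243) D219396 F430815 F198266 F366890
theorem F498677 : act 7 n219396 = n203719 := d13_2 F483354 D219396 (iv5 F483352)
theorem F498678 : act 0 n219396 = n204140 := d17_2 F383541 D219396 (iv5 F431177) (iv4 D187136) (iv5 D89597) F335671 D46029 D98394 D191479
theorem F498679 : act 1 n219396 = n204139 := d17_6 (iv1 F368912) (iv5 D182178) F335736 D98165 D191372 D219396 F431185 (iv0 F488124) (iv4 D217252)
def n219397 : Q := act 4 n191379
theorem D219397 : act 4 n191379 = n219397 := rfl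
theorem F498680 : act 2 n219397 = n204527 := d1_1 D219397 (iv4 F433065) F433061
theorem F498681 : act 3 n219397 = n216288 := d5_1 D219397 F483653 (iv3 F492447) F492448 F383367
theorem F498682 : act 5 n219397 = n201145 := d9_2 D191379 D219397 F419259 (iv5 F326370) (iv4 D61084) D61085 D130104 D207083 (iv4 F450813) (iv5 D208774) (iv4 F217587) (iv5 D130116) (iv4 D61089) F321379 (iv4 F151558)
theorem F498683 : act 6 n219397 = n216471 := d10_2 (iv6 F383273) D219397 (iv4 D216471)
theorem F498684 : act 7 n219397 = n204526 := d11_2 F434252 D219397 (iv4 F434254)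
theorem F498685 : act 0 n219397 = n204524 := d17_0 (iv5 F444473) F444475 (iv5 F470683) (iv4 D213497) (iv5 D153944) (iv0 F357810) (iv5 F366801) (iv0 F383274) D219397
theorem F498686 : act 1 n219397 = n204207 := d18_6 (iv1 F195691) F314248 F319779 (iv4 F151558) D191379 D219397 (iv4 D204207) F385114 F385112
def n219398 : Q := act 0 n191381
theorem D219398 : act 0 n191381 = n219398 := rfl
theorem F498687 : act 5 n219398 = n215215 := d17_1 D219398 F478912 (iv5 F483792) F483793 (iv5 D210524) D210523 F457914 F488346 F488343
theorem F498688 : act 4 n219398 = n217211 := d18_1 D219398 (iv1 D217211) F427439 (iv5 D203214) (iv4 F187666) F353878 F109160 (iv0 F304714) D191381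
theorem F498689 : act 1 n191387 = n219398 := d15_0 (iv0 D219398) (iv7 F483790) F483786
theorem F498690 : act 3 n213306 = n219398 := d19_19 (iv1 F498689) (iv5 D191387) (iv4 D98240) D98239 (iv1 F381149) (iv5 F414820) F414819 F176363 F165043 (iv5 D107067) (iv4 F165715) D145318 (iv1 F436659) F436656 F436651 (iv3 F394058) (iv1 F432423) (iv5 F372985) (iv4 F469830)
theorem F498691 : act 7 n219398 = n213396 := d8_2 (iv7 F469828) F498690 (iv3 D213396)
def n219399 : Q := act 1 n191381
theorem D219399 : act 1 n191381 = n219399 := rfl
theorem F498692 : act 1 n219399 = n191387 := d15_1 D219399 (iv7 F483783) F483781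
theorem F498693 : act 5 n219399 = n208910 := d17_7 (iv1 F344936) (iv5 F322580) (iv1 F336009) (iv5 D98236) D98235 D191381 D219399 (iv0 F451370) F431689
theorem F498694 : act 4 n219399 = n217195 := d17_9 F487883 F386949 (iv1 F384877) (iv5 F384879) (iv4 F368858) (iv5 D153362) (iv0 F304714) D191381 D219399
theorem F498695 : act 3 n204011 = n219399 := d19_19 (iv1 D219399) (iv5 D191381) (iv4 D98235) (iv3 F304308) (iv1 F264239) (iv5 F378088) (iv4 D189883) F147002 F70379 (iv5 D44803) (iv4 F68949) F68948 F291176 F290966 D42333 D90463 F291500 F283244 (iv4 F430819)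
theorem F498696 : act 2 n219399 = n213396 := d0_1 F498695 (iv3 D213396) (iv2 F241541) (iv3 F434319) F434318
theorem F498697 : act 6 n217194 = n219399 := d3_0 F498696 (iv6 F483608) (iv2 F487880)
theorem F498698 : act 0 n217194 = n216318 := d21_4 F483792 F451370 (iv5 F498693) (iv6 F498697) (iv6 D216318) (iv5 D182928) (iv1 D87338) D87339 (iv6 F284506) D216314
theorem F498699 : act 1 n217192 = n216318 := d15_0 (iv0 F498698) (iv7 F493482) F493481
def n219400 : Q := act 6 n191381
theorem D219400 : act 6 n191381 = n219400 := rfl
theorem F498700 : act 2 n219400 = n216461 := d3_1 D219400 F484488 F483781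
theorem F498701 : act 4 n219400 = n191654 := d10_1 D219400 (iv6 F488345) F488343
theorem F498702 : act 5 n219400 = n216245 := d12_1 D219400 (iv6 F483466) (iv5 F470644) (iv6 D191382) D191381
theorem F498703 : act 7 n219400 = n191653 := d14_2 F483790 D219400 F384061 (iv7 F369217) (iv6 F483789)
theorem F498704 : act 0 n219400 = n195018 := d21_4 (iv5 D191721) (iv1 F354015) D191381 D219400 (iv6 F483553) (iv5 F483554) (iv1 F472066) (iv5 F488065) (iv6 F488068) (iv1 F443307)
theorem F498705 : act 0 n217149 = n219400 := d21_4 (iv5 F489243) F489245 (iv5 F370411) D217149 (iv6 D219400) (iv5 D191381) F304714 D153362 (iv6 F368856) (iv1 F383512)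
def n219401 : Q := act 5 n191386
theorem D219401 : act 5 n191386 = n219401 := rfl
theorem F498706 : act 2 n219401 = n207143 := d2_1 D219401 F443506 (iv2 F383293)
theorem F498707 : act 3 n219401 = n191389 := d6_1 D219401 (iv5 D191389) (iv3 F383294)
theorem F498708 : act 6 n219401 = n200173 := d12_2 D191386 D219401 F415382 F175501 (iv5 F351643)
theorem F498709 : act 7 n219401 = n215612 := d13_2 F447324 D219401 F480764
theorem F498710 : act 4 n219401 = n214094 := d16_2 (iv4 F383295) D219401 (iv5 F497635) F497632 F463824 F227414 (iv5 F340942) F340943 F183059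
theorem F498711 : act 0 n219401 = n194310 := d17_2 F447317 D219401 (iv5 F479370) F479369 (iv5 F357101) (iv0 D140720) D140722 D211119 (iv4 F460181)
theorem F498712 : act 1 n219401 = n215283 := d17_6 (iv1 F189774) (iv5 F312476) F340948 D117053 (iv4 F383295) D219401 (iv5 D215283) (iv0 F428766) F428764
def n219402 : Q := act 0 n191388
theorem D219402 : act 0 n191388 = n219402 := rfl
theorem F498713 : act 5 n219402 = n208784 := d17_1 D219402 F450849 (iv5 D153967) F331860 (iv5 F273570) F347447 (iv5 F249766) (iv0 F351713) (iv4 F383300)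
theorem F498714 : act 4 n219402 = n208924 := d18_1 D219402 (iv1 F451431) (iv4 F474682) F474681 (iv4 F389524) F374916 F374907 F371171 (iv5 F383301)
theorem F498715 : act 6 n219402 = n204091 := d21_5 (iv5 F498687) (iv1 F498689) (iv5 D191387) D191388 D219402 F455836 F455835 (iv5 D174813) D174814 F478913
theorem F498716 : act 2 n213268 = n219402 := d15_3 (iv0 D219402) (iv0 F383302) (iv7 F469644)
theorem F498717 : act 1 n207129 = n219402 := d15_0 (iv0 D219402) (iv7 F470708) F470705
theorem F498718 : act 7 n219402 = n192580 := d15_2 (iv0 F443457) F498717 F387157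
theorem F498719 : act 3 n192586 = n219402 := d8_3 F498718 F387158 D192586
def n219403 : Q := act 4 n191389
theorem D219403 : act 4 n191389 = n219403 := rfl
theorem F498720 : act 2 n219403 = n199097 := d1_1 D219403 F410646 (iv2 F383303)
theorem F498721 : act 5 n219403 = n217844 := d9_2 D191389 D219403 F490888 (iv5 F374739) (iv4 F470688) F470687 (iv4 D207129) (iv5 F432150) (iv4 F432154) (iv5 F371758) F371757 (iv5 F367264) (iv4 F371169) (iv5 F383301) F383300
theorem F498722 : act 6 n219403 = n204853 := d10_2 (iv6 F383304) D219403 (iv4 D204853)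
theorem F498723 : act 7 n219403 = n214180 := d11_2 (iv7 F383305) D219403 F473877
theorem F498724 : act 0 n219403 = n214170 := d17_0 (iv5 F482804) F482805 (iv5 D199180) F331928 (iv5 D83486) (iv0 F331906) D123601 (iv0 F383306) D219403
theorem F498725 : act 1 n219403 = n214179 := d18_6 F451416 F451413 F383302 F383300 D191389 D219403 F473872 (iv0 F353018) D194313
theorem F498726 : act 3 n214182 = n219403 := d8_3 F498723 F473876 (iv7 F473883)
def n219404 : Q := act 6 n191391
theorem D219404 : act 6 n191391 = n219404 := rfl
theorem F498727 : act 2 n219404 = n192342 := d3_1 D219404 F434770 F434764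
theorem F498728 : act 3 n219404 = n211155 := d7_1 D219404 F460362 (iv3 F383312)
theorem F498729 : act 4 n219404 = n191901 := d10_1 D219404 (iv6 F384752) F384759
theorem F498730 : act 5 n219404 = n211059 := d12_1 D219404 F459935 (iv5 F404455) F274489 D191391
theorem F498731 : act 7 n219404 = n192340 := d14_2 F478184 D219404 F459213 (iv7 F474115) (iv6 F478183)
theorem F498732 : act 0 n219404 = n191973 := d21_4 (iv5 F358732) (iv1 F358718) D191391 D219404 (iv6 F461080) (iv5 F495882) (iv1 F495885) F429444 (iv6 F384866) F350369
theorem F498733 : act 1 n219404 = n191976 := d15_1 (iv0 F498732) F385054 (iv2 F385042)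
def n219405 : Q := act 4 n191392
theorem D219405 : act 4 n191392 = n219405 := rfl
theorem F498734 : act 2 n219405 = n191393 := d1_1 D219405 (iv4 D191393) D191392
theorem F498735 : act 3 n219405 = n204676 := d5_1 D219405 F433226 F430100 (iv4 F429359) F429364
theorem F498736 : act 7 n219405 = n205047 := d11_2 F474246 D219405 (iv4 F474244)
theorem F498737 : act 0 n219405 = n205039 := d18_2 F433259 D219405 (iv4 D205039) F341200 F236443 (iv0 F286389) F303724 (iv0 F319726) (iv5 F433258)
theorem F498738 : act 1 n219405 = n205041 := d18_6 (iv1 F348592) F389095 (iv1 D193183) (iv4 F351630) (iv5 F383313) D219405 (iv4 D205041) F201459 D125357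
theorem F498739 : act 4 n211898 = n211902 := d20_6 (iv4 D219405) (iv1 F383314) F360091 D204686 (iv1 F494741) F494737 (iv1 D211902) F227057 (iv3 F434746) (iv1 F498738)
theorem F498740 : act 5 n215895 = n219405 := d6_0 F498735 F433228 D215895
def n219406 : Q := act 4 n191399
theorem D219406 : act 4 n191399 = n219406 := rfl
theorem F498741 : act 3 n219406 = n217765 := d5_1 D219406 F490513 (iv3 F402744) F402745 (iv3 F383347)
theorem F498742 : act 5 n219406 = n208801 := d9_2 D191399 D219406 (iv4 D208801) F327501 F326902 (iv5 F212144) (iv4 F318138) D191806 (iv4 F432860) (iv5 F444166) (iv4 D207288) (iv5 D130720) F95809 (iv5 F95486) (iv4 F317133)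
theorem F498743 : act 6 n219406 = n191400 := d10_2 (iv6 F383348) D219406 (iv4 D191400)
theorem F498744 : act 7 n219406 = n217762 := d11_2 F442167 D219406 F490502
theorem F498745 : act 0 n219406 = n213022 := d17_0 F468634 F407628 (iv5 F451047) F451046 (iv5 D135385) F108161 D152039 (iv0 F383349) D219406
theorem F498746 : act 1 n219406 = n204242 := d18_6 (iv1 F317527) (iv4 D63629) F212147 (iv4 F317133) D191399 D219406 F431635 F366449 (iv5 D85828)
def n219407 : Q := act 3 n191400
theorem D219407 : act 3 n191400 = n219407 := rfl
theorem F498747 : act 2 n219407 = n199667 := d0_1 D219407 (iv3 D199667) F412103 (iv3 F486461) F486460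
theorem F498748 : act 4 n219407 = n218009 := d5_2 D191400 D219407 (iv3 D218009) (iv4 F374476) F374473
theorem F498749 : act 6 n219407 = n217765 := d7_2 F498743 D219407 (iv3 F498741)
theorem F498750 : act 7 n219407 = n218255 := d8_2 F486457 D219407 F492982
theorem F498751 : act 5 n217159 = n219407 := d16_7 F432844 (iv5 F486675) F486674 (iv5 F474293) (iv4 F280708) (iv5 F368452) (iv4 F487708) F498750 F492981
def n219408 : Q := act 5 n191400
theorem D219408 : act 5 n191400 = n219408 := rfl
theorem F498752 : act 2 n219408 = n215511 := d2_1 D219408 (iv5 F486463) F486460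
theorem F498753 : act 3 n219408 = n217159 := d6_1 D219408 F498751 (iv3 D219407)
theorem F498754 : act 6 n219408 = n215501 := d12_2 F498743 D219408 F480238 (iv6 F450940) (iv5 F498742)
theorem F498755 : act 4 n219408 = n215502 := d16_2 D191400 D219408 F480244 F474557 (iv5 D191847) (iv4 D99007) D99008 F367049 F367048
def n219409 : Q := act 4 n191402
theorem D219409 : act 4 n191402 = n219409 := rfl
theorem F498756 : act 2 n219409 = n215930 := d1_1 D219409 F482135 F386144
theorem F498757 : act 3 n219409 = n210502 := d5_1 D219409 F457819 (iv3 F431710) (iv4 D204258) (iv3 F383359)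
theorem F498758 : act 6 n219409 = n217658 := d10_2 (iv6 F383360) D219409 (iv4 D217658)
theorem F498759 : act 7 n219409 = n215929 := d11_2 F386448 D219409 F482130
theorem F498760 : act 0 n219409 = n213917 := d18_2 F383669 D219409 F472729 F388790 (iv4 F262763) F345823 F315010 F345806 D191529
theorem F498761 : act 1 n219409 = n202174 := d18_6 (iv1 F195778) F351955 (iv1 F351951) F351953 D191402 D219409 F423124 F388794 F339891
def n219410 : Q := act 6 n191405
theorem D219410 : act 6 n191405 = n219410 := rfl
theorem F498762 : act 2 n219410 = n212958 := d3_1 D219410 (iv6 F468318) (iv2 F383371)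
theorem F498763 : act 3 n219410 = n191409 := d7_1 D219410 (iv6 D191409) (iv3 F383372)
theorem F498764 : act 4 n219410 = n201589 := d10_1 D219410 (iv6 F421058) (iv4 F383374)
theorem F498765 : act 5 n219410 = n215567 := d12_1 D219410 F480540 F428207 (iv6 D191406) D191405
theorem F498766 : act 7 n219410 = n204250 := d14_2 (iv7 F383373) D219410 (iv6 D204250) F332646 (iv6 F274291)
theorem F498767 : act 0 n219410 = n210214 := d21_4 F305317 (iv1 F349051) D191405 D219410 (iv6 D210214) (iv5 D137923) F343283 (iv5 F396447) (iv6 D195245) F338684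
theorem F498768 : act 1 n219410 = n203085 := d15_1 (iv0 F498767) F426913 (iv2 F456606)
def n219411 : Q := act 3 n191417
theorem D219411 : act 3 n191417 = n219411 := rfl
theorem F498769 : act 4 n219411 = n216330 := d5_2 D191417 D219411 (iv3 D216330) (iv4 D183008) (iv3 F151743)
theorem F498770 : act 6 n219411 = n207705 := d7_2 (iv6 F383429) D219411 (iv3 D207705)
theorem F498771 : act 0 n219411 = n209608 := d20_4 (iv4 D217019) (iv1 F367562) D191417 D219411 (iv3 D209608) (iv4 F453586) (iv1 D209399) F219509 F404704 (iv1 F487012)
def n219412 : Q := act 5 n191417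
theorem D219412 : act 5 n191417 = n219412 := rfl
theorem F498772 : act 2 n219412 = n216155 := d2_1 D219412 (iv5 D216155) (iv2 F383428)
theorem F498773 : act 4 n219412 = n218987 := d9_1 D219412 (iv5 D218987) (iv4 D190487) (iv5 D96054) F70407 D94097 D189571 D218590 F498269 F498266 F382546 (iv5 D190810) F149504 D98334 D191417
theorem F498774 : act 6 n219412 = n207879 := d12_2 (iv6 F383429) D219412 (iv5 D207879) (iv6 D132542) (iv5 F212269)
def n219413 : Q := act 6 n191419
theorem D219413 : act 6 n191419 = n219413 := rfl
theorem F498775 : act 2 n219413 = n191435 := d3_1 D219413 (iv6 D191435) F383436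
theorem F498776 : act 3 n219413 = n216326 := d7_1 D219413 (iv6 D216326) (iv3 F383437)
theorem F498777 : act 4 n219413 = n216002 := d10_1 D219413 F482491 F458350
theorem F498778 : act 5 n219413 = n191836 := d12_1 D219413 (iv6 D191836) (iv5 F293665) F293666 (iv5 F383435)
theorem F498779 : act 1 n217954 = n219413 := d18_6 F371866 (iv4 F365258) (iv1 D100590) (iv4 F154512) D192624 (iv4 F491401) F498777 (iv0 F490658) (iv5 D217793)
def n219414 : Q := act 0 n191420
theorem D219414 : act 0 n191420 = n219414 := rfl
theorem F498780 : act 4 n219414 = n216854 := d18_3 F151751 D191420 D219414 F486237 (iv4 D194752) F366989 (iv4 D185521) (iv0 D88373) D88376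
theorem F498781 : act 1 n191442 = n219414 := d15_0 (iv0 D219414) F487974 F487970
theorem F498782 : act 7 n191439 = n219414 := d11_0 F498780 F486238 F483137
theorem F498783 : act 3 n219414 = n192525 := d19_3 F394352 (iv5 F486237) (iv4 F498780) (iv1 D192525) (iv5 D100266) (iv4 F154251) (iv3 F358735) F278187 (iv5 F337712) (iv4 D178230) (iv3 F344671) (iv1 F160337) (iv5 F368155) (iv4 D186828) (iv3 F368149) (iv1 F411520) F411522 (iv4 F352769) (iv3 F385216)
theorem F498784 : act 2 n219414 = n191438 := d15_3 (iv0 D191438) D191439 F498782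
def n219415 : Q := act 1 n191420
theorem D219415 : act 1 n191420 = n219415 := rfl
theorem F498785 : act 1 n219415 = n191442 := d15_1 D219415 (iv7 D191442) (iv2 F383440)
theorem F498786 : act 7 n219415 = n191438 := d15_2 (iv0 D219414) D219415 (iv2 F498784)
theorem F498787 : act 4 n219415 = n219380 := d17_9 (iv1 D219380) (iv5 D191327) F289554 D216852 F486228 F482689 (iv0 F455573) F455571 D219415
theorem F498788 : act 3 n217225 = n219415 := d20_9 (iv4 D191420) D191419 (iv4 F458350) (iv3 F470185) (iv1 F470189) (iv3 F483506) (iv4 F486286) (iv1 F486289) D217225 (iv1 D219415)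
theorem F498789 : act 2 n191439 = n219415 := d1_3 F498787 F498585 F483137
def n219416 : Q := act 3 n191420
theorem D219416 : act 3 n191420 = n219416 := rfl
theorem F498790 : act 5 n219416 = n218380 := d6_2 F455571 D219416 F493599
theorem F498791 : act 7 n219416 = n216181 := d8_2 (iv7 F487974) D219416 (iv3 F487971)
theorem F498792 : act 0 n218386 = n219416 := d20_4 (iv4 F483513) F483516 F469806 D218386 (iv3 D219416) (iv4 D191420) D191419 (iv4 F458350) (iv3 F470185) (iv1 F470189)
def n219417 : Q := act 6 n191425
theorem D219417 : act 6 n191425 = n219417 := rfl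
theorem F498793 : act 3 n219417 = n210163 := d7_1 D219417 F456414 (iv3 F383463)
theorem F498794 : act 4 n219417 = n210301 := d10_1 D219417 F456914 (iv4 F383464)
theorem F498795 : act 5 n219417 = n210162 := d12_1 D219417 F456410 (iv5 F383768) F354316 D191425
theorem F498796 : act 0 n216275 = n219417 := d21_4 (iv5 F283276) (iv1 F294478) F294479 D216275 (iv6 D219417) (iv5 D191425) (iv1 D98343) D98344 F151773 D98349
def n219418 : Q := act 3 n191427
theorem D219418 : act 3 n191427 = n219418 := rfl
theorem F498797 : act 4 n219418 = n191452 := d5_2 D191427 D219418 (iv3 D191452) (iv4 D98365) (iv3 F151772)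
theorem F498798 : act 5 n219418 = n214506 := d6_2 F441294 D219418 F475516
theorem F498799 : act 6 n219418 = n191440 := d7_2 (iv6 F383468) D219418 (iv3 D191440)
theorem F498800 : act 0 n219418 = n212940 := d20_10 (iv4 D212940) (iv1 F462480) F462479 F449337 F362137 (iv3 F427374) (iv4 F427376) (iv1 D191426) D191427 D219418
def n219419 : Q := act 0 n191429
theorem D219419 : act 0 n191429 = n219419 := rfl
theorem F498801 : act 5 n219419 = n210646 := d17_1 D219419 (iv1 F458321) D210654 F458350 F383435 F285753 D185522 (iv0 F287795) D191429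
theorem F498802 : act 4 n219419 = n192867 := d18_3 (iv1 F287799) D191429 D219419 (iv5 D192867) (iv4 F343085) (iv0 D185469) F135313 D88374 D185523
theorem F498803 : act 6 n219419 = n216229 := d21_5 (iv5 D85861) D85859 (iv5 F278981) (iv6 F451861) D219419 F484477 (iv1 D185251) (iv5 F283716) (iv6 F338048) (iv1 D179756)
theorem F498804 : act 2 n210656 = n219419 := d15_3 (iv0 D219419) (iv0 F454295) D210656
theorem F498805 : act 1 n191431 = n219419 := d15_0 (iv0 D219419) F383471 (iv2 F383473)
theorem F498806 : act 7 n219419 = n210645 := d15_2 (iv0 F383474) F498805 F458318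
def n219420 : Q := act 3 n191429
theorem D219420 : act 3 n191429 = n219420 := rfl
theorem F498807 : act 2 n219420 = n213409 := d0_1 D219420 F470272 (iv2 F358777) (iv3 F479865) F479864
theorem F498808 : act 4 n219420 = n216149 := d5_2 D191429 D219420 (iv3 D216149) (iv4 D181973) (iv3 F151775)
theorem F498809 : act 5 n219420 = n192430 := d6_2 F460747 D219420 F461737
theorem F498810 : act 6 n219420 = n203194 := d7_2 (iv6 F451861) D219420 (iv3 D203194)
theorem F498811 : act 7 n219420 = n216276 := d8_2 (iv7 F383471) D219420 (iv3 D216276)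
def n219421 : Q := act 0 n191430
theorem D219421 : act 0 n191430 = n219421 := rfl
theorem F498812 : act 5 n219421 = n213351 := d17_1 D219421 F470053 F453074 (iv4 D203192) (iv5 D118199) F185691 (iv5 F427321) F427323 (iv4 F451864)
theorem F498813 : act 4 n219421 = n192984 := d18_3 D118201 (iv4 F451864) D219421 F388425 F155738 F109117 (iv4 F190221) (iv0 D54446) D54448
theorem F498814 : act 6 n219421 = n216795 := d21_5 (iv5 D46014) D46012 D98346 D191430 D219421 (iv5 D216795) F484496 F484494 (iv6 D191437) (iv1 D98350)
theorem F498815 : act 2 n213340 = n219421 := d15_3 (iv0 D219421) F451863 D213340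
theorem F498816 : act 7 n219421 = n192983 := d4_2 D213340 F498815 F388422
theorem F498817 : act 1 n203197 = n219421 := d15_1 (iv0 F427385) F498816 F388422
def n219422 : Q := act 7 n191430
theorem D219422 : act 7 n191430 = n219422 := rfl
theorem F498818 : act 2 n219422 = n203197 := d4_1 D219422 (iv7 F454689) F454686
theorem F498819 : act 3 n219422 = n213400 := d8_1 D219422 F470235 (iv3 F383472)
theorem F498820 : act 4 n219422 = n203167 := d11_1 D219422 F427272 (iv4 F451864)
theorem F498821 : act 6 n219422 = n209709 := d14_1 D219422 F454701 (iv6 D182267) (iv7 F151776) D191430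
theorem F498822 : act 1 n192983 = n219422 := d15_1 (iv0 F454691) (iv7 D219422) (iv2 F454686)
theorem F498823 : act 1 n219422 = n213340 := d15_1 F498822 (iv7 D213340) (iv2 F388422)
def n219423 : Q := act 3 n191434
theorem D219423 : act 3 n191434 = n219423 := rfl
theorem F498824 : act 4 n219423 = n216145 := d5_2 D191434 D219423 (iv3 D216145) F283271 (iv3 F283275)
theorem F498825 : act 7 n219423 = n216231 := d8_2 (iv7 F383483) D219423 F483425
theorem F498826 : act 0 n219423 = n192431 := d20_4 (iv4 D98351) D98349 D191434 D219423 F386711 (iv4 F383297) (iv1 F498692) F498694 F487882 (iv1 D191439)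
def n219424 : Q := act 6 n191434
theorem D219424 : act 6 n191434 = n219424 := rfl
theorem F498827 : act 2 n219424 = n216002 := d3_1 D219424 F482491 F458349
theorem F498828 : act 4 n219424 = n191435 := d10_1 D219424 (iv6 D191435) D191434
theorem F498829 : act 7 n219424 = n216001 := d14_2 (iv7 F383483) D219424 F483414 (iv7 F485736) F485735
theorem F498830 : act 0 n219424 = n215996 := d21_4 F458357 (iv1 F458314) (iv5 F458317) D219424 F482477 (iv5 D179734) (iv1 F306502) (iv5 F427312) (iv6 F479866) F479869
theorem F498831 : act 5 n219424 = n217750 := d21_6 (iv5 D138172) (iv1 F363248) D207932 (iv6 F460761) F460764 D219424 (iv1 D217750) F485809 (iv6 F485808) (iv1 F449491)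
theorem F498832 : act 0 n216004 = n219424 := d17_2 F420110 (iv5 F482495) F498831 F490448 F439796 (iv0 F387660) F370790 (iv0 F365246) (iv4 F420108)
def n219425 : Q := act 0 n191435
theorem D219425 : act 0 n191435 = n219425 := rfl
theorem F498833 : act 2 n217954 = n219425 := d15_3 (iv0 D219425) (iv0 F489965) (iv7 F491402)
def n219426 : Q := act 3 n191438
theorem D219426 : act 3 n191438 = n219426 := rfl
theorem F498834 : act 2 n219426 = n217223 := d0_1 D219426 F488008 (iv2 F487958) (iv3 F498783) F498784
theorem F498835 : act 5 n219426 = n214123 := d6_2 (iv5 F476922) D219426 F473584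
theorem F498836 : act 7 n219426 = n217225 := d8_2 F498786 D219426 F498788
theorem F498837 : act 4 n219426 = n216863 := d20_6 F430645 (iv1 D191461) (iv4 F383488) (iv3 D191440) D191438 D219426 (iv1 F486284) (iv4 F488003) F488002 F468110
theorem F498838 : act 6 n217997 = n219426 := d10_0 F498837 F486281 D217997
theorem F498839 : act 0 n216870 = n219426 := d18_0 F498837 (iv1 F486284) (iv4 F488003) F488004 (iv4 F477025) (iv0 D214828) (iv4 F388078) F460438 (iv5 F486316)
theorem F498840 : act 1 n192876 = n219426 := d15_0 (iv0 F498839) (iv7 F487929) F487925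
def n219427 : Q := act 4 n191438
theorem D219427 : act 4 n191438 = n219427 := rfl
theorem F498841 : act 2 n219427 = n216854 := d1_1 D219427 (iv4 F498780) F498784
theorem F498842 : act 5 n219427 = n192865 := d9_2 (iv5 F476922) D219427 F388059 (iv5 F370215) D190995 (iv5 F381832) D212072 F464239 (iv4 F483137) F483136 F382841 (iv5 D190999) D190998 F483138 D212074
theorem F498843 : act 7 n219427 = n219380 := d11_2 F498786 D219427 (iv4 F498787)
theorem F498844 : act 0 n219427 = n217250 := d17_0 (iv5 D217250) F368903 D190991 D219249 F497934 (iv0 F455594) (iv5 F487973) F487977 D219427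
theorem F498845 : act 1 n219427 = n215306 := d18_6 (iv1 F458322) (iv4 F464229) (iv1 F464230) D212074 (iv5 F476922) D219427 (iv4 F486015) (iv0 D216811) (iv5 F349147)
def n219428 : Q := act 6 n191438
theorem D219428 : act 6 n191438 = n219428 := rfl
theorem F498846 : act 3 n219428 = n217997 := d7_1 D219428 F498838 (iv3 D219426)
def n219429 : Q := act 0 n191441
theorem D219429 : act 0 n191441 = n219429 := rfl
theorem F498847 : act 5 n219429 = n213337 := d17_3 (iv1 D191439) D191441 D219429 F469987 (iv5 D190984) (iv0 F353222) D215306 F483139 F483137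
theorem F498848 : act 4 n219429 = n219250 := d18_1 D219429 F497938 F463379 (iv5 F473551) (iv4 F488112) (iv0 F498844) (iv4 D219427) (iv0 D191438) D191441
theorem F498849 : act 3 n219429 = n192875 := d20_5 F226493 (iv1 F321255) (iv4 F460958) F460957 D219429 F388078 D214828 F477025 F468106 (iv1 F362321)
theorem F498850 : act 6 n219429 = n212699 := d21_5 F220353 (iv1 F218838) D209244 F452869 D219429 F467139 (iv1 F390018) F350960 (iv6 F452876) (iv1 F452886)
theorem F498851 : act 2 n192521 = n219429 := d15_3 (iv0 D219429) (iv0 F455593) F455592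
theorem F498852 : act 1 n191967 = n219429 := d15_0 (iv0 D219429) (iv7 F467780) F467777
def n219430 : Q := act 7 n191446
theorem D219430 : act 7 n191446 = n219430 := rfl
theorem F498853 : act 3 n219430 = n215162 := d8_1 D219430 (iv7 D215162) (iv3 F383495)
theorem F498854 : act 4 n219430 = n217207 := d11_1 D219430 (iv7 F487938) (iv4 F455954)
theorem F498855 : act 5 n219430 = n215830 := d13_1 D219430 (iv7 D215830) (iv5 F383496)
theorem F498856 : act 6 n219430 = n191652 := d14_1 D219430 F386394 (iv6 D192314) F274653 D191446
theorem F498857 : act 1 n194103 = n219430 := d15_1 (iv0 F421393) (iv7 D219430) (iv2 F386387)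
theorem F498858 : act 1 n219430 = n194106 := d15_1 F498857 (iv7 F498553) F498550
def n219431 : Q := act 6 n191447
theorem D219431 : act 6 n191447 = n219431 := rfl
theorem F498859 : act 4 n219431 = n191448 := d10_1 D219431 (iv6 D191448) D191447
theorem F498860 : act 5 n219431 = n194093 := d12_1 D219431 (iv6 D194093) F347706 D188577 (iv5 F383497)
theorem F498861 : act 0 n219431 = n217144 := d21_4 F426889 (iv1 F426890) (iv5 F383497) D219431 (iv6 D217144) (iv5 D186874) F354012 D120415 (iv6 F368415) (iv1 F388135)
theorem F498862 : act 0 n217639 = n219431 := d21_4 F292676 (iv1 F143038) D187687 D217639 (iv6 D219431) F383497 F374050 (iv5 D186888) F137029 D89481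
def n219432 : Q := act 0 n191449
theorem D219432 : act 0 n191449 = n219432 := rfl
theorem F498863 : act 5 n219432 = n199345 := d17_1 D219432 (iv1 F457908) F457914 (iv4 F478835) F478836 (iv0 F367929) D193444 F389850 (iv4 F383499)
theorem F498864 : act 4 n219432 = n215529 := d18_1 D219432 F480347 F386939 (iv5 D192519) D192518 F388184 F372299 D188090 (iv5 F383500)
theorem F498865 : act 6 n219432 = n191458 := d21_5 (iv5 D186635) F337573 (iv5 F343483) D191449 D219432 (iv5 F485557) (iv1 D216707) F421392 (iv6 D192312) (iv1 F367514)
theorem F498866 : act 2 n219395 = n219432 := d15_3 (iv0 D219432) (iv0 F457915) (iv7 F498670)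
theorem F498867 : act 1 n217878 = n219432 := d15_0 (iv0 D219432) (iv7 F383501) (iv2 F491043)
theorem F498868 : act 7 n219432 = n219394 := d15_2 (iv0 F491048) F498867 (iv2 F498668)
def n219433 : Q := act 0 n191456
theorem D219433 : act 0 n191456 = n219433 := rfl
theorem F498869 : act 5 n219433 = n211219 := d17_1 D219433 (iv1 D211219) (iv5 F449432) (iv4 D191729) (iv5 D98858) (iv0 D46263) D46265 (iv0 F151789) D191456
theorem F498870 : act 4 n219433 = n191703 := d18_3 F287637 D191456 D219433 (iv5 D191703) F152155 (iv0 F333371) F67874 F136687 (iv5 F287635)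
theorem F498871 : act 6 n219433 = n191471 := d21_5 F430717 (iv1 F427146) (iv5 F431093) F431096 D219433 (iv5 D191471) (iv1 D98380) D98381 (iv6 F195652) D203988
theorem F498872 : act 2 n217940 = n219433 := d15_3 (iv0 D219433) (iv0 F475587) (iv7 F491350)
theorem F498873 : act 1 n191731 = n219433 := d15_0 (iv0 D219433) F383515 (iv2 F384293)
theorem F498874 : act 7 n219433 = n217939 := d15_2 (iv0 F454284) F498873 F491348
def n219434 : Q := act 3 n191458
theorem D219434 : act 3 n191458 = n219434 := rfl
def n219435 : Q := act 6 n191466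
theorem D219435 : act 6 n191466 = n219435 := rfl
theorem F498875 : act 3 n219435 = n211654 := d7_1 D219435 (iv6 D211654) (iv3 F391343)
theorem F498876 : act 5 n219435 = n192673 := d12_1 D219435 (iv6 F488197) (iv5 D217267) F391344 F391342
def n219436 : Q := act 6 n191474
theorem D219436 : act 6 n191474 = n219436 := rfl
theorem F498877 : act 5 n219436 = n216422 := d12_1 D219436 (iv6 D216422) (iv5 D183756) D183757 F383536
def n219437 : Q := act 3 n191477
theorem D219437 : act 3 n191477 = n219437 := rfl
theorem F498878 : act 4 n219437 = n211224 := d5_2 D191477 D219437 (iv3 F487047) (iv4 D217029) F367607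
theorem F498879 : act 7 n219437 = n211223 := d8_2 F430789 D219437 F460679
theorem F498880 : act 0 n215211 = n219437 := d20_4 (iv4 D120422) (iv1 F125748) D170671 D215211 (iv3 D219437) (iv4 D191477) (iv1 F369210) (iv4 F430838) (iv3 D204020) F302099
def n219438 : Q := act 6 n191477
theorem D219438 : act 6 n191477 = n219438 := rfl
theorem F498881 : act 4 n219438 = n191478 := d10_1 D219438 (iv6 D191478) D191477
theorem F498882 : act 0 n215192 = n219438 := d21_4 F383245 (iv1 F366889) (iv5 F268105) D215192 (iv6 D219438) (iv5 F431185) (iv1 F498679) (iv5 D219396) F383243 D191373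
def n219439 : Q := act 0 n191478
theorem D219439 : act 0 n191478 = n219439 := rfl
theorem F498883 : act 5 n219439 = n198803 := d17_3 (iv1 F224252) (iv5 F383539) D219439 F409319 D198805 (iv0 F409327) F342482 F412380 F412378
theorem F498884 : act 6 n219439 = n215993 := d21_5 F195856 (iv1 F89712) D98391 D191478 D219439 F482465 (iv1 F279927) D179808 (iv6 F292671) F292668
theorem F498885 : act 2 n204649 = n219439 := d15_3 (iv0 D219439) (iv0 F383540) D204649
theorem F498886 : act 1 n204647 = n219439 := d15_0 (iv0 D219439) (iv7 F458361) F458360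
theorem F498887 : act 7 n219439 = n204229 := d15_2 D204647 F498886 F431568
theorem F498888 : act 3 n191731 = n219439 := d19_19 (iv1 F498886) F433119 F412956 F471801 (iv1 D213724) (iv5 F402455) (iv4 F488528) F488526 (iv1 D202837) D202838 F425799 F381373 (iv1 F381412) F381414 (iv4 F286255) (iv3 F287674) (iv1 F290950) F290951 D191731
def n219440 : Q := act 0 n191480
theorem D219440 : act 0 n191480 = n219440 := rfl
theorem F498889 : act 5 n219440 = n215772 := d17_3 (iv1 D215794) (iv5 F383542) D219440 F481512 F458302 (iv0 F472377) F472374 D216604 (iv4 F485148)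
theorem F498890 : act 6 n219440 = n211224 := d21_5 (iv5 D187703) F292661 F151814 D191480 D219440 F460683 (iv1 F224259) (iv5 F430797) (iv6 D204004) (iv1 F371251)
theorem F498891 : act 2 n215838 = n219440 := d15_3 (iv0 D219440) (iv0 F458376) (iv7 F481742)
theorem F498892 : act 7 n219440 = n214114 := d4_2 (iv7 F481742) F498891 F473546
def n219441 : Q := act 3 n191481
theorem D219441 : act 3 n191481 = n219441 := rfl
def n219442 : Q := act 5 n191481
theorem D219442 : act 5 n191481 = n219442 := rfl
theorem F498893 : act 2 n219442 = n204133 := d2_1 D219442 F431152 F391184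
theorem F498894 : act 4 n219442 = n193902 := d9_1 D219442 (iv5 D193902) (iv4 D102472) (iv5 D47536) (iv4 F74687) (iv5 F133506) D182204 (iv5 F473524) (iv4 D214109) (iv5 D156490) F328741 (iv5 F306485) (iv4 F157208) (iv5 F383066) (iv4 F383543)
theorem F498895 : act 7 n219442 = n204131 := d13_2 F430806 D219442 F431149
theorem F498896 : act 1 n219442 = n215158 := d17_6 D187046 F368911 (iv1 F157210) (iv5 F383066) (iv4 F383543) D219442 F478619 F386351 (iv4 D187048)
def n219443 : Q := act 6 n191481
theorem D219443 : act 6 n191481 = n219443 := rfl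
theorem F498897 : act 4 n219443 = n219381 := d10_1 D219443 (iv6 D219381) (iv4 F383543)
def n219444 : Q := act 5 n191487
theorem D219444 : act 5 n191487 = n219444 := rfl
theorem F498898 : act 2 n219444 = n210259 := d2_1 D219444 F456770 F456521
theorem F498899 : act 3 n219444 = n197961 := d6_1 D219444 (iv5 D197961) (iv3 F383554)
theorem F498900 : act 4 n219444 = n208456 := d9_1 D219444 F449438 F217125 F356276 (iv4 F295463) (iv5 F448884) (iv4 F450450) (iv5 F484635) F484634 F456770 (iv4 D210196) F356281 (iv4 F151856) D98435 D191487
theorem F498901 : act 7 n219444 = n208456 := d13_2 (iv7 F383555) D219444 F449438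
theorem F498902 : act 0 n219444 = n210222 := d17_2 F384128 D219444 (iv5 D210222) F356318 (iv5 D88808) (iv0 F157592) D87596 F152078 D191679
theorem F498903 : act 1 n219444 = n208291 := d17_6 (iv1 F411669) F411672 (iv1 D98433) D98435 D191487 D219444 (iv5 D208291) F357343 (iv4 F221292)
theorem F498904 : act 6 n219444 = n192046 := d21_3 (iv5 F384127) F384128 D219444 (iv1 D192046) F359930 (iv5 D64222) (iv1 D30253) D30255 D64230 D136658
def n219445 : Q := act 6 n191487
theorem D219445 : act 6 n191487 = n219445 := rfl
theorem F498905 : act 3 n219445 = n191493 := d7_1 D219445 F383572 (iv3 F383554)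
theorem F498906 : act 4 n219445 = n191488 := d10_1 D219445 (iv6 D191488) D191487
theorem F498907 : act 7 n219445 = n191488 := d14_2 (iv7 F383555) D219445 (iv6 D191488) F356277 (iv6 F217126)
theorem F498908 : act 0 n219445 = n219361 := d21_4 D208291 (iv1 F498903) (iv5 D219444) D219445 F498466 F431217 F454240 F454237 (iv6 D138043) (iv1 F357343)
theorem F498909 : act 5 n219445 = n210240 := d21_6 (iv5 F221291) (iv1 F353571) (iv5 F353570) (iv6 F384126) F384128 D219445 (iv1 F456704) F448786 (iv6 F448787) (iv1 F221237)
theorem F498910 : act 0 n219359 = n219445 := d21_4 D210254 (iv1 F459056) F459055 (iv6 F498458) (iv6 D219445) D219444 F498902 (iv5 D210222) F374699 F374701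
def n219446 : Q := act 4 n191492
theorem D219446 : act 4 n191492 = n219446 := rfl
theorem F498911 : act 2 n219446 = n216654 := d1_1 D219446 F485340 F392007
theorem F498912 : act 3 n219446 = n191494 := d5_1 D219446 (iv4 D191494) (iv3 F383560) (iv4 F498437) F498443
theorem F498913 : act 6 n219446 = n191494 := d10_2 (iv6 F383567) D219446 (iv4 D191494)
theorem F498914 : act 7 n219446 = n216651 := d11_2 F451131 D219446 F485332
theorem F498915 : act 5 n219446 = n216654 := d16_1 D219446 F485340 F392009 F209404 (iv5 F97534) (iv4 F214253) D208055 F447662 F392007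
theorem F498916 : act 0 n219446 = n208510 := d17_0 F449666 (iv1 F449650) (iv5 D208505) (iv4 D134452) (iv5 D63149) D63148 D134448 (iv0 F383569) D219446
theorem F498917 : act 1 n219446 = n208507 := d18_6 (iv1 F363082) F329430 F169029 (iv4 F341434) D191492 D219446 (iv4 D208507) D208506 F449653
def n219447 : Q := act 0 n191496
theorem D219447 : act 0 n191496 = n219447 := rfl
theorem F498918 : act 5 n219447 = n213011 := d17_3 D98463 D191496 D219447 (iv4 F474600) F474601 (iv0 D172028) (iv5 D82392) D82391 (iv4 F315046)
theorem F498919 : act 1 n191498 = n219447 := d15_0 (iv0 D219447) (iv7 F481449) F481445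
theorem F498920 : act 7 n219447 = n213010 := d15_2 F451476 F498919 F468579
def n219448 : Q := act 4 n191496
theorem D219448 : act 4 n191496 = n219448 := rfl
theorem F498921 : act 2 n219448 = n213931 := d1_1 D219448 F472774 F392053
theorem F498922 : act 5 n219448 = n213846 := d9_2 D191496 D219448 F472368 F429270 F397053 F383587 (iv4 D191497) D191498 F422795 (iv5 D202045) (iv4 F422786) (iv5 F476762) (iv4 D214771) (iv5 D161353) (iv4 F340200)
theorem F498923 : act 7 n219448 = n213202 := d11_2 F481449 D219448 (iv4 F481447)
theorem F498924 : act 0 n219448 = n213472 := d18_2 F451475 D219448 (iv4 D213472) (iv5 F430751) F430749 (iv0 F339288) (iv4 F386368) (iv0 F386369) D208935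
theorem F498925 : act 1 n219448 = n213200 := d18_6 (iv1 F304766) (iv4 F306761) F340202 (iv4 F340200) D191496 D219448 F469419 F366915 (iv5 D84763)
def n219449 : Q := act 4 n191499
theorem D219449 : act 4 n191499 = n219449 := rfl
theorem F498926 : act 2 n219449 = n213934 := d1_1 D219449 F472791 F471423
theorem F498927 : act 3 n219449 = n202016 := d5_1 D219449 (iv4 F484346) F484345 (iv4 F433171) (iv3 F433180)
theorem F498928 : act 6 n219449 = n202013 := d10_2 F484352 D219449 (iv4 F484351)
theorem F498929 : act 7 n219449 = n213935 := d11_2 F481455 D219449 (iv4 F481456)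
theorem F498930 : act 0 n219449 = n213469 := d17_0 (iv5 F470548) (iv1 F360644) D202045 (iv4 F422795) (iv5 D191498) F340209 D215284 F479212 D219449
theorem F498931 : act 1 n219449 = n213471 := d18_6 (iv1 F430753) F388787 (iv1 F353872) (iv4 F444453) F444454 D219449 (iv4 D213471) F432979 F432977
theorem F498932 : act 5 n202010 = n219449 := d19_1 F442827 (iv4 D219449) F433180 (iv1 D204660) (iv5 D124178) (iv4 F198631) (iv3 D124170) (iv1 F297109) D58131 D124550 F333926 F95603 F95602 F46586 (iv3 F48013) (iv1 F83853) (iv5 F84188) (iv4 F180049) (iv3 F423943)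
def n219450 : Q := act 4 n191500
theorem D219450 : act 4 n191500 = n219450 := rfl
theorem F498933 : act 2 n219450 = n213935 := d1_1 D219450 (iv4 F481456) F481453
theorem F498934 : act 3 n219450 = n215836 := d5_1 D219450 F481738 (iv3 F481724) F481725 F470646
theorem F498935 : act 7 n219450 = n213934 := d11_2 F471424 D219450 F472791
theorem F498936 : act 0 n219450 = n213471 := d17_0 (iv5 F470556) D213846 (iv5 F498922) (iv4 D219448) (iv5 D191496) (iv0 D98463) D98465 D191500 D219450
theorem F498937 : act 1 n219450 = n213469 := d18_6 (iv1 F366851) F239223 D152160 (iv4 F468573) F468572 D219450 (iv4 D213469) F429263 D184953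
def n219451 : Q := act 6 n191500
theorem D219451 : act 6 n191500 = n219451 := rfl
theorem F498938 : act 3 n219451 = n216245 := d7_1 D219451 (iv6 F483466) F470646
theorem F498939 : act 7 n219451 = n216462 := d14_2 F471424 D219451 F484491 (iv7 F480650) F480649
theorem F498940 : act 0 n219451 = n213109 := d21_4 (iv5 D213010) D213009 F468572 D219451 (iv6 D213109) (iv5 D152535) D152532 D213099 (iv6 F481448) F481450
def n219452 : Q := act 6 n191501
theorem D219452 : act 6 n191501 = n219452 := rfl
theorem F498941 : act 2 n219452 = n213251 := d3_1 D219452 (iv6 F479208) F479207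
theorem F498942 : act 3 n219452 = n191505 := d7_1 D219452 (iv6 D191505) (iv3 F383589)
theorem F498943 : act 4 n219452 = n213069 := d10_1 D219452 (iv6 F473300) F473298
theorem F498944 : act 5 n219452 = n193860 := d12_1 D219452 (iv6 F486933) F486932 F367486 (iv5 F383590)
theorem F498945 : act 7 n219452 = n192252 := d14_2 D191501 D219452 (iv6 D192252) (iv7 D99937) (iv6 F151873)
def n219453 : Q := act 0 n191503
theorem D219453 : act 0 n191503 = n219453 := rfl
theorem F498946 : act 3 n219453 = n210397 := d20_5 F312936 (iv1 F312934) D98479 D191503 D219453 (iv4 D210397) F334429 (iv4 F390218) (iv3 D193547) (iv1 F274870)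
theorem F498947 : act 4 n219453 = n210412 := d20_8 (iv4 D139386) D139385 D210548 (iv3 F471208) F471210 (iv3 F473285) F473287 D219453 (iv3 D210412) (iv1 F222595)
theorem F498948 : act 2 n216434 = n219453 := d15_3 (iv0 D219453) (iv0 F498472) F498471
theorem F498949 : act 0 n219453 = n208730 := d19_4 (iv1 D138623) D138624 D210397 (iv3 F498946) (iv5 D208730) F217208 F207593 (iv1 F203455) D205700 F496289 (iv3 D218940) (iv1 D190314) F147515 (iv4 F369840) (iv3 F478488) (iv1 D215126) F393912 (iv4 F457382) (iv3 D210395)
def n219454 : Q := act 7 n191503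
theorem D219454 : act 7 n191503 = n219454 := rfl
theorem F498950 : act 2 n219454 = n208730 := d4_1 D219454 F450609 F449069
theorem F498951 : act 3 n219454 = n191504 := d8_1 D219454 (iv7 D191504) D191503
theorem F498952 : act 5 n219454 = n208727 := d13_1 D219454 F450603 F449066
theorem F498953 : act 0 n216434 = n219454 := d19_0 F498952 F450602 F442307 F418722 (iv5 F418721) (iv4 D193320) F156259 (iv1 F291904) (iv5 F293013) (iv4 D48240) (iv3 F75829) (iv1 F328538) D64698 D137632 (iv3 F383551) (iv1 F484279) F484277 F386197 D216434
def n219455 : Q := act 6 n191504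
theorem D219455 : act 6 n191504 = n219455 := rfl
theorem F498954 : act 2 n219455 = n192002 := d3_1 D219455 F390296 (iv2 F390293)
theorem F498955 : act 4 n219455 = n191505 := d10_1 D219455 (iv6 D191505) (iv4 F383593)
theorem F498956 : act 5 n219455 = n191988 := d12_1 D219455 (iv6 F404963) F405062 F454917 F454915
theorem F498957 : act 7 n219455 = n192261 := d14_2 D191504 D219455 (iv6 D192261) (iv7 D99942) (iv6 F151878)
theorem F498958 : act 0 n219455 = n219372 := d21_10 F498535 F387203 D217907 F491203 (iv1 F480573) (iv6 D215572) (iv5 F354880) (iv1 F454913) F454915 D219455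
theorem F498959 : act 0 n209485 = n219455 := d21_4 F454923 (iv1 F422980) (iv5 F454938) (iv6 F454940) (iv6 D219455) (iv5 F454915) (iv1 D209776) (iv5 F354881) (iv6 F354885) D209778
def n219456 : Q := act 4 n191507
theorem D219456 : act 4 n191507 = n219456 := rfl
theorem F498960 : act 2 n219456 = n191513 := d1_1 D219456 (iv4 D191513) (iv2 F383605)
theorem F498961 : act 3 n219456 = n197751 := d5_1 D219456 (iv4 D197751) (iv3 F405602) (iv4 F486920) F486917
theorem F498962 : act 5 n219456 = n211099 := d9_2 D191507 D219456 F460089 (iv5 D203640) (iv4 F350948) (iv5 F383619) F383618 (iv5 F383632) (iv4 F463644) (iv5 F484823) F484822 F332035 F332039 (iv5 F383602) F383600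
theorem F498963 : act 6 n219456 = n192264 := d10_2 (iv6 F383606) D219456 (iv4 D192264)
theorem F498964 : act 1 n219456 = n193419 := d18_6 F361941 F346682 F383603 F383600 D191507 D219456 (iv4 F431015) (iv0 F474163) (iv5 D214240)
def n219457 : Q := act 4 n191511
theorem D219457 : act 4 n191511 = n219457 := rfl
theorem F498965 : act 5 n219457 = n213139 := d9_2 (iv5 F383624) D219457 F469164 (iv5 F239843) F189148 F130760 (iv4 F308201) (iv5 F383627) (iv4 F463867) F463868 (iv4 D161367) (iv5 D77465) (iv4 F301348) (iv5 F87520) D120182
theorem F498966 : act 7 n219457 = n213290 := d11_2 F383626 D219457 (iv4 D213290)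
theorem F498967 : act 1 n219457 = n214605 := d18_6 F351914 (iv4 D71998) (iv1 F130754) D120182 (iv5 F383624) D219457 (iv4 D214605) (iv0 F431016) (iv5 D204081)
theorem F498968 : act 3 n219457 = n196606 := d19_3 F210757 (iv5 F383624) D219457 (iv1 F425962) (iv5 D202870) F183136 F165102 (iv1 F83968) (iv5 F40801) (iv4 F81619) (iv3 F174256) (iv1 F337352) (iv5 F389922) (iv4 D193460) F156630 D101759 F156788 F195697 (iv3 F338813)
def n219458 : Q := act 0 n191513
theorem D219458 : act 0 n191513 = n219458 := rfl
theorem F498969 : act 5 n219458 = n193420 := d17_1 D219458 (iv1 F389788) (iv5 F362494) F221031 D137789 F362501 (iv5 F383624) (iv0 D191511) D191513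
theorem F498970 : act 4 n219458 = n208174 := d18_3 (iv1 D191512) D191513 D219458 (iv5 D208174) F215546 (iv0 D131489) (iv4 F210756) (iv0 F308200) (iv5 F383627)
theorem F498971 : act 7 n193419 = n219458 := d11_0 F498970 F448235 F431015
def n219459 : Q := act 6 n191516
theorem D219459 : act 6 n191516 = n219459 := rfl
theorem F498972 : act 4 n219459 = n191517 := d10_1 D219459 (iv6 D191517) D191516
theorem F498973 : act 5 n219459 = n218853 := d12_1 D219459 (iv6 F495919) F476453 (iv6 D193544) (iv5 F383643)
theorem F498974 : act 0 n219459 = n193478 := d21_4 D47341 D101881 (iv5 F383643) D219459 F389992 F344511 (iv1 F325629) (iv5 F349504) (iv6 D101875) (iv1 D47339)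
theorem F498975 : act 0 n193479 = n219459 := d21_4 D193740 F483814 F483811 F453887 (iv6 D219459) F383643 (iv1 F385719) F385716 (iv6 F368764) (iv1 F368766)
def n219460 : Q := act 1 n191517
theorem D219460 : act 1 n191517 = n219460 := rfl
theorem F498976 : act 1 n219460 = n193946 := d15_1 D219460 (iv7 F480699) F480697
theorem F498977 : act 7 n219460 = n192195 := d15_2 (iv0 F383647) D219460 F385950
theorem F498978 : act 5 n219460 = n216315 := d17_7 (iv1 D187001) (iv5 D89461) F289551 (iv5 F367881) (iv4 F386414) F386415 D219460 F483801 (iv4 F368802)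
theorem F498979 : act 4 n219460 = n198466 := d17_9 (iv1 F408111) (iv5 D190927) D190925 F383642 D193674 (iv5 F483825) F483827 F386415 D219460
theorem F498980 : act 3 n209535 = n219460 := d19_19 (iv1 D219460) (iv5 F386415) F386414 F367880 F335674 F133506 F74687 F35411 (iv1 F62996) (iv5 F64459) D89525 D187075 F478343 F478340 (iv4 F427464) (iv3 D203223) (iv1 F241301) D213319 F469902
theorem F498981 : act 6 n219460 = n193971 := d7_2 D209535 F498980 (iv3 F391554)
theorem F498982 : act 2 n193965 = n219460 := d3_3 F498981 (iv2 F393102) F393103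
def n219461 : Q := act 6 n191519
theorem D219461 : act 6 n191519 = n219461 := rfl
theorem F498983 : act 2 n219461 = n193609 := d3_1 D219461 (iv6 F433606) F433605
theorem F498984 : act 3 n219461 = n193537 := d7_1 D219461 (iv6 D193537) (iv3 F385536)
theorem F498985 : act 4 n219461 = n191520 := d10_1 D219461 (iv6 D191520) D191519
theorem F498986 : act 5 n219461 = n199945 := d12_1 D219461 (iv6 D199945) F390184 (iv6 D193536) F385542
theorem F498987 : act 0 n219461 = n193492 := d21_4 (iv5 F385716) (iv1 F385718) F385542 D219461 (iv6 F493516) F493515 (iv1 F493316) (iv5 D193534) (iv6 D101870) (iv1 F153539)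
theorem F498988 : act 0 n192140 = n219461 := d21_4 (iv5 F64496) (iv1 F137061) (iv5 F153565) D192140 (iv6 D219461) (iv5 F385542) F385541 (iv5 D47341) F35299 D22794
theorem F498989 : act 7 n193610 = n219461 := d13_0 F498986 F414266 (iv5 F431687)
def n219462 : Q := act 4 n191522
theorem D219462 : act 4 n191522 = n219462 := rfl
theorem F498990 : act 3 n219462 = n210338 := d5_1 D219462 F457091 (iv3 F383047) D219379 F498581
theorem F498991 : act 5 n219462 = n193431 := d9_2 D191522 D219462 F389814 F270636 (iv4 F136506) (iv5 F367494) (iv4 F385633) (iv5 F388011) (iv4 F394158) F394159 (iv4 D191352) (iv5 D98116) F72374 D46062 D98503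
theorem F498992 : act 6 n219462 = n193702 := d10_2 F488167 D219462 (iv4 F488170)
theorem F498993 : act 7 n219462 = n210706 := d11_2 (iv7 F389979) D219462 F458507
theorem F498994 : act 0 n219462 = n193429 := d18_2 F385606 D219462 F389811 (iv5 F383643) (iv4 D191516) D191515 F383639 F383641 D192111
theorem F498995 : act 1 n219462 = n193426 := d18_6 (iv1 F153538) (iv4 F274517) (iv1 D98502) D98503 D191522 D219462 F389806 F385718 F385716
def n219463 : Q := act 5 n191526
theorem D219463 : act 5 n191526 = n219463 := rfl
theorem F498996 : act 2 n219463 = n192304 := d2_1 D219463 F470717 F470712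
theorem F498997 : act 3 n219463 = n203987 := d6_1 D219463 F431219 (iv3 F442482)
theorem F498998 : act 4 n219463 = n205974 := d16_2 F442481 D219463 (iv5 D205974) F204108 (iv5 F101875) D129217 D206768 (iv7 F445938) F445936
theorem F498999 : act 0 n219463 = n208940 := d17_2 D191526 D219463 F451483 F383796 (iv5 D129440) D129439 (iv5 F432200) (iv0 F432202) F332374
theorem F499000 : act 1 n219463 = n191943 := d17_6 (iv1 F437309) F437311 (iv1 F211841) D206876 F442481 D219463 F384934 F442819 F442816
theorem F499001 : act 6 n219463 = n192298 := d21_3 D98515 D191526 D219463 (iv1 D192298) (iv6 D100040) F73827 (iv1 F64048) D45991 D98291 F344995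
def n219464 : Q := act 5 n191527
theorem D219464 : act 5 n191527 = n219464 := rfl
theorem F499002 : act 3 n219464 = n207129 := d6_1 D219464 (iv5 F470687) (iv3 F470693)
theorem F499003 : act 4 n219464 = n208928 := d9_1 D219464 F451444 F429235 (iv5 D129443) D129442 D206876 F442481 D219463 F498998 (iv5 D205974) F204108 (iv5 F101875) D129217 D206768 (iv4 F442115)
theorem F499004 : act 6 n219464 = n208927 := d12_2 F487157 D219464 F471426 (iv6 F480649) F487156
theorem F499005 : act 7 n219464 = n192304 := d13_2 F470715 D219464 F470717
theorem F499006 : act 0 n219464 = n191943 := d17_2 F442871 D219464 F384934 (iv4 F437407) F437406 F211804 D206874 F442477 D206989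
theorem F499007 : act 1 n219464 = n208940 := d17_6 (iv1 F207625) (iv5 D129457) F207437 D206768 (iv4 F442115) D219464 F451483 (iv0 F437317) (iv4 D205642)
def n219465 : Q := act 5 n191530
theorem D219465 : act 5 n191530 = n219465 := rfl
theorem F499008 : act 2 n219465 = n191531 := d2_1 D219465 (iv5 D191531) D191530
theorem F499009 : act 3 n219465 = n203938 := d6_1 D219465 (iv5 D203938) (iv3 F383670)
theorem F499010 : act 4 n219465 = n208372 := d9_1 D219465 F449114 F432302 (iv5 D189194) F358764 (iv5 D173416) F127909 D172783 F347343 F242414 (iv4 F376022) (iv5 D189192) D189191 (iv5 F443226) F443225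
theorem F499011 : act 6 n219465 = n215625 := d12_2 (iv6 F383671) D219465 (iv5 F482414) F482410 F440223
theorem F499012 : act 7 n219465 = n208369 := d13_2 (iv7 F383672) D219465 F449108
theorem F499013 : act 0 n219465 = n215315 := d17_2 (iv1 F383673) D219465 F479351 (iv4 F444871) F273265 F273264 F128505 F128483 (iv4 F188757)
theorem F499014 : act 1 n219465 = n203627 := d17_6 F447357 F447354 F376020 (iv5 F443226) F443225 D219465 F444874 F447374 F447371
def n219466 : Q := act 6 n191535
theorem D219466 : act 6 n191535 = n219466 := rfl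
theorem F499015 : act 2 n219466 = n206488 := d3_1 D219466 F441052 (iv2 F417966)
theorem F499016 : act 3 n219466 = n206122 := d7_1 D219466 (iv6 D206122) (iv3 F383692)
theorem F499017 : act 4 n219466 = n191536 := d10_1 D219466 (iv6 D191536) D191535
theorem F499018 : act 5 n219466 = n191621 := d12_1 D219466 F474233 F474230 (iv6 F434093) F434090
theorem F499019 : act 7 n219466 = n191620 := d14_2 F417847 D219466 (iv6 F384008) (iv7 F384034) (iv6 F417846)
theorem F499020 : act 0 n219466 = n206422 := d21_4 (iv5 F347462) (iv1 F434089) F434090 D219466 (iv6 D206422) F339370 (iv1 D128839) (iv5 D60590) D60591 D128842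
theorem F499021 : act 0 n206504 = n219466 := d21_4 (iv5 F416958) (iv1 F456158) (iv5 D210100) (iv6 F441120) (iv6 D219466) (iv5 F434090) (iv1 D204903) (iv5 F361729) (iv6 F418015) (iv1 D200812)
def n219467 : Q := act 1 n191542
theorem D219467 : act 1 n191542 = n219467 := rfl
theorem F499022 : act 7 n219467 = n215316 := d15_2 (iv0 F417704) D219467 F479355
theorem F499023 : act 5 n219467 = n200629 := d17_7 (iv1 F175515) F328796 (iv1 F415387) F415389 F381047 (iv5 F383727) D219467 F417280 F384094
theorem F499024 : act 4 n219467 = n192508 := d17_9 F386884 F352526 D192906 F388174 F417328 F417326 (iv0 F395685) (iv5 F383727) D219467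
theorem F499025 : act 3 n205544 = n219467 := d19_19 (iv1 D219467) F383727 (iv4 F381047) D200480 F416644 D205326 F435946 (iv3 F456577) F456580 F426753 (iv4 D137976) (iv3 F177217) (iv1 F396019) F396016 (iv4 D137298) D137297 (iv1 F401935) (iv5 F359167) (iv4 F436928)
theorem F499026 : act 6 n206492 = n219467 := d21_3 (iv5 F345750) F345748 (iv5 F441066) (iv1 D219467) (iv6 D191542) F383328 F383326 F383324 F361251 F218457
theorem F499027 : act 2 n219467 = n200630 := d3_1 F499026 F418055 (iv2 F441064)
def n219468 : Q := act 0 n191548
theorem D219468 : act 0 n191548 = n219468 := rfl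
theorem F499028 : act 5 n219468 = n197202 := d17_1 D219468 F420622 F420620 F204827 F328433 D209369 (iv5 F453423) (iv0 F484612) F484609
theorem F499029 : act 4 n219468 = n203077 := d18_1 D219468 (iv1 F487823) F487819 F426572 F312437 F366716 (iv4 F383609) (iv0 F383610) D191548
theorem F499030 : act 3 n219468 = n197203 := d20_5 F344374 F344370 (iv4 F338694) (iv3 F383763) D219468 (iv4 F420261) (iv1 D201380) (iv4 F354915) (iv3 F354927) F344379
theorem F499031 : act 2 n206176 = n219468 := d15_3 (iv0 D219468) (iv0 F383766) (iv7 F439585)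
theorem F499032 : act 1 n206152 = n219468 := d15_0 (iv0 D219468) F383765 (iv2 F439490)
theorem F499033 : act 7 n219468 = n208536 := d15_2 (iv0 F439493) F499032 F449772
theorem F499034 : act 6 n202875 = n219468 := d21_3 F364631 (iv1 F424586) (iv5 F425985) (iv1 F499032) (iv6 D206152) D206151 F439489 (iv5 F393566) (iv6 D194522) F348684
def n219469 : Q := act 1 n191550
theorem D219469 : act 1 n191550 = n219469 := rfl
theorem F499035 : act 1 n219469 = n216386 := d15_1 D219469 F484127 F442760
theorem F499036 : act 5 n219469 = n206888 := d18_9 (iv1 D206888) (iv4 F219455) F221362 (iv4 F421464) (iv5 F446491) F446492 (iv0 F358465) D191550 D219469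
theorem F499037 : act 2 n217666 = n219469 := d2_3 F499036 F453475 (iv5 F490008)
def n219470 : Q := act 5 n191550
theorem D219470 : act 5 n191550 = n219470 := rfl
theorem F499038 : act 2 n219470 = n207723 := d2_1 D219470 F446158 F442760
theorem F499039 : act 6 n219470 = n206719 := d12_2 F383775 D219470 (iv5 D206719) (iv6 D129144) D129143
theorem F499040 : act 0 n219470 = n209358 := d21_4 D129847 F361153 D206719 (iv6 F499039) (iv6 D209358) F355281 (iv1 D129452) D129454 F355283 (iv1 D129846)
def n219471 : Q := act 0 n191557
theorem D219471 : act 0 n191557 = n219471 := rfl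
theorem F499041 : act 5 n219471 = n215352 := d17_1 D219471 (iv1 F479518) (iv5 D191525) (iv4 F268253) (iv5 F332377) (iv0 F332378) F271855 F403086 F403083
theorem F499042 : act 4 n219471 = n203650 := d18_1 D219471 F429240 F332328 F286423 F346166 F437324 F437322 (iv0 F383663) D191557
theorem F499043 : act 3 n219471 = n207348 := d20_5 (iv4 F311780) F311778 F272839 (iv3 F383798) D219471 F444459 F252458 (iv4 F385169) F385168 F274658
theorem F499044 : act 6 n219471 = n207347 := d21_5 D217000 F486926 F391943 F387389 D219471 F444454 (iv1 F479212) (iv5 D215284) F462575 (iv1 F462572)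
theorem F499045 : act 2 n219464 = n219471 := d15_3 (iv0 D219471) F447687 (iv7 F499005)
theorem F499046 : act 7 n219471 = n219463 := d4_2 (iv7 F499005) F499045 F498996
def n219472 : Q := act 1 n191559
theorem D219472 : act 1 n191559 = n219472 := rfl
theorem F499047 : act 1 n219472 = n206085 := d15_1 D219472 F439186 F417437
theorem F499048 : act 7 n219472 = n205429 := d15_2 F418157 D219472 F436372
theorem F499049 : act 5 n219472 = n194793 := d17_7 F360312 (iv5 D103675) (iv1 D48017) D48018 D103679 (iv5 F383805) D219472 (iv0 F480895) (iv4 D215638)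
theorem F499050 : act 4 n219472 = n206972 := d18_7 F371085 (iv4 D187641) (iv1 F326589) (iv4 F211793) D207661 F445894 D219472 (iv0 D206972) F374828
theorem F499051 : act 3 n200971 = n219472 := d19_19 (iv1 D219472) F383805 (iv4 D103679) F75442 D48020 F75446 F64764 F31551 F291105 (iv5 D9262) (iv4 F15292) D8945 (iv1 F35684) F35602 D19424 D41294 D88464 (iv5 F176890) (iv4 F418559)
theorem F499052 : act 2 n219472 = n219023 := d0_1 F499051 F496738 (iv2 F441524) F441525 (iv2 F418558)
theorem F499053 : act 6 n219472 = n191641 := d7_2 D200971 F499051 (iv3 F383994)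
def n219473 : Q := act 6 n191559
theorem D219473 : act 6 n191559 = n219473 := rfl
theorem F499054 : act 2 n219473 = n195713 := d3_1 D219473 (iv6 F419214) F417437
theorem F499055 : act 3 n219473 = n191560 := d7_1 D219473 (iv6 D191560) D191559
theorem F499056 : act 7 n219473 = n195712 := d14_2 F389587 D219473 (iv6 F482998) (iv7 F498638) F498642
theorem F499057 : act 0 n219473 = n195703 := d21_4 (iv5 F418729) (iv1 D194502) (iv5 F383805) D219473 (iv6 D195703) (iv5 D106219) (iv1 F381059) D195685 F439194 F439196
theorem F499058 : act 1 n219473 = n195714 := d15_1 (iv0 F499057) (iv7 D195714) (iv2 F397896)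
def n219474 : Q := act 5 n191560
theorem D219474 : act 5 n191560 = n219474 := rfl
theorem F499059 : act 2 n219474 = n205214 := d2_1 D219474 F435467 (iv2 F383806)
theorem F499060 : act 6 n219474 = n200539 := d12_2 D191560 D219474 F416929 (iv6 F352206) F352205
theorem F499061 : act 7 n219474 = n209952 := d13_2 (iv7 F383842) D219474 (iv5 D209952)
theorem F499062 : act 0 n219474 = n210097 := d17_2 F383808 D219474 (iv5 D210097) (iv4 D137538) (iv5 D64654) F99528 (iv5 F225343) (iv0 D135966) D135968
theorem F499063 : act 1 n219474 = n209265 := d17_6 (iv1 F333140) (iv5 F333093) (iv1 F153755) (iv5 F151936) (iv4 F383807) D219474 (iv5 D209265) (iv0 F391952) (iv4 D194068)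
def n219475 : Q := act 4 n191564
theorem D219475 : act 4 n191564 = n219475 := rfl
theorem F499064 : act 2 n219475 = n191565 := d1_1 D219475 (iv4 D191565) D191564
theorem F499065 : act 5 n219475 = n207050 := d9_2 F387282 D219475 F443117 (iv5 F463918) F463919 (iv5 F439917) F439916 F387296 (iv4 F442526) (iv5 D206889) (iv4 F219455) (iv5 F328433) (iv4 F204827) (iv5 F420620) F420619
theorem F499066 : act 6 n219475 = n210303 := d10_2 (iv6 F437870) D219475 (iv4 D210303)
theorem F499067 : act 7 n219475 = n207049 := d11_2 (iv7 F383843) D219475 (iv4 F443115)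
theorem F499068 : act 1 n219475 = n217664 := d18_6 (iv1 F428393) F428394 F420622 F420619 F387282 D219475 F489996 F444428 F444427
theorem F499069 : act 3 n219475 = n207727 := d20_3 F396560 (iv1 F383844) D219475 (iv1 D207727) (iv3 F361172) F212724 (iv1 F96941) D62199 D132573 F421597
def n219476 : Q := act 0 n191565
theorem D219476 : act 0 n191565 = n219476 := rfl
theorem F499070 : act 5 n219476 = n209358 := d17_1 D219476 F453384 (iv5 F484128) (iv4 D216386) (iv5 D183399) (iv0 D87546) D87548 (iv0 F233166) D191565
theorem F499071 : act 4 n219476 = n207340 := d18_1 D219476 (iv1 F444418) F430624 F347259 (iv4 F219604) D209448 (iv4 F453750) F443112 (iv5 F410532)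
theorem F499072 : act 3 n219476 = n216832 := d20_5 F207152 (iv1 F352201) D200672 F417423 D219476 (iv4 D216832) (iv1 F374630) D218206 F492718 F418534
theorem F499073 : act 1 n207049 = n219476 := d15_0 (iv0 D219476) (iv7 F442525) (iv2 F443113)
theorem F499074 : act 6 n191655 = n219476 := d21_3 D191608 (iv1 F444130) (iv5 F442540) (iv1 F499073) F443114 (iv5 D132225) F96667 D62128 (iv6 F212485) F384114
theorem F499075 : act 7 n219476 = n217664 := d14_2 F465615 F499074 F489997 F421986 (iv6 F465614)
def n219477 : Q := act 1 n191565
theorem D219477 : act 1 n191565 = n219477 := rfl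
theorem F499076 : act 1 n219477 = n207049 := d15_1 D219477 (iv7 F499067) F499064
theorem F499077 : act 4 n219477 = n197523 := d17_9 (iv1 F404695) (iv5 D130875) D130873 (iv5 F431272) (iv4 F490004) F490008 F443112 (iv5 F410532) D219477
theorem F499078 : act 2 n217664 = n219477 := d1_3 F499077 (iv2 F431269) (iv4 F489996)
theorem F499079 : act 6 n197521 = n219477 := d10_0 F499077 (iv6 D197523) D197521
def n219478 : Q := act 0 n191570
theorem D219478 : act 0 n191570 = n219478 := rfl
theorem F499080 : act 5 n219478 = n200767 := d17_1 D219478 F417848 (iv5 F352529) F277080 D177625 F277089 F199413 (iv0 F347457) (iv4 F383870)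
theorem F499081 : act 4 n219478 = n194507 := d18_1 D219478 (iv1 F393488) (iv4 F176527) F352187 (iv4 D98556) F136730 (iv4 F361722) (iv0 F361724) D191570
theorem F499082 : act 3 n219478 = n197009 := d20_5 (iv4 F223570) (iv1 F459531) (iv4 F459533) (iv3 F383868) D219478 (iv4 F435703) F482715 (iv4 F494194) F494191 (iv1 F435512)
theorem F499083 : act 2 n204902 = n219478 := d15_3 (iv0 D219478) (iv0 F477794) F477793
theorem F499084 : act 1 n191572 = n219478 := d15_0 (iv0 D219478) F383869 (iv2 F383872)
theorem F499085 : act 7 n219478 = n204903 := d15_2 F477796 F499084 (iv2 F477790)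
theorem F499086 : act 6 n197007 = n219478 := d21_3 F416651 F397679 (iv5 F402667) (iv1 F499084) F383874 (iv5 D177449) (iv1 F341717) (iv5 F416671) (iv6 D200485) D200482
def n219479 : Q := act 6 n191570
theorem D219479 : act 6 n191570 = n219479 := rfl
theorem F499087 : act 2 n219479 = n204904 := d3_1 D219479 (iv6 D204904) (iv2 F383867)
theorem F499088 : act 3 n219479 = n215738 := d7_1 D219479 (iv6 D215738) (iv3 F383868)
theorem F499089 : act 4 n219479 = n204901 := d10_1 D219479 (iv6 D204901) (iv4 F383870)
theorem F499090 : act 7 n219479 = n213078 := d14_2 (iv7 F383869) D219479 F468893 (iv7 D177454) (iv6 F347463)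
theorem F499091 : act 0 n200066 = n219479 := d21_4 (iv5 F127237) (iv1 F129201) (iv5 F303745) (iv6 F414876) (iv6 D219479) (iv5 D191570) F361724 (iv5 F361717) (iv6 D172545) (iv1 F127231)
theorem F499092 : act 1 n200068 = n219479 := d15_0 (iv0 F499091) F414877 (iv2 F414882)
def n219480 : Q := act 0 n191571
theorem D219480 : act 0 n191571 = n219480 := rfl
theorem F499093 : act 5 n219480 = n200860 := d17_1 D219480 (iv1 F437133) (iv5 D205591) (iv4 F437123) (iv5 F437124) F211650 D206610 F445667 F445664
theorem F499094 : act 4 n219480 = n196086 := d18_1 D219480 (iv1 F399359) (iv4 F436962) F436963 F260877 (iv0 F348160) (iv4 F348163) F417309 F417307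
theorem F499095 : act 6 n219480 = n191675 := d21_5 F358301 (iv1 F360458) (iv5 F395391) (iv6 F395395) D219480 (iv5 F436058) F456821 F456818 (iv6 D182769) D182766
theorem F499096 : act 2 n214925 = n219480 := d15_3 (iv0 D219480) (iv0 F452092) (iv7 F477464)
theorem F499097 : act 1 n205553 = n219480 := d15_0 (iv0 D219480) (iv7 F417352) (iv2 F436967)
theorem F499098 : act 7 n219480 = n196082 := d15_2 F452093 F499097 (iv2 F452089)
theorem F499099 : act 3 n198929 = n219480 := d8_3 F499098 F414988 (iv7 F414989)
def n219481 : Q := act 3 n191573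
theorem D219481 : act 3 n191573 = n219481 := rfl
theorem F499100 : act 2 n219481 = n214921 := d0_1 D219481 (iv3 F477443) F437129 F435981 F383880
theorem F499101 : act 5 n219481 = n193357 := d6_2 (iv5 F383876) D219481 (iv3 D193357)
theorem F499102 : act 6 n219481 = n215733 := d7_2 (iv6 F383878) D219481 F481305
theorem F499103 : act 7 n219481 = n214893 := d8_2 F441312 D219481 F477308
theorem F499104 : act 0 n219481 = n214922 := d20_4 F361239 F323502 (iv4 F383877) D219481 (iv3 F480898) (iv4 D215639) (iv1 F360321) D190396 (iv3 F389616) (iv1 D193371)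
theorem F499105 : act 0 n214917 = n219481 := d20_4 F119764 D78600 D163590 D214917 (iv3 D219481) F383877 (iv1 D166160) D166162 F261642 F297828
def n219482 : Q := act 0 n191579
theorem D219482 : act 0 n191579 = n219482 := rfl
theorem F499106 : act 5 n219482 = n216355 := d17_3 F456766 F387622 D219482 F483979 F284749 (iv0 F420534) (iv5 F496592) (iv0 F496597) (iv4 F456765)
theorem F499107 : act 2 n191587 = n219482 := d2_3 F499106 F483978 F454241
theorem F499108 : act 3 n216356 = n219482 := d6_3 F499106 (iv3 D216355) D216356
theorem F499109 : act 7 n191588 = n219482 := d13_0 F499106 (iv7 F493408) F493407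
theorem F499110 : act 0 n219482 = n191589 := d21_7 (iv5 F469045) (iv1 F469047) (iv5 D152541) D152542 F423312 (iv6 F483980) (iv5 F499106) F383903 (iv6 D152552) D152548
def n219483 : Q := act 1 n191579
theorem D219483 : act 1 n191579 = n219483 := rfl
theorem F499111 : act 1 n219483 = n191589 := d15_1 D219483 (iv7 D191589) (iv2 F383894)
theorem F499112 : act 7 n219483 = n191587 := d15_2 (iv0 D219482) D219483 F499107
theorem F499113 : act 3 n208646 = n219483 := d19_19 (iv1 D219483) (iv5 F387622) (iv4 F468751) (iv3 F484088) (iv1 F484091) F484071 (iv4 D187613) F139106 F294767 (iv5 D21905) F16643 F6857 D4788 D10501 D22041 D46120 F294409 D182318 (iv4 F450311)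
theorem F499114 : act 2 n219483 = n191588 := d0_1 F499113 (iv3 F443264) (iv2 F487465) F487466 (iv2 F450310)
theorem F499115 : act 6 n219483 = n208645 := d7_2 D208646 F499113 (iv3 D208645)
def n219484 : Q := act 7 n191579
theorem D219484 : act 7 n191579 = n219484 := rfl
theorem F499116 : act 2 n219484 = n191589 := d4_1 D219484 (iv7 D191589) (iv2 F383894)
theorem F499117 : act 3 n219484 = n216391 := d8_1 D219484 (iv7 D216391) (iv3 F383895)
theorem F499118 : act 4 n219484 = n207748 := d11_1 D219484 F451520 (iv4 F451519)
theorem F499119 : act 5 n219484 = n213043 := d13_1 D219484 F468747 F387622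
theorem F499120 : act 1 n191588 = n219484 := d15_1 D191588 (iv7 D219484) F383894
theorem F499121 : act 1 n219484 = n191587 := d15_1 F499120 (iv7 F499112) F499114
def n219485 : Q := act 3 n191580
theorem D219485 : act 3 n191580 = n219485 := rfl
theorem F499122 : act 4 n219485 = n208683 := d5_2 D191580 D219485 F450439 F384144 F357368
theorem F499123 : act 0 n216388 = n219485 := d20_1 (iv4 F484132) F499122 F450439 (iv1 F384145) F367843 (iv4 F367847) (iv1 F367852) (iv4 F394246) F484140 (iv1 D216390)
def n219486 : Q := act 5 n191581
theorem D219486 : act 5 n191581 = n219486 := rfl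
theorem F499124 : act 2 n219486 = n206105 := d2_1 D219486 (iv5 F487146) F487145
theorem F499125 : act 3 n219486 = n191655 := d6_1 D219486 F442540 F442537
theorem F499126 : act 4 n219486 = n206096 := d9_1 D219486 (iv5 F463981) (iv4 F464054) F464055 F369309 F251755 D191580 (iv5 F439245) (iv4 F439244) F439240 (iv4 F229202) (iv5 F383003) F382999 (iv5 F367255) D191581
theorem F499127 : act 6 n219486 = n216832 := d12_2 F442536 D219486 F486108 F475271 F453380
theorem F499128 : act 7 n219486 = n206107 := d13_2 F465605 D219486 (iv5 F465604)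
theorem F499129 : act 0 n219486 = n206734 := d17_2 F442012 D219486 (iv5 F450760) (iv4 D208765) F361056 F160958 (iv5 F344363) (iv0 F344362) (iv4 F442011)
theorem F499130 : act 1 n219486 = n201069 := d17_6 F367415 (iv5 F367089) (iv1 F367254) (iv5 F367255) D191581 D219486 (iv5 F450772) F450775 F437287
def n219487 : Q := act 0 n191584
theorem D219487 : act 0 n191584 = n219487 := rfl
theorem F499131 : act 3 n219487 = n195262 := d20_5 (iv4 D191581) (iv1 D98573) D98574 D191584 D219487 F396508 (iv1 D166754) (iv4 F334297) (iv3 F442009) F442012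
theorem F499132 : act 5 n195260 = n219487 := d6_0 F499131 (iv5 D195262) (iv3 F396503)
def n219488 : Q := act 1 n191584
theorem D219488 : act 1 n191584 = n219488 := rfl
theorem F499133 : act 4 n219488 = n208107 := d18_7 (iv1 F441813) (iv4 F453338) F453340 F384066 F152017 (iv4 F383899) D219488 (iv0 F447901) F445138
theorem F499134 : act 3 n207676 = n219488 := d5_5 F499133 F447899 (iv4 F394246) F484140 F484139
theorem F499135 : act 6 n207674 = n219488 := d10_0 F499133 (iv6 D208107) (iv4 F445961)
def n219489 : Q := act 2 n191584
theorem D219489 : act 2 n191584 = n219489 := rfl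
theorem F499136 : act 3 n219489 = n207732 := d0_2 D191584 D219489 F446177 F442239 F383892
theorem F499137 : act 4 n219489 = n191595 := d1_2 (iv4 F383899) D219489 (iv2 D191595)
theorem F499138 : act 6 n219489 = n207744 := d3_2 (iv6 F496918) D219489 F496917
theorem F499139 : act 5 n208954 = n219489 := d12_5 F499138 (iv5 D207744) F211902 D206748 (iv6 F451542)
def n219490 : Q := act 5 n191584
theorem D219490 : act 5 n191584 = n219490 := rfl
theorem F499140 : act 2 n219490 = n208954 := d2_1 D219490 F499139 (iv2 D219489)
theorem F499141 : act 3 n219490 = n191585 := d6_1 D219490 (iv5 D191585) D191584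
theorem F499142 : act 7 n219490 = n208955 := d13_2 F487153 D219490 (iv5 F487152)
theorem F499143 : act 4 n219490 = n206573 := d16_2 (iv4 F383899) D219490 (iv5 D206573) (iv4 F212990) (iv5 F446186) F446188 (iv5 F487177) F487179 (iv2 D191595)
theorem F499144 : act 0 n219490 = n208957 := d17_2 (iv1 D219488) D219490 F451553 F443378 (iv5 F439304) (iv0 D206113) (iv5 F398795) (iv0 F447900) (iv4 F499133)
theorem F499145 : act 1 n219490 = n208953 := d17_8 (iv1 F487135) F487132 (iv1 F397692) F383995 (iv4 F396504) F499132 (iv0 D219487) D219490 F451540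
def n219491 : Q := act 4 n191593
theorem D219491 : act 4 n191593 = n219491 := rfl
theorem F499146 : act 2 n219491 = n207728 := d1_1 D219491 F487171 F487174
theorem F499147 : act 7 n219491 = n207689 := d11_2 (iv7 F487169) D219491 F487168
theorem F499148 : act 0 n219491 = n207496 := d20_1 D219491 (iv4 D207496) (iv3 D131853) (iv1 D61866) (iv3 F96438) F327401 (iv1 D46083) D46084 D98581 D191593
theorem F499149 : act 0 n207730 = n219491 := d20_1 F495067 (iv4 D219491) F445162 (iv1 F445161) (iv3 F445168) F445169 (iv1 F336576) (iv4 F442088) (iv3 F445086) F495071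
theorem F499150 : act 6 n207811 = n219491 := d14_5 F499147 (iv6 D207689) F418671 D206880 (iv7 F446552)
def n219492 : Q := act 6 n191593
theorem D219492 : act 6 n191593 = n219492 := rfl
theorem F499151 : act 3 n219492 = n205539 := d7_1 D219492 (iv6 F445160) (iv3 F445162)
theorem F499152 : act 4 n219492 = n207811 := d10_1 D219492 F499150 (iv4 D219491)
theorem F499153 : act 0 n219492 = n205246 := d21_4 F367820 F483769 F483767 D219492 F435590 (iv5 D125707) (iv1 F93084) D113559 F417209 F417208
theorem F499154 : act 5 n205567 = n219492 := d21_6 (iv5 D27983) (iv1 F45220) D58813 D125609 D205215 (iv6 F437018) F499153 (iv5 D205246) (iv6 D125632) (iv1 F92998)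
def n219493 : Q := act 6 n191595
theorem D219493 : act 6 n191595 = n219493 := rfl
theorem F499155 : act 2 n219493 = n191596 := d3_1 D219493 (iv6 D191596) D191595
theorem F499156 : act 3 n219493 = n206649 := d7_1 D219493 (iv6 F487133) F487130
theorem F499157 : act 4 n219493 = n207744 := d10_1 D219493 (iv6 F499138) F499137
theorem F499158 : act 5 n219493 = n206648 := d12_1 D219493 F441731 F402673 (iv6 F397687) F384084
theorem F499159 : act 7 n219493 = n219093 := d14_2 F487179 D219493 F497144 (iv7 F445422) (iv6 F487178)
theorem F499160 : act 0 n219493 = n200584 := d21_4 F487293 F440858 F384084 D219493 (iv6 D200584) (iv5 D113246) D113243 F377922 F367825 D217077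
def n219494 : Q := act 0 n191596
theorem D219494 : act 0 n191596 = n219494 := rfl
theorem F499161 : act 5 n219494 = n205355 := d17_1 D219494 F436050 D219089 F497129 (iv5 D207945) F365589 D205685 F496916 F496914
theorem F499162 : act 3 n219494 = n200609 := d20_5 (iv4 F354671) (iv1 D98584) (iv4 F151974) (iv3 F383921) D219494 F417181 (iv1 F380131) F380129 F377704 (iv1 D128726)
theorem F499163 : act 6 n219494 = n195690 := d21_5 F383995 F365710 F152017 D191596 D219494 F397870 (iv1 F176442) F395220 D195638 (iv1 F397692)
theorem F499164 : act 2 n200584 = n219494 := d15_3 (iv0 D219494) (iv0 F418171) F418170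
theorem F499165 : act 0 n219494 = n219093 := d21_4 (iv5 F361380) (iv1 F176440) (iv5 F397870) (iv6 F499163) F497144 F445418 F211981 F362918 (iv6 D106109) D106106
def n219495 : Q := act 7 n191596
theorem D219495 : act 7 n191596 = n219495 := rfl
theorem F499166 : act 2 n219495 = n219093 := d4_1 D219495 (iv7 F499159) F499155
theorem F499167 : act 3 n219495 = n191597 := d8_1 D219495 (iv7 D191597) (iv3 F383921)
theorem F499168 : act 4 n219495 = n218670 := d11_1 D219495 F496925 F496914
theorem F499169 : act 5 n219495 = n214993 := d13_1 D219495 F477787 (iv5 F474534)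
theorem F499170 : act 6 n219495 = n206489 := d14_1 D219495 (iv7 F445424) (iv6 F445426) F367776 D191596
theorem F499171 : act 0 n200584 = n219495 := d21_4 (iv5 F361400) (iv1 D113244) D113246 D200584 F499170 (iv5 D206489) F206981 D128700 F362916 (iv1 F163226)
def n219496 : Q := act 6 n191603
theorem D219496 : act 6 n191603 = n219496 := rfl
theorem F499172 : act 2 n219496 = n191609 := d3_1 D219496 (iv6 D191609) (iv2 F383953)
theorem F499173 : act 3 n219496 = n207734 := d7_1 D219496 (iv6 D207734) (iv3 F383956)
theorem F499174 : act 4 n219496 = n191604 := d10_1 D219496 (iv6 D191604) D191603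
def n219497 : Q := act 7 n191604
theorem D219497 : act 7 n191604 = n219497 := rfl
theorem F499175 : act 2 n219497 = n191612 := d4_1 D219497 (iv7 D191612) (iv2 F383957)
theorem F499176 : act 6 n219497 = n216391 := d14_1 D219497 (iv7 D216391) (iv6 D183405) (iv7 F151980) D191604
theorem F499177 : act 1 n191611 = n219497 := d15_1 D191611 (iv7 D219497) F383957
theorem F499178 : act 1 n219497 = n191610 := d15_1 F499177 F470790 F470786
def n219498 : Q := act 0 n191607
theorem D219498 : act 0 n191607 = n219498 := rfl
theorem F499179 : act 5 n219498 = n208962 := d19_1 D219498 (iv4 F487292) F487291 (iv1 F440919) F440921 (iv4 F399464) (iv3 F460609) (iv1 F487084) F487086 (iv4 F375756) (iv3 D189101) (iv1 F143818) F140246 F140046 F295244 (iv1 D46087) D46089 D98591 D191607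
theorem F499180 : act 3 n219498 = n214486 := d20_5 F221051 (iv1 F329334) D98591 D191607 D219498 F475403 (iv1 F399921) (iv4 F442038) F442037 (iv1 F380816)
theorem F499181 : act 1 n207731 = n219498 := d15_0 (iv0 D219498) (iv7 F487116) F487113
theorem F499182 : act 7 n208961 = n219498 := d8_0 F499180 (iv7 D214486) (iv3 F451575)
def n219499 : Q := act 1 n191607
theorem D219499 : act 1 n191607 = n219499 := rfl
theorem F499183 : act 1 n219499 = n207731 := d15_1 D219499 (iv7 F447089) F447087
theorem F499184 : act 4 n219007 = n219499 := d20_6 (iv4 D96143) (iv1 D44866) D44867 D96147 D190538 D219007 (iv1 D219499) F383960 (iv3 D98596) (iv1 F147807)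
theorem F499185 : act 5 n206952 = n219499 := d19_1 F442723 (iv4 F499184) (iv3 D219007) (iv1 F380131) (iv5 F384103) (iv4 F389062) F389061 D193362 F389578 F380091 F376104 (iv1 D189209) F327465 F79710 (iv3 F79707) F168426 F168425 (iv4 F203563) D205746
theorem F499186 : act 2 n219499 = n208961 := d2_1 F499185 (iv5 D208961) (iv2 F442720)
theorem F499187 : act 6 n219499 = n214482 := d12_2 D206952 F499185 (iv5 D214482) F362914 F343603
def n219500 : Q := act 5 n191607
theorem D219500 : act 5 n191607 = n219500 := rfl
theorem F499188 : act 2 n219500 = n207496 := d2_1 D219500 (iv5 F447088) F447087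
theorem F499189 : act 3 n219500 = n191608 := d6_1 D219500 (iv5 D191608) D191607
theorem F499190 : act 7 n219500 = n207730 := d13_2 F487116 D219500 (iv5 F487115)
theorem F499191 : act 4 n219500 = n207495 := d16_6 (iv4 F439261) (iv5 F439262) F383989 F152003 (iv4 F383960) D219500 F445138 F441811 F439301
theorem F499192 : act 1 n219500 = n207728 := d17_6 (iv1 D206449) (iv5 F383995) (iv1 D191641) F152003 (iv4 F383960) D219500 (iv5 F453361) (iv0 F453339) F446188
theorem F499193 : act 1 n207689 = n219500 := d15_0 F499192 (iv7 F453363) (iv2 F446021)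
def n219501 : Q := act 6 n191607
theorem D219501 : act 6 n191607 = n219501 := rfl
theorem F499194 : act 3 n219501 = n191609 := d7_1 D219501 (iv6 D191609) D191607
theorem F499195 : act 4 n219501 = n191617 := d10_1 D219501 (iv6 D191617) (iv4 F383960)
theorem F499196 : act 0 n200658 = n219501 := d18_2 (iv1 D200657) D200658 F499195 (iv5 F421352) F421351 (iv0 F418793) (iv4 F470820) F470825 F417550
def n219502 : Q := act 6 n191608
theorem D219502 : act 6 n191608 = n219502 := rfl
theorem F499197 : act 2 n219502 = n201528 := d3_1 D219502 F420869 (iv2 F383961)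
theorem F499198 : act 4 n219502 = n201525 := d10_1 D219502 (iv6 F463297) F463296
theorem F499199 : act 7 n219502 = n213028 := d14_2 (iv7 F442784) D219502 F468664 F437282 D206970
theorem F499200 : act 0 n219502 = n217632 := d21_10 F489867 (iv1 D209061) (iv5 D135654) (iv6 D63781) (iv1 F48362) D62126 D132415 F384114 D191608 D219502
theorem F499201 : act 0 n213092 = n219502 := d21_4 (iv5 F345876) D207702 (iv5 F446073) (iv6 F468972) (iv6 D219502) (iv5 D191608) (iv1 F437583) (iv5 F437587) F437588 F345877
def n219503 : Q := act 0 n191609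
theorem D219503 : act 0 n191609 = n219503 := rfl
def n219504 : Q := act 1 n191609
theorem D219504 : act 1 n191609 = n219504 := rfl
def n219505 : Q := act 5 n191609
theorem D219505 : act 5 n191609 = n219505 := rfl
def n219506 : Q := act 7 n191609
theorem D219506 : act 7 n191609 = n219506 := rfl
theorem F499202 : act 4 n219506 = n191612 := d11_1 D219506 (iv7 D191612) (iv4 F383962)
def n219507 : Q := act 4 n191610
theorem D219507 : act 4 n191610 = n219507 := rfl
theorem F499203 : act 3 n219507 = n207566 := d5_1 D219507 (iv4 D207566) F359032 F358614 (iv3 F384041)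
theorem F499204 : act 6 n219507 = n206865 := d10_2 (iv6 F485542) D219507 F485546
theorem F499205 : act 5 n218873 = n219507 := d16_1 (iv4 F495983) (iv4 D219507) (iv5 F384042) F458671 (iv5 D210743) (iv4 F458667) (iv5 F488853) (iv7 D217433) (iv2 F379065)
theorem F499206 : act 0 n205794 = n218873 := d17_2 (iv1 D205793) D205794 F499205 (iv4 D219507) (iv5 F384042) D216704 F485541 (iv0 F449389) F437883
theorem F499207 : act 0 n206752 = n219507 := d19_0 (iv5 F499205) F495983 F379066 D190205 F379070 (iv4 F201794) F201793 (iv1 F164876) D196426 (iv4 F445531) F445530 D207873 F446829 (iv4 D205815) F203681 F203461 F96695 (iv4 F207405) (iv3 F442057)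
def n219508 : Q := act 4 n191611
theorem D219508 : act 4 n191611 = n219508 := rfl
theorem F499208 : act 3 n219508 = n214341 := d5_1 D219508 (iv4 D214341) (iv3 F366832) (iv4 F431864) F456187
theorem F499209 : act 0 n219508 = n206752 := d20_4 F442016 F351665 D214341 (iv3 F499208) F442057 F207405 F101884 D130504 D207137 (iv1 F443477)
def n219509 : Q := act 6 n191613
theorem D219509 : act 6 n191613 = n219509 := rfl
theorem F499210 : act 2 n219509 = n210757 := d3_1 D219509 F458701 (iv2 F383964)
theorem F499211 : act 3 n219509 = n202268 := d7_1 D219509 F423426 (iv3 F383965)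
theorem F499212 : act 4 n219509 = n201986 := d10_1 D219509 F422618 (iv4 F383966)
theorem F499213 : act 5 n219509 = n203011 := d12_1 D219509 F426632 (iv5 D183385) (iv6 F287748) D191613
theorem F499214 : act 0 n219509 = n202909 := d21_4 D185479 (iv1 F287746) D191613 D219509 (iv6 F489313) (iv5 D217525) F370531 (iv5 D185490) (iv6 D88360) D88357
theorem F499215 : act 1 n219509 = n212436 := d15_1 (iv0 F499214) (iv7 D212436) (iv2 F426157)
theorem F499216 : act 7 n203089 = n219509 := d13_0 F499213 F426633 D203089
def n219510 : Q := act 0 n191630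
theorem D219510 : act 0 n191630 = n219510 := rfl
theorem F499217 : act 4 n219510 = n193747 := d18_3 (iv1 D191629) D191630 D219510 F390892 (iv4 F445360) F445357 F441409 (iv0 F395965) F395966
theorem F499218 : act 6 n219510 = n193746 := d21_5 (iv5 F368471) (iv1 F368472) (iv5 F347715) (iv6 F383982) D219510 F390889 (iv1 F372743) (iv5 F386236) (iv6 D192261) (iv1 F153871)
theorem F499219 : act 2 n193766 = n219510 := d15_3 (iv0 D219510) (iv0 F383983) D193766
theorem F499220 : act 1 n193764 = n219510 := d15_0 (iv0 D219510) (iv7 F485294) F485296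
theorem F499221 : act 7 n219510 = n192818 := d15_2 D193764 F499220 F387891
theorem F499222 : act 0 n213119 = n219356 := d20_4 (iv4 F499217) (iv1 F499220) (iv4 F392046) (iv3 F469085) (iv3 D219356) (iv4 D191273) F157660 D185057 (iv3 F358601) F390894
theorem F499223 : act 3 n209827 = n219510 := d8_3 F499221 (iv3 F473266) (iv7 F473270)
theorem F499224 : act 5 n217248 = n219510 := d16_7 (iv4 F390246) (iv5 F483678) F483677 (iv5 D206503) (iv4 F441110) (iv5 F441112) D217248 F499221 F387891
def n219511 : Q := act 5 n191630
theorem D219511 : act 5 n191630 = n219511 := rfl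
theorem F499225 : act 2 n219511 = n219431 := d2_1 D219511 F498860 F392031
theorem F499226 : act 3 n219511 = n204038 := d6_1 D219511 (iv5 F432596) F432595
theorem F499227 : act 6 n219511 = n192313 := d12_2 (iv6 F383982) D219511 F386390 (iv6 D187436) (iv5 F347715)
theorem F499228 : act 4 n219511 = n192314 := d16_2 D191630 D219511 (iv5 F431899) (iv4 F441051) (iv5 F487185) F487184 (iv5 F392047) (iv7 D194096) F157909
theorem F499229 : act 1 n219511 = n194789 := d17_8 F386954 F386951 F441113 (iv5 F441112) D217248 F499224 (iv0 D219510) D219511 F394480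
theorem F499230 : act 1 n219391 = n219511 := d15_0 F499229 (iv7 F487649) (iv2 F498649)
def n219512 : Q := act 6 n191632
theorem D219512 : act 6 n191632 = n219512 := rfl
theorem F499231 : act 2 n219512 = n191635 := d3_1 D219512 (iv6 D191635) (iv2 F383985)
theorem F499232 : act 4 n219512 = n191633 := d10_1 D219512 (iv6 D191633) D191632
theorem F499233 : act 5 n219512 = n203122 := d12_1 D219512 (iv6 D203122) (iv5 F204697) D206095 (iv5 F439232)
theorem F499234 : act 0 n195254 = n219512 := d21_4 F421965 F405326 (iv5 D195253) D195254 (iv6 D219512) F439232 (iv1 F494999) (iv5 D218656) (iv6 F421958) (iv1 F421966)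
theorem F499235 : act 6 n212400 = n201646 := d21_5 (iv5 D146876) (iv1 D68853) D68855 D146883 D212400 F455985 F499234 F499233 (iv6 D203122) (iv1 F230265)
theorem F499236 : act 3 n201808 = n212400 := d7_3 F499235 (iv3 F455986) F421859
theorem F499237 : act 7 n212400 = n214416 := d8_2 F421860 F499236 (iv3 D214416)
def n219513 : Q := act 5 n191633
theorem D219513 : act 5 n191633 = n219513 := rfl
theorem F499238 : act 2 n219513 = n191638 := d2_1 D219513 (iv5 D191638) (iv2 F383987)
theorem F499239 : act 3 n219513 = n216275 := d6_1 D219513 F483599 (iv3 F383988)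
theorem F499240 : act 6 n219513 = n216273 := d12_2 D191633 D219513 F483593 F371240 F367089
theorem F499241 : act 0 n219513 = n217300 := d21_1 D219513 F488333 (iv6 F470714) F470716 (iv6 F445021) F445020 F468271 F468268 (iv6 F492732) (iv1 F492735)
def n219514 : Q := act 1 n191634
theorem D219514 : act 1 n191634 = n219514 := rfl
def n219515 : Q := act 2 n191634
theorem D219515 : act 2 n191634 = n219515 := rfl
theorem F499242 : act 3 n219515 = n207736 := d0_2 D191634 D219515 F446189 F443209 F383985
theorem F499243 : act 4 n219515 = n191642 := d1_2 (iv4 F383989) D219515 (iv2 D191642)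
theorem F499244 : act 1 n219515 = n208956 := d15_0 (iv0 F487275) F487274 D219515
def n219516 : Q := act 6 n191634
theorem D219516 : act 6 n191634 = n219516 := rfl
theorem F499245 : act 3 n219516 = n191635 := d7_1 D219516 (iv6 D191635) D191634
theorem F499246 : act 4 n219516 = n191643 := d10_1 D219516 (iv6 D191643) (iv4 F383989)
theorem F499247 : act 5 n219516 = n201619 := d12_1 D219516 (iv6 F421735) F421734 D206101 (iv5 F439262)
theorem F499248 : act 0 n201730 = n219516 := d17_0 F499247 F421158 F419221 F419220 (iv5 D115002) F179050 (iv5 F399231) (iv0 F399230) (iv4 F421595)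
theorem F499249 : act 1 n201733 = n219516 := d17_6 (iv1 F179025) (iv5 F251400) (iv1 D159601) F114468 (iv4 F179139) D201733 F499247 F421159 (iv4 D114999)
def n219517 : Q := act 1 n191635
theorem D219517 : act 1 n191635 = n219517 := rfl
theorem F499250 : act 3 n206586 = n219517 := d19_19 (iv1 D219517) (iv5 F439266) F439265 F427033 (iv1 F493459) F493456 F457631 F330043 (iv1 D74484) D74485 (iv4 F317007) (iv3 F466122) (iv1 F466126) (iv5 F334603) (iv4 F389604) (iv3 F389606) (iv1 F403289) F403287 (iv4 F441441)
theorem F499251 : act 4 n208265 = n219517 := d20_6 D191649 (iv1 F384053) (iv4 F368083) F368082 (iv1 F336403) (iv3 F448647) (iv1 D219517) F383990 F152002 D98611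
theorem F499252 : act 2 n219517 = n195254 := d1_1 F499251 F396484 (iv2 F448646)
theorem F499253 : act 6 n219517 = n195252 := d10_2 D208265 F499251 F396477
def n219518 : Q := act 7 n191635
theorem D219518 : act 7 n191635 = n219518 := rfl
theorem F499254 : act 4 n219518 = n191639 := d11_1 D219518 (iv7 D191639) (iv4 F383990)
theorem F499255 : act 5 n219518 = n207788 := d13_1 D219518 F446446 F439266
theorem F499256 : act 6 n219518 = n207789 := d14_1 D219518 F487281 (iv6 D217075) F367816 D191635
theorem F499257 : act 1 n195254 = n219518 := d15_1 (iv0 F499234) (iv7 D219518) (iv2 F499231)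
def n219519 : Q := act 4 n191636
theorem D219519 : act 4 n191636 = n219519 := rfl
theorem F499258 : act 2 n219519 = n217626 := d1_1 D219519 F489843 F384000
theorem F499259 : act 6 n219519 = n210257 := d10_2 F384002 D219519 (iv4 D210257)
def n219520 : Q := act 5 n191636
theorem D219520 : act 5 n191636 = n219520 := rfl
theorem F499260 : act 2 n219520 = n216996 := d2_1 D219520 F486904 F384000
theorem F499261 : act 3 n219520 = n210261 := d6_1 D219520 (iv5 D210261) (iv3 F384001)
theorem F499262 : act 7 n219520 = n216995 := d13_2 F492733 D219520 (iv5 F492731)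
theorem F499263 : act 0 n219520 = n216994 := d21_1 D219520 (iv5 F486900) (iv6 D210188) F411285 F411280 F371292 F371291 (iv5 D98607) D98608 D191636
theorem F499264 : act 1 n219520 = n216993 := d15_0 (iv0 D216993) D216996 (iv2 F499260)
def n219521 : Q := act 0 n191638
theorem D219521 : act 0 n191638 = n219521 := rfl
theorem F499265 : act 5 n219521 = n217694 := d21_8 F442869 (iv1 F345812) F344996 F345001 F344982 D98608 D191638 D219521 F490161 (iv1 F442872)
theorem F499266 : act 2 n217300 = n219521 := d15_3 (iv0 D219521) (iv0 F487965) (iv7 F488335)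
def n219522 : Q := act 4 n191638
theorem D219522 : act 4 n191638 = n219522 := rfl
theorem F499267 : act 6 n219522 = n217653 := d10_2 (iv6 F383992) D219522 (iv4 D217653)
def n219523 : Q := act 7 n191638
theorem D219523 : act 7 n191638 = n219523 := rfl
theorem F499268 : act 3 n219523 = n191654 := d8_1 D219523 (iv7 D191654) (iv3 F383991)
theorem F499269 : act 5 n219523 = n191639 := d13_1 D219523 (iv7 D191639) D191638
theorem F499270 : act 0 n217300 = n219523 := d21_1 (iv5 F488333) F499269 (iv6 F418032) F456631 (iv6 D210219) (iv5 F402231) (iv1 F456504) (iv5 D210187) D210188 F470719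
def n219524 : Q := act 0 n191650
theorem D219524 : act 0 n191650 = n219524 := rfl
theorem F499271 : act 4 n219524 = n216238 := d18_1 D219524 F483454 (iv4 F368884) (iv5 F368885) (iv4 F384056) F487239 F487236 F367810 D191650
theorem F499272 : act 2 n216240 = n219524 := d15_3 (iv0 D219524) F491411 F491408
theorem F499273 : act 1 n191651 = n219524 := d15_0 (iv0 D219524) (iv7 F487248) F487245
theorem F499274 : act 7 n219524 = n216235 := d15_2 (iv0 F491410) F499273 (iv2 F491405)
theorem F499275 : act 6 n217083 = n219524 := d21_9 (iv5 D191651) (iv1 D98612) D98613 (iv6 F291066) (iv1 F291676) D186010 F288579 D187129 (iv5 F487325) (iv1 F499273)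
def n219525 : Q := act 4 n191650
theorem D219525 : act 4 n191650 = n219525 := rfl
theorem F499276 : act 0 n219525 = n193765 := d18_2 (iv1 F491411) D219525 (iv4 F390942) (iv5 F368890) (iv4 F455483) (iv0 F455487) (iv4 F487191) (iv0 F487193) (iv5 F491407)
theorem F499277 : act 1 n219525 = n217248 := d18_6 F368889 F152106 F384052 (iv4 D191649) D191650 D219525 (iv4 D217248) (iv0 D187039) D187042
def n219526 : Q := act 6 n191650
theorem D219526 : act 6 n191650 = n219526 := rfl
theorem F499278 : act 7 n219526 = n219435 := d14_2 F487248 D219526 (iv6 D219435) (iv7 F486908) (iv6 F487247)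
theorem F499279 : act 0 n219526 = n217869 := d21_4 (iv5 D98613) D98611 D191650 D219526 F491015 (iv5 F485524) F485528 (iv5 F498855) F498856 (iv1 D191652)
theorem F499280 : act 0 n217867 = n219526 := d21_4 (iv5 D210607) F412756 (iv5 F498664) F498666 (iv6 D219526) (iv5 D191650) (iv1 F367810) (iv5 F487262) F487263 F458197
def n219527 : Q := act 4 n191651
theorem D219527 : act 4 n191651 = n219527 := rfl
theorem F499281 : act 6 n219527 = n217200 := d10_2 F384059 D219527 F487905
theorem F499282 : act 1 n219527 = n193765 := d18_6 (iv1 F384204) F368083 (iv1 D131949) (iv4 F377966) D191651 D219527 (iv4 F390942) F487922 F487919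
def n219528 : Q := act 4 n191652
theorem D219528 : act 4 n191652 = n219528 := rfl
theorem F499283 : act 5 n219528 = n216638 := d9_2 F384060 D219528 (iv4 F485295) F383984 (iv4 F383978) (iv5 F499018) F499017 F383695 (iv4 F498859) F498860 F392032 F157910 (iv4 F367778) (iv5 F446277) F446276
theorem F499284 : act 6 n219528 = n217207 := d10_2 F498856 D219528 (iv4 F498854)
theorem F499285 : act 7 n219528 = n219511 := d11_2 (iv7 F386394) D219528 F499228
theorem F499286 : act 0 n219528 = n217639 := d18_2 (iv1 F487264) D219528 F489900 F371232 F152106 F362886 (iv4 F377966) F367805 (iv5 F487262)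
theorem F499287 : act 1 n219528 = n217144 := d18_6 F450386 F450383 F446281 F446276 F384060 D219528 F487647 F394487 (iv5 F389555)
theorem F499288 : act 3 n219528 = n216640 := d20_3 (iv4 F487261) (iv1 F487264) D219528 F485304 (iv3 D187051) (iv4 D89491) (iv1 F68687) D93448 D189199 (iv1 F484489)
def n219529 : Q := act 1 n191653
theorem D219529 : act 1 n191653 = n219529 := rfl
theorem F499289 : act 1 n219529 = n216461 := d15_1 D219529 F487259 F487255
theorem F499290 : act 7 n219529 = n217149 := d15_2 (iv0 F388126) D219529 F487671
theorem F499291 : act 5 n219529 = n219015 := d17_7 (iv1 F392044) F383984 (iv1 F367779) (iv5 F449631) (iv4 F450201) F450202 D219529 F496694 (iv4 F483682)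
theorem F499292 : act 4 n219529 = n194790 := d17_9 (iv1 D194790) F367111 D186808 F384006 F368792 F283658 D183886 F450202 D219529
theorem F499293 : act 3 n204118 = n219529 := d19_19 (iv1 D219529) (iv5 F450202) F450201 (iv3 D208500) (iv1 D134451) (iv5 D63149) F48010 F23696 D14203 D29911 F306716 (iv3 F123472) D167465 F308593 (iv4 F155181) F317257 D151961 (iv5 F388107) (iv4 F431107)
theorem F499294 : act 2 n219529 = n195018 := d0_1 F499293 (iv3 D195018) F294287 (iv3 F485234) (iv2 F485239)
def n219530 : Q := act 3 n191653
theorem D219530 : act 3 n191653 = n219530 := rfl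
theorem F499295 : act 5 n219530 = n216462 := d6_2 F450202 D219530 (iv3 D216462)
theorem F499296 : act 6 n219530 = n217213 := d7_2 (iv6 F384061) D219530 (iv3 D217213)
def n219531 : Q := act 3 n191656
theorem D219531 : act 3 n191656 = n219531 := rfl
theorem F499297 : act 4 n219531 = n208289 := d5_2 F384108 D219531 F448759 F357344 (iv3 F384106)
theorem F499298 : act 6 n219531 = n207025 := d7_2 F450583 D219531 (iv3 F450582)
theorem F499299 : act 7 n219531 = n210257 := d8_2 F487195 D219531 F487199
theorem F499300 : act 0 n219531 = n207039 := d20_4 (iv4 F217279) F384109 F384108 D219531 (iv3 D207039) F351694 (iv1 F409838) (iv4 F484117) (iv3 D216384) F363998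
def n219532 : Q := act 0 n191657
theorem D219532 : act 0 n191657 = n219532 := rfl
theorem F499301 : act 5 n219532 = n207689 := d17_1 D219532 F487167 D207731 (iv4 F487131) F487132 (iv0 F397690) F417422 (iv0 D191663) (iv4 F384066)
theorem F499302 : act 4 n219532 = n206113 := d18_3 F365710 (iv4 F384066) D219532 F439304 (iv4 F443378) (iv0 F443379) F383989 D191641 F383995
theorem F499303 : act 1 n207735 = n219532 := d15_0 (iv0 D219532) (iv7 F487203) F487200
def n219533 : Q := act 2 n191657
theorem D219533 : act 2 n191657 = n219533 := rfl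
theorem F499304 : act 3 n219533 = n205747 := d0_2 D191657 D219533 F437681 (iv3 F380807) F380804
theorem F499305 : act 4 n219533 = n191664 := d1_2 (iv4 F384066) D219533 (iv2 D191664)
theorem F499306 : act 5 n219533 = n205746 := d2_2 F451574 D219533 (iv2 F451572)
theorem F499307 : act 7 n219533 = n207735 := d4_2 F487203 D219533 (iv2 F487200)
def n219534 : Q := act 6 n191657
theorem D219534 : act 6 n191657 = n219534 := rfl
theorem F499308 : act 3 n219534 = n191659 := d7_1 D219534 (iv6 D191659) D191657
theorem F499309 : act 4 n219534 = n191665 := d10_1 D219534 (iv6 D191665) (iv4 F384066)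
theorem F499310 : act 5 n219534 = n201763 := d12_1 D219534 (iv6 F421722) (iv5 F446933) F451571 F451574
theorem F499311 : act 0 n206111 = n219534 := d17_0 F499310 (iv1 D201763) (iv5 F417889) (iv4 D200782) F357994 (iv0 D105284) (iv5 F94247) D127387 D206111
theorem F499312 : act 1 n206109 = n219534 := d18_8 (iv1 D201763) F179164 D115048 D201765 F421727 (iv4 D200830) F204713 D206109 F499310
def n219535 : Q := act 5 n191659
theorem D219535 : act 5 n191659 = n219535 := rfl
theorem F499313 : act 3 n219535 = n201763 := d6_1 D219535 (iv5 F499310) F499308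
theorem F499314 : act 0 n219535 = n212387 := d18_0 F465625 F405339 D196362 F442866 F442865 (iv0 F456669) F456666 (iv0 F456671) D219535
theorem F499315 : act 4 n219535 = n201440 := d19_2 (iv1 F465582) D219535 (iv3 D201440) (iv1 D114510) (iv5 F331530) F84417 (iv3 D28715) D28713 D60454 F94999 (iv3 F100548) D137492 F220898 D209195 F452665 F402441 F402231 D210218 (iv3 F465577)
def n219536 : Q := act 4 n191660
theorem D219536 : act 4 n191660 = n219536 := rfl
theorem F499316 : act 2 n219536 = n210280 := d1_1 D219536 F456845 F384072
theorem F499317 : act 7 n219536 = n210275 := d11_2 (iv7 F384074) D219536 F456830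
theorem F499318 : act 0 n219536 = n210278 := d20_1 D219536 F456839 F456658 F418842 F418839 F384090 (iv1 D191667) F152018 (iv3 F152016) D191660
theorem F499319 : act 0 n210277 = n219536 := d20_1 (iv4 F456836) (iv4 D219536) F384073 (iv1 F380763) (iv3 F395914) F395910 (iv1 F163282) D146635 D212318 F465287
theorem F499320 : act 6 n205792 = n219536 := d14_5 F499317 (iv6 D210275) (iv7 F442433) (iv6 F442437) (iv7 F442440)
def n219537 : Q := act 5 n191660
theorem D219537 : act 5 n191660 = n219537 := rfl
theorem F499321 : act 2 n219537 = n210285 := d2_1 D219537 F456853 F384072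
theorem F499322 : act 3 n219537 = n216408 := d6_1 D219537 (iv5 D216408) (iv3 F384073)
theorem F499323 : act 7 n219537 = n210276 := d13_2 (iv7 F384074) D219537 (iv5 D210276)
theorem F499324 : act 4 n219537 = n195389 := d16_2 (iv4 D219536) D219537 (iv5 D195389) (iv4 F180123) (iv5 F224932) (iv4 F456843) (iv5 D210279) D210280 (iv2 F499316)
theorem F499325 : act 1 n210284 = n219537 := d18_6 F224915 (iv4 D141873) F224905 (iv4 F396686) (iv5 F403708) (iv4 F457025) F499324 F403762 (iv5 D195435)
theorem F499326 : act 1 n219537 = n192378 := d15_0 F487102 D210285 (iv2 F499321)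
def n219538 : Q := act 6 n191660
theorem D219538 : act 6 n191660 = n219538 := rfl
theorem F499327 : act 2 n219538 = n208481 := d3_1 D219538 F449551 F384072
theorem F499328 : act 3 n219538 = n210270 := d7_1 D219538 F456812 (iv3 F384073)
theorem F499329 : act 4 n219538 = n205792 := d10_1 D219538 F499320 (iv4 D219536)
theorem F499330 : act 7 n219538 = n209281 := d14_2 (iv7 F384074) D219538 (iv6 D209281) F219236 D138094
theorem F499331 : act 0 n219538 = n209282 := d21_4 F487100 (iv1 F499326) (iv5 D219537) D219538 (iv6 F467066) (iv5 F467062) (iv1 F467064) F450971 (iv6 F460821) F487101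
theorem F499332 : act 1 n219538 = n208446 := d15_1 (iv0 F499331) (iv7 F450909) (iv2 F467067)
def n219539 : Q := act 0 n191661
theorem D219539 : act 0 n191661 = n219539 := rfl
theorem F499333 : act 4 n219539 = n195393 := d18_1 D219539 (iv1 D195393) F364299 (iv5 F456657) (iv4 F456839) (iv0 F499318) (iv4 D219536) (iv0 D191660) D191661
theorem F499334 : act 3 n219539 = n194700 := d20_5 D192509 F386887 (iv4 D191671) (iv3 F384078) D219539 (iv4 F467465) F467463 F358753 (iv3 F158763) (iv1 F158766)
theorem F499335 : act 2 n216531 = n219539 := d15_3 (iv0 D219539) (iv0 F452875) (iv7 F484836)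
theorem F499336 : act 1 n210282 = n219539 := d15_0 (iv0 D219539) (iv7 F460427) (iv2 F460428)
theorem F499337 : act 7 n219539 = n216532 := d15_2 (iv0 F456850) F499336 F484840
def n219540 : Q := act 4 n191661
theorem D219540 : act 4 n191661 = n219540 := rfl
theorem F499338 : act 2 n219540 = n216530 := d1_1 D219540 F484828 (iv2 F384077)
theorem F499339 : act 3 n219540 = n209319 := d5_1 D219540 (iv4 F453208) F400295 (iv4 D191671) (iv3 F384078)
theorem F499340 : act 6 n219540 = n191915 := d10_2 (iv6 F384079) D219540 (iv4 D191915)
theorem F499341 : act 1 n219540 = n208248 := d18_6 F456634 (iv4 F465578) (iv1 F465582) F384071 D191661 D219540 F448572 F424312 D141310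
theorem F499342 : act 0 n219540 = n211248 := d20_1 D219540 (iv4 D211248) (iv3 F366347) F350014 (iv3 F452868) F452872 (iv1 F452866) F410470 (iv3 F410464) F452875
def n219541 : Q := act 4 n191663
theorem D219541 : act 4 n191663 = n219541 := rfl
theorem F499343 : act 5 n219541 = n219488 := d18_4 F453340 F384066 D191663 D219541 F499133 (iv0 F447901) (iv4 F499191) F499192 (iv5 F453361)
def n219542 : Q := act 7 n191665
theorem D219542 : act 7 n191665 = n219542 := rfl
theorem F499344 : act 2 n219542 = n195705 := d4_1 D219542 F397900 F397686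
theorem F499345 : act 3 n219542 = n191669 := d8_1 D219542 (iv7 D191669) (iv3 F384085)
theorem F499346 : act 5 n219542 = n218671 := d13_1 D219542 F495075 F417080
theorem F499347 : act 6 n219542 = n196237 := d14_1 D219542 F400010 (iv6 F367798) F367790 D191665
theorem F499348 : act 1 n205523 = n219542 := d15_1 F439253 (iv7 D219542) (iv2 F397686)
theorem F499349 : act 1 n219542 = n207620 := d15_1 F499348 (iv7 F445712) (iv2 F436828)
def n219543 : Q := act 3 n191675
theorem D219543 : act 3 n191675 = n219543 := rfl
theorem F499350 : act 2 n219543 = n206113 := d0_1 D219543 (iv3 F439305) (iv2 F443372) F483736 F483739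
theorem F499351 : act 5 n219543 = n196249 := d6_2 F436058 D219543 F443355
theorem F499352 : act 6 n219543 = n198929 := d7_2 F499095 D219543 F499099
theorem F499353 : act 7 n219543 = n206114 := d8_2 F483741 D219543 F483744
theorem F499354 : act 0 n219543 = n206115 := d19_4 (iv1 F417133) F436056 F436057 D219543 F439307 D207496 F445140 (iv1 D132183) D132184 F361168 F207394 D129164 F207398 (iv4 F168299) F168009 (iv1 F78050) F78013 (iv4 F82661) (iv3 F176467)
theorem F499355 : act 0 n206112 = n219543 := d20_4 (iv4 F207266) F418064 (iv4 F418067) (iv3 F439302) (iv3 D219543) (iv4 F436057) (iv1 F436053) (iv4 F440922) (iv3 F440923) (iv1 D129015)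
def n219544 : Q := act 2 n191678
theorem D219544 : act 2 n191678 = n219544 := rfl
theorem F499356 : act 3 n219544 = n194179 := d0_2 D191678 D219544 F392273 F226085 (iv2 F334888)
theorem F499357 : act 4 n219544 = n205725 := d1_2 F384116 D219544 F437576
theorem F499358 : act 5 n219544 = n194178 := d2_2 (iv5 F384111) D219544 F392268
theorem F499359 : act 6 n219544 = n205731 := d3_2 (iv6 F384112) D219544 F437608
theorem F499360 : act 7 n219544 = n206965 := d4_2 F474809 D219544 (iv2 F474805)
theorem F499361 : act 1 n219544 = n208313 := d15_0 (iv0 F474810) F474809 D219544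
theorem F499362 : act 1 n198196 = n219544 := d15_0 F499361 (iv7 F479319) F479317
def n219545 : Q := act 3 n191683
theorem D219545 : act 3 n191683 = n219545 := rfl
theorem F499363 : act 2 n219545 = n208652 := d0_1 D219545 (iv3 F491285) F491284 F454182 (iv2 F384152)
theorem F499364 : act 5 n219545 = n204549 := d6_2 F454245 D219545 F454246
theorem F499365 : act 6 n219545 = n207671 := d7_2 (iv6 F448820) D219545 (iv3 F448818)
theorem F499366 : act 7 n219545 = n208683 := d8_2 (iv7 F384148) D219545 F450439
theorem F499367 : act 0 n219545 = n208684 := d19_4 D189892 (iv5 F448824) F448823 D219545 F450442 (iv4 F421878) F421877 (iv1 F375790) F375787 (iv4 F356642) F356641 (iv1 F134187) (iv5 D87428) (iv4 D40632) (iv3 F61728) D87380 (iv5 F294267) F138789 D95414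
theorem F499368 : act 0 n199684 = n219545 := d20_4 F206964 (iv1 F168451) F173148 D199684 (iv3 D219545) (iv4 F448823) F448826 (iv4 F217125) (iv3 D134927) (iv1 F206967)
def n219546 : Q := act 1 n191684
theorem D219546 : act 1 n191684 = n219546 := rfl
theorem F499369 : act 1 n219546 = n193079 := d15_1 D219546 (iv7 D193079) (iv2 F384141)
theorem F499370 : act 7 n219546 = n193077 := d15_2 F388685 D219546 (iv2 F388677)
theorem F499371 : act 5 n219546 = n210252 := d17_7 (iv1 F294437) (iv5 D88808) (iv1 F157591) D46113 D98648 D191684 D219546 F456747 F352441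
theorem F499372 : act 4 n219546 = n208291 := d17_9 (iv1 F498903) (iv5 D219444) (iv1 F384135) F384134 D209588 F454248 (iv0 F350429) D191684 D219546
theorem F499373 : act 2 n193078 = n219546 := d1_3 F499372 F448765 F449441
def n219547 : Q := act 5 n191685
theorem D219547 : act 5 n191685 = n219547 := rfl
theorem F499374 : act 2 n219547 = n209588 := d2_1 D219547 F454248 F384146
theorem F499375 : act 3 n219547 = n207334 := d6_1 D219547 (iv5 F450440) F450439
theorem F499376 : act 4 n219547 = n209571 := d9_1 D219547 (iv5 F454187) F450311 (iv5 D182318) D182317 (iv5 F360353) (iv4 F384151) F454181 (iv4 F454178) F454176 F226088 F334885 (iv4 F153483) F357367 (iv4 F384144)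
theorem F499377 : act 6 n219547 = n208246 := d12_2 F384147 D219547 (iv5 D208246) (iv6 F426799) F426798
theorem F499378 : act 7 n219547 = n209587 := d13_2 F384148 D219547 F454245
theorem F499379 : act 0 n219547 = n216565 := d17_2 D191685 D219547 F484967 (iv4 D191699) (iv5 D98662) (iv0 F251749) (iv5 F334885) (iv0 F334887) (iv4 F345235)
theorem F499380 : act 1 n219547 = n210466 := d17_6 (iv1 D138029) D138030 F356319 F357367 (iv4 F384144) D219547 F457656 (iv0 F456752) (iv4 D210253)
def n219548 : Q := act 6 n191689
theorem D219548 : act 6 n191689 = n219548 := rfl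
theorem F499381 : act 2 n219548 = n216303 := d3_1 D219548 (iv6 D216303) F417186
theorem F499382 : act 3 n219548 = n205410 := d7_1 D219548 F447903 (iv3 F445136)
theorem F499383 : act 4 n219548 = n213522 := d10_1 D219548 F470835 (iv4 F417182)
theorem F499384 : act 5 n219548 = n216295 := d12_1 D219548 (iv6 F483690) (iv5 F436899) F436900 (iv5 F389059)
theorem F499385 : act 0 n219548 = n205594 := d21_4 F367839 D190538 (iv5 F389059) D219548 (iv6 F437146) (iv5 F378171) (iv1 F417688) F417690 D207107 F443360
theorem F499386 : act 0 n210099 = n219548 := d21_4 (iv5 F419234) (iv1 F452418) F452415 (iv6 F456150) (iv6 D219548) F389059 (iv1 F380131) (iv5 F384103) F389058 F389056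
theorem F499387 : act 2 n216295 = n205478 := d2_1 F499384 (iv5 F483731) (iv2 F499381)
theorem F499388 : act 7 n205477 = n216295 := d15_2 F483697 F483698 F499387
theorem F499389 : act 7 n216294 = n205478 := d15_2 F483687 F483696 (iv2 F499387)
theorem F499390 : act 2 n205477 = n216294 := d4_3 F499389 (iv2 F499387) (iv7 F499388)
def n219549 : Q := act 0 n191703
theorem D219549 : act 0 n191703 = n219549 := rfl
theorem F499391 : act 5 n219549 = n214518 := d17_3 (iv1 F333366) D191703 D219549 (iv4 D214518) (iv5 D159697) (iv0 D76403) F55257 D43866 D93845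
theorem F499392 : act 4 n219549 = n217032 := d18_1 D219549 (iv1 F487057) F384298 F152413 (iv4 F114567) F114571 D93840 (iv0 F333365) D191703
theorem F499393 : act 3 n219549 = n219427 := d20_5 D216989 F486888 (iv4 D216164) (iv3 F384210) D219549 (iv4 D219427) (iv1 F487977) F487972 (iv3 F486869) (iv1 F486872)
theorem F499394 : act 6 n219549 = n192620 := d21_5 F483152 (iv1 F387128) D213325 F469936 D219549 (iv5 D192620) (iv1 D100455) D100457 D192629 F483154
theorem F499395 : act 2 n214532 = n219549 := d15_3 (iv0 D219549) (iv0 F484305) F484303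
theorem F499396 : act 1 n217991 = n219549 := d15_0 (iv0 D219549) (iv7 F485184) (iv2 F491578)
theorem F499397 : act 7 n219549 = n214538 := d15_2 (iv0 F491581) F499396 (iv2 F484301)
def n219550 : Q := act 6 n191707
theorem D219550 : act 6 n191707 = n219550 := rfl
theorem F499398 : act 3 n219550 = n209152 := d7_1 D219550 F452478 (iv3 F384218)
theorem F499399 : act 4 n219550 = n217934 := d10_1 D219550 (iv6 D217934) (iv4 F384221)
theorem F499400 : act 5 n219550 = n209151 := d12_1 D219550 F452474 F384225 (iv6 D191708) D191707
theorem F499401 : act 7 n219550 = n209460 := d14_2 (iv7 F384219) D219550 (iv6 F467717) F467718 F457188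
theorem F499402 : act 0 n217934 = n218356 := d20_7 F367535 (iv1 F359436) F359434 (iv3 F365827) (iv1 F452481) (iv3 F499398) F499399 F493479 (iv3 D189139) F368001
def n219551 : Q := act 5 n191712
theorem D219551 : act 5 n191712 = n219551 := rfl
theorem F499403 : act 2 n219551 = n205556 := d2_1 D219551 F436980 (iv2 F415832)
theorem F499404 : act 3 n219551 = n191713 := d6_1 D219551 (iv5 D191713) D191712
theorem F499405 : act 4 n219551 = n205554 := d9_1 D219551 (iv5 F436974) (iv4 F390547) F323646 F299313 (iv5 F474513) F474512 F452269 F452267 F436988 F211270 F322727 (iv4 F129315) (iv5 F292604) (iv4 F384233)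
theorem F499406 : act 0 n219551 = n207119 := d17_2 (iv1 F415839) D219551 (iv5 F495366) (iv4 D218731) (iv5 F382100) F392214 (iv5 F392216) (iv0 F474743) F474745
theorem F499407 : act 6 n219551 = n195780 := d21_3 (iv5 F415837) (iv1 F415839) D219551 (iv1 F417340) (iv6 F417343) F398025 (iv1 F163386) D106323 D195830 (iv1 F402712)
def n219552 : Q := act 4 n191721
theorem D219552 : act 4 n191721 = n219552 := rfl
theorem F499408 : act 2 n219552 = n192519 := d1_1 D219552 (iv4 F386939) (iv2 F384262)
theorem F499409 : act 3 n219552 = n219249 := d5_1 D219552 (iv4 D219249) F381822 (iv4 F363127) (iv3 F384263)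
theorem F499410 : act 5 n219552 = n191931 := d9_2 D191721 D219552 (iv4 F386936) (iv5 F470114) (iv4 D213371) (iv5 D153593) F109160 D153362 F368858 F384879 (iv4 F386717) (iv5 F463488) F463487 F434738 F384258
theorem F499411 : act 6 n219552 = n191726 := d10_2 (iv6 F384264) D219552 (iv4 D191726)
theorem F499412 : act 7 n219552 = n192523 := d11_2 F469780 D219552 (iv4 F469781)
theorem F499413 : act 0 n219552 = n217150 := d17_0 F487677 F493346 F493344 F470224 F470216 (iv0 F443312) F469789 F469788 D219552
theorem F499414 : act 1 n219552 = n217152 := d18_6 (iv1 F303377) (iv4 F187666) (iv1 F384261) F384258 D191721 D219552 F487683 F389850 (iv5 D120415)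
def n219553 : Q := act 6 n191723
theorem D219553 : act 6 n191723 = n219553 := rfl
theorem F499415 : act 2 n219553 = n216318 := d3_1 D219553 (iv6 D216318) (iv2 F384270)
theorem F499416 : act 3 n219553 = n217940 := d7_1 D219553 (iv6 F491353) F469957
theorem F499417 : act 4 n219553 = n217306 := d10_1 D219553 (iv6 D217306) (iv4 F384274)
theorem F499418 : act 5 n219553 = n216498 := d12_1 D219553 (iv6 D216498) F381818 (iv6 F381817) D191723
theorem F499419 : act 0 n216280 = n219553 := d21_4 (iv5 F469789) F443312 (iv5 F470216) (iv6 F483608) (iv6 D219553) (iv5 D191723) (iv1 D98850) D98851 (iv6 F384264) (iv1 F469788)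
theorem F499420 : act 1 n218357 = n219553 := d15_0 (iv0 F499419) (iv7 F487876) (iv2 F493481)
def n219554 : Q := act 0 n191730
theorem D219554 : act 0 n191730 = n219554 := rfl
theorem F499421 : act 3 n219554 = n216150 := d20_5 F427388 D204030 F449436 F430791 D219554 F483194 (iv1 F308312) (iv4 F368946) (iv3 F488147) (iv1 F488151)
theorem F499422 : act 6 n219554 = n216627 := d21_5 (iv5 D46265) D46263 D98858 D191730 D219554 (iv5 D216627) F433083 (iv5 F382982) (iv6 F382984) F151789
theorem F499423 : act 7 n216268 = n219554 := d14_0 F499422 F485235 (iv6 F467509) F467506 F483564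
def n219555 : Q := act 1 n191730
theorem D219555 : act 1 n191730 = n219555 := rfl
theorem F499424 : act 6 n212785 = n219555 := d21_3 (iv5 D211611) F346249 D212785 (iv1 D219555) (iv6 D191730) (iv5 D98858) (iv1 F136688) (iv5 F287635) (iv6 F467479) F467481
theorem F499425 : act 2 n219555 = n216268 := d3_1 F499424 (iv6 F483564) (iv2 F467496)
def n219556 : Q := act 7 n191730
theorem D219556 : act 7 n191730 = n219556 := rfl
theorem F499426 : act 4 n219556 = n214112 := d11_1 D219556 F473539 (iv4 F449435)
theorem F499427 : act 1 n216268 = n219556 := d15_1 (iv0 F486309) (iv7 D219556) (iv2 F486306)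
def n219557 : Q := act 0 n191732
theorem D219557 : act 0 n191732 = n219557 := rfl
theorem F499428 : act 5 n219557 = n217739 := d17_1 D219557 (iv1 F490409) (iv5 F490465) (iv4 D217753) (iv5 D187865) D187863 D217749 (iv0 F490624) F490622
theorem F499429 : act 4 n219557 = n217744 := d18_3 (iv1 F490625) F490622 D219557 (iv5 D217744) (iv4 D187860) F370703 D217542 F489405 D217746
theorem F499430 : act 2 n217938 = n219557 := d15_3 (iv0 D219557) (iv0 F491619) (iv7 F491622)
theorem F499431 : act 1 n192613 = n219557 := d15_0 (iv0 D219557) (iv7 F482581) F482578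
theorem F499432 : act 7 n219557 = n216761 := d15_2 (iv0 F491620) F499431 (iv2 F491616)
theorem F499433 : act 3 n216324 = n219557 := d20_3 (iv4 F283644) (iv1 F391200) (iv4 F483839) (iv1 F499431) F387251 (iv4 F491426) (iv1 F491428) F488029 (iv3 F398386) (iv1 D182199)
def n219558 : Q := act 6 n191733
theorem D219558 : act 6 n191733 = n219558 := rfl
theorem F499434 : act 2 n219558 = n217995 := d3_1 D219558 F491597 (iv2 F487056)
theorem F499435 : act 3 n219558 = n218007 := d7_1 D219558 F491659 (iv3 F469634)
theorem F499436 : act 5 n219558 = n217588 := d12_1 D219558 (iv6 F489658) F468522 (iv6 F475680) F475682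
theorem F499437 : act 0 n217742 = n219558 := d17_2 F386981 D217742 F499436 F489656 F375302 F372313 (iv5 F375331) F375333 D192530
theorem F499438 : act 1 n217744 = n219558 := d17_6 (iv1 F157684) D187926 (iv1 F371852) F370712 D187860 D217744 F499436 F489654 (iv4 D188769)
def n219559 : Q := act 6 n191741
theorem D219559 : act 6 n191741 = n219559 := rfl
theorem F499439 : act 2 n219559 = n213558 := d3_1 D219559 (iv6 D213558) F384313
theorem F499440 : act 3 n219559 = n203454 := d7_1 D219559 (iv6 F428388) (iv3 F384315)
theorem F499441 : act 4 n219559 = n212988 := d10_1 D219559 F468478 F384317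
theorem F499442 : act 5 n219559 = n217650 := d12_1 D219559 (iv6 F489942) F461029 F461025 F460373
theorem F499443 : act 7 n219559 = n207395 := d14_2 F384314 D219559 (iv6 F470872) F470875 F383623
theorem F499444 : act 0 n219559 = n191756 := d21_4 (iv5 F457480) (iv1 F460375) F460373 D219559 (iv6 D191756) D191755 F384356 (iv5 F385283) (iv6 F458907) F458909
theorem F499445 : act 0 n208913 = n219559 := d21_4 (iv5 F459083) (iv1 F459085) F387096 D208913 (iv6 D219559) (iv5 F460373) F460374 F425093 F338844 F338845
def n219560 : Q := act 6 n191747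
theorem D219560 : act 6 n191747 = n219560 := rfl
theorem F499446 : act 2 n219560 = n192590 := d3_1 D219560 (iv6 D192590) (iv2 F384335)
theorem F499447 : act 4 n219560 = n192578 := d10_1 D219560 F387150 (iv4 F384337)
theorem F499448 : act 5 n219560 = n191754 := d12_1 D219560 (iv6 D191754) (iv5 D98892) (iv6 F312924) D191747
theorem F499449 : act 0 n219560 = n211189 := d21_4 (iv5 D98887) D98886 D191747 D219560 F460537 F413533 F450846 (iv5 D208783) (iv6 F338920) F338841
theorem F499450 : act 1 n219560 = n211196 := d15_1 (iv0 F499449) F460569 (iv2 F460532)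
def n219561 : Q := act 1 n191748
theorem D219561 : act 1 n191748 = n219561 := rfl
theorem F499451 : act 1 n219561 = n192582 := d15_1 D219561 (iv7 F431632) F431630
theorem F499452 : act 7 n219561 = n213527 := d15_2 (iv0 F385400) D219561 F470863
theorem F499453 : act 5 n219561 = n197178 := d17_7 F304450 D179846 (iv1 F338864) (iv5 D100429) D100428 (iv5 F384340) D219561 F403409 (iv4 D191746)
theorem F499454 : act 4 n219561 = n212823 := d17_9 F467634 F454215 (iv1 F354642) D191752 (iv4 F459082) F459083 (iv0 F338845) (iv5 F384340) D219561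
theorem F499455 : act 3 n206909 = n219561 := d20_3 D191821 (iv1 F384541) (iv4 F442576) (iv1 D219561) F389629 (iv4 F467268) (iv1 D212723) (iv4 D149093) (iv3 F234477) F384543
theorem F499456 : act 2 n219561 = n197179 := d0_1 F499455 F403412 F239021 (iv3 F429700) F442577
def n219562 : Q := act 6 n191751
theorem D219562 : act 6 n191751 = n219562 := rfl
theorem F499457 : act 2 n219562 = n216341 := d3_1 D219562 (iv6 D216341) (iv2 F384351)
theorem F499458 : act 3 n219562 = n191754 := d7_1 D219562 (iv6 D191754) (iv3 F384352)
def n219563 : Q := act 6 n191755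
theorem D219563 : act 6 n191755 = n219563 := rfl
theorem F499459 : act 3 n219563 = n192993 := d7_1 D219563 (iv6 D192993) (iv3 F384355)
theorem F499460 : act 0 n219563 = n217921 := d21_4 F444374 (iv1 F354639) D191755 D219563 (iv6 D217921) (iv5 F454965) (iv1 F454968) (iv5 F491277) F491279 F444376
theorem F499461 : act 0 n212633 = n219563 := d21_4 (iv5 D212632) (iv1 D148526) D148528 D212633 (iv6 D219563) (iv5 D191755) (iv1 F354640) (iv5 F454215) F454216 (iv1 F466794)
def n219564 : Q := act 5 n191758
theorem D219564 : act 5 n191758 = n219564 := rfl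
theorem F499462 : act 2 n219564 = n217936 := d2_1 D219564 (iv5 D217936) (iv2 F384363)
theorem F499463 : act 3 n219564 = n213397 := d6_1 D219564 F470217 (iv3 F384364)
theorem F499464 : act 6 n219564 = n191759 := d12_2 D191758 D219564 (iv5 D191759) (iv6 D98898) D98897
theorem F499465 : act 7 n219564 = n217937 := d13_2 F384368 D219564 (iv5 D217937)
theorem F499466 : act 4 n219564 = n216135 := d16_2 (iv4 F384365) D219564 F483135 (iv4 F374791) (iv5 D187530) (iv4 F177400) (iv5 F385313) (iv7 D192037) (iv2 F374783)
theorem F499467 : act 0 n219564 = n192602 := d17_2 F384366 D219564 (iv5 D192602) (iv4 D100441) (iv5 D46872) (iv0 D22514) D22516 D46877 D100452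
theorem F499468 : act 1 n219564 = n192606 := d17_6 (iv1 F387695) (iv5 D184504) (iv1 F177371) D188768 (iv4 F384365) D219564 (iv5 D192606) F387211 (iv4 F387693)
def n219565 : Q := act 6 n191760
theorem D219565 : act 6 n191760 = n219565 := rfl
theorem F499469 : act 2 n219565 = n216343 := d3_1 D219565 (iv6 D216343) (iv2 F384378)
theorem F499470 : act 3 n219565 = n191762 := d7_1 D219565 (iv6 D191762) D191760
theorem F499471 : act 4 n219565 = n192595 := d10_1 D219565 F454162 F454159
theorem F499472 : act 5 n219565 = n216801 := d12_1 D219565 (iv6 F485966) (iv5 F468198) (iv6 D212933) (iv5 F384379)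
theorem F499473 : act 0 n219565 = n191991 := d21_10 (iv5 F498525) (iv1 D219370) (iv5 F485989) F485985 (iv1 F396201) F396198 (iv5 D151508) D151505 (iv5 F384379) D219565
theorem F499474 : act 1 n219565 = n191996 := d15_1 (iv0 F499473) (iv7 F491185) F491182
theorem F499475 : act 7 n219565 = n216497 := d15_2 (iv0 F492426) (iv0 F499473) (iv2 F492427)
def n219566 : Q := act 1 n191762
theorem D219566 : act 1 n191762 = n219566 := rfl
theorem F499476 : act 1 n219566 = n216799 := d15_1 D219566 F485961 F481578
theorem F499477 : act 7 n219566 = n211197 := d15_2 (iv0 F458402) D219566 F460571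
theorem F499478 : act 4 n219566 = n211201 := d17_9 (iv1 F460585) (iv5 F471531) F485751 F492341 F492337 (iv5 F387050) (iv0 F481660) F481659 D219566
theorem F499479 : act 3 n191825 = n219566 := d20_3 (iv4 F491606) (iv1 F491758) F491755 (iv1 D219566) (iv3 F499470) F499471 (iv1 D192595) D192596 F387202 F474919
def n219567 : Q := act 7 n191762
theorem D219567 : act 7 n191762 = n219567 := rfl
theorem F499480 : act 2 n219567 = n216799 := d4_1 D219567 F485961 F481578
theorem F499481 : act 3 n219567 = n216497 := d8_1 D219567 (iv7 F499475) F499470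
theorem F499482 : act 4 n219567 = n210831 := d11_1 D219567 (iv7 F469307) F469311
theorem F499483 : act 5 n219567 = n194118 := d13_1 D219567 (iv7 F481662) F481659
theorem F499484 : act 6 n219567 = n202651 := d14_1 D219567 (iv7 F467748) (iv6 F467752) (iv7 F364057) D191762
theorem F499485 : act 0 n211197 = n219567 := d21_4 F458914 (iv1 F460570) (iv5 D211196) D211197 F499484 (iv5 D202651) (iv1 D116259) D116260 (iv6 F407556) (iv1 F458916)
def n219568 : Q := act 0 n191766
theorem D219568 : act 0 n191766 = n219568 := rfl
theorem F499486 : act 5 n219568 = n194029 := d17_3 (iv1 F467741) F467737 D219568 F391812 F353238 F357203 F357189 (iv0 F365460) D192156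
theorem F499487 : act 2 n194030 = n219568 := d2_3 F499486 (iv2 D194029) D194030
theorem F499488 : act 1 n216351 = n219568 := d17_6 F469650 F448491 (iv1 F378923) (iv5 F387994) (iv4 F484907) F484908 F499486 F424939 (iv4 F469646)
theorem F499489 : act 4 n204533 = n219568 := d18_3 F380067 (iv4 F487395) (iv1 F487398) F499486 F391812 F365367 (iv4 F424896) F448509 F448507
theorem F499490 : act 7 n219568 = n204529 := d11_2 D204533 F499489 F432807
def n219569 : Q := act 1 n191766
theorem D219569 : act 1 n191766 = n219569 := rfl
theorem F499491 : act 1 n219569 = n216351 := d15_1 D219569 (iv7 D216351) (iv2 F384393)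
theorem F499492 : act 7 n219569 = n194030 := d15_2 (iv0 D219568) D219569 F499487
theorem F499493 : act 5 n219569 = n192177 := d18_9 F424938 (iv4 F469646) F469650 F448490 (iv5 F372456) D189136 F491490 F491487 D219569
theorem F499494 : act 3 n192178 = n219569 := d20_3 (iv4 F465271) (iv1 F465274) F451766 (iv1 D219569) F384394 (iv4 F384406) (iv1 F384407) F348309 (iv3 F462274) F462278
theorem F499495 : act 6 n204524 = n219569 := d21_3 F484052 (iv1 F444476) F444473 (iv1 D219569) (iv6 D191766) (iv5 D98903) (iv1 F147740) D190511 F431516 F484055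
theorem F499496 : act 2 n219569 = n204529 := d3_1 F499495 (iv6 D204529) (iv2 F432803)
theorem F499497 : act 4 n219569 = n204525 := d10_1 F499495 (iv6 D204525) D204524
def n219570 : Q := act 7 n191766
theorem D219570 : act 7 n191766 = n219570 := rfl
theorem F499498 : act 2 n219570 = n216351 := d4_1 D219570 (iv7 D216351) (iv2 F384393)
theorem F499499 : act 3 n219570 = n191774 := d8_1 D219570 (iv7 D191774) (iv3 F384394)
theorem F499500 : act 5 n219570 = n193702 := d13_1 D219570 (iv7 F467739) F467737
theorem F499501 : act 1 n204529 = n219570 := d15_1 (iv0 F443444) (iv7 D219570) F384393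
theorem F499502 : act 1 n219570 = n194030 := d15_1 F499501 (iv7 F499492) F499496
def n219571 : Q := act 5 n191768
theorem D219571 : act 5 n191768 = n219571 := rfl
theorem F499503 : act 4 n219571 = n200141 := d9_1 D219571 (iv5 F468357) F468356 (iv5 F288409) (iv4 F371003) F387258 F387260 (iv5 F487517) F487516 (iv5 F492766) (iv4 D218216) (iv5 D188774) (iv4 F370461) (iv5 F375817) (iv4 F384403)
theorem F499504 : act 0 n219571 = n217924 := d17_2 D191768 D219571 (iv5 D217924) (iv4 D188175) F294858 F67966 D92564 F293380 D98907
theorem F499505 : act 1 n219571 = n210216 := d17_6 F376435 (iv5 D188244) F370463 (iv5 F375817) (iv4 F384403) D219571 F456620 (iv0 F453567) F453565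
def n219572 : Q := act 1 n191775
theorem D219572 : act 1 n191775 = n219572 := rfl
theorem F499506 : act 7 n219572 = n201505 := d15_2 (iv0 F428450) D219572 (iv2 F428446)
theorem F499507 : act 3 n217096 = n219572 := d19_19 (iv1 D219572) F449304 (iv4 F449303) F446607 F384069 (iv5 D191658) (iv4 D98616) (iv3 D46101) (iv1 D22019) (iv5 D10496) F6884 (iv3 F6857) D10448 D21910 F294005 D91992 (iv1 F372631) (iv5 F379962) (iv4 F487390)
theorem F499508 : act 4 n217561 = n219572 := d20_0 (iv1 D219572) F384413 (iv3 D183133) (iv1 F295281) (iv3 F370673) (iv4 F489378) (iv1 F489381) (iv4 F489493) (iv3 F489494) F489505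
theorem F499509 : act 2 n219572 = n217881 := d1_1 F499508 F491060 (iv2 F489500)
theorem F499510 : act 6 n219572 = n217560 := d10_2 D217561 F499508 (iv4 D217560)
def n219573 : Q := act 2 n191775
theorem D219573 : act 2 n191775 = n219573 := rfl
theorem F499511 : act 3 n219573 = n219546 := d0_2 D191775 D219573 (iv2 F499373) (iv3 F388675) F372537
theorem F499512 : act 4 n219573 = n201443 := d1_2 (iv4 F384413) D219573 F420528
theorem F499513 : act 6 n219573 = n209006 := d3_2 F444674 D219573 (iv2 F451813)
theorem F499514 : act 1 n219573 = n217881 := d15_0 F491063 (iv7 F427211) D219573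
theorem F499515 : act 1 n201505 = n219573 := d15_0 F499514 F491061 F428446
def n219574 : Q := act 6 n191776
theorem D219574 : act 6 n191776 = n219574 := rfl
theorem F499516 : act 4 n219574 = n200916 := d10_1 D219574 (iv6 F451644) F451642
theorem F499517 : act 7 n219574 = n209083 := d14_2 (iv7 F451620) D219574 (iv6 D209083) F218206 D208968
theorem F499518 : act 0 n219574 = n214506 := d21_4 (iv5 D219571) (iv1 F384404) D191776 D219574 (iv6 D214506) (iv5 F350015) (iv1 F350017) F326863 D210216 (iv1 F499505)
def n219575 : Q := act 0 n191777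
theorem D219575 : act 0 n191777 = n219575 := rfl
theorem F499519 : act 4 n219575 = n202593 := d20_2 (iv4 F384414) D219575 F424661 D203123 (iv3 F457038) F482528 (iv1 D216012) F280002 (iv3 F279988) F338899
theorem F499520 : act 6 n219575 = n202592 := d21_5 F449264 F449265 (iv5 D191776) D191777 D219575 F424659 (iv1 F424482) F424486 (iv6 D191785) D191781
theorem F499521 : act 2 n210704 = n219575 := d3_3 F499520 F424658 D210704
theorem F499522 : act 7 n219563 = n219575 := d14_0 F499520 F424660 D210877 (iv7 F459117) D219563
def n219576 : Q := act 1 n191777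
theorem D219576 : act 1 n191777 = n219576 := rfl
theorem F499523 : act 7 n219576 = n210704 := d15_2 (iv0 D219575) D219576 F499521
theorem F499524 : act 4 n219576 = n218352 := d18_7 F453672 (iv4 F482298) F482301 F391802 F157699 (iv4 F384414) D219576 (iv0 F493462) (iv5 D209460)
theorem F499525 : act 3 n212031 = n219576 := d20_3 (iv4 D201532) F357846 D212031 (iv1 D219576) F444673 F444670 (iv1 D135790) D135791 D209119 (iv1 F452351)
theorem F499526 : act 6 n215272 = n219576 := d21_3 (iv5 F448323) (iv1 F448327) (iv5 F479145) (iv1 D219576) (iv6 D191777) D191776 F449785 F449781 F388432 F388430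
theorem F499527 : act 2 n219576 = n219563 := d3_1 F499526 (iv6 D219563) (iv2 F479143)
def n219577 : Q := act 5 n191777
theorem D219577 : act 5 n191777 = n219577 := rfl
theorem F499528 : act 3 n219577 = n209147 := d6_1 D219577 F452454 (iv3 F444673)
theorem F499529 : act 7 n219577 = n215077 := d13_2 F466797 D219577 F478218
theorem F499530 : act 0 n210857 = n219577 := d21_1 D210857 (iv5 D219577) (iv6 D191777) (iv1 F384405) F387261 F385307 F376332 (iv5 F387692) F459041 (iv1 D210856)
def n219578 : Q := act 0 n191784
theorem D219578 : act 0 n191784 = n219578 := rfl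
theorem F499531 : act 5 n219578 = n216564 := d17_1 D219578 (iv1 F484963) (iv5 F451618) F451617 D208971 F451638 (iv5 F475846) (iv0 F490482) F490479
theorem F499532 : act 4 n219578 = n214505 := d18_1 D219578 F475513 F365492 (iv5 D141208) (iv4 F224234) F371022 (iv4 F384418) (iv0 D191781) D191784
theorem F499533 : act 1 n191789 = n219578 := d15_0 (iv0 D219578) (iv7 F456621) F456617
theorem F499534 : act 6 n216290 = n219578 := d21_3 (iv5 D186449) (iv1 F294955) (iv5 F483664) (iv1 F499533) F384439 F330619 F330612 (iv5 F330620) D195143 F395951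
theorem F499535 : act 2 n219578 = n217118 := d3_1 F499534 (iv6 D217118) (iv2 F483663)
theorem F499536 : act 3 n219578 = n199686 := d7_1 F499534 (iv6 F449273) D216290
theorem F499537 : act 7 n219571 = n219578 := d15_2 (iv0 F491289) (iv0 F499504) F499535
def n219579 : Q := act 1 n191784
theorem D219579 : act 1 n191784 = n219579 := rfl
theorem F499538 : act 1 n219579 = n191789 := d15_1 D219579 (iv7 F491288) F491284
theorem F499539 : act 7 n219579 = n217118 := d15_2 (iv0 D219578) D219579 (iv2 F499535)
theorem F499540 : act 5 n219579 = n217920 := d17_7 F294361 (iv5 D43308) D43305 (iv5 F293386) D98918 D191784 D219579 F491265 (iv4 D188169)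
theorem F499541 : act 4 n219579 = n195233 := d17_9 F415222 (iv5 F415752) (iv1 F415754) (iv5 F451936) F451937 (iv5 F449264) (iv0 D191781) D191784 D219579
theorem F499542 : act 3 n207315 = n219579 := d19_19 (iv1 D219579) (iv5 D191784) (iv4 D98918) D98917 (iv1 F379961) (iv5 D190511) (iv4 F364445) F364446 (iv1 F144791) (iv5 F306979) (iv4 F306989) F147635 D96009 (iv5 F364244) (iv4 D163351) D163350 F444305 (iv5 D207316) D207315
theorem F499543 : act 6 n219579 = n195232 := d7_2 F456184 F499542 (iv3 F456181)
theorem F499544 : act 2 n219571 = n219579 := d1_3 F499541 F415215 (iv4 F499503)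
def n219580 : Q := act 5 n191788
theorem D219580 : act 5 n191788 = n219580 := rfl
theorem F499545 : act 2 n219580 = n208683 := d2_1 D219580 F450440 F444394
theorem F499546 : act 3 n219580 = n191789 := d6_1 D219580 (iv5 D191789) D191788
theorem F499547 : act 6 n219580 = n208717 := d12_2 (iv6 F384437) D219580 F450554 (iv6 D202504) (iv5 F372570)
theorem F499548 : act 7 n219580 = n208652 := d13_2 (iv7 F444388) D219580 (iv5 F450340)
theorem F499549 : act 1 n219580 = n208684 := d17_6 (iv1 D201443) D201444 F420531 (iv5 F284751) (iv4 F384436) D219580 F450442 F499515 F499512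
theorem F499550 : act 0 n219580 = n199684 := d21_1 D219580 F491062 (iv6 D217881) (iv1 F489982) (iv6 F489985) F457677 F403965 (iv5 F448227) F448228 (iv1 F444403)
def n219581 : Q := act 6 n191798
theorem D219581 : act 6 n191798 = n219581 := rfl
theorem F499551 : act 2 n219581 = n191801 := d3_1 D219581 (iv6 D191801) (iv2 F384478)
theorem F499552 : act 3 n219581 = n208936 := d7_1 D219581 (iv6 D208936) (iv3 F384479)
theorem F499553 : act 4 n219581 = n207988 := d10_1 D219581 (iv6 D207988) (iv4 F384480)
theorem F499554 : act 5 n219581 = n203459 := d12_1 D219581 (iv6 D203459) F187532 F354647 D191798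
def n219582 : Q := act 0 n191801
theorem D219582 : act 0 n191801 = n219582 := rfl
theorem F499555 : act 5 n219582 = n211035 := d19_1 D219582 F459825 (iv3 F444048) F444051 (iv5 D200967) F354327 (iv3 D66469) (iv1 F95571) (iv5 F97772) F320297 F320658 F102978 D67108 F223183 F230298 (iv1 D146912) D146914 (iv4 F354742) (iv3 F384489)
theorem F499556 : act 3 n219582 = n211036 := d20_5 (iv4 F451110) (iv1 F451115) (iv4 F354742) (iv3 F384489) D219582 F459830 F360949 (iv4 F366487) (iv3 F389690) (iv1 F389693)
theorem F499557 : act 4 n219582 = n207902 := d20_8 F250847 D159345 F418100 F418098 (iv1 F230261) (iv3 F465640) F465642 D219582 F446937 F421949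
theorem F499558 : act 6 n191841 = n219582 := d10_0 F499557 (iv6 D207902) (iv4 F421340)
def n219583 : Q := act 5 n191807
theorem D219583 : act 5 n191807 = n219583 := rfl
theorem F499559 : act 2 n219583 = n191810 := d2_1 D219583 (iv5 D191810) (iv2 F384504)
theorem F499560 : act 3 n219583 = n213403 := d6_1 D219583 F470250 F467262
theorem F499561 : act 0 n219583 = n192303 := d17_2 F427155 D219583 (iv5 D192303) (iv4 F354006) (iv5 F406492) (iv0 F406494) F339510 (iv0 F348590) (iv4 F427152)
theorem F499562 : act 1 n219583 = n192301 := d17_6 F344415 D158345 F409621 F409622 (iv4 F384505) D219583 (iv5 D192301) (iv0 D100042) (iv4 F153973)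
def n219584 : Q := act 0 n191808
theorem D219584 : act 0 n191808 = n219584 := rfl
theorem F499563 : act 5 n219584 = n208818 := d17_1 D219584 (iv1 F450992) D208826 F451020 (iv5 D135413) (iv0 D63656) D63658 (iv0 F354655) D191808
theorem F499564 : act 4 n219584 = n203705 := d18_1 D219584 (iv1 F430701) F430699 F411975 F373058 (iv0 F347401) (iv4 F450944) (iv0 D208802) (iv5 F384506)
theorem F499565 : act 1 n208807 = n219584 := d15_0 (iv0 D219584) (iv7 F468596) F468594
theorem F499566 : act 3 n204582 = n219584 := d19_19 (iv1 F499565) (iv5 D208807) (iv4 D135131) (iv3 F337794) D183165 (iv5 F399444) (iv4 D196108) (iv3 F349656) (iv1 F203015) (iv5 F382352) (iv4 F382353) (iv3 F356096) (iv1 F377225) F377227 F432917 (iv3 D204575) (iv1 D124016) D124018 D204582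
theorem F499567 : act 7 n219584 = n203704 := d8_2 F482557 F499566 (iv3 F482555)
def n219585 : Q := act 1 n191808
theorem D219585 : act 1 n191808 = n219585 := rfl
theorem F499568 : act 1 n219585 = n208807 := d15_1 D219585 (iv7 F468589) F468587
theorem F499569 : act 5 n219585 = n208819 := d17_7 (iv1 D63513) (iv5 D29993) D29990 D63504 D135119 (iv5 F384506) D219585 F450995 (iv4 D135147)
theorem F499570 : act 4 n219585 = n203702 := d17_9 F429462 (iv5 D193378) F199581 D122337 D203983 F450946 (iv0 D208802) (iv5 F384506) D219585
theorem F499571 : act 3 n199701 = n219585 := d20_3 (iv4 F490282) (iv1 F490285) (iv4 F413169) (iv1 D219585) F450522 (iv4 F450521) F462201 (iv4 F450179) (iv3 F453877) F453880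
theorem F499572 : act 6 n219585 = n199699 := d7_2 D199701 F499571 F413167
theorem F499573 : act 2 n203704 = n219585 := d1_3 F499570 F429460 D203704
def n219586 : Q := act 0 n191810
theorem D219586 : act 0 n191810 = n219586 := rfl
theorem F499574 : act 5 n219586 = n192298 := d17_3 (iv1 D191809) D191810 D219586 (iv4 F386354) F280552 (iv0 F353953) (iv5 D135368) D135367 F384507
theorem F499575 : act 2 n192303 = n219586 := d15_3 (iv0 D219586) (iv0 F479344) F479343
theorem F499576 : act 3 n219586 = n203986 := d0_2 F483787 F499575 F430714 (iv3 F383296) (iv2 F483786)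
theorem F499577 : act 6 n219586 = n219521 := d3_2 F488334 F499575 (iv2 F499266)
theorem F499578 : act 7 n219586 = n192301 := d4_2 F479343 F499575 (iv2 F479341)
def n219587 : Q := act 4 n191810
theorem D219587 : act 4 n191810 = n219587 := rfl
theorem F499579 : act 5 n219587 = n199606 := d16_3 F348182 D191810 D219587 (iv4 D199606) (iv5 D111472) (iv4 F172955) F348176 (iv7 F357798) (iv2 F357799)
theorem F499580 : act 0 n219587 = n204043 := d18_2 F479344 D219587 (iv4 D204043) (iv5 D122460) F301011 F315278 (iv4 F302450) F310670 D215313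
theorem F499581 : act 1 n219587 = n213418 := d18_6 (iv1 D193183) (iv4 F351630) (iv1 F351632) F348182 D191810 D219587 (iv4 D213418) F430876 F430875
def n219588 : Q := act 5 n191814
theorem D219588 : act 5 n191814 = n219588 := rfl
theorem F499582 : act 2 n219588 = n205459 := d2_1 D219588 F436536 (iv2 F384524)
theorem F499583 : act 3 n219588 = n206801 := d6_1 D219588 F442243 F414924
theorem F499584 : act 4 n219588 = n195851 := d9_1 D219588 F398456 (iv4 F493820) F493821 F490991 F382598 (iv4 F334368) F362643 D206798 F442229 F376805 F144894 D189447 (iv5 F376617) (iv4 F384525)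
theorem F499585 : act 6 n219588 = n191815 := d12_2 D191814 D219588 (iv5 D191815) (iv6 D98966) D98965
theorem F499586 : act 7 n219588 = n206797 := d13_2 F414921 D219588 F442222
theorem F499587 : act 1 n219588 = n206796 := d17_6 (iv1 D166584) (iv5 F294896) F376867 (iv5 F376617) (iv4 F384525) D219588 F442217 (iv0 F429922) F429918
theorem F499588 : act 0 n219588 = n206781 := d18_0 (iv4 F447608) F447610 (iv4 D133272) (iv5 F324228) (iv4 F262509) D215151 (iv4 F478581) (iv0 F414889) D219588
def n219589 : Q := act 1 n191816
theorem D219589 : act 1 n191816 = n219589 := rfl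
theorem F499589 : act 7 n219589 = n204528 := d15_2 (iv0 F462201) D219589 (iv2 F450178)
theorem F499590 : act 5 n219589 = n205628 := d17_7 (iv1 F217841) (iv5 F437433) F437781 (iv5 D205765) D205764 (iv5 F437776) D219589 (iv0 F450454) (iv4 D208688)
theorem F499591 : act 3 n204207 = n219589 := d19_19 (iv1 D219589) F437776 (iv4 D205764) D205763 (iv1 F437769) (iv5 F437031) (iv4 D205570) (iv3 F380859) (iv1 F380863) (iv5 F378171) (iv4 F387394) F387393 (iv1 F387306) F387308 F333011 (iv3 F197202) F315059 D123136 D204207
theorem F499592 : act 4 n204209 = n219589 := d20_0 (iv1 D219589) F450521 (iv3 F450522) D219584 (iv3 F499566) (iv4 D204582) D204580 F451312 (iv3 F471857) (iv1 F471860)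
theorem F499593 : act 1 n219589 = n212684 := d18_6 D216493 F484666 (iv1 F442965) F442966 F432796 F499592 (iv4 F467052) (iv0 D208708) (iv5 F350386)
def n219590 : Q := act 2 n191816
theorem D219590 : act 2 n191816 = n219590 := rfl
theorem F499594 : act 3 n219590 = n212686 := d0_2 D191816 D219590 F467060 F450904 (iv2 F354664)
theorem F499595 : act 4 n219590 = n218177 := d1_2 (iv4 F450521) D219590 F492535
theorem F499596 : act 5 n219590 = n205651 := d2_2 (iv5 F437776) D219590 (iv2 F437771)
theorem F499597 : act 6 n219590 = n217518 := d3_2 (iv6 F384531) D219590 (iv2 D217518)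
theorem F499598 : act 7 n219590 = n212684 := d4_2 F450889 D219590 F467048
theorem F499599 : act 1 n204528 = n219590 := d15_1 (iv0 F450890) F499598 F467048
def n219591 : Q := act 3 n191817
theorem D219591 : act 3 n191817 = n219591 := rfl
theorem F499600 : act 5 n219591 = n198913 := d6_2 F397809 D219591 F409865
theorem F499601 : act 0 n203961 = n219591 := d20_4 F426202 (iv1 D186792) D186793 (iv3 F430599) (iv3 D219591) (iv4 D191817) F274648 D191447 (iv3 F485721) F485724
def n219592 : Q := act 6 n191820
theorem D219592 : act 6 n191820 = n219592 := rfl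
theorem F499602 : act 2 n219592 = n191823 := d3_1 D219592 (iv6 D191823) D191820
theorem F499603 : act 3 n219592 = n213008 := d7_1 D219592 (iv6 D213008) (iv3 F384537)
theorem F499604 : act 4 n219592 = n201809 := d10_1 D219592 (iv6 F446387) F446384
theorem F499605 : act 5 n219592 = n216766 := d12_1 D219592 (iv6 F485848) (iv5 F468563) (iv6 D213006) F384539
theorem F499606 : act 7 n214419 = n219592 := d13_0 F499605 F485850 F475098
def n219593 : Q := act 0 n191823
theorem D219593 : act 0 n191823 = n219593 := rfl
theorem F499607 : act 3 n219593 = n216345 := d20_5 (iv4 F491301) (iv1 D217927) F372598 (iv3 F384546) D219593 (iv4 F489532) F489531 F374221 F373180 (iv1 F487492)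
theorem F499608 : act 6 n216366 = n219593 := d7_0 F499607 F483944 D216366
theorem F499609 : act 0 n219593 = n214419 := d19_4 F376143 (iv5 F489528) F489532 (iv3 F499607) (iv5 F475098) D216784 F485909 F438143 F422872 (iv4 D137000) D136999 (iv1 F428155) (iv5 D203401) (iv4 F252616) (iv3 D160070) F114986 D105941 (iv4 F349235) (iv3 F376141)
def n219594 : Q := act 1 n191823
theorem D219594 : act 1 n191823 = n219594 := rfl
theorem F499610 : act 1 n219594 = n214419 := d15_1 D219594 F499606 F499602
theorem F499611 : act 6 n209681 = n219594 := d21_3 (iv5 D210195) F454086 (iv5 F454607) (iv1 D219594) (iv6 D191823) D191822 (iv1 F429357) (iv5 F443052) (iv6 F483975) (iv1 F483977)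
theorem F499612 : act 3 n219594 = n209683 := d7_1 F499611 (iv6 D209683) D209681
def n219595 : Q := act 7 n191823
theorem D219595 : act 7 n191823 = n219595 := rfl
theorem F499613 : act 2 n219595 = n214419 := d4_1 D219595 F499606 F499602
theorem F499614 : act 3 n219595 = n191826 := d8_1 D219595 (iv7 D191826) (iv3 F384546)
theorem F499615 : act 4 n219595 = n201808 := d11_1 D219595 (iv7 F421860) (iv4 F446389)
theorem F499616 : act 5 n219595 = n194127 := d13_1 D219595 F392119 (iv5 F384547)
def n219596 : Q := act 6 n191827
theorem D219596 : act 6 n191827 = n219596 := rfl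
theorem F499617 : act 4 n219596 = n191828 := d10_1 D219596 (iv6 D191828) D191827
theorem F499618 : act 5 n219596 = n199120 := d12_1 D219596 F410759 D199231 F451029 F450978
theorem F499619 : act 0 n219596 = n213706 := d21_1 (iv5 F499618) F471716 (iv6 F463433) (iv1 D211889) (iv6 D144312) D144311 F358648 (iv5 D110948) D110949 D199120
def n219597 : Q := act 0 n191828
theorem D219597 : act 0 n191828 = n219597 := rfl
theorem F499620 : act 3 n219597 = n197193 := d20_5 (iv4 F391398) F391399 F372604 (iv3 F384550) D219597 (iv4 F490093) F490094 F428087 F391798 (iv1 F389711)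
theorem F499621 : act 4 n218253 = n219597 := d5_0 F499620 (iv4 F490093) F490090 (iv4 F375057) (iv3 F492972)
theorem F499622 : act 6 n218252 = n219597 := d7_0 F499620 (iv6 F489412) (iv3 F492970)
def n219598 : Q := act 1 n191828
theorem D219598 : act 1 n191828 = n219598 := rfl
theorem F499623 : act 6 n199637 = n219598 := d21_3 (iv5 D148796) D148793 (iv5 F412943) (iv1 D219598) (iv6 D191828) F321745 (iv1 D71681) D71683 D152048 F351275
theorem F499624 : act 5 n214042 = n219598 := d21_6 F386456 F333751 (iv5 F335203) (iv6 D156245) D156241 D214042 (iv1 D219598) (iv5 F386460) (iv6 D192333) D192330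
theorem F499625 : act 4 n219598 = n199638 := d10_1 F499623 (iv6 D199638) D199637
def n219599 : Q := act 7 n191828
theorem D219599 : act 7 n191828 = n219599 := rfl
theorem F499626 : act 3 n219599 = n191831 := d8_1 D219599 (iv7 D191831) (iv3 F384550)
def n219600 : Q := act 3 n191832
theorem D219600 : act 3 n191832 = n219600 := rfl
theorem F499627 : act 6 n219600 = n200961 := d7_2 (iv6 F446510) D219600 (iv3 F446505)
def n219601 : Q := act 5 n191832
theorem D219601 : act 5 n191832 = n219601 := rfl
theorem F499628 : act 2 n219601 = n191839 := d2_1 D219601 (iv5 D191839) (iv2 F384556)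
theorem F499629 : act 4 n219601 = n217499 := d9_1 D219601 (iv5 D217499) (iv4 D187410) F138378 (iv4 F294112) D88971 D186640 D217013 (iv4 F498244) (iv5 D219311) (iv4 D191143) (iv5 D97320) (iv4 F72953) D98988 D191832
theorem F499630 : act 6 n219601 = n205702 := d12_2 (iv6 F446510) D219601 (iv5 F446233) (iv6 F446238) D207802
theorem F499631 : act 7 n219601 = n219318 := d13_2 F485926 D219601 F498271
def n219602 : Q := act 0 n191833
theorem D219602 : act 0 n191833 = n219602 := rfl
theorem F499632 : act 4 n219602 = n207865 := d18_1 D219602 F446793 F450541 F450540 (iv4 F438734) (iv0 F438738) D211943 F463675 F386763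
theorem F499633 : act 2 n191841 = n219602 := d1_3 F499632 F446790 (iv4 F421340)
theorem F499634 : act 7 n191842 = n219602 := d11_0 F499632 F446792 F446538
theorem F499635 : act 1 n191843 = n219602 := d17_8 F446793 (iv5 D206690) F207341 D129130 D206706 F441921 (iv0 F440144) F386773 F499632
theorem F499636 : act 3 n216335 = n219602 := d20_5 (iv4 F111575) D156330 (iv4 F343818) F343172 D216335 F499632 F446793 F450541 (iv3 D208714) (iv1 D134954)
def n219603 : Q := act 1 n191833
theorem D219603 : act 1 n191833 = n219603 := rfl
theorem F499637 : act 1 n219603 = n191843 := d15_1 D219603 (iv7 D191843) (iv2 F384557)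
theorem F499638 : act 7 n219603 = n191841 := d15_2 (iv0 D219602) D219603 F499633
theorem F499639 : act 4 n219603 = n207866 := d17_9 F446798 (iv5 D206688) (iv1 F212442) (iv5 F212782) D207908 (iv5 F463672) F463675 F386763 D219603
theorem F499640 : act 3 n216157 = n219603 := d20_9 (iv4 F446507) F446508 D207914 (iv3 F446975) (iv1 F387047) F387044 (iv4 F440091) F440092 (iv4 F483222) (iv1 D219603)
theorem F499641 : act 6 n212685 = n219603 := d21_3 (iv5 F456496) (iv1 F456497) F467058 (iv1 D219603) (iv6 D191833) (iv5 D98988) (iv1 F136552) D186639 (iv6 F450936) (iv1 F450937)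
theorem F499642 : act 2 n219603 = n191842 := d3_1 F499641 F450974 F467057
def n219604 : Q := act 7 n191833
theorem D219604 : act 7 n191833 = n219604 := rfl
theorem F499643 : act 2 n219604 = n191843 := d4_1 D219604 (iv7 D191843) (iv2 F384557)
theorem F499644 : act 4 n219604 = n206684 := d11_1 D219604 (iv7 F446506) F446507
theorem F499645 : act 1 n191842 = n219604 := d15_1 D191842 (iv7 D219604) F384557
theorem F499646 : act 1 n219604 = n191841 := d15_1 F499645 (iv7 F499638) F499642
def n219605 : Q := act 4 n191834
theorem D219605 : act 4 n191834 = n219605 := rfl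
theorem F499647 : act 2 n219605 = n192755 := d1_1 D219605 F387676 (iv2 F384558)
theorem F499648 : act 5 n219605 = n206017 := d9_2 (iv5 F384559) D219605 (iv4 D206017) (iv5 D126947) F94004 F329339 (iv4 F294762) D91999 D188464 (iv5 F482880) F482883 F429915 F327314 (iv5 F338476) (iv4 F287701)
theorem F499649 : act 6 n219605 = n192754 := d10_2 (iv6 F482473) D219605 F482472
theorem F499650 : act 7 n219605 = n216333 := d11_2 (iv7 F384560) D219605 (iv4 D216333)
theorem F499651 : act 0 n219605 = n217576 := d17_0 F489583 (iv1 F477600) F348604 F284680 F134154 F134132 D183002 F384561 D219605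
theorem F499652 : act 1 n219605 = n214283 := d18_6 D90371 F293736 (iv1 F157023) (iv4 F287701) (iv5 F384559) D219605 F474393 (iv0 D187584) (iv5 D90374)
theorem F499653 : act 3 n217806 = n219605 := d8_3 F499650 (iv3 F484767) (iv7 F490724)
def n219606 : Q := act 3 n191835
theorem D219606 : act 3 n191835 = n219606 := rfl
theorem F499654 : act 4 n219606 = n217806 := d5_2 D191835 D219606 F499653 (iv4 D219605) (iv3 D191834)
theorem F499655 : act 6 n193039 = n219606 := d10_0 F499654 (iv6 D217806) (iv4 F388574)
def n219607 : Q := act 5 n191835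
theorem D219607 : act 5 n191835 = n219607 := rfl
theorem F499656 : act 2 n219607 = n218086 := d2_1 D219607 (iv5 D218086) (iv2 F384564)
theorem F499657 : act 4 n219607 = n218900 := d9_1 D219607 F496105 (iv4 D190499) F147681 F135290 D88362 D185495 D216793 F496102 F496098 (iv4 F382741) F382739 F287916 F293665 D191835
def n219608 : Q := act 6 n191835
theorem D219608 : act 6 n191835 = n219608 := rfl
theorem F499658 : act 2 n219608 = n201744 := d3_1 D219608 (iv6 F421649) (iv2 F384564)
theorem F499659 : act 3 n219608 = n193039 := d7_1 D219608 F499655 (iv3 D219606)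
theorem F499660 : act 4 n219608 = n191836 := d10_1 D219608 (iv6 D191836) D191835
theorem F499661 : act 7 n207886 = n219608 := d11_0 F499660 (iv7 F482486) (iv4 F482488)
theorem F499662 : act 5 n193039 = n219608 := d16_1 (iv4 F388574) F499660 (iv5 F498778) F498777 F482489 F439775 F205593 F178589 F371979
theorem F499663 : act 0 n219608 = n207881 := d20_1 (iv4 F499660) F446863 F429749 (iv1 F433029) D213447 F470446 D213455 (iv4 F491388) (iv3 F493654) (iv1 F493657)
theorem F499664 : act 1 n219608 = n207888 := d15_1 (iv0 F499663) (iv7 D207888) (iv2 F446862)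
def n219609 : Q := act 3 n191837
theorem D219609 : act 3 n191837 = n219609 := rfl
theorem F499665 : act 2 n219609 = n210297 := d0_1 D219609 (iv3 F456907) (iv2 F440494) F486983 (iv2 F486982)
theorem F499666 : act 7 n219609 = n210296 := d8_2 F486987 D219609 (iv3 F486978)
theorem F499667 : act 0 n219609 = n209292 := d19_4 (iv1 F370942) D216818 F486047 D219609 F497693 F497691 F381503 D190908 F381509 (iv4 D158049) D158048 (iv1 F383179) (iv5 F443578) F443577 (iv3 F377271) (iv1 F377275) (iv5 D188212) (iv4 D91090) D91089
theorem F499668 : act 1 n219609 = n208472 := d15_1 (iv0 F499667) F449510 (iv2 F453069)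
theorem F499669 : act 6 n209339 = n219609 := d14_5 F499666 (iv6 F456903) F388384 D193021 (iv7 F453310)
def n219610 : Q := act 5 n191837
theorem D219610 : act 5 n191837 = n219610 := rfl
theorem F499670 : act 4 n219610 = n219316 := d16_2 F486047 D219610 (iv5 D219316) (iv4 D191148) F294039 D185631 (iv5 F375815) F375816 (iv2 F486044)
theorem F499671 : act 1 n219610 = n217021 := d17_6 (iv1 F379086) F367975 (iv1 F370942) D216818 F486047 D219610 (iv5 D217021) D217020 F487015
def n219611 : Q := act 6 n191837
theorem D219611 : act 6 n191837 = n219611 := rfl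
theorem F499672 : act 2 n219611 = n206376 := d3_1 D219611 F486984 (iv2 F486982)
theorem F499673 : act 3 n219611 = n209339 := d7_1 D219611 F499669 (iv3 D219609)
theorem F499674 : act 4 n219611 = n212619 := d10_1 D219611 (iv6 F486048) F486047
theorem F499675 : act 0 n219611 = n201806 := d21_4 D217021 (iv1 F499671) (iv5 D219610) D219611 F421847 (iv5 D195278) (iv1 F207589) D206818 F487016 (iv1 D217020)
theorem F499676 : act 5 n219611 = n209339 := d21_6 (iv5 D129108) D129106 F404035 (iv6 D191840) D191837 D219611 (iv1 D209339) (iv5 F421852) (iv6 F421853) F219404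
theorem F499677 : act 0 n201804 = n219611 := d17_0 F499676 (iv1 D209339) (iv5 F421852) D214419 (iv5 F475098) (iv0 D185488) D185490 (iv0 F370531) F421844
def n219612 : Q := act 5 n191838
theorem D219612 : act 5 n191838 = n219612 := rfl
theorem F499678 : act 4 n219612 = n219314 := d9_1 D219612 (iv5 D219314) (iv4 D191146) F357386 D185626 D216818 F486047 D219610 F499670 (iv5 D219316) (iv4 D191148) F294039 D185631 (iv5 F375815) F384567
theorem F499679 : act 0 n219612 = n217021 := d17_2 F485927 D219612 (iv5 D217021) (iv4 D186653) F294040 D90211 F293665 F287770 D216789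
def n219613 : Q := act 0 n191839
theorem D219613 : act 0 n191839 = n219613 := rfl
theorem F499680 : act 5 n219613 = n191865 := d17_3 (iv1 D191838) D191839 D219613 F384613 (iv5 D191140) (iv0 F295337) (iv5 F372721) (iv0 F381198) F384567
theorem F499681 : act 1 n219318 = n219613 := d15_0 (iv0 D219613) (iv7 F486989) (iv2 F498270)
theorem F499682 : act 3 n206827 = n219613 := d6_3 F499680 (iv3 F404704) D206827
theorem F499683 : act 6 n206824 = n219613 := d12_0 F499680 F404703 (iv5 D129413) D129414 D206824
theorem F499684 : act 4 n219229 = n219613 := d16_0 F499680 F384613 (iv5 D191140) (iv4 D97312) D97313 D191141 D219309 F498235 (iv2 F497834)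
def n219614 : Q := act 1 n191839
theorem D219614 : act 1 n191839 = n219614 := rfl
theorem F499685 : act 1 n219614 = n219318 := d15_1 D219614 (iv7 F499631) F499628
theorem F499686 : act 5 n219614 = n191866 := d17_7 (iv1 F367562) (iv5 D98334) F134922 D46308 D98991 D191839 D219614 (iv0 F487011) (iv4 D217019)
theorem F499687 : act 4 n219309 = n219614 := d9_15 F499686 (iv4 F384614) (iv5 D186441) F136177 D97095 D190963 D219229 F499684 F499680 F384613 (iv5 D191140) (iv4 D97312) D97313 D191141 D219309
theorem F499688 : act 6 n207073 = n219614 := d12_0 F499686 (iv6 F403371) (iv5 D129876) D129877 D207073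
def n219615 : Q := act 4 n191839
theorem D219615 : act 4 n191839 = n219615 := rfl
theorem F499689 : act 2 n219615 = n217499 := d1_1 D219615 (iv4 F499629) F499628
theorem F499690 : act 5 n219615 = n217497 := d9_2 D191839 D219615 (iv4 D217497) F370234 (iv4 F294589) (iv5 F287767) D216789 (iv5 F498271) (iv4 D219318) (iv5 D191152) (iv4 D97324) (iv5 D45455) (iv4 F62907) D46308 D98991
theorem F499691 : act 7 n219615 = n219311 := d11_2 F486989 D219615 F498244
theorem F499692 : act 0 n219615 = n219317 := d17_0 F498266 (iv1 D191193) (iv5 F381898) (iv4 F498028) (iv5 F498029) F487012 (iv5 F499680) (iv0 D219613) D219615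
theorem F499693 : act 1 n219615 = n218987 := d18_8 F473775 F473772 (iv1 F335371) D190963 D219229 F499684 (iv0 D219613) D219615 (iv5 D218987)
def n219616 : Q := act 4 n191845
theorem D219616 : act 4 n191845 = n219616 := rfl
theorem F499694 : act 2 n219616 = n192420 := d1_1 D219616 (iv4 D192420) (iv2 F384576)
theorem F499695 : act 7 n219616 = n192422 := d11_2 (iv7 F384577) D219616 (iv4 D192422)
theorem F499696 : act 0 n219616 = n197358 := d18_2 (iv1 F384579) D219616 F404038 F329911 F159264 F159262 F134841 F73868 D100167
theorem F499697 : act 1 n219616 = n192863 := d18_6 (iv1 F458545) F458544 (iv1 F379039) (iv4 F340564) D191845 D219616 (iv4 D192863) F365256 (iv5 F374425)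
theorem F499698 : act 3 n219616 = n212805 := d20_3 (iv4 D192415) (iv1 F384579) D219616 (iv1 D212805) (iv3 D150039) F107740 (iv1 F107738) (iv4 F104148) D145112 (iv1 F386683)
def n219617 : Q := act 6 n191845
theorem D219617 : act 6 n191845 = n219617 := rfl
theorem F499699 : act 2 n219617 = n192421 := d3_1 D219617 (iv6 D192421) (iv2 F384576)
theorem F499700 : act 5 n219617 = n216527 := d12_1 D219617 (iv6 D216527) (iv5 F340562) F340563 D191845
theorem F499701 : act 0 n219617 = n192356 := d21_4 D184252 (iv1 F286181) D191845 D219617 (iv6 D192356) (iv5 D100113) F232748 D87882 F134894 D87886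
def n219618 : Q := act 5 n191848
theorem D219618 : act 5 n191848 = n219618 := rfl
theorem F499702 : act 3 n219618 = n197948 := d6_1 D219618 F406262 F412254
theorem F499703 : act 4 n219618 = n215513 := d9_1 D219618 F480284 F468377 F238529 F144664 D98288 D191400 D219408 F498755 F480244 F474557 (iv5 D191847) (iv4 D99007) D99008 D191848
theorem F499704 : act 7 n219618 = n215511 := d13_2 F486462 D219618 (iv5 F486463)
def n219619 : Q := act 0 n191851
theorem D219619 : act 0 n191851 = n219619 := rfl
theorem F499705 : act 4 n219619 = n204484 := d20_8 F432648 (iv1 F410223) (iv4 F410551) F410550 (iv1 F400672) (iv3 F464312) (iv4 F464315) D219619 (iv3 D204484) (iv1 F432646)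
theorem F499706 : act 6 n219619 = n208237 := d21_5 (iv5 D186280) F293933 D99010 D191851 D219619 F448522 (iv1 F391596) F391586 (iv6 D186648) (iv1 F367084)
theorem F499707 : act 2 n191859 = n219619 := d15_3 (iv0 D219619) F384604 (iv7 F464324)
theorem F499708 : act 1 n191861 = n219619 := d15_0 (iv0 D219619) (iv7 F464318) (iv2 F464319)
theorem F499709 : act 7 n219619 = n191860 := d15_2 (iv0 F384603) F499708 F384601
theorem F499710 : act 3 n204483 = n219619 := d20_3 (iv4 F432676) (iv1 D204482) D204483 (iv1 F499708) F384602 F366995 (iv1 F359445) (iv4 F359441) D189128 (iv1 F375846)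
def n219620 : Q := act 5 n191852
theorem D219620 : act 5 n191852 = n219620 := rfl
theorem F499711 : act 2 n219620 = n219184 := d2_1 D219620 F497610 F486479
theorem F499712 : act 3 n219620 = n218296 := d6_1 D219620 (iv5 D218296) (iv3 F384590)
theorem F499713 : act 6 n219620 = n219180 := d12_2 F384591 D219620 (iv5 F497596) (iv6 D192481) (iv5 F375305)
theorem F499714 : act 4 n219620 = n218652 := d16_2 D191852 D219620 (iv5 D218652) (iv4 F488446) (iv5 D217326) F369321 F367070 F367138 (iv2 F367137)
theorem F499715 : act 0 n219620 = n204741 := d17_2 F487563 D219620 F433455 F413035 (iv5 D184502) (iv0 F292412) F292413 (iv0 F368132) D217127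
theorem F499716 : act 1 n219620 = n204737 := d17_6 F367083 F291613 D90201 (iv5 F367127) D191852 D219620 F433435 (iv0 F486464) (iv4 D216898)
def n219621 : Q := act 5 n191854
theorem D219621 : act 5 n191854 = n219621 := rfl
theorem F499717 : act 3 n219621 = n197938 := d6_1 D219621 (iv5 F412832) F422746
theorem F499718 : act 4 n219621 = n218651 := d9_1 D219621 (iv5 D218651) F377663 F376447 (iv4 D187471) (iv5 F367127) D191852 D219620 F499714 (iv5 D218652) (iv4 F488446) (iv5 D217326) F369321 F367070 D191854
theorem F499719 : act 7 n219621 = n219184 := d13_2 F486481 D219621 F497610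
theorem F499720 : act 0 n219621 = n204737 := d17_2 F487544 D219621 F433435 F413048 F375767 F372828 D188281 F372945 D217123
theorem F499721 : act 1 n219621 = n204741 := d17_6 (iv1 F367085) (iv5 F367087) (iv1 F142564) F367070 D191854 D219621 F433455 (iv0 F486458) (iv4 D216897)
def n219622 : Q := act 5 n191856
theorem D219622 : act 5 n191856 = n219622 := rfl
theorem F499722 : act 2 n219622 = n218597 := d2_1 D219622 (iv5 D218597) F384596
theorem F499723 : act 3 n219622 = n213689 := d6_1 D219622 (iv5 D213689) F384597
theorem F499724 : act 4 n219622 = n218650 := d9_1 D219622 (iv5 D218650) (iv4 D189762) F291610 (iv4 F74984) D91148 D188284 D218005 F491647 (iv5 D211855) (iv4 F359560) F293472 D102857 (iv5 F377033) (iv4 F384595)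
theorem F499725 : act 6 n219622 = n213685 := d12_2 (iv6 F384598) D219622 (iv5 D213685) (iv6 D154703) D154702
theorem F499726 : act 7 n219622 = n218856 := d13_2 F486488 D219622 F495928
theorem F499727 : act 0 n219622 = n205079 := d17_2 D191856 D219622 F434898 (iv4 D191870) (iv5 F367087) F142562 (iv5 F367127) (iv0 D99012) D99014
theorem F499728 : act 1 n219622 = n217017 := d17_6 D186823 F368137 F362646 (iv5 F377033) (iv4 F384595) D219622 (iv5 D217017) (iv0 F368147) (iv4 D186825)
def n219623 : Q := act 0 n191857
theorem D219623 : act 0 n191857 = n219623 := rfl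
theorem F499729 : act 5 n219623 = n191872 := d17_3 F372952 D191857 D219623 F384627 (iv5 D186816) (iv0 F295434) (iv5 F372886) F372951 D188284
theorem F499730 : act 4 n219623 = n218648 := d18_1 D219623 F494959 D218963 F496414 (iv4 D218004) F377036 (iv4 F384595) (iv0 D191856) D191857
theorem F499731 : act 2 n217132 = n219623 := d15_3 (iv0 D219623) (iv0 F493437) F493435
theorem F499732 : act 1 n218654 = n219623 := d15_0 (iv0 D219623) (iv7 F486491) (iv2 F494983)
theorem F499733 : act 6 n209735 = n219623 := d21_9 F494984 F486468 D218005 F491646 F496246 (iv6 F496244) (iv5 F452567) F452568 D209735 (iv1 F499732)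
def n219624 : Q := act 6 n191857
theorem D219624 : act 6 n191857 = n219624 := rfl
theorem F499734 : act 3 n219624 = n218793 := d7_1 D219624 F495678 F486490
theorem F499735 : act 0 n219624 = n219142 := d21_4 (iv5 D218005) F372952 D191857 D219624 F497397 (iv5 D205064) (iv1 F201720) D125451 D205079 (iv1 F491649)
theorem F499736 : act 1 n219624 = n215348 := d15_1 (iv0 F499735) F479500 (iv2 F497395)
def n219625 : Q := act 4 n191859
theorem D219625 : act 4 n191859 = n219625 := rfl
theorem F499737 : act 2 n219625 = n204484 := d1_1 D219625 (iv4 F499705) (iv2 F499707)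
theorem F499738 : act 3 n219625 = n196477 := d5_1 D219625 (iv4 F482062) F482061 (iv4 F468622) F468621
theorem F499739 : act 6 n219625 = n208241 := d10_2 (iv6 F465753) D219625 (iv4 F465750)
theorem F499740 : act 7 n219625 = n208937 := d11_2 (iv7 F464324) D219625 F451477
theorem F499741 : act 5 n219625 = n196472 := d16_1 D219625 (iv4 F453668) F454776 (iv4 F478206) (iv5 D212097) D212096 (iv5 F464303) (iv7 F499709) (iv2 F499707)
def n219626 : Q := act 4 n191860
theorem D219626 : act 4 n191860 = n219626 := rfl
theorem F499742 : act 2 n219626 = n208937 := d1_1 D219626 F451477 (iv2 F384601)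
theorem F499743 : act 3 n219626 = n204200 := d5_1 D219626 (iv4 D204200) (iv3 F419483) (iv4 F496588) F496587
theorem F499744 : act 6 n219626 = n208832 := d10_2 F384600 D219626 F451046
theorem F499745 : act 7 n219626 = n204484 := d11_2 F499709 D219626 (iv4 F499705)
def n219627 : Q := act 3 n191864
theorem D219627 : act 3 n191864 = n219627 := rfl
def n219628 : Q := act 5 n191864
theorem D219628 : act 5 n191864 = n219628 := rfl
theorem F499746 : act 2 n219628 = n191867 := d2_1 D219628 (iv5 D191867) (iv2 F384612)
theorem F499747 : act 4 n219628 = n216821 := d9_1 D219628 (iv5 D216821) (iv4 D185638) (iv5 D88430) (iv4 F65098) (iv5 F294040) D186653 D217021 F487021 F382541 (iv4 D191191) (iv5 F291953) (iv4 F292624) F152561 D191864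
theorem F499748 : act 6 n219628 = n209143 := d12_2 (iv6 F418381) D219628 (iv5 D209143) F364259 D200913
theorem F499749 : act 7 n219628 = n219268 := d13_2 F487010 D219628 (iv5 F498029)
theorem F499750 : act 0 n219628 = n219612 := d17_2 F447009 D219628 (iv5 D219612) (iv4 F384567) F375815 (iv0 F367113) (iv5 F383089) (iv0 F383090) (iv4 F447007)
theorem F499751 : act 1 n219628 = n219610 := d17_6 F135324 (iv5 D88362) D88361 F152561 D191864 D219628 (iv5 D219610) (iv0 D191837) (iv4 D98991)
def n219629 : Q := act 3 n191866
theorem D219629 : act 3 n191866 = n219629 := rfl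
theorem F499752 : act 4 n219629 = n214408 := d5_2 F384614 D219629 F475039 (iv4 D186444) (iv3 F289241)
theorem F499753 : act 6 n219629 = n206588 := d7_2 F403371 D219629 F441449
theorem F499754 : act 0 n209624 = n219629 := d20_4 F446124 (iv1 F218656) D136692 D209624 (iv3 D219629) (iv4 F384614) F381222 (iv4 F454313) (iv3 D209605) (iv1 F446127)
def n219630 : Q := act 0 n191867
theorem D219630 : act 0 n191867 = n219630 := rfl
theorem F499755 : act 5 n219630 = n217011 := d17_1 D219630 (iv1 F486979) D219601 F499629 (iv5 D217499) D217498 (iv5 F498032) F498030 F395289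
theorem F499756 : act 1 n219268 = n219630 := d15_0 (iv0 D219630) (iv7 F487020) (iv2 F498027)
theorem F499757 : act 2 n219612 = n219630 := d2_3 F499755 (iv2 F486986) D219612
theorem F499758 : act 7 n219610 = n219630 := d13_0 F499755 F486987 D219610
def n219631 : Q := act 1 n191867
theorem D219631 : act 1 n191867 = n219631 := rfl
theorem F499759 : act 1 n219631 = n219268 := d15_1 D219631 (iv7 F499749) F499746
theorem F499760 : act 7 n219631 = n219612 := d15_2 (iv0 D219630) D219631 F499757
theorem F499761 : act 5 n219631 = n217012 := d17_7 F287737 (iv5 D185476) F293093 (iv5 F293094) D99026 D191867 D219631 F486980 (iv4 D191832)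
theorem F499762 : act 2 n219610 = n219631 := d2_3 F499761 (iv2 F486982) D219610
def n219632 : Q := act 4 n191873
theorem D219632 : act 4 n191873 = n219632 := rfl
theorem F499763 : act 2 n219632 = n194167 := d1_1 D219632 F434899 F434897
theorem F499764 : act 6 n219632 = n214674 := d10_2 (iv6 F384631) D219632 (iv4 D214674)
theorem F499765 : act 5 n219632 = n194163 := d16_3 D99038 D191873 D219632 (iv4 D194163) (iv5 D102862) (iv4 F138766) (iv5 F367544) F367545 (iv2 D99037)
theorem F499766 : act 0 n219632 = n211975 := d17_0 (iv5 D211975) F376738 D186399 D216937 F486610 F486487 (iv5 F495928) (iv0 F495929) D219632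
theorem F499767 : act 1 n219632 = n216934 := d18_8 (iv1 F377648) (iv4 D189759) (iv1 F292460) (iv4 F359561) D211497 (iv4 F495927) (iv0 F495929) D219632 (iv5 D216934)
def n219633 : Q := act 7 n191874
theorem D219633 : act 7 n191874 = n219633 := rfl
theorem F499768 : act 4 n219633 = n191877 := d11_1 D219633 (iv7 D191877) (iv4 F384629)
theorem F499769 : act 5 n219633 = n212467 := d13_1 D219633 F465935 F384630
theorem F499770 : act 1 n213792 = n219633 := d15_1 (iv0 F472113) (iv7 D219633) (iv2 F412306)
theorem F499771 : act 1 n219633 = n218013 := d15_1 F499770 F491696 (iv2 F472108)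
def n219634 : Q := act 3 n191876
theorem D219634 : act 3 n191876 = n219634 := rfl
theorem F499772 : act 4 n219634 = n191992 := d5_2 F412042 D219634 F410392 F410388 F409238
theorem F499773 : act 6 n219634 = n191991 := d7_2 F471809 D219634 (iv3 F471808)
theorem F499774 : act 0 n219634 = n216160 := d20_4 F491681 F412040 F412042 D219634 F483239 (iv4 F425312) F425313 (iv4 D188304) D188303 D218011
theorem F499775 : act 0 n211589 = n219634 := d20_4 F224228 (iv1 F181558) D143247 D211589 (iv3 D219634) (iv4 F412042) (iv1 D111571) D111572 F173111 D141202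
def n219635 : Q := act 6 n191878
theorem D219635 : act 6 n191878 = n219635 := rfl
theorem F499776 : act 4 n219635 = n198207 := d10_1 D219635 (iv6 D198207) F384651
theorem F499777 : act 7 n219635 = n192736 := d14_2 F487025 D219635 (iv6 D192736) F385008 (iv6 F487028)
theorem F499778 : act 0 n219635 = n192759 := d21_4 (iv5 D99046) D99044 D191878 D219635 (iv6 D192759) F350412 (iv1 D110880) D110882 F384647 (iv1 D191883)
theorem F499779 : act 0 n217285 = n219635 := d21_4 F366787 F378936 D218812 F495765 (iv6 D219635) (iv5 D191878) (iv1 F367574) F367570 (iv6 F384994) (iv1 F384996)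
def n219636 : Q := act 7 n191884
theorem D219636 : act 7 n191884 = n219636 := rfl
theorem F499780 : act 2 n219636 = n192703 := d4_1 D219636 (iv7 D192703) (iv2 F384652)
theorem F499781 : act 3 n219636 = n198089 := d8_1 D219636 F406746 (iv3 F384653)
theorem F499782 : act 4 n219636 = n191885 := d11_1 D219636 (iv7 D191885) D191884
theorem F499783 : act 5 n219636 = n198088 := d13_1 D219636 F406741 (iv5 F384655)
theorem F499784 : act 6 n219636 = n192721 := d14_1 D219636 (iv7 D192721) (iv6 D100556) (iv7 F153042) (iv6 F384654)
theorem F499785 : act 1 n192701 = n219636 := d15_1 D192701 (iv7 D219636) F384652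
theorem F499786 : act 1 n219636 = n192700 := d15_1 F499785 (iv7 F387526) F387531
def n219637 : Q := act 5 n191892
theorem D219637 : act 5 n191892 = n219637 := rfl
theorem F499787 : act 2 n219637 = n192587 := d2_1 D219637 (iv5 D192587) F384695
theorem F499788 : act 3 n219637 = n213296 := d6_1 D219637 (iv5 D213296) (iv3 F384696)
theorem F499789 : act 7 n219637 = n204092 := d13_2 F384699 D219637 (iv5 D204092)
theorem F499790 : act 0 n219637 = n204265 := d17_2 D191892 D219637 (iv5 D204265) (iv4 D123278) D123279 (iv0 F384715) (iv5 D191895) (iv0 D99291) (iv4 F152876)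
theorem F499791 : act 1 n219637 = n204785 := d17_6 (iv1 F384316) (iv5 F462568) F462569 F462291 F430731 D219637 (iv5 D204785) F351780 (iv4 F277319)
def n219638 : Q := act 4 n191899
theorem D219638 : act 4 n191899 = n219638 := rfl
theorem F499792 : act 2 n219638 = n210566 := d1_1 D219638 F458061 (iv2 F384737)
theorem F499793 : act 7 n219638 = n192355 := d11_2 (iv7 F384739) D219638 (iv4 D192355)
theorem F499794 : act 5 n219638 = n195355 := d16_1 D219638 F396813 F366289 F424838 F424837 (iv4 D192349) D192350 F386540 (iv2 F384737)
theorem F499795 : act 0 n219638 = n204338 := d17_0 F432102 F460901 F460900 F384818 (iv5 F384819) F333736 D154120 (iv0 F384740) D219638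
theorem F499796 : act 1 n219638 = n204334 := d18_6 F335228 F335225 F248072 (iv4 F311804) D191899 D219638 (iv4 D204334) (iv0 F430765) (iv5 D203996)
theorem F499797 : act 6 n195356 = n219638 := d21_9 F432102 F460901 F460900 (iv6 D156271) D156268 F427534 (iv5 D144449) F162069 D195356 F499795
def n219639 : Q := act 6 n191899
theorem D219639 : act 6 n191899 = n219639 := rfl
theorem F499798 : act 2 n219639 = n210570 := d3_1 D219639 F458076 (iv2 F384737)
theorem F499799 : act 3 n219639 = n191903 := d7_1 D219639 (iv6 D191903) (iv3 F384738)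
theorem F499800 : act 4 n219639 = n195356 := d10_1 D219639 F499797 (iv4 D219638)
theorem F499801 : act 5 n219639 = n217008 := d12_1 D219639 (iv6 D217008) (iv5 F384744) (iv6 D191900) D191899
def n219640 : Q := act 3 n191902
theorem D219640 : act 3 n191902 = n219640 := rfl
theorem F499802 : act 6 n219640 = n208556 := d7_2 F493488 D219640 F493491
theorem F499803 : act 7 n219640 = n192366 := d8_2 (iv7 F384767) D219640 (iv3 D192366)
def n219641 : Q := act 5 n191905
theorem D219641 : act 5 n191905 = n219641 := rfl
theorem F499804 : act 2 n219641 = n191907 := d2_1 D219641 (iv5 D191907) D191905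
theorem F499805 : act 3 n219641 = n192350 := d6_1 D219641 (iv5 D192350) (iv3 F384780)
theorem F499806 : act 7 n219641 = n192329 := d13_2 (iv7 F384781) D219641 (iv5 D192329)
theorem F499807 : act 0 n219641 = n192331 := d17_2 (iv1 F384782) D219641 F386458 F342349 (iv5 D159284) F250698 F345829 (iv0 F345833) (iv4 F351958)
theorem F499808 : act 1 n219641 = n192330 := d17_6 F333739 D173245 F409446 F409445 F388774 D219641 F386456 F345806 (iv4 F333750)
theorem F499809 : act 6 n219641 = n215938 := d21_3 (iv5 D192327) (iv1 F384782) D219641 (iv1 D215938) (iv6 D178811) (iv5 F274187) (iv1 F274189) (iv5 F320429) F342227 (iv1 F390082)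
def n219642 : Q := act 5 n191908
theorem D219642 : act 5 n191908 = n219642 := rfl
theorem F499810 : act 2 n219642 = n219447 := d2_1 D219642 F498918 F468582
theorem F499811 : act 3 n219642 = n191911 := d6_1 D219642 (iv5 D191911) (iv3 F384790)
theorem F499812 : act 7 n219642 = n208935 := d13_2 (iv7 F384791) D219642 (iv5 D208935)
theorem F499813 : act 0 n219642 = n215759 := d17_2 (iv1 F468578) D219642 (iv5 D215759) F277181 (iv5 F438105) F451455 F451453 F239228 (iv4 F468573)
theorem F499814 : act 1 n219642 = n194100 := d17_6 (iv1 D119282) D119283 D203493 (iv5 F445004) F445003 D219642 F392055 (iv0 F331891) (iv4 F310882)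
theorem F499815 : act 4 n219642 = n213473 := d18_5 F388324 (iv4 F428488) F445006 F445003 D219642 (iv0 D213473) (iv4 D153817) D153816 (iv5 F366444)
def n219643 : Q := act 1 n191915
theorem D219643 : act 1 n191915 = n219643 := rfl
theorem F499816 : act 1 n219643 = n192415 := d15_1 D219643 F386682 (iv2 F384822)
theorem F499817 : act 7 n219643 = n192425 := d15_2 (iv0 F384824) D219643 (iv2 F386708)
theorem F499818 : act 4 n219643 = n212268 := d18_7 (iv1 D99516) (iv4 F75090) F157768 (iv4 F73296) D99316 D191915 D219643 F465054 F349225
theorem F499819 : act 2 n192424 = n219643 := d1_3 F499818 (iv2 D212268) (iv4 F386702)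
theorem F499820 : act 3 n212049 = n219643 := d20_5 F358512 F340553 (iv4 F414234) (iv3 F454066) (iv1 F464131) F499818 (iv1 F465055) D212918 F468113 F392831
def n219644 : Q := act 3 n191915
theorem D219644 : act 3 n191915 = n219644 := rfl
theorem F499821 : act 4 n219644 = n191916 := d5_2 D191915 D219644 (iv3 D191916) (iv4 D99317) (iv3 F152920)
theorem F499822 : act 6 n219644 = n209319 := d7_2 F499340 D219644 (iv3 F499339)
theorem F499823 : act 7 n219644 = n192426 := d8_2 (iv7 F384823) D219644 (iv3 D192426)
theorem F499824 : act 0 n219644 = n197398 := d20_4 (iv4 D219616) F384578 D191915 D219644 F404138 (iv4 D194321) (iv1 F379151) (iv4 F383081) (iv3 F388057) (iv1 F499697)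
theorem F499825 : act 0 n213700 = n219644 := d20_4 (iv4 D209650) (iv1 F396878) F396879 (iv3 F471697) (iv3 D219644) (iv4 D191915) (iv1 F369475) D217335 F488495 (iv1 F454496)
def n219645 : Q := act 5 n191915
theorem D219645 : act 5 n191915 = n219645 := rfl
theorem F499826 : act 2 n219645 = n212055 := d2_1 D219645 F464155 (iv2 F384822)
theorem F499827 : act 7 n219645 = n192427 := d13_2 (iv7 F384823) D219645 (iv5 D192427)
theorem F499828 : act 0 n219645 = n206369 := d17_2 (iv1 D219643) D219645 F440459 F427347 F349994 (iv0 F158453) F349218 F465055 (iv4 F499818)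
theorem F499829 : act 1 n219645 = n212056 := d17_6 (iv1 F154145) (iv5 D87877) (iv1 F73864) D99316 D191915 D219645 F464157 (iv0 F386761) (iv4 D192470)
def n219646 : Q := act 5 n191917
theorem D219646 : act 5 n191917 = n219646 := rfl
theorem F499830 : act 2 n219646 = n216533 := d2_1 D219646 (iv5 D216533) (iv2 F384827)
theorem F499831 : act 6 n219646 = n203254 := d12_2 (iv6 F464797) D219646 F464784 F396823 D212218
theorem F499832 : act 7 n219646 = n192474 := d13_2 (iv7 F384828) D219646 (iv5 D192474)
theorem F499833 : act 0 n219646 = n212814 := d17_2 F385219 D219646 F467603 F386702 D212269 F465061 (iv5 D210714) F365067 D192017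
def n219647 : Q := act 0 n191918
theorem D219647 : act 0 n191918 = n219647 := rfl
theorem F499834 : act 3 n219647 = n194704 := d20_5 D192927 F391231 F155592 (iv3 F384830) D219647 (iv4 F434843) F436450 F436448 F346648 (iv1 F346651)
theorem F499835 : act 6 n219647 = n210276 := d21_5 F367461 F367460 (iv5 F152925) D191918 D219647 (iv5 D210276) F380810 F380809 (iv6 D184250) (iv1 F154124)
theorem F499836 : act 5 n219647 = n205936 := d21_8 (iv5 D137820) (iv1 D64768) (iv5 D30463) D30464 (iv1 F328974) D102487 (iv5 F384831) D219647 (iv6 D205936) F360520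
theorem F499837 : act 2 n205939 = n219647 := d2_3 F499836 F438491 D205939
theorem F499838 : act 7 n216535 = n219647 := d15_2 (iv0 F438497) D216535 (iv2 F499837)
def n219648 : Q := act 1 n191918
theorem D219648 : act 1 n191918 = n219648 := rfl
theorem F499839 : act 1 n219648 = n216536 := d15_1 D219648 (iv7 D216536) (iv2 F384829)
theorem F499840 : act 7 n219648 = n205939 := d15_2 (iv0 D219647) D219648 F499837
theorem F499841 : act 3 n198686 = n219648 := d20_3 D137222 D209980 F455609 (iv1 D219648) F384830 (iv4 F155592) (iv1 F391234) (iv4 D137188) F100422 D64496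
theorem F499842 : act 5 n198685 = n219648 := d21_6 (iv5 D99947) (iv1 F153667) D192166 F473101 (iv1 D209844) (iv6 F408864) (iv1 D219648) F384831 (iv6 D102487) (iv1 F159759)
theorem F499843 : act 2 n219648 = n216535 := d0_1 F499841 (iv3 F484846) (iv2 F424283) F424280 (iv2 F408866)
theorem F499844 : act 1 n216536 = n219647 := d15_1 F499839 (iv7 F499838) (iv2 F499843)
def n219649 : Q := act 7 n191918
theorem D219649 : act 7 n191918 = n219649 := rfl
theorem F499845 : act 2 n219649 = n216536 := d4_1 D219649 (iv7 D216536) (iv2 F384829)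
theorem F499846 : act 3 n219649 = n191921 := d8_1 D219649 (iv7 D191921) (iv3 F384830)
theorem F499847 : act 5 n219649 = n193934 := d13_1 D219649 (iv7 D193934) (iv5 F384831)
theorem F499848 : act 6 n219649 = n192478 := d14_1 D219649 (iv7 D192478) (iv6 D100201) (iv7 F152926) D191918
theorem F499849 : act 1 n216535 = n219649 := d15_1 D216535 (iv7 D219649) F384829
theorem F499850 : act 1 n219649 = n205939 := d15_1 F499849 (iv7 F499840) F499843
def n219650 : Q := act 6 n191922
theorem D219650 : act 6 n191922 = n219650 := rfl
theorem F499851 : act 2 n219650 = n191924 := d3_1 D219650 (iv6 D191924) D191922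
theorem F499852 : act 3 n219650 = n192471 := d7_1 D219650 (iv6 D192471) (iv3 F384839)
theorem F499853 : act 5 n219650 = n216900 := d12_1 D219650 (iv6 D216900) (iv5 D186287) (iv6 F154388) (iv5 F384840)
def n219651 : Q := act 5 n191923
theorem D219651 : act 5 n191923 = n219651 := rfl
theorem F499854 : act 7 n219651 = n192449 := d13_2 (iv7 F384844) D219651 (iv5 D192449)
theorem F499855 : act 0 n219651 = n210882 := d17_2 F384846 D219651 F459135 F245103 F362388 F368125 (iv5 F375950) (iv0 D189174) D189175
theorem F499856 : act 1 n219651 = n218379 := d17_6 (iv1 F372275) (iv5 F362390) (iv1 D100376) (iv5 F292909) D191923 D219651 (iv5 D218379) F472484 F472480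
def n219652 : Q := act 0 n191924
theorem D219652 : act 0 n191924 = n219652 := rfl
theorem F499857 : act 3 n219652 = n217286 := d20_5 D189070 F375631 F155598 (iv3 F384847) D219652 (iv4 D217286) F369187 D187739 (iv3 F374458) (iv1 F374462)
theorem F499858 : act 5 n219597 = n219652 := d6_0 F499857 F488285 (iv3 F499620)
def n219653 : Q := act 7 n191924
theorem D219653 : act 7 n191924 = n219653 := rfl
theorem F499859 : act 3 n219653 = n191926 := d8_1 D219653 (iv7 D191926) (iv3 F384847)
theorem F499860 : act 5 n219653 = n216909 := d13_1 D219653 (iv7 D216909) (iv5 F384848)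
theorem F499861 : act 6 n219653 = n192453 := d14_1 D219653 (iv7 D192453) (iv6 D100192) (iv7 F152932) D191924
def n219654 : Q := act 6 n191927
theorem D219654 : act 6 n191927 = n219654 := rfl
theorem F499862 : act 2 n219654 = n216553 := d3_1 D219654 (iv6 D216553) (iv2 F384868)
theorem F499863 : act 3 n219654 = n210161 := d7_1 D219654 (iv6 F485255) F485254
theorem F499864 : act 4 n219654 = n191928 := d10_1 D219654 (iv6 D191928) D191927
theorem F499865 : act 5 n219654 = n219554 := d12_1 D219654 F499422 (iv5 D216627) D216628 F485245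
theorem F499866 : act 7 n219654 = n210158 := d14_2 (iv7 F384869) D219654 (iv6 D210158) (iv7 F385886) (iv6 F385890)
theorem F499867 : act 0 n211679 = n219654 := d20_10 F499864 F462446 (iv4 D211629) D211628 F462457 F433681 (iv4 F481734) F481737 F462678 (iv3 F462658)
def n219655 : Q := act 7 n191928
theorem D219655 : act 7 n191928 = n219655 := rfl
theorem F499868 : act 2 n219655 = n216556 := d4_1 D219655 (iv7 D216556) (iv2 F384870)
theorem F499869 : act 3 n219655 = n191933 := d8_1 D219655 (iv7 D191933) (iv3 F384871)
theorem F499870 : act 4 n219655 = n210158 := d11_1 D219655 (iv7 F499866) F499864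
theorem F499871 : act 6 n219655 = n192494 := d14_1 D219655 (iv7 D192494) (iv6 D100237) (iv7 F152955) D191928
theorem F499872 : act 1 n216555 = n219655 := d15_1 D216555 (iv7 D219655) F384870
theorem F499873 : act 1 n219655 = n216554 := d15_1 F499872 (iv7 F484919) (iv2 F484923)
theorem F499874 : act 3 n217875 = n211624 := d20_5 D192522 F388182 F372299 (iv3 F372289) D217875 (iv4 F462433) F456406 (iv4 F499870) F499869 (iv1 F384884)
def n219656 : Q := act 3 n191932
theorem D219656 : act 3 n191932 = n219656 := rfl
theorem F499875 : act 2 n219656 = n192875 := d0_1 D219656 (iv3 F498849) (iv2 F498851) (iv3 D192521) (iv2 F384880)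
theorem F499876 : act 4 n219656 = n214820 := d5_2 F386717 D219656 F476990 F464554 (iv3 F386716)
theorem F499877 : act 5 n219656 = n217151 := d6_2 F384879 D219656 F487680
theorem F499878 : act 6 n219656 = n192851 := d7_2 F384878 D219656 (iv3 F388023)
theorem F499879 : act 7 n219656 = n192517 := d8_2 F384887 D219656 (iv3 D192517)
theorem F499880 : act 0 n219656 = n192837 := d19_4 (iv1 F463490) F463488 F386717 D219656 (iv5 F487928) F487927 F486322 (iv1 D204647) (iv5 D124158) (iv4 F198614) F371923 (iv1 F400666) F400668 F165724 (iv3 F101613) F165728 D144359 (iv4 F405670) F405669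
theorem F499881 : act 0 n192877 = n219656 := d20_4 F397127 F453189 (iv4 F460808) F460807 (iv3 D219656) (iv4 F386717) (iv1 D192438) F154129 (iv3 F154125) D192429
def n219657 : Q := act 3 n191934
theorem D219657 : act 3 n191934 = n219657 := rfl
theorem F499882 : act 2 n219657 = n199720 := d0_1 D219657 F413242 F173199 F345427 (iv2 F384889)
theorem F499883 : act 4 n219657 = n206916 := d5_2 D191934 D219657 (iv3 D206916) F362693 (iv3 F153003)
theorem F499884 : act 5 n219657 = n194343 := d6_2 (iv5 F384891) D219657 (iv3 F392888)
theorem F499885 : act 6 n219657 = n199459 := d7_2 (iv6 F384894) D219657 F412286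
theorem F499886 : act 7 n219657 = n202472 := d8_2 (iv7 F384890) D219657 (iv3 D202472)
theorem F499887 : act 0 n211012 = n219657 := d21_4 (iv5 F405845) F420021 (iv5 F453377) (iv6 F459748) F499885 F412284 (iv1 F409171) (iv5 F410542) F482650 (iv1 D216045)
def n219658 : Q := act 5 n191941
theorem D219658 : act 5 n191941 = n219658 := rfl
theorem F499888 : act 2 n219658 = n191942 := d2_1 D219658 (iv5 D191942) D191941
theorem F499889 : act 3 n219658 = n192631 := d6_1 D219658 (iv5 D192631) (iv3 F384925)
theorem F499890 : act 4 n219658 = n204196 := d9_1 D219658 F431440 (iv4 D203805) (iv5 D120661) (iv4 F108422) (iv5 F332301) (iv4 D100490) D100491 D192657 F387380 (iv4 F377615) F214510 F327798 (iv5 F332313) (iv4 F384926)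
theorem F499891 : act 7 n219658 = n192651 := d13_2 (iv7 F384927) D219658 (iv5 D192651)
theorem F499892 : act 0 n219658 = n192656 := d17_2 (iv1 F384928) D219658 F387379 (iv4 F357812) F357813 (iv0 F326287) F332324 (iv0 F342607) F235328
theorem F499893 : act 1 n219658 = n192655 := d17_6 (iv1 D38204) D38205 D83014 (iv5 F332313) (iv4 F384926) D219658 F387377 F313366 (iv4 D83011)
def n219659 : Q := act 6 n191941
theorem D219659 : act 6 n191941 = n219659 := rfl
theorem F499894 : act 2 n219659 = n191943 := d3_1 D219659 (iv6 D191943) D191941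
theorem F499895 : act 3 n219659 = n192632 := d7_1 D219659 (iv6 D192632) (iv3 F384925)
theorem F499896 : act 4 n219659 = n197075 := d10_1 D219659 F402929 (iv4 F384926)
theorem F499897 : act 7 n219659 = n208940 := d14_2 (iv7 F384927) D219659 (iv6 D208940) F387363 (iv6 D192652)
theorem F499898 : act 0 n219659 = n192304 := d21_4 (iv5 F387377) (iv1 F499893) (iv5 D219658) D219659 (iv6 D192304) D192303 (iv1 F479529) (iv5 D215354) (iv6 D173515) (iv1 F313366)
theorem F499899 : act 5 n219659 = n206977 := d21_6 F34498 D22377 D46667 D99911 (iv1 F384928) D219659 (iv1 D206977) (iv5 F344996) (iv6 D98291) F72567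
theorem F499900 : act 0 n219471 = n219659 := d21_4 D98465 D191499 (iv5 F444454) (iv6 F499044) (iv6 D219659) D219658 F499892 F387379 F363618 (iv1 D98464)
def n219660 : Q := act 6 n191942
theorem D219660 : act 6 n191942 = n219660 := rfl
theorem F499901 : act 3 n219660 = n191946 := d7_1 D219660 (iv6 D191946) (iv3 F384930)
theorem F499902 : act 5 n219660 = n217042 := d12_1 D219660 (iv6 D217042) (iv5 F384934) (iv6 D191943) D191942
theorem F499903 : act 0 n216355 = n219660 := d21_4 (iv5 F422368) F422369 D202225 (iv6 F483980) (iv6 D219660) (iv5 D191942) D191940 (iv5 F433067) (iv6 F452207) (iv1 D209090)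
def n219661 : Q := act 4 n191944
theorem D219661 : act 4 n191944 = n219661 := rfl
theorem F499904 : act 2 n219661 = n192642 := d1_1 D219661 (iv4 D192642) F384937
theorem F499905 : act 3 n219661 = n193381 := d5_1 D219661 (iv4 D193381) D193380 F389650 F384940
theorem F499906 : act 5 n219661 = n214085 := d9_2 (iv5 F384936) D219661 (iv4 F476776) (iv5 D214773) (iv4 D161589) (iv5 D77612) (iv4 F116503) D161574 (iv4 F434272) (iv5 D204941) F312826 (iv5 F441582) F441581 (iv5 D173578) (iv4 F310386)
theorem F499907 : act 6 n219661 = n194592 := d10_2 (iv6 F469026) D219661 (iv4 F469022)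
theorem F499908 : act 7 n219661 = n192644 := d11_2 (iv7 F384939) D219661 (iv4 D192644)
theorem F499909 : act 0 n219661 = n192009 := d17_0 F385186 (iv1 F358690) F333015 (iv4 D99371) (iv5 D46464) D46463 D99368 F384938 D219661
theorem F499910 : act 1 n219661 = n192006 := d18_6 (iv1 F311760) F310376 (iv1 F309547) (iv4 F310386) (iv5 F384936) D219661 (iv4 D192006) F332206 (iv5 D154173)
def n219662 : Q := act 0 n191949
theorem D219662 : act 0 n191949 = n219662 := rfl
theorem F499911 : act 4 n219662 = n198314 := d18_1 D219662 (iv1 D198314) (iv4 F388613) (iv5 F388615) D217223 (iv0 F488010) F369256 D187157 (iv5 F384958)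
theorem F499912 : act 5 n219662 = n219526 := d21_2 (iv5 F384958) D219662 (iv6 D219526) D219524 (iv6 F499275) F487325 (iv1 F486852) F486849 (iv6 F486324) (iv1 F486325)
theorem F499913 : act 6 n219662 = n191962 := d21_5 F312631 D124065 F310427 D191949 D219662 (iv5 F385016) (iv1 D191568) (iv5 F154544) (iv6 D100481) D100478
theorem F499914 : act 2 n192672 = n219662 := d15_3 (iv0 D219662) F451816 F433112
theorem F499915 : act 3 n219662 = n217934 := d0_2 (iv3 F431567) F499914 F491328 (iv3 D204641) F431564
theorem F499916 : act 7 n192673 = n219662 := d15_2 (iv0 D192672) D192673 (iv2 F499914)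
theorem F499917 : act 2 n204645 = n192673 := d4_3 F499916 (iv2 F499914) (iv7 F433112)
theorem F499918 : act 1 n192675 = n219662 := d15_1 (iv0 F451815) (iv7 F499916) (iv2 F499917)
def n219663 : Q := act 7 n191949
theorem D219663 : act 7 n191949 = n219663 := rfl
theorem F499919 : act 2 n219663 = n192675 := d4_1 D219663 (iv7 D192675) (iv2 F384957)
theorem F499920 : act 5 n219663 = n216871 := d13_1 D219663 F486319 (iv5 F384958)
theorem F499921 : act 6 n219663 = n192680 := d14_1 D219663 (iv7 D192680) (iv6 D100510) (iv7 F272730) D191949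
theorem F499922 : act 1 n192673 = n219663 := d15_1 D192673 (iv7 D219663) F384957
theorem F499923 : act 1 n219663 = n192672 := d15_1 F499922 (iv7 F433112) F499917
def n219664 : Q := act 6 n191950
theorem D219664 : act 6 n191950 = n219664 := rfl
theorem F499924 : act 2 n219664 = n192682 := d3_1 D219664 (iv6 D192682) F384960
theorem F499925 : act 4 n219664 = n192011 := d10_1 D219664 (iv6 D192011) (iv4 F384959)
theorem F499926 : act 7 n219664 = n198312 := d14_2 F384961 D219664 (iv6 D198312) F387467 (iv6 D192685)
theorem F499927 : act 0 n219664 = n198314 := d21_4 (iv5 F387332) (iv1 F389365) (iv5 F389348) D219664 (iv6 F407576) (iv5 D157924) (iv1 D75230) D75232 (iv6 F345257) (iv1 F387330)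
theorem F499928 : act 0 n198313 = n219664 := d21_4 D194688 F394096 (iv5 F461514) (iv6 F469606) (iv6 D219664) F389348 (iv1 F434266) (iv5 F434267) (iv6 F411223) (iv1 D194687)
def n219665 : Q := act 5 n191960
theorem D219665 : act 5 n191960 = n219665 := rfl
theorem F499929 : act 2 n219665 = n192735 := d2_1 D219665 (iv5 D192735) (iv2 F385007)
theorem F499930 : act 3 n219665 = n211231 := d6_1 D219665 (iv5 F460720) F413529
theorem F499931 : act 4 n219665 = n216727 := d9_1 D219665 F485651 (iv4 D206373) (iv5 D128510) (iv4 F206508) (iv5 F393776) F393777 (iv5 F475204) (iv4 D214443) (iv5 D159426) F114304 (iv5 F94468) (iv4 F205289) (iv5 F241639) F385004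
theorem F499932 : act 6 n219665 = n215867 := d12_2 F413523 D219665 F481859 F416303 (iv5 F413522)
theorem F499933 : act 7 n219665 = n192732 := d13_2 (iv7 F385005) D219665 (iv5 D192732)
theorem F499934 : act 0 n219665 = n209783 := d17_2 (iv1 F385003) D219665 (iv5 F457864) (iv4 F490288) F490289 F463391 F463387 F388655 F387611
theorem F499935 : act 1 n219665 = n209786 := d17_6 (iv1 F480035) (iv5 D215445) F347868 (iv5 F241639) F385004 D219665 F469032 F469030 (iv4 F470422)
def n219666 : Q := act 5 n191966
theorem D219666 : act 5 n191966 = n219666 := rfl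
theorem F499936 : act 2 n219666 = n213271 := d2_1 D219666 F469652 (iv2 F427601)
theorem F499937 : act 3 n219666 = n196318 := d6_1 D219666 F440360 F440356
theorem F499938 : act 4 n219666 = n193004 := d9_1 D219666 (iv5 D193004) (iv4 D101088) (iv5 D47091) (iv4 F143903) D99428 F363682 D206359 F440406 (iv5 D193012) (iv4 D101097) (iv5 D47096) (iv4 F153158) D99431 D191966
theorem F499939 : act 6 n219666 = n219244 := d12_2 F427610 D219666 (iv5 D219244) F381798 D191003
theorem F499940 : act 7 n219666 = n196310 := d13_2 F440400 D219666 F440402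
theorem F499941 : act 0 n219666 = n192982 := d17_2 (iv1 F440391) D219666 (iv5 D192982) (iv4 D101059) (iv5 D47080) D47079 D101055 F386287 (iv4 F440390)
theorem F499942 : act 1 n219666 = n193045 := d17_6 (iv1 F375605) F375603 (iv1 F153156) D99431 D191966 D219666 F458311 (iv0 F458310) (iv4 D191968)
def n219667 : Q := act 5 n191968
theorem D219667 : act 5 n191968 = n219667 := rfl
theorem F499943 : act 2 n219667 = n215245 := d2_1 D219667 F479019 F455649
theorem F499944 : act 3 n219667 = n196925 := d6_1 D219667 (iv5 D196925) (iv3 F385031)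
theorem F499945 : act 6 n219667 = n215243 := d12_2 F452919 D219667 (iv5 D215243) (iv6 F408576) (iv5 F452918)
theorem F499946 : act 7 n219667 = n193090 := d13_2 (iv7 F385032) D219667 (iv5 F388721)
theorem F499947 : act 4 n219667 = n193027 := d16_2 D191968 D219667 (iv5 D193027) (iv4 D101110) D101111 F349306 F349310 F344244 F344243
theorem F499948 : act 1 n219667 = n206922 := d17_6 (iv1 D186949) (iv5 D89412) D89410 (iv5 F344241) D191968 D219667 F442619 F440401 F440399
def n219668 : Q := act 3 n191969
theorem D219668 : act 3 n191969 = n219668 := rfl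
theorem F499949 : act 2 n219668 = n196923 := d0_1 D219668 (iv3 D196923) F322056 D127983 (iv2 F385034)
theorem F499950 : act 4 n219668 = n196523 := d5_2 D191969 D219668 (iv3 F493577) (iv4 D218375) (iv3 F375954)
theorem F499951 : act 7 n219668 = n206344 := d8_2 (iv7 F455652) D219668 (iv3 F455650)
theorem F499952 : act 0 n219668 = n206343 := d19_4 (iv1 F357621) F349310 D191969 D219668 (iv5 F449866) F449865 F482914 (iv1 D216094) (iv5 D180499) (iv4 F345203) (iv3 D103984) (iv1 F294320) F294321 (iv4 D48106) (iv3 F75579) D103903 (iv5 F373445) (iv4 F374418) F374417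
theorem F499953 : act 0 n206342 = n219668 := d20_4 (iv4 F436701) (iv1 F242847) (iv4 F371646) (iv3 F440338) (iv3 D219668) (iv4 D191969) (iv1 D99434) D99435 F359362 (iv1 F436703)
theorem F499954 : act 5 n219668 = n208579 := d17_3 F371626 (iv5 F440337) F499953 (iv4 D208579) (iv5 F409206) F409207 (iv5 D187914) (iv0 F360600) (iv4 F216743)
theorem F499955 : act 6 n219668 = n210127 := d21_5 (iv5 F172163) (iv1 F398750) (iv5 F228395) (iv6 F440339) F499953 (iv5 F458576) (iv1 F458580) F409153 (iv6 D196806) F220502
def n219669 : Q := act 5 n191969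
theorem D219669 : act 5 n191969 = n219669 := rfl
theorem F499956 : act 2 n219669 = n193090 := d2_1 D219669 (iv5 F388721) (iv2 F385034)
theorem F499957 : act 3 n219669 = n208579 := d6_1 D219669 (iv5 F499954) (iv3 D219668)
theorem F499958 : act 4 n219669 = n193020 := d9_1 D219669 (iv5 D193020) (iv4 D101105) D101106 (iv4 F344245) (iv5 F344241) D191968 D219667 F499947 (iv5 D193027) (iv4 D101110) D101111 F349306 F349310 D191969
theorem F499959 : act 7 n219669 = n215245 := d13_2 (iv7 F455652) D219669 F479019
theorem F499960 : act 0 n219669 = n206922 := d17_2 (iv1 F458313) D219669 F442619 (iv4 D194401) (iv5 D103335) D103333 F343899 F338297 (iv4 F458309)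
theorem F499961 : act 6 n219669 = n193087 := d21_3 F458311 (iv1 F458313) D219669 F420146 D193097 (iv5 F388739) (iv1 F216749) D196305 F440408 (iv1 F440409)
def n219670 : Q := act 6 n191969
theorem D219670 : act 6 n191969 = n219670 := rfl
theorem F499962 : act 2 n219670 = n206256 := d3_1 D219670 F439949 (iv2 F385034)
theorem F499963 : act 3 n219670 = n210127 := d7_1 D219670 (iv6 F499955) (iv3 D219668)
theorem F499964 : act 4 n219670 = n191970 := d10_1 D219670 (iv6 D191970) D191969
theorem F499965 : act 5 n219670 = n217761 := d12_1 D219670 (iv6 D217761) (iv5 F420148) (iv6 F499961) (iv5 D219669)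
def n219671 : Q := act 6 n191972
theorem D219671 : act 6 n191972 = n219671 := rfl
theorem F499966 : act 2 n219671 = n208323 := d3_1 D219671 (iv6 F448914) (iv2 F385040)
theorem F499967 : act 3 n219671 = n197536 := d7_1 D219671 (iv6 F404719) F398534
theorem F499968 : act 4 n219671 = n208319 := d10_1 D219671 F448900 (iv4 F385041)
theorem F499969 : act 5 n219671 = n197535 := d12_1 D219671 (iv6 F459326) F459329 F331765 D191972
theorem F499970 : act 0 n208635 = n219671 := d17_2 F403095 D208635 F499969 F434431 (iv5 F434432) F200966 (iv5 F319277) F319274 D125084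
def n219672 : Q := act 6 n191975
theorem D219672 : act 6 n191975 = n219672 := rfl
theorem F499971 : act 2 n219672 = n212559 := d3_1 D219672 F466416 (iv2 F385050)
theorem F499972 : act 3 n219672 = n191977 := d7_1 D219672 (iv6 D191977) (iv3 F385051)
theorem F499973 : act 4 n219672 = n194024 := d10_1 D219672 (iv6 F472006) F472004
theorem F499974 : act 5 n219672 = n213620 := d12_1 D219672 F471324 F390239 (iv6 F338061) D191975
theorem F499975 : act 7 n219672 = n194021 := d14_2 (iv7 F385052) D219672 (iv6 D194021) (iv7 F385870) F385869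
theorem F499976 : act 0 n219672 = n199370 := d21_4 F366719 F335222 D191975 D219672 (iv6 D199370) (iv5 F356864) (iv1 D154255) D154256 F242371 D154268
theorem F499977 : act 0 n192489 = n219672 := d21_4 (iv5 F293323) (iv1 F292926) F292928 D192489 (iv6 D219672) (iv5 D191975) F335221 D99525 F153288 D99537
def n219673 : Q := act 3 n191976
theorem D219673 : act 3 n191976 = n219673 := rfl
theorem F499978 : act 4 n219673 = n194733 := d5_2 D191976 D219673 (iv3 F472003) F472004 F385051
theorem F499979 : act 7 n219673 = n192898 := d8_2 (iv7 F385054) D219673 (iv3 D192898)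
theorem F499980 : act 6 n209503 = n219673 := d14_5 F499979 F388142 F159843 D193237 (iv7 F453948)
def n219674 : Q := act 6 n191976
theorem D219674 : act 6 n191976 = n219674 := rfl
theorem F499981 : act 2 n219674 = n192901 := d3_1 D219674 (iv6 D192901) (iv2 F385053)
theorem F499982 : act 3 n219674 = n209503 := d7_1 D219674 F499980 (iv3 D219673)
theorem F499983 : act 4 n219674 = n191977 := d10_1 D219674 (iv6 D191977) D191976
theorem F499984 : act 7 n219674 = n197555 := d14_2 (iv7 F385054) D219674 (iv6 F404806) F389271 (iv6 F385874)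
theorem F499985 : act 0 n219674 = n197551 := d21_4 D140372 D210930 F459337 D219674 (iv6 D197551) D197550 F404784 (iv5 D197536) (iv6 F385065) (iv1 D140371)
theorem F499986 : act 5 n219042 = n219674 := d21_2 (iv5 F407659) (iv1 F496853) (iv6 D219674) (iv1 F498733) (iv6 D219404) (iv5 D191391) (iv1 F358728) (iv5 F431998) (iv6 F432000) (iv1 F406613)
theorem F499987 : act 0 n192404 = n219674 := d21_4 (iv5 D92614) D92611 (iv5 F354445) D192404 (iv6 D219674) (iv5 F459337) (iv1 F459338) (iv5 D191914) F152913 (iv1 F292958)
def n219675 : Q := act 3 n191987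
theorem D219675 : act 3 n191987 = n219675 := rfl
theorem F499988 : act 4 n219675 = n210766 := d5_2 D191987 D219675 (iv3 D210766) (iv4 F385099) F385097
theorem F499989 : act 7 n219675 = n214005 := d8_2 F386221 D219675 F473070
def n219676 : Q := act 4 n191990
theorem D219676 : act 4 n191990 = n219676 := rfl
theorem F499990 : act 2 n219676 = n193968 := d1_1 D219676 (iv4 F393220) F393216
theorem F499991 : act 3 n219676 = n192490 := d5_1 D219676 (iv4 F457340) F457336 (iv4 D192861) (iv3 F385116)
theorem F499992 : act 6 n219676 = n194063 := d10_2 F385118 D219676 (iv4 F391919)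
theorem F499993 : act 7 n219676 = n193919 := d11_2 F491172 D219676 (iv4 F491174)
theorem F499994 : act 5 n219676 = n192262 := d16_1 D219676 (iv4 F498516) F498515 (iv4 D191996) (iv5 D99486) D99485 D191994 (iv7 F393218) F393216
theorem F499995 : act 0 n219676 = n193971 := d18_2 (iv1 F385117) D219676 F391553 (iv5 D184401) D184400 F363551 (iv4 F390862) (iv0 F390864) F362617
theorem F499996 : act 1 n219676 = n192197 := d18_6 F143301 F70592 D46508 D99480 D191990 D219676 F385957 F335339 (iv5 D103350)
def n219677 : Q := act 4 n191994
theorem D219677 : act 4 n191994 = n219677 := rfl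
theorem F499997 : act 2 n219677 = n193919 := d1_1 D219677 (iv4 F491174) F491170
theorem F499998 : act 5 n219677 = n192263 := d9_2 D191994 D219677 (iv4 F498524) F498525 (iv4 D191991) (iv5 D99481) D99480 D191990 D219676 F499994 (iv4 F498516) F498515 (iv4 D191996) (iv5 D99486) D99485
theorem F499999 : act 6 n219677 = n192183 := d10_2 F493521 D219677 (iv4 F493520)
theorem F500000 : act 7 n219677 = n193968 := d11_2 F393218 D219677 (iv4 F393220)
theorem F500001 : act 0 n219677 = n192197 := d18_2 F453889 D219677 F385957 F295210 (iv4 F294973) (iv0 F372445) (iv4 F390848) (iv0 F483813) F483811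
theorem F500002 : act 1 n219677 = n193971 := d18_6 (iv1 F147095) (iv4 F294871) F294868 D99485 D191994 D219677 F391553 (iv0 F340542) (iv5 D103054)
theorem F500003 : act 3 n219677 = n209188 := d20_3 D209484 F453889 D219677 (iv1 F452638) (iv3 D136540) (iv4 D64192) (iv1 D30244) (iv4 F48630) (iv3 F99920) D136524
def n219678 : Q := act 6 n191996
theorem D219678 : act 6 n191996 = n219678 := rfl
theorem F500004 : act 3 n219678 = n203375 := d7_1 D219678 (iv6 D203375) (iv3 F385146)
theorem F500005 : act 4 n219678 = n191997 := d10_1 D219678 (iv6 D191997) D191996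
theorem F500006 : act 5 n219678 = n206375 := d12_1 D219678 (iv6 D206375) (iv5 F428193) (iv6 F498518) F498515
def n219679 : Q := act 6 n191998
theorem D219679 : act 6 n191998 = n219679 := rfl
theorem F500007 : act 2 n219679 = n217792 := d3_1 D219679 F490654 F475862
theorem F500008 : act 3 n219679 = n217949 := d7_1 D219679 (iv6 F491385) F471830
theorem F500009 : act 4 n219679 = n191999 := d10_1 D219679 (iv6 D191999) D191998
theorem F500010 : act 5 n219679 = n217230 := d12_1 D219679 F488038 (iv5 F496683) F496685 F485974
theorem F500011 : act 7 n219679 = n216349 := d14_2 F491191 D219679 (iv6 D216349) (iv7 F379967) (iv6 F491190)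
theorem F500012 : act 0 n217935 = n219679 := d21_4 F403465 (iv1 F279280) (iv5 F454156) (iv6 F491331) (iv6 D219679) (iv5 F485974) (iv1 D216800) F483938 (iv6 D216343) F403468
theorem F500013 : act 1 n218087 = n219679 := d15_1 (iv0 F496580) F500011 (iv2 F496575)
def n219680 : Q := act 0 n191999
theorem D219680 : act 0 n191999 = n219680 := rfl
theorem F500014 : act 4 n219680 = n217584 := d18_1 D219680 (iv1 D217584) (iv4 F489628) F489632 F489272 F372783 (iv4 F391009) (iv0 F392123) F392126
theorem F500015 : act 6 n219680 = n209438 := d21_5 F293917 D190549 F380100 D191999 D219680 (iv5 F484704) F484703 D217107 F487456 F372427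
theorem F500016 : act 2 n193066 = n219680 := d3_3 F500015 (iv2 F489730) (iv6 F489735)
theorem F500017 : act 3 n193022 = n219680 := d7_3 F500015 F453708 (iv6 F388533)
theorem F500018 : act 7 n202130 = n219680 := d14_0 F500015 (iv7 D209438) (iv6 D136481) (iv7 F179700) D202130
def n219681 : Q := act 1 n191999
theorem D219681 : act 1 n191999 = n219681 := rfl
theorem F500019 : act 7 n219681 = n193066 := d15_2 (iv0 D219680) D219681 F500016
theorem F500020 : act 4 n219681 = n215217 := d18_7 D217227 F488025 (iv1 F372650) (iv4 F488036) (iv5 F500010) F500009 D219681 (iv0 F478923) F370960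
theorem F500021 : act 3 n192012 = n219681 := d19_19 (iv1 D219681) (iv5 F392126) (iv4 D194128) D194127 F392128 F465776 F465777 F446918 (iv1 F374299) (iv5 F250866) (iv4 F474988) (iv3 D214400) (iv1 F419823) (iv5 F457535) F457534 F419790 D206371 F440468 (iv4 F388651)
theorem F500022 : act 6 n202129 = n219681 := d21_3 F346572 (iv1 F179696) D202129 (iv1 D219681) (iv6 D191999) (iv5 F380100) (iv1 F384192) F384189 (iv6 D136395) D136392
theorem F500023 : act 2 n219681 = n202130 := d3_1 F500022 (iv6 D202130) (iv2 F422994)
def n219682 : Q := act 7 n191999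
theorem D219682 : act 7 n191999 = n219682 := rfl
theorem F500024 : act 3 n219682 = n208427 := d8_1 D219682 (iv7 F479172) F479169
theorem F500025 : act 4 n219682 = n216349 := d11_1 D219682 (iv7 F500011) F500009
theorem F500026 : act 5 n219682 = n193787 := d13_1 D219682 (iv7 F392122) F392126
theorem F500027 : act 6 n219682 = n208425 := d14_1 D219682 F487387 (iv6 F487386) (iv7 F372439) D191999
theorem F500028 : act 1 n202130 = n219682 := d15_1 (iv0 F489990) (iv7 D219682) (iv2 F489987)
theorem F500029 : act 1 n219682 = n193066 := d15_1 F500028 (iv7 F500019) F500023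
def n219683 : Q := act 1 n192011
theorem D219683 : act 1 n192011 = n219683 := rfl
theorem F500030 : act 1 n219683 = n193058 := d15_1 D219683 (iv7 D193058) (iv2 F385195)
theorem F500031 : act 7 n219683 = n193055 := d15_2 (iv0 F496666) D219683 (iv2 F496662)
theorem F500032 : act 3 n204531 = n219683 := d20_9 (iv4 F499925) F499927 (iv4 F499911) F499915 F499402 (iv3 D218356) (iv4 D189136) D189134 F451821 (iv1 D219683)
theorem F500033 : act 2 n193056 = n219683 := d4_3 F500031 (iv2 F496662) F496664
def n219684 : Q := act 4 n192014
theorem D219684 : act 4 n192014 = n219684 := rfl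
theorem F500034 : act 2 n219684 = n192827 := d1_1 D219684 (iv4 D192827) (iv2 F385205)
theorem F500035 : act 3 n219684 = n213908 := d5_1 D219684 (iv4 D213908) (iv3 F386039) (iv4 D192214) (iv3 F385206)
theorem F500036 : act 6 n219684 = n214605 := d10_2 (iv6 F385207) D219684 (iv4 D214605)
theorem F500037 : act 7 n219684 = n197272 := d11_2 F496861 D219684 (iv4 F496864)
theorem F500038 : act 5 n219684 = n210181 := d17_5 F394611 (iv5 D194821) (iv1 F289589) D192014 D219684 (iv0 D210181) (iv5 D137810) D137809 (iv4 F385443)
theorem F500039 : act 0 n219684 = n192267 := d18_2 F497923 D219684 (iv4 D192267) (iv5 F361849) (iv4 F326524) (iv0 F381214) (iv4 F480930) F480934 D219246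
theorem F500040 : act 1 n219684 = n192269 := d18_6 (iv1 F153668) F148358 F289638 (iv4 F153280) D192014 D219684 (iv4 D192269) (iv0 F385831) (iv5 D192166)
def n219685 : Q := act 4 n192015
theorem D219685 : act 4 n192015 = n219685 := rfl
theorem F500041 : act 2 n219685 = n203245 := d1_1 D219685 F427522 (iv2 F385209)
theorem F500042 : act 6 n219685 = n192017 := d10_2 (iv6 F385211) D219685 (iv4 D192017)
theorem F500043 : act 7 n219685 = n204340 := d11_2 (iv7 F385212) D219685 (iv4 D204340)
theorem F500044 : act 0 n219685 = n214065 := d18_2 F385214 D219685 F473307 (iv5 F431600) (iv4 F460903) (iv0 F460908) (iv4 D204321) F197943 (iv5 F197972)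
theorem F500045 : act 1 n219685 = n214066 := d18_6 (iv1 F311802) D192349 F386536 (iv4 F335225) D192015 D219685 F473312 (iv0 F386608) (iv5 D157478)
def n219686 : Q := act 3 n192017
theorem D219686 : act 3 n192017 = n219686 := rfl
theorem F500046 : act 2 n219686 = n203183 := d0_1 D219686 (iv3 D203183) (iv2 F185719) D118271 (iv2 F385218)
theorem F500047 : act 4 n219686 = n192026 := d5_2 D192017 D219686 (iv3 D192026) (iv4 D99539) (iv3 F153285)
theorem F500048 : act 7 n219686 = n203248 := d8_2 F386765 D219686 F427528
theorem F500049 : act 0 n195361 = n209780 := d20_10 (iv4 D209780) (iv1 F385265) (iv4 F500047) (iv3 D219686) F385219 (iv3 F388268) (iv4 D192932) D192929 F469912 F469915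
theorem F500050 : act 0 n203246 = n219686 := d20_4 F427513 (iv1 F393797) F392958 (iv3 F427525) (iv3 D219686) (iv4 D192017) (iv1 F365067) (iv4 F365059) (iv3 F464112) (iv1 F464114)
theorem F500051 : act 1 n203247 = n219686 := d15_1 D203247 F500048 (iv2 D203248)
def n219687 : Q := act 5 n192019
theorem D219687 : act 5 n192019 = n219687 := rfl
theorem F500052 : act 3 n219687 = n193861 := d6_1 D219687 (iv5 D193861) (iv3 F385226)
theorem F500053 : act 6 n219687 = n210673 := d12_2 (iv6 F471050) D219687 (iv5 D210673) D210674 (iv5 F471047)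
theorem F500054 : act 4 n219687 = n203401 := d16_2 D192019 D219687 (iv5 D203401) (iv4 F252616) (iv5 F349198) F153962 F357355 (iv7 F382821) F382818
theorem F500055 : act 0 n219687 = n218373 := d17_2 (iv1 F385227) D219687 (iv5 D218373) (iv4 D189167) (iv5 D93328) F157766 D46528 (iv0 F292932) (iv4 F356751)
theorem F500056 : act 1 n219687 = n216628 := d17_6 (iv1 D192289) (iv5 D100017) F157775 D99521 D192019 D219687 F485245 F493553 F493552
def n219688 : Q := act 3 n192021
theorem D219688 : act 3 n192021 = n219688 := rfl
theorem F500057 : act 2 n219688 = n203395 := d0_1 D219688 F428135 (iv2 F408891) F408892 (iv2 F385233)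
theorem F500058 : act 5 n219688 = n210717 := d6_2 F467770 D219688 (iv3 F467774)
theorem F500059 : act 6 n219688 = n192026 := d7_2 (iv6 F385234) D219688 (iv3 D192026)
theorem F500060 : act 7 n219688 = n209740 := d8_2 F385248 D219688 F454810
theorem F500061 : act 0 n219688 = n202509 := d19_4 F335221 D99525 D192021 D219688 (iv5 D202509) (iv4 F396938) F396937 F168295 F351842 F104427 (iv3 D31772) F48929 (iv5 F49361) F324992 (iv3 F117654) D162043 F311770 F155525 D99443
theorem F500062 : act 0 n209240 = n219688 := d20_4 (iv4 D175700) D175698 (iv4 F337652) D209240 (iv3 D219688) (iv4 D192021) F335223 D154270 (iv3 F389940) F389942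
def n219689 : Q := act 5 n192023
theorem D219689 : act 5 n192023 = n219689 := rfl
theorem F500063 : act 2 n219689 = n192922 := d2_1 D219689 (iv5 D192922) (iv2 F385249)
theorem F500064 : act 3 n219689 = n213640 := d6_1 D219689 (iv5 F471412) F467680
theorem F500065 : act 6 n219689 = n192560 := d12_2 F385252 D219689 F387071 F306378 (iv5 F384328)
theorem F500066 : act 7 n219689 = n216577 := d13_2 (iv7 F385250) D219689 (iv5 D216577)
theorem F500067 : act 4 n219689 = n192561 := d16_2 D192023 D219689 F387076 F356751 (iv5 D92651) F68044 D92651 F292934 (iv2 F157323)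
theorem F500068 : act 0 n219689 = n215864 := d17_2 (iv1 F385251) D219689 F481848 F460734 F460733 F456226 F456224 (iv0 D192018) D192019
def n219690 : Q := act 5 n192025
theorem D219690 : act 5 n192025 = n219690 := rfl
theorem F500069 : act 2 n219690 = n209219 := d2_1 D219690 (iv5 D209219) F385260
theorem F500070 : act 3 n219690 = n209806 := d6_1 D219690 (iv5 D209806) (iv3 F385261)
theorem F500071 : act 4 n219690 = n209813 := d9_1 D219690 (iv5 D209813) (iv4 F385222) (iv5 F456224) F456222 (iv5 D209815) (iv4 D136987) D136988 (iv4 F452761) (iv5 D209219) F218755 D139557 (iv4 F393055) F393056 (iv4 F385259)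
theorem F500072 : act 6 n219690 = n216418 := d12_2 F492709 D219690 (iv5 D216418) (iv6 F374563) D218204
theorem F500073 : act 7 n219690 = n209813 := d13_2 (iv7 F385258) D219690 (iv5 D209813)
theorem F500074 : act 0 n219690 = n209817 := d17_2 (iv1 F385257) D219690 F455054 (iv4 D192487) (iv5 F292923) (iv0 D92648) D92651 (iv0 F349202) F252616
theorem F500075 : act 1 n219690 = n203389 := d17_6 D192288 (iv5 F484084) F484085 F393056 (iv4 F385259) D219690 (iv5 D203389) (iv0 F352999) (iv4 F329701)
def n219691 : Q := act 5 n192026
theorem D219691 : act 5 n192026 = n219691 := rfl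
theorem F500076 : act 2 n219691 = n203394 := d2_1 D219691 (iv5 D203394) (iv2 F385264)
theorem F500077 : act 3 n219691 = n192027 := d6_1 D219691 (iv5 D192027) D192026
theorem F500078 : act 1 n219691 = n209787 := d17_8 D213225 (iv5 F469490) (iv1 F472479) F472476 F469527 (iv5 F475875) F475876 D219691 (iv4 F454947)
def n219692 : Q := act 1 n192027
theorem D219692 : act 1 n192027 = n219692 := rfl
theorem F500079 : act 1 n219692 = n203401 := d15_1 D219692 (iv7 F498424) F498421
theorem F500080 : act 7 n219692 = n209829 := d15_2 (iv0 F385266) D219692 (iv2 D209829)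
theorem F500081 : act 5 n219692 = n209490 := d17_7 F352990 (iv5 D99328) F157767 D46528 D99539 D192027 D219692 F453905 (iv4 F352996)
theorem F500082 : act 2 n209223 = n219692 := d2_3 F500081 (iv2 D209490) (iv5 F452775)
theorem F500083 : act 4 n209829 = n219692 := d9_15 F500081 F453903 (iv5 D192287) (iv4 F153961) D100017 F329701 (iv5 F452775) (iv4 F452777) (iv5 F365481) F365489 F357366 (iv4 F157785) (iv5 F356323) (iv4 F426768) (iv5 F455091)
theorem F500084 : act 6 n219692 = n216610 := d21_3 (iv5 D210483) (iv1 F453905) (iv5 F500081) F485163 F475908 F332658 F374665 (iv5 F481700) (iv6 F481705) (iv1 F457730)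
theorem F500085 : act 3 n209821 = n219692 := d7_3 F500084 (iv3 D216610) F455089
theorem F500086 : act 0 n209821 = n213632 := d19_4 F426769 (iv5 F455091) F500083 (iv3 F500085) F471377 F490311 F490307 (iv1 F401152) F401151 (iv4 D152546) (iv3 D71946) (iv1 F87033) (iv5 D55036) (iv4 D26603) (iv3 F42266) (iv1 F42268) D26460 D54711 D118870
def n219693 : Q := act 4 n192027
theorem D219693 : act 4 n192027 = n219693 := rfl
theorem F500087 : act 5 n219693 = n194009 := d9_2 D192027 D219693 (iv4 F391754) (iv5 F357355) (iv4 F153962) F349198 F252616 D203401 (iv4 F500054) (iv5 D219687) (iv4 D192019) (iv5 D99521) F73522 D46528 D99539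
theorem F500088 : act 0 n219693 = n216628 := d18_2 (iv1 D219692) D219693 (iv4 F493568) (iv5 D218373) (iv4 D189167) D189166 (iv4 F426805) F453906 (iv5 F500081)
theorem F500089 : act 1 n219693 = n218373 := d18_6 (iv1 D194009) F356751 F292932 D99539 D192027 D219693 F493568 (iv0 F500088) F500087
theorem F500090 : act 3 n208858 = n219693 := d20_5 (iv4 F220143) (iv1 F452799) F452801 (iv3 F453919) F453921 (iv4 D219693) F385266 F452777 (iv3 D209223) (iv1 F218770)
theorem F500091 : act 6 n219693 = n208855 := d7_2 D208858 F500090 F451126
def n219694 : Q := act 6 n192027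
theorem D219694 : act 6 n192027 = n219694 := rfl
theorem F500092 : act 2 n219694 = n210836 := d3_1 D219694 (iv6 F498423) F498421
theorem F500093 : act 4 n219694 = n208855 := d10_1 D219694 (iv6 F500091) (iv4 D219693)
theorem F500094 : act 5 n219694 = n195221 := d12_1 D219694 F467773 F467770 F385234 D192027
theorem F500095 : act 0 n219694 = n210423 := d21_10 (iv5 D210423) (iv1 F426277) (iv5 F458958) (iv6 F458960) (iv1 F484291) (iv6 F500072) (iv5 D219690) (iv1 D192025) D192027 D219694
theorem F500096 : act 1 n219694 = n210426 := d15_1 (iv0 F500095) (iv7 F471361) (iv2 F471362)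
theorem F500097 : act 7 n210837 = n219694 := d13_0 F500094 F396339 D210837
def n219695 : Q := act 7 n192027
theorem D219695 : act 7 n192027 = n219695 := rfl
theorem F500098 : act 2 n219695 = n203401 := d4_1 D219695 (iv7 F498424) F498421
theorem F500099 : act 5 n219695 = n192028 := d13_1 D219695 (iv7 D192028) D192027
theorem F500100 : act 1 n209223 = n219695 := d15_1 F498426 (iv7 D219695) (iv2 F498421)
theorem F500101 : act 1 n219695 = n209829 := d15_1 F500100 (iv7 F500080) (iv2 F500082)
def n219696 : Q := act 0 n192029
theorem D219696 : act 0 n192029 = n219696 := rfl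
theorem F500102 : act 5 n219696 = n210110 := d17_3 (iv1 F290149) D192029 D219696 F456210 (iv5 D187745) (iv0 D90533) (iv5 D42369) D42368 (iv4 F73563)
theorem F500103 : act 4 n219696 = n216578 := d18_1 D219696 (iv1 D216578) F356746 (iv5 D99821) (iv4 F139321) F139325 D90526 (iv0 F290148) D192029
theorem F500104 : act 2 n192055 = n219696 := d15_3 (iv0 D219696) F385274 (iv7 F385368)
theorem F500105 : act 1 n192081 = n219696 := d15_0 (iv0 D219696) (iv7 F492705) F492703
theorem F500106 : act 7 n219696 = n192087 := d15_2 (iv0 F385469) F500105 (iv2 D192087)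
theorem F500107 : act 3 n192083 = n219696 := d19_19 (iv1 F500105) (iv5 D192081) F153404 F153408 (iv1 D92741) D92743 D188747 (iv3 F374690) F349703 D193361 F389576 (iv3 F468627) F468630 F447671 D216116 F483031 (iv1 D211948) F403892 F386259
theorem F500108 : act 6 n207656 = n219696 := d14_5 F500106 F453491 F453489 (iv6 D209382) F445878
def n219697 : Q := act 5 n192044
theorem D219697 : act 5 n192044 = n219697 := rfl
theorem F500109 : act 2 n219697 = n193075 := d2_1 D219697 (iv5 D193075) (iv2 F385332)
theorem F500110 : act 3 n219697 = n215575 := d6_1 D219697 F480587 F385335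
theorem F500111 : act 6 n219697 = n193837 := d12_2 F388682 D219697 (iv5 F484259) (iv6 D216411) (iv5 F388681)
theorem F500112 : act 7 n219697 = n216570 := d13_2 (iv7 F385333) D219697 (iv5 D216570)
theorem F500113 : act 4 n219697 = n193838 := d16_2 D192044 D219697 F391152 F351160 (iv5 F291834) F139700 F291834 F153269 (iv2 F157646)
theorem F500114 : act 1 n219697 = n215565 := d17_6 D100639 (iv5 F364434) (iv1 D103638) (iv5 F294717) D192044 D219697 F480531 (iv0 D192766) (iv4 D100641)
def n219698 : Q := act 3 n192046
theorem D219698 : act 3 n192046 = n219698 := rfl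
theorem F500115 : act 2 n219698 = n208054 := d0_1 D219698 F447656 (iv2 F446921) (iv3 F484627) F484626
theorem F500116 : act 4 n219698 = n199768 := d5_2 (iv4 F385336) D219698 (iv3 F413411) F345075 D139541
theorem F500117 : act 6 n219698 = n197961 := d7_2 F498904 D219698 (iv3 F498899)
theorem F500118 : act 7 n219698 = n210529 := d8_2 F498420 D219698 (iv3 F498415)
theorem F500119 : act 0 n219698 = n199793 := d20_4 (iv4 F388669) (iv1 F385324) (iv4 F385336) D219698 F413529 (iv4 F385004) (iv1 F353014) F351156 (iv3 F351179) (iv1 F388667)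
theorem F500120 : act 0 n199773 = n219698 := d20_4 (iv4 F387256) F491656 F459110 (iv3 F413436) (iv3 D219698) F385336 F382804 (iv4 F382805) (iv3 F457723) F457725
theorem F500121 : act 5 n219698 = n215768 := d17_1 F500120 (iv1 F481492) F343252 F412537 F412534 F388287 (iv5 F469676) F492680 F492675
def n219699 : Q := act 5 n192046
theorem D219699 : act 5 n192046 = n219699 := rfl
theorem F500122 : act 3 n219699 = n215768 := d6_1 D219699 (iv5 F500121) (iv3 D219698)
theorem F500123 : act 6 n219699 = n210240 := d12_2 F498904 D219699 (iv5 F498909) (iv6 D219445) D219444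
theorem F500124 : act 7 n219699 = n215823 := d13_2 F498420 D219699 (iv5 F498417)
theorem F500125 : act 4 n219699 = n215823 := d16_2 (iv4 F385336) D219699 (iv5 F498417) F498414 (iv5 F458515) (iv4 F493288) F493289 F484577 (iv2 F365300)
theorem F500126 : act 0 n219699 = n194124 := d17_2 (iv1 F420691) D219699 F392115 (iv4 D192764) (iv5 F335413) (iv0 D103637) (iv5 F294717) (iv0 F335408) (iv4 F420687)
theorem F500127 : act 1 n219699 = n215760 := d17_6 (iv1 F427860) F427862 F384159 F372251 (iv4 F385336) D219699 F481452 (iv0 F484605) (iv4 D216482)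
def n219700 : Q := act 6 n192048
theorem D219700 : act 6 n192048 = n219700 := rfl
theorem F500128 : act 2 n219700 = n199775 := d3_1 D219700 (iv6 F420688) (iv2 F420690)
theorem F500129 : act 4 n219700 = n192049 := d10_1 D219700 (iv6 D192049) (iv4 F385338)
theorem F500130 : act 7 n219700 = n199774 := d14_2 D192048 D219700 F413438 F219691 (iv6 F359930)
theorem F500131 : act 0 n219700 = n199776 := d21_4 D210620 F475225 F475223 D219700 F413444 (iv5 D124081) (iv1 F197402) F337494 (iv6 F387690) F387691
theorem F500132 : act 1 n219700 = n198802 := d15_1 (iv0 F500131) F409317 D199776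
def n219701 : Q := act 6 n192056
theorem D219701 : act 6 n192056 = n219701 := rfl
theorem F500133 : act 2 n219701 = n209752 := d3_1 D219701 (iv6 F497921) F497918
theorem F500134 : act 3 n219701 = n192057 := d7_1 D219701 (iv6 D192057) D192056
theorem F500135 : act 4 n219701 = n203224 := d10_1 D219701 F427469 (iv4 F386256)
theorem F500136 : act 5 n219701 = n203198 := d12_1 D219701 F486229 (iv5 D216852) (iv6 F480927) F480924
theorem F500137 : act 7 n219701 = n210786 := d14_2 (iv7 F385370) D219701 F458785 F448206 (iv6 D192085)
theorem F500138 : act 0 n219701 = n209236 := d21_4 (iv5 F458549) F480928 F480924 D219701 (iv6 D209236) (iv5 F220569) (iv1 F437613) F437609 F394610 F394609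
theorem F500139 : act 0 n216008 = n219701 := d17_2 F469968 D216008 F500136 F427386 (iv5 D179934) (iv0 F242145) D193379 F389646 D213333
def n219702 : Q := act 4 n192059
theorem D219702 : act 4 n192059 = n219702 := rfl
theorem F500140 : act 2 n219702 = n219476 := d1_1 D219702 F499071 (iv2 F444415)
theorem F500141 : act 3 n219702 = n219519 := d5_1 D219702 (iv4 D219519) F384001 (iv4 F357352) (iv3 F385382)
theorem F500142 : act 6 n219702 = n217061 := d10_2 (iv6 F385383) D219702 F487197
theorem F500143 : act 7 n219702 = n219477 := d11_2 F404693 D219702 F499077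
theorem F500144 : act 0 n219702 = n206889 := d17_0 (iv5 D206889) D206887 (iv5 F465706) (iv4 F492770) F492774 F428393 (iv5 F444427) F444429 D219702
theorem F500145 : act 1 n219702 = n219475 := d18_6 (iv1 F268294) (iv4 F380165) F385380 F385377 D192059 D219702 (iv4 D219475) F383844 F285124
def n219703 : Q := act 4 n192067
theorem D219703 : act 4 n192067 = n219703 := rfl
theorem F500146 : act 2 n219703 = n204117 := d1_1 D219703 F431103 (iv2 F388110)
theorem F500147 : act 3 n219703 = n217149 := d5_1 D219703 F487672 (iv3 F455988) F455991 (iv3 F431031)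
theorem F500148 : act 5 n219703 = n218664 := d9_2 D192067 D219703 F495038 F475904 F457365 F234773 F361929 D213559 (iv4 F485236) (iv5 D216627) (iv4 F390955) F390956 F226158 F321789 F361920
theorem F500149 : act 6 n219703 = n211652 := d10_2 F462556 D219703 (iv4 F462557)
theorem F500150 : act 7 n219703 = n204118 := d11_2 (iv7 F388108) D219703 F431107
theorem F500151 : act 0 n219703 = n203989 := d17_0 F430724 F426816 (iv5 F283278) (iv4 F468492) F468489 F340973 D181939 (iv0 F385415) D219703
theorem F500152 : act 1 n219703 = n204099 := d18_6 (iv1 F427146) F427148 F215410 F361920 D192067 D219703 (iv4 D204099) F430719 F430717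
def n219704 : Q := act 4 n192069
theorem D219704 : act 4 n192069 = n219704 := rfl
theorem F500153 : act 2 n219704 = n219458 := d1_1 D219704 F498970 F448234
theorem F500154 : act 3 n219704 = n203258 := d5_1 D219704 F427545 F188274 (iv4 F347175) D192069
theorem F500155 : act 5 n219704 = n213137 := d9_2 (iv5 F385420) D219704 (iv4 D213137) (iv5 F312018) F312017 F257302 (iv4 F351916) D204081 F431015 (iv5 D193419) (iv4 D101622) (iv5 D47268) (iv4 F74452) D101291 F309066
theorem F500156 : act 7 n219704 = n213819 := d11_2 F429553 D219704 F472222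
theorem F500157 : act 0 n219704 = n211935 := d17_0 (iv5 F484823) F484826 F478056 F456446 (iv5 D204339) (iv0 F361941) D214240 F474164 D219704
theorem F500158 : act 1 n219704 = n219456 := d18_6 (iv1 F312486) (iv4 F205735) (iv1 F309064) F309066 (iv5 F385420) D219704 (iv4 D219456) F383607 (iv5 D153304)
def n219705 : Q := act 6 n192069
theorem D219705 : act 6 n192069 = n219705 := rfl
theorem F500159 : act 2 n219705 = n209767 := d3_1 D219705 (iv6 F454886) F448234
theorem F500160 : act 3 n219705 = n192070 := d7_1 D219705 (iv6 D192070) D192069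
theorem F500161 : act 7 n219705 = n209768 := d14_2 F429553 D219705 F454889 (iv7 F432048) F432047
theorem F500162 : act 0 n219705 = n209770 := d21_4 (iv5 D152622) D152619 (iv5 F385420) D219705 F461650 (iv5 F482479) F482480 (iv5 F462453) (iv6 F462454) (iv1 F455889)
theorem F500163 : act 0 n209764 = n219705 := d21_4 (iv5 F437609) (iv1 F437612) F347251 D209764 (iv6 D219705) F385420 (iv1 F239825) F358056 (iv6 D137345) (iv1 F220530)
def n219706 : Q := act 4 n192072
theorem D219706 : act 4 n192072 = n219706 := rfl
theorem F500164 : act 2 n219706 = n197272 := d1_1 D219706 (iv4 F496864) F496859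
theorem F500165 : act 6 n219706 = n209780 := d10_2 F385432 D219706 (iv4 D209780)
theorem F500166 : act 7 n219706 = n192827 := d11_2 (iv7 F385430) D219706 (iv4 D192827)
theorem F500167 : act 5 n219706 = n210182 := d16_1 D219706 (iv4 F456485) (iv5 D199527) F172877 F354564 (iv4 F153280) D192014 (iv7 F496861) F496859
theorem F500168 : act 0 n219706 = n192269 := d18_2 F385431 D219706 (iv4 D192269) (iv5 F367529) (iv4 F378814) F472057 F472054 F390348 F384668
theorem F500169 : act 1 n219706 = n192267 := d18_6 D46682 F73785 D95346 (iv4 F157390) D192072 D219706 (iv4 D192267) (iv0 D99951) (iv5 D46684)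
def n219707 : Q := act 5 n192077
theorem D219707 : act 5 n192077 = n219707 := rfl
theorem F500170 : act 2 n219707 = n212228 := d2_1 D219707 F464841 (iv2 F391418)
theorem F500171 : act 3 n219707 = n203228 := d6_1 D219707 F427479 (iv3 F385446)
theorem F500172 : act 7 n219707 = n212220 := d13_2 F391420 D219707 F464807
theorem F500173 : act 0 n219707 = n212226 := d17_2 F391403 D219707 (iv5 F464831) (iv4 D192168) (iv5 D99818) D99816 F327683 (iv0 F329324) D193923
theorem F500174 : act 1 n219707 = n212225 := d17_6 F497923 (iv5 D192014) F289588 D99635 D192077 D219707 F464827 F403899 (iv4 F497920)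
def n219708 : Q := act 6 n192083
theorem D219708 : act 6 n192083 = n219708 := rfl
theorem F500175 : act 2 n219708 = n192085 := d3_1 D219708 (iv6 D192085) D192083
theorem F500176 : act 3 n219708 = n207656 := d7_1 D219708 F500108 (iv3 F500107)
theorem F500177 : act 4 n219708 = n214064 := d10_1 D219708 F473304 F386259
theorem F500178 : act 5 n219708 = n213077 := d12_1 D219708 (iv6 D213077) (iv5 F463311) (iv6 F480918) F480915
theorem F500179 : act 0 n219708 = n197265 := d21_4 F385442 D215642 F480915 D219708 F427072 F427070 D204469 F432631 F364511 D192075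
theorem F500180 : act 1 n219708 = n193649 := d15_1 (iv0 F500179) F390557 (iv2 F403785)
theorem F500181 : act 7 n219708 = n209381 := d15_2 (iv0 F448208) (iv0 F500179) F453485
def n219709 : Q := act 1 n192085
theorem D219709 : act 1 n192085 = n219709 := rfl
theorem F500182 : act 1 n219709 = n209381 := d15_1 D219709 (iv7 F500181) F500175
theorem F500183 : act 7 n219709 = n197265 := d15_2 (iv0 F385483) D219709 F403785
theorem F500184 : act 4 n219709 = n197221 := d17_9 (iv1 F403611) (iv5 F396963) (iv1 F403767) F403765 (iv4 F219587) (iv5 F358058) D208171 F448222 D219709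
theorem F500185 : act 3 n202510 = n219709 := d19_19 (iv1 D219709) (iv5 F448222) (iv4 F448224) (iv3 F419033) (iv1 F431438) (iv5 F444080) (iv4 D207272) F365940 (iv1 F416126) (iv5 F468854) F468853 (iv3 D203796) (iv1 F192208) (iv5 D85553) (iv4 F130524) (iv3 F319279) (iv1 D156118) (iv5 F245194) (iv4 F424329)
theorem F500186 : act 5 n202506 = n219709 := d21_0 (iv1 D219709) (iv5 F448222) (iv6 F448225) F237953 D203469 (iv5 F487445) (iv1 F487447) (iv5 F460589) F457671 F457670
theorem F500187 : act 6 n202509 = n219709 := d21_3 F430768 (iv1 D202508) D202509 (iv1 D219709) (iv6 D192085) (iv5 F384668) (iv1 F390348) (iv5 D193584) F328322 D193436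
theorem F500188 : act 2 n219709 = n193649 := d2_1 F500186 (iv5 F453694) F453692
def n219710 : Q := act 7 n192093
theorem D219710 : act 7 n192093 = n219710 := rfl
theorem F500189 : act 2 n219710 = n210787 := d4_1 D219710 (iv7 F486234) F486230
theorem F500190 : act 3 n219710 = n209751 := d8_1 D219710 F462461 (iv3 F462460)
theorem F500191 : act 4 n219710 = n212782 := d11_1 D219710 F467480 (iv4 F385511)
theorem F500192 : act 5 n219710 = n192094 := d13_1 D219710 (iv7 D192094) D192093
theorem F500193 : act 6 n219710 = n214526 := d14_1 D219710 F475626 F367623 (iv7 F363131) (iv6 F385510)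
theorem F500194 : act 1 n193684 = n219710 := d15_1 F486236 (iv7 D219710) (iv2 F486230)
theorem F500195 : act 1 n219710 = n211641 := d15_1 F500194 (iv7 F478176) F478174
def n219711 : Q := act 4 n192104
theorem D219711 : act 4 n192104 = n219711 := rfl
theorem F500196 : act 2 n219711 = n193480 := d1_1 D219711 (iv4 D193480) (iv2 F385562)
theorem F500197 : act 5 n219711 = n201203 := d9_2 D192104 D219711 F419434 F396298 F374881 F334629 F249607 D186787 D217112 F487488 F396374 F396372 F374871 (iv5 F307529) F307528
theorem F500198 : act 6 n219711 = n217225 := d10_2 (iv6 F385563) D219711 (iv4 D217225)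
theorem F500199 : act 7 n219711 = n193395 := d11_2 (iv7 F385564) D219711 (iv4 D193395)
theorem F500200 : act 0 n219711 = n192311 := d17_0 (iv5 F419906) (iv1 F474678) F474674 (iv4 D186873) (iv5 D89337) F74287 D100900 (iv0 F385566) D219711
theorem F500201 : act 1 n219711 = n192313 := d18_6 F337573 (iv4 F305422) D167492 F307528 D192104 D219711 (iv4 D192313) (iv0 F367513) (iv5 D186635)
def n219712 : Q := act 6 n192111
theorem D219712 : act 6 n192111 = n219712 := rfl
theorem F500202 : act 2 n219712 = n193488 := d3_1 D219712 (iv6 D193488) (iv2 F385603)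
theorem F500203 : act 3 n219712 = n198370 := d7_1 D219712 F407789 (iv3 F393833)
theorem F500204 : act 4 n219712 = n209238 := d10_1 D219712 F452834 (iv4 F385605)
theorem F500205 : act 5 n219712 = n198369 := d12_1 D219712 F479802 F479797 (iv6 D192112) D192111
theorem F500206 : act 7 n219712 = n219291 := d14_2 (iv7 F385604) D219712 F498147 F463757 (iv6 D193475)
theorem F500207 : act 0 n219712 = n214823 := d21_4 F390141 (iv1 F385538) D192111 D219712 (iv6 D214823) (iv5 D162751) (iv1 F326128) F326131 (iv6 F357407) (iv1 F390139)
theorem F500208 : act 0 n208071 = n219712 := d21_4 D199306 (iv1 F447750) (iv5 D208070) D208071 (iv6 D219712) (iv5 D192111) (iv1 F383641) (iv5 F390133) F390137 F222060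
def n219713 : Q := act 4 n192113
theorem D219713 : act 4 n192113 = n219713 := rfl
theorem F500209 : act 2 n219713 = n193492 := d1_1 D219713 (iv4 D193492) F385612
theorem F500210 : act 3 n219713 = n199913 := d5_1 D219713 (iv4 F467814) F467813 (iv4 F457707) F457706
theorem F500211 : act 5 n219713 = n198214 := d9_2 (iv5 F385611) D219713 F407252 (iv5 F407282) (iv4 F471560) F471561 F374340 F292961 (iv4 F156975) D193611 (iv4 F390452) (iv5 F365120) (iv4 F471574) F471575 F375258
theorem F500212 : act 6 n219713 = n193601 := d10_2 (iv6 F385610) D219713 F390413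
theorem F500213 : act 7 n219713 = n192140 := d11_2 (iv7 F385613) D219713 F385722
theorem F500214 : act 0 n219713 = n193610 := d17_0 F431687 F455538 (iv5 D209960) (iv4 D137178) D137179 F390068 F390066 F385614 D219713
theorem F500215 : act 1 n219713 = n193609 := d18_6 D191919 (iv4 F492548) (iv1 F492552) F375258 (iv5 F385611) D219713 F405136 (iv0 D102490) (iv5 F152930)
def n219714 : Q := act 4 n192114
theorem D219714 : act 4 n192114 = n219714 := rfl
theorem F500216 : act 2 n219714 = n193495 := d1_1 D219714 (iv4 D193495) (iv2 F385615)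
theorem F500217 : act 3 n219714 = n196634 := d5_1 D219714 F401271 F357408 (iv4 F357397) (iv3 F385616)
theorem F500218 : act 6 n219714 = n192116 := d10_2 (iv6 F385617) D219714 (iv4 D192116)
theorem F500219 : act 1 n219714 = n196359 := d18_6 (iv1 D192189) (iv4 F156977) F385609 F385608 D192114 D219714 (iv4 F411428) F411431 F385917
def n219715 : Q := act 6 n192118
theorem D219715 : act 6 n192118 = n219715 := rfl
theorem F500220 : act 2 n219715 = n193516 := d3_1 D219715 (iv6 D193516) (iv2 F385639)
theorem F500221 : act 3 n219715 = n211700 := d7_1 D219715 (iv6 D211700) (iv3 F385640)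
theorem F500222 : act 4 n219715 = n192517 := d10_1 D219715 F411651 F411648
theorem F500223 : act 7 n219715 = n214820 := d14_2 (iv7 F385641) D219715 (iv6 D214820) (iv7 F272495) (iv6 F357407)
theorem F500224 : act 0 n214828 = n219715 := d21_4 (iv5 D188389) (iv1 F367117) (iv5 F387995) (iv6 F477026) (iv6 D219715) (iv5 D192118) D192117 (iv5 F388011) (iv6 D192849) (iv1 F373262)
theorem F500225 : act 1 n214829 = n219715 := d15_1 D214829 F500223 F476989
def n219716 : Q := act 4 n192119
theorem D219716 : act 4 n192119 = n219716 := rfl
theorem F500226 : act 2 n219716 = n193522 := d1_1 D219716 (iv4 D193522) F385645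
theorem F500227 : act 6 n219716 = n192154 := d10_2 (iv6 F385643) D219716 (iv4 D192154)
theorem F500228 : act 7 n219716 = n193524 := d11_2 (iv7 F385647) D219716 (iv4 D193524)
theorem F500229 : act 0 n219716 = n193535 := d17_0 (iv5 F390181) D215484 (iv5 F480188) F390413 (iv5 F295030) F143883 F295174 F385646 D219716
theorem F500230 : act 1 n219716 = n192128 := d18_6 (iv1 F391389) F391388 (iv1 F389712) F389709 (iv5 F385644) D219716 (iv4 F486938) (iv0 F491313) (iv5 D217931)
def n219717 : Q := act 6 n192120
theorem D219717 : act 6 n192120 = n219717 := rfl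
theorem F500231 : act 2 n219717 = n214947 := d3_1 D219717 F477587 (iv2 F456987)
theorem F500232 : act 3 n219717 = n198872 := d7_1 D219717 (iv6 F482940) F482939
theorem F500233 : act 4 n219717 = n192121 := d10_1 D219717 (iv6 D192121) D192120
theorem F500234 : act 5 n219717 = n198871 := d12_1 D219717 F409672 (iv5 D163690) (iv6 F357780) (iv5 F385650)
theorem F500235 : act 7 n219717 = n202398 := d14_2 (iv7 F385648) D219717 F455449 F455445 (iv6 D193505)
theorem F500236 : act 0 n219717 = n193464 := d21_4 (iv5 F436436) (iv1 F436440) (iv5 F385650) D219717 (iv6 D193464) F156788 D174052 (iv5 F383158) F383160 (iv1 F354781)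
theorem F500237 : act 0 n209363 = n219717 := d21_4 F323563 D175786 (iv5 F354222) D209363 (iv6 D219717) F385650 (iv1 D163123) D163126 F352330 (iv1 D107712)
def n219718 : Q := act 5 n192122
theorem D219718 : act 5 n192122 = n219718 := rfl
theorem F500238 : act 2 n219718 = n211701 := d2_1 D219718 (iv5 F463373) F463371
theorem F500239 : act 3 n219718 = n192123 := d6_1 D219718 (iv5 D192123) D192122
theorem F500240 : act 4 n219718 = n199255 := d9_1 D219718 F433541 (iv4 F477065) F477064 F336523 (iv5 F463510) F463509 (iv5 F462772) (iv4 F462774) F461963 (iv4 F436862) F436863 F357782 D216098 F482944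
theorem F500241 : act 6 n219718 = n203841 := d12_2 F408663 D219718 (iv5 D203841) (iv6 F324596) (iv5 F408662)
theorem F500242 : act 7 n219718 = n193512 := d13_2 (iv7 F385654) D219718 (iv5 D193512)
theorem F500243 : act 0 n219718 = n193468 := d17_2 F385686 D219718 F389966 F389963 (iv5 D177557) F129746 (iv5 F341870) (iv0 D162959) (iv4 F361898)
theorem F500244 : act 1 n219718 = n214841 := d17_6 F403249 (iv5 F355482) (iv1 F389964) D216098 F482944 D219718 (iv5 D214841) (iv0 F366323) (iv4 F403245)
def n219719 : Q := act 6 n192126
theorem D219719 : act 6 n192126 = n219719 := rfl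
theorem F500245 : act 2 n219719 = n193544 := d3_1 D219719 (iv6 D193544) (iv2 F385672)
theorem F500246 : act 3 n219719 = n192128 := d7_1 D219719 (iv6 D192128) D192126
theorem F500247 : act 4 n219719 = n210622 := d10_1 D219719 F480711 F480708
theorem F500248 : act 7 n219719 = n202826 := d14_2 (iv7 F385670) D219719 (iv6 F425752) F408218 (iv6 D193536)
theorem F500249 : act 5 n219719 = n215122 := d21_6 F353238 F357193 D186988 F368771 (iv1 F385709) D219719 (iv1 F478473) F476457 F415571 (iv1 F365367)
theorem F500250 : act 0 n219719 = n202828 := d21_10 (iv5 F497729) F497731 (iv5 D200399) (iv6 D113069) D113064 F390177 F390173 D210095 F456131 D219719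
theorem F500251 : act 0 n202824 = n219719 := d21_4 (iv5 F385934) (iv1 F425740) (iv5 D202823) D202824 (iv6 D219719) (iv5 F456131) (iv1 F456134) F385533 (iv6 D127107) D127104
def n219720 : Q := act 6 n192127
theorem D219720 : act 6 n192127 = n219720 := rfl
theorem F500252 : act 2 n219720 = n193532 := d3_1 D219720 (iv6 D193532) (iv2 F385673)
theorem F500253 : act 4 n219720 = n216547 := d10_1 D219720 F484891 F460468
theorem F500254 : act 7 n219720 = n215362 := d14_2 (iv7 F385674) D219720 (iv6 D215362) F390188 (iv6 D193537)
theorem F500255 : act 5 n219720 = n211840 := d21_6 D144139 F357462 (iv5 F355628) (iv6 F389953) F389951 D219720 (iv1 D211840) (iv5 D144153) (iv6 D67533) D67529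
theorem F500256 : act 0 n192873 = n219720 := d21_4 (iv5 F375510) F379145 (iv5 F379146) D192873 (iv6 D219720) (iv5 D192127) (iv1 F153537) (iv5 F156827) F357159 (iv1 F368780)
def n219721 : Q := act 5 n192128
theorem D219721 : act 5 n192128 = n219721 := rfl
theorem F500257 : act 2 n219721 = n193534 := d2_1 D219721 (iv5 D193534) (iv2 F385676)
theorem F500258 : act 3 n219721 = n215122 := d6_1 D219721 (iv5 F500249) F500246
theorem F500259 : act 6 n219721 = n211840 := d12_2 D192128 D219721 (iv5 F500255) (iv6 D219720) (iv5 D192127)
theorem F500260 : act 7 n219721 = n215335 := d13_2 F408229 D219721 F479454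
theorem F500261 : act 0 n219721 = n215485 := d17_2 F386005 D219721 (iv5 F480189) (iv4 D189161) (iv5 D93307) D93306 F295175 F352559 (iv4 F220331)
theorem F500262 : act 1 n219721 = n215484 := d17_6 (iv1 F385903) F157424 (iv1 F367531) (iv5 F486939) F486938 D219721 (iv5 F480188) F493522 F493520
def n219722 : Q := act 3 n192138
theorem D219722 : act 3 n192138 = n219722 := rfl
theorem F500263 : act 2 n219722 = n210350 := d0_1 D219722 F457149 (iv2 F226506) (iv3 F357160) (iv2 F385710)
theorem F500264 : act 5 n219722 = n193440 := d6_2 (iv5 F385711) D219722 F389828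
theorem F500265 : act 6 n219722 = n210349 := d7_2 F388099 D219722 F457145
theorem F500266 : act 7 n219722 = n193439 := d8_2 F385712 D219722 F389826
theorem F500267 : act 0 n219722 = n210717 := d20_4 F480704 (iv1 D192137) D192138 D219722 (iv3 F467774) F467771 (iv1 D151371) (iv4 F323769) (iv3 F458506) (iv1 F480705)
theorem F500268 : act 0 n210716 = n219722 := d20_4 F456234 F455044 F426764 (iv3 F462700) (iv3 D219722) (iv4 D192138) (iv1 F385709) (iv4 F480708) F480707 (iv1 F458253)
def n219723 : Q := act 1 n192140
theorem D219723 : act 1 n192140 = n219723 := rfl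
theorem F500269 : act 1 n219723 = n193492 := d15_1 D219723 F390050 (iv2 F385720)
theorem F500270 : act 7 n219723 = n193609 := d15_2 (iv0 F498988) D219723 (iv2 F498983)
theorem F500271 : act 5 n219723 = n215361 := d17_7 (iv1 F460143) (iv5 D209996) F455552 (iv5 D109057) (iv4 F169052) (iv5 F385723) D219723 F479572 F464677
theorem F500272 : act 4 n219723 = n192189 := d17_9 (iv1 D192189) F153706 D100196 D192464 (iv4 F455474) F455475 (iv0 F365964) (iv5 F385723) D219723
theorem F500273 : act 2 n193610 = n219723 := d1_3 F500272 (iv2 F385919) (iv4 F431686)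
def n219724 : Q := act 3 n192147
theorem D219724 : act 3 n192147 = n219724 := rfl
theorem F500274 : act 6 n219724 = n209196 := d7_2 (iv6 F385760) D219724 (iv3 D209196)
theorem F500275 : act 7 n219724 = n193675 := d8_2 F385762 D219724 (iv3 D193675)
theorem F500276 : act 0 n219724 = n200020 := d20_4 (iv4 F137347) D187129 F390656 D219724 F425907 F425903 (iv1 F457314) F457311 F365375 F385781
def n219725 : Q := act 3 n192148
theorem D219725 : act 3 n192148 = n219725 := rfl
theorem F500277 : act 5 n219725 = n219197 := d6_2 F488774 D219725 F497682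
theorem F500278 : act 7 n219725 = n193673 := d8_2 (iv7 F385764) D219725 (iv3 D193673)
theorem F500279 : act 0 n219725 = n218770 := d20_4 (iv4 F486848) (iv1 F486851) (iv4 F385936) D219725 F495577 F447729 (iv1 F460193) F460192 (iv3 D193678) (iv1 F385819)
theorem F500280 : act 4 n219725 = n199141 := d20_6 (iv4 F82455) (iv1 D52159) (iv4 F82449) (iv3 F329598) (iv1 F385763) D219725 (iv1 F410854) F401070 (iv3 D144103) (iv1 F103414)
theorem F500281 : act 0 n218850 = n219725 := d18_0 F500280 (iv1 F410854) F401070 F369858 F464713 F497488 F497485 F381438 D218850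
def n219726 : Q := act 3 n192154
theorem D219726 : act 3 n192154 = n219726 := rfl
theorem F500282 : act 2 n219726 = n193731 := d0_1 D219726 (iv3 F443602) F340802 F365375 (iv2 F385788)
theorem F500283 : act 5 n219726 = n219218 := d6_2 F488766 D219726 F497774
theorem F500284 : act 7 n219726 = n193678 := d8_2 (iv7 F385789) D219726 (iv3 D193678)
theorem F500285 : act 0 n219726 = n193724 := d20_10 F431954 (iv1 D202456) (iv4 F182845) F182844 F85017 (iv3 F329598) F157082 (iv1 F153641) D192154 D219726
theorem F500286 : act 0 n193732 = n219726 := d20_4 F379192 F434501 F434498 (iv3 F390805) (iv3 D219726) (iv4 D192154) (iv1 D99804) (iv4 F153640) (iv3 F385754) (iv1 F385758)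
def n219727 : Q := act 5 n192156
theorem D219727 : act 5 n192156 = n219727 := rfl
theorem F500287 : act 3 n219727 = n197194 := d6_1 D219727 (iv5 F473490) F473487
theorem F500288 : act 7 n219727 = n193703 := d13_2 (iv7 F385800) D219727 (iv5 D193703)
theorem F500289 : act 6 n216357 = n219727 := d21_5 F379968 F370482 F294366 D183142 D216357 (iv5 D219727) (iv1 F467741) F467737 (iv6 D191766) (iv1 F379966)
theorem F500290 : act 0 n204483 = n218996 := d21_4 F457961 (iv1 F448527) (iv5 D208238) (iv6 F432677) F496590 (iv5 F484908) (iv1 F484909) D219727 (iv6 F500289) (iv1 F483990)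
def n219728 : Q := act 6 n192160
theorem D219728 : act 6 n192160 = n219728 := rfl
theorem F500291 : act 2 n219728 = n211761 := d3_1 D219728 F467431 (iv2 F456253)
theorem F500292 : act 4 n219728 = n192161 := d10_1 D219728 (iv6 D192161) D192160
theorem F500293 : act 7 n219728 = n211760 := d14_2 (iv7 F385812) D219728 F462990 (iv7 F390712) (iv6 D193692)
theorem F500294 : act 0 n219728 = n211759 := d21_4 (iv5 F467366) F467367 F467189 D219728 (iv6 D211759) (iv5 F423228) (iv1 F423230) F330557 D206398 (iv1 F440593)
theorem F500295 : act 1 n219728 = n211763 := d15_1 (iv0 F500294) (iv7 D211763) (iv2 F462987)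
def n219729 : Q := act 0 n192161
theorem D219729 : act 0 n192161 = n219729 := rfl
theorem F500296 : act 4 n219729 = n214058 := d18_1 D219729 (iv1 D214058) F365084 D211778 F463058 (iv0 F488849) F488845 D217432 (iv5 F488851)
theorem F500297 : act 3 n219729 = n194309 := d20_5 D193676 (iv1 F390661) F367410 (iv3 F385813) D219729 F392776 (iv1 F206083) D128255 (iv3 F385771) (iv1 F385774)
theorem F500298 : act 0 n211777 = n193675 := d20_4 F500296 (iv1 D214058) F365084 D211777 (iv3 D193675) D193676 (iv1 F390661) F367410 (iv3 F385813) D219729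
theorem F500299 : act 6 n219729 = n194386 := d21_5 (iv5 F353157) (iv1 F353140) (iv5 F353149) D192161 D219729 (iv5 F498224) F498227 F463216 F438985 (iv1 F353159)
theorem F500300 : act 2 n211710 = n219729 := d3_3 F500299 F393014 D211710
theorem F500301 : act 5 n206166 = n219729 := d12_5 F500299 (iv5 F498224) F498225 D219328 (iv6 F498312)
theorem F500302 : act 7 n219729 = n206279 := d13_2 F495633 F500301 (iv5 F495631)
def n219730 : Q := act 1 n192161
theorem D219730 : act 1 n192161 = n219730 := rfl
theorem F500303 : act 1 n219730 = n211836 := d15_1 D219730 (iv7 F467429) F467427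
theorem F500304 : act 7 n219730 = n211710 := d15_2 (iv0 D219729) D219730 F500300
theorem F500305 : act 3 n206324 = n219730 := d20_3 F497494 (iv1 F476928) F476925 (iv1 D219730) F385813 (iv4 F367410) (iv1 F390654) (iv4 D193674) D193673 F497495
theorem F500306 : act 2 n219730 = n206279 := d0_1 F500305 (iv3 D206279) F206079 D128260 D206324
theorem F500307 : act 4 n219730 = n214057 := d20_6 F183002 F340947 (iv4 F247447) (iv3 F393675) (iv1 F440249) F500305 (iv1 F473292) (iv4 D211779) (iv3 F443607) (iv1 D202860)
theorem F500308 : act 1 n211836 = n219729 := d15_1 F500303 F500302 (iv2 F500306)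
def n219731 : Q := act 7 n192161
theorem D219731 : act 7 n192161 = n219731 := rfl
theorem F500309 : act 2 n219731 = n211836 := d4_1 D219731 (iv7 F467429) F467427
theorem F500310 : act 3 n219731 = n192163 := d8_1 D219731 (iv7 D192163) (iv3 F385813)
theorem F500311 : act 4 n219731 = n211760 := d11_1 D219731 (iv7 F500293) F500292
theorem F500312 : act 5 n219731 = n218874 := d13_1 D219731 (iv7 F495985) (iv5 F488851)
theorem F500313 : act 6 n219731 = n193696 := d14_1 D219731 (iv7 D193696) (iv6 D102239) (iv7 F153649) D192161
theorem F500314 : act 1 n206279 = n219731 := d15_1 (iv0 F467432) (iv7 D219731) (iv2 F467427)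
theorem F500315 : act 1 n219731 = n211710 := d15_1 F500314 (iv7 F500304) F500306
def n219732 : Q := act 4 n192166
theorem D219732 : act 4 n192166 = n219732 := rfl
theorem F500316 : act 2 n219732 = n192168 := d1_1 D219732 (iv4 D192168) (iv2 F385828)
theorem F500317 : act 7 n219732 = n192264 := d11_2 (iv7 F385830) D219732 (iv4 D192264)
theorem F500318 : act 0 n219732 = n192271 := d17_0 (iv5 F403900) F463696 F463695 (iv4 D192181) F153699 D186642 F367529 (iv0 F385831) D219732
theorem F500319 : act 1 n219732 = n192270 := d18_6 (iv1 F289586) (iv4 F153409) (iv1 F76051) (iv4 F153664) D192166 D219732 F386259 F385478 (iv5 D100748)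
theorem F500320 : act 3 n219732 = n213895 := d20_9 (iv4 D211064) F363349 D198234 (iv3 F407299) F438748 F438745 (iv4 D192267) (iv1 F385832) D219732 (iv1 F472629)
def n219733 : Q := act 5 n192170
theorem D219733 : act 5 n192170 = n219733 := rfl
theorem F500321 : act 2 n219733 = n193861 := d2_1 D219733 (iv5 D193861) F385850
theorem F500322 : act 3 n219733 = n210552 := d6_1 D219733 F458009 F427888
theorem F500323 : act 6 n219733 = n210551 := d12_2 F386758 D219733 (iv5 D210551) F390044 D192468
theorem F500324 : act 7 n219733 = n193863 := d13_2 F385847 D219733 (iv5 D193863)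
theorem F500325 : act 4 n219733 = n218690 := d16_2 (iv4 F385844) D219733 F495172 (iv4 D217905) F372436 (iv4 F390862) (iv5 D193740) (iv7 F385851) (iv2 F385849)
theorem F500326 : act 0 n219733 = n217276 := d17_2 D192170 D219733 F488233 F385957 F295210 F286329 F340530 F352904 F352887
theorem F500327 : act 1 n219733 = n194107 := d17_6 (iv1 F453890) (iv5 F483811) F483813 (iv5 D193737) (iv4 F385844) D219733 (iv5 F433008) (iv0 F499995) (iv4 D219676)
theorem F500328 : act 0 n192246 = n217517 := d20_4 F433006 (iv1 F500327) F500325 F495171 (iv3 D217517) (iv4 F390935) F480586 F480582 (iv3 F491496) (iv1 F491500)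
def n219734 : Q := act 5 n192171
theorem D219734 : act 5 n192171 = n219734 := rfl
theorem F500329 : act 2 n219734 = n193863 := d2_1 D219734 (iv5 D193863) F385855
theorem F500330 : act 6 n219734 = n194094 := d12_2 F454580 D219734 F449396 (iv6 F449395) (iv5 F454579)
theorem F500331 : act 7 n219734 = n193861 := d13_2 (iv7 F385853) D219734 (iv5 D193861)
theorem F500332 : act 0 n219734 = n194107 := d17_2 (iv1 F385852) D219734 (iv5 F433008) F391553 (iv5 D184401) (iv0 D87945) D87948 (iv0 F359410) (iv4 F359406)
theorem F500333 : act 1 n219734 = n217276 := d17_6 F385140 (iv5 F362617) F390864 (iv5 D193740) (iv4 F385854) D219734 F488233 (iv0 F500001) (iv4 D219677)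
def n219735 : Q := act 3 n192172
theorem D219735 : act 3 n192172 = n219735 := rfl
theorem F500334 : act 4 n219735 = n193868 := d5_2 D192172 D219735 (iv3 D193868) (iv4 D102438) (iv3 F153681)
theorem F500335 : act 6 n219735 = n192401 := d7_2 (iv6 F385857) D219735 F386814
theorem F500336 : act 7 n219735 = n194010 := d8_2 (iv7 F385858) D219735 (iv3 D194010)
theorem F500337 : act 0 n192333 = n219735 := d20_4 (iv4 F400431) (iv1 F400433) F386526 (iv3 F386459) (iv3 D219735) (iv4 D192172) (iv1 F153684) D102595 (iv3 F388144) (iv1 F388146)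
def n219736 : Q := act 0 n192174
theorem D219736 : act 0 n192174 = n219736 := rfl
theorem F500338 : act 6 n219736 = n192491 := d21_5 (iv5 D89587) D89584 (iv5 F153688) D192174 D219736 (iv5 F481848) (iv1 F481850) F387076 (iv6 D102585) (iv1 F139329)
theorem F500339 : act 2 n193916 = n219736 := d3_3 F500338 F493563 F493562
theorem F500340 : act 3 n193874 = n219736 := d7_3 F500338 F475181 (iv6 F475182)
theorem F500341 : act 7 n194023 = n219736 := d14_0 F500338 F493556 (iv6 F493555) (iv7 D209183) (iv6 F460545)
theorem F500342 : act 0 n219736 = n194024 := d21_4 D219689 F500068 F481848 (iv6 F500338) (iv6 F472006) F472005 (iv1 F458416) (iv5 F471047) (iv6 F471050) (iv1 F385251)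
def n219737 : Q := act 1 n192174
theorem D219737 : act 1 n192174 = n219737 := rfl
theorem F500343 : act 1 n219737 = n194024 := d15_1 D219737 (iv7 D194024) (iv2 F385865)
theorem F500344 : act 7 n219737 = n193916 := d15_2 (iv0 D219736) D219737 F500339
theorem F500345 : act 4 n219737 = n214142 := d18_7 F481671 (iv4 F484317) (iv1 F485275) F485277 (iv5 F493586) F493585 D219737 (iv0 F473689) (iv5 F481669)
theorem F500346 : act 3 n192184 = n219737 := d20_3 (iv4 F390413) (iv1 F493526) F493528 (iv1 D219737) F385866 F261723 D166234 (iv4 F453688) F453687 (iv1 F375886)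
theorem F500347 : act 5 n210684 = n219737 := d21_6 (iv5 D91058) (iv1 F67965) (iv5 F293396) D98922 (iv1 F372567) D210684 (iv1 D219737) F385867 (iv6 D188168) F294358
theorem F500348 : act 2 n219737 = n194023 := d2_1 F500347 F460544 F460538
theorem F500349 : act 6 n209181 = n219737 := d3_0 F500348 F460545 D209181
def n219738 : Q := act 7 n192174
theorem D219738 : act 7 n192174 = n219738 := rfl
theorem F500350 : act 2 n219738 = n194024 := d4_1 D219738 (iv7 D194024) (iv2 F385865)
theorem F500351 : act 3 n219738 = n212558 := d8_1 D219738 F466413 (iv3 F385866)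
theorem F500352 : act 4 n219738 = n212559 := d11_1 D219738 (iv7 F493588) F493585
theorem F500353 : act 5 n219738 = n216010 := d13_1 D219738 F482520 (iv5 F385867)
theorem F500354 : act 6 n219738 = n194019 := d14_1 D219738 (iv7 D194019) (iv6 D102594) F153691 D192174
theorem F500355 : act 1 n194023 = n219738 := d15_1 D194023 (iv7 D219738) F385865
theorem F500356 : act 1 n219738 = n193916 := d15_1 F500355 (iv7 F500344) F500348
def n219739 : Q := act 1 n192177
theorem D219739 : act 1 n192177 = n219739 := rfl
theorem F500357 : act 7 n219739 = n194028 := d15_2 (iv0 F424938) D219739 F466353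
theorem F500358 : act 4 n219739 = n215368 := d17_9 F495575 (iv5 D218769) F378671 D190121 (iv4 F467736) F467737 D219569 F499493 D219739
theorem F500359 : act 3 n194696 = n219739 := d19_19 (iv1 D219739) (iv5 F499493) F499497 F432805 D207394 (iv5 F452454) (iv4 D209147) (iv3 F452451) (iv1 F487940) F487941 F455904 F383285 (iv1 D175104) (iv5 D83627) (iv4 F94760) F94759 D60205 (iv5 F333393) (iv4 F394134)
theorem F500360 : act 6 n194694 = n219739 := d21_9 (iv5 F499493) (iv1 D219569) (iv5 F467737) F467738 (iv1 F378188) F434135 F434133 (iv1 F357443) D194694 (iv1 D219739)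
theorem F500361 : act 2 n219739 = n194027 := d3_1 F500360 (iv6 F391809) (iv2 F394123)
theorem F500362 : act 0 n194029 = n219739 := d21_4 D139498 D210678 F458428 F424909 (iv6 F500360) (iv5 D194694) F335242 (iv5 F431697) F431698 F390839
def n219740 : Q := act 2 n192177
theorem D219740 : act 2 n192177 = n219740 := rfl
theorem F500363 : act 4 n219740 = n192192 := d1_2 (iv4 F385878) D219740 (iv2 D192192)
theorem F500364 : act 5 n219740 = n204529 := d2_2 F499493 D219740 (iv2 F499496)
theorem F500365 : act 7 n219740 = n194029 := d4_2 (iv7 F385879) D219740 (iv2 D194029)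
theorem F500366 : act 1 n219740 = n194027 := d15_0 (iv0 D194027) (iv7 F385879) D219740
theorem F500367 : act 1 n194028 = n219740 := d15_0 F500366 (iv7 F424937) (iv2 F466353)
def n219741 : Q := act 0 n192178
theorem D219741 : act 0 n192178 = n219741 := rfl
theorem F500368 : act 5 n219741 = n210340 := d17_1 D219741 F488287 F488285 (iv4 F490093) (iv5 D217683) (iv0 D187750) D187753 F451768 F451766
theorem F500369 : act 4 n219741 = n217823 := d18_1 D219741 (iv1 F492628) (iv4 D218192) F391781 (iv4 F391783) F452979 F452976 (iv0 D192176) D192178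
theorem F500370 : act 6 n219741 = n216327 := d21_5 (iv5 D134874) D134871 (iv5 F450165) (iv6 F450167) D219741 (iv5 D216327) F284598 D191886 F411674 (iv1 F355352)
theorem F500371 : act 2 n194032 = n219741 := d15_3 (iv0 D219741) (iv0 F451769) F424972
theorem F500372 : act 1 n194011 = n219741 := d15_0 (iv0 D219741) F385880 (iv2 F391757)
theorem F500373 : act 7 n219741 = n194031 := d15_2 F451770 F500372 (iv2 F424973)
theorem F500374 : act 3 n216328 = n219741 := d20_9 (iv4 F451731) (iv1 F465275) F465271 F374484 (iv1 F142806) D93300 D189151 F491561 F491559 (iv1 F500372)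
def n219742 : Q := act 3 n192179
theorem D219742 : act 3 n192179 = n219742 := rfl
theorem F500375 : act 2 n219742 = n194735 := d0_1 D219742 (iv3 D194735) F355536 D137714 F385883
theorem F500376 : act 4 n219742 = n210033 := d5_2 F456593 D219742 (iv3 F479817) F479818 F456597
theorem F500377 : act 5 n219742 = n201275 := d6_2 (iv5 F385881) D219742 (iv3 F419804)
theorem F500378 : act 7 n219742 = n201291 := d8_2 F385884 D219742 F419884
theorem F500379 : act 0 n219742 = n210138 := d20_4 F221172 D210211 F456593 D219742 F456311 F221112 (iv1 F401803) F401434 (iv3 F365533) (iv1 F184215)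
theorem F500380 : act 0 n210070 = n219742 := d20_4 F321995 F323278 (iv4 F343280) D210070 (iv3 D219742) (iv4 F456593) (iv1 F456595) F221224 F326866 D142996
theorem F500381 : act 6 n215341 = n219742 := d14_5 F500378 (iv6 F440488) F440487 D214441 (iv7 F479479)
def n219743 : Q := act 6 n192179
theorem D219743 : act 6 n192179 = n219743 := rfl
theorem F500382 : act 2 n219743 = n210158 := d3_1 D219743 (iv6 D210158) F385883
theorem F500383 : act 3 n219743 = n215341 := d7_1 D219743 F500381 (iv3 D219742)
theorem F500384 : act 4 n219743 = n216556 := d10_1 D219743 F484927 F456593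
theorem F500385 : act 5 n219743 = n219555 := d12_1 D219743 (iv6 F499424) (iv5 D212785) F366294 (iv5 F385881)
theorem F500386 : act 7 n219743 = n216553 := d14_2 F385884 D219743 (iv6 D216553) (iv7 F375921) F375926
theorem F500387 : act 0 n219743 = n211679 := d21_4 (iv5 D117781) D117778 (iv5 F385881) D219743 (iv6 D211679) (iv5 D143874) (iv1 F319711) D179166 (iv6 F364181) F225989
def n219744 : Q := act 6 n192181
theorem D219744 : act 6 n192181 = n219744 := rfl
theorem F500388 : act 2 n219744 = n210194 := d3_1 D219744 (iv6 D210194) (iv2 F385892)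
theorem F500389 : act 4 n219744 = n192182 := d10_1 D219744 (iv6 D192182) D192181
theorem F500390 : act 0 n210461 = n219744 := d21_4 F472612 F404067 (iv5 F222284) D210461 (iv6 D219744) (iv5 F463695) (iv1 D211948) F403892 (iv6 F473304) F473305
def n219745 : Q := act 0 n192182
theorem D219745 : act 0 n192182 = n219745 := rfl
theorem F500391 : act 6 n219745 = n209523 := d21_5 (iv5 F367529) (iv1 D186642) (iv5 F153699) D192182 D219745 F471474 F471473 (iv5 F473099) (iv6 F473101) F385831
theorem F500392 : act 2 n209168 = n219745 := d15_3 (iv0 D219745) (iv0 F390419) D209168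
theorem F500393 : act 3 n219745 = n194729 := d0_2 (iv3 F452551) F500392 (iv2 F394278) F219651 (iv2 F218606)
theorem F500394 : act 7 n219745 = n209161 := d4_2 D209168 F500392 F452524
theorem F500395 : act 1 n209166 = n219745 := d15_1 D209166 F500394 F452524
def n219746 : Q := act 7 n192182
theorem D219746 : act 7 n192182 = n219746 := rfl
theorem F500396 : act 2 n219746 = n209166 := d4_1 D219746 F452549 (iv2 F385895)
theorem F500397 : act 3 n219746 = n192185 := d8_1 D219746 (iv7 D192185) (iv3 F385896)
theorem F500398 : act 5 n219746 = n217015 := d13_1 D219746 (iv7 D217015) (iv5 F385897)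
theorem F500399 : act 6 n219746 = n193934 := d14_1 D219746 (iv7 D193934) (iv6 D102487) (iv7 F153700) D192182
theorem F500400 : act 1 n209161 = n219746 := d15_1 (iv0 F452527) (iv7 D219746) F385895
theorem F500401 : act 1 n219746 = n209168 := d15_1 F500400 (iv7 D209168) (iv2 F452524)
def n219747 : Q := act 3 n192183
theorem D219747 : act 3 n192183 = n219747 := rfl
theorem F500402 : act 2 n219747 = n193874 := d0_1 D219747 F500340 (iv2 F500339) (iv3 D193916) (iv2 F391395)
theorem F500403 : act 5 n219747 = n208788 := d6_2 F493388 D219747 F493393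
theorem F500404 : act 6 n219747 = n209188 := d7_2 F499999 D219747 (iv3 F500003)
theorem F500405 : act 7 n219747 = n193875 := d8_2 (iv7 F391396) D219747 F447578
theorem F500406 : act 0 n219747 = n193876 := d20_4 D189161 D218366 F493520 D219747 F391274 (iv4 D135892) (iv1 D63900) (iv4 F99376) (iv3 F218569) F352853
theorem F500407 : act 0 n192201 = n219747 := d20_4 F101028 D65299 (iv4 F359422) (iv3 F385972) (iv3 D219747) (iv4 F493520) (iv1 F493522) F390413 (iv3 F363443) (iv1 D139108)
def n219748 : Q := act 6 n192184
theorem D219748 : act 6 n192184 = n219748 := rfl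
theorem F500408 : act 2 n219748 = n193922 := d3_1 D219748 (iv6 D193922) (iv2 F391394)
theorem F500409 : act 3 n219748 = n209181 := d7_1 D219748 F500349 (iv3 F500346)
theorem F500410 : act 4 n219748 = n200385 := d10_1 D219748 F493530 F493528
theorem F500411 : act 5 n219748 = n219635 := d12_1 D219748 (iv6 D219635) (iv5 D191878) D191879 F385899
theorem F500412 : act 7 n219748 = n194063 := d14_2 F391393 D219748 (iv6 F499992) F499993 (iv6 D193919)
theorem F500413 : act 0 n219748 = n194065 := d21_4 (iv5 F491318) (iv1 F491320) F385899 D219748 F391932 (iv5 D191948) F338814 (iv5 F338818) (iv6 F375870) F488315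
theorem F500414 : act 0 n192210 = n219748 := d21_4 F452678 F399728 F383836 D192210 (iv6 D219748) (iv5 F385899) F387557 (iv5 F455328) (iv6 D209906) (iv1 F452682)
def n219749 : Q := act 6 n192186
theorem D219749 : act 6 n192186 = n219749 := rfl
theorem F500415 : act 2 n219749 = n192188 := d3_1 D219749 (iv6 D192188) D192186
theorem F500416 : act 3 n219749 = n193925 := d7_1 D219749 (iv6 D193925) (iv3 F385907)
theorem F500417 : act 5 n219749 = n192446 := d12_1 D219749 (iv6 D192446) (iv5 F375480) F375481 (iv5 F385908)
theorem F500418 : act 0 n219749 = n215599 := d21_4 F371298 (iv1 F369089) (iv5 F385908) D219749 F486929 (iv5 D217000) (iv1 D186625) D186626 F367483 D187714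
def n219750 : Q := act 5 n192187
theorem D219750 : act 5 n192187 = n219750 := rfl
theorem F500419 : act 2 n219750 = n208575 := d2_1 D219750 F449965 (iv2 F389238)
theorem F500420 : act 3 n219750 = n214147 := d6_1 D219750 F473715 F390467
theorem F500421 : act 7 n219750 = n193906 := d13_2 (iv7 F385912) D219750 (iv5 D193906)
theorem F500422 : act 1 n219750 = n193259 := d17_6 (iv1 F371267) F369091 (iv1 D187102) (iv5 F153703) D192187 D219750 (iv5 D193259) D193257 F389336
theorem F500423 : act 6 n208573 = n219750 := d21_5 (iv5 D108567) D108563 (iv5 F388640) F400284 (iv1 F449959) (iv5 D219750) (iv1 F389236) (iv5 F449059) (iv6 D208355) F359037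
def n219751 : Q := act 6 n192187
theorem D219751 : act 6 n192187 = n219751 := rfl
theorem F500424 : act 4 n219751 = n192188 := d10_1 D219751 (iv6 D192188) D192187
def n219752 : Q := act 0 n192188
theorem D219752 : act 0 n192188 = n219752 := rfl
theorem F500425 : act 5 n219752 = n211178 := d19_1 D219752 (iv4 F482168) F482169 F431760 (iv5 F351461) (iv4 F351456) (iv3 F351464) (iv1 F322203) (iv5 F417831) (iv4 D200763) F362296 F435294 (iv5 F455428) F455427 (iv3 F455378) (iv1 F455381) (iv5 D193621) F156977 (iv3 F385913)
theorem F500426 : act 3 n219752 = n209590 := d20_5 (iv4 F390034) (iv1 F390035) F156977 (iv3 F385913) D219752 (iv4 F464857) (iv1 F464862) (iv4 F457707) F457706 (iv1 F385614)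
theorem F500427 : act 6 n219752 = n199249 := d21_5 F369091 (iv1 D187102) (iv5 F153703) D192188 D219752 F431695 F431694 D216999 F486918 (iv1 F371267)
theorem F500428 : act 2 n215599 = n219752 := d15_3 (iv0 D219752) (iv0 F389818) (iv7 F480712)
theorem F500429 : act 4 n199251 = n219752 := d10_3 F500427 (iv4 D199249) D199251
def n219753 : Q := act 7 n192188
theorem D219753 : act 7 n192188 = n219753 := rfl
theorem F500430 : act 3 n219753 = n192190 := d8_1 D219753 (iv7 D192190) (iv3 F385913)
theorem F500431 : act 5 n219753 = n192453 := d13_1 D219753 (iv7 D192453) (iv5 F385914)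
theorem F500432 : act 6 n219753 = n193910 := d14_1 D219753 (iv7 D193910) (iv6 D102476) (iv7 F153704) D192188
theorem F500433 : act 0 n215599 = n219753 := d21_4 F462576 (iv1 F462572) D217000 (iv6 F486929) F500432 F391365 F384603 D208938 F451479 D208941
def n219754 : Q := act 3 n192198
theorem D219754 : act 3 n192198 = n219754 := rfl
theorem F500434 : act 2 n219754 = n202227 := d0_1 D219754 (iv3 F440589) F440588 (iv3 D192204) (iv2 F385958)
theorem F500435 : act 4 n219754 = n194010 := d5_2 D192198 D219754 (iv3 D194010) (iv4 D102586) (iv3 F153733)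
theorem F500436 : act 6 n219754 = n196663 := d7_2 (iv6 F385959) D219754 F401402
theorem F500437 : act 7 n219754 = n193868 := d8_2 (iv7 F385960) D219754 (iv3 D193868)
theorem F500438 : act 0 n202731 = n219754 := d20_4 F348362 (iv1 F319699) F366197 D202731 (iv3 D219754) (iv4 D192198) (iv1 F153735) D102448 (iv3 F356220) (iv1 F348361)
theorem F500439 : act 1 n202254 = n219754 := d15_0 (iv0 F500438) (iv7 F469230) F469227
theorem F500440 : act 5 n202277 = n219754 := d12_5 F500436 F401403 F165189 (iv5 F179810) D202277
def n219755 : Q := act 5 n192198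
theorem D219755 : act 5 n192198 = n219755 := rfl
theorem F500441 : act 2 n219755 = n192205 := d2_1 D219755 (iv5 D192205) (iv2 F385958)
theorem F500442 : act 3 n219755 = n202277 := d6_1 D219755 F500440 (iv3 D219754)
theorem F500443 : act 4 n219755 = n193836 := d9_1 D219755 (iv5 D193836) (iv4 D102379) (iv5 D47502) F35394 D22841 D47532 D102454 D193892 F391307 (iv4 D185110) (iv5 D88228) (iv4 F73663) D99845 D192198
theorem F500444 : act 6 n219755 = n202261 := d12_2 (iv6 F385959) D219755 F423412 (iv6 F401376) F401375
theorem F500445 : act 7 n219755 = n193869 := d13_2 (iv7 F385960) D219755 (iv5 D193869)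
theorem F500446 : act 0 n219755 = n193891 := d17_2 (iv1 F385962) D219755 F391305 (iv4 D184626) (iv5 D88033) (iv0 F289583) D101404 F388910 F388908
theorem F500447 : act 1 n219755 = n193890 := d17_6 F343264 (iv5 D47521) (iv1 F73665) D99845 D192198 D219755 F488271 (iv0 D217283) (iv4 D187105)
def n219756 : Q := act 5 n192200
theorem D219756 : act 5 n192200 = n219756 := rfl
theorem F500448 : act 2 n219756 = n193873 := d2_1 D219756 (iv5 D193873) (iv2 F385967)
theorem F500449 : act 3 n219756 = n202348 := d6_1 D219756 (iv5 D202348) (iv3 F385968)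
theorem F500450 : act 4 n219756 = n216652 := d9_1 D219756 (iv5 D216652) (iv4 F364220) (iv5 F335643) (iv4 F137266) F343260 D192199 (iv5 F485670) F485669 (iv5 F485338) F287492 (iv5 F335638) (iv4 F335668) F290002 D192200
theorem F500451 : act 7 n219756 = n193879 := d13_2 (iv7 F385969) D219756 (iv5 D193879)
theorem F500452 : act 1 n219756 = n193281 := d17_6 (iv1 F289741) (iv5 F195850) F356402 F290002 D192200 D219756 (iv5 D193281) (iv0 F352686) (iv4 D102421)
def n219757 : Q := act 7 n192201
theorem D219757 : act 7 n192201 = n219757 := rfl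
theorem F500453 : act 2 n219757 = n193876 := d4_1 D219757 (iv7 D193876) (iv2 F385971)
theorem F500454 : act 3 n219757 = n209472 := d8_1 D219757 F453827 (iv3 F385972)
theorem F500455 : act 4 n219757 = n215861 := d11_1 D219757 F481840 F469392
theorem F500456 : act 5 n219757 = n202661 := d13_1 D219757 F424975 (iv5 F385973)
theorem F500457 : act 6 n219757 = n193881 := d14_1 D219757 (iv7 D193881) (iv6 D102450) (iv7 F290004) D192201
theorem F500458 : act 1 n193875 = n219757 := d15_1 D193875 (iv7 D219757) F385971
theorem F500459 : act 1 n219757 = n193874 := d15_1 F500458 (iv7 F450887) (iv2 F433560)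
def n219758 : Q := act 3 n192202
theorem D219758 : act 3 n192202 = n219758 := rfl
theorem F500460 : act 2 n219758 = n201906 := d0_1 D219758 F422314 F336268 (iv3 F356395) F385979
theorem F500461 : act 4 n219758 = n210175 := d5_2 (iv4 F385975) D219758 (iv3 D210175) F385447 (iv3 F385976)
theorem F500462 : act 6 n219758 = n203545 := d7_2 F458551 D219758 F458555
theorem F500463 : act 7 n219758 = n193882 := d8_2 F385980 D219758 (iv3 D193882)
theorem F500464 : act 0 n219758 = n201908 := d19_4 F356406 F356407 (iv4 F385975) D219758 F422320 (iv4 D185253) (iv3 D88272) (iv1 F133519) (iv5 D87000) (iv4 D40392) (iv3 F31413) D41778 F291785 F65273 (iv3 F63784) F74929 (iv5 F64452) (iv4 F290764) (iv3 F159416)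
theorem F500465 : act 5 n203559 = n219758 := d17_1 F428877 F500464 F422320 (iv4 D185253) (iv5 F283716) D216277 (iv5 F484530) (iv0 F484531) (iv4 F365328)
theorem F500466 : act 1 n219758 = n201905 := d17_8 F458050 (iv5 D210562) D210560 (iv5 F458044) F404198 (iv5 F390542) F455080 F500465 F422313
def n219759 : Q := act 5 n192202
theorem D219759 : act 5 n192202 = n219759 := rfl
theorem F500467 : act 2 n219759 = n193885 := d2_1 D219759 (iv5 D193885) F385979
theorem F500468 : act 3 n219759 = n203559 := d6_1 D219759 F500465 (iv3 D219758)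
theorem F500469 : act 6 n219759 = n193885 := d12_2 F458551 D219759 (iv5 D193885) D193886 (iv5 F458552)
theorem F500470 : act 7 n219759 = n193883 := d13_2 F385980 D219759 (iv5 D193883)
theorem F500471 : act 4 n219759 = n216649 := d16_2 (iv4 F385975) D219759 (iv5 D216649) (iv4 D185123) (iv5 F295453) F295452 (iv5 F290103) F356194 (iv2 F356221)
theorem F500472 : act 1 n219759 = n212734 := d17_6 (iv1 F343853) F343854 F356406 F356407 (iv4 F385975) D219759 F467298 F369105 (iv4 D184626)
theorem F500473 : act 3 n216649 = n216609 := d5_1 F500471 (iv4 D216609) F455085 F455083 (iv3 F500468)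
theorem F500474 : act 5 n216609 = n216648 := d6_2 D216649 F500473 (iv3 D216648)
def n219760 : Q := act 5 n192203
theorem D219760 : act 5 n192203 = n219760 := rfl
theorem F500475 : act 2 n219760 = n193883 := d2_1 D219760 (iv5 D193883) F385985
theorem F500476 : act 3 n219760 = n202262 := d6_1 D219760 (iv5 D202262) F385984
theorem F500477 : act 4 n219760 = n216647 := d9_1 D219760 (iv5 D216647) (iv4 D185118) D185119 F356399 F356407 (iv4 F385975) D219759 F500471 (iv5 D216649) (iv4 D185123) (iv5 F295453) F295452 (iv5 F290103) (iv4 F385983)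
theorem F500478 : act 7 n219760 = n193885 := d13_2 (iv7 F385982) D219760 (iv5 D193885)
theorem F500479 : act 0 n219760 = n212734 := d17_2 (iv1 F385981) D219760 F467298 (iv4 D187105) (iv5 D89545) (iv0 F335667) F290002 F153741 D102438
def n219761 : Q := act 6 n192203
theorem D219761 : act 6 n192203 = n219761 := rfl
theorem F500480 : act 2 n219761 = n193884 := d3_1 D219761 (iv6 D193884) F385985
theorem F500481 : act 3 n219761 = n202263 := d7_1 D219761 (iv6 D202263) F385984
theorem F500482 : act 4 n219761 = n193250 := d10_1 D219761 (iv6 D193250) (iv4 F385983)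
theorem F500483 : act 0 n209184 = n219761 := d21_4 (iv5 D137055) F112077 (iv5 F247050) D209184 (iv6 D219761) D219760 F500479 F467298 (iv6 F453418) F453419
theorem F500484 : act 1 n209184 = n209895 := d15_1 (iv0 F500483) F455290 (iv2 F500480)
def n219762 : Q := act 0 n192204
theorem D219762 : act 0 n192204 = n219762 := rfl
theorem F500485 : act 5 n219762 = n212733 := d17_1 D219762 (iv1 F467297) F456254 F456252 (iv5 F346268) (iv0 F346267) (iv5 F385992) (iv0 D192206) (iv4 F385986)
theorem F500486 : act 4 n219762 = n210091 := d18_1 D219762 (iv1 F456118) (iv4 F366576) (iv5 F366577) F338054 (iv0 F338057) D192956 (iv0 F467209) F467207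
theorem F500487 : act 3 n219762 = n202252 := d20_5 (iv4 D192200) (iv1 D99848) D99849 D192204 D219762 F423408 (iv1 F381926) D219277 F498081 F388913
theorem F500488 : act 2 n193888 = n219762 := d15_3 (iv0 D219762) (iv0 F385989) (iv7 F391300)
theorem F500489 : act 1 n193889 = n219762 := d15_0 (iv0 D219762) F385988 D193889
theorem F500490 : act 7 n219762 = n193887 := d15_2 (iv0 F391304) F500489 (iv2 F391301)
def n219763 : Q := act 0 n192205
theorem D219763 : act 0 n192205 = n219763 := rfl
theorem F500491 : act 5 n219763 = n192214 := d17_1 D219763 (iv1 F433551) (iv5 F485483) (iv4 D216689) (iv5 D185220) (iv0 F343893) (iv5 F391147) D215808 (iv4 F481652)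
theorem F500492 : act 4 n219763 = n216643 := d18_3 (iv1 F481649) (iv4 F481652) D219763 (iv5 D216643) (iv4 D185104) (iv0 F356383) (iv4 F481483) (iv0 D215766) (iv5 F451148)
theorem F500493 : act 1 n193869 = n219763 := d15_0 (iv0 D219763) F385991 (iv2 F391256)
theorem F500494 : act 3 n213909 = n219763 := d5_5 F500492 F485315 F484418 D216692 (iv4 F485492)
theorem F500495 : act 7 n193890 = n219763 := d11_0 F500492 F485316 (iv4 F469343)
theorem F500496 : act 2 n219763 = n193891 := d15_3 (iv0 F500446) F500447 F500495
theorem F500497 : act 6 n202259 = n219763 := d3_0 F500496 (iv6 F456293) F456297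
theorem E104048 : n210133 = n202255 := (c21_11 (iv5 D202255) (iv1 F423397) (iv5 F481811) F481810 D219763 (iv6 F500497) F456298 (iv1 F456283) D210132 F456302 D210133)
theorem F500498 : act 1 n202255 = n137648 := (sb E104048 (iv0 D210133))
theorem F500499 : act 0 n202256 = n211079 := d21_4 D137648 (iv1 F500498) (iv5 D202255) D202256 F460027 (iv5 F423372) F301789 (iv5 F409165) F409164 (iv1 D137646)
def n219764 : Q := act 1 n192205
theorem D219764 : act 1 n192205 = n219764 := rfl
theorem F500500 : act 1 n219764 = n193869 := d15_1 D219764 (iv7 F500445) F500441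
theorem F500501 : act 7 n219764 = n193891 := d15_2 (iv0 D219763) D219764 (iv2 F500496)
theorem F500502 : act 5 n219764 = n193248 := d17_7 (iv1 F289743) (iv5 D99843) (iv1 D46630) D46632 D99849 D192205 D219764 (iv0 F433550) (iv4 D204780)
theorem F500503 : act 4 n219764 = n216575 := d17_9 F485019 (iv5 D215791) F290106 D216649 (iv4 F500471) (iv5 D219759) (iv0 D192202) D192205 D219764
theorem F500504 : act 3 n202266 = n219764 := d19_19 (iv1 D219764) (iv5 D192205) (iv4 D99849) F73668 (iv1 F73653) F73655 (iv4 F68389) F68386 (iv1 F35807) (iv5 D19111) D19110 (iv3 F31505) F63358 D20924 D44056 D94245 F364732 D203566 F428912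
theorem F500505 : act 2 n193890 = n219764 := d1_3 F500503 F485017 (iv4 F469343)
def n219765 : Q := act 4 n192206
theorem D219765 : act 4 n192206 = n219765 := rfl
theorem F500506 : act 2 n219765 = n193950 := d1_1 D219765 (iv4 D193950) F385995
theorem F500507 : act 3 n219765 = n201927 := d5_1 D219765 (iv4 F422400) F187923 (iv4 F339825) (iv3 F385993)
theorem F500508 : act 7 n219765 = n193948 := d11_2 F385996 D219765 (iv4 D193948)
theorem F500509 : act 5 n219765 = n212729 := d16_1 D219765 (iv4 D212729) F234496 F234300 (iv5 F106414) D149175 (iv5 F385999) F385998 F385995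
theorem F500510 : act 0 n219765 = n202337 := d17_0 (iv5 F467220) (iv1 F467214) (iv5 F393215) (iv4 D194437) (iv5 D103586) D103585 (iv5 F353162) F385994 D219765
theorem F500511 : act 1 n219765 = n202331 := d18_6 (iv1 F234548) (iv4 D70027) (iv1 F106415) D149176 (iv5 F385992) D219765 F423653 F439042 F439043
def n219766 : Q := act 4 n192207
theorem D219766 : act 4 n192207 = n219766 := rfl
theorem F500512 : act 2 n219766 = n193948 := d1_1 D219766 (iv4 D193948) F386000
theorem F500513 : act 5 n219766 = n212731 := d9_2 (iv5 F385999) D219766 (iv4 D212731) (iv5 F264401) (iv4 D167836) (iv5 F155468) D149176 (iv5 F385992) D219765 F500509 (iv4 D212729) F234496 F234300 (iv5 F106414) D149175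
theorem F500514 : act 6 n219766 = n214015 := d10_2 F393757 D219766 F473141
theorem F500515 : act 7 n219766 = n193950 := d11_2 (iv7 F385998) D219766 (iv4 D193950)
theorem F500516 : act 0 n219766 = n202331 := d17_0 (iv5 F423655) F390300 D212716 F467230 F234625 F158910 F353166 D192207 D219766
theorem F500517 : act 1 n219766 = n202337 := d18_6 (iv1 D149178) (iv4 D70011) D70009 D149175 (iv5 F385999) D219766 F423681 (iv0 F408121) F353147
def n219767 : Q := act 0 n192208
theorem D219767 : act 0 n192208 = n219767 := rfl
theorem F500518 : act 5 n219767 = n217500 := d17_1 D219767 F489184 F380913 F226852 F404265 (iv0 F440600) (iv5 D206399) F206783 (iv4 F386002)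
theorem F500519 : act 4 n219767 = n201914 := d18_1 D219767 F422346 (iv4 F179958) D128569 F206799 (iv0 F340026) (iv4 F382414) (iv0 F496997) F496996
theorem F500520 : act 3 n219767 = n194298 := d20_5 (iv4 F333104) (iv1 D99857) (iv4 F153748) (iv3 F386001) D219767 F392728 (iv1 F203805) D126929 (iv3 F206719) (iv1 F206723)
theorem F500521 : act 6 n219767 = n194334 := d21_5 (iv5 D103586) D103584 F353166 D192208 D219767 (iv5 F498185) F498188 F416310 (iv6 D193690) (iv1 F359294)
theorem F500522 : act 2 n199153 = n219767 := d15_3 (iv0 D219767) (iv0 F401745) (iv7 F410913)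
theorem F500523 : act 1 n200381 = n219767 := d15_0 (iv0 D219767) (iv7 F440585) F440582
theorem F500524 : act 7 n219767 = n202306 := d15_2 (iv0 F416219) F500523 F423568
def n219768 : Q := act 4 n192209
theorem D219768 : act 4 n192209 = n219768 := rfl
theorem F500525 : act 2 n219768 = n194057 := d1_1 D219768 (iv4 D194057) (iv2 F386003)
theorem F500526 : act 0 n219768 = n210078 := d18_2 F386006 D219768 (iv4 D210078) F220898 D209195 F452669 (iv4 F220321) (iv0 D137130) D137133
theorem F500527 : act 1 n219768 = n210080 := d18_6 (iv1 F206723) (iv4 F333104) (iv1 D99857) (iv4 F153748) D192209 D219768 (iv4 D210080) (iv0 F440515) (iv5 D206381)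
def n219769 : Q := act 6 n192212
theorem D219769 : act 6 n192212 = n219769 := rfl
theorem F500528 : act 2 n219769 = n194071 := d3_1 D219769 (iv6 D194071) F386020
theorem F500529 : act 3 n219769 = n209274 := d7_1 D219769 (iv6 D209274) F386024
theorem F500530 : act 4 n219769 = n206672 := d10_1 D219769 F441825 F386022
theorem F500531 : act 5 n219769 = n219524 := d12_1 D219769 (iv6 F499275) F487325 F438481 F438477
theorem F500532 : act 7 n219769 = n217926 := d14_2 (iv7 F386019) D219769 (iv6 D217926) F372595 F333141
theorem F500533 : act 0 n219769 = n204291 := d21_4 D200817 F438483 F438477 D219769 (iv6 D204291) F304693 F249712 (iv5 D98552) D98553 (iv1 F383816)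
theorem F500534 : act 1 n217248 = n219527 := d18_6 F500533 (iv4 F441051) F441053 (iv4 F441110) (iv5 F441112) D217248 (iv4 D219527) F499273 (iv5 F500531)
theorem F500535 : act 1 n219769 = n217060 := d15_1 (iv0 F500533) F487192 (iv2 F431897)
def n219770 : Q := act 6 n192215
theorem D219770 : act 6 n192215 = n219770 := rfl
theorem F500536 : act 2 n219770 = n193249 := d3_1 D219770 (iv6 D193249) (iv2 F386040)
theorem F500537 : act 3 n219770 = n203393 := d7_1 D219770 F496865 F496860
theorem F500538 : act 5 n219770 = n193828 := d12_1 D219770 (iv6 D193828) (iv5 D102371) (iv6 F289654) (iv5 F386041)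
theorem F500539 : act 7 n219770 = n204603 := d14_2 D192215 D219770 F432988 F198425 (iv6 F302073)
theorem F500540 : act 0 n219770 = n209784 := d21_4 (iv5 D101236) (iv1 F289610) (iv5 F386041) D219770 F455012 (iv5 F406631) F406630 (iv5 F357156) F275150 (iv1 F356397)
theorem F500541 : act 0 n193331 = n219770 := d21_4 (iv5 F331009) (iv1 F331027) F365676 (iv6 F400889) (iv6 D219770) F386041 F289609 D101404 (iv6 F336763) F220548
def n219771 : Q := act 6 n192217
theorem D219771 : act 6 n192217 = n219771 := rfl
theorem F500542 : act 2 n219771 = n203469 := d3_1 D219771 (iv6 D203469) (iv2 F386047)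
theorem F500543 : act 3 n219771 = n192218 := d7_1 D219771 (iv6 D192218) (iv3 F386048)
theorem F500544 : act 4 n219771 = n200905 := d10_1 D219771 F418356 (iv4 F386049)
theorem F500545 : act 5 n219771 = n212445 := d12_1 D219771 (iv6 F486709) F486706 F370982 D192217
theorem F500546 : act 7 n219771 = n212444 := d14_2 (iv7 F386050) D219771 F465820 F355575 F355601
theorem F500547 : act 0 n208254 = n219771 := d21_4 F420725 (iv1 F180484) D134005 D208254 (iv6 D219771) (iv5 D192217) (iv1 F335368) (iv5 D114648) (iv6 F178737) D201498
def n219772 : Q := act 1 n192221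
theorem D219772 : act 1 n192221 = n219772 := rfl
theorem F500548 : act 1 n219772 = n204407 := d15_1 D219772 (iv7 D204407) (iv2 F386063)
theorem F500549 : act 7 n219772 = n194677 := d15_2 F473861 D219772 (iv2 F473856)
theorem F500550 : act 5 n219772 = n213311 := d17_7 (iv1 F240990) (iv5 F240991) (iv1 F240995) (iv5 F241539) (iv4 F469623) F469624 D219772 F469853 F241551
theorem F500551 : act 4 n219772 = n211536 := d17_9 (iv1 F462027) (iv5 D142816) (iv1 D66940) D66941 (iv4 F345152) (iv5 F345154) (iv0 F469625) F469624 D219772
theorem F500552 : act 3 n204213 = n219772 := d19_19 (iv1 D219772) (iv5 F469624) F469623 D213396 (iv1 F483785) (iv5 D216312) F354029 F337179 F337180 (iv5 F363258) F363262 F363266 (iv1 F164901) F82733 (iv4 F165719) D196896 F402200 D205486 (iv4 F436649)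
theorem F500553 : act 6 n204390 = n219772 := d21_3 (iv5 F368200) (iv1 F470985) F470982 (iv1 D219772) (iv6 D192221) (iv5 F304672) (iv1 D57661) D57662 (iv6 F198118) F366877
theorem F500554 : act 2 n219772 = n204406 := d3_1 F500553 (iv6 F491977) F491976
def n219773 : Q := act 3 n192231
theorem D219773 : act 3 n192231 = n219773 := rfl
theorem F500555 : act 2 n219773 = n208421 := d0_1 D219773 F449286 F394044 (iv3 D194674) F394040
theorem F500556 : act 4 n219773 = n201347 := d5_2 F412657 D219773 (iv3 D201347) F350587 (iv3 F412654)
theorem F500557 : act 5 n219773 = n208411 := d6_2 F395425 D219773 F449236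
theorem F500558 : act 7 n219773 = n194670 := d8_2 F394041 D219773 (iv3 D194670)
theorem F500559 : act 0 n219773 = n193025 := d19_4 (iv1 F412620) D199556 F412657 D219773 (iv5 F456192) F456191 (iv3 D206729) (iv1 F436491) F436488 (iv4 F208157) F208156 D129815 (iv5 F437246) F437247 (iv3 F447212) (iv1 F447217) (iv5 F429936) F429939 (iv3 F412618)
theorem F500560 : act 0 n208419 = n219773 := d20_4 (iv4 F374177) F375819 (iv4 F384403) F449279 (iv3 D219773) (iv4 F412657) F412658 F286050 (iv3 F154511) (iv1 F374175)
def n219774 : Q := act 4 n192233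
theorem D219774 : act 4 n192233 = n219774 := rfl
theorem F500561 : act 2 n219774 = n218161 := d1_1 D219774 F492448 (iv2 F386135)
theorem F500562 : act 6 n219774 = n192234 := d10_2 (iv6 F386137) D219774 (iv4 D192234)
theorem F500563 : act 5 n219774 = n215000 := d16_1 D219774 F477822 (iv5 F429893) F337701 F387353 (iv4 D192649) D192650 F387354 (iv2 F386135)
theorem F500564 : act 0 n219774 = n204189 := d17_0 F431415 F443849 F443848 (iv4 F479615) (iv5 D215369) (iv0 F354635) D214223 F474070 D219774
theorem F500565 : act 1 n219774 = n204186 := d18_6 (iv1 F134986) (iv4 F332320) F341209 F235328 D192233 D219774 (iv4 D204186) F357825 (iv5 D159129)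
def n219775 : Q := act 5 n192236
theorem D219775 : act 5 n192236 = n219775 := rfl
theorem F500566 : act 4 n219775 = n216772 := d9_1 D219775 F485874 F454054 (iv5 D192390) (iv4 D100139) D100140 D192391 (iv5 F458748) F458747 (iv5 D192726) (iv4 F361013) F228240 F106721 D99919 D192236
theorem F500567 : act 7 n219775 = n216770 := d13_2 F491019 D219775 (iv5 F491020)
theorem F500568 : act 0 n219775 = n213201 := d17_2 F493575 D219775 F469422 F426994 F349188 (iv0 F143945) D101190 F375952 D218375
def n219776 : Q := act 6 n192237
theorem D219776 : act 6 n192237 = n219776 := rfl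
theorem F500569 : act 2 n219776 = n192244 := d3_1 D219776 (iv6 D192244) (iv2 F386148)
theorem F500570 : act 3 n219776 = n216241 := d7_1 D219776 F483440 (iv3 F386149)
theorem F500571 : act 4 n219776 = n213939 := d10_1 D219776 (iv6 D213939) (iv4 F386151)
theorem F500572 : act 5 n219776 = n216239 := d12_1 D219776 (iv6 F483443) (iv5 F372295) (iv6 F372293) D192237
theorem F500573 : act 0 n219776 = n194102 := d21_4 (iv5 D99923) D99921 D192237 D219776 (iv6 F486822) F486819 F486817 (iv5 F391050) F391051 F383396
def n219777 : Q := act 6 n192238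
theorem D219777 : act 6 n192238 = n219777 := rfl
theorem F500574 : act 2 n219777 = n192246 := d3_1 D219777 (iv6 D192246) (iv2 F386155)
theorem F500575 : act 3 n219777 = n214579 := d7_1 D219777 F475891 (iv3 F386156)
theorem F500576 : act 4 n219777 = n202210 := d10_1 D219777 F423255 (iv4 F386158)
theorem F500577 : act 5 n219777 = n213733 := d12_1 D219777 F471837 F367129 F367130 D192238
theorem F500578 : act 0 n194130 = n219777 := d21_4 (iv5 F471426) F451441 D208935 F451474 (iv6 D219777) (iv5 D192238) (iv1 D99922) D99923 (iv6 F383579) (iv1 F471427)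
theorem F500579 : act 1 n216783 = n219777 := d15_0 (iv0 F500578) (iv7 F489284) F489283
def n219778 : Q := act 6 n192239
theorem D219778 : act 6 n192239 = n219778 := rfl
theorem F500580 : act 2 n219778 = n192249 := d3_1 D219778 (iv6 D192249) F386161
theorem F500581 : act 3 n219778 = n213604 := d7_1 D219778 (iv6 F471256) F386163
theorem F500582 : act 4 n219778 = n213940 := d10_1 D219778 (iv6 D213940) (iv4 F386165)
theorem F500583 : act 5 n219778 = n192397 := d12_1 D219778 (iv6 D192397) (iv5 F362390) D192548 F387033
theorem F500584 : act 7 n219778 = n215939 := d14_2 (iv7 F386162) D219778 F482184 F369072 (iv6 F372389)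
theorem F500585 : act 0 n213116 = n219778 := d21_4 (iv5 D213099) (iv1 F239713) D152541 D213116 (iv6 D219778) (iv5 F387033) F387032 (iv5 F370436) (iv6 F468758) (iv1 F469006)
theorem F500586 : act 1 n219675 = n219778 := d18_8 F473055 (iv4 D214002) (iv1 D156173) (iv4 F172516) D199354 (iv4 F469518) F469516 (iv4 F499988) F500583
def n219779 : Q := act 6 n192240
theorem D219779 : act 6 n192240 = n219779 := rfl
theorem F500587 : act 2 n219779 = n192252 := d3_1 D219779 (iv6 D192252) (iv2 F386166)
theorem F500588 : act 3 n219779 = n209540 := d7_1 D219779 (iv6 F454079) (iv3 F386167)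
theorem F500589 : act 4 n219779 = n209877 := d10_1 D219779 (iv6 F472831) F472827
theorem F500590 : act 5 n219779 = n193853 := d12_1 D219779 (iv6 D193853) (iv5 D102401) (iv6 F153856) (iv5 F386168)
theorem F500591 : act 7 n219779 = n213251 := d14_2 D192240 D219779 (iv6 F479208) F479209 F383579
def n219780 : Q := act 6 n192242
theorem D219780 : act 6 n192242 = n219780 := rfl
theorem F500592 : act 2 n219780 = n194091 := d3_1 D219780 (iv6 D194091) F386179
theorem F500593 : act 3 n219780 = n216464 := d7_1 D219780 (iv6 D216464) F386182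
theorem F500594 : act 5 n219780 = n217049 := d12_1 D219780 (iv6 D217049) (iv5 D186708) D186709 (iv5 F386178)
theorem F500595 : act 0 n219356 = n219780 := d21_7 F367255 (iv1 D100152) (iv5 F136766) D186731 F384098 (iv6 F456656) (iv5 F498444) F500594 (iv6 D217049) (iv1 F367758)
theorem F500596 : act 0 n219780 = n215592 := d21_7 F383801 F361819 (iv5 F221116) (iv6 F357369) (iv1 F367757) D217049 (iv5 F500594) F480680 (iv6 D210223) F383803
def n219781 : Q := act 3 n192243
theorem D219781 : act 3 n192243 = n219781 := rfl
theorem F500597 : act 5 n219781 = n211763 := d6_2 (iv5 F386184) D219781 F462992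
theorem F500598 : act 7 n219781 = n211762 := d8_2 (iv7 F386185) D219781 F462991
def n219782 : Q := act 6 n192243
theorem D219782 : act 6 n192243 = n219782 := rfl
theorem F500599 : act 2 n219782 = n213939 := d3_1 D219782 (iv6 D213939) (iv2 F386183)
theorem F500600 : act 4 n219782 = n192244 := d10_1 D219782 (iv6 D192244) D192243
theorem F500601 : act 0 n219782 = n216609 := d20_1 (iv4 F500600) (iv4 D216609) F455085 (iv1 F498487) F498482 F382917 (iv1 F390228) (iv4 F390232) D219376 F498557
theorem F500602 : act 1 n219782 = n216611 := d15_1 (iv0 F500601) (iv7 F485384) F485383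
def n219783 : Q := act 0 n192244
theorem D219783 : act 0 n192244 = n219783 := rfl
theorem F500603 : act 4 n219783 = n216656 := d20_0 (iv1 D216656) F287494 (iv3 D88238) (iv1 F135153) D185070 D216634 F485283 (iv4 F484307) F484306 D219783
theorem F500604 : act 6 n219783 = n217513 := d21_5 (iv5 D46674) D46672 D99927 D192244 D219783 F489261 (iv1 F415449) F372386 (iv6 F372389) (iv1 D99935)
theorem F500605 : act 2 n194102 = n219783 := d15_3 (iv0 D219783) (iv0 F498557) F498556
theorem F500606 : act 3 n219783 = n216465 := d0_2 D194102 F500605 (iv2 F484504) (iv3 F390255) (iv2 F390235)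
theorem F500607 : act 7 n219783 = n216794 := d4_2 F498556 F500605 (iv2 F498555)
theorem F500608 : act 1 n219776 = n216794 := d15_1 (iv0 F500573) (iv7 F500607) (iv2 F500605)
def n219784 : Q := act 5 n192244
theorem D219784 : act 5 n192244 = n219784 := rfl
theorem F500609 : act 2 n219784 = n216239 := d2_1 D219784 (iv5 F500572) F500569
theorem F500610 : act 3 n219784 = n219436 := d6_1 D219784 F498877 F484306
theorem F500611 : act 6 n219784 = n192245 := d12_2 D192244 D219784 (iv5 D192245) (iv6 D99928) D99927
def n219785 : Q := act 7 n192244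
theorem D219785 : act 7 n192244 = n219785 := rfl
theorem F500612 : act 1 n216794 = n219785 := d15_1 F500608 (iv7 D219785) (iv2 F500569)
theorem F500613 : act 1 n219785 = n194102 := d15_1 F500612 (iv7 F498556) F498555
def n219786 : Q := act 4 n192245
theorem D219786 : act 4 n192245 = n219786 := rfl
theorem F500614 : act 2 n219786 = n216989 := d1_1 D219786 (iv4 D216989) (iv2 F386191)
theorem F500615 : act 7 n219786 = n216987 := d11_2 (iv7 F386193) D219786 (iv4 D216987)
theorem F500616 : act 0 n219786 = n216615 := d18_2 (iv1 F386195) D219786 (iv4 D216615) (iv5 F337275) (iv4 F251900) F364170 F367432 F367429 (iv5 F367448)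
theorem F500617 : act 1 n219786 = n216617 := d18_6 (iv1 F287418) D185052 F386176 F386173 D192245 D219786 (iv4 D216617) F287441 (iv5 F287416)
def n219787 : Q := act 1 n192246
theorem D219787 : act 1 n192246 = n219787 := rfl
theorem F500618 : act 7 n219787 = n216783 := d15_2 (iv0 F500328) D219787 (iv2 F489283)
theorem F500619 : act 5 n219787 = n213008 := d17_7 (iv1 F459664) (iv5 D210993) F354205 (iv5 F412826) F422744 (iv5 F386196) D219787 F471813 (iv4 D213727)
theorem F500620 : act 4 n219787 = n202405 := d17_9 F423884 (iv5 D202302) F359959 (iv5 F469584) (iv4 F489293) (iv5 D217519) (iv0 F450146) (iv5 F386196) D219787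
theorem F500621 : act 6 n213010 = n219787 := d21_3 (iv5 F444454) F444456 D213010 (iv1 D219787) (iv6 D192246) (iv5 D99932) (iv1 D46673) D46674 (iv6 F151873) D191499
theorem F500622 : act 2 n219787 = n194130 := d3_1 F500621 (iv6 F451474) (iv2 F468579)
theorem F500623 : act 3 n219787 = n216766 := d7_1 F500621 (iv6 F485848) (iv3 F468580)
def n219788 : Q := act 7 n192246
theorem D219788 : act 7 n192246 = n219788 := rfl
theorem F500624 : act 3 n219788 = n216800 := d8_1 D219788 F495175 F495171
theorem F500625 : act 4 n219788 = n213198 := d11_1 D219788 F469412 (iv4 F422743)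
theorem F500626 : act 5 n219788 = n213732 := d13_1 D219788 F471831 (iv5 F386196)
theorem F500627 : act 1 n194130 = n219788 := d15_1 (iv0 F500578) (iv7 D219788) (iv2 F500574)
theorem F500628 : act 1 n219788 = n216783 := d15_1 F500627 (iv7 F500618) F500622
def n219789 : Q := act 6 n192247
theorem D219789 : act 6 n192247 = n219789 := rfl
theorem F500629 : act 2 n219789 = n210628 := d3_1 D219789 (iv6 F458259) (iv2 F428220)
theorem F500630 : act 3 n219789 = n192249 := d7_1 D219789 (iv6 D192249) D192247
theorem F500631 : act 4 n219789 = n216436 := d10_1 D219789 (iv6 D216436) (iv4 F386197)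
theorem F500632 : act 7 n219789 = n210629 := d14_2 (iv7 F428211) D219789 (iv6 F458263) (iv7 F480541) F480540
theorem F500633 : act 0 n219789 = n210631 := d21_10 F458267 (iv1 F458211) (iv5 F484312) (iv6 D216423) (iv1 F456705) F456709 F390537 (iv1 F484279) F484277 D219789
theorem F500634 : act 1 n219789 = n210613 := d15_0 (iv0 F458217) F458260 (iv2 F500629)
def n219790 : Q := act 3 n192248
theorem D219790 : act 3 n192248 = n219790 := rfl
theorem F500635 : act 2 n219790 = n210412 := d0_1 D219790 (iv3 D210412) (iv2 F411464) F411465 (iv2 F386199)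
theorem F500636 : act 4 n219790 = n216434 := d5_2 D192248 D219790 (iv3 D216434) (iv4 F386197) (iv3 D192247)
theorem F500637 : act 6 n219790 = n213190 := d7_2 F463019 D219790 (iv3 F473074)
theorem F500638 : act 7 n219790 = n213941 := d8_2 (iv7 F386200) D219790 (iv3 D213941)
def n219791 : Q := act 0 n192249
theorem D219791 : act 0 n192249 = n219791 := rfl
theorem F500639 : act 4 n219791 = n213235 := d18_1 D219791 (iv1 F473067) (iv4 F364089) F411814 F411812 D213997 (iv4 F482181) F491029 F491027
theorem F500640 : act 2 n219675 = n219791 := d15_3 (iv0 D219791) (iv0 F473073) (iv7 F499989)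
theorem F500641 : act 3 n219791 = n216593 := d0_2 D219675 F500640 (iv2 F485106) (iv3 D192822) (iv2 F385103)
theorem F500642 : act 7 n219791 = n213116 := d4_2 (iv7 F499989) F500640 (iv2 F473069)
theorem F500643 : act 1 n215939 = n219791 := d15_1 (iv0 F482185) F500642 (iv2 F473069)
theorem F500644 : act 6 n216699 = n219791 := d7_0 F500641 F485105 D216699
def n219792 : Q := act 7 n192249
theorem D219792 : act 7 n192249 = n219792 := rfl
theorem F500645 : act 2 n219792 = n215939 := d4_1 D219792 (iv7 F500584) F500580
theorem F500646 : act 3 n219792 = n210629 := d8_1 D219792 (iv7 F500632) F500630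
theorem F500647 : act 5 n219792 = n214165 := d13_1 D219792 (iv7 F491028) F491027
theorem F500648 : act 6 n219792 = n215563 := d14_1 D219792 F480518 F391051 F383395 D192249
theorem F500649 : act 1 n213116 = n219792 := d15_1 (iv0 F500585) (iv7 D219792) (iv2 F500580)
theorem F500650 : act 1 n219792 = n219675 := d15_1 F500649 F499989 F473069
def n219793 : Q := act 1 n192252
theorem D219793 : act 1 n192252 = n219793 := rfl
theorem F500651 : act 1 n219793 = n213251 := d15_1 D219793 (iv7 F500591) F500587
theorem F500652 : act 3 n216727 = n219793 := d19_19 (iv1 D219793) F386212 (iv4 F380200) (iv3 D190581) (iv1 F158981) F345143 (iv4 D91362) D91361 F340062 (iv5 D87986) D87985 (iv3 F155908) (iv1 F235268) (iv5 F464185) F464184 F387606 (iv1 F385003) D219665 F499931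
def n219794 : Q := act 4 n192258
theorem D219794 : act 4 n192258 = n219794 := rfl
theorem F500653 : act 3 n219794 = n213935 := d5_1 D219794 (iv4 F481456) (iv3 D215761) (iv4 F471163) F471164
theorem F500654 : act 5 n219794 = n202017 := d9_2 F411907 D219794 F422713 F415336 (iv4 D133322) F184895 (iv4 F426818) F426821 F426822 (iv5 D202214) F179775 D198860 F409607 D203284 F427664
theorem F500655 : act 7 n219794 = n202016 := d11_2 (iv7 F484349) D219794 (iv4 F484346)
theorem F500656 : act 1 n219794 = n212435 := d18_6 F433927 (iv4 F427039) F427665 F427664 F411907 D219794 (iv4 D212435) F458703 F458702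
def n219795 : Q := act 3 n192262
theorem D219795 : act 3 n192262 = n219795 := rfl
theorem F500657 : act 4 n219795 = n203389 := d5_2 F498516 D219795 F428121 (iv4 F428059) (iv3 F498517)
theorem F500658 : act 5 n219795 = n192490 := d6_2 F499994 D219795 (iv3 F499991)
theorem F500659 : act 6 n219795 = n216715 := d7_2 (iv6 F387617) D219795 (iv3 F485598)
theorem F500660 : act 0 n219795 = n219689 := d19_4 F492425 (iv5 F498515) F498516 D219795 (iv5 D219689) (iv4 D192023) F157324 (iv1 F74388) F62344 F293487 (iv3 D20087) F292293 F291443 (iv4 F31757) (iv3 F65148) (iv1 F67976) D92584 D188623 D218157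
theorem F500661 : act 0 n192561 = n219795 := d20_1 F500067 F500657 F428121 (iv1 F251016) F352731 (iv4 F382957) D219369 F498516 D219795 F500660
def n219796 : Q := act 3 n192264
theorem D219796 : act 3 n192264 = n219796 := rfl
theorem F500662 : act 2 n219796 = n198132 := d0_1 D219796 (iv3 F463640) F463639 (iv3 D192272) (iv2 F386237)
theorem F500663 : act 4 n219796 = n197745 := d5_2 D192264 D219796 F406878 F389336 F371264
theorem F500664 : act 6 n219796 = n197751 := d7_2 F498963 D219796 (iv3 F498961)
theorem F500665 : act 7 n219796 = n213895 := d8_2 F500317 D219796 (iv3 F500320)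
theorem F500666 : act 0 n219796 = n213894 := d20_4 (iv4 D218610) F377073 D192264 D219796 F472618 F400630 D213843 (iv4 F472357) (iv3 F472358) (iv1 F494749)
theorem F500667 : act 0 n213897 = n219796 := d20_4 F167084 (iv1 F111077) (iv4 F245171) (iv3 F472626) (iv3 D219796) (iv4 D192264) (iv1 F385833) F385837 F167077 D108066
def n219797 : Q := act 5 n192265
theorem D219797 : act 5 n192265 = n219797 := rfl
theorem F500668 : act 2 n219797 = n210184 := d2_1 D219797 F456490 (iv2 F386239)
theorem F500669 : act 3 n219797 = n196602 := d6_1 D219797 (iv5 F497641) F497639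
theorem F500670 : act 4 n219797 = n212176 := d9_1 D219797 F464624 F395198 (iv5 D190684) (iv4 F148358) (iv5 F328548) (iv4 F100627) D137810 D210183 F456483 (iv4 D189866) (iv5 D95349) (iv4 F73785) D99947 D192265
theorem F500671 : act 6 n219797 = n212175 := d12_2 (iv6 F423220) D219797 F464621 (iv6 D202201) D202200
theorem F500672 : act 7 n219797 = n194742 := d13_2 (iv7 F386240) D219797 (iv5 D194742)
theorem F500673 : act 0 n219797 = n210182 := d17_2 F386242 D219797 (iv5 F500167) (iv4 D219706) (iv5 D192072) (iv0 D99632) D99635 D192076 (iv4 F385447)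
theorem F500674 : act 1 n219797 = n210181 := d17_6 (iv1 D99952) (iv5 D46684) D46682 D99947 D192265 D219797 (iv5 F500038) F500040 (iv4 D192269)
def n219798 : Q := act 5 n192267
theorem D219798 : act 5 n192267 = n219798 := rfl
theorem F500675 : act 2 n219798 = n197273 := d2_1 D219798 (iv5 D197273) (iv2 F386249)
theorem F500676 : act 7 n219798 = n216051 := d13_2 F494747 D219798 (iv5 F494745)
def n219799 : Q := act 1 n192272
theorem D219799 : act 1 n192272 = n219799 := rfl
theorem F500677 : act 1 n219799 = n216523 := d15_1 D219799 F484804 F463639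
theorem F500678 : act 7 n219799 = n193713 := d15_2 F496308 D219799 (iv2 F496302)
theorem F500679 : act 5 n219799 = n205025 := d17_7 F340750 (iv5 D169822) (iv1 D81439) D81440 D169826 F386261 D219799 (iv0 F434672) F425459
theorem F500680 : act 4 n219799 = n193714 := d17_9 (iv1 F443715) F443712 (iv1 D155963) F110939 (iv4 F162242) D195519 F427304 F386261 D219799
theorem F500681 : act 2 n194304 = n219799 := d1_3 F500680 F390762 D194304
def n219800 : Q := act 6 n192275
theorem D219800 : act 6 n192275 = n219800 := rfl
theorem F500682 : act 2 n219800 = n211977 := d3_1 D219800 F463810 F414381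
theorem F500683 : act 3 n219800 = n211768 := d7_1 D219800 (iv6 F463027) F386272
theorem F500684 : act 7 n219800 = n211777 := d14_2 F414384 D219800 F463055 F403798 (iv6 F414386)
theorem F500685 : act 0 n219800 = n219724 := d21_4 F391450 F380542 (iv5 F386271) D219800 F500274 F452672 (iv1 F440644) F415818 F390454 (iv1 F391452)
def n219801 : Q := act 3 n192277
theorem D219801 : act 3 n192277 = n219801 := rfl
theorem F500686 : act 4 n219801 = n219652 := d5_2 D192277 D219801 F499857 (iv4 D217286) F369185
theorem F500687 : act 7 n219801 = n215927 := d8_2 F433549 D219801 F482125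
def n219802 : Q := act 5 n192277
theorem D219802 : act 5 n192277 = n219802 := rfl
theorem F500688 : act 4 n219802 = n215805 := d9_1 D219802 (iv5 D215805) F362118 (iv5 F137187) F137186 D89545 D187105 (iv5 F467298) (iv4 F481648) (iv5 D215807) F336770 D185215 F336768 F195850 D192277
theorem F500689 : act 7 n219802 = n216689 := d13_2 F433549 D219802 F485483
theorem F500690 : act 0 n219802 = n219760 := d17_2 (iv1 F488268) D219802 (iv5 D219760) F385983 F290103 F290105 (iv5 F356436) F386042 (iv4 F488266)
theorem F500691 : act 1 n219802 = n219759 := d17_6 D99847 (iv5 F343260) F356403 F195850 D192277 D219802 (iv5 D219759) (iv0 D192202) (iv4 D99849)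
def n219803 : Q := act 6 n192277
theorem D219803 : act 6 n192277 = n219803 := rfl
theorem F500692 : act 4 n219803 = n192278 := d10_1 D219803 (iv6 D192278) D192277
theorem F500693 : act 0 n219803 = n209774 := d21_4 D219759 (iv1 F500691) (iv5 D219802) D219803 (iv6 D209774) (iv5 F400309) F400310 (iv5 D136173) (iv6 F333135) D192202
theorem F500694 : act 5 n215833 = n219803 := d21_2 (iv5 D215835) D215833 (iv6 D219803) F386273 (iv6 F288747) (iv5 F409165) F423964 F423962 D214779 F481736
theorem F500695 : act 1 n219803 = n213929 := d17_6 (iv1 D185073) F337960 D216223 F483407 F484454 F500694 F472777 (iv0 F485301) (iv4 D216639)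
def n219804 : Q := act 3 n192279
theorem D219804 : act 3 n192279 = n219804 := rfl
theorem F500696 : act 6 n219804 = n209092 := d7_2 F404210 D219804 (iv3 D209092)
def n219805 : Q := act 5 n192279
theorem D219805 : act 5 n192279 = n219805 := rfl
theorem F500697 : act 4 n219805 = n215803 := d9_1 D219805 (iv5 D215803) (iv4 D177892) F335645 (iv4 F137168) (iv5 F137169) D101432 D193281 (iv4 F481633) (iv5 D215801) (iv4 D177889) F277423 (iv4 F394019) F394022 (iv4 F386275)
theorem F500698 : act 0 n219805 = n216731 := d17_2 D192279 D219805 F485670 (iv4 D192199) (iv5 F343260) (iv0 D89542) D89545 F343265 D99972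
theorem F500699 : act 1 n219805 = n219756 := d17_6 D193144 F388907 F394023 F394022 (iv4 F386275) D219805 (iv5 D219756) (iv0 F388913) (iv4 D193145)
def n219806 : Q := act 0 n192280
theorem D219806 : act 0 n192280 = n219806 := rfl
theorem F500700 : act 5 n219806 = n193872 := d17_1 D219806 (iv1 D193872) D193873 (iv4 F485480) F485478 F391140 (iv5 F391307) (iv0 F449642) F449640
theorem F500701 : act 4 n219806 = n215796 := d18_1 D219806 (iv1 F485020) (iv4 F500503) F500502 (iv4 D193248) F386036 (iv4 F386275) (iv0 D192279) D192280
theorem F500702 : act 1 n193867 = n219806 := d15_0 (iv0 D219806) (iv7 F468797) F468794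
theorem F500703 : act 7 n219806 = n201943 := d15_2 (iv0 F391255) F500702 F422479
def n219807 : Q := act 6 n192287
theorem D219807 : act 6 n192287 = n219807 := rfl
theorem F500704 : act 2 n219807 = n192290 := d3_1 D219807 (iv6 D192290) (iv2 F386312)
theorem F500705 : act 3 n219807 = n192978 := d7_1 D219807 (iv6 D192978) (iv3 F386313)
theorem F500706 : act 4 n219807 = n211604 := d10_1 D219807 F462344 F453903
theorem F500707 : act 7 n219807 = n210251 := d14_2 (iv7 F386314) D219807 (iv6 D210251) (iv7 D138027) D138026
theorem F500708 : act 0 n204254 = n219807 := d21_4 (iv5 D57365) D57363 D123234 D204254 (iv6 D219807) (iv5 D192287) (iv1 F157747) D191266 F382820 (iv1 D123242)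
theorem F500709 : act 1 n211624 = n219807 := d15_0 (iv0 F500708) (iv7 F460472) F462435
def n219808 : Q := act 1 n192290
theorem D219808 : act 1 n192290 = n219808 := rfl
theorem F500710 : act 1 n219808 = n210251 := d15_1 D219808 (iv7 F500707) F500704
theorem F500711 : act 7 n219808 = n211624 := d15_2 (iv0 F460473) D219808 (iv2 F462435)
theorem F500712 : act 4 n211679 = n219808 := d20_0 (iv1 D219808) F386321 (iv3 F365486) (iv1 F219631) (iv3 F221430) (iv4 F456977) (iv1 F456981) (iv4 F479480) (iv3 F500383) F500387
theorem F500713 : act 6 n204247 = n219808 := d21_3 (iv5 D123225) D123223 D204247 (iv1 D219808) (iv6 D192290) (iv5 D100017) F157775 D99521 (iv6 F268486) F351963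
theorem F500714 : act 2 n219808 = n204254 := d3_1 F500713 (iv6 D204254) (iv2 F431657)
theorem F500715 : act 5 n219808 = n204116 := d12_1 F500713 (iv6 D204116) (iv5 F361503) F361498 D204247
theorem F500716 : act 0 n204116 = n214112 := d21_1 F500715 (iv5 D214112) F246029 (iv1 F458211) (iv6 F458213) F427116 (iv1 F221237) (iv5 F221291) D210251 (iv1 F500710)
def n219809 : Q := act 5 n192290
theorem D219809 : act 5 n192290 = n219809 := rfl
theorem F500717 : act 3 n219809 = n192296 := d6_1 D219809 (iv5 D192296) (iv3 F386320)
theorem F500718 : act 6 n219809 = n192292 := d12_2 D192290 D219809 (iv5 D192292) (iv6 D100018) D100017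
theorem F500719 : act 7 n219809 = n211625 := d13_2 (iv7 F386322) D219809 (iv5 D211625)
theorem F500720 : act 0 n219809 = n209757 := d21_1 D219809 (iv5 F454842) (iv6 F454843) (iv1 F245977) F329208 (iv5 D123225) D123223 D204247 F500713 (iv1 D219808)
def n219810 : Q := act 4 n192296
theorem D219810 : act 4 n192296 = n219810 := rfl
theorem F500721 : act 2 n219810 = n214117 := d1_1 D219810 (iv4 D214117) (iv2 F386346)
theorem F500722 : act 6 n219810 = n192297 := d10_2 (iv6 F386347) D219810 (iv4 D192297)
theorem F500723 : act 7 n219810 = n214115 := d11_2 (iv7 F386348) D219810 (iv4 D214115)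
theorem F500724 : act 0 n219810 = n208336 := d17_0 F449376 (iv1 D208442) D208444 F449380 F222670 (iv0 F103415) D111213 (iv0 F386349) D219810
theorem F500725 : act 1 n219810 = n210598 := d18_6 F362316 (iv4 F332919) F386345 F386342 D192296 D219810 (iv4 D210598) F448955 F448953
theorem F500726 : act 3 n216041 = n219810 := d20_5 (iv4 D167442) F123439 D85883 D179826 D216041 (iv4 D219810) F386349 D199346 F411794 (iv1 F304437)
def n219811 : Q := act 0 n192299
theorem D219811 : act 0 n192299 = n219811 := rfl
theorem F500727 : act 5 n219811 = n205054 := d17_3 (iv1 D192298) D192299 D219811 (iv4 D205054) (iv5 D125357) F201455 F341200 F353881 F386354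
theorem F500728 : act 3 n219811 = n213297 := d20_5 F444678 (iv1 F449750) F449749 (iv3 F386358) D219811 (iv4 F498665) (iv1 F498667) F389897 (iv3 F431018) F444680
theorem F500729 : act 2 n192305 = n219811 := d0_5 F500728 F483794 (iv3 F483797) (iv2 F430718) F386371
theorem F500730 : act 7 n192306 = n219811 := d8_0 F500728 (iv7 F480346) F480345
theorem F500731 : act 0 n219811 = n192308 := d19_4 F412756 (iv5 F498664) F498665 (iv3 F500728) F386375 F302450 (iv3 F249086) F353879 F353999 (iv4 F435688) F435687 (iv1 F358186) (iv5 F358175) F211189 F164598 F98702 F98699 D65440 D139430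
def n219812 : Q := act 1 n192299
theorem D219812 : act 1 n192299 = n219812 := rfl
theorem F500732 : act 1 n219812 = n192308 := d15_1 D219812 (iv7 D192308) (iv2 F386357)
theorem F500733 : act 7 n219812 = n192305 := d15_2 (iv0 D219811) D219812 F500729
theorem F500734 : act 5 n219812 = n203145 := d17_7 F357796 (iv5 F151594) F357801 (iv5 D172552) (iv4 F312611) D192299 D219812 (iv0 F427156) F271968
theorem F500735 : act 2 n192306 = n219812 := d2_3 F500734 (iv2 F427157) F386372
theorem F500736 : act 3 n203146 = n219812 := d6_3 F500734 (iv3 D203145) D203146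
def n219813 : Q := act 4 n192299
theorem D219813 : act 4 n192299 = n219813 := rfl
theorem F500737 : act 2 n219813 = n192307 := d1_1 D219813 (iv4 D192307) (iv2 F386357)
theorem F500738 : act 6 n219813 = n216210 := d10_2 (iv6 F386359) D219813 F483386
theorem F500739 : act 0 n219813 = n216169 := d18_2 (iv1 D219812) D219813 (iv4 D216169) (iv5 F389105) F389104 F333745 (iv4 F384505) (iv0 F427155) (iv5 F500734)
theorem F500740 : act 1 n219813 = n216046 := d18_6 F302432 F301011 D82606 (iv4 F312611) D192299 D219813 (iv4 D216046) (iv0 F429458) (iv5 D203701)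
def n219814 : Q := act 7 n192299
theorem D219814 : act 7 n192299 = n219814 := rfl
theorem F500741 : act 2 n219814 = n192308 := d4_1 D219814 (iv7 D192308) (iv2 F386357)
theorem F500742 : act 3 n219814 = n213288 := d8_1 D219814 F469740 (iv3 F386358)
theorem F500743 : act 5 n219814 = n192300 := d13_1 D219814 (iv7 D192300) D192299
theorem F500744 : act 1 n192306 = n219814 := d15_1 D192306 (iv7 D219814) F386357
theorem F500745 : act 1 n219814 = n192305 := d15_1 F500744 (iv7 F500733) (iv2 F500735)
def n219815 : Q := act 4 n192301
theorem D219815 : act 4 n192301 = n219815 := rfl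
def n219816 : Q := act 6 n192301
theorem D219816 : act 6 n192301 = n219816 := rfl
theorem F500746 : act 3 n219816 = n204111 := d7_1 D219816 (iv6 D204111) (iv3 F386366)
def n219817 : Q := act 4 n192303
theorem D219817 : act 4 n192303 = n219817 := rfl
def n219818 : Q := act 4 n192305
theorem D219818 : act 4 n192305 = n219818 := rfl
theorem F500747 : act 1 n219818 = n216559 := d18_6 (iv1 F357880) F217608 F330178 D125360 (iv5 F386370) D219818 (iv4 D216559) (iv0 F286393) (iv5 D179881)
def n219819 : Q := act 6 n192305
theorem D219819 : act 6 n192305 = n219819 := rfl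
theorem F500748 : act 3 n219819 = n204116 := d7_1 D219819 (iv6 D204116) F386371
def n219820 : Q := act 4 n192306
theorem D219820 : act 4 n192306 = n219820 := rfl
theorem F500749 : act 5 n219820 = n204688 := d16_1 D219820 (iv4 D204688) (iv5 D124224) F91636 D58702 D125360 (iv5 F386370) (iv7 F500733) (iv2 F500735)
theorem F500750 : act 0 n219820 = n216559 := d18_2 (iv1 F500744) D219820 (iv4 D216559) (iv5 D184476) (iv4 F330649) F339282 F354006 F386364 (iv5 F500743)
def n219821 : Q := act 6 n192306
theorem D219821 : act 6 n192306 = n219821 := rfl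
theorem F500751 : act 3 n219821 = n218228 := d7_1 D219821 F492839 F480345
def n219822 : Q := act 0 n192307
theorem D219822 : act 0 n192307 = n219822 := rfl
theorem F500752 : act 4 n219822 = n203733 := d18_3 (iv1 D192306) D192307 D219822 F429589 F197594 (iv0 F351631) F348182 D191809 F386372
theorem F500753 : act 2 n216169 = n219822 := d1_3 F500752 F429588 D216169
theorem F500754 : act 7 n216046 = n219822 := d11_0 F500752 F429590 D216046
def n219823 : Q := act 1 n192307
theorem D219823 : act 1 n192307 = n219823 := rfl
theorem F500755 : act 7 n219823 = n216169 := d15_2 (iv0 D219822) D219823 F500753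
theorem F500756 : act 4 n219823 = n193184 := d18_7 F301832 F303724 (iv1 F344416) F153973 D100044 D192307 D219823 (iv0 F475970) (iv5 D214595)
theorem F500757 : act 2 n216046 = n219823 := d1_3 F500756 F389098 D216046
def n219824 : Q := act 7 n192307
theorem D219824 : act 7 n192307 = n219824 := rfl
theorem F500758 : act 4 n219824 = n192308 := d11_1 D219824 (iv7 D192308) D192307
theorem F500759 : act 6 n219824 = n197344 := d14_1 D219824 F403993 F483384 (iv7 F483385) (iv6 F386373)
theorem F500760 : act 1 n216046 = n219824 := d15_1 F500740 (iv7 D219824) (iv2 F500737)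
theorem F500761 : act 1 n219824 = n216169 := d15_1 F500760 (iv7 F500755) (iv2 F500757)
def n219825 : Q := act 6 n192308
theorem D219825 : act 6 n192308 = n219825 := rfl
theorem F500762 : act 3 n219825 = n192323 := d7_1 D219825 (iv6 D192323) (iv3 F386374)
theorem F500763 : act 4 n219825 = n197344 := d10_1 D219825 (iv6 F500759) F500758
theorem F500764 : act 5 n219825 = n214329 := d12_1 D219825 (iv6 D214329) (iv5 D158138) (iv6 F302451) (iv5 F386375)
theorem F500765 : act 7 n219825 = n216992 := d14_2 D192308 D219825 (iv6 D216992) (iv7 D186615) (iv6 F153975)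
theorem F500766 : act 0 n192320 = n219825 := d17_0 F500764 F474596 (iv5 F468028) (iv4 D197340) (iv5 D108099) D108098 D197337 (iv0 F415488) F415491
def n219826 : Q := act 7 n192312
theorem D219826 : act 7 n192312 = n219826 := rfl
theorem F500767 : act 2 n219826 = n219430 := d4_1 D219826 (iv7 D219430) (iv2 F386387)
theorem F500768 : act 3 n219826 = n204099 := d8_1 D219826 F431081 (iv3 F421394)
theorem F500769 : act 5 n219826 = n213642 := d13_1 D219826 F471421 F421392
theorem F500770 : act 6 n219826 = n217070 := d14_1 D219826 F487251 (iv6 D191448) F274656 D192312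
theorem F500771 : act 1 n219375 = n219826 := d15_1 (iv0 F498554) (iv7 D219826) F386387
theorem F500772 : act 1 n219826 = n217305 := d15_1 F500771 (iv7 F488356) (iv2 F498550)
def n219827 : Q := act 6 n192315
theorem D219827 : act 6 n192315 = n219827 := rfl
theorem F500773 : act 2 n219827 = n204019 := d3_1 D219827 (iv6 D204019) (iv2 F386395)
theorem F500774 : act 3 n219827 = n192317 := d7_1 D219827 (iv6 D192317) D192315
theorem F500775 : act 5 n219827 = n192440 := d12_1 D219827 F386723 (iv5 D154089) D154090 (iv5 F386396)
theorem F500776 : act 0 n219827 = n210692 := d21_4 (iv5 D191759) F343481 (iv5 F386396) D219827 (iv6 F458452) (iv5 D185281) (iv1 F426817) (iv5 F430724) F430722 F384370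
theorem F500777 : act 1 n219827 = n202545 := d15_1 (iv0 F500776) F424433 (iv2 F458450)
theorem F500778 : act 7 n219827 = n210690 := d15_2 F462664 (iv0 F500776) (iv2 F462660)
def n219828 : Q := act 1 n192320
theorem D219828 : act 1 n192320 = n219828 := rfl
theorem F500779 : act 4 n219828 = n197343 := d17_9 (iv1 F415499) (iv5 D200201) (iv1 D112787) D112788 D200202 (iv5 F430579) F430581 (iv5 F419908) D219828
theorem F500780 : act 5 n219828 = n215078 := d18_9 F478223 (iv4 D198913) (iv1 F353498) (iv4 F197296) D204176 F431351 (iv0 F415488) F415491 D219828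
theorem F500781 : act 3 n217179 = n219828 := d20_3 D212638 F466825 (iv4 F487814) (iv1 D219828) (iv3 D192320) (iv4 D100058) D100056 D192316 (iv3 F432469) F432473
theorem F500782 : act 6 n216983 = n219828 := d21_3 (iv5 D186608) (iv1 F367441) (iv5 F486871) (iv1 D219828) F386417 (iv5 F374655) F383999 D191638 F383992 F371246
theorem F500783 : act 2 n219828 = n216992 := d3_1 F500782 (iv6 D216992) (iv2 F486868)
def n219829 : Q := act 2 n192320
theorem D219829 : act 2 n192320 = n219829 := rfl
theorem F500784 : act 3 n219829 = n204103 := d0_2 D192320 D219829 F456756 (iv3 D191452) (iv2 F153982)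
theorem F500785 : act 5 n219829 = n203960 := d2_2 (iv5 F419908) D219829 (iv2 F430597)
theorem F500786 : act 6 n219829 = n216995 := d3_2 (iv6 F386417) D219829 (iv2 D216995)
theorem F500787 : act 0 n216992 = n219829 := d21_4 (iv5 D216980) F367428 (iv5 F367448) D216992 F500786 (iv5 F492731) (iv1 F492735) D219513 F499240 (iv1 F486857)
def n219830 : Q := act 7 n192320
theorem D219830 : act 7 n192320 = n219830 := rfl
theorem F500788 : act 3 n219830 = n192322 := d8_1 D219830 (iv7 D192322) D192320
theorem F500789 : act 5 n219830 = n203959 := d13_1 D219830 (iv7 F430593) (iv5 F419908)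
theorem F500790 : act 1 n216992 = n219830 := d15_1 (iv0 F500787) (iv7 D219830) D219829
def n219831 : Q := act 6 n192322
theorem D219831 : act 6 n192322 = n219831 := rfl
theorem F500791 : act 2 n219831 = n216171 := d3_1 D219831 (iv6 F483279) (iv2 F386421)
theorem F500792 : act 4 n219831 = n192323 := d10_1 D219831 (iv6 D192323) (iv4 F386422)
theorem F500793 : act 7 n219831 = n216172 := d14_2 D192322 D219831 F483283 (iv7 D186617) (iv6 F153983)
theorem F500794 : act 5 n219831 = n218355 := d21_6 (iv5 D216312) (iv1 F354031) D213295 F469779 (iv1 F386424) D219831 (iv1 F493476) F484659 F483608 (iv1 F483785)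
theorem F500795 : act 0 n216173 = n219831 := d21_4 (iv5 D216461) F483460 (iv5 D216244) (iv6 F483284) (iv6 D219831) (iv5 F488509) (iv1 D217337) (iv5 F388124) F388122 (iv1 F484489)
theorem F500796 : act 1 n214233 = n219831 := d15_0 (iv0 F500795) (iv7 F487896) F487895
def n219832 : Q := act 4 n192329
theorem D219832 : act 4 n192329 = n219832 := rfl
theorem F500797 : act 2 n219832 = n192332 := d1_1 D219832 (iv4 D192332) (iv2 F386454)
theorem F500798 : act 0 n219832 = n213541 := d17_0 F470937 (iv1 D202354) (iv5 F245548) (iv4 F342229) F342230 F314197 D215371 F479631 D219832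
theorem F500799 : act 1 n219832 = n204267 := d18_6 (iv1 D122375) (iv4 F195723) F386451 (iv4 D192328) D192329 D219832 (iv4 D204267) (iv0 F430744) (iv5 D203993)
def n219833 : Q := act 6 n192329
theorem D219833 : act 6 n192329 = n219833 := rfl
theorem F500800 : act 2 n219833 = n192333 := d3_1 D219833 (iv6 D192333) (iv2 F386454)
theorem F500801 : act 3 n219833 = n210570 := d7_1 D219833 F458076 (iv3 F386455)
theorem F500802 : act 5 n219833 = n208933 := d12_1 D219833 (iv6 D208933) (iv5 D135413) (iv6 F323428) D192329
theorem F500803 : act 0 n194010 = n219833 := d21_1 F486496 F500802 (iv6 D208933) D208932 (iv6 F451469) (iv5 D186285) (iv1 D88736) D88738 D186291 D216907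
theorem F500804 : act 4 n219833 = n201922 := d20_0 (iv1 F422393) (iv4 F423613) F423612 (iv1 F375990) (iv3 F385862) (iv4 D192173) (iv1 F153689) D102586 D194010 F500803
theorem F500805 : act 6 n201922 = n219832 := d10_2 D219833 F500804 (iv4 D219832)
def n219834 : Q := act 4 n192330
theorem D219834 : act 4 n192330 = n219834 := rfl
theorem F500806 : act 3 n219834 = n202754 := d5_1 D219834 (iv4 D202754) F391792 (iv4 F391793) F386457
theorem F500807 : act 6 n219834 = n215935 := d10_2 F460475 D219834 F482168
theorem F500808 : act 7 n219834 = n211683 := d11_2 F474873 D219834 (iv4 F474876)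
theorem F500809 : act 5 n219834 = n202005 := d16_1 D219834 F423794 F423790 F250112 D159284 (iv4 F342349) (iv5 F386458) (iv7 F479629) F479627
theorem F500810 : act 0 n219834 = n215942 := d18_2 D192330 D219834 F482190 (iv5 D203993) (iv4 F351956) (iv0 F345833) (iv4 F351958) (iv0 D100087) D100091
theorem F500811 : act 1 n219834 = n202176 := d18_6 (iv1 F345827) (iv4 F431287) (iv1 F431290) F315010 (iv5 F386456) D219834 (iv4 F430739) F430738 (iv5 D123303)
def n219835 : Q := act 3 n192331
theorem D219835 : act 3 n192331 = n219835 := rfl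
theorem F500812 : act 2 n219835 = n204252 := d0_1 D219835 F431681 (iv2 F431657) (iv3 F474872) F474871
theorem F500813 : act 5 n219835 = n204251 := d6_2 (iv5 F386458) D219835 F431676
theorem F500814 : act 7 n219835 = n204911 := d8_2 F479629 D219835 (iv3 F479628)
theorem F500815 : act 4 n204899 = n219835 := d19_2 (iv1 F302201) D204899 (iv3 D219835) (iv1 D192331) (iv5 D100091) D100090 F323429 D133044 F351974 (iv4 F358102) (iv3 F377950) D218674 F495091 F395704 (iv3 F395686) (iv1 F436822) F436820 (iv4 D200726) F357440
theorem F500816 : act 0 n219835 = n194694 := d17_0 (iv5 D194694) F335242 (iv5 F431697) F431700 F356125 (iv0 F298043) D162704 (iv0 F434068) F500815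
theorem F500817 : act 1 n219835 = n215128 := d18_6 F300440 (iv4 D75788) (iv1 F117727) (iv4 F199398) D204899 F500815 (iv4 D215128) F262372 (iv5 D121055)
theorem F500818 : act 6 n219835 = n216548 := d21_3 F424500 (iv1 F431679) (iv5 F500813) (iv1 D216548) (iv6 D184322) (iv5 D87913) (iv1 F157774) D183920 (iv6 F356147) F424503
theorem F500819 : act 3 n216548 = n217876 := d7_1 F500818 (iv6 F491039) D219835
def n219836 : Q := act 4 n192331
theorem D219836 : act 4 n192331 = n219836 := rfl
theorem F500820 : act 2 n219836 = n211683 := d1_1 D219836 (iv4 F474876) F474871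
theorem F500821 : act 5 n219836 = n202172 := d9_2 (iv5 F386458) D219836 (iv4 F423117) F392449 F250036 (iv5 F248237) F315010 (iv5 F386456) D219834 F500809 F423794 F423790 F250112 D159284 (iv4 F342349)
theorem F500822 : act 0 n219836 = n202176 := d18_2 F499807 D219836 (iv4 F430739) (iv5 D203992) F318365 D152172 F357446 F384783 D219641
theorem F500823 : act 1 n219836 = n215942 := d18_6 (iv1 F345825) (iv4 F262763) F345804 (iv4 F342349) (iv5 F386458) D219836 F482190 (iv0 F430746) (iv5 D154146)
def n219837 : Q := act 3 n192332
theorem D219837 : act 3 n192332 = n219837 := rfl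
theorem F500824 : act 4 n219837 = n192344 := d5_2 D192332 D219837 (iv3 D192344) (iv4 D100102) (iv3 F154027)
theorem F500825 : act 7 n219837 = n204624 := d8_2 (iv7 F473060) D219837 (iv3 F473056)
def n219838 : Q := act 5 n192332
theorem D219838 : act 5 n192332 = n219838 := rfl
theorem F500826 : act 4 n219838 = n193951 := d16_2 D192332 D219838 (iv5 F397368) (iv4 F409443) F409445 F388774 D219641 F499806 F386454
theorem F500827 : act 0 n219838 = n210733 := d17_2 (iv1 F431298) D219838 (iv5 D210733) F222798 F339891 F195779 D193109 (iv0 F431296) F431294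
theorem F500828 : act 6 n219838 = n193950 := d21_3 D202372 (iv1 F431298) D219838 F391493 (iv6 D115644) (iv5 D53335) (iv1 D25848) D25850 D53343 D115664
def n219839 : Q := act 6 n192332
theorem D219839 : act 6 n192332 = n219839 := rfl
theorem F500829 : act 2 n219839 = n201922 := d3_1 D219839 F500805 F500797
theorem F500830 : act 4 n219839 = n192333 := d10_1 D219839 (iv6 D192333) D192332
theorem F500831 : act 7 n219839 = n201923 := d14_2 (iv7 F473060) D219839 F485888 (iv7 F473032) D214003
theorem F500832 : act 0 n201921 = n219839 := d21_4 (iv5 D66459) (iv1 F165205) (iv5 F330521) D201921 (iv6 D219839) D219838 F500827 (iv5 D210733) (iv6 D139631) (iv1 F330574)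
theorem F500833 : act 1 n201925 = n219839 := d15_0 (iv0 F500832) F422384 (iv2 F422389)
def n219840 : Q := act 1 n192333
theorem D219840 : act 1 n192333 = n219840 := rfl
theorem F500834 : act 3 n194029 = n219840 := d20_3 F424896 (iv1 F365367) (iv4 F391812) (iv1 D219840) F386459 (iv4 F386526) (iv1 F492659) (iv4 D218197) (iv3 F448505) (iv1 F448509)
theorem F500835 : act 6 n202226 = n219840 := d21_3 D211305 F461055 F444016 (iv1 D219840) (iv6 D192333) (iv5 D100091) D100087 D192327 (iv6 F424391) (iv1 F424394)
theorem F500836 : act 2 n219840 = n194010 := d3_1 F500835 (iv6 F410200) (iv2 F423313)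
theorem F500837 : act 4 n219840 = n202227 := d10_1 F500835 (iv6 D202227) (iv4 F423314)
def n219841 : Q := act 7 n192333
theorem D219841 : act 7 n192333 = n219841 := rfl
theorem F500838 : act 3 n219841 = n192347 := d8_1 D219841 (iv7 D192347) (iv3 F386459)
theorem F500839 : act 4 n219841 = n201923 := d11_1 D219841 (iv7 F500831) F500830
theorem F500840 : act 5 n219841 = n219599 := d13_1 D219841 (iv7 D219599) (iv5 F386460)
theorem F500841 : act 6 n219841 = n215937 := d14_1 D219841 (iv7 F482179) (iv6 F473054) F384789 D192333
theorem F500842 : act 1 n194010 = n219841 := d15_1 (iv0 F500803) (iv7 D219841) (iv2 F500800)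
def n219842 : Q := act 6 n192337
theorem D219842 : act 6 n192337 = n219842 := rfl
theorem F500843 : act 2 n219842 = n198875 := d3_1 D219842 F409697 (iv2 F386496)
theorem F500844 : act 4 n219842 = n192338 := d10_1 D219842 (iv6 D192338) D192337
theorem F500845 : act 5 n219842 = n200816 := d12_1 D219842 (iv6 F455479) D218286 F493118 F480417
theorem F500846 : act 7 n219842 = n200500 := d14_2 (iv7 F386497) D219842 (iv6 F466003) (iv7 F479898) (iv6 D215418)
theorem F500847 : act 0 n219842 = n194427 := d21_10 (iv5 D194427) D194425 F393141 (iv6 D175026) (iv1 D83587) (iv6 F128655) D175004 D215543 F480417 D219842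
theorem F500848 : act 1 n219842 = n200505 := d15_1 (iv0 F500847) (iv7 F416766) (iv2 F393154)
def n219843 : Q := act 0 n192344
theorem D219843 : act 0 n192344 = n219843 := rfl
theorem F500849 : act 3 n219843 = n214777 := d20_5 (iv4 D192342) (iv1 D100101) D100102 D192344 D219843 (iv4 D214777) F305461 (iv4 F388148) (iv3 D192900) (iv1 F386519)
theorem F500850 : act 4 n219843 = n202145 := d20_0 F472891 F472887 (iv3 F360029) (iv1 F223751) (iv3 F386517) (iv4 D192342) (iv1 D100101) D100102 D192344 D219843
theorem F500851 : act 1 n204655 = n219843 := d15_0 (iv0 D219843) (iv7 F394594) (iv2 F433153)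
theorem F500852 : act 6 n196385 = n219843 := d21_3 F386750 D210710 F458524 (iv1 F500851) (iv6 D204655) (iv5 D124169) (iv1 F196315) F299586 (iv6 F363361) F386752
theorem F500853 : act 5 n202158 = n219843 := d21_6 F351528 (iv1 F351533) D204299 F431936 (iv1 F458591) (iv6 F458592) (iv1 F500851) (iv5 F433749) (iv6 D204830) F351527
theorem F500854 : act 2 n219843 = n202163 := d2_1 F500853 F423094 (iv2 F423085)
theorem F500855 : act 7 n219843 = n215880 := d13_2 (iv7 F423086) F500853 (iv5 F481907)
def n219844 : Q := act 1 n192344
theorem D219844 : act 1 n192344 = n219844 := rfl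
theorem F500856 : act 7 n219844 = n202163 := d15_2 (iv0 D219843) D219844 (iv2 F500854)
theorem F500857 : act 4 n202164 = n219844 := d20_0 (iv1 D219844) (iv4 F500824) (iv3 D219837) (iv1 F423805) F423804 (iv4 F409432) F409433 F403088 (iv3 F472886) F472890
theorem F500858 : act 3 n212148 = n219844 := d20_3 (iv4 D145571) D145569 (iv4 F464494) (iv1 D219844) (iv3 D192344) (iv4 D100102) D100100 D192340 (iv3 F388149) (iv1 F351577)
theorem F500859 : act 2 n219844 = n215880 := d0_1 F500858 F481905 F278128 F350963 (iv2 F464491)
theorem F500860 : act 5 n219844 = n199820 := d6_2 D212148 F500858 F413642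
theorem F500861 : act 6 n219844 = n198030 := d7_2 (iv6 F464492) F500858 (iv3 F406563)
theorem F500862 : act 0 n204655 = n219844 := d21_4 (iv5 F299584) (iv1 F196323) D124169 D204655 F500861 F406560 F412052 F412049 (iv6 D178119) (iv1 F277641)
def n219845 : Q := act 2 n192344
theorem D219845 : act 2 n192344 = n219845 := rfl
theorem F500863 : act 7 n219845 = n204655 := d4_2 F394594 D219845 F433153
theorem F500864 : act 1 n219845 = n215880 := d15_0 (iv0 D215880) F394594 D219845
theorem F500865 : act 1 n202163 = n219845 := d15_0 F500864 (iv7 F500855) F500854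
theorem F500866 : act 6 n219845 = n204694 := d21_5 (iv5 F405671) F405672 (iv5 F341264) (iv6 F481906) (iv1 F500864) F433272 (iv1 F406278) (iv5 F470124) F470125 (iv1 F405579)
def n219846 : Q := act 5 n192344
theorem D219846 : act 5 n192344 = n219846 := rfl
theorem F500867 : act 3 n219846 = n192345 := d6_1 D219846 (iv5 D192345) D192344
theorem F500868 : act 7 n219846 = n215881 := d13_2 F394594 D219846 (iv5 D215881)
theorem F500869 : act 0 n211147 = n219846 := d19_0 (iv5 D219846) (iv4 F500824) (iv3 D219837) (iv1 F423805) (iv5 D202373) F404227 (iv3 F414282) F414285 F348127 (iv4 D66174) (iv3 D30931) (iv1 D14644) (iv5 D6994) (iv4 F11255) (iv3 F24316) D30906 D66093 D140890 D211147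
def n219847 : Q := act 6 n192344
theorem D219847 : act 6 n192344 = n219847 := rfl
theorem F500870 : act 2 n219847 = n204694 := d3_1 D219847 (iv6 F500866) (iv2 D219845)
theorem F500871 : act 3 n219847 = n192346 := d7_1 D219847 (iv6 D192346) D192344
theorem F500872 : act 7 n219847 = n204064 := d14_2 F394594 D219847 (iv6 D204064) F302318 D178089
theorem F500873 : act 5 n219847 = n204080 := d21_6 (iv5 F405569) (iv1 F406562) (iv5 F406560) (iv6 F500861) (iv1 D219844) D219847 (iv1 F431010) (iv5 F406581) (iv6 D198046) (iv1 F405567)
theorem F500874 : act 1 n202251 = n219847 := d18_8 (iv1 F431010) D204771 (iv1 F436691) F429384 F360037 (iv4 F422331) (iv0 F422334) (iv4 F423405) F500873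
theorem F500875 : act 0 n202726 = n219847 := d21_10 F500873 (iv1 F431010) (iv5 F406581) (iv6 D198046) (iv1 F405567) F406017 (iv5 F407155) (iv1 F425296) (iv5 D202725) D202726
def n219848 : Q := act 6 n192345
theorem D219848 : act 6 n192345 = n219848 := rfl
theorem F500876 : act 2 n219848 = n215453 := d3_1 D219848 (iv6 F480067) (iv2 F388207)
theorem F500877 : act 4 n219848 = n213693 := d10_1 D219848 (iv6 F480428) F480425
theorem F500878 : act 7 n219848 = n215452 := d14_2 F388209 D219848 F480061 F400814 (iv6 F390081)
theorem F500879 : act 0 n219848 = n215454 := d21_4 (iv5 F386524) (iv1 D192343) D192345 D219848 F480070 F400716 (iv1 D187815) D187817 (iv6 F388189) F388180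
theorem F500880 : act 1 n219848 = n215328 := d15_1 (iv0 F500879) F479423 D215454
def n219849 : Q := act 5 n192346
theorem D219849 : act 5 n192346 = n219849 := rfl
theorem F500881 : act 3 n219849 = n204080 := d6_1 D219849 (iv5 F500873) F500871
theorem F500882 : act 7 n219849 = n204078 := d13_2 F493493 D219849 F493496
theorem F500883 : act 0 n219849 = n218326 := d17_2 (iv1 F400433) D219849 (iv5 D218326) (iv4 D189065) D189066 (iv0 F375629) (iv5 F385046) F385048 (iv4 F400431)
theorem F500884 : act 1 n219849 = n218331 := d17_6 F374448 F384551 (iv1 D191830) (iv5 F154038) (iv4 F386526) D219849 (iv5 D218331) F386786 F386785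
def n219850 : Q := act 4 n192350
theorem D219850 : act 4 n192350 = n219850 := rfl
theorem F500885 : act 2 n219850 = n192355 := d1_1 D219850 (iv4 D192355) (iv2 F386539)
theorem F500886 : act 5 n219850 = n210567 := d9_2 D192350 D219850 F458063 F408015 (iv4 F404605) F404603 (iv4 F311804) D191899 D219638 F499794 F396813 F366289 F424838 F424837 (iv4 D192349)
theorem F500887 : act 7 n219850 = n210566 := d11_2 (iv7 F386540) D219850 F458061
theorem F500888 : act 0 n219850 = n204334 := d18_2 (iv1 F386541) D219850 (iv4 D204334) (iv5 D123542) D123541 (iv0 F333734) F276448 F333736 D154120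
theorem F500889 : act 1 n219850 = n204338 := d18_6 (iv1 F335231) F209463 F386538 (iv4 D192349) D192350 D219850 (iv4 D204338) F432088 F432086
def n219851 : Q := act 6 n192350
theorem D219851 : act 6 n192350 = n219851 := rfl
theorem F500890 : act 2 n219851 = n192356 := d3_1 D219851 (iv6 D192356) (iv2 F386539)
theorem F500891 : act 3 n219851 = n215938 := d7_1 D219851 (iv6 F499809) F499805
theorem F500892 : act 0 n192421 = n219851 := d21_4 F152925 F294728 (iv5 F294731) D192421 (iv6 D219851) (iv5 D192350) F275042 D150124 F236292 (iv1 F154101)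
def n219852 : Q := act 5 n192351
theorem D219852 : act 5 n192351 = n219852 := rfl
theorem F500893 : act 2 n219852 = n192359 := d2_1 D219852 (iv5 D192359) (iv2 F386542)
theorem F500894 : act 3 n219852 = n219447 := d6_1 D219852 F498918 F468583
theorem F500895 : act 7 n219852 = n212727 := d13_2 F468562 D219852 (iv5 F468563)
theorem F500896 : act 0 n219852 = n207327 := d17_2 (iv1 F386563) D219852 (iv5 D207327) F209451 F95895 D119624 (iv5 F239262) (iv0 F361625) F311564
theorem F500897 : act 1 n219852 = n204907 := d17_6 F348274 (iv5 F349464) (iv1 F440346) (iv5 F459003) (iv4 F459006) D219852 (iv5 D204907) (iv0 F348272) (iv4 F348270)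
def n219853 : Q := act 0 n192355
theorem D219853 : act 0 n192355 = n219853 := rfl
theorem F500898 : act 4 n219853 = n204320 := d18_3 (iv1 D192354) D192355 D219853 (iv5 D204320) (iv4 F276307) (iv0 F460907) F460903 (iv0 F431602) F386551
theorem F500899 : act 1 n210566 = n219853 := d15_0 (iv0 D219853) (iv7 F499793) F499792
theorem F500900 : act 3 n198387 = n219853 := d19_19 (iv1 F500899) (iv5 D210566) F222610 (iv3 F407996) F428518 F428516 (iv4 F408008) F408007 D198149 (iv5 F406991) F223757 (iv3 F223720) (iv1 F459870) F459872 F351590 (iv3 F228624) F457758 (iv5 F460369) F460370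
theorem F500901 : act 5 n198385 = n219853 := d21_6 (iv5 D48821) (iv1 F48587) D64084 D136315 F336228 D198385 (iv1 F500899) (iv5 D210566) (iv6 D139399) F101145
theorem F500902 : act 7 n219853 = n204338 := d13_2 F416355 F500901 F432102
theorem F500903 : act 2 n219853 = n204334 := d15_3 (iv0 F500888) F500889 (iv7 F500902)
def n219854 : Q := act 1 n192355
theorem D219854 : act 1 n192355 = n219854 := rfl
theorem F500904 : act 1 n219854 = n210566 := d15_1 D219854 (iv7 F500887) F500885
theorem F500905 : act 7 n219854 = n204334 := d15_2 (iv0 D219853) D219854 (iv2 F500903)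
theorem F500906 : act 4 n219854 = n204322 := d18_7 (iv1 F309757) F214905 F339024 (iv4 D100112) D100113 D192355 D219854 (iv0 F432040) (iv5 D171027)
theorem F500907 : act 2 n204338 = n219854 := d1_3 F500906 F432035 D204338
theorem F500908 : act 5 n211492 = n219854 := d9_0 F500906 (iv5 D204322) D204321 F432034 (iv4 F246890) F340025 (iv4 F407837) F500901 F500898 (iv5 D204320) (iv4 F276307) (iv5 F347187) F225383 D142467 D211492
def n219855 : Q := act 3 n192355
theorem D219855 : act 3 n192355 = n219855 := rfl
theorem F500909 : act 4 n219855 = n192366 := d5_2 D192355 D219855 (iv3 D192366) (iv4 D100118) (iv3 F154047)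
theorem F500910 : act 0 n219855 = n212175 := d19_4 (iv1 D100110) D100113 D192355 D219855 F464621 F423224 (iv3 F423212) (iv1 F469598) (iv5 D213260) (iv4 D152883) (iv3 F243063) (iv1 D147912) F105555 (iv4 F185279) F234327 F311826 (iv5 F335220) F185493 (iv3 F232755)
def n219856 : Q := act 5 n192355
theorem D219856 : act 5 n192355 = n219856 := rfl
theorem F500911 : act 2 n219856 = n210567 := d2_1 D219856 (iv5 F500886) F500885
theorem F500912 : act 4 n219856 = n198652 := d9_1 D219856 (iv5 F425223) (iv4 F461782) F461781 (iv4 D184242) D184243 (iv4 F458061) (iv5 D210566) F222610 D198440 F408011 F357075 (iv4 D100112) D100113 D192355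
theorem F500913 : act 7 n219856 = n195355 := d13_2 F499793 D219856 (iv5 F499794)
theorem F500914 : act 0 n219856 = n210565 := d17_2 (iv1 D219854) D219856 F458057 F427522 F366480 F335236 D192852 (iv0 F432038) (iv4 F500906)
theorem F500915 : act 1 n219856 = n210564 := d17_6 (iv1 F386532) (iv5 D192348) (iv1 D100110) D100113 D192355 D219856 F458055 F432108 F384818
def n219857 : Q := act 6 n192355
theorem D219857 : act 6 n192355 = n219857 := rfl
theorem F500916 : act 4 n219857 = n192356 := d10_1 D219857 (iv6 D192356) D192355
theorem F500917 : act 0 n219857 = n197390 := d21_4 (iv5 F458055) (iv1 F500915) (iv5 D219856) D219857 (iv6 D197390) (iv5 F403665) (iv1 F403669) F166975 D156271 (iv1 F432108)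
def n219858 : Q := act 0 n192356
theorem D219858 : act 0 n192356 = n219858 := rfl
theorem F500918 : act 3 n219858 = n194423 := d20_5 (iv4 F386828) F386829 F386589 (iv3 F386552) D219858 F393135 (iv1 D147815) D147816 F386834 (iv1 D192498)
theorem F500919 : act 4 n219858 = n199334 := d20_0 F463690 F463689 (iv3 F425014) (iv1 F411576) F386819 (iv4 F386828) F386829 F386589 (iv3 F386552) D219858
theorem F500920 : act 6 n219858 = n199333 := d21_5 (iv5 D192348) (iv1 D100110) D100113 D192356 D219858 (iv5 F411751) F335199 F335201 F384820 (iv1 F386532)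
theorem F500921 : act 7 n192421 = n219858 := d14_0 F500920 (iv7 F488491) F488490 F369474 D192421
theorem F500922 : act 5 n219858 = n213596 := d13_1 F500921 F471217 (iv5 F386697)
def n219859 : Q := act 5 n192356
theorem D219859 : act 5 n192356 = n219859 := rfl
theorem F500923 : act 3 n219859 = n192369 := d6_1 D219859 (iv5 D192369) (iv3 F386552)
theorem F500924 : act 6 n219859 = n192359 := d12_2 D192356 D219859 (iv5 D192359) (iv6 D100114) D100113
theorem F500925 : act 0 n219859 = n213638 := d21_1 D219859 (iv5 F485116) F485117 (iv1 D216535) (iv6 D184253) D184252 (iv1 F286181) D191845 D219617 F499701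
theorem F500926 : act 4 n216648 = n219859 := d5_0 F500923 F386591 F356203 D185123 D216648
def n219860 : Q := act 7 n192356
theorem D219860 : act 7 n192356 = n219860 := rfl
theorem F500927 : act 3 n219860 = n192370 := d8_1 D219860 (iv7 D192370) (iv3 F386552)
theorem F500928 : act 1 n192421 = n219860 := d15_1 (iv0 F500892) (iv7 D219860) (iv2 F500890)
def n219861 : Q := act 4 n192359
theorem D219861 : act 4 n192359 = n219861 := rfl
theorem F500929 : act 3 n219861 = n216650 := d5_1 D219861 F485329 (iv3 F386598) (iv4 D192371) (iv3 F386557)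
theorem F500930 : act 6 n219861 = n216648 := d10_2 F500924 D219861 F500926
theorem F500931 : act 1 n219861 = n204316 := d18_6 D203757 (iv4 F458984) F458985 F386544 D192359 D219861 (iv4 D204316) (iv0 F429714) (iv5 D203759)
def n219862 : Q := act 0 n192366
theorem D219862 : act 0 n192366 = n219862 := rfl
theorem F500932 : act 3 n219862 = n196974 := d20_5 (iv4 D192340) (iv1 F154041) D100118 D192366 D219862 (iv4 F445469) (iv1 D194732) (iv4 F388141) (iv3 D192898) (iv1 F386514)
theorem F500933 : act 5 n196972 = n219862 := d6_0 F500932 (iv5 D196974) D196972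
def n219863 : Q := act 2 n192366
theorem D219863 : act 2 n192366 = n219863 := rfl
theorem F500934 : act 3 n219863 = n204655 := d0_2 D192366 D219863 F433153 (iv3 F394590) F384792
theorem F500935 : act 6 n219863 = n197564 := d3_2 (iv6 F412821) D219863 F412818
theorem F500936 : act 0 n214853 = n219863 := d21_4 (iv5 F409569) (iv1 D163185) D163187 D214853 F500935 (iv5 F404853) D204652 F433133 (iv6 F459184) F459185
theorem F500937 : act 1 n214853 = n219640 := d15_1 (iv0 F500936) F499803 D219863
def n219864 : Q := act 5 n192366
theorem D219864 : act 5 n192366 = n219864 := rfl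
theorem F500938 : act 3 n219864 = n192367 := d6_1 D219864 (iv5 D192367) D192366
theorem F500939 : act 6 n219864 = n210037 := d12_2 (iv6 F412821) D219864 F455865 (iv6 F433149) F433148
theorem F500940 : act 4 n219864 = n210038 := d19_2 F459199 D219864 F455870 (iv1 F497713) F497710 (iv4 F440138) F440137 F363867 D193504 (iv4 F435277) F435276 F361374 (iv5 F331155) F82739 (iv3 F93316) F167070 D125985 (iv4 F223447) (iv3 F459197)
theorem F500941 : act 0 n209713 = n211098 := d21_10 F460087 F459199 D219864 F500939 F455867 (iv6 D196768) F172103 F171804 (iv5 F220038) D209713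
def n219865 : Q := act 6 n192376
theorem D219865 : act 6 n192376 = n219865 := rfl
theorem F500942 : act 2 n219865 = n192378 := d3_1 D219865 (iv6 D192378) D192376
theorem F500943 : act 5 n219865 = n216387 := d12_1 D219865 (iv6 D216387) (iv5 D183399) D183400 (iv5 F386605)
theorem F500944 : act 7 n219865 = n210284 := d14_2 (iv7 F386606) D219865 F457026 F403705 F384820
theorem F500945 : act 0 n219865 = n210285 := d21_10 F456853 (iv1 F384083) (iv5 F460425) F460426 F479827 F479825 F386545 F345818 (iv5 F386605) D219865
theorem F500946 : act 1 n219865 = n210276 := d15_1 (iv0 F500945) (iv7 F499323) F499321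
def n219866 : Q := act 3 n192377
theorem D219866 : act 3 n192377 = n219866 := rfl
theorem F500947 : act 4 n219866 = n192379 := d5_2 D192377 D219866 (iv3 D192379) (iv4 D100131) D100130
def n219867 : Q := act 5 n192377
theorem D219867 : act 5 n192377 = n219867 := rfl
theorem F500948 : act 0 n219867 = n200420 := d17_2 F432107 D219867 (iv5 F432102) (iv4 D204338) (iv5 D123547) F197947 (iv5 F388037) F388040 D204340
theorem F500949 : act 6 n219867 = n198476 := d21_3 F458055 F432107 D219867 F445467 (iv6 D195295) (iv5 D105500) F76805 D65427 D139399 D210564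
theorem F500950 : act 4 n198478 = n219867 := d16_0 (iv5 D219867) (iv4 D192377) F346705 (iv4 F432077) F432076 (iv4 F407997) (iv5 F461695) F461699 (iv2 F461690)
def n219868 : Q := act 6 n192377
theorem D219868 : act 6 n192377 = n219868 := rfl
theorem F500951 : act 4 n219868 = n192378 := d10_1 D219868 (iv6 D192378) D192377
theorem F500952 : act 5 n219868 = n195311 := d21_6 (iv5 F397112) (iv1 F349996) (iv5 F406654) (iv6 F432106) F432107 D219868 F434693 F434690 (iv6 D195497) F397111
theorem F500953 : act 3 n195313 = n219868 := d6_3 F500952 (iv3 D195311) D195313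
theorem F500954 : act 6 n219866 = n195313 := d7_0 F500953 (iv6 D219868) D219866
def n219869 : Q := act 7 n192378
theorem D219869 : act 7 n192378 = n219869 := rfl
theorem F500955 : act 2 n219869 = n210284 := d4_1 D219869 (iv7 F500944) F500942
theorem F500956 : act 3 n219869 = n192381 := d8_1 D219869 (iv7 D192381) (iv3 F386611)
theorem F500957 : act 5 n219869 = n219056 := d13_1 D219869 F496942 F487100
theorem F500958 : act 6 n219869 = n199340 := d14_1 D219869 F411773 F411385 F384815 D192378
theorem F500959 : act 1 n210276 = n219869 := d15_1 F500946 (iv7 D219869) (iv2 F500942)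
theorem F500960 : act 1 n219869 = n210285 := d15_1 F500959 (iv7 D210285) (iv2 F456832)
def n219870 : Q := act 6 n192379
theorem D219870 : act 6 n192379 = n219870 := rfl
theorem F500961 : act 3 n219870 = n192380 := d7_1 D219870 (iv6 D192380) D192379
theorem F500962 : act 4 n219870 = n195313 := d10_1 D219870 (iv6 F500954) F500947
theorem F500963 : act 5 n219870 = n195920 := d12_1 D219870 (iv6 D195920) (iv5 F228390) D212124 F464403
theorem F500964 : act 7 n219870 = n208630 := d14_2 F388176 D219870 (iv6 D208630) (iv7 F403840) (iv6 F403841)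
theorem F500965 : act 0 n210724 = n219870 := d17_2 D210286 F458584 F500963 (iv4 F410451) F410452 (iv0 F438180) F438179 (iv0 D138113) D138115
def n219871 : Q := act 0 n192380
theorem D219871 : act 0 n192380 = n219871 := rfl
theorem F500966 : act 5 n219871 = n214171 := d17_1 D219871 (iv1 F473837) F416753 F386661 (iv5 F383744) F383742 D191670 F384100 (iv4 F386612)
theorem F500967 : act 4 n219871 = n209958 := d18_1 D219871 (iv1 F455529) (iv4 F405109) (iv5 F480431) (iv4 D215545) (iv0 F434819) F434818 (iv0 D195924) (iv5 F386613)
theorem F500968 : act 6 n219871 = n215878 := d21_5 (iv5 D145403) (iv1 F358646) F359735 D192380 D219871 (iv5 D215878) (iv1 D178085) D178087 F394589 F384794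
theorem F500969 : act 2 n196762 = n219871 := d15_3 (iv0 D219871) (iv0 F411008) F411006
theorem F500970 : act 3 n219871 = n196802 := d0_2 D196762 F500969 (iv2 F410992) (iv3 D199170) (iv2 F172194)
theorem F500971 : act 7 n219871 = n209957 := d4_2 F411006 F500969 F455523
def n219872 : Q := act 7 n192380
theorem D219872 : act 7 n192380 = n219872 := rfl
theorem F500972 : act 3 n219872 = n208630 := d8_1 D219872 (iv7 F500964) F500961
theorem F500973 : act 4 n219872 = n192381 := d11_1 D219872 (iv7 D192381) (iv4 F386612)
theorem F500974 : act 5 n219872 = n195926 := d13_1 D219872 (iv7 D195926) (iv5 F386613)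
theorem F500975 : act 6 n219872 = n199341 := d14_1 D219872 F411777 (iv6 D192910) F268288 D192380
theorem F500976 : act 1 n209957 = n219872 := d15_1 (iv0 F455525) (iv7 D219872) (iv2 F388196)
theorem F500977 : act 1 n219872 = n196762 := d15_1 F500976 (iv7 F411006) (iv2 F455523)
def n219873 : Q := act 2 n192382
theorem D219873 : act 2 n192382 = n219873 := rfl
theorem F500978 : act 3 n219873 = n212706 := d0_2 D192382 D219873 F467176 (iv3 D210928) (iv2 F343486)
theorem F500979 : act 4 n219873 = n210000 := d1_2 F460504 D219873 (iv2 F460500)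
theorem F500980 : act 5 n219873 = n194468 := d2_2 (iv5 F386618) D219873 F393336
theorem F500981 : act 6 n219873 = n193271 := d3_2 F405102 D219873 F405201
def n219874 : Q := act 3 n192387
theorem D219874 : act 3 n192387 = n219874 := rfl
theorem F500982 : act 4 n219874 = n214825 := d5_2 F401288 D219874 F477014 (iv4 D196639) (iv3 F401287)
theorem F500983 : act 5 n219874 = n192898 := d6_2 (iv5 F386623) D219874 (iv3 D192898)
theorem F500984 : act 0 n215422 = n219874 := d20_4 F402025 (iv1 F271688) D174497 D215422 (iv3 D219874) (iv4 F401288) F401290 (iv4 F479928) (iv3 D215425) (iv1 F402029)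
theorem F500985 : act 6 n219874 = n215446 := d21_5 (iv5 D213709) D213708 F488678 F479917 F500984 F480036 F488962 F488961 F476926 F471730
theorem F500986 : act 2 n214826 = n219874 := d3_3 F500985 (iv2 F480442) (iv6 F480440)
def n219875 : Q := act 6 n192387
theorem D219875 : act 6 n192387 = n219875 := rfl
theorem F500987 : act 3 n219875 = n215446 := d7_1 D219875 (iv6 F500985) (iv3 D219874)
theorem F500988 : act 4 n219875 = n215240 := d10_1 D219875 F479010 F401288
theorem F500989 : act 5 n219875 = n218846 := d12_1 D219875 (iv6 D218846) F379045 (iv6 F385874) (iv5 F386623)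
theorem F500990 : act 0 n219875 = n212863 := d21_4 F401239 F386518 (iv5 F386623) D219875 (iv6 D212863) F241266 (iv1 F398538) F398535 (iv6 F459332) F459334
def n219876 : Q := act 3 n192389
theorem D219876 : act 3 n192389 = n219876 := rfl
theorem F500991 : act 2 n219876 = n212174 := d0_1 D219876 (iv3 F464619) F459943 D212214 (iv2 F464778)
theorem F500992 : act 6 n219876 = n215895 := d7_2 F419968 D219876 (iv3 D215895)
theorem F500993 : act 7 n219876 = n212173 := d8_2 F459347 D219876 F464614
theorem F500994 : act 0 n219876 = n212172 := d19_4 (iv1 D100134) D100136 D192389 D219876 (iv5 D212172) F228455 (iv3 F425043) F425047 F385247 (iv4 D155609) (iv3 F360994) (iv1 F428784) F428786 F307672 F130186 (iv1 F312050) D149029 (iv4 F386619) (iv3 D192384)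
theorem F500995 : act 0 n196988 = n219876 := d20_4 F401255 (iv1 F402586) (iv4 D196991) (iv3 F402575) (iv3 D219876) (iv4 D192389) D192387 (iv4 F401288) F401287 (iv1 F401251)
def n219877 : Q := act 6 n192390
theorem D219877 : act 6 n192390 = n219877 := rfl
theorem F500996 : act 2 n219877 = n201445 := d3_1 D219877 (iv6 F464186) F464182
theorem F500997 : act 3 n219877 = n217587 := d7_1 D219877 F489650 (iv3 F386625)
theorem F500998 : act 5 n219877 = n216352 := d12_1 D219877 F483965 F370605 (iv6 F370604) D192390
theorem F500999 : act 7 n219877 = n201441 := d14_2 (iv7 F386626) D219877 (iv6 D201441) F178580 D114644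
theorem F501000 : act 0 n219877 = n201443 := d21_4 (iv5 D188617) F154062 D192390 D219877 (iv6 F420527) (iv5 F218054) (iv1 F214581) (iv5 F418956) (iv6 F418958) F374202
theorem F501001 : act 0 n201442 = n219877 := d21_4 F420212 (iv1 F186266) D152232 (iv6 F420525) (iv6 D219877) (iv5 D192390) (iv1 F235258) D212792 F467535 (iv1 F420215)
def n219878 : Q := act 3 n192391
theorem D219878 : act 3 n192391 = n219878 := rfl
theorem F501002 : act 2 n219878 = n209671 := d0_1 D219878 F454585 (iv2 F393247) (iv3 F491017) F491016
theorem F501003 : act 4 n219878 = n203327 := d5_2 D192391 D219878 (iv3 F427895) (iv4 F391754) F357356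
theorem F501004 : act 6 n219878 = n202040 := d7_2 (iv6 F423297) D219878 (iv3 F423292)
theorem F501005 : act 7 n219878 = n209849 := d8_2 F489968 D219878 (iv3 F489967)
theorem F501006 : act 0 n219878 = n213196 := d19_4 D46741 D100140 D192391 D219878 (iv5 F481863) (iv4 D215868) D215867 (iv1 F481862) F383596 F359406 F158625 (iv1 D96087) (iv5 D44834) F33549 (iv3 F33538) F290824 (iv5 D40870) (iv4 F66073) D22409
theorem F501007 : act 0 n202063 = n219878 := d20_4 F239524 F422821 (iv4 D202064) D202063 (iv3 D219878) (iv4 D192391) (iv1 F384842) (iv4 F388829) F468815 (iv1 D213058)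
def n219879 : Q := act 0 n192393
theorem D219879 : act 0 n192393 = n219879 := rfl
theorem F501008 : act 5 n219879 = n211573 := d17_1 D219879 (iv1 F462195) F423556 (iv4 D202303) (iv5 D115577) (iv0 D53314) D53318 (iv0 F359762) F386652
theorem F501009 : act 4 n219879 = n202218 := d18_1 D219879 (iv1 F423283) F422753 (iv5 F395935) F395934 D212655 (iv4 F466909) F487271 F487269
theorem F501010 : act 2 n192401 = n219879 := d15_3 (iv0 D219879) (iv0 F460461) (iv7 F460463)
theorem F501011 : act 7 n219879 = n192402 := d4_2 (iv7 F460463) F501010 (iv2 F460457)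
theorem F501012 : act 1 n192403 = n219879 := d15_1 F460462 F501011 (iv2 F460457)
def n219880 : Q := act 7 n192393
theorem D219880 : act 7 n192393 = n219880 := rfl
theorem F501013 : act 2 n219880 = n192403 := d4_1 D219880 (iv7 D192403) (iv2 F386630)
theorem F501014 : act 3 n219880 = n210282 := d8_1 D219880 F456849 (iv3 F386631)
theorem F501015 : act 4 n219880 = n201916 := d11_1 D219880 F422356 F386652
theorem F501016 : act 5 n219880 = n210246 := d13_1 D219880 (iv7 F487272) F487269
theorem F501017 : act 1 n192402 = n219880 := d15_1 D192402 (iv7 D219880) F386630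
theorem F501018 : act 1 n219880 = n192401 := d15_1 F501017 F460463 F460457
def n219881 : Q := act 3 n192394
theorem D219881 : act 3 n192394 = n219881 := rfl
theorem F501019 : act 2 n219881 = n209187 := d0_1 D219881 F452633 F393221 F392426 (iv2 F386632)
theorem F501020 : act 4 n219881 = n209186 := d5_2 D192394 D219881 F493557 F493552 F386318
theorem F501021 : act 6 n219881 = n209185 := d7_2 (iv6 F386633) D219881 F452621
theorem F501022 : act 0 n219881 = n213804 := d20_4 (iv4 D100149) D100147 D192394 D219881 (iv3 D213804) (iv4 F251063) (iv1 F376004) F422681 (iv3 F422680) F376000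
theorem F501023 : act 0 n209870 = n219881 := d20_4 (iv4 F404021) (iv1 F438464) F438467 D209870 (iv3 D219881) (iv4 D192394) (iv1 F372274) (iv4 F472480) F472481 F472461
theorem F501024 : act 5 n215826 = n219881 := d12_5 F501021 F452623 (iv6 F469359) F469358 D215826
def n219882 : Q := act 5 n192394
theorem D219882 : act 5 n192394 = n219882 := rfl
theorem F501025 : act 2 n219882 = n214163 := d2_1 D219882 (iv5 D214163) (iv2 F386632)
theorem F501026 : act 3 n219882 = n215826 := d6_1 D219882 F501024 (iv3 D219881)
theorem F501027 : act 6 n219882 = n213192 := d12_2 (iv6 F386633) D219882 F469390 F316169 D156924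
theorem F501028 : act 4 n219882 = n216701 := d16_2 D192394 D219882 F485531 F474073 F387028 (iv4 D192547) F362390 F372281 (iv2 F372279)
def n219883 : Q := act 6 n192395
theorem D219883 : act 6 n192395 = n219883 := rfl
theorem F501029 : act 2 n219883 = n216546 := d3_1 D219883 (iv6 D216546) (iv2 F386639)
theorem F501030 : act 3 n219883 = n192397 := d7_1 D219883 (iv6 D192397) D192395
theorem F501031 : act 4 n219883 = n192869 := d10_1 D219883 (iv6 D192869) F386636
theorem F501032 : act 5 n219883 = n213604 := d12_1 D219883 (iv6 F471256) (iv5 F483579) (iv6 F483582) (iv5 F386634)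
theorem F501033 : act 7 n219883 = n200393 := d14_2 (iv7 F386635) D219883 (iv6 D200393) D200394 (iv6 F416282)
theorem F501034 : act 0 n219883 = n215367 := d21_4 (iv5 F369146) (iv1 F369150) (iv5 F386634) D219883 (iv6 D215367) F312378 (iv1 F312375) D158696 F356147 (iv1 F357439)
def n219884 : Q := act 5 n192396
theorem D219884 : act 5 n192396 = n219884 := rfl
theorem F501035 : act 3 n219884 = n213232 := d6_1 D219884 F469511 F393236
theorem F501036 : act 4 n219884 = n213115 := d9_1 D219884 (iv5 D213115) (iv4 F465022) F465023 F377155 (iv5 F367144) D192394 D219882 F501028 F485531 F474073 F387028 (iv4 D192547) F362390 D192396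
theorem F501037 : act 7 n219884 = n214163 := d13_2 (iv7 F386640) D219884 (iv5 D214163)
def n219885 : Q := act 0 n192398
theorem D219885 : act 0 n192398 = n219885 := rfl
theorem F501038 : act 4 n219885 = n199804 := d18_3 (iv1 F359355) (iv4 F386644) D219885 (iv5 D199804) (iv4 F413555) (iv0 F491051) F491049 (iv0 F409192) F409190
theorem F501039 : act 6 n219885 = n213870 := d21_5 (iv5 F462727) (iv1 F401089) D196570 (iv6 F401110) D219885 (iv5 D213870) F360780 (iv5 F167239) F401419 (iv1 F462728)
theorem F501040 : act 2 n213874 = n219885 := d15_3 (iv0 D219885) F413422 (iv7 F472527)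
theorem F501041 : act 1 n214006 = n219885 := d15_0 (iv0 D219885) (iv7 F469661) (iv2 F473075)
theorem F501042 : act 7 n219885 = n215778 := d15_2 (iv0 F473078) F501041 F481535
def n219886 : Q := act 5 n192398
theorem D219886 : act 5 n192398 = n219886 := rfl
theorem F501043 : act 3 n219886 = n192399 := d6_1 D219886 (iv5 D192399) D192398
def n219887 : Q := act 6 n192399
theorem D219887 : act 6 n192399 = n219887 := rfl
theorem F501044 : act 4 n219887 = n212433 := d10_1 D219887 (iv6 F491066) F491068
theorem F501045 : act 5 n219887 = n215327 := d12_1 D219887 F479418 F401106 (iv6 D192400) D192399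
theorem F501046 : act 0 n216602 = n219887 := d21_4 (iv5 D139643) D139641 D210746 (iv6 F485141) (iv6 D219887) (iv5 D192399) F335720 (iv5 F459135) (iv6 F459136) (iv1 D210750)
theorem F501047 : act 7 n215431 = n219887 := d13_0 F501045 F479419 D215431
def n219888 : Q := act 4 n192401
theorem D219888 : act 4 n192401 = n219888 := rfl
theorem F501048 : act 2 n219888 = n202218 := d1_1 D219888 (iv4 F501009) (iv2 F501010)
theorem F501049 : act 3 n219888 = n193870 := d5_1 D219888 F391259 F343221 (iv4 F221284) (iv3 F386814)
theorem F501050 : act 6 n219888 = n193868 := d10_2 F500335 D219888 (iv4 F500334)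
theorem F501051 : act 7 n219888 = n196658 := d11_2 (iv7 F460463) D219888 (iv4 F460459)
theorem F501052 : act 5 n219888 = n196659 := d16_3 F418827 F386815 D219888 F401382 F324736 (iv4 F212468) F423587 (iv7 F437644) F437640
theorem F501053 : act 0 n219888 = n202217 := d18_2 D192401 D219888 (iv4 F423547) F423548 (iv4 F442557) (iv0 F456735) (iv4 D210248) (iv0 F384098) F367819
theorem F501054 : act 1 n219888 = n202204 := d18_6 (iv1 F366219) F366221 D201035 F418827 F386815 D219888 (iv4 F423538) (iv0 D202297) (iv5 F360208)
def n219889 : Q := act 5 n192402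
theorem D219889 : act 5 n192402 = n219889 := rfl
theorem F501055 : act 2 n219889 = n207829 := d2_1 D219889 (iv5 F460460) F460457
theorem F501056 : act 3 n219889 = n211597 := d6_1 D219889 F462317 F460515
theorem F501057 : act 4 n219889 = n201036 := d9_1 D219889 (iv5 F423587) F212468 (iv5 F324736) (iv4 F401382) (iv5 F501052) (iv4 D219888) (iv5 F386815) (iv4 F418827) F418826 F212483 (iv5 F324974) F93224 D115475 F423279
theorem F501058 : act 6 n219889 = n219482 := d12_2 (iv6 F423280) D219889 F499106 F483980 (iv5 D202225)
theorem F501059 : act 7 n219889 = n211573 := d13_2 F501011 D219889 (iv5 F501008)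
theorem F501060 : act 0 n219889 = n211572 := d18_0 (iv4 F462191) (iv1 D208693) F217131 D134951 F360202 (iv0 F386646) F386645 D192402 D219889
theorem F501061 : act 0 n211571 = n219889 := d21_10 (iv5 D219889) (iv1 D192402) (iv5 F367819) (iv6 D186731) F367416 (iv6 F437315) F437316 (iv1 F345814) D191525 F462188
theorem F501062 : act 4 n212386 = n216387 := d20_2 F252189 D212386 F484130 F501061 F501056 F462316 F448109 (iv4 F448829) (iv3 F450558) (iv1 F450562)
theorem F501063 : act 6 n216386 = n212386 := d10_0 F501062 (iv6 D216387) D216386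
theorem F501064 : act 7 n212386 = n206714 := d14_2 (iv7 F484127) F501063 (iv6 D206714) (iv7 F214757) D206963
def n219890 : Q := act 5 n192406
theorem D219890 : act 5 n192406 = n219890 := rfl
theorem F501065 : act 3 n219890 = n192409 := d6_1 D219890 (iv5 D192409) (iv3 F386659)
theorem F501066 : act 4 n219890 = n205484 := d9_1 D219890 (iv5 D205484) (iv4 D126154) F166899 D107079 D196564 F423028 (iv5 F406983) (iv4 F436665) (iv5 D205489) (iv4 D126157) F182523 D107084 D196570 (iv4 F401109)
theorem F501067 : act 1 n219890 = n196709 := d17_8 D196707 F401556 (iv1 F169276) D196596 (iv4 F423404) (iv5 D202250) (iv0 F400252) D219890 (iv4 D196709)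
def n219891 : Q := act 5 n192415
theorem D219891 : act 5 n192415 = n219891 := rfl
theorem F501068 : act 2 n219891 = n192427 := d2_1 D219891 (iv5 D192427) (iv2 F386681)
theorem F501069 : act 7 n219891 = n212055 := d13_2 (iv7 F386682) D219891 F464155
theorem F501070 : act 4 n219891 = n194326 := d16_2 D192415 D219891 (iv5 D194326) (iv4 D103211) (iv5 D47832) (iv4 F73296) D99316 F152921 (iv2 F154108)
theorem F501071 : act 0 n219891 = n212056 := d17_2 (iv1 F386683) D219891 F464157 (iv4 D192017) (iv5 D99517) D99516 (iv5 F349225) (iv0 D151378) (iv4 F228088)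
theorem F501072 : act 1 n219891 = n206369 := d17_6 F152927 F134897 (iv1 F73867) D100167 D192415 D219891 F440459 (iv0 F427350) (iv4 D191917)
def n219892 : Q := act 6 n192415
theorem D219892 : act 6 n192415 = n219892 := rfl
theorem F501073 : act 2 n219892 = n192428 := d3_1 D219892 (iv6 D192428) (iv2 F386681)
theorem F501074 : act 4 n219892 = n192416 := d10_1 D219892 (iv6 D192416) D192415
theorem F501075 : act 5 n219892 = n213906 := d21_6 F366393 (iv1 F366666) F366667 F366478 (iv1 F386683) D219892 F472685 F458133 F458131 (iv1 F403701)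
def n219893 : Q := act 0 n192416
theorem D219893 : act 0 n192416 = n219893 := rfl
theorem F501076 : act 6 n219893 = n210009 := d21_5 F134897 (iv1 F73867) D100167 D192416 D219893 F455736 (iv1 D193933) (iv5 F384831) (iv6 D191918) F152927
theorem F501077 : act 2 n192429 = n219893 := d15_3 (iv0 D219893) F479828 F479826
theorem F501078 : act 3 n219893 = n210011 := d0_2 (iv3 F386718) F501077 (iv2 F460758) (iv3 F460755) (iv2 F358770)
theorem F501079 : act 7 n219893 = n192430 := d4_2 F479826 F501077 (iv2 F479823)
theorem F501080 : act 5 n216276 = n219893 := d13_3 F501079 (iv5 F498809) F498811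
theorem F501081 : act 1 n192432 = n219893 := d15_1 (iv0 F479827) F501079 (iv2 F479823)
def n219894 : Q := act 7 n192416
theorem D219894 : act 7 n192416 = n219894 := rfl
theorem F501082 : act 2 n219894 = n192432 := d4_1 D219894 (iv7 D192432) (iv2 F386684)
theorem F501083 : act 6 n219894 = n210282 := d14_1 D219894 F456849 (iv6 D184250) (iv7 F154109) D192416
theorem F501084 : act 1 n192430 = n219894 := d15_1 D192430 (iv7 D219894) F386684
theorem F501085 : act 1 n219894 = n192429 := d15_1 F501084 (iv7 F479826) F479823
def n219895 : Q := act 5 n192418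
theorem D219895 : act 5 n192418 = n219895 := rfl
theorem F501086 : act 7 n219895 = n194326 := d13_2 (iv7 F386692) D219895 (iv5 D194326)
theorem F501087 : act 4 n219895 = n212055 := d16_2 D192418 D219895 F464155 (iv4 D184249) (iv5 D87884) (iv4 F75113) D103207 (iv7 F386678) F386676
theorem F501088 : act 0 n219895 = n216525 := d17_2 (iv1 F414236) D219895 (iv5 D216525) (iv4 D184205) (iv5 D87859) D87858 (iv5 F358499) F358500 (iv4 F414234)
theorem F501089 : act 1 n219895 = n216542 := d17_6 (iv1 F382438) F382440 (iv1 D100169) D100170 D192418 D219895 F484867 (iv0 F463651) (iv4 D194366)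
def n219896 : Q := act 6 n192418
theorem D219896 : act 6 n192418 = n219896 := rfl
theorem F501090 : act 4 n219896 = n192419 := d10_1 D219896 (iv6 D192419) D192418
def n219897 : Q := act 5 n192420
theorem D219897 : act 5 n192420 = n219897 := rfl
theorem F501091 : act 3 n219897 = n211994 := d6_1 D219897 F463854 (iv3 F386695)
theorem F501092 : act 0 n219897 = n212002 := d17_2 F438405 D219897 F463877 (iv4 D192880) (iv5 F375506) (iv0 F382430) F465056 F465054 (iv4 F438403)
theorem F501093 : act 1 n219897 = n210711 := d17_6 (iv1 F154101) F152925 F294728 (iv5 F294731) D192420 D219897 (iv5 D210711) (iv0 F365566) (iv4 D184236)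
def n219898 : Q := act 6 n192420
theorem D219898 : act 6 n192420 = n219898 := rfl
theorem F501094 : act 3 n219898 = n213779 := d7_1 D219898 (iv6 D213779) (iv3 F386695)
theorem F501095 : act 4 n219898 = n192421 := d10_1 D219898 (iv6 D192421) D192420
theorem F501096 : act 7 n219898 = n199334 := d14_2 F488497 D219898 (iv6 D199334) F410255 (iv6 F488496)
theorem F501097 : act 0 n197334 = n219898 := d21_4 (iv5 D144438) (iv1 F227205) F397023 (iv6 F403982) (iv6 D219898) D219897 F501092 F463877 F463670 (iv1 D211942)
theorem F501098 : act 5 n219898 = n216211 := d19_1 F501097 F483388 (iv3 D182196) D182195 F283639 (iv4 F135180) (iv3 F147055) D189912 F378216 D216403 F484211 (iv1 F382437) F369067 F346832 (iv3 F222828) F245295 (iv5 D156109) (iv4 F167170) D197334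
def n219899 : Q := act 3 n192422
theorem D219899 : act 3 n192422 = n219899 := rfl
theorem F501099 : act 2 n219899 = n212804 := d0_1 D219899 F467584 (iv2 F429242) (iv3 F488495) F488494
theorem F501100 : act 6 n219899 = n199335 := d7_2 F386700 D219899 (iv3 D199335)
theorem F501101 : act 7 n219899 = n212805 := d8_2 F499695 D219899 (iv3 F499698)
theorem F501102 : act 0 n219899 = n203171 := d20_4 (iv4 D184249) (iv1 F154124) D192422 D219899 (iv3 D203171) F185676 (iv1 F107054) (iv4 F206650) F386704 (iv1 F386703)
def n219900 : Q := act 5 n192422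
theorem D219900 : act 5 n192422 = n219900 := rfl
theorem F501103 : act 6 n219900 = n198398 := d12_2 F386700 D219900 F407880 F411758 (iv5 D199336)
theorem F501104 : act 4 n219900 = n195506 := d16_2 D192422 D219900 (iv5 D195506) (iv4 F173995) F358496 F158606 (iv5 F294731) (iv7 F369474) F369472
theorem F501105 : act 0 n219900 = n210711 := d17_2 F468116 D219900 (iv5 D210711) F222742 D139604 (iv0 F357139) (iv5 D151381) D151379 D212918
theorem F501106 : act 1 n219900 = n212002 := d17_6 (iv1 F154144) F154142 F367462 (iv5 F367461) D192422 D219900 F463877 F388096 F286186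
def n219901 : Q := act 6 n192424
theorem D219901 : act 6 n192424 = n219901 := rfl
theorem F501107 : act 3 n219901 = n197395 := d7_1 D219901 F404128 F386704
theorem F501108 : act 4 n219901 = n210420 := d10_1 D219901 F457458 (iv4 F386702)
theorem F501109 : act 7 n219901 = n197390 := d14_2 F386705 D219901 (iv6 D197390) (iv7 F210274) F366478
def n219902 : Q := act 5 n192425
theorem D219902 : act 5 n192425 = n219902 := rfl
theorem F501110 : act 2 n219902 = n203250 := d2_1 D219902 F427532 F386708
theorem F501111 : act 4 n219902 = n195369 := d9_1 D219902 (iv5 D195369) (iv4 F202139) (iv5 F369957) (iv4 F465060) (iv5 D212269) (iv4 F386702) (iv5 F467603) F467602 (iv5 D212809) F383081 (iv5 D190235) (iv4 F374427) F374425 (iv4 F386707)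
theorem F501112 : act 6 n219902 = n195375 := d12_2 (iv6 F411901) D219902 F396854 F403679 (iv5 F411898)
theorem F501113 : act 0 n219902 = n219646 := d17_2 (iv1 F386706) D219902 (iv5 D219646) (iv4 D191917) F152925 (iv0 F367460) (iv5 F367461) F154124 D184249
def n219903 : Q := act 0 n192426
theorem D219903 : act 0 n192426 = n219903 := rfl
theorem F501114 : act 4 n219903 = n212577 := d18_3 F364385 (iv4 F386709) D219903 (iv5 F471607) (iv4 F491388) F491390 F387004 D192545 F387018
theorem F501115 : act 3 n219903 = n199936 := d20_5 (iv4 D192422) (iv1 D100173) D100174 D192426 D219903 F414229 F386680 D194324 (iv3 F468113) F468116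
theorem F501116 : act 0 n212806 = n219899 := d20_4 F501114 (iv1 F466513) (iv4 F471678) F471677 (iv3 D219899) (iv4 D192422) (iv1 D100173) D100174 D192426 D219903
theorem F501117 : act 2 n213700 = n219903 := d0_5 F501115 (iv2 F414230) (iv3 F403193) F403192 (iv3 F471697)
theorem F501118 : act 7 n197398 = n219903 := d8_0 F501115 F414228 (iv3 F404138)
def n219904 : Q := act 1 n192426
theorem D219904 : act 1 n192426 = n219904 := rfl
theorem F501119 : act 7 n219904 = n213700 := d15_2 (iv0 D219903) D219904 F501117
theorem F501120 : act 4 n219904 = n212578 := d18_7 F471594 (iv4 F493376) F493378 F490436 F375338 (iv4 F386709) D219904 F466520 (iv5 F420377)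
theorem F501121 : act 3 n197239 = n219904 := d20_3 (iv4 D205909) (iv1 F392855) (iv4 F403690) (iv1 D219904) (iv3 D192426) (iv4 D100174) D100172 D192420 F386695 (iv1 F438379)
theorem F501122 : act 2 n219904 = n197398 := d0_1 F501121 F404138 F392820 (iv3 F365605) (iv2 F403689)
theorem F501123 : act 6 n219904 = n197237 := d7_2 D197239 F501121 (iv3 D197237)
theorem F501124 : act 5 n203251 = n219904 := d12_5 F501123 F403680 F315143 (iv5 F185821) D203251
def n219905 : Q := act 2 n192426
theorem D219905 : act 2 n192426 = n219905 := rfl
theorem F501125 : act 3 n219905 = n197381 := d0_2 D192426 D219905 (iv2 F472466) (iv3 F472462) F386681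
theorem F501126 : act 4 n219905 = n192435 := d1_2 (iv4 F386709) D219905 (iv2 D192435)
theorem F501127 : act 1 n219905 = n197398 := d15_0 (iv0 F499824) F499823 D219905
theorem F501128 : act 1 n213700 = n219905 := d15_0 F501127 F501118 (iv2 F501117)
theorem F501129 : act 6 n219905 = n210182 := d21_5 (iv5 D197387) (iv1 F167220) D108137 D197398 (iv1 F501127) (iv5 F500167) F500168 F404153 (iv6 D197402) (iv1 F404104)
def n219906 : Q := act 5 n192426
theorem D219906 : act 5 n192426 = n219906 := rfl
theorem F501130 : act 3 n219906 = n192427 := d6_1 D219906 (iv5 D192427) D192426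
def n219907 : Q := act 6 n192426
theorem D219907 : act 6 n192426 = n219907 := rfl
theorem F501131 : act 2 n219907 = n210182 := d3_1 D219907 (iv6 F501129) (iv2 D219905)
theorem F501132 : act 3 n219907 = n192428 := d7_1 D219907 (iv6 D192428) D192426
theorem F501133 : act 4 n219907 = n192436 := d10_1 D219907 (iv6 D192436) (iv4 F386709)
theorem F501134 : act 7 n219907 = n210181 := d14_2 F499823 D219907 F456481 (iv7 F453206) (iv6 F499822)
theorem F501135 : act 5 n219907 = n197272 := d21_6 F167229 (iv1 F210272) (iv5 F403680) (iv6 F501123) (iv1 D219904) D219907 (iv1 F494749) F494745 (iv6 D216051) F366580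
theorem F501136 : act 0 n210184 = n219907 := d17_0 F501135 (iv1 F494749) F494745 F482672 F459787 F394639 F466530 (iv0 F466533) (iv4 F456489)
theorem F501137 : act 1 n194742 = n219907 := d17_6 (iv1 D192167) (iv5 D99818) F73636 D48257 D104276 D194742 F501135 (iv0 D197272) (iv4 F385837)
def n219908 : Q := act 4 n192427
theorem D219908 : act 4 n192427 = n219908 := rfl
theorem F501138 : act 2 n219908 = n194326 := d1_1 D219908 (iv4 F501070) F501068
theorem F501139 : act 5 n219908 = n194321 := d9_2 D192427 D219908 (iv4 D194321) (iv5 D103207) F75113 D87884 D184249 (iv5 F464155) (iv4 F501087) (iv5 D219895) (iv4 D192418) (iv5 D100170) (iv4 D46751) D46752 D100174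
theorem F501140 : act 0 n219908 = n216542 := d17_0 F484867 (iv1 F463650) D219320 F498277 (iv5 D216533) (iv0 F372270) D203244 F427520 D219908
theorem F501141 : act 1 n219908 = n216525 := d18_6 F468116 (iv4 D192422) (iv1 D100173) D100174 D192427 D219908 F484812 F484860 F484858
theorem F501142 : act 6 n219908 = n212800 := d21_5 (iv5 D118168) D118166 D203172 (iv6 F484811) (iv1 F501141) (iv5 D212800) F454068 (iv5 F469931) (iv6 D213324) F241315
theorem F501143 : act 3 n212801 = n219908 := d7_3 F501142 F467576 D212801
def n219909 : Q := act 6 n192427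
theorem D219909 : act 6 n192427 = n219909 := rfl
theorem F501144 : act 4 n219909 = n212800 := d10_1 D219909 (iv6 F501142) (iv4 D219908)
theorem F501145 : act 5 n219909 = n212041 := d12_1 D219909 F472359 F403903 (iv6 D192428) D192427
theorem F501146 : act 1 n205924 = n219909 := d17_6 D152839 D213221 F469478 F458736 F245092 (iv5 F438442) F501145 (iv0 D212041) F228067
theorem F501147 : act 1 n219909 = n213365 := d15_1 F501146 F470100 (iv2 F438441)
def n219910 : Q := act 0 n192428
theorem D219910 : act 0 n192428 = n219910 := rfl
theorem F501148 : act 4 n219910 = n211250 := d20_2 (iv4 F386710) D219910 (iv3 F460811) (iv1 F460961) F460957 (iv4 F480090) (iv1 F480093) (iv4 F460752) (iv3 F461737) (iv1 D192430)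
theorem F501149 : act 3 n219910 = n211267 := d20_5 (iv4 F478997) F478998 (iv4 F501133) F501132 D219910 F460871 F340771 D169826 (iv3 F386262) F464842
theorem F501150 : act 6 n211265 = n219910 := d7_0 F501149 (iv6 D211267) D211265
def n219911 : Q := act 1 n192428
theorem D219911 : act 1 n192428 = n219911 := rfl
theorem F501151 : act 4 n204335 = n219911 := d20_0 (iv1 D219911) F386710 F154125 D100181 (iv3 F384757) F222503 F101084 (iv4 F102197) (iv3 F224334) F456670
theorem F501152 : act 5 n216056 = n219911 := d21_6 F427502 D213816 F472211 (iv6 F423243) F461036 (iv6 F482692) (iv1 D219911) (iv5 F403903) (iv6 F472359) (iv1 F464094)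
theorem F501153 : act 3 n219911 = n213350 := d6_1 F501152 F470049 D216056
theorem F501154 : act 6 n219911 = n204334 := d10_2 D204335 F501151 (iv4 D204334)
def n219912 : Q := act 7 n192428
theorem D219912 : act 7 n192428 = n219912 := rfl
theorem F501155 : act 3 n219912 = n210181 := d8_1 D219912 (iv7 F501134) F501132
theorem F501156 : act 4 n219912 = n192432 := d11_1 D219912 (iv7 D192432) (iv4 F386710)
theorem F501157 : act 5 n219912 = n213908 := d13_1 D219912 F472691 F403903
def n219913 : Q := act 5 n192429
theorem D219913 : act 5 n192429 = n219913 := rfl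
theorem F501158 : act 2 n219913 = n216276 := d2_1 D219913 F501080 (iv2 F501077)
theorem F501159 : act 3 n219913 = n213411 := d6_1 D219913 F470280 (iv3 F386718)
theorem F501160 : act 7 n219913 = n213409 := d13_2 F479826 D219913 (iv5 F479824)
theorem F501161 : act 4 n219913 = n203191 := d16_6 (iv4 F422316) (iv5 D201907) F179480 D195488 (iv4 F397127) D219913 F427373 (iv7 F484474) (iv2 D216458)
theorem F501162 : act 6 n203190 = n219913 := d10_0 F501161 (iv6 D203191) D203190
def n219914 : Q := act 6 n192429
theorem D219914 : act 6 n192429 = n219914 := rfl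
theorem F501163 : act 2 n219914 = n210009 := d3_1 D219914 (iv6 F501076) (iv2 F501077)
theorem F501164 : act 3 n219914 = n213538 := d7_1 D219914 F470923 (iv3 F386718)
theorem F501165 : act 7 n219914 = n213534 := d14_2 F479826 D219914 (iv6 D213534) F386548 (iv6 F479825)
theorem F501166 : act 1 n212452 = n219914 := d15_1 (iv0 F465848) F501165 F470903
def n219915 : Q := act 4 n192430
theorem D219915 : act 4 n192430 = n219915 := rfl
theorem F501167 : act 3 n219915 = n211090 := d5_1 D219915 (iv4 F479433) F479432 (iv4 F460752) (iv3 F461737)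
theorem F501168 : act 6 n219915 = n211089 := d10_2 F461736 D219915 (iv4 F461733)
theorem F501169 : act 0 n195394 = n219915 := d20_10 (iv4 D219915) (iv1 D192430) (iv4 F386710) (iv3 F501132) (iv1 F501137) F438764 (iv4 F453180) (iv1 D209315) F219363 (iv3 F396907)
def n219916 : Q := act 0 n192431
theorem D219916 : act 0 n192431 = n219916 := rfl
theorem F501170 : act 3 n219916 = n213386 := d20_5 (iv4 F498688) (iv1 F498689) F383297 (iv3 F386711) D219916 (iv4 D213386) D213384 F470171 (iv3 F386947) (iv1 F487955)
theorem F501171 : act 6 n219916 = n216730 := d21_5 (iv5 F151779) F285749 D100177 (iv6 F386712) D219916 F485665 (iv1 F467035) (iv5 F487813) (iv6 F487815) (iv1 F383443)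
theorem F501172 : act 2 n216231 = n219916 := d15_3 (iv0 D219916) (iv0 F498826) F498825
theorem F501173 : act 4 n219916 = n216230 := d1_2 D216231 F501172 (iv2 D216230)
def n219917 : Q := act 4 n192431
theorem D219917 : act 4 n192431 = n219917 := rfl
theorem F501174 : act 2 n219917 = n217235 := d1_1 D219917 F498496 F486002
theorem F501175 : act 3 n219917 = n204107 := d5_1 D219917 (iv4 D204107) (iv3 F383296) F383297 (iv3 F386711)
theorem F501176 : act 6 n219917 = n192433 := d10_2 (iv6 F386712) D219917 (iv4 D192433)
theorem F501177 : act 1 n219917 = n217236 := d18_8 (iv1 F498486) F452786 (iv1 F426883) F365328 (iv5 F483423) (iv4 F501173) (iv0 D219916) D219917 (iv5 F498484)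
theorem F501178 : act 1 n217116 = n219917 := d15_0 F501177 (iv7 D217236) (iv2 F487508)
def n219918 : Q := act 7 n192431
theorem D219918 : act 7 n192431 = n219918 := rfl
theorem F501179 : act 3 n219918 = n192443 := d8_1 D219918 (iv7 D192443) (iv3 F386711)
theorem F501180 : act 5 n219918 = n192432 := d13_1 D219918 (iv7 D192432) D192431
theorem F501181 : act 0 n216231 = n219918 := d19_0 F501180 (iv4 F501156) F501155 (iv1 F500674) (iv5 D219797) (iv4 D192265) F153880 (iv1 F134171) (iv5 D87418) F66305 (iv3 F72352) F291139 F291061 F68883 F291057 (iv1 D88374) D88376 D185524 (iv3 F483425)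
def n219919 : Q := act 0 n192436
theorem D219919 : act 0 n192436 = n219919 := rfl
theorem F501182 : act 5 n219919 = n194484 := d17_3 (iv1 F412518) F412515 D219919 (iv4 D194484) (iv5 D103653) (iv0 D48007) D48009 D103659 D194489
theorem F501183 : act 4 n219919 = n212220 := d18_1 D219919 F464808 (iv4 F386263) (iv5 F394630) (iv4 D194826) F160323 D194487 (iv0 F412517) F412515
theorem F501184 : act 2 n212224 = n219919 := d15_3 (iv0 D219919) (iv0 F478998) F478996
theorem F501185 : act 6 n219919 = n205446 := d3_2 D212224 F501184 F436464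
theorem F501186 : act 1 n198028 = n219919 := d17_8 F464808 (iv5 D192273) D192270 (iv5 F403892) (iv4 F424042) F424043 (iv0 F393423) D198028 F501183
def n219920 : Q := act 7 n192436
theorem D219920 : act 7 n192436 = n219920 := rfl
theorem F501187 : act 2 n219920 = n198028 := d4_1 D219920 (iv7 F412533) F412530
theorem F501188 : act 3 n219920 = n192439 := d8_1 D219920 (iv7 D192439) (iv3 F386714)
theorem F501189 : act 4 n219920 = n210181 := d11_1 D219920 (iv7 F501134) F501133
theorem F501190 : act 5 n219920 = n198027 := d13_1 D219920 (iv7 F412516) F412515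
theorem F501191 : act 0 n212224 = n219920 := d17_0 F501190 (iv1 F406556) (iv5 F394638) (iv4 F463698) F463699 (iv0 F386238) (iv5 F464827) (iv0 D212225) (iv4 F464823)
def n219921 : Q := act 6 n192437
theorem D219921 : act 6 n192437 = n219921 := rfl
theorem F501192 : act 3 n219921 = n197581 := d7_1 D219921 (iv6 F479014) F479012
theorem F501193 : act 4 n219921 = n193496 := d10_1 D219921 F390067 (iv4 F386936)
theorem F501194 : act 7 n219921 = n193495 := d14_2 F386944 D219921 F390063 (iv7 F386521) (iv6 F386943)
theorem F501195 : act 0 n219921 = n196359 := d21_10 (iv5 D196359) D196357 F400466 (iv6 F481891) (iv1 F481930) (iv6 F482748) (iv5 D216066) (iv1 F470116) F470114 D219921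
def n219922 : Q := act 2 n192444
theorem D219922 : act 2 n192444 = n219922 := rfl
theorem F501196 : act 3 n219922 = n219521 := d0_2 D192444 D219922 (iv2 F499266) (iv3 D217300) F369216
theorem F501197 : act 4 n219922 = n210865 := d1_2 F473612 D219922 (iv2 F473610)
theorem F501198 : act 5 n219922 = n208648 := d2_2 (iv5 F386732) D219922 (iv2 F450323)
theorem F501199 : act 6 n219922 = n203986 := d3_2 (iv6 F386733) D219922 F430714
theorem F501200 : act 7 n219922 = n210864 := d4_2 F488350 D219922 (iv2 F488351)
def n219923 : Q := act 5 n192445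
theorem D219923 : act 5 n192445 = n219923 := rfl
theorem F501201 : act 2 n219923 = n192449 := d2_1 D219923 (iv5 D192449) (iv2 F386734)
theorem F501202 : act 3 n219923 = n213222 := d6_1 D219923 (iv5 D213222) (iv3 F422563)
theorem F501203 : act 6 n219923 = n213222 := d12_2 F458721 D219923 (iv5 D213222) D213223 (iv5 F469485)
theorem F501204 : act 4 n219923 = n192795 := d16_2 D192445 D219923 (iv5 D192795) (iv4 D100705) (iv5 D46963) (iv4 F74034) (iv5 F292909) F152932 D100189
theorem F501205 : act 0 n219923 = n218379 := d17_2 (iv1 F386736) D219923 (iv5 D218379) (iv4 D189186) (iv5 F293946) F387803 F387797 F339913 (iv4 F339888)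
theorem F501206 : act 1 n219923 = n210882 := d17_6 D100147 F367144 (iv1 F375483) F375480 D192445 D219923 F459135 (iv0 F335720) (iv4 D100149)
def n219924 : Q := act 0 n192446
theorem D219924 : act 0 n192446 = n219924 := rfl
theorem F501207 : act 4 n219924 = n214074 := d18_3 (iv1 F458717) F458720 D219924 (iv5 D214074) (iv4 F397212) (iv0 F423080) F404079 D207375 (iv5 F458716)
theorem F501208 : act 5 n219924 = n199210 := d21_8 F410839 F391964 F221116 (iv6 F331214) (iv1 F385910) D219749 F500417 D219924 (iv6 D199210) (iv1 F410841)
theorem F501209 : act 3 n215597 = n219924 := d6_3 F501208 F411182 D215597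
theorem F501210 : act 7 n192452 = n219924 := d13_0 F501208 (iv7 F411184) (iv5 F390049)
theorem F501211 : act 2 n219924 = n192451 := d15_3 (iv0 D192451) D192452 F501210
theorem F501212 : act 0 n219924 = n192453 := d20_4 F335335 (iv1 F385706) (iv4 F480704) F501209 F386746 (iv4 F386755) (iv1 F391232) (iv4 D192927) F388092 (iv1 D192879)
theorem F501213 : act 0 n213821 = n216534 := d20_1 (iv4 F472232) F484844 (iv3 F386738) D219924 (iv3 F501209) F480704 (iv1 D192137) D192138 D219722 F500267
def n219925 : Q := act 1 n192446
theorem D219925 : act 1 n192446 = n219925 := rfl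
theorem F501214 : act 1 n219925 = n192453 := d15_1 D219925 (iv7 D192453) (iv2 F386737)
theorem F501215 : act 7 n219925 = n192451 := d15_2 (iv0 D219924) D219925 (iv2 F501211)
theorem F501216 : act 3 n203408 = n219925 := d20_9 (iv4 F458720) (iv1 D202394) (iv4 F423855) F423854 (iv1 F388866) F388863 (iv4 D191744) F338922 (iv4 F428172) (iv1 D219925)
theorem F501217 : act 5 n203406 = n219925 := d21_6 (iv5 D102399) (iv1 D47513) D47515 D102405 F359407 D203406 (iv1 D219925) (iv5 F500417) (iv6 D219749) (iv1 F385911)
theorem F501218 : act 2 n219925 = n192452 := d2_1 F501217 F390049 (iv2 F428169)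
theorem F501219 : act 4 n219925 = n204799 := d16_6 (iv4 F397212) (iv5 F397219) (iv4 F434345) F434346 (iv4 F428171) F501217 (iv5 F433628) (iv7 F455252) (iv2 F455250)
theorem F501220 : act 3 n211691 = n202393 := d20_5 (iv4 D160331) (iv1 D76842) D76843 (iv3 F323332) D211691 F458417 (iv1 F501214) F501219 (iv3 D204799) F356081
def n219926 : Q := act 7 n192446
theorem D219926 : act 7 n192446 = n219926 := rfl
theorem F501221 : act 2 n219926 = n192453 := d4_1 D219926 (iv7 D192453) (iv2 F386737)
theorem F501222 : act 3 n219926 = n216536 := d8_1 D219926 (iv7 D216536) (iv3 F386738)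
theorem F501223 : act 1 n192452 = n219926 := d15_1 D192452 (iv7 D219926) F386737
theorem F501224 : act 1 n219926 = n192451 := d15_1 F501223 (iv7 F501215) F501218
def n219927 : Q := act 1 n192448
theorem D219927 : act 1 n192448 = n219927 := rfl
theorem F501225 : act 7 n219927 = n213064 := d15_2 (iv0 F459730) D219927 (iv2 F468835)
theorem F501226 : act 3 n202108 = n219927 := d8_3 F501225 (iv3 D213064) (iv7 F422895)
def n219928 : Q := act 2 n192448
theorem D219928 : act 2 n192448 = n219928 := rfl
theorem F501227 : act 3 n219928 = n213057 := d0_2 D192448 D219928 (iv2 F468810) (iv3 F422563) F386734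
theorem F501228 : act 4 n219928 = n192455 := d1_2 (iv4 F386744) D219928 (iv2 D192455)
theorem F501229 : act 7 n219928 = n213220 := d4_2 F388289 D219928 F469473
theorem F501230 : act 1 n219927 = n213220 := d15_1 D219927 (iv7 F501229) (iv2 D219928)
theorem F501231 : act 1 n213064 = n219928 := d15_1 (iv0 F468834) F501229 F469473
theorem F501232 : act 6 n211692 = n219928 := d10_0 F501228 (iv6 F424177) (iv4 F462716)
def n219929 : Q := act 5 n192448
theorem D219929 : act 5 n192448 = n219929 := rfl
theorem F501233 : act 3 n219929 = n192449 := d6_1 D219929 (iv5 D192449) D192448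
theorem F501234 : act 1 n219929 = n215863 := d17_6 (iv1 D153176) D153178 F374513 F374511 (iv4 F386744) D219929 F481846 (iv0 F472529) (iv4 D213274)
def n219930 : Q := act 6 n192448
theorem D219930 : act 6 n192448 = n219930 := rfl
theorem F501235 : act 2 n219930 = n211692 := d3_1 D219930 F501232 (iv2 D219928)
theorem F501236 : act 3 n219930 = n192450 := d7_1 D219930 (iv6 D192450) D192448
theorem F501237 : act 4 n219930 = n192456 := d10_1 D219930 (iv6 D192456) (iv4 F386744)
theorem F501238 : act 0 n219930 = n210903 := d21_4 (iv5 F481846) (iv1 F501234) (iv5 D219929) D219930 (iv6 F459224) F422482 (iv1 D200102) D200104 F469663 F472529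
theorem F501239 : act 1 n219930 = n202752 := d15_1 (iv0 F501238) F425427 (iv2 F459221)
theorem F501240 : act 5 n211692 = n219930 := d17_5 (iv1 F223450) (iv5 F423988) F423989 D202478 (iv4 F462716) F501239 (iv5 F459206) F459204 (iv4 D197605)
theorem F501241 : act 7 n211691 = n219930 := d8_0 F501236 F458418 (iv3 F501220)
def n219931 : Q := act 0 n192449
theorem D219931 : act 0 n192449 = n219931 := rfl
theorem F501242 : act 5 n219931 = n213866 := d17_1 D219931 (iv1 F472489) (iv5 F491126) (iv4 D217893) (iv5 D188106) D188104 D217890 F491111 F454060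
theorem F501243 : act 4 n219931 = n217887 := d18_3 F491099 F454060 D219931 (iv5 D217887) (iv4 D188102) (iv0 F370816) (iv4 F444358) (iv0 F444360) D217888
theorem F501244 : act 2 n218379 = n219931 := d15_3 (iv0 D219931) (iv0 F473206) (iv7 F493598)
theorem F501245 : act 7 n219931 = n210882 := d4_2 (iv7 F493598) F501244 (iv2 F473203)
theorem F501246 : act 3 n202110 = n219931 := d8_3 F501245 (iv3 D210882) (iv7 F422899)
def n219932 : Q := act 5 n192450
theorem D219932 : act 5 n192450 = n219932 := rfl
theorem F501247 : act 2 n219932 = n213223 := d2_1 D219932 (iv5 F469485) (iv2 F458719)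
theorem F501248 : act 3 n219932 = n211692 := d6_1 D219932 F501240 F501236
theorem F501249 : act 6 n219932 = n213057 := d12_2 D192450 D219932 F468807 F454082 (iv5 D192449)
theorem F501250 : act 0 n219932 = n214071 := d17_2 F431075 D219932 (iv5 D214071) F245585 (iv5 F433711) (iv0 F452974) F452973 (iv0 F455600) F455599
theorem F501251 : act 0 n213258 = n219932 := d19_0 (iv5 D219932) F386745 F154139 D100196 D192464 (iv4 F455474) F455473 (iv1 F402403) (iv5 F402402) (iv4 D121051) F297851 F119480 (iv5 D78283) (iv4 F297600) (iv3 F128304) (iv1 F333722) (iv5 F351493) F244893 D213258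
def n219933 : Q := act 5 n192451
theorem D219933 : act 5 n192451 = n219933 := rfl
theorem F501252 : act 2 n219933 = n199210 := d2_1 D219933 (iv5 F501208) F501211
theorem F501253 : act 3 n219933 = n198593 := d6_1 D219933 (iv5 F431058) (iv3 F431060)
theorem F501254 : act 7 n219933 = n203406 := d13_2 F501215 D219933 F501217
theorem F501255 : act 4 n219933 = n196903 := d16_2 F431074 D219933 (iv5 F402236) D211056 (iv5 F459925) F404316 D202423 (iv7 F473352) F473350
theorem F501256 : act 6 n219933 = n196902 := d21_9 (iv5 D210187) F411285 (iv5 D199240) F371282 F371281 D192188 F385914 D192451 D219933 (iv1 F456504)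
def n219934 : Q := act 6 n192451
theorem D219934 : act 6 n192451 = n219934 := rfl
theorem F501257 : act 3 n219934 = n203141 := d7_1 D219934 (iv6 F431056) (iv3 F431060)
theorem F501258 : act 5 n219934 = n210219 := d12_1 D219934 (iv6 D210219) (iv5 F402231) (iv6 F501256) (iv5 D219933)
theorem F501259 : act 7 n210249 = n219934 := d13_0 F501258 (iv7 F456630) D210249
def n219935 : Q := act 6 n192452
theorem D219935 : act 6 n192452 = n219935 := rfl
def n219936 : Q := act 7 n192456
theorem D219936 : act 7 n192456 = n219936 := rfl
theorem F501260 : act 2 n219936 = n210895 := d4_1 D219936 F459188 F424176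
theorem F501261 : act 3 n219936 = n192460 := d8_1 D219936 (iv7 D192460) (iv3 F386749)
theorem F501262 : act 4 n219936 = n211691 := d11_1 D219936 F501241 F501237
theorem F501263 : act 5 n219936 = n197546 := d13_1 D219936 F404765 (iv5 F386750)
theorem F501264 : act 1 n196381 = n219936 := d15_1 F424179 (iv7 D219936) (iv2 F424176)
theorem F501265 : act 1 n219936 = n196383 := d15_1 F501264 F400533 (iv2 F400523)
def n219937 : Q := act 3 n192458
theorem D219937 : act 3 n192458 = n219937 := rfl
theorem F501266 : act 4 n219937 = n209997 := d5_2 F390036 D219937 F455685 F220376 (iv3 F220348)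
theorem F501267 : act 5 n219937 = n219921 := d6_2 (iv5 F404907) D219937 F501192
theorem F501268 : act 7 n219937 = n209963 := d8_2 (iv7 F390038) D219937 (iv3 D209963)
theorem F501269 : act 0 n219937 = n192459 := d19_4 (iv1 F220337) (iv5 F220349) F390036 D219937 (iv5 D192459) F154141 (iv3 F154139) D192451 D219933 F501255 F402233 F342426 D145566 F351575 (iv3 F414543) (iv1 F414548) (iv5 F348043) (iv4 F428149) (iv3 F428151)
def n219938 : Q := act 0 n192459
theorem D219938 : act 0 n192459 = n219938 := rfl
theorem F501270 : act 5 n219938 = n219714 := d17_3 (iv1 D192458) D192459 D219938 (iv4 D219714) (iv5 D192114) (iv0 F153515) (iv5 F292961) (iv0 F361948) F390036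
theorem F501271 : act 4 n219938 = n209995 := d18_1 D219938 (iv1 F455689) (iv4 F471574) F471575 F375258 F361951 (iv4 F390045) (iv0 D192457) D192459
theorem F501272 : act 3 n219938 = n193216 := d20_5 (iv4 D67435) (iv1 F163966) (iv4 F222741) (iv3 F386753) D219938 F389198 (iv1 F462757) F462760 (iv3 D211695) (iv1 D143934)
theorem F501273 : act 2 n209963 = n219938 := d15_3 (iv0 D219938) (iv0 F501269) F501268
theorem F501274 : act 6 n219938 = n196764 := d3_2 F460086 F501273 (iv2 F460085)
def n219939 : Q := act 7 n192459
theorem D219939 : act 7 n192459 = n219939 := rfl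
theorem F501275 : act 3 n219939 = n197546 := d8_1 D219939 F404765 (iv3 F386753)
theorem F501276 : act 4 n219939 = n214183 := d11_1 D219939 F473886 F401155
theorem F501277 : act 5 n219939 = n192460 := d13_1 D219939 (iv7 D192460) D192459
theorem F501278 : act 6 n219939 = n197545 := d14_1 D219939 F404762 F245681 (iv7 F222736) (iv6 F386754)
theorem F501279 : act 0 n209963 = n219939 := d17_0 F501277 (iv1 F391232) (iv5 F400466) (iv4 F407264) (iv5 D198220) (iv0 D109055) D109057 (iv0 F455552) (iv4 F455549)
def n219940 : Q := act 5 n192470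
theorem D219940 : act 5 n192470 = n219940 := rfl
theorem F501280 : act 2 n219940 = n192474 := d2_1 D219940 (iv5 D192474) (iv2 F386759)
theorem F501281 : act 6 n219940 = n195373 := d12_2 (iv6 F438417) D219940 F396848 D205917 F438413
theorem F501282 : act 7 n219940 = n216533 := d13_2 (iv7 F386760) D219940 (iv5 D216533)
theorem F501283 : act 4 n219940 = n194370 := d16_2 D192470 D219940 (iv5 D194370) (iv4 D103253) (iv5 F138087) F138086 (iv5 F152925) F152926 D100199
theorem F501284 : act 0 n219940 = n219902 := d17_2 (iv1 F427352) D219940 (iv5 D219902) F386707 (iv5 F374425) F383080 F383078 F365065 (iv4 F427347)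
theorem F501285 : act 1 n219940 = n212814 := d17_6 D100172 F294731 (iv1 F294727) (iv5 F154142) D192470 D219940 F467603 (iv0 D192424) (iv4 D100174)
def n219941 : Q := act 7 n192471
theorem D219941 : act 7 n192471 = n219941 := rfl
theorem F501286 : act 2 n219941 = n192478 := d4_1 D219941 (iv7 D192478) (iv2 F386762)
theorem F501287 : act 4 n219941 = n211245 := d11_1 D219941 F460787 (iv4 F438416)
theorem F501288 : act 5 n219941 = n219604 := d13_1 D219941 (iv7 D219604) (iv5 F386763)
theorem F501289 : act 6 n219941 = n216536 := d14_1 D219941 (iv7 D216536) (iv6 D184253) (iv7 F154143) D192471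
theorem F501290 : act 1 n192477 = n219941 := d15_1 D192477 (iv7 D219941) F386762
theorem F501291 : act 1 n219941 = n192476 := d15_1 F501290 (iv7 F440142) (iv2 F446572)
def n219942 : Q := act 2 n192473
theorem D219942 : act 2 n192473 = n219942 := rfl
theorem F501292 : act 3 n219942 = n201970 := d0_2 D192473 D219942 (iv2 F463844) (iv3 F463840) F386759
theorem F501293 : act 4 n219942 = n192480 := d1_2 (iv4 F386770) D219942 (iv2 D192480)
def n219943 : Q := act 5 n192473
theorem D219943 : act 5 n192473 = n219943 := rfl
theorem F501294 : act 3 n219943 = n192474 := d6_1 D219943 (iv5 D192474) D192473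
theorem F501295 : act 0 n219943 = n212801 := d17_2 F438391 D219943 F467579 F404139 (iv5 F471609) (iv0 D213680) (iv5 D154702) D154700 (iv4 F438390)
def n219944 : Q := act 6 n192473
theorem D219944 : act 6 n192473 = n219944 := rfl
theorem F501296 : act 3 n219944 = n192475 := d7_1 D219944 (iv6 D192475) D192473
theorem F501297 : act 4 n219944 = n192481 := d10_1 D219944 (iv6 D192481) (iv4 F386770)
theorem F501298 : act 0 n216052 = n219944 := d21_4 (iv5 D132437) (iv1 F316349) D179908 D216052 (iv6 D219944) D219943 F501295 F467579 (iv6 D197398) (iv1 F212505)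
def n219945 : Q := act 1 n192474
theorem D219945 : act 1 n192474 = n219945 := rfl
theorem F501299 : act 1 n219945 = n216533 := d15_1 D219945 (iv7 F501282) F501280
theorem F501300 : act 7 n219945 = n219902 := d15_2 (iv0 F427533) D219945 F501110
theorem F501301 : act 5 n219945 = n219643 := d17_7 (iv1 F384579) (iv5 D191845) (iv1 D98993) (iv5 F73881) D100200 D192474 D219945 F499816 (iv4 D192415)
theorem F501302 : act 2 n212814 = n219945 := d2_3 F501301 (iv2 F499819) (iv5 F467603)
def n219946 : Q := act 4 n192474
theorem D219946 : act 4 n192474 = n219946 := rfl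
theorem F501303 : act 2 n219946 = n194370 := d1_1 D219946 (iv4 F501283) F501280
theorem F501304 : act 5 n219946 = n194366 := d9_2 D192474 D219946 (iv4 D194366) (iv5 F369965) F369964 (iv5 D184252) D184251 D216533 (iv4 F498277) (iv5 D219320) (iv4 D191160) (iv5 D97328) (iv4 F72957) (iv5 F73881) D100200
theorem F501305 : act 0 n219946 = n199937 := d17_0 (iv5 D199937) F358516 D194326 (iv4 F501070) (iv5 D219891) F386683 (iv5 F427532) (iv0 F427533) D219946
def n219947 : Q := act 5 n192476
theorem D219947 : act 5 n192476 = n219947 := rfl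
theorem F501306 : act 2 n219947 = n207908 := d2_1 D219947 (iv5 F463672) F463671
theorem F501307 : act 3 n219947 = n195833 := d6_1 D219947 F398383 (iv3 F386777)
theorem F501308 : act 4 n219947 = n195843 := d9_1 D219947 (iv5 F398418) (iv4 F216194) F216195 (iv4 F227199) D211917 F463574 (iv5 F446571) (iv4 D207814) (iv5 D132394) (iv4 F97393) F97394 (iv4 F111116) D156075 F404033
theorem F501309 : act 7 n219947 = n206706 := d13_2 F440142 D219947 F441921
theorem F501310 : act 1 n219947 = n217008 := d17_8 (iv1 F446529) F446527 (iv1 F212422) D206684 (iv4 F499644) (iv5 F501288) F501291 D219947 F486967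
theorem F501311 : act 0 n219947 = n209341 := d18_0 (iv4 D209341) F219404 (iv4 F365822) (iv5 F457034) F457033 (iv0 F460788) (iv4 F501287) F501291 D219947
theorem F501312 : act 6 n195839 = n219947 := d14_5 F501309 F441920 (iv7 F233616) D212679 (iv7 F467025)
def n219948 : Q := act 6 n192476
theorem D219948 : act 6 n192476 = n219948 := rfl
theorem F501313 : act 3 n219948 = n215409 := d7_1 D219948 F479846 (iv3 F386777)
theorem F501314 : act 4 n219948 = n197420 := d10_1 D219948 F404196 F404033
def n219949 : Q := act 5 n192482
theorem D219949 : act 5 n192482 = n219949 := rfl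
theorem F501315 : act 2 n219949 = n218326 := d2_1 D219949 (iv5 D218326) F386781
theorem F501316 : act 3 n219949 = n215468 := d6_1 D219949 F480128 F459641
theorem F501317 : act 6 n219949 = n215522 := d12_2 (iv6 F459639) D219949 F480312 F474410 F459637
theorem F501318 : act 7 n219949 = n218331 := d13_2 (iv7 F386783) D219949 (iv5 D218331)
theorem F501319 : act 0 n219949 = n204078 := d17_2 D192482 D219949 F493496 F493494 F386527 (iv0 F386790) (iv5 D192486) (iv0 D100205) (iv4 F154149)
def n219950 : Q := act 5 n192483
theorem D219950 : act 5 n192483 = n219950 := rfl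
theorem F501320 : act 2 n219950 = n218331 := d2_1 D219950 (iv5 D218331) F386778
theorem F501321 : act 3 n219950 = n193310 := d6_1 D219950 (iv5 D193310) F386780
theorem F501322 : act 6 n219950 = n218800 := d12_2 F490703 D219950 F495713 (iv6 D217802) D217801
theorem F501323 : act 7 n219950 = n218326 := d13_2 F386779 D219950 (iv5 D218326)
theorem F501324 : act 1 n219950 = n204078 := d17_6 (iv1 F375860) (iv5 F487499) (iv1 F487501) F374455 (iv4 F386776) D219950 F493496 F493492 (iv4 D189155)
theorem F501325 : act 6 n217156 = n218331 := d3_2 F501322 (iv2 F495715) (iv2 F501320)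
def n219951 : Q := act 0 n192484
theorem D219951 : act 0 n192484 = n219951 := rfl
theorem F501326 : act 5 n219951 = n196348 := d17_3 (iv1 D192483) D192484 D219951 F400431 (iv5 D188699) (iv0 D92672) (iv5 F142790) D188686 (iv4 F386776)
theorem F501327 : act 4 n219951 = n219721 := d18_1 D219951 F500261 (iv4 F493318) F493319 F375626 F374461 (iv4 F386782) (iv0 D192482) D192484
theorem F501328 : act 2 n218361 = n219951 := d15_3 (iv0 D219951) F492660 (iv7 F493498)
theorem F501329 : act 7 n219951 = n218364 := d4_2 (iv7 F493498) F501328 F493509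
theorem F501330 : act 3 n196352 = n219951 := d5_5 F501327 F500258 F478470 (iv3 F487634) F487636
def n219952 : Q := act 0 n192493
theorem D219952 : act 0 n192493 = n219952 := rfl
theorem F501331 : act 5 n219952 = n192920 := d17_3 (iv1 D192491) D192493 D219952 F388228 F385229 F157777 (iv5 F357366) D211234 (iv4 F460734)
theorem F501332 : act 4 n219952 = n219351 := d18_1 D219952 F498425 F500083 F500081 F453903 (iv0 F457338) F457340 (iv0 D192490) D192493
theorem F501333 : act 0 n219952 = n216552 := d18_0 F484912 D219952 F501332 (iv5 D219351) (iv4 D191268) F157303 D184688 F388230 (iv5 F501331)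
theorem F501334 : act 2 n219693 = n219952 := d1_3 F501332 F498421 D219693
theorem F501335 : act 7 n219687 = n219952 := d11_0 F501332 F498424 (iv4 F500054)
theorem F501336 : act 3 n219952 = n219734 := d19_3 (iv1 F382835) D219351 (iv4 F501332) F500332 (iv5 F433008) F391553 F340548 (iv1 F358500) F358499 (iv4 F157789) F157788 (iv1 D88035) D88036 F329524 (iv3 F176286) (iv1 F176289) (iv5 F93835) F111438 D135980
def n219953 : Q := act 1 n192493
theorem D219953 : act 1 n192493 = n219953 := rfl
theorem F501337 : act 1 n219953 = n216552 := d15_1 D219953 (iv7 F493567) F493564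
theorem F501338 : act 7 n219953 = n219693 := d15_2 (iv0 D219952) D219953 F501334
theorem F501339 : act 5 n219953 = n192921 := d17_7 (iv1 F157303) (iv5 D97953) (iv1 F157749) D46775 D100236 D192493 D219953 F388232 (iv4 D184688)
theorem F501340 : act 4 n219953 = n219695 := d17_9 (iv1 F500100) F452775 F352999 D203389 (iv4 F500657) F500658 (iv0 D192490) D192493 D219953
theorem F501341 : act 6 n211909 = n219953 := d21_9 (iv5 D192493) D192490 (iv5 F500658) F500659 (iv1 F485597) F460582 (iv5 D202549) F366325 D211909 (iv1 D219953)
theorem F501342 : act 2 n219953 = n219687 := d3_1 F501341 F500053 (iv2 F463532)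
theorem F501343 : act 3 n219953 = n209850 := d7_1 F501341 F455130 (iv3 F463533)
def n219954 : Q := act 6 n192493
theorem D219954 : act 6 n192493 = n219954 := rfl
theorem F501344 : act 2 n219954 = n193769 := d3_1 D219954 (iv6 F493566) F493564
theorem F501345 : act 3 n219954 = n213298 := d7_1 D219954 (iv6 F471381) (iv3 F471385)
theorem F501346 : act 4 n219954 = n216626 := d10_1 D219954 F485246 F484912
theorem F501347 : act 5 n219954 = n203137 := d12_1 D219954 (iv6 D203137) (iv5 F385887) (iv6 F385890) D192493
theorem F501348 : act 7 n219954 = n214582 := d14_2 (iv7 F485244) D219954 F475906 F377750 D216628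
theorem F501349 : act 0 n219954 = n212993 := d21_4 F481848 (iv1 D192491) D192493 D219954 F468502 (iv5 D154082) (iv1 F241802) (iv5 F387071) (iv6 F500065) F500068
theorem F501350 : act 0 n214584 = n219954 := d21_4 (iv5 D211200) D211198 F485746 (iv6 F485747) (iv6 D219954) (iv5 D192493) D192490 (iv5 F500658) F500659 (iv1 F485597)
def n219955 : Q := act 6 n192496
theorem D219955 : act 6 n192496 = n219955 := rfl
theorem F501351 : act 2 n219955 = n213715 := d3_1 D219955 (iv6 D213715) F386825
theorem F501352 : act 3 n219955 = n192497 := d7_1 D219955 (iv6 D192497) D192496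
theorem F501353 : act 4 n219955 = n200247 := d10_1 D219955 F415695 (iv4 F386821)
theorem F501354 : act 5 n219955 = n218695 := d12_1 D219955 F495202 F492496 (iv6 D218169) (iv5 F386822)
theorem F501355 : act 7 n219955 = n200239 := d14_2 (iv7 F386823) D219955 (iv6 D200239) D200240 (iv6 F415674)
theorem F501356 : act 0 n219955 = n212568 := d21_4 (iv5 F471863) (iv1 F471866) (iv5 F386822) D219955 F466461 F401247 (iv1 F228438) (iv5 D145408) (iv6 F364960) (iv1 F388299)
theorem F501357 : act 0 n218608 = n219955 := d21_4 D193315 F389447 F381505 (iv6 F494733) (iv6 D219955) F386822 (iv1 F439934) (iv5 D206251) (iv6 F389434) (iv1 F389436)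
def n219956 : Q := act 3 n192507
theorem D219956 : act 3 n192507 = n219956 := rfl
theorem F501358 : act 2 n219956 = n196342 := d0_1 D219956 F400404 (iv2 F172189) (iv3 F400227) (iv2 F386878)
theorem F501359 : act 4 n219956 = n199198 := d5_2 D192507 D219956 F411128 F386874 (iv3 D192506)
theorem F501360 : act 5 n219956 = n196695 := d6_2 F401981 D219956 F401985
theorem F501361 : act 6 n219956 = n196353 := d7_2 (iv6 F386876) D219956 F400457
theorem F501362 : act 7 n219956 = n196335 := d8_2 (iv7 F386877) D219956 F400370
theorem F501363 : act 0 n219956 = n196297 := d20_4 F154230 D100245 D192507 D219956 (iv3 D196297) (iv4 D106883) (iv1 D49384) (iv4 F78098) (iv3 F164715) F350423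
theorem F501364 : act 0 n196341 = n219956 := d17_0 F501360 (iv1 F401515) F386488 (iv4 F401246) (iv5 F401716) (iv0 F401717) (iv5 F401509) (iv0 F401511) (iv4 F400403)
def n219957 : Q := act 6 n192513
theorem D219957 : act 6 n192513 = n219957 := rfl
theorem F501365 : act 2 n219957 = n213785 := d3_1 D219957 (iv6 D213785) F386920
theorem F501366 : act 3 n219957 = n213701 := d7_1 D219957 (iv6 D213701) (iv3 F392908)
theorem F501367 : act 5 n219957 = n218697 := d12_1 D219957 (iv6 F495212) F492534 (iv6 D218176) F396880
theorem F501368 : act 0 n219957 = n212645 := d21_4 (iv5 D188659) D188656 F396880 D219957 (iv6 F476783) F476785 F464653 F464650 (iv6 F492546) (iv1 D218178)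
theorem F501369 : act 0 n212554 = n219957 := d21_4 (iv5 F483007) (iv1 F495866) F495865 (iv6 F466398) (iv6 D219957) (iv5 F396880) D218175 F492525 F394258 F394257
def n219958 : Q := act 5 n192517
theorem D219958 : act 5 n192517 = n219958 := rfl
theorem F501370 : act 3 n219958 = n192519 := d6_1 D219958 (iv5 D192519) D192517
theorem F501371 : act 6 n219958 = n216322 := d12_2 (iv6 F411651) D219958 F483831 F389888 (iv5 F411647)
theorem F501372 : act 7 n219958 = n217151 := d13_2 F499879 D219958 (iv5 F499877)
theorem F501373 : act 4 n219958 = n216323 := d16_2 F500222 D219958 F483835 (iv4 F461097) F480029 F480026 F366917 (iv7 F390144) (iv2 F500220)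
theorem F501374 : act 0 n219958 = n202518 := d17_2 (iv1 F411652) D219958 (iv5 D202518) F180502 D144153 D211840 (iv5 F500255) (iv0 F500256) F388076
def n219959 : Q := act 6 n192518
theorem D219959 : act 6 n192518 = n219959 := rfl
theorem F501375 : act 2 n219959 = n219921 := d3_1 D219959 (iv6 D219921) (iv2 F386935)
theorem F501376 : act 3 n219959 = n211699 := d7_1 D219959 (iv6 F464563) F464560
theorem F501377 : act 4 n219959 = n192520 := d10_1 D219959 (iv6 D192520) D192518
theorem F501378 : act 7 n219959 = n219714 := d14_2 (iv7 F386934) D219959 F500218 F385628 F386715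
theorem F501379 : act 0 n197582 = n219959 := d21_4 F388733 F404896 F404897 (iv6 F404909) (iv6 D219959) (iv5 F434786) F434788 (iv5 F457900) (iv6 D210520) F375061
def n219960 : Q := act 4 n192521
theorem D219960 : act 4 n192521 = n219960 := rfl
theorem F501380 : act 2 n219960 = n219250 := d1_1 D219960 (iv4 F498848) (iv2 F498851)
theorem F501381 : act 7 n219960 = n199254 := d11_2 F455592 D219960 (iv4 F455591)
theorem F501382 : act 5 n219960 = n212077 := d16_3 F486228 F482689 D219960 F464246 (iv5 D190968) D190967 D219233 F497857 (iv2 F486223)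
theorem F501383 : act 1 n219960 = n196679 := d18_6 F383474 D210655 (iv1 F486227) F486228 F482689 D219960 F401464 D211238 F460759
def n219961 : Q := act 3 n192522
theorem D219961 : act 3 n192522 = n219961 := rfl
theorem F501384 : act 2 n219961 = n215240 := d0_1 D219961 F479009 F401294 (iv3 F386716) (iv2 F386942)
theorem F501385 : act 5 n219961 = n204293 := d6_2 F479688 D219961 (iv3 F479687)
theorem F501386 : act 6 n219961 = n211435 := d7_2 (iv6 F386943) D219961 (iv3 F461522)
theorem F501387 : act 7 n219961 = n215241 := d8_2 (iv7 F386944) D219961 F479012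
theorem F501388 : act 0 n219961 = n210439 := d20_4 F482740 (iv1 F384884) D192522 D219961 F457539 F221917 F164816 F344460 (iv3 F280525) D216065
def n219962 : Q := act 3 n192524
theorem D219962 : act 3 n192524 = n219962 := rfl
theorem F501389 : act 2 n219962 = n217225 := d0_1 D219962 F498788 (iv2 F498789) (iv3 F487882) F487881
theorem F501390 : act 4 n219962 = n193057 := d5_2 (iv4 F470224) D219962 (iv3 F469622) F469623 D213396
theorem F501391 : act 5 n219962 = n214100 := d6_2 F493344 D219962 (iv3 F493343)
theorem F501392 : act 6 n219962 = n193480 := d7_2 (iv6 F486795) D219962 (iv3 F486792)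
theorem F501393 : act 7 n219962 = n217223 := d8_2 F487956 D219962 F488008
theorem F501394 : act 0 n219962 = n216870 := d20_4 (iv4 F483788) F483791 (iv4 F470224) D219962 F486314 (iv4 F473560) (iv1 F473563) (iv4 D210608) (iv3 F458193) F458196
theorem F501395 : act 1 n219962 = n192876 := d15_1 (iv0 F501394) (iv7 F388080) (iv2 F486313)
def n219963 : Q := act 4 n192525
theorem D219963 : act 4 n192525 = n219963 := rfl
theorem F501396 : act 2 n219963 = n219398 := d1_1 D219963 F498688 (iv2 F487958)
theorem F501397 : act 3 n219963 = n215786 := d5_1 D219963 F481575 D216854 (iv4 F498780) F498783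
theorem F501398 : act 7 n219963 = n219399 := d11_2 (iv7 F487885) D219963 F498694
theorem F501399 : act 5 n219963 = n215784 := d16_5 F467723 F459637 (iv4 F492620) F492621 D219963 F481563 (iv5 F478102) F478104 (iv2 F467722)
theorem F501400 : act 0 n219963 = n216313 := d17_0 (iv5 D216313) (iv1 D182919) D182920 F386939 (iv5 D192519) (iv0 D100264) D100266 D192525 D219963
theorem F501401 : act 1 n219963 = n216312 := d18_6 (iv1 F457919) (iv4 F482751) F482750 (iv4 F492620) F492621 D219963 F483784 F488341 F488336
def n219964 : Q := act 3 n192528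
theorem D219964 : act 3 n192528 = n219964 := rfl
theorem F501402 : act 2 n219964 = n201045 := d0_1 D219964 (iv3 F418863) F374924 F439427 F439422
theorem F501403 : act 4 n219964 = n205414 := d5_2 D192528 D219964 F436300 F397980 F163262
theorem F501404 : act 6 n219964 = n201027 := d7_2 (iv6 F386955) D219964 F418801
theorem F501405 : act 7 n219964 = n201025 := d8_2 F452163 D219964 (iv3 F452160)
theorem F501406 : act 0 n219964 = n195133 := d19_4 F290205 D100341 D192528 D219964 F396055 (iv4 F410875) F410874 F372361 (iv5 F378850) (iv4 D190097) F147294 (iv1 F76085) (iv5 D48411) (iv4 D23539) (iv3 F63347) (iv1 D22875) (iv5 D10808) D10807 D22871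
theorem F501407 : act 0 n195239 = n219964 := d20_4 F97715 F206980 (iv4 F209220) (iv3 F396418) (iv3 D219964) (iv4 D192528) (iv1 F374592) (iv4 F426325) (iv3 F426330) F214601
theorem F501408 : act 5 n219964 = n201098 := d17_1 F501407 (iv1 D201098) (iv5 D113904) (iv4 F391697) F363271 (iv0 F421210) D206660 (iv0 F441784) F441042
def n219965 : Q := act 5 n192528
theorem D219965 : act 5 n192528 = n219965 := rfl
theorem F501409 : act 2 n219965 = n217823 := d2_1 D219965 F490801 F439422
theorem F501410 : act 3 n219965 = n201098 := d6_1 D219965 (iv5 F501408) (iv3 D219964)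
theorem F501411 : act 7 n219965 = n201603 := d13_2 F452163 D219965 (iv5 F452162)
theorem F501412 : act 4 n219965 = n194032 := d16_2 D192528 D219965 F391814 (iv4 F385471) (iv5 D192081) F153404 D102562 (iv7 F349111) F204898
theorem F501413 : act 0 n219965 = n201090 := d17_2 (iv1 F386956) D219965 (iv5 D201090) F349122 (iv5 D90527) (iv0 D42367) D42369 D90534 D187748
theorem F501414 : act 1 n219965 = n201091 := d17_6 (iv1 D102567) (iv5 D47572) F290205 D100341 D192528 D219965 (iv5 D201091) F391678 (iv4 D193994)
theorem F501415 : act 6 n219965 = n203359 := d21_3 F427983 (iv1 F386956) D219965 (iv1 D203359) (iv6 D118768) F114580 (iv1 F114578) F114182 D159333 F427985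
def n219966 : Q := act 5 n192536
theorem D219966 : act 5 n192536 = n219966 := rfl
theorem F501416 : act 2 n219966 = n212987 := d2_1 D219966 (iv5 D212987) (iv2 F386993)
theorem F501417 : act 3 n219966 = n213265 := d6_1 D219966 F469628 (iv3 F386994)
theorem F501418 : act 4 n219966 = n192617 := d9_1 D219966 (iv5 D192617) (iv4 F385299) (iv5 F492305) (iv4 D218136) (iv5 F375288) F372923 D217995 F491596 (iv5 D192620) F385309 F385307 F374098 F374097 D192536
theorem F501419 : act 6 n219966 = n212929 := d12_2 (iv6 F386997) D219966 (iv5 D212929) (iv6 D151495) D151494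
theorem F501420 : act 7 n219966 = n219558 := d13_2 F489655 D219966 F499436
def n219967 : Q := act 5 n192538
theorem D219967 : act 5 n192538 = n219967 := rfl
theorem F501421 : act 3 n219967 = n192539 := d6_1 D219967 (iv5 D192539) D192538
theorem F501422 : act 7 n219967 = n216988 := d13_2 (iv7 F387005) D219967 F486886
theorem F501423 : act 0 n217654 = n219967 := d20_4 D188278 F489961 (iv4 D217655) D217654 F501421 (iv4 F458502) (iv1 F458503) F491613 (iv3 D217999) (iv1 D188277)
def n219968 : Q := act 6 n192539
theorem D219968 : act 6 n192539 = n219968 := rfl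
theorem F501424 : act 2 n219968 = n216234 := d3_1 D219968 F490461 (iv2 F490458)
theorem F501425 : act 7 n219968 = n219436 := d14_2 F490455 D219968 (iv6 D219436) (iv7 F486879) (iv6 F490451)
theorem F501426 : act 0 n217313 = n219968 := d21_4 (iv5 D209581) D209580 F454283 D217313 (iv6 D219968) (iv5 D192539) F371845 D217787 F490626 F454284
def n219969 : Q := act 3 n192549
theorem D219969 : act 3 n192549 = n219969 := rfl
theorem F501427 : act 2 n219969 = n214042 := d0_1 D219969 (iv3 F484904) F484903 (iv3 F473487) F473486
theorem F501428 : act 4 n219969 = n215927 := d5_2 D192549 D219969 F482125 (iv4 D204780) (iv3 F367365)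
theorem F501429 : act 6 n219969 = n210328 := d7_2 F433559 D219969 (iv3 D210328)
theorem F501430 : act 7 n219969 = n219652 := d8_2 F488284 D219969 F499857
theorem F501431 : act 0 n219969 = n219650 := d20_4 (iv4 D100385) D100384 D192549 D219969 F499852 F438416 (iv1 D197308) D197309 (iv3 F404037) (iv1 D192552)
theorem F501432 : act 0 n215927 = n210126 := d20_7 (iv4 F473896) (iv1 F473899) (iv4 F457106) (iv3 F488295) (iv1 F488297) D219969 F501428 (iv4 F493581) F493580 (iv1 F455630)
theorem F501433 : act 0 n219653 = n219969 := d20_4 (iv4 F386782) (iv1 F388296) F388293 (iv3 F499859) (iv3 D219969) (iv4 D192549) (iv1 F154405) D102584 F356754 D188685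
def n219970 : Q := act 5 n192549
theorem D219970 : act 5 n192549 = n219970 := rfl
theorem F501434 : act 2 n219970 = n197194 := d2_1 D219970 (iv5 F473490) F473486
theorem F501435 : act 4 n219970 = n217680 := d9_1 D219970 (iv5 D217680) (iv4 D187731) F139295 F137300 D89587 D187127 D217289 (iv4 F491074) F491075 F426325 (iv5 F376876) F376875 F367364 D192549
theorem F501436 : act 7 n219970 = n197193 := d13_2 F488284 D219970 (iv5 F488285)
theorem F501437 : act 0 n219970 = n197184 := d17_2 (iv1 F488297) D219970 F403440 F181222 D137593 D210110 (iv5 F500102) (iv0 D219696) (iv4 F488294)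
theorem F501438 : act 1 n219970 = n197195 := d17_6 D99823 F153688 (iv1 F367362) F367364 D192549 D219970 F403477 (iv0 D192176) (iv4 D99825)
def n219971 : Q := act 5 n192551
theorem D219971 : act 5 n192551 = n219971 := rfl
theorem F501439 : act 2 n219971 = n212364 := d2_1 D219971 F485032 F485034
theorem F501440 : act 3 n219971 = n211283 := d6_1 D219971 F460948 (iv3 F397550)
theorem F501441 : act 6 n219971 = n211281 := d12_2 F434402 D219971 (iv5 D211281) D211282 (iv5 F460945)
theorem F501442 : act 7 n219971 = n213003 := d13_2 F387039 D219971 F468546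
theorem F501443 : act 4 n219971 = n201093 := d16_2 (iv4 F387037) D219971 (iv5 F421280) F421278 (iv5 F183749) (iv4 F376318) (iv5 F385488) (iv7 F500106) (iv2 F500104)
theorem F501444 : act 0 n219971 = n193397 := d17_2 D192551 D219971 F389705 (iv4 D192175) (iv5 F153696) F367363 F367364 (iv0 D100384) D100385
theorem F501445 : act 1 n219971 = n213004 := d17_6 (iv1 F362221) F384225 F488265 F488261 (iv4 F387037) D219971 F468551 F456602 F456599
def n219972 : Q := act 5 n192552
theorem D219972 : act 5 n192552 = n219972 := rfl
theorem F501446 : act 2 n219972 = n213003 := d2_1 D219972 F468546 F387041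
theorem F501447 : act 3 n219972 = n212365 := d6_1 D219972 F465513 (iv3 F404037)
theorem F501448 : act 4 n219972 = n201094 := d9_1 D219972 (iv5 F419064) (iv4 F386963) F377308 (iv4 F488260) F488261 (iv4 F387037) D219971 F501443 (iv5 F421280) F421278 (iv5 F183749) (iv4 F376318) (iv5 F385488) F387042
theorem F501449 : act 7 n219972 = n212364 := d13_2 F485031 D219972 F485032
theorem F501450 : act 0 n219972 = n213004 := d17_2 (iv1 F387040) D219972 F468551 (iv4 D192173) F153688 (iv0 D89584) D89587 F139329 D102584
theorem F501451 : act 1 n219972 = n193397 := d17_6 (iv1 F362226) D210109 F456208 (iv5 F385488) F387042 D219972 F389705 (iv0 F385871) F226070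
theorem F501452 : act 6 n219972 = n217543 := d21_3 (iv5 F356755) (iv1 F387040) D219972 (iv1 F493149) (iv6 F493150) F450648 F450031 (iv5 F492645) (iv6 D218195) (iv1 D188694)
def n219973 : Q := act 6 n192554
theorem D219973 : act 6 n192554 = n219973 := rfl
theorem F501453 : act 2 n219973 = n194117 := d3_1 D219973 (iv6 D194117) (iv2 F387048)
theorem F501454 : act 4 n219973 = n192555 := d10_1 D219973 (iv6 D192555) D192554
theorem F501455 : act 5 n219973 = n210832 := d12_1 D219973 (iv6 F458946) F444374 (iv6 F434167) (iv5 F434168)
theorem F501456 : act 0 n213126 = n219973 := d21_4 (iv5 F484268) (iv1 F485138) (iv5 D216601) F469115 (iv6 D219973) F434168 (iv1 D204918) D204919 F434170 (iv1 F387074)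
def n219974 : Q := act 7 n192555
theorem D219974 : act 7 n192555 = n219974 := rfl
theorem F501457 : act 2 n219974 = n194120 := d4_1 D219974 (iv7 D194120) (iv2 F387049)
theorem F501458 : act 3 n219974 = n208851 := d8_1 D219974 F481473 F481468
theorem F501459 : act 5 n219974 = n208850 := d13_1 D219974 F451119 (iv5 F387050)
theorem F501460 : act 6 n219974 = n216625 := d14_1 D219974 F485230 F475923 F290090 D192555
theorem F501461 : act 1 n194119 = n219974 := d15_1 D194119 (iv7 D219974) F387049
theorem F501462 : act 1 n219974 = n194118 := d15_1 F501461 (iv7 F481662) F481657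
def n219975 : Q := act 5 n192556
theorem D219975 : act 5 n192556 = n219975 := rfl
theorem F501463 : act 2 n219975 = n213327 := d2_1 D219975 (iv5 F480546) (iv2 F480550)
theorem F501464 : act 3 n219975 = n204085 := d6_1 D219975 (iv5 F483023) (iv3 F483024)
theorem F501465 : act 4 n219975 = n210867 := d9_1 D219975 F459067 (iv4 D187674) F367259 F154799 (iv5 F365645) D192253 (iv5 F468536) (iv4 F492778) (iv5 D218218) F374846 (iv5 F373927) F373926 (iv5 F362126) D192556
theorem F501466 : act 6 n219975 = n192575 := d12_2 F391075 D219975 (iv5 F387136) (iv6 F388111) (iv5 F391076)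
theorem F501467 : act 0 n219975 = n212701 := d17_2 F487069 D219975 (iv5 F467371) (iv4 F481663) (iv5 F486722) (iv0 F486725) (iv5 F471543) (iv0 F484290) (iv4 F487065)
theorem F501468 : act 1 n219975 = n192583 := d17_6 D102698 (iv5 F375492) (iv1 F375494) (iv5 F362126) D192556 D219975 (iv5 F392100) (iv0 D194115) (iv4 D102700)
def n219976 : Q := act 6 n192563
theorem D219976 : act 6 n192563 = n219976 := rfl
theorem F501469 : act 2 n219976 = n192583 := d3_1 D219976 (iv6 D192583) (iv2 F387084)
theorem F501470 : act 3 n219976 = n212704 := d7_1 D219976 F467166 (iv3 F387085)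
theorem F501471 : act 4 n219976 = n192564 := d10_1 D219976 (iv6 D192564) D192563
theorem F501472 : act 7 n219976 = n212701 := d14_2 (iv7 F387086) D219976 (iv6 D212701) (iv7 F236177) F338844
theorem F501473 : act 0 n219976 = n213327 := d21_4 D213527 F470867 F389648 D219976 (iv6 D213327) F363274 D216138 F483141 (iv6 D208913) F354633
theorem F501474 : act 5 n219976 = n219374 := d21_6 F129895 F114960 (iv5 F115035) D160109 (iv1 F387087) D219976 (iv1 D219374) (iv5 F382980) (iv6 D154238) (iv1 F129898)
def n219977 : Q := act 4 n192566
theorem D219977 : act 4 n192566 = n219977 := rfl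
theorem F501475 : act 2 n219977 = n194404 := d1_1 D219977 (iv4 D194404) (iv2 F387098)
theorem F501476 : act 3 n219977 = n217113 := d5_1 D219977 (iv4 F491301) (iv3 F491302) (iv4 D192567) (iv3 F387099)
theorem F501477 : act 5 n219977 = n193749 := d9_2 D192566 D219977 (iv4 D193749) (iv5 F352863) (iv4 F352866) (iv5 D103054) F75048 D87800 D184068 (iv5 F390903) (iv4 D193751) (iv5 F359415) F352876 (iv5 D103350) (iv4 F154425)
theorem F501478 : act 6 n219977 = n209772 := d10_2 F419460 D219977 F454902
theorem F501479 : act 7 n219977 = n192596 := d11_2 (iv7 F387100) D219977 (iv4 D192596)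
theorem F501480 : act 0 n219977 = n194678 := d17_0 (iv5 F433007) F491460 (iv5 D217965) F372701 F293880 D184229 (iv5 F383920) F387102 D219977
theorem F501481 : act 1 n219977 = n216499 := d18_6 (iv1 F294869) F294871 (iv1 F147094) (iv4 F154425) D192566 D219977 F484689 F372470 (iv5 D99481)
def n219978 : Q := act 0 n192568
theorem D219978 : act 0 n192568 = n219978 := rfl
theorem F501482 : act 5 n219978 = n204125 := d17_1 D219978 (iv1 F431135) (iv5 F424468) F424467 (iv5 D116260) D116259 D202651 (iv0 F467732) F467730
theorem F501483 : act 4 n219978 = n202687 := d18_1 D219978 F425098 (iv4 F459099) (iv5 D210873) F366427 F356856 D203143 F427143 F391993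
theorem F501484 : act 3 n219978 = n204127 := d20_5 F432133 D209772 F454902 (iv3 F419462) D219978 (iv4 F432681) (iv1 F432683) (iv4 D123887) D123886 (iv1 F432135)
theorem F501485 : act 6 n219978 = n211198 := d21_5 F74091 (iv1 F74056) D100397 D192568 D219978 F485746 (iv1 D216745) (iv5 F387109) (iv6 D192569) (iv1 F154438)
theorem F501486 : act 2 n192607 = n219978 := d15_3 (iv0 D219978) (iv0 F387106) F387228
theorem F501487 : act 1 n192609 = n219978 := d15_0 (iv0 D219978) (iv7 F459095) F459092
theorem F501488 : act 7 n219978 = n192608 := d15_2 F387236 F501487 F387232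
def n219979 : Q := act 3 n192570
theorem D219979 : act 3 n192570 = n219979 := rfl
theorem F501489 : act 2 n219979 = n218213 := d0_1 D219979 (iv3 D218213) F374785 F371372 F387116
theorem F501490 : act 4 n219979 = n193019 := d5_2 (iv4 F387110) D219979 (iv3 D193019) (iv4 D101105) D101104
theorem F501491 : act 7 n219979 = n192619 := d8_2 F387117 D219979 (iv3 D192619)
theorem F501492 : act 6 n212439 = n219979 := d14_5 F501491 F487406 F487405 F486048 (iv7 F466729)
theorem F501493 : act 0 n207885 = n219979 := d18_2 F421648 (iv4 F446884) F501490 F490741 F490737 F420147 (iv4 F388575) F420084 (iv5 F421646)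
def n219980 : Q := act 5 n192570
theorem D219980 : act 5 n192570 = n219980 := rfl
theorem F501494 : act 2 n219980 = n192617 := d2_1 D219980 (iv5 D192617) F387116
theorem F501495 : act 7 n219980 = n192620 := d13_2 F387117 D219980 (iv5 D192620)
theorem F501496 : act 4 n219980 = n212987 := d16_2 (iv4 F387110) D219980 (iv5 D212987) (iv4 F375289) F375290 (iv4 F394008) F394009 (iv7 F385303) F385301
theorem F501497 : act 0 n219980 = n217900 := d17_2 D192570 D219980 (iv5 D217900) (iv4 D188124) (iv5 D90828) D90826 F292006 (iv0 D100398) D100400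
theorem F501498 : act 6 n212991 = n219980 := d10_0 F501496 F468476 D212991
def n219981 : Q := act 6 n192570
theorem D219981 : act 6 n192570 = n219981 := rfl
theorem F501499 : act 2 n219981 = n192618 := d3_1 D219981 (iv6 D192618) F387116
theorem F501500 : act 3 n219981 = n212439 := d7_1 D219981 F501492 (iv3 D219979)
theorem F501501 : act 4 n219981 = n193018 := d10_1 D219981 (iv6 D193018) (iv4 F387110)
theorem F501502 : act 0 n219981 = n211294 := d20_7 (iv4 F387611) (iv1 F388655) (iv4 D193069) F361946 (iv1 F344181) (iv3 F388528) (iv4 F501501) (iv4 F492353) (iv3 F492350) (iv1 F385002)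
def n219982 : Q := act 5 n192571
theorem D219982 : act 5 n192571 = n219982 := rfl
theorem F501503 : act 2 n219982 = n192620 := d2_1 D219982 (iv5 D192620) F387123
theorem F501504 : act 3 n219982 = n216135 := d6_1 D219982 F483135 F387121
theorem F501505 : act 4 n219982 = n219558 := d9_1 D219982 F499436 F489656 F375302 (iv4 F388524) (iv5 D193017) (iv4 F387110) D219980 F501496 (iv5 D212987) (iv4 F375289) F375290 (iv4 F394008) F394009 (iv4 F387120)
theorem F501506 : act 6 n219982 = n214532 := d12_2 (iv6 F387122) D219982 (iv5 D214532) F366974 D187608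
theorem F501507 : act 7 n219982 = n192617 := d13_2 (iv7 F387119) D219982 (iv5 D192617)
theorem F501508 : act 1 n219982 = n217900 := d17_6 F489554 F489549 (iv1 F394012) F394009 (iv4 F387120) D219982 (iv5 D217900) D217899 F491158
def n219983 : Q := act 5 n192572
theorem D219983 : act 5 n192572 = n219983 := rfl
theorem F501509 : act 3 n219983 = n192573 := d6_1 D219983 (iv5 D192573) D192572
theorem F501510 : act 6 n219983 = n208914 := d12_2 (iv6 F387125) D219983 (iv5 D208914) (iv6 D135365) D135364
def n219984 : Q := act 1 n192573
theorem D219984 : act 1 n192573 = n219984 := rfl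
theorem F501511 : act 1 n219984 = n192630 := d15_1 D219984 (iv7 D192630) (iv2 F387126)
theorem F501512 : act 7 n219984 = n192626 := d15_2 (iv0 F467520) D219984 F469953
theorem F501513 : act 5 n219984 = n216562 := d17_7 F369254 (iv5 D100397) (iv1 D46856) D46857 D100400 D192573 D219984 (iv0 F488403) (iv4 D217317)
theorem F501514 : act 6 n210861 = n219984 := d21_3 (iv5 D214129) (iv1 F361509) D210861 (iv1 D219984) F483144 F483141 F499445 F499442 (iv6 F489942) (iv1 F473614)
theorem F501515 : act 2 n192627 = n219984 := d2_3 F501513 F491162 F491159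
theorem F501516 : act 3 n217744 = n219984 := d6_3 F501513 F484954 D217744
def n219985 : Q := act 6 n192577
theorem D219985 : act 6 n192577 = n219985 := rfl
theorem F501517 : act 2 n219985 = n213381 := d3_1 D219985 (iv6 D213381) F387146
theorem F501518 : act 3 n219985 = n203721 := d7_1 D219985 (iv6 D203721) (iv3 F387145)
theorem F501519 : act 4 n219985 = n219809 := d10_1 D219985 F500718 F387147
theorem F501520 : act 5 n219985 = n204787 := d12_1 D219985 (iv6 D204787) (iv5 D124362) (iv6 F304439) F387144
def n219986 : Q := act 6 n192582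
theorem D219986 : act 6 n192582 = n219986 := rfl
theorem F501521 : act 3 n219986 = n208925 := d7_1 D219986 (iv6 D208925) (iv3 F387164)
theorem F501522 : act 4 n219986 = n210634 := d10_1 D219986 F458280 (iv4 F387165)
theorem F501523 : act 0 n219986 = n210830 := d21_4 F459083 (iv1 F338837) D192582 D219986 (iv6 D210830) (iv5 F458491) (iv1 F458493) (iv5 F424462) F424460 F459084
theorem F501524 : act 1 n219986 = n203352 := d15_1 (iv0 F501523) F460607 F460604
def n219987 : Q := act 7 n192583
theorem D219987 : act 7 n192583 = n219987 := rfl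
theorem F501525 : act 2 n219987 = n212701 := d4_1 D219987 (iv7 F501472) F501469
theorem F501526 : act 3 n219987 = n193112 := d8_1 D219987 F388788 (iv3 F387167)
theorem F501527 : act 4 n219987 = n192586 := d11_1 D219987 (iv7 D192586) (iv4 F387168)
theorem F501528 : act 5 n219987 = n219373 := d13_1 D219987 F498544 F392100
theorem F501529 : act 6 n219987 = n193110 := d14_1 D219987 (iv7 F430733) F430732 (iv7 F338839) D192583
theorem F501530 : act 0 n213327 = n219987 := d21_4 F483148 (iv1 D216139) (iv5 F363274) D213327 F501529 (iv5 F457480) (iv1 F460375) F460373 D219559 F499444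
def n219988 : Q := act 4 n192587
theorem D219988 : act 4 n192587 = n219988 := rfl
theorem F501531 : act 3 n219988 = n193494 := d5_1 D219988 (iv4 F404773) F404772 (iv4 F338939) (iv3 F387177)
theorem F501532 : act 5 n219988 = n203399 := d9_2 D192587 D219988 F428149 F348043 (iv4 F457479) F457480 F388786 D204092 (iv4 F460335) (iv5 D211149) (iv4 D140901) (iv5 F327728) (iv4 F425092) F425093 (iv4 F308573)
theorem F501533 : act 6 n219988 = n215960 := d10_2 F450844 D219988 F482291
theorem F501534 : act 7 n219988 = n209961 := d11_2 (iv7 F387178) D219988 F455540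
theorem F501535 : act 0 n219988 = n213560 := d17_0 F471043 F457761 F424680 (iv4 D191744) (iv5 D98878) (iv0 F351769) D191518 (iv0 F387179) D219988
theorem F501536 : act 1 n219988 = n211276 := d18_6 F384731 F252707 F339026 (iv4 F308573) D192587 D219988 F460909 (iv0 D209262) (iv5 F384730)
def n219989 : Q := act 1 n192589
theorem D219989 : act 1 n192589 = n219989 := rfl
theorem F501537 : act 7 n219989 = n217934 := d15_2 (iv0 F448709) D219989 F491328
theorem F501538 : act 4 n219989 = n209460 := d18_7 F365750 F218696 D139448 D210623 (iv5 F482515) F482514 D219989 (iv0 F459035) F424662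
theorem F501539 : act 6 n211655 = n219989 := d21_3 F360918 (iv1 F366648) D211655 (iv1 D219989) (iv6 D192589) F338897 (iv1 D123210) D123211 F387231 (iv1 D192608)
theorem F501540 : act 3 n219989 = n192673 := d7_1 F501539 (iv6 F488197) F488194
theorem F501541 : act 5 n219989 = n211654 := d12_1 F501539 (iv6 D211654) (iv5 D143513) D143514 D211655
def n219990 : Q := act 5 n192589
theorem D219990 : act 5 n192589 = n219990 := rfl
theorem F501542 : act 2 n219990 = n217315 := d2_1 D219990 (iv5 F488392) F434315
theorem F501543 : act 3 n219990 = n217194 := d6_1 D219990 (iv5 F492652) F492649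
theorem F501544 : act 6 n219990 = n204011 := d12_2 D192589 D219990 F431628 (iv6 D204240) (iv5 F338897)
theorem F501545 : act 7 n219990 = n217314 := d13_2 F493480 D219990 (iv5 F493485)
theorem F501546 : act 4 n219990 = n216137 := d16_2 F482514 D219990 F483140 F458257 (iv5 D210627) F353583 (iv5 F451100) F451101 (iv2 F482512)
theorem F501547 : act 1 n219990 = n217316 := d17_6 F460546 (iv5 F462394) (iv1 F462396) (iv5 F482515) F482514 D219990 F488397 (iv0 D211191) (iv4 F460540)
theorem F501548 : act 0 n219990 = n217030 := d21_1 D219990 F487050 (iv6 D192599) (iv1 F154495) D100446 F360918 (iv1 F366648) D211655 F501539 (iv1 D219989)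
def n219991 : Q := act 6 n192594
theorem D219991 : act 6 n192594 = n219991 := rfl
theorem F501549 : act 2 n219991 = n216498 := d3_1 D219991 (iv6 D216498) (iv2 F387197)
theorem F501550 : act 3 n219991 = n192713 := d7_1 D219991 (iv6 D192713) F387195
theorem F501551 : act 5 n219991 = n216318 := d12_1 D219991 (iv6 D216318) (iv5 D182928) D182929 (iv5 F387193)
def n219992 : Q := act 1 n192597
theorem D219992 : act 1 n192597 = n219992 := rfl
theorem F501552 : act 1 n219992 = n216504 := d15_1 D219992 (iv7 D216504) (iv2 F387205)
theorem F501553 : act 7 n219992 = n216502 := d15_2 (iv0 F493412) D219992 (iv2 F493409)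
theorem F501554 : act 3 n211173 = n219992 := d20_3 F489570 (iv1 D211587) (iv4 F460452) (iv1 D219992) F387206 F384434 (iv1 D191787) (iv4 F384422) (iv3 F458225) (iv1 F489574)
theorem F501555 : act 4 n211589 = n219992 := d20_6 (iv4 F66923) D91234 (iv4 F367575) (iv3 F372987) (iv1 F226072) D211589 (iv1 D219992) F387207 (iv3 D187630) (iv1 D90401)
theorem F501556 : act 6 n211171 = n219992 := d21_3 F484769 (iv1 F424914) D211171 (iv1 D219992) (iv6 D192597) (iv5 D100437) D100435 D192593 (iv6 F458421) F484774
theorem F501557 : act 2 n219992 = n216503 := d3_1 F501556 (iv6 F484707) (iv2 F460439)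
def n219993 : Q := act 3 n192598
theorem D219993 : act 3 n192598 = n219993 := rfl
theorem F501558 : act 4 n219993 = n218250 := d5_2 D192598 D219993 (iv3 F492963) F406030 F372254
theorem F501559 : act 7 n219993 = n208758 := d8_2 F490404 D219993 (iv3 F490402)
def n219994 : Q := act 5 n192598
theorem D219994 : act 5 n192598 = n219994 := rfl
theorem F501560 : act 4 n219994 = n217794 := d9_1 D219994 F490660 F489411 (iv5 D188094) F139767 D90828 D188124 D217900 F491163 F490666 F489418 F375331 (iv4 F367612) F367614 D192598
theorem F501561 : act 0 n219994 = n219980 := d17_2 (iv1 F491152) D219994 (iv5 D219980) F387110 D193017 F388525 (iv5 F467869) F467872 (iv4 F491150)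
theorem F501562 : act 1 n219994 = n219982 := d17_6 (iv1 F154432) (iv5 F154433) F367615 F367614 D192598 D219994 (iv5 D219982) F387118 F154513
def n219995 : Q := act 6 n192598
theorem D219995 : act 6 n192598 = n219995 := rfl
theorem F501563 : act 2 n219995 = n209464 := d3_1 D219995 (iv6 F488401) F488399
theorem F501564 : act 4 n219995 = n192599 := d10_1 D219995 (iv6 D192599) D192598
theorem F501565 : act 0 n219995 = n211204 := d21_4 D219982 (iv1 F501562) (iv5 D219994) D219995 (iv6 D211204) D211203 F460594 F424659 (iv6 F365353) (iv1 F387118)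
theorem F501566 : act 5 n219995 = n211622 := d21_6 (iv5 D141479) (iv1 F181302) D202679 F491154 (iv1 F491152) D219995 (iv1 D211622) (iv5 F424662) (iv6 D202593) (iv1 F224546)
def n219996 : Q := act 3 n192600
theorem D219996 : act 3 n192600 = n219996 := rfl
theorem F501567 : act 4 n219996 = n194125 := d5_2 F387693 D219996 F392116 (iv4 D192764) D192763
theorem F501568 : act 5 n219996 = n218002 := d6_2 F491342 D219996 F491629
theorem F501569 : act 7 n219996 = n218001 := d8_2 (iv7 F450833) D219996 F491624
def n219997 : Q := act 6 n192600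
theorem D219997 : act 6 n192600 = n219997 := rfl
theorem F501570 : act 4 n219997 = n210856 := d10_1 D219997 (iv6 F459041) F387693
theorem F501571 : act 0 n219997 = n211190 := d21_4 D188194 D217938 F491342 D219997 (iv6 D211190) D211189 F460536 (iv5 F458914) F458912 (iv1 D188193)
theorem F501572 : act 5 n219997 = n211617 := d21_6 (iv5 D139990) (iv1 F223181) (iv5 F384431) F384435 D192600 D219997 (iv1 D211617) (iv5 F451100) (iv6 D208847) F360239
def n219998 : Q := act 0 n192602
theorem D219998 : act 0 n192602 = n219998 := rfl
theorem F501573 : act 5 n219998 = n192612 := d17_1 D219998 (iv1 F387249) (iv5 F384295) (iv4 F490622) (iv5 D217787) (iv0 F371845) D192539 (iv0 F489424) F489423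
theorem F501574 : act 4 n219998 = n218214 := d18_3 F489438 F489423 D219998 (iv5 D218214) (iv4 D188769) (iv0 F157683) D187545 D217549 F489437
theorem F501575 : act 2 n217937 = n219998 := d15_3 (iv0 D219998) (iv0 F499467) F499465
theorem F501576 : act 1 n192606 = n219998 := d15_0 (iv0 D219998) (iv7 F490464) F490462
theorem F501577 : act 7 n219998 = n217936 := d15_2 F499468 F501576 (iv2 F499462)
theorem F501578 : act 6 n217314 = n219998 := d14_5 F501577 F491332 F481574 (iv6 F501544) F501545
def n219999 : Q := act 6 n192602
theorem D219999 : act 6 n192602 = n219999 := rfl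
theorem F501579 : act 2 n219999 = n204132 := d3_1 D219999 (iv6 F482606) (iv2 F482608)
theorem F501580 : act 3 n219999 = n217262 := d7_1 D219999 (iv6 F493645) (iv3 F493649)
theorem F501581 : act 4 n219999 = n209419 := d10_1 D219999 (iv6 F489421) F489423
theorem F501582 : act 5 n219999 = n195606 := d12_1 D219999 F397573 (iv5 F384431) F384435 D192602
theorem F501583 : act 7 n219999 = n209697 := d14_2 F490464 D219999 (iv6 F472016) F472018 (iv6 F490463)
theorem F501584 : act 0 n219999 = n211652 := d21_4 F485825 (iv1 D192601) D192602 D219999 (iv6 F500149) F500148 (iv1 F495042) F485232 F482582 (iv1 F485827)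
theorem F501585 : act 1 n219999 = n211612 := d15_1 (iv0 F501584) (iv7 F467506) F467505
def n220000 : Q := act 3 n192612
theorem D220000 : act 3 n192612 = n220000 := rfl
theorem F501586 : act 2 n220000 = n218087 := d0_1 D220000 (iv3 D218087) (iv2 F398295) F398296 F387248
theorem F501587 : act 4 n220000 = n216509 := d5_2 (iv4 F387247) D220000 F484728 F385338 (iv3 F385312)
theorem F501588 : act 7 n220000 = n217935 := d8_2 (iv7 F387250) D220000 (iv3 D217935)
theorem F501589 : act 0 n220000 = n216349 := d19_4 (iv1 F177398) (iv5 F385313) (iv4 F387247) D220000 F489960 (iv4 D217655) D217654 F501423 (iv5 D219967) F387004 (iv3 D100366) F74025 D92897 F143274 (iv3 F143568) F357589 (iv5 D99428) F143903 D47089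
theorem F501590 : act 0 n217792 = n220000 := d20_4 (iv4 F375289) (iv1 F375291) F371860 D217792 (iv3 D220000) F387247 (iv1 F387115) (iv4 F387120) (iv3 F387121) F371013
def n220001 : Q := act 4 n192615
theorem D220001 : act 4 n192615 = n220001 := rfl
theorem F501591 : act 3 n220001 = n208897 := d5_1 D220001 (iv4 F471875) F471874 (iv4 D192734) (iv3 F439631)
theorem F501592 : act 6 n220001 = n208895 := d10_2 F457333 D220001 F451299
theorem F501593 : act 7 n220001 = n211294 := d11_2 (iv7 F492354) D220001 (iv4 F492353)
theorem F501594 : act 0 n220001 = n192618 := d20_1 D220001 F387256 (iv3 D152567) (iv1 D71954) D71955 F108454 D127823 (iv4 F394232) (iv3 F492336) F492339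
def n220002 : Q := act 1 n192616
theorem D220002 : act 1 n192616 = n220002 := rfl
theorem F501595 : act 1 n220002 = n216746 := d15_1 D220002 (iv7 D216746) (iv2 F387253)
theorem F501596 : act 7 n220002 = n216744 := d15_2 (iv0 F471532) D220002 (iv2 F485744)
theorem F501597 : act 5 n220002 = n210670 := d17_7 F485963 (iv5 D216799) F460974 F392111 F374183 D192616 D220002 (iv0 D210670) (iv4 F458401)
theorem F501598 : act 3 n192737 = n220002 := d19_19 (iv1 D220002) (iv5 D192616) (iv4 F374183) F374182 (iv1 F142601) D187483 F457980 F457971 D210542 F457982 F413409 F400322 D188945 F394263 F394261 (iv3 F394249) (iv1 F394252) D212833 F467687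
theorem F501599 : act 2 n220002 = n216745 := d0_1 F501598 F485748 F460708 (iv3 F480688) F480687
def n220003 : Q := act 0 n192617
theorem D220003 : act 0 n192617 = n220003 := rfl
theorem F501600 : act 5 n220003 = n217738 := d17_3 D100454 D192617 D220003 (iv4 D217738) (iv5 F371703) F292010 (iv5 D100450) (iv0 D46876) D46878
theorem F501601 : act 4 n220003 = n217746 := d18_1 D220003 (iv1 F490625) F490622 F384295 (iv4 D100452) F329566 (iv4 F222696) F365356 D192617
theorem F501602 : act 1 n192620 = n220003 := d15_0 (iv0 D220003) (iv7 F501507) F501503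
theorem F501603 : act 2 n217900 = n220003 := d1_3 F501601 (iv2 F490668) (iv4 F491163)
theorem F501604 : act 7 n219994 = n220003 := d11_0 F501601 F490663 (iv4 F501560)
theorem F501605 : act 3 n220003 = n216214 := d19_3 D187862 D217746 (iv4 F501601) (iv1 D216214) (iv5 F377040) (iv4 F419934) (iv3 D201306) (iv1 F178146) F242890 (iv4 F361660) (iv3 F400791) (iv1 F440359) (iv5 F440360) F400307 (iv3 F407124) (iv1 F407126) (iv5 D187885) (iv4 F371715) (iv3 D187864)
def n220004 : Q := act 1 n192617
theorem D220004 : act 1 n192617 = n220004 := rfl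
theorem F501606 : act 1 n220004 = n192620 := d15_1 D220004 (iv7 F501495) F501494
theorem F501607 : act 7 n220004 = n217900 := d15_2 (iv0 D220003) D220004 F501603
theorem F501608 : act 5 n220004 = n217317 := d17_7 F387694 F387692 (iv1 F492307) F492305 F385299 D192617 D220004 F488404 (iv4 D193000)
theorem F501609 : act 4 n220004 = n217749 := d17_9 F490446 (iv5 D217550) F370755 D192539 (iv4 F458502) (iv5 D210705) F365356 D192617 D220004
theorem F501610 : act 3 n209410 = n220004 := d19_19 (iv1 D220004) (iv5 D192617) (iv4 F385299) (iv3 F385300) F361038 F134999 F68392 (iv3 F68391) (iv1 F65198) D42237 D90345 D187570 (iv1 F387667) (iv5 D192752) F371868 D215999 F482487 D218394 F493667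
theorem F501611 : act 6 n220004 = n209409 := d7_2 D209410 F501610 F453602
theorem F501612 : act 2 n219994 = n220004 := d1_3 F501609 F490662 (iv4 F501560)
def n220005 : Q := act 6 n192617
theorem D220005 : act 6 n192617 = n220005 := rfl
theorem F501613 : act 2 n220005 = n212991 := d3_1 D220005 F501498 F501494
theorem F501614 : act 4 n220005 = n212929 := d10_1 D220005 (iv6 F501419) F501418
def n220006 : Q := act 5 n192618
theorem D220006 : act 5 n192618 = n220006 := rfl
theorem F501615 : act 3 n220006 = n212834 := d6_1 D220006 F467689 (iv3 F387255)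
theorem F501616 : act 7 n220006 = n218215 := d13_2 F428031 D220006 F492761
theorem F501617 : act 4 n220006 = n220002 := d18_5 D188607 (iv4 F457724) F457725 (iv4 F387256) D220006 F501595 F485750 (iv0 D194118) F367244
def n220007 : Q := act 1 n192619
theorem D220007 : act 1 n192619 = n220007 := rfl
theorem F501618 : act 1 n220007 = n218213 := d15_1 D220007 F492754 F490379
theorem F501619 : act 7 n220007 = n207885 := d15_2 (iv0 F429754) D220007 F446883
theorem F501620 : act 3 n217584 = n220007 := d20_3 F500009 D219680 F500014 (iv1 D220007) (iv3 D192619) F385309 (iv1 D192036) (iv4 F372638) D217935 F500012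
theorem F501621 : act 4 n220007 = n207888 := d5_2 F500014 F501620 F446892 F388536 F500017
def n220008 : Q := act 4 n192619
theorem D220008 : act 4 n192619 = n220008 := rfl
theorem F501622 : act 2 n220008 = n218258 := d1_1 D220008 F492994 F490379
theorem F501623 : act 3 n220008 = n192969 := d5_1 D220008 (iv4 D192969) F385308 (iv4 F385309) D192619
theorem F501624 : act 6 n220008 = n217011 := d10_2 (iv6 F487406) D220008 (iv4 F487401)
theorem F501625 : act 7 n220008 = n193019 := d11_2 F501491 D220008 (iv4 F501490)
theorem F501626 : act 1 n220008 = n218393 := d18_8 (iv1 F421839) F407123 F400301 F387516 (iv5 F446874) F446863 (iv0 F429754) D220008 F493662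
theorem F501627 : act 5 n193092 = n220008 := d13_3 F501625 F490741 F490736
def n220009 : Q := act 5 n192619
theorem D220009 : act 5 n192619 = n220009 := rfl
theorem F501628 : act 3 n220009 = n192620 := d6_1 D220009 (iv5 D192620) D192619
theorem F501629 : act 6 n220009 = n219427 := d12_2 (iv6 F487406) D220009 F498842 (iv6 F388060) (iv5 F487400)
theorem F501630 : act 0 n220009 = n216003 := d17_2 (iv1 D220007) D220009 F482493 F426185 (iv5 D193041) D193039 F499662 F499664 (iv4 F501621)
theorem F501631 : act 0 n217958 = n220009 := d19_0 (iv5 D220009) D220008 F501623 F388385 F179184 D201798 F421828 (iv1 F420393) (iv5 F467848) F467847 (iv3 F466521) (iv1 F466525) F471604 (iv4 F471601) (iv3 D188198) (iv1 D91069) D91070 D188203 D217958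
theorem F501632 : act 4 n219428 = n220009 := d10_3 F501629 (iv4 D219427) D219428
def n220010 : Q := act 5 n192622
theorem D220010 : act 5 n192622 = n220010 := rfl
theorem F501633 : act 2 n220010 = n217990 := d2_1 D220010 F491576 F387262
theorem F501634 : act 3 n220010 = n217957 := d6_1 D220010 (iv5 F491418) F484725
theorem F501635 : act 7 n220010 = n217982 := d13_2 (iv7 F387263) D220010 (iv5 D217982)
theorem F501636 : act 0 n220010 = n217988 := d17_2 D192622 D220010 (iv5 F491570) F451334 (iv5 F439804) F387668 (iv5 D192752) (iv0 D100589) (iv4 F154512)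
theorem F501637 : act 0 n209410 = n220010 := d19_0 (iv5 D220010) (iv4 F439855) (iv3 D206236) (iv1 D127824) (iv5 F178379) F365813 F365815 (iv1 F178151) (iv5 F242843) F436701 (iv3 D205494) (iv1 D126161) D126162 D205497 (iv3 F489401) F489404 D217749 (iv4 F501609) (iv3 F501610)
def n220011 : Q := act 5 n192623
theorem D220011 : act 5 n192623 = n220011 := rfl
theorem F501638 : act 2 n220011 = n192624 := d2_1 D220011 (iv5 D192624) D192623
theorem F501639 : act 6 n220011 = n193379 := d12_2 (iv6 F387266) D220011 (iv5 D193379) (iv6 D101549) D101548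
theorem F501640 : act 7 n220011 = n217987 := d13_2 F387267 D220011 (iv5 D217987)
theorem F501641 : act 4 n220011 = n219425 := d18_5 (iv1 F482470) (iv4 F482472) (iv1 F387673) (iv4 F387265) D220011 (iv0 D219425) (iv4 F498828) (iv0 F498832) F482495
theorem F501642 : act 0 n219428 = n220011 := d19_0 (iv5 D220011) F387265 F362365 (iv1 D90712) D90713 D187986 F372036 D192766 (iv5 F480531) F480530 F392114 F392108 F392084 (iv4 F489637) F489636 (iv1 F370976) D188274 D217997 (iv3 F498846)
def n220012 : Q := act 0 n192624
theorem D220012 : act 0 n192624 = n220012 := rfl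
theorem F501643 : act 5 n220012 = n217759 := d17_3 F338893 D192624 D220012 (iv4 D217759) F420157 F420145 (iv5 F370765) F372899 F372895
theorem F501644 : act 1 n217987 = n220012 := d17_6 (iv1 F420068) F420067 (iv1 F420557) F420561 F387656 D217987 F501643 (iv0 F490769) (iv4 D217814)
def n220013 : Q := act 1 n192624
theorem D220013 : act 1 n192624 = n220013 := rfl
theorem F501645 : act 1 n220013 = n217987 := d15_1 D220013 (iv7 F501640) F501638
theorem F501646 : act 5 n220013 = n217760 := d17_7 (iv1 D206225) F205593 F365814 F293363 (iv4 F154512) D192624 D220013 (iv0 F490495) F454794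
theorem F501647 : act 3 n217993 = n220013 := d6_3 F501646 F491721 F491723
theorem F501648 : act 6 n220013 = n219414 := d7_2 (iv6 F491724) F501647 F498783
theorem F501649 : act 2 n219428 = n220013 := d3_3 F501648 F498784 D219428
theorem F501650 : act 7 n220012 = n219428 := d15_2 F501645 F501644 F501649
def n220014 : Q := act 7 n192624
theorem D220014 : act 7 n192624 = n220014 := rfl
theorem F501651 : act 2 n220014 = n217987 := d4_1 D220014 (iv7 F501640) F501638
theorem F501652 : act 3 n220014 = n192630 := d8_1 D220014 (iv7 D192630) (iv3 F387270)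
theorem F501653 : act 4 n220014 = n217657 := d11_1 D220014 (iv7 F491402) F491401
theorem F501654 : act 5 n220014 = n192625 := d13_1 D220014 (iv7 D192625) D192624
theorem F501655 : act 6 n220014 = n217217 := d14_1 D220014 (iv7 F487989) F469965 F469962 (iv6 F427402)
theorem F501656 : act 1 n219428 = n220014 := d15_1 (iv0 F501642) (iv7 D220014) (iv2 F501638)
def n220015 : Q := act 3 n192626
theorem D220015 : act 3 n192626 = n220015 := rfl
theorem F501657 : act 2 n220015 = n217742 := d0_1 D220015 F491574 F491571 (iv3 F467518) (iv2 F469953)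
theorem F501658 : act 4 n220015 = n216761 := d5_2 (iv4 F483399) D220015 (iv3 D216761) (iv4 F377045) D216220
theorem F501659 : act 5 n220015 = n217544 := d6_2 F491149 D220015 (iv3 F491151)
theorem F501660 : act 6 n220015 = n211646 := d7_2 (iv6 F469954) D220015 (iv3 D211646)
theorem F501661 : act 7 n220015 = n217744 := d8_2 F501512 D220015 F501516
theorem F501662 : act 0 n220015 = n217995 := d19_4 (iv1 F386985) (iv5 F483397) (iv4 F483399) D220015 (iv5 D217995) (iv4 F372923) D192534 F386991 F373579 F370609 F251980 F176031 D90343 D187569 D217567 (iv1 F489538) (iv5 D212402) (iv4 F426139) F426138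
theorem F501663 : act 0 n219966 = n220015 := d20_4 (iv4 F470191) F483607 F483603 (iv3 F501417) (iv3 D220015) F483399 (iv1 F490085) (iv4 F491337) F491336 F483606
def n220016 : Q := act 3 n192627
theorem D220016 : act 3 n192627 = n220016 := rfl
theorem F501664 : act 4 n220016 = n220010 := d5_2 (iv4 F491613) D220016 F501634 F491415 D217999
theorem F501665 : act 5 n220016 = n202918 := d6_2 F491159 D220016 (iv3 F491161)
theorem F501666 : act 7 n220016 = n202917 := d8_2 (iv7 F469955) D220016 (iv3 F467518)
theorem F501667 : act 6 n210587 = n220016 := d12_0 F501665 F426188 (iv5 F457139) F457142 D210587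
def n220017 : Q := act 6 n192627
theorem D220017 : act 6 n192627 = n220017 := rfl
theorem F501668 : act 2 n220017 = n210861 := d3_1 D220017 F501514 (iv2 F501515)
theorem F501669 : act 3 n220017 = n210587 := d7_1 D220017 F501667 (iv3 D220016)
theorem F501670 : act 4 n220017 = n217247 := d10_1 D220017 (iv6 F491611) (iv4 F491613)
theorem F501671 : act 5 n220017 = n202570 := d12_1 D220017 F424553 (iv5 F461017) F491160 F491159
theorem F501672 : act 7 n220017 = n210859 := d14_2 (iv7 F469955) D220017 F459048 F349351 D212789
theorem F501673 : act 0 n220017 = n212852 := d21_4 (iv5 D219994) (iv1 F491156) F491159 D220017 F493881 F493876 F467787 D214532 (iv6 F501506) (iv1 F501562)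
theorem F501674 : act 0 n211301 = n220017 := d17_0 F501671 (iv1 D202570) D202571 (iv4 F488348) F488349 (iv0 F371445) (iv5 F449360) (iv0 F449364) (iv4 F461031)
def n220018 : Q := act 6 n192630
theorem D220018 : act 6 n192630 = n220018 := rfl
theorem F501675 : act 3 n220018 = n217217 := d7_1 D220018 (iv6 F501655) F501652
theorem F501676 : act 4 n220018 = n216234 := d10_1 D220018 F490461 (iv4 F490459)
theorem F501677 : act 5 n220018 = n219575 := d12_1 D220018 F499520 F424659 (iv6 F365353) (iv5 F387276)
def n220019 : Q := act 6 n192645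
theorem D220019 : act 6 n192645 = n220019 := rfl
theorem F501678 : act 2 n220019 = n210366 := d3_1 D220019 (iv6 D210366) F387339
theorem F501679 : act 3 n220019 = n192982 := d7_1 D220019 F405307 F405305
theorem F501680 : act 4 n220019 = n193562 := d10_1 D220019 F390289 (iv4 F387338)
theorem F501681 : act 5 n220019 = n192981 := d12_1 D220019 F388419 (iv5 F407022) F407023 (iv5 F387337)
theorem F501682 : act 7 n220019 = n212113 := d14_2 F388593 D220019 F464367 (iv7 F387717) (iv6 F388592)
theorem F501683 : act 0 n220019 = n217717 := d21_4 (iv5 F357933) (iv1 F222766) (iv5 F387337) D220019 F490290 F457862 F400366 (iv5 F404897) (iv6 D197579) (iv1 F333008)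
theorem F501684 : act 1 n220019 = n196926 := d15_1 (iv0 F501683) (iv7 F410878) (iv2 F490287)
def n220020 : Q := act 4 n192650
theorem D220020 : act 4 n192650 = n220020 := rfl
theorem F501685 : act 3 n220020 = n218163 := d5_1 D220020 F492460 F445540 (iv4 F434254) F434255
theorem F501686 : act 5 n220020 = n209110 := d9_2 D192650 D220020 F452302 F429886 F426026 F361357 F235328 D192233 D219774 F500563 F477822 (iv5 F429893) F337701 F387353 (iv4 D192649)
theorem F501687 : act 6 n220020 = n201080 := d10_2 (iv6 F444549) D220020 (iv4 F444548)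
theorem F501688 : act 7 n220020 = n218161 := d11_2 (iv7 F387354) D220020 F492448
theorem F501689 : act 0 n220020 = n204186 := d17_0 F444596 (iv1 D207380) (iv5 F419034) (iv4 F454222) F454223 (iv0 F431549) F366728 F387355 D220020
theorem F501690 : act 1 n220020 = n204189 := d18_6 D87979 (iv4 F233861) (iv1 F387351) (iv4 D192649) D192650 D220020 (iv4 D204189) F357863 (iv5 D87981)
def n220021 : Q := act 4 n192655
theorem D220021 : act 4 n192655 = n220021 := rfl
theorem F501691 : act 2 n220021 = n201558 := d1_1 D220021 (iv4 F479615) F479613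
theorem F501692 : act 5 n220021 = n207381 := d9_2 (iv5 F387377) D220021 F444600 (iv5 D203801) (iv4 F283774) (iv5 F357813) F357812 (iv5 F387379) F420936 (iv5 F209192) (iv4 F429873) (iv5 D203800) F334451 (iv5 F303104) (iv4 F197513)
theorem F501693 : act 6 n220021 = n201563 := d10_2 F475545 D220021 (iv4 F475547)
theorem F501694 : act 7 n220021 = n201084 := d11_2 F454225 D220021 (iv4 F454222)
theorem F501695 : act 0 n220021 = n201557 := d17_0 (iv5 F420939) F452305 (iv5 F501686) (iv4 D220020) (iv5 D192650) F384929 D219658 F499893 D220021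
theorem F501696 : act 1 n220021 = n201556 := d18_6 (iv1 F197284) (iv4 F429931) (iv1 D203813) (iv4 F197513) (iv5 F387377) D220021 F431338 (iv0 F304629) F197308
theorem F501697 : act 3 n220021 = n208880 := d20_9 (iv4 D209514) F393992 (iv4 F419638) F419637 F377625 F387382 (iv4 D192657) D192655 D220021 (iv1 F467880)
def n220022 : Q := act 4 n192659
theorem D220022 : act 4 n192659 = n220022 := rfl
theorem F501698 : act 2 n220022 = n211106 := d1_1 D220022 F460123 F453998
theorem F501699 : act 3 n220022 = n196463 := d5_1 D220022 F400755 F393895 F385535 (iv3 F387385)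
theorem F501700 : act 5 n220022 = n199590 := d9_2 D192659 D220022 (iv4 F440284) (iv5 D206331) (iv4 F428573) F428574 (iv4 F428343) F371284 (iv4 F456437) (iv5 F456438) F412392 (iv5 D119442) (iv4 F188205) (iv5 F387373) F387372
theorem F501701 : act 6 n220022 = n196461 := d10_2 F435031 D220022 (iv4 F435027)
theorem F501702 : act 7 n220022 = n196768 := d11_2 (iv7 F391944) D220022 F401735
theorem F501703 : act 0 n220022 = n204820 := d17_0 F433708 (iv1 F362471) D197742 (iv4 F486920) (iv5 D216999) (iv0 F431694) (iv5 F431695) F411320 D220022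
theorem F501704 : act 1 n220022 = n193180 := d18_6 (iv1 D153279) (iv4 F187383) F387375 F387372 D192659 D220022 (iv4 D193180) F351826 F351824
def n220023 : Q := act 0 n192664
theorem D220023 : act 0 n192664 = n220023 := rfl
theorem F501705 : act 5 n220023 = n199264 := d17_3 F404816 (iv5 F387412) D220023 (iv4 D199264) F380326 (iv0 D186599) F335713 D111215 (iv4 F404817)
theorem F501706 : act 4 n220023 = n212875 := d18_1 D220023 (iv1 F467906) (iv4 F404783) (iv5 D197550) (iv4 F172368) F172477 (iv4 F377632) (iv0 F377633) (iv5 F387412)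
theorem F501707 : act 3 n220023 = n198125 := d20_5 (iv4 D192642) (iv1 F154547) D100496 D192664 D220023 (iv4 F413561) (iv1 F413560) F345269 (iv3 F345255) (iv1 F387330)
theorem F501708 : act 6 n220023 = n198122 := d21_5 (iv5 F468609) (iv1 F468613) (iv5 F375380) F387413 D220023 F406938 F401925 D196753 (iv6 F490351) (iv1 F490352)
theorem F501709 : act 2 n217721 = n220023 := d15_3 (iv0 D220023) (iv0 F387414) D217721
theorem F501710 : act 1 n215258 = n220023 := d15_0 (iv0 D220023) (iv7 F486669) F486667
theorem F501711 : act 7 n220023 = n212874 := d15_2 (iv0 F479082) F501710 F467899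
def n220024 : Q := act 1 n192671
theorem D220024 : act 1 n192671 = n220024 := rfl
theorem F501712 : act 7 n220024 = n216086 := d15_2 (iv0 F474408) D220024 F482864
theorem F501713 : act 4 n220024 = n219683 := d18_7 (iv1 F486290) F486286 (iv1 F487997) F488000 (iv5 D192674) (iv4 F387440) D220024 F500030 (iv5 F388615)
theorem F501714 : act 3 n197586 = n220024 := d5_5 F501713 (iv3 F500032) (iv4 F451821) F410405 F410401
def n220025 : Q := act 5 n192671
theorem D220025 : act 5 n192671 = n220025 := rfl
theorem F501715 : act 6 n220025 = n215469 := d12_2 D192671 D220025 (iv5 F480135) (iv6 D210362) F357940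
theorem F501716 : act 0 n220025 = n218801 := d17_2 (iv1 D220024) D220025 F495719 F387518 F159460 D187018 (iv5 F385196) D219683 (iv4 F501713)
theorem F501717 : act 1 n220025 = n211445 := d17_6 (iv1 F488433) F488430 (iv1 F387446) (iv5 D192674) (iv4 F387440) D220025 (iv5 F490614) (iv0 F491005) (iv4 D217866)
def n220026 : Q := act 7 n192671
theorem D220026 : act 7 n192671 = n220026 := rfl
theorem F501718 : act 3 n220026 = n209022 := d8_1 D220026 F451889 F419089
theorem F501719 : act 4 n220026 = n192675 := d11_1 D220026 (iv7 D192675) (iv4 F387440)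
theorem F501720 : act 6 n220026 = n218030 := d14_1 D220026 F491784 (iv6 D193062) (iv7 F272726) D192671
theorem F501721 : act 0 n216086 = n220026 := d21_4 F479084 (iv1 D180437) D180439 D216086 F501720 (iv5 F495183) F495185 F405458 F387524 F479090
def n220027 : Q := act 5 n192672
theorem D220027 : act 5 n192672 = n220027 := rfl
theorem F501722 : act 2 n220027 = n219526 := d2_1 D220027 (iv5 F499912) (iv2 F499914)
theorem F501723 : act 3 n220027 = n211221 := d6_1 D220027 F460668 (iv3 F431567)
theorem F501724 : act 6 n220027 = n217068 := d12_2 (iv6 F387441) D220027 (iv5 D217068) F367793 (iv5 F354681)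
theorem F501725 : act 4 n220027 = n214125 := d17_4 (iv1 F387446) (iv5 D192674) D192672 D220027 (iv5 D214125) (iv0 F473468) (iv5 F501391) F501395 F388081
def n220028 : Q := act 4 n192673
theorem D220028 : act 4 n192673 = n220028 := rfl
theorem F501726 : act 2 n220028 = n198313 := d1_1 D220028 F436653 F499917
theorem F501727 : act 3 n220028 = n209462 := d5_1 D220028 (iv4 D209462) (iv3 F453781) (iv4 F501538) F501540
theorem F501728 : act 7 n220028 = n198314 := d11_2 (iv7 F499916) D220028 (iv4 F499911)
theorem F501729 : act 0 n220028 = n192682 := d18_2 (iv1 F499922) D220028 F387457 D193057 (iv4 F501390) F501395 F388081 F486320 (iv5 F499920)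
theorem F501730 : act 0 n198312 = n220028 := d20_1 F491778 (iv4 D220028) (iv3 F501540) (iv1 D219989) (iv3 F492649) (iv4 D218196) F380067 (iv4 F487395) F487394 F491782
def n220029 : Q := act 7 n192678
theorem D220029 : act 7 n192678 = n220029 := rfl
theorem F501731 : act 2 n220029 = n218030 := d4_1 D220029 F491784 F388629
theorem F501732 : act 3 n220029 = n197868 := d8_1 D220029 (iv7 F450237) (iv3 F450240)
theorem F501733 : act 4 n220029 = n192680 := d11_1 D220029 (iv7 D192680) (iv4 F387453)
theorem F501734 : act 5 n220029 = n197867 := d13_1 D220029 (iv7 F459458) F459457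
theorem F501735 : act 1 n198757 = n220029 := d15_1 F409111 (iv7 D220029) (iv2 F388629)
theorem F501736 : act 1 n220029 = n198016 := d15_1 F501735 F406527 (iv2 F409106)
def n220030 : Q := act 5 n192682
theorem D220030 : act 5 n192682 = n220030 := rfl
theorem F501737 : act 3 n220030 = n198320 := d6_1 D220030 F407589 (iv3 F387456)
theorem F501738 : act 6 n220030 = n215554 := d12_2 D192682 D220030 (iv5 F480472) (iv6 F389366) (iv5 D192681)
theorem F501739 : act 7 n220030 = n198315 := d13_2 (iv7 F387458) D220030 (iv5 D198315)
theorem F501740 : act 0 n220030 = n217816 := d17_2 F501729 D220030 (iv5 D217816) F372044 F293927 (iv0 F387445) (iv5 D192674) D192673 D220028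
theorem F501741 : act 4 n219161 = n220030 := d18_1 F497499 F501740 (iv4 F496062) F496063 F388076 D192875 F388078 D214829 (iv5 F495721)
def n220031 : Q := act 6 n192684
theorem D220031 : act 6 n192684 = n220031 := rfl
theorem F501742 : act 2 n220031 = n210908 := d3_1 D220031 (iv6 F473370) F473367
theorem F501743 : act 3 n220031 = n210967 := d7_1 D220031 F459538 F389371
theorem F501744 : act 4 n220031 = n196553 := d10_1 D220031 F404401 F404397
theorem F501745 : act 5 n220031 = n210906 := d12_1 D220031 (iv6 D210906) F387477 (iv6 D192685) D192684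
theorem F501746 : act 0 n220031 = n215893 := d21_4 (iv5 F384972) (iv1 F384973) D192684 D220031 (iv6 D215893) (iv5 D178150) (iv1 D84799) D84801 D178157 (iv1 F345263)
theorem F501747 : act 0 n202463 = n220031 := d21_4 D196783 F401787 F224937 D202463 (iv6 D220031) (iv5 D192684) (iv1 D100512) D100514 (iv6 F371988) F371989
def n220032 : Q := act 5 n192694
theorem D220032 : act 5 n192694 = n220032 := rfl
theorem F501748 : act 2 n220032 = n208817 := d2_1 D220032 (iv5 F454359) (iv2 F454363)
theorem F501749 : act 3 n220032 = n211362 := d6_1 D220032 (iv5 D211362) (iv3 F387530)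
theorem F501750 : act 6 n220032 = n208815 := d12_2 F454365 D220032 F450983 F484141 F484138
theorem F501751 : act 7 n220032 = n219582 := d13_2 F459826 D220032 F499555
theorem F501752 : act 0 n220032 = n219581 := d17_2 D192694 D220032 F499554 (iv4 F452343) F452344 F218376 (iv5 F420748) (iv0 D151231) (iv4 F325485)
theorem F501753 : act 1 n220032 = n218395 := d17_6 (iv1 D208872) (iv5 D135223) D135221 D208869 F451178 D220032 F493672 F452548 F452546
theorem F501754 : act 4 n220032 = n207036 := d19_2 D192694 D220032 F443190 (iv1 F474979) F474976 (iv4 D200785) D200784 (iv1 F417893) (iv5 D126114) (iv4 D59097) F323974 (iv1 F323088) (iv5 F323096) (iv4 F324522) D110150 F387538 (iv5 D192702) F154602 (iv3 F154574)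
def n220033 : Q := act 5 n192695
theorem D220033 : act 5 n192695 = n220033 := rfl
theorem F501755 : act 2 n220033 = n219582 := d2_1 D220033 F499555 F459824
theorem F501756 : act 3 n220033 = n198308 := d6_1 D220033 (iv5 F454377) F454376
theorem F501757 : act 7 n220033 = n208817 := d13_2 (iv7 F454364) D220033 (iv5 F454359)
theorem F501758 : act 0 n220033 = n218395 := d17_2 (iv1 F465429) D220033 F493672 (iv4 D209027) (iv5 D135595) (iv0 F364474) F338618 F420743 (iv4 F465425)
theorem F501759 : act 1 n220033 = n219581 := d17_8 F447295 F465369 (iv1 D212333) D212335 F465366 F367566 D192695 D220033 F499553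
theorem F501760 : act 6 n220033 = n219602 := d21_9 (iv5 F386773) F440144 (iv5 F441921) F441920 (iv1 D146787) D146789 D212349 (iv1 F465429) D220033 (iv1 F499635)
theorem F501761 : act 4 n207035 = n220033 := d10_3 F501760 F499632 F446791
def n220034 : Q := act 0 n192697
theorem D220034 : act 0 n192697 = n220034 := rfl
theorem F501762 : act 5 n220034 = n206236 := d17_1 D220034 F439854 (iv5 F364313) (iv4 F388575) (iv5 F475308) (iv0 D214468) (iv5 D159494) D159492 (iv4 F387516)
theorem F501763 : act 4 n220034 = n212402 := d18_3 (iv1 F475298) (iv4 F387516) D220034 (iv5 D212402) (iv4 F426139) (iv0 F450346) (iv4 F475317) F475312 (iv5 F475295)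
theorem F501764 : act 3 n220034 = n206237 := d20_5 (iv4 D90368) (iv1 F293221) (iv4 F154596) D192697 D220034 (iv4 F471779) F471780 F440012 (iv3 D194682) (iv1 F293980)
theorem F501765 : act 2 n198182 = n220034 := d15_3 (iv0 D220034) (iv0 F400301) D198182
theorem F501766 : act 1 n198181 = n220034 := d15_0 (iv0 D220034) F387515 (iv2 F429731)
theorem F501767 : act 7 n220034 = n198174 := d15_2 D198181 F501766 F407104
theorem F501768 : act 6 n193858 = n220034 := d21_9 F429732 (iv1 F409204) (iv5 D193093) D193094 (iv1 F482874) F482871 (iv5 D193259) (iv1 F157330) D193858 (iv1 F501766)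
def n220035 : Q := act 2 n192697
theorem D220035 : act 2 n192697 = n220035 := rfl
theorem F501769 : act 3 n220035 = n198185 := d0_2 D192697 D220035 F407137 F371832 F293921
theorem F501770 : act 4 n220035 = n207887 := d1_2 (iv4 F387516) D220035 F446886
theorem F501771 : act 5 n220035 = n198184 := d2_2 (iv5 F387514) D220035 F407133
theorem F501772 : act 7 n220035 = n198181 := d4_2 (iv7 F387515) D220035 F429731
theorem F501773 : act 1 n220035 = n198174 := d15_0 (iv0 F407106) (iv7 F387515) D220035
theorem F501774 : act 1 n198182 = n220035 := d15_0 F501773 (iv7 F501767) (iv2 F501765)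
theorem F501775 : act 6 n220035 = n207894 := d21_5 (iv5 F330527) (iv1 F168504) D108995 D198174 (iv1 F501773) F446912 F477534 F476210 (iv6 D197713) F373172
def n220036 : Q := act 6 n192697
theorem D220036 : act 6 n192697 = n220036 := rfl
theorem F501776 : act 2 n220036 = n207894 := d3_1 D220036 (iv6 F501775) (iv2 D220035)
theorem F501777 : act 3 n220036 = n192698 := d7_1 D220036 (iv6 D192698) D192697
theorem F501778 : act 4 n220036 = n207883 := d10_1 D220036 (iv6 F446872) (iv4 F387516)
theorem F501779 : act 5 n220036 = n218776 := d12_1 D220036 F495610 F453806 (iv6 F453803) (iv5 F387514)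
theorem F501780 : act 0 n219244 = n220036 := d21_4 F440394 (iv1 F440391) D219666 F499939 (iv6 D220036) F387514 (iv1 F420154) (iv5 D193089) D193090 F420156
def n220037 : Q := act 6 n192725
theorem D220037 : act 6 n192725 = n220037 := rfl
theorem F501781 : act 3 n220037 = n202466 := d7_1 D220037 F424118 F394229
theorem F501782 : act 4 n220037 = n192798 := d10_1 D220037 (iv6 D192798) (iv4 F387601)
theorem F501783 : act 7 n220037 = n211048 := d14_2 F387602 D220037 F459895 F452520 F367391
theorem F501784 : act 0 n220037 = n203459 := d21_4 D217890 F491110 F485602 D220037 (iv6 D203459) F187532 (iv1 F166668) D130862 D207326 (iv1 F444361)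
theorem F501785 : act 5 n220037 = n216366 := d21_6 (iv5 D191433) (iv1 F283715) (iv5 D100563) D100564 D192725 D220037 F484026 F465432 (iv6 D192692) (iv1 F383481)
theorem F501786 : act 0 n209027 = n220037 := d21_4 (iv5 F451208) F451917 (iv5 D209030) (iv6 F451906) (iv6 D220037) (iv5 F485602) (iv1 F491100) (iv5 D217888) D217889 F491106
def n220038 : Q := act 1 n192732
theorem D220038 : act 1 n192732 = n220038 := rfl
theorem F501787 : act 1 n220038 = n192735 := d15_1 D220038 (iv7 F475203) F475202
theorem F501788 : act 7 n220038 = n209786 := d15_2 F469039 D220038 (iv2 F469034)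
theorem F501789 : act 5 n220038 = n211167 := d17_7 F400220 F400218 (iv1 D128389) D128391 (iv4 F349174) D192732 D220038 F469024 F469022
theorem F501790 : act 4 n220038 = n192825 := d17_9 (iv1 F422974) (iv5 D202123) D202120 F422950 D209788 F454950 F361024 D192732 D220038
theorem F501791 : act 2 n209783 = n220038 := d1_3 F501790 F387913 D209783
theorem F501792 : act 6 n192824 = n220038 := d10_0 F501790 (iv6 D192825) (iv4 F387910)
theorem F501793 : act 3 n220038 = n217890 := d19_3 (iv1 F347041) (iv5 F387915) (iv4 F501790) F491110 F485602 F387601 F154814 F291183 (iv5 D90325) F65869 (iv3 F65865) (iv1 F34897) D22371 (iv4 F292368) F295209 (iv1 D87946) D87948 (iv4 F346669) F346662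
def n220039 : Q := act 6 n192740
theorem D220039 : act 6 n192740 = n220039 := rfl
theorem F501794 : act 3 n220039 = n214519 := d7_1 D220039 F475595 F448766
theorem F501795 : act 4 n220039 = n209029 := d10_1 D220039 (iv6 F496600) F496599
theorem F501796 : act 0 n220039 = n207007 := d21_4 F499902 F487112 (iv5 F448760) D220039 F442946 (iv5 F422368) F422369 D202225 (iv6 F483980) F499903
def n220040 : Q := act 6 n192741
theorem D220040 : act 6 n192741 = n220040 := rfl
theorem F501797 : act 2 n220040 = n201536 := d3_1 D220040 F456768 F456762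
theorem F501798 : act 3 n220040 = n216350 := d7_1 D220040 (iv6 D216350) F449310
theorem F501799 : act 4 n220040 = n201457 := d10_1 D220040 (iv6 F420578) (iv4 F449311)
theorem F501800 : act 7 n201532 = n220040 := d11_0 F501799 F420576 D201532
def n220041 : Q := act 1 n192747
theorem D220041 : act 1 n192747 = n220041 := rfl
theorem F501801 : act 1 n220041 = n217758 := d15_1 D220041 F490492 F407495
theorem F501802 : act 7 n220041 = n217757 := d15_2 (iv0 F387639) D220041 (iv2 F490486)
theorem F501803 : act 5 n220041 = n213428 := d17_7 F470349 F432276 (iv1 F391177) F391174 F351174 D192747 D220041 (iv0 D213428) (iv4 F470346)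
theorem F501804 : act 4 n220041 = n213720 := d17_9 (iv1 F493031) F493028 (iv1 F466549) F372027 (iv4 D187983) (iv5 F345137) (iv0 F362363) D192747 D220041
theorem F501805 : act 2 n194682 = n220041 := d1_3 F501804 (iv2 F471783) F440012
theorem F501806 : act 3 n201337 = n220041 := d5_5 F501804 F492959 (iv4 F492961) (iv3 F451333) F451334
def n220042 : Q := act 6 n192750
theorem D220042 : act 6 n192750 = n220042 := rfl
theorem F501807 : act 2 n220042 = n192756 := d3_1 D220042 (iv6 D192756) F387654
theorem F501808 : act 3 n220042 = n209278 := d7_1 D220042 F453016 (iv3 F387655)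
theorem F501809 : act 4 n220042 = n209452 := d10_1 D220042 F453772 (iv4 F387656)
theorem F501810 : act 5 n220042 = n205002 := d12_1 D220042 (iv6 D205002) D205001 (iv6 F434546) F420561
theorem F501811 : act 7 n220042 = n210141 := d14_2 (iv7 F387657) D220042 F456328 F434372 F387481
theorem F501812 : act 0 n220042 = n201439 := d21_4 F420067 (iv1 F420557) F420561 D220042 (iv6 F450969) (iv5 F468567) (iv1 F482452) F482449 (iv6 F450952) (iv1 F420068)
def n220043 : Q := act 4 n192751
theorem D220043 : act 4 n192751 = n220043 := rfl
theorem F501813 : act 2 n220043 = n193038 := d1_1 D220043 F388571 (iv2 F387659)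
theorem F501814 : act 3 n220043 = n207886 := d5_1 D220043 F482488 (iv3 D215999) (iv4 F371868) D192751
theorem F501815 : act 6 n220043 = n193033 := d10_2 F484763 D220043 (iv4 F484761)
theorem F501816 : act 7 n220043 = n193039 := d11_2 F387662 D220043 F388574
theorem F501817 : act 5 n220043 = n207886 := d16_7 F421645 (iv5 F383485) (iv4 F498828) F498831 F490448 F439796 D220043 F499661 F499658
theorem F501818 : act 0 n220043 = n193042 := d17_0 (iv5 F475318) (iv1 D214469) (iv5 D159494) (iv4 F178308) (iv5 F178323) (iv0 F372032) (iv5 F371981) F387661 D220043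
theorem F501819 : act 1 n220043 = n193040 := d18_6 (iv1 F407136) (iv4 F454625) (iv1 F490447) F490448 F439796 D220043 F388575 (iv0 F420144) (iv5 F420157)
def n220044 : Q := act 6 n192752
theorem D220044 : act 6 n192752 = n220044 := rfl
theorem F501820 : act 2 n220044 = n196744 := d3_1 D220044 F401664 (iv2 F387664)
theorem F501821 : act 3 n220044 = n199233 := d7_1 D220044 (iv6 F439806) F439795
theorem F501822 : act 4 n220044 = n207907 := d10_1 D220044 F446951 F387665
theorem F501823 : act 5 n220044 = n213422 := d12_1 D220044 (iv6 F470312) (iv5 F401118) (iv6 D192753) D192752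
theorem F501824 : act 0 n220044 = n198943 := d21_4 F293363 D100589 D192752 D220044 F410008 F373211 F366905 F362355 (iv6 F362356) F365814
def n220045 : Q := act 6 n192760
theorem D220045 : act 6 n192760 = n220045 := rfl
theorem F501825 : act 2 n220045 = n196747 := d3_1 D220045 F401673 F388746
theorem F501826 : act 3 n220045 = n196356 := d7_1 D220045 (iv6 D196356) (iv3 F387686)
theorem F501827 : act 4 n220045 = n192761 := d10_1 D220045 (iv6 D192761) D192760
theorem F501828 : act 5 n220045 = n196746 := d12_1 D220045 (iv6 F479930) F479929 F385090 F387688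
theorem F501829 : act 7 n220045 = n196820 := d14_2 F388736 D220045 F453867 (iv7 F453868) (iv6 F388732)
theorem F501830 : act 0 n216088 = n220045 := d21_4 (iv5 F387344) (iv1 F280815) D180449 D216088 (iv6 D220045) (iv5 F387688) (iv1 F388311) (iv5 F482927) (iv6 D216096) (iv1 F387345)
def n220046 : Q := act 5 n192767
theorem D220046 : act 5 n192767 = n220046 := rfl
theorem F501831 : act 4 n220046 = n215760 := d9_1 D220046 F481452 (iv4 D192762) (iv5 F364434) D194482 (iv5 F454165) (iv4 F454167) (iv5 F480531) F480530 F392115 (iv4 D192764) (iv5 F335413) (iv4 F383535) (iv5 F454205) F454204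
theorem F501832 : act 6 n220046 = n213585 := d12_2 F457734 D220046 (iv5 D213585) (iv6 F355761) F426121
theorem F501833 : act 7 n220046 = n213601 := d13_2 (iv7 F454202) D220046 F471244
theorem F501834 : act 0 n220046 = n193838 := d17_2 (iv1 F387703) D220046 F391152 F351160 (iv5 F291834) (iv0 F335411) F335413 F154736 D184119
theorem F501835 : act 1 n220046 = n219697 := d17_6 F484590 (iv5 F393965) F393967 (iv5 F454205) F454204 D220046 (iv5 D219697) F457736 (iv4 F484589)
def n220047 : Q := act 1 n192768
theorem D220047 : act 1 n192768 = n220047 := rfl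
theorem F501836 : act 1 n220047 = n216522 := d15_1 D220047 (iv7 F491883) F491881
theorem F501837 : act 7 n220047 = n203385 := d15_2 F457733 D220047 (iv2 F457731)
theorem F501838 : act 5 n220047 = n193074 := d17_7 (iv1 F157668) F153303 (iv1 F177421) D46940 D100641 D192768 D220047 F388667 (iv4 D184571)
theorem F501839 : act 4 n220047 = n203414 := d17_9 F458239 (iv5 D210620) F387696 (iv5 F392115) (iv4 F480530) F480531 (iv0 D192766) D192768 D220047
theorem F501840 : act 6 n203354 = n220047 := d21_9 (iv5 D192768) D192766 (iv5 F480531) (iv6 D215565) F348227 (iv6 F391013) F391012 (iv1 F386978) D203354 (iv1 D220047)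
theorem F501841 : act 2 n220047 = n214446 := d3_1 F501840 (iv6 D214446) (iv2 F428013)
def n220048 : Q := act 0 n192773
theorem D220048 : act 0 n192773 = n220048 := rfl
theorem F501842 : act 5 n220048 = n203029 := d17_3 D210069 (iv5 F456047) D220048 F426698 F308180 (iv0 F312433) (iv5 F306193) (iv0 F103906) (iv4 F328581)
theorem F501843 : act 4 n220048 = n207800 := d18_1 D220048 F446500 (iv4 F431196) (iv5 D204147) F196845 (iv0 F314862) (iv4 F227699) F456042 (iv5 F456047)
theorem F501844 : act 3 n220048 = n210873 := d20_5 (iv4 F384987) (iv1 F387716) (iv4 D192774) D192773 D220048 F459099 (iv1 F425089) F425088 (iv3 F384992) (iv1 D191957)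
theorem F501845 : act 2 n193016 = n220048 := d15_3 (iv0 D220048) F456046 D193016
theorem F501846 : act 1 n193015 = n220048 := d15_0 (iv0 D220048) (iv7 F394104) (iv2 F394105)
theorem F501847 : act 7 n220048 = n192966 := d15_2 D193015 F501846 F388367
theorem F501848 : act 6 n193008 = n220048 := d21_3 (iv5 F371034) D217600 F489723 (iv1 F501846) (iv6 F388521) (iv5 D179989) (iv1 F280319) F280324 D192995 F388466
def n220049 : Q := act 4 n192773
theorem D220049 : act 4 n192773 = n220049 := rfl
theorem F501849 : act 7 n220049 = n209358 := d11_2 F394104 D220049 F453383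
theorem F501850 : act 5 n220049 = n217664 := d16_1 D220049 F489996 (iv5 D204162) D204161 F431266 F267777 (iv5 F388520) (iv7 F463915) F463913
theorem F501851 : act 0 n220049 = n207723 := d18_2 (iv1 F456046) D220049 (iv4 F484614) F484615 F449504 (iv0 F439586) (iv4 F487750) (iv0 F487753) F368609
theorem F501852 : act 3 n220049 = n217665 := d19_3 D210069 (iv5 F456047) D220049 F490002 (iv5 D206967) (iv4 F209518) F335805 F335784 F139404 F138606 F138605 (iv1 F65058) (iv5 F63679) F323383 D130043 F442958 F442954 (iv4 F431311) F431312
def n220050 : Q := act 6 n192773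
theorem D220050 : act 6 n192773 = n220050 := rfl
theorem F501853 : act 2 n220050 = n201565 := d3_1 D220050 (iv6 F463914) F463913
theorem F501854 : act 3 n220050 = n192775 := d7_1 D220050 (iv6 D192775) D192773
theorem F501855 : act 5 n220050 = n203069 := d12_1 D220050 (iv6 D203069) D203068 (iv6 F456040) (iv5 F456047)
theorem F501856 : act 7 n220050 = n201564 := d14_2 F394104 D220050 (iv6 F422885) (iv7 F388438) (iv6 F394103)
theorem F501857 : act 0 n201085 = n220050 := d21_4 F402183 F402182 (iv5 F411139) (iv6 F419036) (iv6 D220050) F456047 (iv1 F456042) (iv5 F453755) F453756 F425026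
theorem F501858 : act 1 n201566 = n220050 := d15_0 (iv0 F501857) F419037 D201566
def n220051 : Q := act 3 n192774
theorem D220051 : act 3 n192774 = n220051 := rfl
theorem F501859 : act 4 n220051 = n217665 := d5_2 D192774 D220051 (iv3 F501852) (iv4 D220049) (iv3 D192773)
theorem F501860 : act 5 n220051 = n193148 := d6_2 (iv5 F388931) D220051 (iv3 F388926)
theorem F501861 : act 6 n220051 = n218369 := d7_2 F464367 D220051 F493538
theorem F501862 : act 7 n220051 = n193228 := d8_2 F387717 D220051 F389247
theorem F501863 : act 0 n220051 = n217659 := d19_4 (iv1 F378933) F378930 D192774 D220051 (iv5 D217659) (iv4 D187715) F139259 (iv1 F136344) (iv5 D88884) (iv4 D41492) (iv3 F63949) F74826 (iv5 D47578) (iv4 F63625) D88497 (iv1 F288149) (iv5 D159697) D159696 (iv3 F368346)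
theorem F501864 : act 0 n217678 = n220051 := d20_4 (iv4 F402322) (iv1 F449893) F449890 F490073 (iv3 D220051) (iv4 D192774) (iv1 F159484) F331083 F169054 D109065
def n220052 : Q := act 6 n192781
theorem D220052 : act 6 n192781 = n220052 := rfl
theorem F501865 : act 2 n220052 = n218017 := d3_1 D220052 F491716 F471307
theorem F501866 : act 3 n220052 = n208663 := d7_1 D220052 F450681 (iv3 F429734)
theorem F501867 : act 4 n220052 = n192782 := d10_1 D220052 (iv6 D192782) D192781
theorem F501868 : act 5 n220052 = n193231 := d12_1 D220052 F389256 (iv5 D185301) D185302 F387745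
theorem F501869 : act 7 n220052 = n218008 := d14_2 (iv7 F387743) D220052 (iv6 D218008) (iv7 F372978) (iv6 F371743)
theorem F501870 : act 0 n220052 = n218016 := d21_4 (iv5 F470584) F470585 F387745 D220052 (iv6 F491714) F439764 (iv1 F391199) F371544 F371542 (iv1 F362835)
theorem F501871 : act 0 n208674 = n220052 := d21_4 (iv5 D208591) (iv1 F216832) D134904 D208674 (iv6 D220052) (iv5 F387745) (iv1 F471142) F471139 F332715 (iv1 F450041)
def n220053 : Q := act 5 n192794
theorem D220053 : act 5 n192794 = n220053 := rfl
theorem F501872 : act 2 n220053 = n217887 := d2_1 D220053 (iv5 D217887) (iv2 F387811)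
theorem F501873 : act 3 n220053 = n218154 := d6_1 D220053 (iv5 F492409) F457945
theorem F501874 : act 4 n220053 = n218379 := d9_1 D220053 (iv5 D218379) (iv4 D189186) (iv5 F293946) (iv4 D100697) (iv5 F294201) D188992 D218302 F493200 F459135 F245103 F362388 (iv4 D100692) D100693 D192794
theorem F501875 : act 7 n220053 = n217885 := d13_2 (iv7 F387812) D220053 (iv5 D217885)
def n220054 : Q := act 6 n192800
theorem D220054 : act 6 n192800 = n220054 := rfl
theorem F501876 : act 2 n220054 = n217802 := d3_1 D220054 (iv6 D217802) (iv2 F387824)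
theorem F501877 : act 3 n220054 = n193060 := d7_1 D220054 (iv6 D193060) (iv3 F387825)
theorem F501878 : act 4 n220054 = n192802 := d10_1 D220054 (iv6 D192802) D192800
theorem F501879 : act 5 n220054 = n217156 := d12_1 D220054 F501325 (iv5 D218331) (iv6 F458564) F458561
theorem F501880 : act 0 n220054 = n211066 := d21_4 (iv5 F388188) F458566 F458561 D220054 F459974 (iv5 D157891) D157888 (iv5 F406487) D215258 F479082
theorem F501881 : act 1 n220054 = n218807 := d15_1 (iv0 F501880) (iv7 F497803) F497799
def n220055 : Q := act 5 n192803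
theorem D220055 : act 5 n192803 = n220055 := rfl
theorem F501882 : act 2 n220055 = n210363 := d2_1 D220055 F457205 (iv2 F387833)
theorem F501883 : act 3 n220055 = n207157 := d6_1 D220055 F443556 (iv3 F420198)
theorem F501884 : act 4 n220055 = n192902 := d9_1 D220055 (iv5 F411610) (iv4 F413796) (iv5 F487362) (iv4 F487364) (iv5 D192801) D192800 (iv5 F458561) (iv4 F458563) (iv5 F465307) F465306 (iv5 F474527) F474526 (iv5 D192804) D192803
theorem F501885 : act 7 n220055 = n217801 := d13_2 (iv7 F387834) D220055 (iv5 D217801)
theorem F501886 : act 0 n220055 = n192910 := d17_2 (iv1 F387836) D220055 F388188 F371602 D187821 (iv0 F392348) F392345 F370772 (iv4 F371959)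
theorem F501887 : act 1 n220055 = n199264 := d17_6 (iv1 F494936) F494938 (iv1 F447930) (iv5 D192804) D192803 D220055 (iv5 F501705) (iv0 D220023) F387411
def n220056 : Q := act 6 n192807
theorem D220056 : act 6 n192807 = n220056 := rfl
theorem F501888 : act 2 n220056 = n207356 := d3_1 D220056 F444500 (iv2 F387854)
theorem F501889 : act 3 n220056 = n212602 := d7_1 D220056 (iv6 D212602) (iv3 F387855)
theorem F501890 : act 4 n220056 = n199180 := d10_1 D220056 F411051 (iv4 F387852)
theorem F501891 : act 5 n220056 = n207355 := d12_1 D220056 (iv6 D207355) (iv5 D130934) D130935 F387853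
theorem F501892 : act 0 n220056 = n204355 := d21_4 (iv5 D208154) F366067 F387853 D220056 F432186 (iv5 D201667) (iv1 F356464) F251152 D188117 (iv1 F448142)
theorem F501893 : act 0 n217629 = n220056 := d21_4 F486675 F486351 (iv5 F489486) (iv6 F489858) (iv6 D220056) (iv5 F387853) (iv1 F444057) (iv5 F461277) (iv6 F493169) F493173
def n220057 : Q := act 3 n192817
theorem D220057 : act 3 n192817 = n220057 := rfl
theorem F501894 : act 2 n220057 = n209802 := d0_1 D220057 (iv3 F480569) F480568 F390262 (iv2 F387889)
theorem F501895 : act 4 n220057 = n211466 := d5_2 D192817 D220057 (iv3 D211466) (iv4 F382891) F382890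
theorem F501896 : act 6 n220057 = n208548 := d7_2 (iv6 F390898) D220057 F449833
theorem F501897 : act 7 n220057 = n209233 := d8_2 F471326 D220057 (iv3 F471331)
theorem F501898 : act 5 n209974 = n220057 := d13_3 F501897 F452814 (iv7 F455588)
theorem F501899 : act 1 n209842 = n220057 := d15_1 D209842 F501897 F452813
theorem F501900 : act 1 n220057 = n209841 := d15_1 F501899 (iv7 F493297) (iv2 F471353)
def n220058 : Q := act 5 n192817
theorem D220058 : act 5 n192817 = n220058 := rfl
theorem F501901 : act 2 n220058 = n193763 := d2_1 D220058 (iv5 D193763) (iv2 F387889)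
theorem F501902 : act 3 n220058 = n209974 := d6_1 D220058 F501898 (iv3 D220057)
theorem F501903 : act 4 n220058 = n215878 := d9_1 D220058 (iv5 D215878) (iv4 F365763) (iv5 D95355) F292383 D91105 D188234 (iv5 F388252) (iv4 F481889) (iv5 D215876) F380561 (iv5 D95463) F289667 D100734 D192817
theorem F501904 : act 6 n220058 = n209958 := d12_2 (iv6 F390898) D220058 F455528 (iv6 F449828) (iv5 F449830)
theorem F501905 : act 7 n220058 = n209964 := d13_2 F471326 D220058 F471328
theorem F501906 : act 0 n220058 = n193798 := d17_2 (iv1 F471338) D220058 (iv5 D193798) (iv4 F368568) (iv5 D185309) F147053 D189910 F378205 (iv4 F471333)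
theorem F501907 : act 1 n220058 = n193797 := d17_6 F367276 (iv5 D46978) D46976 D100734 D192817 D220058 (iv5 D193797) (iv0 D102343) (iv4 F347703)
def n220059 : Q := act 5 n192818
theorem D220059 : act 5 n192818 = n220059 := rfl
theorem F501908 : act 2 n220059 = n193765 := d2_1 D220059 (iv5 D193765) (iv2 F387891)
theorem F501909 : act 3 n220059 = n217116 := d6_1 D220059 F487509 F473266
theorem F501910 : act 6 n220059 = n192819 := d12_2 D192818 D220059 (iv5 D192819) (iv6 D100735) D100734
theorem F501911 : act 7 n220059 = n217248 := d13_2 F499221 D220059 F499224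
theorem F501912 : act 4 n220059 = n210101 := d16_6 F450383 F441657 (iv4 F449827) (iv5 F449830) (iv4 F390897) D220059 (iv5 D210101) (iv7 F441111) (iv2 F450381)
def n220060 : Q := act 5 n192822
theorem D220060 : act 5 n192822 = n220060 := rfl
theorem F501913 : act 3 n220060 = n192823 := d6_1 D220060 (iv5 D192823) D192822
def n220061 : Q := act 4 n192826
theorem D220061 : act 4 n192826 = n220061 := rfl
theorem F501914 : act 2 n220061 = n214605 := d1_1 D220061 (iv4 D214605) (iv2 F387917)
theorem F501915 : act 6 n220061 = n192827 := d10_2 (iv6 F387919) D220061 (iv4 D192827)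
theorem F501916 : act 1 n220061 = n213290 := d18_6 F366231 (iv4 D120233) F130964 (iv4 F303706) D192826 D220061 (iv4 D213290) F383633 F383632
def n220062 : Q := act 5 n192827
theorem D220062 : act 5 n192827 = n220062 := rfl
theorem F501917 : act 2 n220062 = n210181 := d2_1 D220062 (iv5 F500038) F500034
theorem F501918 : act 4 n220062 = n198028 := d9_1 D220062 (iv5 D198028) (iv4 F174131) (iv5 F354565) D190683 D219044 F496864 (iv5 F501135) F501133 (iv5 F412515) F412514 (iv5 D190579) F147943 D100748 D192827
theorem F501919 : act 7 n220062 = n210182 := d13_2 F500166 D220062 (iv5 F500167)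
theorem F501920 : act 0 n220062 = n210184 := d17_2 F494748 D220062 F456490 F221045 (iv5 F327683) (iv0 F153662) D99946 (iv0 F377073) D218610
theorem F501921 : act 1 n220062 = n194742 := d17_6 (iv1 D211565) F364509 F289587 D100748 D192827 D220062 (iv5 D194742) D194740 F462166
theorem F501922 : act 6 n220062 = n209318 := d21_9 (iv5 D195315) (iv1 F396675) (iv5 F404141) (iv6 D197399) F315145 D216051 (iv5 F494745) F494748 D220062 (iv1 F453202)
def n220063 : Q := act 6 n192834
theorem D220063 : act 6 n192834 = n220063 := rfl
theorem F501923 : act 2 n220063 = n192869 := d3_1 D220063 (iv6 D192869) (iv2 F387965)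
theorem F501924 : act 3 n220063 = n193598 := d7_1 D220063 F491176 F491171
theorem F501925 : act 4 n220063 = n216546 := d10_1 D220063 (iv6 D216546) (iv4 F387967)
theorem F501926 : act 5 n220063 = n217270 := d12_1 D220063 F488206 F390743 (iv6 D192835) D192834
theorem F501927 : act 7 n220063 = n200388 := d14_2 (iv7 F387966) D220063 (iv6 D200388) (iv7 F176163) (iv6 F368785)
theorem F501928 : act 0 n220063 = n197475 := d21_4 (iv5 F386687) F386690 D192834 D220063 (iv6 F404489) (iv5 D160639) (iv1 F297467) D158812 (iv6 F392443) (iv1 F392441)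
theorem F501929 : act 0 n194054 = n220063 := d21_4 (iv5 F369050) (iv1 F391892) (iv5 D194053) D194054 (iv6 D220063) (iv5 D192834) F159077 (iv5 F357204) F222719 (iv1 F365461)
def n220064 : Q := act 6 n192836
theorem D220064 : act 6 n192836 = n220064 := rfl
theorem F501930 : act 2 n220064 = n192873 := d3_1 D220064 (iv6 D192873) (iv2 F387974)
theorem F501931 : act 3 n220064 = n199149 := d7_1 D220064 (iv6 D199149) (iv3 F387975)
theorem F501932 : act 4 n220064 = n192837 := d10_1 D220064 (iv6 D192837) D192836
theorem F501933 : act 5 n220064 = n214211 := d12_1 D220064 F475741 (iv5 D214548) (iv6 F462818) F462817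
theorem F501934 : act 0 n220064 = n193532 := d21_4 (iv5 F390857) F462821 F462817 D220064 (iv6 D193532) (iv5 D101869) (iv1 F153539) (iv5 F385716) F385717 (iv1 F390859)
theorem F501935 : act 0 n214211 = n211838 := d21_7 (iv5 F416284) (iv1 F416287) (iv5 D113073) (iv6 F368785) (iv1 F387978) D220064 F501933 (iv5 D211838) (iv6 F390729) (iv1 F214375)
theorem F501936 : act 0 n215362 = n220064 := d21_4 F417651 F193038 D173825 D215362 (iv6 D220064) (iv5 F462817) F462820 (iv5 F392438) F392443 (iv1 F417654)
def n220065 : Q := act 6 n192843
theorem D220065 : act 6 n192843 = n220065 := rfl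
theorem F501937 : act 3 n220065 = n216526 := d7_1 D220065 (iv6 D216526) (iv3 F393295)
theorem F501938 : act 4 n220065 = n214123 := d10_1 D220065 (iv6 F473588) F457134
theorem F501939 : act 5 n220065 = n219161 := d12_1 D220065 F497497 (iv5 F487758) (iv6 F487759) F439587
theorem F501940 : act 0 n220065 = n202858 := d21_4 F479610 F439590 F439587 D220065 (iv6 D202858) D202857 (iv1 F448487) (iv5 D208230) D208231 F479612
def n220066 : Q := act 5 n192854
theorem D220066 : act 5 n192854 = n220066 := rfl
theorem F501941 : act 2 n220066 = n217277 := d2_1 D220066 F488234 (iv2 F411481)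
theorem F501942 : act 4 n220066 = n194104 := d9_1 D220066 F392062 F368522 (iv5 F381550) (iv4 F476456) F476457 F415570 D210414 (iv4 F486810) (iv5 D216973) (iv4 F368517) F368514 F262385 (iv5 F474713) F474712
theorem F501943 : act 6 n220066 = n192856 := d12_2 D192854 D220066 (iv5 D192856) (iv6 D100828) D100827
theorem F501944 : act 7 n220066 = n217275 := d13_2 F411577 D220066 F488229
theorem F501945 : act 0 n220066 = n217975 := d17_2 F393906 D220066 F491509 (iv4 F462870) (iv5 F462872) (iv0 F391528) F393912 (iv0 D194638) (iv4 F393903)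
theorem F501946 : act 1 n220066 = n215572 := d17_8 F368300 (iv5 F368299) (iv1 D89385) D89386 D186933 (iv5 F411555) (iv0 F411557) D220066 F480570
def n220067 : Q := act 6 n192863
theorem D220067 : act 6 n192863 = n220067 := rfl
theorem F501947 : act 3 n220067 = n195402 := d7_1 D220067 F396913 (iv3 F388057)
theorem F501948 : act 4 n220067 = n192864 := d10_1 D220067 (iv6 D192864) D192863
theorem F501949 : act 7 n220067 = n195394 := d14_2 F468115 D220067 (iv6 D195394) (iv7 F396597) (iv6 F468114)
theorem F501950 : act 5 n197418 = n220067 := d16_7 F460782 D211251 F483421 F483419 (iv4 F473247) (iv5 D214049) (iv4 F485494) F501949 (iv2 F460780)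
def n220068 : Q := act 5 n192864
theorem D220068 : act 5 n192864 = n220068 := rfl
theorem F501951 : act 3 n220068 = n192876 := d6_1 D220068 (iv5 D192876) (iv3 F388058)
theorem F501952 : act 4 n220068 = n216229 := d9_1 D220068 F484477 (iv4 F473251) (iv5 D214050) F472584 F472586 F460782 D211251 F483421 F483419 (iv4 F473247) (iv5 D214049) (iv4 F485494) F501950 F501948
theorem F501953 : act 6 n220068 = n192867 := d12_2 D192864 D220068 (iv5 D192867) (iv6 D100863) D100862
theorem F501954 : act 7 n220068 = n217320 := d13_2 F460809 D220068 F488410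
def n220069 : Q := act 5 n192869
theorem D220069 : act 5 n192869 = n220069 := rfl
theorem F501955 : act 2 n220069 = n217270 := d2_1 D220069 (iv5 F501926) F501923
theorem F501956 : act 3 n220069 = n217425 := d6_1 D220069 F488834 F393240
theorem F501957 : act 6 n220069 = n192871 := d12_2 D192869 D220069 (iv5 D192871) (iv6 D100865) D100864
theorem F501958 : act 7 n220069 = n200399 := d13_2 (iv7 F388063) D220069 (iv5 D200399)
theorem F501959 : act 4 n220069 = n216971 := d16_2 F501031 D220069 (iv5 D216971) F367340 D186591 (iv4 F367350) D193814 (iv7 F484887) (iv2 F501029)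
theorem F501960 : act 1 n220069 = n202827 := d17_8 (iv1 D217172) (iv5 D186924) D186922 F368514 F262385 (iv5 F474713) (iv0 F474716) D220069 F487781
theorem F501961 : act 1 n218822 = n220069 := d15_0 F501960 (iv7 F497730) F497727
def n220070 : Q := act 1 n192873
theorem D220070 : act 1 n192873 = n220070 := rfl
theorem F501962 : act 7 n220070 = n193532 := d15_2 (iv0 F500256) D220070 (iv2 F500252)
theorem F501963 : act 5 n220070 = n204898 := d17_7 F480028 (iv5 F480029) (iv1 F461098) D217816 (iv4 F496062) F496063 D220070 F481192 D211841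
theorem F501964 : act 4 n220070 = n216548 := d18_7 D217220 F488418 (iv1 F486320) (iv4 F388081) (iv5 D192876) (iv4 F388076) D220070 F484893 F460628
theorem F501965 : act 6 n204899 = n220070 := d21_3 F356139 (iv1 F302201) D204899 (iv1 D220070) (iv6 D192873) F379146 (iv1 F379144) F375503 F365278 (iv1 F356137)
theorem F501966 : act 2 n220070 = n215362 := d3_1 F501965 (iv6 D215362) (iv2 F434066)
def n220071 : Q := act 3 n192878
theorem D220071 : act 3 n192878 = n220071 := rfl
theorem F501967 : act 5 n220071 = n217292 := d6_2 (iv5 F388086) D220071 F488309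
theorem F501968 : act 6 n220071 = n217316 := d7_2 (iv6 F388084) D220071 F488396
theorem F501969 : act 7 n220071 = n216868 := d8_2 (iv7 F388085) D220071 F486307
theorem F501970 : act 0 n220071 = n219555 := d19_4 F363041 D100870 D192878 D220071 (iv5 F500385) F500384 F484926 (iv1 F286298) D189194 (iv4 F432302) F432303 (iv1 F429569) F198267 F90877 (iv3 F321336) (iv1 D117448) (iv5 F321343) (iv4 F372878) F372877
theorem F501971 : act 0 n219554 = n220071 := d20_4 (iv4 F283629) F364081 (iv4 F483194) (iv3 F499421) (iv3 D220071) (iv4 D192878) F368821 F368820 (iv3 F368940) (iv1 D182169)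
theorem F501972 : act 2 n219556 = n220071 := d15_3 (iv0 F501971) (iv0 D219554) D219556
def n220072 : Q := act 5 n192883
theorem D220072 : act 5 n192883 = n220072 := rfl
theorem F501973 : act 2 n220072 = n218037 := d2_1 D220072 F491818 F457009
theorem F501974 : act 6 n220072 = n217103 := d12_2 F411540 D220072 F487432 (iv6 D199310) (iv5 F411539)
theorem F501975 : act 0 n220072 = n217093 := d17_2 (iv1 F390213) D220072 F487372 F424987 F385931 F486846 F486842 F385797 (iv4 F390209)
theorem F501976 : act 1 n220072 = n217908 := d17_6 F391811 (iv5 F465946) F465949 (iv5 F495583) F495582 D220072 F491207 F448509 F448506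
def n220073 : Q := act 6 n192886
theorem D220073 : act 6 n192886 = n220073 := rfl
theorem F501977 : act 5 n220073 = n213602 := d12_1 D220073 (iv6 D213602) (iv5 F363405) (iv6 F340967) D192886
theorem F501978 : act 0 n220073 = n216259 := d21_10 F483531 F358627 D216424 F484316 F285533 (iv6 F155040) (iv5 D100895) D100893 D192886 D220073
def n220074 : Q := act 6 n192887
theorem D220074 : act 6 n192887 = n220074 := rfl
theorem F501979 : act 3 n220074 = n210588 := d7_1 D220074 F458142 F432095
theorem F501980 : act 5 n220074 = n216555 := d12_1 D220074 (iv6 F484922) (iv5 D204330) (iv6 F361924) (iv5 F388107)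
def n220075 : Q := act 6 n192888
theorem D220075 : act 6 n192888 = n220075 := rfl
theorem F501981 : act 2 n220075 = n211661 := d3_1 D220075 F462556 F388110
theorem F501982 : act 4 n220075 = n212787 := d10_1 D220075 F467509 F431103
theorem F501983 : act 5 n220075 = n210491 := d12_1 D220075 (iv6 D210491) (iv5 F339086) F361934 (iv5 F388109)
theorem F501984 : act 0 n220075 = n211649 := d21_10 F462508 (iv1 F385505) D210787 (iv6 F458787) F483376 F483374 (iv5 D204403) F361482 (iv5 F388109) D220075
theorem F501985 : act 0 n211647 = n220075 := d21_4 (iv5 D217742) (iv1 F386985) (iv5 F483397) F483398 (iv6 D220075) F388109 (iv1 D151962) D151963 (iv6 F468476) (iv1 F490427)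
def n220076 : Q := act 0 n192889
theorem D220076 : act 0 n192889 = n220076 := rfl
theorem F501986 : act 4 n220076 = n203988 := d18_3 (iv1 D192888) D192889 D220076 F430717 F361502 (iv0 D71645) (iv4 F108134) D151962 (iv5 F388109)
theorem F501987 : act 5 n220076 = n203061 := d21_8 (iv5 D219351) (iv1 F382836) D209813 (iv6 F487066) F487069 (iv6 F391075) F391076 D220076 (iv6 F452778) (iv1 F498426)
theorem F501988 : act 2 n204115 = n220076 := d2_3 F501987 (iv2 F485160) F485162
theorem F501989 : act 6 n211635 = n220076 := d12_0 F501987 (iv6 F452778) F452775 (iv6 F365487) (iv5 F462469)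
theorem F501990 : act 7 n220076 = n204113 := d14_2 D211635 F501989 F440455 (iv7 D143503) (iv6 F226214)
def n220077 : Q := act 1 n192889
theorem D220077 : act 1 n192889 = n220077 := rfl
theorem F501991 : act 7 n220077 = n204115 := d15_2 (iv0 D220076) D220077 F501988
theorem F501992 : act 4 n220077 = n203146 := d18_7 (iv1 F302000) F302001 (iv1 F337186) F155038 D100895 D192889 D220077 F427161 (iv5 D122672)
theorem F501993 : act 6 n211608 = n220077 := d21_3 (iv5 D143493) (iv1 F226142) (iv5 F462360) (iv1 D220077) F388111 F387136 (iv1 D192575) D192576 F387139 (iv1 F366558)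
theorem F501994 : act 2 n220077 = n204113 := d3_1 F501993 F440455 (iv2 F462358)
theorem F501995 : act 5 n220077 = n216667 := d16_7 (iv4 D203061) (iv5 D117620) F85515 D54266 D117816 D203146 (iv4 F501992) F485382 F485160
theorem F501996 : act 3 n220077 = n216669 := d19_3 (iv1 D203144) D203146 (iv4 F501992) F485389 F470301 (iv4 F473085) F473084 (iv1 F391246) F449643 F449640 F449574 (iv1 F449573) (iv5 F348363) F348362 F239899 F319630 (iv5 F319580) (iv4 F306499) F427149
theorem F501997 : act 1 n216667 = n216420 := d17_8 F468503 F380154 F370405 (iv5 F356857) D193817 F391076 D220077 F501995 F484299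
def n220078 : Q := act 3 n192889
theorem D220078 : act 3 n192889 = n220078 := rfl
theorem F501998 : act 4 n220078 = n192894 := d5_2 D192889 D220078 (iv3 D192894) (iv4 D100908) (iv3 F155039)
theorem F501999 : act 6 n220078 = n204084 := d7_2 (iv6 F388111) D220078 F431021
def n220079 : Q := act 7 n192889
theorem D220079 : act 7 n192889 = n220079 := rfl
theorem F502000 : act 4 n220079 = n192890 := d11_1 D220079 (iv7 D192890) D192889
theorem F502001 : act 1 n204113 = n220079 := d15_1 F483129 (iv7 D220079) (iv2 F483126)
theorem F502002 : act 1 n220079 = n204115 := d15_1 F502001 (iv7 F501991) F501994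
def n220080 : Q := act 6 n192891
theorem D220080 : act 6 n192891 = n220080 := rfl
theorem F502003 : act 2 n220080 = n217146 := d3_1 D220080 (iv6 D217146) (iv2 F388115)
theorem F502004 : act 3 n220080 = n219555 := d7_1 D220080 (iv6 F499424) F467497
theorem F502005 : act 4 n220080 = n192892 := d10_1 D220080 (iv6 D192892) D192891
theorem F502006 : act 5 n220080 = n215341 := d12_1 D220080 F500381 F500377 (iv6 F467491) F467494
theorem F502007 : act 0 n220080 = n215617 := d21_4 D191453 F467493 F467494 D220080 F480778 (iv5 D191722) F152401 D182224 F368852 F272668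
def n220081 : Q := act 7 n192892
theorem D220081 : act 7 n192892 = n220081 := rfl
theorem F502008 : act 2 n220081 = n217148 := d4_1 D220081 (iv7 D217148) (iv2 F388118)
theorem F502009 : act 5 n220081 = n193571 := d13_1 D220081 (iv7 D193571) (iv5 F388119)
theorem F502010 : act 6 n220081 = n194790 := d14_1 D220081 F394482 (iv6 D186879) F366763 D192892
theorem F502011 : act 1 n216255 = n220081 := d15_1 (iv0 F483510) (iv7 D220081) F388118
theorem F502012 : act 1 n220081 = n217147 := d15_1 F502011 F487664 (iv2 F483511)
def n220082 : Q := act 0 n192894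
theorem D220082 : act 0 n192894 = n220082 := rfl
theorem F502013 : act 5 n220082 = n204442 := d17_3 (iv1 F426393) F426399 D220082 F432558 (iv5 F349390) (iv0 D139681) (iv5 F319961) F183881 (iv4 F184238)
theorem F502014 : act 4 n220082 = n216795 := d18_1 D220082 F485941 F483544 (iv5 F470196) (iv4 D202964) (iv0 D117406) (iv4 F183880) D202961 F426399
theorem F502015 : act 6 n220082 = n192984 := d21_5 (iv5 F441294) (iv1 D194779) F367184 (iv6 F388127) D220082 F388425 (iv1 F155740) D153542 (iv6 F455989) F455992
theorem F502016 : act 2 n213341 = n220082 := d15_3 (iv0 D220082) (iv0 F491589) F491588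
theorem F502017 : act 1 n217197 = n220082 := d15_0 (iv0 D220082) (iv7 F426892) (iv2 F487892)
theorem F502018 : act 7 n220082 = n217117 := d15_2 F491590 F502017 (iv2 F491584)
theorem F502019 : act 3 n204443 = n220082 := d8_3 F502018 F487510 F483295
def n220083 : Q := act 6 n192896
theorem D220083 : act 6 n192896 = n220083 := rfl
theorem F502020 : act 2 n220083 = n217143 := d3_1 D220083 F487644 (iv2 F388132)
theorem F502021 : act 4 n220083 = n192897 := d10_1 D220083 (iv6 D192897) (iv4 F388133)
theorem F502022 : act 7 n220083 = n194786 := d14_2 D192896 D220083 (iv6 D194786) (iv7 F293258) (iv6 F155047)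
theorem F502023 : act 1 n217201 = n220083 := d15_1 D217201 F502022 F394469
theorem F502024 : act 0 n217200 = n220083 := d18_2 D191465 (iv4 F487905) F502021 F388137 F289454 (iv0 F357191) (iv4 F391337) (iv0 F391340) F157447
def n220084 : Q := act 1 n192898
theorem D220084 : act 1 n192898 = n220084 := rfl
theorem F502025 : act 5 n220084 = n215416 := d17_7 F402492 (iv5 F430047) (iv1 F430045) D214825 (iv4 F500982) F500983 D220084 (iv0 F479887) F393338
theorem F502026 : act 4 n220084 = n218385 := d18_7 (iv1 F388857) F388861 F333974 (iv4 F328900) (iv5 F159846) (iv4 F388141) D220084 F493628 (iv5 F389147)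
theorem F502027 : act 3 n215417 = n220084 := d19_19 (iv1 D220084) (iv5 F500983) F500982 F477014 F439039 (iv5 F455421) F455420 F414481 (iv1 F397857) (iv5 F343934) (iv4 F343932) (iv3 F415191) F415194 F365218 (iv4 D145404) (iv3 F228434) (iv1 F384769) (iv5 F388206) (iv4 F479889)
def n220085 : Q := act 6 n192900
theorem D220085 : act 6 n192900 = n220085 := rfl
theorem F502028 : act 2 n220085 = n212645 := d3_1 D220085 (iv6 F476783) F476782
theorem F502029 : act 3 n220085 = n192901 := d7_1 D220085 (iv6 D192901) D192900
theorem F502030 : act 4 n220085 = n205014 := d10_1 D220085 (iv6 F434608) (iv4 F388148)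
theorem F502031 : act 5 n220085 = n194880 := d12_1 D220085 (iv6 F407268) (iv5 F410776) F410779 F390020
theorem F502032 : act 7 n220085 = n212554 := d14_2 F476779 D220085 F466398 (iv7 F498613) F498612
theorem F502033 : act 0 n213785 = n220085 := d21_4 (iv5 F467698) (iv1 F472074) (iv5 D213784) D213785 (iv6 D220085) (iv5 F390020) (iv1 F467181) (iv5 F493307) (iv6 D218320) (iv1 F467697)
def n220086 : Q := act 6 n192904
theorem D220086 : act 6 n192904 = n220086 := rfl
theorem F502034 : act 2 n220086 = n205326 := d3_1 D220086 F435945 (iv2 F388163)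
theorem F502035 : act 3 n220086 = n198836 := d7_1 D220086 F409487 (iv3 F388164)
theorem F502036 : act 4 n220086 = n192905 := d10_1 D220086 (iv6 D192905) D192904
theorem F502037 : act 5 n220086 = n200474 := d12_1 D220086 F416605 (iv5 D149040) (iv6 F311885) (iv5 F388165)
theorem F502038 : act 7 n220086 = n205330 := d14_2 (iv7 F388166) D220086 (iv6 F440133) F440135 F432214
theorem F502039 : act 0 n220086 = n200503 := d21_4 (iv5 D174390) (iv1 F314434) (iv5 F388165) D220086 F416759 (iv5 D147808) (iv1 F105528) D69276 D147849 F340224
theorem F502040 : act 0 n214990 = n220086 := d21_4 F455831 (iv1 F394738) D205063 (iv6 F477774) (iv6 D220086) F388165 F314433 (iv5 F273299) D215407 F479841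
def n220087 : Q := act 0 n192908
theorem D220087 : act 0 n192908 = n220087 := rfl
theorem F502041 : act 5 n220087 = n219751 := d19_1 D220087 F500424 F385913 F383653 (iv5 F386516) (iv4 F459210) F459209 (iv1 D141881) D141882 (iv4 F338939) (iv3 F387177) F387179 (iv5 D191518) F351771 (iv3 F308415) (iv1 F318850) F343489 (iv4 F268287) D192908
theorem F502042 : act 4 n220087 = n195391 := d20_0 (iv1 F459930) (iv4 D211056) (iv3 D140587) (iv1 F223709) F331772 (iv4 D99314) D99313 (iv4 F268287) D192908 D220087
theorem F502043 : act 6 n220087 = n195384 := d21_5 (iv5 F343123) D193385 (iv5 F403836) (iv6 F403841) D220087 (iv5 F449957) (iv1 F449960) (iv5 D196304) F397101 (iv1 D108453)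
theorem F502044 : act 2 n195385 = n220087 := d15_3 (iv0 D220087) (iv0 F388177) (iv7 F396898)
theorem F502045 : act 1 n211092 = n220087 := d15_0 (iv0 D220087) F388176 F460068
theorem F502046 : act 7 n220087 = n211093 := d15_2 D211092 F502045 (iv2 D211093)
theorem F502047 : act 3 n196976 = n220087 := d8_3 F502046 F460069 F440008
def n220088 : Q := act 4 n192908
theorem D220088 : act 4 n192908 = n220088 := rfl
theorem F502048 : act 2 n220088 = n197410 := d1_1 D220088 (iv4 F450252) F450251
theorem F502049 : act 3 n220088 = n214065 := d5_1 D220088 F473307 (iv3 D191913) (iv4 F268287) D192908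
theorem F502050 : act 6 n220088 = n197387 := d10_2 (iv6 F403841) D220088 F404101
theorem F502051 : act 7 n220088 = n219866 := d11_2 (iv7 F388176) D220088 F500947
def n220089 : Q := act 0 n192911
theorem D220089 : act 0 n192911 = n220089 := rfl
theorem F502052 : act 3 n220089 = n210945 := d20_5 F329204 F151927 (iv4 F155575) D192911 D220089 F459407 (iv1 F444908) (iv4 F459325) (iv3 D210928) (iv1 D140371)
theorem F502053 : act 4 n220089 = n213902 := d20_0 (iv1 D213902) F245186 F221648 F100839 (iv3 F101549) F329204 F151927 (iv4 F155575) D192911 D220089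
theorem F502054 : act 2 n211145 = n220089 := d15_3 (iv0 D220089) (iv0 F464763) F464762
theorem F502055 : act 1 n213882 = n220089 := d15_0 (iv0 D220089) F388190 (iv2 F472558)
theorem F502056 : act 7 n220089 = n210991 := d15_2 (iv0 F472561) F502055 (iv2 F464759)
theorem F502057 : act 6 n192938 = n220089 := d21_3 (iv5 F370338) D199634 F412929 (iv1 F502055) (iv6 D213882) D213881 F472555 (iv5 D204930) F200388 D153175
def n220090 : Q := act 2 n192911
theorem D220090 : act 2 n192911 = n220090 := rfl
theorem F502058 : act 3 n220090 = n211092 := d0_2 D192911 D220090 (iv2 F460068) (iv3 D192379) (iv2 F268285)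
theorem F502059 : act 7 n220090 = n213882 := d4_2 (iv7 F388190) D220090 F472558
theorem F502060 : act 1 n220090 = n210991 := d15_0 (iv0 F459659) (iv7 F388190) D220090
theorem F502061 : act 1 n211145 = n220090 := d15_0 F502060 (iv7 F502056) (iv2 F502054)
theorem F502062 : act 5 n212134 = n220090 := d17_7 F423877 (iv5 F351416) (iv1 D115409) D115410 D202163 F423094 (iv0 F464449) F502060 F459658
theorem F502063 : act 4 n213883 = n220090 := d18_5 (iv1 F423045) F423043 (iv1 F415088) D200121 (iv5 F472564) F502060 F459658 F423878 (iv5 D202159)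
theorem F502064 : act 6 n220090 = n202150 := d21_3 (iv5 F481907) F464450 F502062 (iv1 F433247) (iv6 D204682) (iv5 D124217) F301765 D84770 D178089 D215880
def n220091 : Q := act 4 n192911
theorem D220091 : act 4 n192911 = n220091 := rfl
theorem F502065 : act 2 n220091 = n213883 := d1_1 D220091 F502063 (iv2 D220090)
theorem F502066 : act 3 n220091 = n202304 := d5_1 D220091 F423559 F383667 (iv4 F155575) D192911
theorem F502067 : act 7 n220091 = n213878 := d11_2 (iv7 F388190) D220091 F472544
theorem F502068 : act 0 n220091 = n211071 := d20_1 D220091 (iv4 D211071) (iv3 F459942) (iv1 D211057) (iv3 D140592) (iv4 F318451) (iv1 F320488) D145549 D212210 F464763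
theorem F502069 : act 0 n211008 = n220091 := d20_10 (iv4 D220091) D220089 F502053 (iv3 F472658) (iv1 F440616) F422831 (iv4 D139308) D139306 (iv4 F422581) (iv3 F459734)
theorem F502070 : act 6 n220091 = n196670 := d21_5 F461183 F429662 F429659 D211008 F502069 (iv5 D196670) (iv1 F401408) (iv5 F461193) (iv6 D211340) D211339
def n220092 : Q := act 5 n192911
theorem D220092 : act 5 n192911 = n220092 := rfl
theorem F502071 : act 2 n220092 = n212134 := d2_1 D220092 F502062 (iv2 D220090)
theorem F502072 : act 3 n220092 = n192912 := d6_1 D220092 (iv5 D192912) D192911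
theorem F502073 : act 7 n220092 = n212149 := d13_2 (iv7 F388190) D220092 F464499
theorem F502074 : act 0 n220092 = n202158 := d17_2 F464763 D220092 F500853 F500850 (iv5 D202145) (iv0 F400954) F415119 F472653 F472651
theorem F502075 : act 6 n220092 = n196550 := d21_9 (iv5 F401189) (iv1 F401859) (iv5 D196805) D196806 F423385 D211535 (iv5 F464760) F464763 D220092 (iv1 F401055)
theorem F502076 : act 0 n199820 = n220092 := d19_0 (iv5 D220092) D220091 F502066 (iv1 F423562) D214046 F473244 (iv3 D199978) (iv1 D112131) (iv5 D51709) F39480 F19681 D11935 D25129 D51751 D112211 F350118 F223892 F348839 (iv3 F413642)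
theorem F502077 : act 4 n220092 = n201949 := d20_0 (iv1 D201949) F415079 (iv3 F415078) F343472 F350128 F342434 (iv1 F223891) F348839 (iv3 F413642) F502076
def n220093 : Q := act 6 n192911
theorem D220093 : act 6 n192911 = n220093 := rfl
theorem F502078 : act 2 n220093 = n202150 := d3_1 D220093 (iv6 F502064) (iv2 D220090)
theorem F502079 : act 3 n220093 = n192913 := d7_1 D220093 (iv6 D192913) D192911
theorem F502080 : act 4 n220093 = n196670 := d10_1 D220093 (iv6 F502070) (iv4 D220091)
theorem F502081 : act 5 n220093 = n196835 := d12_1 D220093 (iv6 D196835) (iv5 F401052) (iv6 F502075) (iv5 D220092)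
theorem F502082 : act 7 n220093 = n202151 := d14_2 (iv7 F388190) D220093 F433246 (iv7 F472538) (iv6 F472541)
theorem F502083 : act 0 n220093 = n196521 := d21_4 F500860 F502076 (iv5 D220092) D220093 (iv6 F400957) (iv5 F299584) (iv1 F196323) D124169 D204655 F500862
theorem F502084 : act 0 n202142 = n220093 := d21_4 (iv5 D108593) (iv1 F164800) D196383 F423030 (iv6 D220093) D220092 F502074 F500853 (iv6 F500852) (iv1 F400539)
def n220094 : Q := act 7 n192913
theorem D220094 : act 7 n192913 = n220094 := rfl
theorem F502085 : act 2 n220094 = n219872 := d4_1 D220094 (iv7 D219872) (iv2 F388196)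
theorem F502086 : act 3 n220094 = n202151 := d8_1 D220094 (iv7 F502082) F502079
theorem F502087 : act 4 n220094 = n199265 := d11_1 D220094 F411378 (iv4 F388197)
theorem F502088 : act 5 n220094 = n196838 := d13_1 D220094 (iv7 D196838) (iv5 F388198)
theorem F502089 : act 6 n220094 = n199264 := d14_1 D220094 F411376 (iv6 D192375) F268281 D192913
theorem F502090 : act 1 n199173 = n220094 := d15_1 (iv0 F411008) (iv7 D220094) F388196
theorem F502091 : act 1 n220094 = n219871 := d15_1 F502090 F500971 F455523
def n220095 : Q := act 3 n192915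
theorem D220095 : act 3 n192915 = n220095 := rfl
theorem F502092 : act 5 n220095 = n219640 := d6_2 (iv5 F388206) D220095 (iv3 D219640)
theorem F502093 : act 7 n220095 = n219864 := d8_2 F388208 D220095 F500938
theorem F502094 : act 0 n220095 = n219751 := d20_10 F500424 D219752 (iv4 F500429) F440006 (iv1 F459882) F459877 (iv4 F464775) (iv1 F479891) F479889 D220095
theorem F502095 : act 0 n211094 = n220095 := d20_4 D210937 (iv1 F460078) (iv4 D211095) (iv3 F460073) (iv3 D220095) (iv4 F479889) F479890 (iv4 D210932) F223479 D140380
def n220096 : Q := act 0 n192922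
theorem D220096 : act 0 n192922 = n220096 := rfl
theorem F502096 : act 5 n220096 = n218372 := d17_3 (iv1 D192921) D192922 D220096 F493560 (iv5 F484084) F484086 (iv5 D209815) (iv0 F382822) F388233
theorem F502097 : act 4 n220096 = n210483 := d18_1 D220096 F457729 (iv4 F500071) (iv5 D219690) F385259 F385231 (iv4 F388228) (iv0 D192920) D192922
theorem F502098 : act 0 n220096 = n216577 := d18_0 F485029 D220096 F502097 (iv5 D210483) (iv4 F352996) F352991 D189167 D218372 (iv5 F502096)
theorem F502099 : act 3 n217280 = n220096 := d20_9 F485029 D220096 F502097 F457727 D210486 F457744 (iv4 F480666) (iv1 F480668) (iv4 F488251) F502098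
theorem F502100 : act 2 n220096 = n215864 := d0_1 F502099 (iv3 D215864) F452632 (iv3 F492395) F492391
theorem F502101 : act 7 n220096 = n219795 := d8_2 F492392 F502099 (iv3 D219795)
def n220097 : Q := act 1 n192922
theorem D220097 : act 1 n192922 = n220097 := rfl
theorem F502102 : act 1 n220097 = n216577 := d15_1 D220097 (iv7 F500066) F500063
theorem F502103 : act 7 n220097 = n215864 := d15_2 (iv0 D220096) D220097 (iv2 F502100)
theorem F502104 : act 5 n220097 = n218371 := d17_7 (iv1 F352991) F352993 (iv1 F292706) F292708 D100968 D192922 D220097 (iv0 D218371) (iv4 D189167)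
theorem F502105 : act 2 n219795 = n220097 := d2_3 F502104 (iv2 F493554) (iv5 F500658)
theorem F502106 : act 3 n204664 = n220097 := d6_3 F502104 (iv3 F493557) F452626
def n220098 : Q := act 4 n192931
theorem D220098 : act 4 n192931 = n220098 := rfl
theorem F502107 : act 2 n220098 = n192932 := d1_1 D220098 (iv4 D192932) D192931
theorem F502108 : act 3 n220098 = n211990 := d5_1 D220098 (iv4 F468808) (iv3 F501227) F501228 (iv3 F388263)
theorem F502109 : act 7 n220098 = n219942 := d11_2 (iv7 F388265) D220098 F501293
theorem F502110 : act 5 n220098 = n211988 := d17_5 F405243 (iv5 F490760) F490763 (iv5 F388264) D220098 (iv0 F467580) F467579 (iv0 F499824) F499821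
theorem F502111 : act 1 n220098 = n213676 := d18_6 D213680 F471612 F491387 F491386 (iv5 F388264) D220098 (iv4 D213676) (iv0 D154699) D154702
theorem F502112 : act 0 n220098 = n205913 := d20_1 D220098 F438390 (iv3 F438356) F438354 (iv3 F394260) F394261 D194725 F394267 F389468 (iv1 F388266)
theorem F502113 : act 6 n195408 = n220098 := d12_0 F502110 (iv6 D211988) (iv5 D144709) (iv6 F162147) (iv5 F396917)
def n220099 : Q := act 6 n192931
theorem D220099 : act 6 n192931 = n220099 := rfl
theorem F502114 : act 2 n220099 = n192933 := d3_1 D220099 (iv6 D192933) D192931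
theorem F502115 : act 3 n220099 = n202478 := d7_1 D220099 F424177 (iv3 F388263)
theorem F502116 : act 4 n220099 = n195408 := d10_1 D220099 F502113 (iv4 D220098)
theorem F502117 : act 5 n220099 = n198851 := d12_1 D220099 F409564 F362386 (iv6 F387022) (iv5 F388264)
theorem F502118 : act 7 n220099 = n195407 := d14_2 (iv7 F388265) D220099 F404839 F497608 (iv6 F497607)
def n220100 : Q := act 0 n192932
theorem D220100 : act 0 n192932 = n220100 := rfl
theorem F502119 : act 4 n220100 = n211011 := d20_2 D192932 D220100 F459743 F372076 (iv3 D144272) (iv4 D67582) (iv1 F162083) (iv4 F168660) F388254 (iv1 D192930)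
theorem F502120 : act 3 n220100 = n219313 := d20_5 (iv4 D184236) (iv1 F154101) D191917 (iv3 F388268) D220100 (iv4 D219313) F382407 D194261 F392550 F388095
theorem F502121 : act 1 n219942 = n220100 := d15_0 (iv0 D220100) F388269 D219942
theorem F502122 : act 2 n205913 = n220100 := d0_5 F502120 F498254 F427362 (iv2 F427361) D205913
theorem F502123 : act 6 n211010 = n220100 := d7_0 F502120 F498255 (iv3 F459739)
theorem F502124 : act 7 n213676 = n220100 := d8_0 F502120 F498256 (iv3 F471592)
def n220101 : Q := act 1 n192932
theorem D220101 : act 1 n192932 = n220101 := rfl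
theorem F502125 : act 1 n220101 = n219942 := d15_1 D220101 (iv7 F502109) F502107
theorem F502126 : act 7 n220101 = n205913 := d15_2 (iv0 D220100) D220101 F502122
theorem F502127 : act 4 n220101 = n212570 := d18_7 (iv1 F470477) (iv4 F470479) F387006 F387004 F367191 D192932 D220101 (iv0 F466477) (iv5 F419935)
theorem F502128 : act 3 n203185 = n220101 := d20_3 F454478 F403184 (iv4 F427354) (iv1 D220101) F388268 (iv4 D191917) F152927 (iv4 F286186) F365107 D209647
theorem F502129 : act 2 n220101 = n213676 := d0_1 F502128 F471592 F392951 (iv3 F365262) F427356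
def n220102 : Q := act 5 n192932
theorem D220102 : act 5 n192932 = n220102 := rfl
theorem F502130 : act 2 n220102 = n211988 := d2_1 D220102 (iv5 F502110) F502107
theorem F502131 : act 3 n220102 = n219646 := d6_1 D220102 (iv5 D219646) (iv3 F388268)
theorem F502132 : act 6 n220102 = n195376 := d12_2 F409571 D220102 F396857 F162087 D145641
theorem F502133 : act 7 n220102 = n219943 := d13_2 (iv7 F388269) D220102 (iv5 D219943)
theorem F502134 : act 0 n203251 = n220102 := d21_7 (iv5 F436469) (iv1 F436472) D205450 F436484 (iv1 F403684) (iv6 F501123) (iv5 F501124) (iv5 D220102) (iv6 F409571) (iv1 F396915)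
def n220103 : Q := act 7 n192933
theorem D220103 : act 7 n192933 = n220103 := rfl
theorem F502135 : act 2 n220103 = n195407 := d4_1 D220103 (iv7 F502118) F502114
theorem F502136 : act 3 n220103 = n192937 := d8_1 D220103 (iv7 D192937) (iv3 F388270)
theorem F502137 : act 4 n220103 = n195297 := d11_1 D220103 F396619 (iv4 F409570)
theorem F502138 : act 5 n220103 = n205445 := d13_1 D220103 F436461 F409569
theorem F502139 : act 6 n220103 = n219187 := d14_1 D220103 F497628 (iv6 D192481) (iv7 F155587) D192933
def n220104 : Q := act 1 n192936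
theorem D220104 : act 1 n192936 = n220104 := rfl
theorem F502140 : act 1 n220104 = n219939 := d15_1 D220104 (iv7 D219939) (iv2 F388272)
theorem F502141 : act 7 n220104 = n219938 := d15_2 (iv0 F455551) D220104 (iv2 F501273)
theorem F502142 : act 5 n220104 = n219959 := d17_7 F391481 (iv5 D193945) (iv1 D102491) (iv5 F152930) (iv4 F155592) D192936 D220104 (iv0 F501379) (iv4 F404912)
theorem F502143 : act 4 n220104 = n198227 := d17_9 (iv1 F455677) F455676 (iv1 F407236) D198225 F407273 (iv5 F402517) F391234 D192936 D220104
theorem F502144 : act 2 n219937 = n220104 := d1_3 F502143 (iv2 F455684) (iv4 F501266)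
theorem F502145 : act 6 n202433 = n220104 := d10_0 F502143 (iv6 F493040) F493039
def n220105 : Q := act 4 n192936
theorem D220105 : act 4 n192936 = n220105 := rfl
theorem F502146 : act 2 n220105 = n196585 := d1_1 D220105 F401155 (iv2 F388272)
theorem F502147 : act 5 n220105 = n214259 := d9_2 D192936 D220105 F474274 F455373 F391235 F385921 (iv4 F386755) (iv5 F501277) F501276 (iv5 F479071) F479070 (iv5 D193939) F157435 (iv5 F152930) (iv4 F155592)
theorem F502148 : act 6 n220105 = n196584 := d10_2 (iv6 F388273) D220105 F401150
theorem F502149 : act 1 n220105 = n212130 := d18_6 F471591 F471587 (iv1 D191920) (iv4 F155592) D192936 D220105 F464435 F471577 F471575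
def n220106 : Q := act 7 n192936
theorem D220106 : act 7 n192936 = n220106 := rfl
theorem F502150 : act 2 n220106 = n219939 := d4_1 D220106 (iv7 D219939) (iv2 F388272)
theorem F502151 : act 3 n220106 = n205445 := d8_1 D220106 F436461 (iv3 F409568)
theorem F502152 : act 5 n220106 = n192937 := d13_1 D220106 (iv7 D192937) D192936
theorem F502153 : act 1 n219937 = n220106 := d15_1 (iv0 F501269) (iv7 D220106) F388272
theorem F502154 : act 1 n220106 = n219938 := d15_1 F502153 (iv7 F502141) (iv2 F502144)
def n220107 : Q := act 6 n192939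
theorem D220107 : act 6 n192939 = n220107 := rfl
theorem F502155 : act 2 n220107 = n192941 := d3_1 D220107 (iv6 D192941) D192939
theorem F502156 : act 3 n220107 = n219183 := d7_1 D220107 (iv6 F497607) (iv3 F388284)
theorem F502157 : act 4 n220107 = n214047 := d10_1 D220107 F473245 F469474
theorem F502158 : act 5 n220107 = n219181 := d12_1 D220107 F497613 (iv5 F449313) F469678 F469676
theorem F502159 : act 0 n220107 = n213373 := d21_4 (iv5 F492674) (iv1 F492680) F469676 D220107 F470125 F405578 (iv1 F168493) D108882 (iv6 F370339) (iv1 F465888)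
def n220108 : Q := act 0 n192940
theorem D220108 : act 0 n192940 = n220108 := rfl
theorem F502160 : act 4 n220108 = n202468 := d18_3 F365476 D192940 D220108 F424130 F413258 (iv0 D198075) (iv4 F173049) D199635 (iv5 F412934)
theorem F502161 : act 2 n219927 = n220108 := d15_3 (iv0 D220108) (iv0 F468834) (iv7 F501225)
theorem F502162 : act 1 n219928 = n220108 := d15_0 (iv0 D220108) F388289 D219928
theorem F502163 : act 7 n220108 = n211006 := d15_2 F501231 F502162 F468835
theorem F502164 : act 6 n211071 = n220108 := d10_0 F502160 F424131 D211071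
def n220109 : Q := act 5 n192940
theorem D220109 : act 5 n192940 = n220109 := rfl
theorem F502165 : act 3 n220109 = n219651 := d6_1 D220109 (iv5 D219651) (iv3 F388288)
theorem F502166 : act 7 n220109 = n219929 := d13_2 (iv7 F388289) D220109 (iv5 D219929)
theorem F502167 : act 1 n220109 = n215809 := d17_6 F412545 (iv5 F409190) F409192 F375162 D192940 D220109 F481656 (iv0 F473078) F473077
def n220110 : Q := act 6 n192940
theorem D220110 : act 6 n192940 = n220110 := rfl
theorem F502168 : act 2 n220110 = n214047 := d3_1 D220110 F473245 F469473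
theorem F502169 : act 3 n220110 = n214038 := d7_1 D220110 (iv6 F473219) (iv3 F388288)
theorem F502170 : act 4 n220110 = n192941 := d10_1 D220110 (iv6 D192941) D192940
theorem F502171 : act 0 n213879 = n220110 := d20_10 F502170 F409193 F472709 (iv3 F472708) F428615 F423102 (iv4 D184626) (iv1 F343853) D193150 (iv3 F472546)
def n220111 : Q := act 5 n192941
theorem D220111 : act 5 n192941 = n220111 := rfl
theorem F502172 : act 2 n220111 = n219181 := d2_1 D220111 (iv5 F502158) F502155
theorem F502173 : act 3 n220111 = n192942 := d6_1 D220111 (iv5 D192942) (iv3 F388290)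
theorem F502174 : act 6 n220111 = n197944 := d12_2 D192941 D220111 (iv5 F449443) (iv6 F449447) F375162
theorem F502175 : act 4 n220111 = n197945 := d18_5 F498079 (iv4 F472547) F502171 F502170 D220111 F461509 F381841 D191026 D219276
theorem F502176 : act 0 n220111 = n211427 := d18_0 F461491 F461475 (iv4 D211417) F389402 F389400 D213912 (iv4 F472709) (iv0 F409193) D220111
def n220112 : Q := act 7 n192941
theorem D220112 : act 7 n192941 = n220112 := rfl
theorem F502177 : act 3 n220112 = n192943 := d8_1 D220112 (iv7 D192943) (iv3 F388290)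
theorem F502178 : act 6 n220112 = n219936 := d14_1 D220112 (iv7 D219936) (iv6 D192456) (iv7 F155593) D192941
theorem F502179 : act 0 n213373 = n220112 := d21_4 (iv5 D108879) (iv1 F168494) (iv5 F405578) (iv6 F470125) F502178 F501263 F423990 F423988 F407164 (iv1 D198031)
def n220113 : Q := act 4 n192942
theorem D220113 : act 4 n192942 = n220113 := rfl
theorem F502180 : act 2 n220113 = n215494 := d1_1 D220113 F480212 (iv2 F388291)
theorem F502181 : act 5 n220113 = n193618 := d9_2 D192942 D220113 F390463 F385901 F367535 (iv5 F154150) (iv4 F386785) F497623 F497621 (iv5 D193913) F157423 F74735 (iv4 F294987) F293939 (iv4 F155598)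
theorem F502182 : act 6 n220113 = n215253 := d10_2 F493046 D220113 (iv4 F493047)
theorem F502183 : act 0 n220113 = n211742 := d18_2 F493512 D220113 F462914 (iv5 D211314) (iv4 F410426) F410430 (iv4 F493494) F493492 D218364
theorem F502184 : act 1 n220113 = n215336 := d18_6 (iv1 F375627) (iv4 F172343) F374452 (iv4 F155598) D192942 D220113 F479457 F493320 F493319
theorem F502185 : act 7 n220113 = n193617 := d15_2 (iv0 F462915) (iv0 F502183) (iv2 F391377)
def n220114 : Q := act 7 n192942
theorem D220114 : act 7 n192942 = n220114 := rfl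
theorem F502186 : act 2 n220114 = n219186 := d4_1 D220114 F497622 (iv2 F388291)
theorem F502187 : act 4 n220114 = n193617 := d11_1 D220114 (iv7 F502185) (iv4 D220113)
theorem F502188 : act 5 n220114 = n192943 := d13_1 D220114 (iv7 D192943) D192942
theorem F502189 : act 1 n215458 = n220114 := d15_1 F492660 (iv7 D220114) F388291
theorem F502190 : act 1 n220114 = n219951 := d15_1 F502189 F501329 F493509
theorem F502191 : act 6 n218813 = n220114 := d21_3 F480128 (iv1 F459643) (iv5 F495769) (iv1 F502189) (iv6 D215458) (iv5 D174581) (iv1 D83427) D83429 D174590 D215468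
def n220115 : Q := act 6 n192947
theorem D220115 : act 6 n192947 = n220115 := rfl
theorem F502192 : act 2 n220115 = n210510 := d3_1 D220115 (iv6 D210510) (iv2 F406004)
theorem F502193 : act 3 n220115 = n197847 := d7_1 D220115 (iv6 D197847) F388310
theorem F502194 : act 4 n220115 = n199582 := d10_1 D220115 (iv6 D199582) (iv4 F388308)
theorem F502195 : act 5 n220115 = n198006 := d12_1 D220115 (iv6 D198006) (iv5 F372507) D217918 (iv5 F491259)
theorem F502196 : act 7 n220115 = n215885 := d14_2 F406001 D220115 (iv6 F482748) F482749 (iv6 D210520)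
theorem F502197 : act 0 n220115 = n215887 := d21_4 (iv5 F457903) (iv1 F491260) (iv5 F491259) D220115 (iv6 F481941) F404907 (iv1 D197581) D197582 F404909 (iv1 F400416)
theorem F502198 : act 0 n215886 = n220115 := d21_4 D192409 F417954 (iv5 F401714) (iv6 F481934) (iv6 D220115) F491259 F491258 F457862 (iv6 F400368) (iv1 D192408)
def n220116 : Q := act 6 n192949
theorem D220116 : act 6 n192949 = n220116 := rfl
theorem F502199 : act 2 n220116 = n212548 := d3_1 D220116 F466371 F438473
theorem F502200 : act 3 n220116 = n192951 := d7_1 D220116 (iv6 D192951) D192949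
theorem F502201 : act 4 n220116 = n211616 := d10_1 D220116 F462395 F456376
theorem F502202 : act 5 n220116 = n213652 := d12_1 D220116 (iv6 F484800) (iv5 D216522) F462269 F462265
def n220117 : Q := act 6 n192955
theorem D220117 : act 6 n192955 = n220117 := rfl
theorem F502203 : act 2 n220117 = n193567 := d3_1 D220117 (iv6 D193567) (iv2 F388329)
theorem F502204 : act 4 n220117 = n212747 := d10_1 D220117 (iv6 D212747) F388330
theorem F502205 : act 5 n220117 = n213334 := d12_1 D220117 (iv6 D213334) (iv5 D153541) (iv6 F234614) F388328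
def n220118 : Q := act 3 n192956
theorem D220118 : act 3 n192956 = n220118 := rfl
theorem F502206 : act 2 n220118 = n192961 := d0_1 D220118 (iv3 D192961) F346057 (iv3 F434180) F434179
theorem F502207 : act 4 n220118 = n213919 := d5_2 D192956 D220118 F472741 F388326 F388320
theorem F502208 : act 5 n220118 = n213913 := d6_2 F456257 D220118 F472713
theorem F502209 : act 6 n220118 = n192961 := d7_2 (iv6 F388331) D220118 (iv3 D192961)
theorem F502210 : act 0 n220118 = n202253 := d19_4 F190377 D101020 D192956 D220118 (iv5 D202253) (iv4 F423405) (iv3 F459177) (iv1 F459180) D211441 (iv4 F461913) F461911 (iv1 F378852) (iv5 F385756) F385755 (iv3 F354138) F357877 F354154 F130286 (iv3 D70024)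
theorem F502211 : act 0 n193893 = n220118 := d20_4 (iv4 F347119) F431868 F360850 (iv3 F391309) (iv3 D220118) (iv4 D192956) F338057 (iv4 F338054) D212744 F467330
def n220119 : Q := act 3 n192958
theorem D220119 : act 3 n192958 = n220119 := rfl
theorem F502212 : act 2 n220119 = n209840 := d0_1 D220119 F455112 F426860 (iv3 D193781) (iv2 F388337)
theorem F502213 : act 4 n220119 = n209233 := d5_2 D192958 D220119 (iv3 F471331) F471327 F372705
theorem F502214 : act 5 n220119 = n210117 := d6_2 (iv5 F388338) D220119 (iv3 D210117)
theorem F502215 : act 7 n220119 = n211466 := d8_2 (iv7 F388339) D220119 (iv3 D211466)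
theorem F502216 : act 6 n209232 = n220119 := d14_5 F502215 F461662 (iv7 F452756) F452755 D209232
def n220120 : Q := act 6 n192958
theorem D220120 : act 6 n192958 = n220120 := rfl
theorem F502217 : act 2 n220120 = n193782 := d3_1 D220120 (iv6 D193782) (iv2 F388337)
theorem F502218 : act 3 n220120 = n209232 := d7_1 D220120 F502216 (iv3 D220119)
theorem F502219 : act 4 n220120 = n192959 := d10_1 D220120 (iv6 D192959) D192958
theorem F502220 : act 5 n220120 = n209877 := d12_1 D220120 (iv6 F472831) (iv5 D213943) (iv6 F245272) (iv5 F388338)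
theorem F502221 : act 7 n220120 = n209230 := d14_2 (iv7 F388339) D220120 F473275 (iv7 D214055) F245575
theorem F502222 : act 0 n209832 = n220120 := d17_0 F502220 (iv1 F459142) (iv5 F468801) F468800 (iv5 D208837) (iv0 F373575) F373574 D193643 (iv4 F455094)
def n220121 : Q := act 0 n192959
theorem D220121 : act 0 n192959 = n220121 := rfl
theorem F502223 : act 6 n220121 = n209841 := d21_5 (iv5 D191288) F290160 D101030 D192959 D220121 F493296 (iv1 D218318) (iv5 F382930) (iv6 D191297) (iv1 F382888)
theorem F502224 : act 3 n216444 = n220121 := d7_3 F502223 F493298 (iv6 F484404)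
theorem F502225 : act 7 n193784 = n220121 := d14_0 F502223 (iv7 F493297) F471352 (iv7 F390278) F467162
theorem F502226 : act 2 n220121 = n193783 := d15_3 (iv0 D193783) D193784 F502225
def n220122 : Q := act 1 n192959
theorem D220122 : act 1 n192959 = n220122 := rfl
theorem F502227 : act 1 n220122 = n193785 := d15_1 D220122 (iv7 D193785) (iv2 F388342)
theorem F502228 : act 7 n220122 = n193783 := d15_2 (iv0 D220121) D220122 (iv2 F502226)
theorem F502229 : act 5 n220122 = n193382 := d17_7 (iv1 D217718) D217720 F490310 F393762 D216571 (iv5 F485002) D220122 (iv0 F454788) F490295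
theorem F502230 : act 6 n193558 = n220122 := d21_3 F338055 (iv1 F467168) F467165 (iv1 D220122) (iv6 D192959) (iv5 D101030) (iv1 D47069) D47070 (iv6 F155635) F338057
theorem F502231 : act 2 n220122 = n193784 := d3_1 F502230 (iv6 F467162) (iv2 F390279)
theorem F502232 : act 1 n193785 = n220121 := d15_1 F502227 (iv7 F502225) (iv2 F502231)
def n220123 : Q := act 7 n192959
theorem D220123 : act 7 n192959 = n220123 := rfl
theorem F502233 : act 2 n220123 = n193785 := d4_1 D220123 (iv7 D193785) (iv2 F388342)
theorem F502234 : act 3 n220123 = n193746 := d8_1 D220123 (iv7 F491458) F491456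
theorem F502235 : act 4 n220123 = n209230 := d11_1 D220123 (iv7 F502221) F502219
theorem F502236 : act 5 n220123 = n216507 := d13_1 D220123 (iv7 F485000) (iv5 F485002)
theorem F502237 : act 6 n220123 = n209827 := d14_1 D220123 F473270 F473267 F382892 D192959
theorem F502238 : act 1 n193784 = n220123 := d15_1 D193784 (iv7 D220123) F388342
theorem F502239 : act 1 n220123 = n193783 := d15_1 F502238 (iv7 F502228) F502231
def n220124 : Q := act 1 n192961
theorem D220124 : act 1 n192961 = n220124 := rfl
theorem F502240 : act 7 n220124 = n202253 := d15_2 (iv0 F469274) D220124 (iv2 F469270)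
theorem F502241 : act 5 n220124 = n202197 := d17_7 (iv1 F360795) (iv5 F381931) F381932 F389402 F389400 (iv5 F388350) D220124 F469268 F469265
theorem F502242 : act 4 n216659 = n220124 := d20_6 (iv4 F386165) (iv1 F386164) (iv4 F287510) F458697 (iv1 F480006) (iv3 F485353) (iv1 D220124) F388349 F245252 D156097
theorem F502243 : act 6 n193869 = n220124 := d21_9 F388350 F366406 D213165 F485487 F485484 (iv6 F500469) (iv5 D219759) (iv1 F385977) D193869 (iv1 D220124)
theorem F502244 : act 2 n220124 = n193893 := d3_1 F502243 (iv6 D193893) (iv2 F391256)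
theorem F502245 : act 3 n202269 = n220124 := d0_0 F502244 F391309 F366276 (iv3 F469234) F469233
def n220125 : Q := act 6 n192963
theorem D220125 : act 6 n192963 = n220125 := rfl
theorem F502246 : act 2 n220125 = n193005 := d3_1 D220125 (iv6 D193005) (iv2 F388355)
theorem F502247 : act 3 n220125 = n212396 := d7_1 D220125 (iv6 F465658) (iv3 F388356)
theorem F502248 : act 4 n220125 = n192964 := d10_1 D220125 (iv6 D192964) D192963
theorem F502249 : act 5 n220125 = n206793 := d21_6 (iv5 D60827) (iv1 F83821) (iv5 F161936) F343924 (iv1 F388358) D220125 (iv1 F446690) (iv5 F446694) (iv6 D134265) F98387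
theorem F502250 : act 7 n206792 = n220125 := d13_0 F502249 (iv7 D206793) D206792
theorem F502251 : act 0 n212446 = n220125 := d17_0 F502249 (iv1 F446690) (iv5 F446694) F216290 D136566 (iv0 F384563) D216338 F483915 F465825
theorem F502252 : act 1 n212447 = n220125 := d18_8 (iv1 F446690) (iv4 F446692) (iv1 F438214) F214714 D206719 F441960 F452663 F465829 F502249
def n220126 : Q := act 3 n192965
theorem D220126 : act 3 n192965 = n220126 := rfl
theorem F502253 : act 2 n220126 = n212403 := d0_1 D220126 F465675 (iv2 F375101) F375102 (iv2 F388364)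
theorem F502254 : act 4 n220126 = n202918 := d5_2 D192965 D220126 (iv3 F491161) F491158 F385292
theorem F502255 : act 5 n220126 = n198180 := d6_2 F421821 D220126 F421822
theorem F502256 : act 7 n220126 = n193003 := d8_2 (iv7 F388365) D220126 (iv3 D193003)
theorem F502257 : act 0 n220126 = n212401 := d19_4 (iv1 F74323) D101041 D192965 D220126 F490732 (iv4 D187973) (iv3 D90705) (iv1 F138950) F138947 (iv4 D42583) (iv3 F294352) D42721 F293840 F68411 F291796 F73995 (iv5 F292288) F62772 (iv3 F35219)
theorem F502258 : act 6 n207806 = n220126 := d21_3 (iv5 F404035) (iv1 F212423) (iv5 F446527) F502257 (iv6 F465671) F442313 (iv1 F211819) D207678 (iv6 F446818) F446820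
theorem F502259 : act 1 n220126 = n212400 := d15_1 (iv0 F502257) F499237 (iv2 F475085)
def n220127 : Q := act 6 n192965
theorem D220127 : act 6 n192965 = n220127 := rfl
theorem F502260 : act 2 n220127 = n193013 := d3_1 D220127 (iv6 D193013) (iv2 F388364)
theorem F502261 : act 3 n220127 = n207806 := d7_1 D220127 F502258 (iv3 D220126)
theorem F502262 : act 4 n220127 = n192966 := d10_1 D220127 (iv6 D192966) D192965
theorem F502263 : act 5 n220127 = n207801 := d12_1 D220127 F446503 F441884 (iv6 F421825) F421821
theorem F502264 : act 7 n220127 = n207800 := d14_2 (iv7 F388365) D220127 F446499 F388502 (iv6 D193005)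
theorem F502265 : act 0 n220127 = n201729 := d21_4 (iv5 F448918) F448919 F421821 D220127 (iv6 F421604) D201806 F458922 F421640 F388373 F388371
def n220128 : Q := act 7 n192970
theorem D220128 : act 7 n192970 = n220128 := rfl
theorem F502266 : act 2 n220128 = n193031 := d4_1 D220128 (iv7 D193031) (iv2 F388387)
theorem F502267 : act 3 n220128 = n217920 := d8_1 D220128 F491266 (iv3 F388388)
theorem F502268 : act 4 n220128 = n219609 := d11_1 D220128 F499666 F456900
theorem F502269 : act 5 n220128 = n207315 := d13_1 D220128 F444296 (iv5 F388389)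
theorem F502270 : act 6 n220128 = n193024 := d14_1 D220128 (iv7 D193024) (iv6 D101107) (iv7 F344250) D192970
theorem F502271 : act 1 n193030 = n220128 := d15_1 D193030 (iv7 D220128) F388387
theorem F502272 : act 1 n220128 = n193029 := d15_1 F502271 (iv7 F496659) F496657
def n220129 : Q := act 0 n192971
theorem D220129 : act 0 n192971 = n220129 := rfl
theorem F502273 : act 4 n220129 = n217524 := d20_2 F466737 D220129 (iv3 F489307) (iv1 F451058) (iv3 D203315) (iv4 D118707) D118706 (iv4 F374804) (iv3 F465797) (iv1 F466740)
theorem F502274 : act 3 n220129 = n193033 := d20_5 (iv4 D192969) (iv1 D101044) D101045 D192971 D220129 (iv4 F484761) (iv1 F484766) (iv4 F421931) F421930 (iv1 F388386)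
theorem F502275 : act 6 n220129 = n207886 := d21_5 F446095 F441974 (iv5 F467646) F467647 D220129 (iv5 F501817) F501818 (iv5 F475318) (iv6 F475315) (iv1 F450928)
theorem F502276 : act 5 n220129 = n193032 := d21_0 F421643 (iv5 F442566) (iv6 D206905) (iv1 F211874) D207707 F446095 F441974 (iv5 F467646) F467647 D220129
theorem F502277 : act 2 n207896 = n220129 := d15_3 (iv0 D220129) (iv0 F485924) F485921
theorem F502278 : act 1 n212388 = n220129 := d15_0 (iv0 D220129) F466727 F466722
theorem F502279 : act 7 n220129 = n207898 := d15_2 F485923 F502278 (iv2 F485918)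
def n220130 : Q := act 2 n192971
theorem D220130 : act 2 n192971 = n220130 := rfl
theorem F502280 : act 3 n220130 = n193040 := d0_2 D192971 D220130 (iv2 D193040) (iv3 D101115) (iv2 F155704)
theorem F502281 : act 4 n220130 = n197694 := d1_2 F466737 D220130 (iv2 F466735)
theorem F502282 : act 6 n220130 = n197679 := d3_2 F467647 D220130 (iv2 F467644)
theorem F502283 : act 7 n220130 = n212388 := d4_2 (iv7 F466727) D220130 (iv2 F466722)
theorem F502284 : act 1 n220130 = n207898 := d15_0 (iv0 F466725) (iv7 F466727) D220130
theorem F502285 : act 1 n207896 = n220130 := d15_0 F502284 (iv7 F502279) (iv2 F502277)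
def n220131 : Q := act 5 n192971
theorem D220131 : act 5 n192971 = n220131 := rfl
theorem F502286 : act 3 n220131 = n192972 := d6_1 D220131 (iv5 D192972) D192971
theorem F502287 : act 6 n220131 = n220049 := d12_2 F467647 D220131 F501850 F489997 (iv5 F467646)
theorem F502288 : act 4 n220131 = n220050 := d16_2 F466737 D220131 F501855 (iv4 F455099) (iv5 F472990) F472989 (iv5 D212440) (iv7 F405394) (iv2 F466735)
theorem F502289 : act 1 n220131 = n211226 := d17_8 F421846 (iv5 F485692) (iv1 D216735) (iv5 F365612) (iv4 F441478) (iv5 F502276) (iv0 D220129) D220131 F460692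
theorem F502290 : act 0 n220131 = n206919 := d18_0 (iv4 F454285) F454287 (iv4 D201803) D201804 (iv4 F421844) D217524 (iv4 F502273) (iv0 D220129) D220131
def n220132 : Q := act 7 n192972
theorem D220132 : act 7 n192972 = n220132 := rfl
theorem F502291 : act 2 n220132 = n193047 := d4_1 D220132 (iv7 D193047) (iv2 F388392)
theorem F502292 : act 4 n220132 = n192982 := d11_1 D220132 (iv7 F493540) F493539
theorem F502293 : act 5 n220132 = n192973 := d13_1 D220132 (iv7 D192973) D192972
theorem F502294 : act 1 n193044 = n220132 := d15_1 D193044 (iv7 D220132) F388392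
theorem F502295 : act 1 n220132 = n193043 := d15_1 F502294 (iv7 F442612) F442611
def n220133 : Q := act 3 n192977
theorem D220133 : act 3 n192977 = n220133 := rfl
theorem F502296 : act 2 n220133 = n205105 := d0_1 D220133 (iv3 D205105) F201796 D144298 (iv2 F388410)
theorem F502297 : act 5 n220133 = n213440 := d6_2 F491917 D220133 (iv3 F491920)
theorem F502298 : act 7 n220133 = n205128 := d8_2 F410772 D220133 (iv3 F453913)
theorem F502299 : act 0 n220133 = n205129 := d20_4 F440390 (iv1 F386287) D192977 D220133 F435077 (iv4 D127419) F94284 D60356 D128377 D206356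
theorem F502300 : act 0 n205125 = n220133 := d20_4 (iv4 D206200) (iv1 F205390) (iv4 F206508) (iv3 F435063) (iv3 D220133) (iv4 D192977) (iv1 F386291) (iv4 F440396) (iv3 F463389) (iv1 F463391)
theorem F502301 : act 6 n215346 = n220133 := d21_5 D145433 D212173 (iv5 F479491) F479492 D215346 F502297 (iv1 D213440) (iv5 D153744) (iv6 F348831) (iv1 D145431)
def n220134 : Q := act 6 n192977
theorem D220134 : act 6 n192977 = n220134 := rfl
theorem F502302 : act 2 n220134 = n211880 := d3_1 D220134 (iv6 D211880) (iv2 F388410)
theorem F502303 : act 3 n220134 = n215346 := d7_1 D220134 F502301 (iv3 D220133)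
theorem F502304 : act 4 n220134 = n192978 := d10_1 D220134 (iv6 D192978) D192977
theorem F502305 : act 5 n220134 = n216382 := d21_6 D196394 F410757 F410756 (iv6 F368635) (iv1 F388412) D220134 (iv1 F497865) F497863 F464216 (iv1 D196392)
theorem F502306 : act 0 n219960 = n220134 := d17_2 D212077 (iv5 F501382) F502305 (iv4 D216382) (iv5 D183221) (iv0 F289557) D190941 F381629 F400067
def n220135 : Q := act 3 n192983
theorem D220135 : act 3 n192983 = n220135 := rfl
theorem F502307 : act 6 n220135 = n203961 := d7_2 (iv6 F388423) D220135 F430599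
def n220136 : Q := act 6 n192992
theorem D220136 : act 6 n192992 = n220136 := rfl
theorem F502308 : act 3 n220136 = n206937 := d7_1 D220136 (iv6 D206937) (iv3 F388462)
theorem F502309 : act 4 n220136 = n192993 := d10_1 D220136 (iv6 D192993) D192992
def n220137 : Q := act 0 n192993
theorem D220137 : act 0 n192993 = n220137 := rfl
theorem F502310 : act 6 n220137 = n193030 := d21_5 (iv5 D179983) D179980 F280309 D192993 D220137 (iv5 F388556) (iv1 F409998) (iv5 F434961) F434962 (iv1 F280331)
theorem F502311 : act 3 n204530 = n220137 := d7_3 F502310 F388557 F432811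
theorem F502312 : act 0 n220137 = n209453 := d21_4 F219510 (iv1 F363980) F388556 (iv6 F502310) (iv6 D209453) D209452 F453771 (iv5 F489577) F489578 (iv1 D209399)
def n220138 : Q := act 1 n192993
theorem D220138 : act 1 n192993 = n220138 := rfl
theorem F502313 : act 1 n220138 = n209453 := d15_1 D220138 (iv7 F467643) F467641
theorem F502314 : act 6 n209448 = n220138 := d21_3 (iv5 F368609) F487753 (iv5 F487752) (iv1 D220138) (iv6 D192993) (iv5 F280309) (iv1 F280311) D179989 F388521 (iv1 D193015)
theorem F502315 : act 3 n220138 = n193056 := d7_1 F502314 (iv6 F487764) F487760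
def n220139 : Q := act 7 n192993
theorem D220139 : act 7 n192993 = n220139 := rfl
theorem F502316 : act 2 n220139 = n209453 := d4_1 D220139 (iv7 F467643) F467641
theorem F502317 : act 3 n220139 = n219575 := d8_1 D220139 (iv7 F499522) F499459
theorem F502318 : act 5 n220139 = n217217 := d13_1 D220139 (iv7 F487989) F453596
theorem F502319 : act 6 n220139 = n209150 := d14_1 D220139 F452471 (iv6 F388443) (iv7 F280314) D192993
def n220140 : Q := act 5 n192995
theorem D220140 : act 5 n192995 = n220140 := rfl
theorem F502320 : act 2 n220140 = n193377 := d2_1 D220140 F389641 (iv2 F388464)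
theorem F502321 : act 3 n220140 = n208905 := d6_1 D220140 F451342 (iv3 F388465)
theorem F502322 : act 4 n220140 = n210141 := d9_1 D220140 (iv5 D210141) F220828 F350886 (iv4 F439224) F439225 (iv4 F452468) (iv5 F458455) F458454 (iv5 F400194) F400196 F350890 (iv4 F442939) (iv5 F449207) (iv4 F449208)
theorem F502323 : act 6 n220140 = n193372 := d12_2 D192995 D220140 (iv5 D193372) (iv6 F280323) F280324
theorem F502324 : act 7 n220140 = n209452 := d13_2 F388468 D220140 (iv5 D209452)
theorem F502325 : act 0 n220140 = n198324 := d17_2 (iv1 F388467) D220140 (iv5 F407613) D217917 F491251 F443133 F442994 F442989 (iv4 F219606)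
theorem F502326 : act 1 n220140 = n198327 := d17_8 (iv1 D109201) F79761 D65861 D140328 F371031 F371034 (iv0 F388466) D220140 (iv4 D198327)
def n220141 : Q := act 7 n192996
theorem D220141 : act 7 n192996 = n220141 := rfl
theorem F502327 : act 2 n220141 = n197681 := d4_1 D220141 (iv7 D197681) F388471
theorem F502328 : act 3 n220141 = n192997 := d8_1 D220141 (iv7 D192997) D192996
theorem F502329 : act 4 n220141 = n193064 := d11_1 D220141 (iv7 D193064) (iv4 F388469)
theorem F502330 : act 5 n220141 = n201836 := d13_1 D220141 (iv7 F443011) F443010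
theorem F502331 : act 1 n197678 = n220141 := d15_1 D197678 (iv7 D220141) (iv2 F388471)
theorem F502332 : act 1 n220141 = n197677 := d15_1 F502331 (iv7 F443039) (iv2 F445977)
def n220142 : Q := act 6 n192999
theorem D220142 : act 6 n192999 = n220142 := rfl
theorem F502333 : act 2 n220142 = n208779 := d3_1 D220142 (iv6 F489550) F489548
theorem F502334 : act 3 n220142 = n213077 := d7_1 D220142 (iv6 D213077) F388480
theorem F502335 : act 4 n220142 = n208599 := d10_1 D220142 F450084 F388481
theorem F502336 : act 5 n220142 = n207656 := d12_1 D220142 F500108 F500102 (iv6 F487523) (iv5 F487522)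
theorem F502337 : act 0 n220142 = n195285 := d21_4 (iv5 F492305) F492306 (iv5 F487522) D220142 (iv6 F467631) (iv5 D212823) (iv1 F338836) D192030 F385277 D192035
theorem F502338 : act 0 n209395 = n220142 := d21_4 D191771 (iv1 F449266) (iv5 F449264) F453558 (iv6 D220142) F487522 (iv1 D217119) (iv5 F385307) (iv6 F387261) (iv1 D191769)
theorem F502339 : act 7 n208777 = n220142 := d13_0 F502336 (iv7 F445878) (iv5 F450825)
def n220143 : Q := act 0 n193003
theorem D220143 : act 0 n193003 = n220143 := rfl
theorem F502340 : act 5 n220143 = n217553 := d19_1 D220143 (iv4 D217553) (iv3 D187554) (iv1 D90320) (iv5 F293969) (iv4 D48149) F36388 D42757 F292830 F134829 (iv3 F134827) F291668 (iv5 F291584) F17257 (iv3 F17255) D22647 D47091 D101088 D193003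
theorem F502341 : act 2 n212400 = n220143 := d15_3 (iv0 D220143) (iv0 F475087) (iv7 F499237)
theorem F502342 : act 1 n212403 = n220143 := d15_0 (iv0 D220143) (iv7 F502256) F502253
theorem F502343 : act 7 n220143 = n212401 := d15_2 (iv0 F475086) F502342 F475085
theorem F502344 : act 3 n220143 = n218644 := d0_2 F499236 F502341 F494933 (iv3 D214418) F421858
def n220144 : Q := act 1 n193005
theorem D220144 : act 1 n193005 = n220144 := rfl
theorem F502345 : act 1 n220144 = n206792 := d15_1 D220144 F502250 F502246
theorem F502346 : act 7 n220144 = n212447 := d15_2 (iv0 F454371) D220144 F465830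
theorem F502347 : act 5 n220144 = n205902 := d17_7 F354183 (iv5 F223102) (iv1 F354196) (iv5 D129570) D129569 F388501 D220144 (iv0 F442940) F442939
theorem F502348 : act 4 n220144 = n199057 := d17_9 F410497 F424034 (iv1 F452561) (iv5 D209170) (iv4 F396506) (iv5 F442198) F442195 F388501 D220144
theorem F502349 : act 3 n210279 = n220144 := d19_19 (iv1 D220144) (iv5 F388501) (iv4 D129569) (iv3 F354209) F139278 (iv5 D64534) F48811 (iv3 D14433) D14431 (iv5 F48746) (iv4 F98531) (iv3 F216737) F362704 (iv5 F347031) D209640 F454438 (iv1 D202457) (iv5 F224932) (iv4 F456843)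
theorem F502350 : act 6 n199056 = n220144 := d21_3 D207662 (iv1 F454720) F454719 (iv1 D220144) (iv6 D193005) D193004 F388497 F250888 (iv6 F410519) F410520
theorem F502351 : act 2 n220144 = n212446 := d3_1 F502350 (iv6 F465826) F458329
def n220145 : Q := act 4 n193006
theorem D220145 : act 4 n193006 = n220145 := rfl
theorem F502352 : act 2 n220145 = n209610 := d1_1 D220145 (iv4 F489576) F489575
theorem F502353 : act 6 n220145 = n207713 := d10_2 (iv6 F444228) D220145 F446120
theorem F502354 : act 0 n220145 = n206719 := d17_0 (iv5 D206719) F361156 D129476 (iv4 F373163) (iv5 D188354) D188352 (iv5 F491243) F491241 D220145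
theorem F502355 : act 1 n220145 = n206915 := d18_6 (iv1 F449910) (iv4 D208564) (iv1 F216766) D198327 (iv5 F424022) D220145 (iv4 F483912) F483915 F454377
def n220146 : Q := act 6 n193012
theorem D220146 : act 6 n193012 = n220146 := rfl
theorem F502356 : act 2 n220146 = n196309 := d3_1 D220146 (iv6 F421825) (iv2 F421826)
theorem F502357 : act 4 n220146 = n196305 := d10_1 D220146 F440408 F440406
theorem F502358 : act 1 n211024 = n220146 := d17_8 (iv1 F406024) (iv5 D197850) (iv1 D108710) (iv5 F164789) D196362 F442866 F456847 (iv5 F459783) F502357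
def n220147 : Q := act 0 n193013
theorem D220147 : act 0 n193013 = n220147 := rfl
theorem F502359 : act 5 n220147 = n206817 := d17_1 D220147 (iv1 F446806) (iv5 F446804) (iv4 F453754) F453755 F456042 (iv5 F456047) F456046 (iv4 F388519)
theorem F502360 : act 4 n220147 = n203581 := d18_3 (iv1 D193015) (iv4 F388519) D220147 (iv5 D203581) F188637 (iv0 F103906) (iv4 F328581) (iv0 F337902) (iv5 F388520)
theorem F502361 : act 2 n201729 = n220147 := d15_3 (iv0 D220147) (iv0 F442397) (iv7 F421590)
theorem F502362 : act 6 n220147 = n201164 := d3_2 F421604 F502361 (iv2 F421608)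
theorem F502363 : act 0 n220147 = n207800 := d21_10 (iv5 D207800) D207798 F446491 (iv6 F421465) (iv1 F456904) (iv6 F456908) (iv5 F440492) (iv1 F492376) (iv5 F492377) (iv6 F502362)
def n220148 : Q := act 5 n193013
theorem D220148 : act 5 n193013 = n220148 := rfl
theorem F502364 : act 2 n220148 = n207801 := d2_1 D220148 (iv5 F502263) F502260
theorem F502365 : act 4 n220148 = n215052 := d9_1 D220148 (iv5 D215052) (iv4 D165317) (iv5 F308180) (iv4 F426698) (iv5 F501842) F501843 (iv5 D207800) (iv4 F329058) (iv5 D123068) F301406 D181684 (iv4 F368608) F368609 (iv4 F388519)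
theorem F502366 : act 7 n220148 = n206789 := d16_8 (iv4 F329058) (iv5 D123068) F301406 D181684 (iv4 F368608) F368609 (iv4 F388519) D220148 F442189
theorem F502367 : act 0 n220148 = n207799 := d17_2 F442397 D220148 (iv5 F446496) (iv4 F453422) (iv5 F453423) (iv0 F484612) (iv5 D216483) (iv0 F431197) F431196
theorem F502368 : act 1 n220148 = n207798 := d17_6 (iv1 F449778) (iv5 D208537) F368610 F368609 (iv4 F388519) D220148 F446491 F445983 (iv4 F219604)
def n220149 : Q := act 7 n193013
theorem D220149 : act 7 n193013 = n220149 := rfl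
theorem F502369 : act 2 n220149 = n207800 := d4_1 D220149 (iv7 F502264) F502260
theorem F502370 : act 3 n220149 = n201791 := d8_1 D220149 (iv7 F475081) F475079
theorem F502371 : act 4 n220149 = n193016 := d11_1 D220149 (iv7 D193016) (iv4 F388519)
theorem F502372 : act 5 n220149 = n206789 := d13_1 D220149 (iv7 F502366) (iv5 D220148)
theorem F502373 : act 6 n220149 = n206792 := d14_1 D220149 F502250 (iv6 D220125) F388357 D193013
theorem F502374 : act 0 n201729 = n220149 := d21_4 (iv5 F499676) F499675 (iv5 D201806) F421604 F502373 (iv5 D206792) D206790 (iv5 F449213) (iv6 F475089) (iv1 F475093)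
def n220150 : Q := act 4 n193015
theorem D220150 : act 4 n193015 = n220150 := rfl
theorem F502375 : act 2 n220150 = n209358 := d1_1 D220150 F453383 (iv2 F394105)
theorem F502376 : act 5 n220150 = n219702 := d9_2 (iv5 F388520) D220150 (iv4 D219702) (iv5 D192059) (iv4 F385377) F385378 (iv4 F456039) (iv5 F456047) D220049 F501850 F489996 (iv5 D204162) D204161 F431266 F267777
theorem F502377 : act 6 n220150 = n201838 := d10_2 F388521 D220150 F421993
theorem F502378 : act 1 n220150 = n207723 := d18_6 D212011 F463919 (iv1 F338167) F267777 (iv5 F388520) D220150 (iv4 F484614) F484618 (iv5 D212012)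
def n220151 : Q := act 0 n193018
theorem D220151 : act 0 n193018 = n220151 := rfl
theorem F502379 : act 3 n220151 = n210485 := d20_5 (iv4 F396486) F396487 F388532 (iv3 F388528) D220151 (iv4 F484589) F484590 D216486 F484627 (iv1 F446924)
theorem F502380 : act 4 n220151 = n211287 := d20_8 (iv4 D217905) (iv1 F372437) D191988 (iv3 F466736) (iv1 F466739) (iv3 F501500) F501501 D220151 F460969 (iv1 F491193)
theorem F502381 : act 6 n220151 = n211205 := d21_5 F467869 (iv1 F388525) (iv5 D193017) D193018 D220151 (iv5 D211205) (iv1 D141203) D141204 (iv6 F385288) (iv1 F467872)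
theorem F502382 : act 2 n213125 = n220151 := d3_3 F502381 F460599 F469113
theorem F502383 : act 7 n210482 = n220151 := d14_0 F502381 F460601 (iv6 F458499) F450818 D210482
theorem F502384 : act 0 n220151 = n213046 := d21_4 (iv5 F424923) F424924 D211205 (iv6 F502381) F468761 D219571 F499504 (iv5 D217924) F458488 F458486
def n220152 : Q := act 1 n193018
theorem D220152 : act 1 n193018 = n220152 := rfl
theorem F502385 : act 1 n220152 = n213046 := d15_1 D220152 F468762 (iv2 F388527)
theorem F502386 : act 7 n220152 = n213125 := d15_2 (iv0 D220151) D220152 F502382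
theorem F502387 : act 4 n208772 = n220152 := d20_0 (iv1 D220152) (iv4 F501501) F501500 (iv1 D212439) (iv3 F405403) F405404 (iv1 F167929) (iv4 F370499) (iv3 F374173) F450800
theorem F502388 : act 3 n217532 = n220152 := d20_3 (iv4 F464184) (iv1 F464187) D217532 (iv1 D220152) F388528 (iv4 F388532) (iv1 F453316) F453313 (iv3 F454062) (iv1 F454064)
theorem F502389 : act 2 n220152 = n210482 := d0_1 F502388 F457723 (iv2 F385318) F489984 (iv2 F489986)
theorem F502390 : act 6 n208771 = n220152 := d3_0 F502389 (iv6 D210482) (iv2 F450793)
def n220153 : Q := act 5 n193018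
theorem D220153 : act 5 n193018 = n220153 := rfl
theorem F502391 : act 2 n220153 = n213126 := d2_1 D220153 (iv5 D213126) (iv2 F388527)
theorem F502392 : act 3 n220153 = n193023 := d6_1 D220153 (iv5 D193023) (iv3 F388528)
theorem F502393 : act 6 n220153 = n193779 := d12_2 D193018 D220153 (iv5 F456218) F456219 (iv5 D193017)
theorem F502394 : act 0 n220153 = n194117 := d17_2 (iv1 D220152) D220153 (iv5 F469312) F469311 (iv5 F481659) F481661 F392111 (iv0 F450801) F502387
def n220154 : Q := act 7 n193018
theorem D220154 : act 7 n193018 = n220154 := rfl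
theorem F502395 : act 2 n220154 = n213046 := d4_1 D220154 F468762 (iv2 F388527)
theorem F502396 : act 3 n220154 = n193024 := d8_1 D220154 (iv7 D193024) (iv3 F388528)
theorem F502397 : act 6 n220154 = n217920 := d14_1 D220154 F491266 F387261 F385306 D193018
theorem F502398 : act 1 n210482 = n220154 := d15_1 (iv0 F457725) (iv7 D220154) F388527
theorem F502399 : act 1 n220154 = n213125 := d15_1 F502398 (iv7 F502386) F502389
def n220155 : Q := act 6 n193019
theorem D220155 : act 6 n193019 = n220155 := rfl
theorem F502400 : act 2 n220155 = n201742 := d3_1 D220155 (iv6 F490185) F490184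
theorem F502401 : act 3 n220155 = n193021 := d7_1 D220155 (iv6 D193021) D193019
theorem F502402 : act 4 n220155 = n212439 := d10_1 D220155 F501492 F501490
theorem F502403 : act 5 n220155 = n193021 := d12_1 D220155 (iv6 D193021) D193020 F490738 (iv5 F490741)
theorem F502404 : act 7 n220155 = n219611 := d14_2 F501625 D220155 (iv6 D219611) (iv7 F486987) (iv6 F501624)
theorem F502405 : act 0 n218148 = n220155 := d21_4 (iv5 D195281) F207587 D206816 (iv6 F492374) (iv6 D220155) F490741 (iv1 D217809) (iv5 F490732) (iv6 F465671) (iv1 F442312)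
theorem F502406 : act 1 n212395 = n220155 := d15_0 (iv0 F502405) F492375 (iv2 F465652)
def n220156 : Q := act 5 n193022
theorem D220156 : act 5 n193022 = n220156 := rfl
theorem F502407 : act 2 n220156 = n209489 := d2_1 D220156 F453902 F388534
theorem F502408 : act 7 n220156 = n202126 := d13_2 (iv7 F388535) D220156 F422983
theorem F502409 : act 0 n220156 = n201567 := d17_2 D193022 D220156 (iv5 D201567) F178882 D115070 D201809 (iv5 F453314) F453316 F388532
theorem F502410 : act 0 n209487 = n220156 := d21_10 (iv5 D220156) (iv1 F388537) D209486 (iv6 F453899) (iv1 F449837) (iv6 F501896) (iv5 F501898) F455589 D210826 F458933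
def n220157 : Q := act 7 n193023
theorem D220157 : act 7 n193023 = n220157 := rfl
theorem F502411 : act 2 n220157 = n209486 := d4_1 D220157 (iv7 F498478) F498474
theorem F502412 : act 5 n220157 = n193024 := d13_1 D220157 (iv7 D193024) D193023
theorem F502413 : act 6 n220157 = n209217 := d14_1 D220157 F452753 F382900 (iv7 F382899) (iv6 F388538)
theorem F502414 : act 1 n193786 = n220157 := d15_1 (iv0 F498480) (iv7 D220157) (iv2 F498474)
theorem F502415 : act 1 n220157 = n193561 := d15_1 F502414 (iv7 F426872) F426870
def n220158 : Q := act 6 n193026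
theorem D220158 : act 6 n193026 = n220158 := rfl
theorem F502416 : act 2 n220158 = n218260 := d3_1 D220158 (iv6 D218260) F388548
theorem F502417 : act 3 n220158 = n193028 := d7_1 D220158 (iv6 D193028) D193026
theorem F502418 : act 4 n220158 = n201452 := d10_1 D220158 F420555 (iv4 F388546)
theorem F502419 : act 7 n220158 = n201451 := d14_2 (iv7 F388547) D220158 F420552 F179148 (iv6 F251919)
theorem F502420 : act 0 n214458 = n220158 := d18_2 F251130 (iv4 F475261) F502418 F420554 (iv4 F410870) (iv0 F410872) F410634 (iv0 D127814) D127816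
def n220159 : Q := act 6 n193027
theorem D220159 : act 6 n193027 = n220159 := rfl
theorem F502421 : act 2 n220159 = n215244 := d3_1 D220159 (iv6 F479022) (iv2 F475147)
theorem F502422 : act 4 n220159 = n215243 := d10_1 D220159 (iv6 F499945) F499947
def n220160 : Q := act 5 n193028
theorem D220160 : act 5 n193028 = n220160 := rfl
theorem F502423 : act 0 n220160 = n209616 := d17_2 F453071 D220160 (iv5 D209616) (iv4 D136687) D136688 F444333 F444329 F375558 D209292
theorem F502424 : act 1 n220160 = n209625 := d17_6 (iv1 F434957) (iv5 F444227) F444226 F338484 (iv4 F388551) D220160 (iv5 D209625) F442337 F442335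
def n220161 : Q := act 4 n193029
theorem D220161 : act 4 n193029 = n220161 := rfl
theorem F502425 : act 2 n220161 = n208539 := d1_1 D220161 (iv4 D208539) F388553
theorem F502426 : act 6 n220161 = n206887 := d10_2 F453468 D220161 F453471
theorem F502427 : act 5 n220161 = n209612 := d16_1 D220161 (iv4 F492151) (iv5 D218101) (iv4 D188501) F340143 (iv4 F216580) F388556 F388555 F388553
theorem F502428 : act 0 n220161 = n207899 := d18_2 D193029 D220161 F446927 (iv5 F442267) (iv4 D206809) F209390 F384164 (iv0 F411148) F338484
theorem F502429 : act 1 n220161 = n193037 := d18_6 (iv1 F99638) F325106 (iv1 F340132) (iv4 F216533) (iv5 F388552) D220161 F388570 (iv0 D138165) (iv5 D64905)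
def n220162 : Q := act 4 n193030
theorem D220162 : act 4 n193030 = n220162 := rfl
theorem F502430 : act 3 n220162 = n217966 := d5_1 D220162 (iv4 D217966) (iv3 D188221) D188222 (iv3 F388557)
theorem F502431 : act 5 n220162 = n209611 := d9_2 F388556 D220162 (iv4 F492147) (iv5 D218100) (iv4 D188500) F340139 (iv4 F216533) (iv5 F388552) D220161 F502427 (iv4 F492151) (iv5 D218101) (iv4 D188501) F340143 (iv4 F216580)
theorem F502432 : act 7 n220162 = n208539 := d11_2 (iv7 F388555) D220162 (iv4 D208539)
theorem F502433 : act 0 n220162 = n193037 := d18_2 (iv1 F502271) D220162 F388570 (iv5 F333870) F209387 (iv0 F346124) (iv4 F444224) F444298 (iv5 F502269)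
theorem F502434 : act 1 n220162 = n207899 := d18_6 (iv1 D30500) (iv4 F48897) F340130 (iv4 F216580) F388556 D220162 F446927 F221353 (iv5 D64910)
def n220163 : Q := act 1 n193033
theorem D220163 : act 1 n193033 = n220163 := rfl
theorem F502435 : act 1 n220163 = n193036 := d15_1 D220163 (iv7 F484622) F484619
theorem F502436 : act 7 n220163 = n206845 := d15_2 (iv0 F388562) D220163 F442382
theorem F502437 : act 5 n220163 = n194679 := d17_7 D183975 F343915 (iv1 F375571) (iv5 F375574) (iv4 F285877) D193033 D220163 F394069 F362693
theorem F502438 : act 3 n207881 = n220163 := d20_3 (iv4 D220008) F429754 (iv4 F446863) (iv1 D220163) (iv3 F502274) F502273 (iv1 D217524) F421844 (iv3 F493660) (iv1 F501626)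
theorem F502439 : act 2 n220163 = n206923 := d0_1 F502438 F442620 F212710 (iv3 F212774) (iv2 F446862)
theorem F502440 : act 6 n220163 = n207859 := d7_2 D207881 F502438 F446756
def n220164 : Q := act 6 n193035
theorem D220164 : act 6 n193035 = n220164 := rfl
theorem F502441 : act 3 n220164 = n193037 := d7_1 D220164 (iv6 D193037) D193035
def n220165 : Q := act 6 n193036
theorem D220165 : act 6 n193036 = n220165 := rfl
theorem F502442 : act 3 n220165 = n217833 := d7_1 D220165 (iv6 D217833) (iv3 F388568)
def n220166 : Q := act 5 n193037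
theorem D220166 : act 5 n193037 = n220166 := rfl
theorem F502443 : act 2 n220166 = n215064 := d2_1 D220166 F484649 F484645
theorem F502444 : act 4 n220166 = n215062 := d9_1 D220166 (iv5 D215062) (iv4 D165877) (iv5 F323631) D206809 F442267 (iv4 F446927) (iv5 F492125) (iv4 D218093) (iv5 D188484) F141775 F323398 (iv4 F209387) F333870 (iv4 F388570)
def n220167 : Q := act 7 n193037
theorem D220167 : act 7 n193037 = n220167 := rfl
theorem F502445 : act 2 n220167 = n207899 := d4_1 D220167 (iv7 F484648) F484645
theorem F502446 : act 4 n220167 = n206810 := d11_1 D220167 F442270 (iv4 F388570)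
theorem F502447 : act 6 n220167 = n207864 := d14_1 D220167 F446787 (iv6 F441480) F285874 D193037
theorem F502448 : act 0 n208539 = n220167 := d18_2 F388390 D208539 F502446 (iv5 D206810) (iv4 D129378) D129376 D206808 F442265 (iv5 F388389)
def n220168 : Q := act 0 n193038
theorem D220168 : act 0 n193038 = n220168 := rfl
theorem F502449 : act 5 n220168 = n195876 := d17_1 D220168 (iv1 F475307) (iv5 D214467) F387665 (iv5 D192752) (iv0 D100589) (iv5 F293363) (iv0 F365814) (iv4 F388571)
theorem F502450 : act 4 n220168 = n193086 := d18_1 D220168 (iv1 F388717) D193092 F501627 (iv4 D220008) D220007 F501621 (iv0 F446895) F388573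
theorem F502451 : act 3 n220168 = n212388 := d20_5 (iv4 D76237) (iv1 F83221) D114095 (iv3 F388572) D220168 F465626 D212438 (iv4 F465799) (iv3 D206376) (iv1 F206681)
theorem F502452 : act 2 n193042 = n220168 := d15_3 (iv0 D220168) (iv0 D193038) D193042
theorem F502453 : act 1 n193039 = n220168 := d15_0 (iv0 D220168) (iv7 F420081) (iv2 F420085)
theorem F502454 : act 7 n220168 = n193040 := d15_2 D193039 F502453 (iv2 D193040)
theorem F502455 : act 6 n212387 = n220168 := d14_5 F502454 F388576 D197681 (iv6 F466720) F466721
def n220169 : Q := act 6 n193041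
theorem D220169 : act 6 n193041 = n220169 := rfl
theorem F502456 : act 3 n220169 = n193046 := d7_1 D220169 (iv6 D193046) (iv3 F388577)
theorem F502457 : act 5 n220169 = n218207 := d12_1 D220169 F492723 F443010 F388470 D193041
def n220170 : Q := act 6 n193042
theorem D220170 : act 6 n193042 = n220170 := rfl
theorem F502458 : act 2 n220170 = n212387 := d3_1 D220170 F502455 (iv2 F502452)
theorem F502459 : act 3 n220170 = n193048 := d7_1 D220170 (iv6 D193048) (iv3 F388578)
theorem F502460 : act 4 n220170 = n193097 := d10_1 D220170 (iv6 D193097) (iv4 F388579)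
theorem F502461 : act 5 n220170 = n210203 := d12_1 D220170 F456552 (iv5 F450343) F475315 F475318
def n220171 : Q := act 3 n193043
theorem D220171 : act 3 n193043 = n220171 := rfl
theorem F502462 : act 2 n220171 = n206912 := d0_1 D220171 (iv3 F442585) (iv2 F475048) F475044 F442602
theorem F502463 : act 4 n220171 = n219594 := d5_2 F491918 D220171 F499612 (iv4 F470410) (iv3 F491920)
theorem F502464 : act 7 n220171 = n206911 := d8_2 F442612 D220171 F445857
theorem F502465 : act 0 n220171 = n206905 := d20_4 D201798 (iv1 F491915) F491918 D220171 F442564 F421823 (iv1 D198181) (iv4 F407123) F421822 (iv1 D201797)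
theorem F502466 : act 0 n206914 = n220171 := d20_4 (iv4 D101088) D101086 F362667 (iv3 F442594) (iv3 D220171) (iv4 F491918) (iv1 D218053) (iv4 F448917) F448916 F338291
def n220172 : Q := act 6 n193043
theorem D220172 : act 6 n193043 = n220172 := rfl
theorem F502467 : act 2 n220172 = n207893 := d3_1 D220172 (iv6 F446910) F442602
theorem F502468 : act 5 n220172 = n206717 := d12_1 D220172 F441957 D206915 (iv6 F442598) (iv5 F442375)
theorem F502469 : act 0 n220172 = n207883 := d21_4 (iv5 D206845) D206843 (iv5 F442375) D220172 (iv6 F446872) (iv5 F446874) F446920 F388573 (iv6 F484621) F484624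
theorem F502470 : act 0 n207895 = n220172 := d21_4 (iv5 D206830) (iv1 F211738) D207645 (iv6 F446916) (iv6 D220172) F442375 (iv1 F442372) (iv5 F442621) F442622 (iv1 F442341)
theorem F502471 : act 7 n220172 = n206716 := d15_2 (iv0 F446871) (iv0 F502469) (iv2 F446584)
def n220173 : Q := act 6 n193044
theorem D220173 : act 6 n193044 = n220173 := rfl
theorem F502472 : act 3 n220173 = n201315 := d7_1 D220173 F419987 F388580
theorem F502473 : act 4 n220173 = n201318 := d10_1 D220173 F420000 F401136
def n220174 : Q := act 6 n193045
theorem D220174 : act 6 n193045 = n220174 := rfl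
theorem F502474 : act 2 n220174 = n220051 := d3_1 D220174 F501861 F493537
theorem F502475 : act 3 n220174 = n198768 := d7_1 D220174 (iv6 F458617) F458615
theorem F502476 : act 4 n220174 = n193046 := d10_1 D220174 (iv6 D193046) D193045
theorem F502477 : act 5 n220174 = n193905 := d12_1 D220174 F391360 (iv5 F222653) D210643 (iv5 F458311)
theorem F502478 : act 7 n220174 = n208355 := d14_2 (iv7 F458608) D220174 (iv6 D208355) (iv7 F222792) D210728
theorem F502479 : act 0 n220174 = n197741 := d21_4 (iv5 D219667) F458310 (iv5 F458311) D220174 (iv6 D197741) (iv5 D108629) D108626 F330527 (iv6 F442618) (iv1 F499948)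
theorem F502480 : act 0 n193858 = n220174 := d21_4 (iv5 F370765) F439856 (iv5 F501762) (iv6 F501768) (iv6 D220174) F458311 (iv1 F458313) D219669 F499961 F420146
def n220175 : Q := act 4 n193056
theorem D220175 : act 4 n193056 = n220175 := rfl
theorem F502481 : act 2 n220175 = n220024 := d1_1 D220175 F501713 (iv2 F500033)
theorem F502482 : act 7 n220175 = n214288 := d11_2 F496664 D220175 (iv4 F496663)
theorem F502483 : act 0 n220175 = n193060 := d18_2 F491781 D220175 F388621 F384958 D217323 (iv0 F488426) F488003 F486284 (iv5 F491779)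
theorem F502484 : act 0 n220026 = n220175 := d20_10 (iv4 D220175) (iv1 D193056) (iv4 F387457) F387456 (iv1 F363337) (iv3 F482817) F482818 F420544 D209022 (iv3 F501718)
def n220176 : Q := act 5 n193060
theorem D220176 : act 5 n193060 = n220176 := rfl
theorem F502485 : act 2 n220176 = n220025 := d2_1 D220176 (iv5 D220025) (iv2 F388620)
theorem F502486 : act 3 n220176 = n217156 := d6_1 D220176 (iv5 F501879) F501877
theorem F502487 : act 6 n220176 = n211434 := d12_2 D193060 D220176 (iv5 F461518) (iv6 D210722) (iv5 F357938)
theorem F502488 : act 4 n220176 = n193706 := d16_2 (iv4 F388621) D220176 (iv5 D193706) (iv4 F390724) (iv5 F488414) (iv4 D217321) (iv5 F387449) (iv7 D192675) (iv2 F384957)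
theorem F502489 : act 0 n220176 = n217784 := d17_2 F502483 D220176 (iv5 D217784) F371835 F293924 (iv0 F388610) (iv5 D193057) D193056 D220175
def n220177 : Q := act 7 n193060
theorem D220177 : act 7 n193060 = n220177 := rfl
theorem F502490 : act 2 n220177 = n220026 := d4_1 D220177 (iv7 D220026) (iv2 F388620)
theorem F502491 : act 4 n220177 = n219663 := d11_1 D220177 (iv7 D219663) (iv4 F388621)
theorem F502492 : act 6 n220177 = n220029 := d14_1 D220177 (iv7 D220029) (iv6 D192678) (iv7 F272734) D193060
theorem F502493 : act 1 n220024 = n220177 := d15_1 D220024 (iv7 D220177) F388620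
theorem F502494 : act 1 n220177 = n214288 := d15_1 F502493 (iv7 F502482) F502481
def n220178 : Q := act 6 n193063
theorem D220178 : act 6 n193063 = n220178 := rfl
theorem F502495 : act 2 n220178 = n197675 := d3_1 D220178 (iv6 D197675) (iv2 F388633)
theorem F502496 : act 4 n220178 = n207931 := d10_1 D220178 F449204 F449194
def n220179 : Q := act 4 n193066
theorem D220179 : act 4 n193066 = n220179 := rfl
theorem F502497 : act 2 n220179 = n217584 := d1_1 D220179 (iv4 F500014) (iv2 F500016)
theorem F502498 : act 3 n220179 = n208682 := d5_1 D220179 F450435 F409112 (iv4 D193067) D193066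
theorem F502499 : act 6 n220179 = n208681 := d10_2 (iv6 F489735) D220179 F489734
theorem F502500 : act 7 n220179 = n215217 := d11_2 F500019 D220179 (iv4 F500020)
theorem F502501 : act 0 n220179 = n217581 := d18_2 F489989 D220179 F489616 F484733 (iv4 D193792) F372801 (iv4 F480582) (iv0 F480586) (iv5 F489991)
theorem F502502 : act 1 n220179 = n217585 := d18_8 (iv1 F488030) F368878 D187705 D217655 (iv5 F489960) (iv4 F500025) F500029 D220179 F489638
def n220180 : Q := act 5 n193066
theorem D220180 : act 5 n193066 = n220180 := rfl
theorem F502503 : act 3 n220180 = n193068 := d6_1 D220180 (iv5 D193068) D193066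
theorem F502504 : act 6 n220180 = n219372 := d12_2 (iv6 F489735) D220180 F498535 (iv6 F387204) D217601
theorem F502505 : act 4 n220180 = n217976 := d17_4 F390936 (iv5 F489991) F489989 D220180 F491515 F487492 F373179 (iv0 D102331) (iv4 F157146)
theorem F502506 : act 1 n220180 = n218154 := d17_8 (iv1 F492386) F492388 (iv1 D191825) F370445 (iv4 F391007) (iv5 F500026) F500029 D220180 (iv4 D218154)
theorem F502507 : act 1 n218152 = n220180 := d15_0 F502506 F492407 (iv2 F492397)
def n220181 : Q := act 3 n193069
theorem D220181 : act 3 n193069 = n220181 := rfl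
theorem F502508 : act 4 n220181 = n206923 := d5_2 D193069 D220181 F442620 F212711 (iv3 F361946)
theorem F502509 : act 5 n220181 = n206357 := d6_2 F463387 D220181 (iv3 F463389)
theorem F502510 : act 6 n220181 = n207861 := d7_2 (iv6 F388653) D220181 F446769
theorem F502511 : act 7 n220181 = n206922 := d8_2 (iv7 F388654) D220181 F442617
theorem F502512 : act 0 n220181 = n193090 := d19_4 F471438 (iv5 D193070) D193069 D220181 (iv5 F388721) (iv4 F323743) (iv3 D140093) (iv1 F323740) (iv5 F349194) F143083 (iv3 F143073) F157718 D193117 (iv4 F432772) (iv3 F454198) (iv1 F454201) (iv5 F471463) (iv4 F491884) F491882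
theorem F502513 : act 0 n215245 = n220181 := d20_4 F164796 D106929 F343156 (iv3 F479018) (iv3 D220181) (iv4 D193069) (iv1 D101156) (iv4 F154651) F345217 (iv1 F345205)
def n220182 : Q := act 0 n193075
theorem D220182 : act 0 n193075 = n220182 := rfl
theorem F502514 : act 5 n220182 = n217572 := d17_1 D220182 (iv1 F489557) D218048 F491884 F471463 F454201 (iv5 F471244) (iv0 F484996) F484995
theorem F502515 : act 6 n220182 = n213610 := d21_5 D216435 F484359 (iv5 F485213) F485214 D220182 F471284 (iv1 F430357) F354925 F310353 D183781
theorem F502516 : act 2 n220046 = n220182 := d15_3 (iv0 D220182) (iv0 F471245) (iv7 F501833)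
theorem F502517 : act 1 n216570 = n220182 := d15_0 (iv0 D220182) F391153 (iv2 F484992)
theorem F502518 : act 7 n220182 = n215565 := d15_2 (iv0 F484996) F502517 F480528
def n220183 : Q := act 3 n193077
theorem D220183 : act 3 n193077 = n220183 := rfl
theorem F502519 : act 2 n220183 = n203156 := d0_1 D220183 F427207 F372540 D191770 F388677
theorem F502520 : act 5 n220183 = n208356 := d6_2 (iv5 F450152) D220183 (iv3 F450148)
theorem F502521 : act 7 n220183 = n219573 := d8_2 F499370 D220183 F499511
theorem F502522 : act 0 n220183 = n219572 := d20_4 F484634 (iv1 D210259) F450153 D220183 (iv3 F499507) F487390 (iv1 F379963) F372731 (iv3 F456639) (iv1 F484638)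
theorem F502523 : act 0 n203473 = n220183 := d20_4 (iv4 F449455) (iv1 F449457) F424155 (iv3 F428447) (iv3 D220183) (iv4 F450153) (iv1 F449442) (iv4 F498900) F498899 F406292
theorem F502524 : act 6 n220183 = n203151 := d21_5 (iv5 F463311) F463313 F394014 D203473 F502523 (iv5 D203151) (iv1 F184565) D148524 F353538 D152399
def n220184 : Q := act 6 n193077
theorem D220184 : act 6 n193077 = n220184 := rfl
theorem F502525 : act 2 n220184 = n214530 := d3_1 D220184 F475651 F388677
theorem F502526 : act 3 n220184 = n203151 := d7_1 D220184 (iv6 F502524) (iv3 D220183)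
theorem F502527 : act 4 n220184 = n210260 := d10_1 D220184 (iv6 D210260) F450153
theorem F502528 : act 5 n220184 = n203150 := d12_1 D220184 F427178 (iv5 F347361) D208611 (iv5 F450152)
theorem F502529 : act 0 n220184 = n204394 := d21_4 (iv5 D219050) (iv1 F450151) (iv5 F450152) D220184 (iv6 F491904) F491903 F391820 D210039 F455875 (iv1 F496905)
theorem F502530 : act 0 n210477 = n220184 := d21_4 F433054 (iv1 F329270) F329273 D210477 (iv6 D220184) F450152 F450150 (iv5 F483073) (iv6 D216123) (iv1 F433056)
theorem F502531 : act 7 n212630 = n220184 := d13_0 F502528 F427179 D212630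
def n220185 : Q := act 6 n193078
theorem D220185 : act 6 n193078 = n220185 := rfl
theorem F502532 : act 3 n220185 = n217921 := d7_1 D220185 (iv6 D217921) F388675
theorem F502533 : act 4 n220185 = n210264 := d10_1 D220185 (iv6 D210264) F449441
theorem F502534 : act 5 n220185 = n213413 := d12_1 D220185 (iv6 F472020) F472021 F487538 F487532
theorem F502535 : act 0 n204402 = n220185 := d21_4 (iv5 F316793) (iv1 D123747) D123750 D204402 (iv6 D220185) (iv5 F487532) (iv1 F487536) D219050 F496901 F385165
def n220186 : Q := act 4 n193089
theorem D220186 : act 4 n193089 = n220186 := rfl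
theorem F502536 : act 2 n220186 = n217760 := d1_1 D220186 (iv4 D217760) F420149
theorem F502537 : act 7 n220186 = n217759 := d11_2 (iv7 F420153) D220186 (iv4 D217759)
theorem F502538 : act 5 n220186 = n219428 := d16_1 D220186 F501632 (iv5 D220009) D220008 (iv5 F501627) (iv4 D193092) D193093 (iv7 F420151) F420149
theorem F502539 : act 0 n220186 = n208903 := d17_0 F491570 (iv1 D217988) (iv5 D188267) (iv4 F372895) F372896 D198181 F429732 F420155 D220186
theorem F502540 : act 1 n220186 = n209466 := d18_6 F370792 D217553 F489460 (iv4 D193088) D193089 D220186 F453798 (iv0 F394084) (iv5 F178319)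
def n220187 : Q := act 6 n193091
theorem D220187 : act 6 n193091 = n220187 := rfl
theorem F502541 : act 2 n220187 = n193094 := d3_1 D220187 (iv6 D193094) (iv2 F388722)
theorem F502542 : act 3 n220187 = n215249 := d7_1 D220187 F479041 F420138
theorem F502543 : act 5 n220187 = n198096 := d12_1 D220187 (iv6 D198096) D198095 F420159 F420157
theorem F502544 : act 7 n220187 = n215243 := d14_2 D193091 D220187 (iv6 F499945) F499946 (iv6 D193090)
theorem F502545 : act 1 n198192 = n220187 := d15_1 (iv0 F407176) F502544 F479017
theorem F502546 : act 1 n220187 = n214287 := d15_1 F502545 (iv7 F482872) F482869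
def n220188 : Q := act 6 n193092
theorem D220188 : act 6 n193092 = n220188 := rfl
theorem F502547 : act 3 n220188 = n215244 := d7_1 D220188 (iv6 F479022) (iv3 F475146)
theorem F502548 : act 4 n220188 = n193094 := d10_1 D220188 (iv6 D193094) D193092
theorem F502549 : act 7 n220188 = n215244 := d14_2 F490736 D220188 (iv6 F479022) F475144 F490738
def n220189 : Q := act 6 n193104
theorem D220189 : act 6 n193104 = n220189 := rfl
theorem F502550 : act 2 n220189 = n193157 := d3_1 D220189 (iv6 D193157) (iv2 F388764)
theorem F502551 : act 3 n220189 = n193279 := d7_1 D220189 (iv6 D193279) (iv3 F388765)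
theorem F502552 : act 5 n220189 = n216179 := d12_1 D220189 (iv6 D216179) (iv5 D182151) D182152 F388763
theorem F502553 : act 7 n220189 = n209209 := d14_2 (iv7 F388762) D220189 F453438 F389357 (iv6 D193256)
theorem F502554 : act 0 n220189 = n209208 := d21_4 (iv5 F377058) (iv1 F377062) F388763 D220189 (iv6 D209208) (iv5 F330974) F330971 (iv5 F220821) (iv6 F345452) F365614
theorem F502555 : act 1 n220189 = n193668 := d15_1 (iv0 F502554) F390633 (iv2 F452721)
def n220190 : Q := act 5 n193105
theorem D220190 : act 5 n193105 = n220190 := rfl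
theorem F502556 : act 2 n220190 = n214188 := d2_1 D220190 (iv5 D214188) (iv2 F388766)
theorem F502557 : act 4 n220190 = n206708 := d9_1 D220190 (iv5 D206708) (iv4 F213985) F363895 (iv4 D101368) D101369 D193222 (iv5 F401663) F401662 (iv5 F442774) F442773 F233465 F138848 D101188 D193105
theorem F502558 : act 6 n220190 = n206709 := d12_2 F455657 D220190 F441932 (iv6 F476304) F476303
theorem F502559 : act 7 n220190 = n220044 := d13_2 F470309 D220190 F501823
theorem F502560 : act 1 n220190 = n199241 := d17_6 (iv1 F362208) F362209 (iv1 D101187) D101188 D193105 D220190 (iv5 D199241) F371286 F165308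
def n220191 : Q := act 4 n193109
theorem D220191 : act 4 n193109 = n220191 := rfl
theorem F502561 : act 2 n220191 = n202176 := d1_1 D220191 (iv4 F430739) F430735
theorem F502562 : act 7 n220191 = n215942 := d11_2 F430743 D220191 F482190
theorem F502563 : act 1 n220191 = n211683 := d18_6 (iv1 F351947) (iv4 F351953) F351950 (iv4 F316141) D193109 D220191 (iv4 F474876) F474875 (iv5 D191907)
theorem F502564 : act 3 n220191 = n202256 := d19_3 D101192 D193109 D220191 F500499 F460028 (iv4 F459658) F459657 (iv1 F444929) F444925 F401796 F331759 F306633 (iv5 F307393) F92128 (iv3 F92092) (iv1 F92096) (iv5 F52925) F303694 (iv3 F74375)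
theorem F502565 : act 6 n202254 = n220191 := d7_0 F502564 (iv6 D202256) D202254
def n220192 : Q := act 6 n193109
theorem D220192 : act 6 n193109 = n220192 := rfl
theorem F502566 : act 2 n220192 = n199027 := d3_1 D220192 F430740 F430735
theorem F502567 : act 3 n220192 = n199225 := d7_1 D220192 F411233 (iv3 F388783)
theorem F502568 : act 4 n220192 = n202254 := d10_1 D220192 F502565 (iv4 D220191)
theorem F502569 : act 5 n220192 = n208920 := d12_1 D220192 (iv6 D208920) (iv5 D135394) (iv6 F316142) D193109
theorem F502570 : act 0 n220192 = n199030 := d21_4 (iv5 D101194) D101192 D193109 D220192 F410386 (iv5 D134951) D134949 D208713 F450534 (iv1 D193114)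
theorem F502571 : act 0 n199024 = n220192 := d21_4 D139981 (iv1 F410372) (iv5 D199023) D199024 (iv6 D220192) (iv5 D193109) (iv1 F195779) (iv5 F339891) (iv6 D110849) F101434
theorem F502572 : act 7 n220192 = n199028 := d15_2 (iv0 F425096) (iv0 F502570) (iv2 F425097)
def n220193 : Q := act 4 n193111
theorem D220193 : act 4 n193111 = n220193 := rfl
theorem F502573 : act 2 n220193 = n215942 := d1_1 D220193 F482190 F430741
theorem F502574 : act 3 n220193 = n201899 := d5_1 D220193 (iv4 F457470) F457469 (iv4 F457479) F457478
theorem F502575 : act 6 n220193 = n214167 := d10_2 F457476 D220193 (iv4 F473811)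
theorem F502576 : act 7 n220193 = n202176 := d11_2 F430736 D220193 (iv4 F430739)
theorem F502577 : act 0 n220193 = n211683 := d18_2 F431209 D220193 (iv4 F474876) (iv5 D214379) (iv4 D159287) (iv0 F330177) F197267 (iv0 F351768) D204150
def n220194 : Q := act 5 n193115
theorem D220194 : act 5 n193115 = n220194 := rfl
theorem F502578 : act 2 n220194 = n214046 := d2_1 D220194 (iv5 D214046) (iv2 F388798)
theorem F502579 : act 3 n220194 = n201960 := d6_1 D220194 (iv5 D201960) F388803
theorem F502580 : act 4 n220194 = n215532 := d9_1 D220194 (iv5 D215532) (iv4 D174885) (iv5 F300634) F253925 (iv5 F339891) (iv4 F222798) D210733 F458634 (iv5 D199926) (iv4 F175084) (iv5 F340647) F155901 D101194 D193115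
theorem F502581 : act 7 n220194 = n202406 := d13_2 (iv7 F388802) D220194 (iv5 D202406)
theorem F502582 : act 0 n220194 = n219838 := d17_2 (iv1 F388801) D220194 (iv5 D219838) (iv4 D192332) (iv5 D100091) (iv0 F357452) D192235 F473240 F473238
theorem F502583 : act 6 n210742 = n220194 := d21_5 F180012 (iv1 D65536) D65538 D139640 D210742 (iv5 D220194) F388800 F245548 (iv6 D115652) D115649
theorem F502584 : act 7 n214072 = n210742 := d14_0 F502583 F502581 F423886 (iv7 F416056) D214072
def n220195 : Q := act 5 n193118
theorem D220195 : act 5 n193118 = n220195 := rfl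
theorem F502585 : act 2 n220195 = n213201 := d2_1 D220195 F469422 (iv2 F426999)
theorem F502586 : act 4 n220195 = n213760 := d16_2 D193118 D220195 (iv5 D213760) (iv4 F370618) (iv5 D187504) F138871 D101200 F349186 F349189
theorem F502587 : act 0 n220195 = n216770 := d17_2 (iv1 F429073) D220195 (iv5 F491020) (iv4 D217870) (iv5 D188081) F139731 D100145 F372276 (iv4 F429070)
theorem F502588 : act 6 n213761 = n220195 := d10_0 F502586 F471967 D213761
def n220196 : Q := act 6 n193118
theorem D220196 : act 6 n193118 = n220196 := rfl
theorem F502589 : act 2 n220196 = n202204 := d3_1 D220196 (iv6 F426995) (iv2 F426999)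
theorem F502590 : act 3 n220196 = n196319 := d7_1 D220196 (iv6 F429090) F429088
theorem F502591 : act 4 n220196 = n193119 := d10_1 D220196 (iv6 D193119) D193118
theorem F502592 : act 0 n196658 = n220196 := d21_4 (iv5 D196661) (iv1 D107182) D107183 (iv6 F401379) (iv6 D220196) D220195 F502587 (iv5 F491020) F491018 (iv1 F422694)
theorem F502593 : act 5 n220196 = n205821 := d17_3 (iv1 F326819) D196658 F502592 (iv4 D205821) F220092 (iv0 D126838) (iv5 D59520) D59518 D126833
theorem F502594 : act 1 n202218 = n220196 := d15_0 (iv0 F502592) (iv7 F501051) F501048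
theorem F502595 : act 7 n220196 = n202217 := d15_2 F423283 F502594 F423278
def n220197 : Q := act 5 n193120
theorem D220197 : act 5 n193120 = n220197 := rfl
theorem F502596 : act 2 n220197 = n218435 := d2_1 D220197 F493876 F467783
theorem F502597 : act 3 n220197 = n193122 := d6_1 D220197 (iv5 D193122) (iv3 F388815)
theorem F502598 : act 7 n220197 = n216182 := d13_2 (iv7 F388817) D220197 F483302
theorem F502599 : act 0 n220197 = n214541 := d17_2 F388818 D220197 (iv5 D214541) (iv4 D159751) D159752 F283737 F283734 (iv0 F288150) (iv4 F285527)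
theorem F502600 : act 1 n220197 = n213382 := d17_6 F337229 D90129 D187432 F371141 (iv4 F388816) D220197 F470161 F355771 F241322
def n220198 : Q := act 5 n193121
theorem D220198 : act 5 n193121 = n220198 := rfl
theorem F502601 : act 2 n220198 = n216181 := d2_1 D220198 (iv5 F493571) F493569
theorem F502602 : act 6 n220198 = n193122 := d12_2 D193121 D220198 (iv5 D193122) (iv6 D101201) D101200
theorem F502603 : act 0 n220198 = n218386 := d21_1 D220198 F493631 (iv6 D208330) (iv1 F448614) F448619 F388790 F345824 D123303 D204268 F431767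
def n220199 : Q := act 4 n193122
theorem D220199 : act 4 n193122 = n220199 := rfl
theorem F502604 : act 2 n220199 = n216180 := d1_1 D220199 (iv4 D216180) (iv2 F388819)
theorem F502605 : act 7 n220199 = n216183 := d11_2 (iv7 F388820) D220199 (iv4 D216183)
theorem F502606 : act 5 n220199 = n213814 := d16_1 D220199 (iv4 D213814) (iv5 F429193) F429192 (iv5 F475637) F475638 (iv5 F483164) F483167 (iv2 F388819)
def n220200 : Q := act 3 n193123
theorem D220200 : act 3 n193123 = n220200 := rfl
theorem F502607 : act 2 n220200 = n196524 := d0_1 D220200 (iv3 F400962) F206485 D152789 (iv2 F388823)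
theorem F502608 : act 4 n220200 = n206344 := d5_2 D193123 D220200 (iv3 F455650) F455651 (iv3 F363688)
theorem F502609 : act 6 n220200 = n215246 := d7_2 F455646 D220200 F479024
theorem F502610 : act 7 n220200 = n196523 := d8_2 F493574 D220200 (iv3 F493577)
theorem F502611 : act 0 n220200 = n196518 := d19_4 F375541 F375539 D193123 D220200 (iv5 F433025) F433024 (iv3 F433005) F491460 (iv5 D217965) F372701 (iv3 D104192) (iv1 D48212) (iv5 D23348) F17822 (iv3 F17817) (iv1 F66030) D42474 F294635 D93084
theorem F502612 : act 0 n196526 = n220200 := d20_4 (iv4 D53224) (iv1 F78198) (iv4 F165013) (iv3 F400968) (iv3 D220200) (iv4 D193123) (iv1 F363690) (iv4 F386739) (iv3 F386743) F176283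
theorem F502613 : act 5 n213970 = n220200 := d21_0 F502611 (iv5 F433025) (iv6 D204612) F198433 (iv6 F431125) (iv5 F472915) (iv1 D213966) (iv5 F432727) (iv6 F432730) D213970
theorem F502614 : act 6 n215865 = n213970 := d21_5 D204238 (iv1 F432982) (iv5 D204599) D204600 F481853 F502613 F502611 (iv5 F433025) (iv6 D204612) F198433
theorem F502615 : act 4 n213970 = n215866 := d10_1 F502614 (iv6 D215866) D215865
def n220201 : Q := act 5 n193123
theorem D220201 : act 5 n193123 = n220201 := rfl
theorem F502616 : act 2 n220201 = n203619 := d2_1 D220201 F429104 (iv2 F388823)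
theorem F502617 : act 3 n220201 = n213970 := d6_1 D220201 F502613 (iv3 D220200)
theorem F502618 : act 6 n220201 = n202065 := d12_2 F455646 D220201 (iv5 D202065) D202066 (iv5 F455648)
theorem F502619 : act 0 n220201 = n219884 := d17_2 F489970 D220201 (iv5 D219884) (iv4 D192396) (iv5 F362390) F375484 F375480 F371257 D217658
theorem F502620 : act 1 n220201 = n219882 := d17_6 F349191 (iv5 F294633) F375541 F375539 D193123 D220201 (iv5 D219882) F426998 F426994
def n220202 : Q := act 5 n193124
theorem D220202 : act 5 n193124 = n220202 := rfl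
theorem F502621 : act 3 n220202 = n195598 := d6_1 D220202 (iv5 D195598) (iv3 F388824)
theorem F502622 : act 7 n220202 = n203619 := d13_2 (iv7 F388825) D220202 F429104
theorem F502623 : act 0 n220202 = n219882 := d17_2 F491021 D220202 (iv5 D219882) (iv4 D192394) F367144 (iv0 D100375) (iv5 F292909) (iv0 F372268) D217870
theorem F502624 : act 1 n220202 = n219884 := d17_6 (iv1 F375997) (iv5 F387807) (iv1 F387809) F375586 D193124 D220202 (iv5 D219884) F429080 F429077
def n220203 : Q := act 6 n193124
theorem D220203 : act 6 n193124 = n220203 := rfl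
theorem F502625 : act 2 n220203 = n210126 := d3_1 D220203 F493578 F493573
theorem F502626 : act 3 n220203 = n195597 := d7_1 D220203 F397527 (iv3 F388824)
theorem F502627 : act 4 n220203 = n193125 := d10_1 D220203 (iv6 D193125) D193124
theorem F502628 : act 0 n215922 = n220203 := d21_4 F274392 F274390 D178653 D215922 (iv6 D220203) D220202 F502623 (iv5 D219882) F386633 (iv1 F318412)
theorem F502629 : act 7 n213161 = n220203 := d11_0 F502627 (iv7 F457196) (iv4 F469278)
theorem F502630 : act 0 n220203 = n219801 := d20_1 (iv4 F502627) F500686 F499857 F488286 F388317 (iv4 F215965) (iv1 D134019) (iv4 F215957) (iv3 F448620) F448622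
def n220204 : Q := act 5 n193126
theorem D220204 : act 5 n193126 = n220204 := rfl
theorem F502631 : act 2 n220204 = n219651 := d2_1 D220204 (iv5 D219651) F388830
theorem F502632 : act 3 n220204 = n214008 := d6_1 D220204 (iv5 F473092) (iv3 F468815)
theorem F502633 : act 4 n220204 = n216717 := d9_1 D220204 F485602 F387601 F154815 (iv4 F143503) F292681 D100190 D192449 (iv4 F454060) (iv5 D209531) F367393 (iv5 D100702) (iv4 F154387) (iv5 F384840) (iv4 F388829)
theorem F502634 : act 7 n220204 = n219923 := d13_2 (iv7 F388828) D220204 (iv5 D219923)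
theorem F502635 : act 0 n220204 = n214034 := d17_2 (iv1 F388827) D220204 (iv5 D214034) (iv4 F359967) (iv5 F294633) D189050 F375586 F339895 (iv4 F386739)
theorem F502636 : act 1 n220204 = n219931 := d17_6 D188083 (iv5 F375470) (iv1 F375473) (iv5 F384840) (iv4 F388829) D220204 F501242 F472490 (iv4 D188085)
def n220205 : Q := act 6 n193126
theorem D220205 : act 6 n193126 = n220205 := rfl
theorem F502637 : act 2 n220205 = n214038 := d3_1 D220205 (iv6 F473219) F388830
theorem F502638 : act 3 n220205 = n213885 := d7_1 D220205 F473093 (iv3 F468815)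
theorem F502639 : act 4 n220205 = n219650 := d10_1 D220205 (iv6 D219650) (iv4 F388829)
theorem F502640 : act 0 n197253 = n220205 := d21_4 F316899 F314630 (iv5 F167006) D197253 (iv6 D220205) D220204 F502635 (iv5 D214034) (iv6 D156222) (iv1 F167147)
theorem F502641 : act 1 n203554 = n220205 := d15_0 (iv0 F502640) (iv7 F456237) F456236
theorem F502642 : act 7 n214039 = n220205 := d8_0 F502638 (iv7 F473096) (iv3 F473221)
def n220206 : Q := act 5 n193127
theorem D220206 : act 5 n193127 = n220206 := rfl
theorem F502643 : act 2 n220206 = n202405 := d2_1 D220206 (iv5 D202405) (iv2 F388831)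
theorem F502644 : act 3 n220206 = n193128 := d6_1 D220206 (iv5 D193128) D193127
theorem F502645 : act 4 n220206 = n194130 := d16_2 (iv4 F388832) D220206 F451472 (iv4 F472102) F472099 (iv4 D205904) (iv5 D126743) D126744 (iv2 F329042)
theorem F502646 : act 0 n220206 = n202001 := d17_2 F388835 D220206 (iv5 D202001) F347896 D120075 F354180 (iv5 F360755) (iv0 D155839) D155841
theorem F502647 : act 1 n220206 = n203655 := d17_6 F366455 (iv5 F438349) (iv1 F438352) (iv5 D193135) (iv4 F388832) D220206 (iv5 D203655) F350660 (iv4 F245472)
def n220207 : Q := act 1 n193128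
theorem D220207 : act 1 n193128 = n220207 := rfl
theorem F502648 : act 1 n220207 = n210765 := d15_1 D220207 (iv7 F459132) F459130
theorem F502649 : act 7 n220207 = n217893 := d15_2 (iv0 F388837) D220207 F491125
theorem F502650 : act 5 n220207 = n213865 := d17_7 F349187 (iv5 D101200) (iv1 D47131) D47132 D101204 D193128 D220207 (iv0 D213865) F245103
theorem F502651 : act 4 n220207 = n213637 := d17_9 F485875 F485874 (iv1 D209530) D209531 F454060 (iv5 D192449) (iv0 F155911) D193128 D220207
theorem F502652 : act 2 n217873 = n220207 := d1_3 F502651 F485871 (iv4 F491032)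
theorem F502653 : act 6 n213636 = n220207 := d10_0 F502651 (iv6 D213637) D213636
def n220208 : Q := act 4 n193128
theorem D220208 : act 4 n193128 = n220208 := rfl
theorem F502654 : act 2 n220208 = n217880 := d1_1 D220208 F491057 F459130
theorem F502655 : act 3 n220208 = n194131 := d5_1 D220208 (iv4 D194131) D194130 (iv4 F502645) F502644
theorem F502656 : act 5 n220208 = n217560 := d9_2 D193128 D220208 (iv4 D217560) (iv5 D187560) (iv4 F143947) F339894 (iv4 F386739) (iv5 F458728) F481881 F481879 (iv4 D188707) (iv5 D92682) F68091 D47132 D101204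
theorem F502657 : act 7 n220208 = n217663 := d11_2 (iv7 F485894) D220208 F489995
theorem F502658 : act 0 n220208 = n213760 := d17_0 (iv5 D213760) F375349 D218302 F493200 F459135 (iv0 F335720) D192399 (iv0 F388837) D220208
def n220209 : Q := act 6 n193128
theorem D220209 : act 6 n193128 = n220209 := rfl
theorem F502659 : act 5 n220209 = n210742 := d12_1 D220209 F502583 (iv5 D220194) F388799 D193128
theorem F502660 : act 7 n220209 = n210764 := d14_2 (iv7 F485894) D220209 (iv6 D210764) (iv7 F359527) D216777
def n220210 : Q := act 1 n193131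
theorem D220210 : act 1 n193131 = n220210 := rfl
theorem F502661 : act 1 n220210 = n205442 := d15_1 D220210 F436447 (iv2 F388849)
theorem F502662 : act 7 n220210 = n214850 := d15_2 (iv0 F434844) D220210 F477140
theorem F502663 : act 4 n220210 = n194705 := d17_9 (iv1 D194705) (iv5 F381535) F470919 (iv5 D213537) (iv4 F470907) F470908 (iv0 F433787) F415413 D220210
theorem F502664 : act 5 n220210 = n205434 := d18_9 (iv1 F436405) (iv4 F394741) (iv1 F394744) F231454 (iv5 F231458) F388852 (iv0 D193132) (iv4 F388850) D220210
theorem F502665 : act 6 n212484 = n220210 := d21_3 (iv5 D147414) F230984 D212484 (iv1 D220210) (iv6 D193131) F155934 F291977 (iv5 F294124) (iv6 F353764) F242704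
theorem F502666 : act 2 n220210 = n212468 := d3_1 F502665 F465939 (iv2 F466025)
theorem F502667 : act 3 n220210 = n215438 := d7_1 F502665 (iv6 D215438) (iv3 F466026)
def n220211 : Q := act 6 n193137
theorem D220211 : act 6 n193137 = n220211 := rfl
theorem F502668 : act 2 n220211 = n193189 := d3_1 D220211 (iv6 D193189) (iv2 F388874)
theorem F502669 : act 3 n220211 = n198050 := d7_1 D220211 (iv6 F407182) F388879
theorem F502670 : act 4 n220211 = n193138 := d10_1 D220211 (iv6 D193138) D193137
theorem F502671 : act 0 n220211 = n210969 := d21_4 F394110 (iv1 F320347) (iv5 F388876) D220211 F459550 (iv5 F464768) (iv1 D212212) D212213 F464772 (iv1 F394114)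
theorem F502672 : act 0 n210971 = n220211 := d21_4 F471547 F467939 F393176 (iv6 F459560) (iv6 D220211) F388876 F320346 (iv5 F242670) (iv6 F375245) F471551
def n220212 : Q := act 7 n193138
theorem D220212 : act 7 n193138 = n220212 := rfl
theorem F502673 : act 2 n220212 = n193193 := d4_1 D220212 (iv7 D193193) (iv2 F388880)
theorem F502674 : act 3 n220212 = n204815 := d8_1 D220212 (iv7 D204815) (iv3 F388881)
theorem F502675 : act 5 n220212 = n208376 := d13_1 D220212 (iv7 F449129) (iv5 F388882)
theorem F502676 : act 6 n220212 = n193200 := d14_1 D220212 (iv7 D193200) (iv6 D101346) (iv7 F310307) D193138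
theorem F502677 : act 1 n193191 = n220212 := d15_1 D193191 (iv7 D220212) F388880
theorem F502678 : act 1 n220212 = n193190 := d15_1 F502677 (iv7 F467487) F467483
def n220213 : Q := act 6 n193139
theorem D220213 : act 6 n193139 = n220213 := rfl
theorem F502679 : act 2 n220213 = n193197 := d3_1 D220213 (iv6 D193197) (iv2 F388883)
theorem F502680 : act 3 n220213 = n215543 := d7_1 D220213 (iv6 F493118) F493113
theorem F502681 : act 4 n220213 = n193140 := d10_1 D220213 (iv6 D193140) D193139
theorem F502682 : act 5 n220213 = n194589 := d21_6 (iv5 F407609) (iv1 F407610) (iv5 F219648) (iv6 F338914) (iv1 F388886) D220213 F393770 (iv5 F386618) (iv6 F405102) (iv1 F405105)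
theorem F502683 : act 0 n193238 = n220213 := d21_4 (iv5 F369607) F369608 (iv5 F360810) D193238 (iv6 D220213) (iv5 F466491) (iv1 F466495) (iv5 F394110) F394111 F159600
theorem F502684 : act 7 n220084 = n220213 := d13_0 F502682 (iv7 F479885) (iv5 F502025)
theorem F502685 : act 1 n219673 = n220213 := d18_8 F393770 (iv4 F373255) F477012 F477011 (iv5 F461540) F497718 F497714 (iv4 F499978) F502682
def n220214 : Q := act 3 n193141
theorem D220214 : act 3 n193141 = n220214 := rfl
theorem F502686 : act 2 n220214 = n210894 := d0_1 D220214 F459183 F423986 F407419 F388893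
theorem F502687 : act 4 n220214 = n196606 := d5_2 (iv4 F388890) D220214 (iv3 F498968) (iv4 D219457) (iv3 F383625)
theorem F502688 : act 5 n220214 = n197684 := d6_2 (iv5 F388892) D220214 (iv3 F405349)
theorem F502689 : act 6 n220214 = n204687 := d7_2 F459701 D220214 (iv3 F459700)
theorem F502690 : act 7 n220214 = n193212 := d8_2 F388894 D220214 (iv3 D193212)
theorem F502691 : act 0 n220214 = n220099 := d19_4 F109926 (iv5 F240870) (iv4 F388890) D220214 F502117 (iv4 D198851) F349877 (iv1 F403273) F403269 F334021 (iv3 F394781) (iv1 F394784) D194894 F394903 (iv3 F345768) D193447 F389865 F248370 (iv3 D75046)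
theorem F502692 : act 0 n220103 = n220214 := d20_4 F455478 (iv1 F384838) (iv4 F388275) (iv3 F502136) (iv3 D220214) F388890 (iv1 F241824) (iv4 F242858) F242856 D188957
def n220215 : Q := act 6 n193144
theorem D220215 : act 6 n193144 = n220215 := rfl
theorem F502693 : act 2 n220215 = n193250 := d3_1 D220215 (iv6 D193250) F388909
theorem F502694 : act 4 n220215 = n193884 := d10_1 D220215 (iv6 D193884) (iv4 F388908)
theorem F502695 : act 5 n220215 = n203776 := d12_1 D220215 F429767 (iv5 F362817) (iv6 F368925) (iv5 F388907)
theorem F502696 : act 0 n213873 = n220215 := d21_4 F390550 F345274 (iv5 F345273) D213873 (iv6 D220215) F388907 F394023 F394022 (iv6 F432888) F432889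
def n220216 : Q := act 5 n193145
theorem D220216 : act 5 n193145 = n220216 := rfl
theorem F502697 : act 2 n220216 = n219806 := d2_1 D220216 F500700 (iv2 F391272)
theorem F502698 : act 7 n220216 = n193252 := d13_2 (iv7 F388912) D220216 (iv5 D193252)
theorem F502699 : act 0 n220216 = n213053 := d17_2 (iv1 F388914) D220216 (iv5 D213053) (iv4 F357231) (iv5 D99843) F73666 D47528 F153740 D192199
theorem F502700 : act 1 n220216 = n204784 := d17_6 F356435 (iv5 D88033) (iv1 F289582) D101236 D193145 D220216 (iv5 D204784) (iv0 F389388) (iv4 D193278)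
def n220217 : Q := act 0 n193149
theorem D220217 : act 0 n193149 = n220217 := rfl
theorem F502701 : act 5 n220217 = n215349 := d17_3 F461359 (iv5 F388928) D220217 (iv4 F486521) F486522 (iv0 F379250) D217141 (iv0 F496059) F496056
theorem F502702 : act 4 n220217 = n210923 := d18_3 F388933 (iv4 F388927) D220217 (iv5 D210923) (iv4 F459296) (iv0 F459299) (iv4 F482877) (iv0 F482879) (iv5 D199182)
theorem F502703 : act 3 n220217 = n211374 := d20_5 (iv4 D94120) (iv1 F74409) D101243 D193149 D220217 (iv4 F461325) F497643 (iv4 D219189) F381485 F293811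
theorem F502704 : act 6 n220217 = n210932 := d21_5 (iv5 F224937) F401838 F401835 (iv6 F388929) D220217 F459348 (iv1 F273906) D215420 (iv6 F479910) F401058
theorem F502705 : act 2 n193240 = n220217 := d15_3 (iv0 D220217) (iv0 F388932) (iv7 F389281)
theorem F502706 : act 1 n193241 = n220217 := d15_0 (iv0 D220217) F388930 D193241
theorem F502707 : act 7 n220217 = n193239 := d15_2 F389288 F502706 (iv2 F389282)
def n220218 : Q := act 5 n193150
theorem D220218 : act 5 n193150 = n220218 := rfl
theorem F502708 : act 2 n220218 = n219805 := d2_1 D220218 (iv5 D219805) (iv2 F388944)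
theorem F502709 : act 7 n220218 = n193281 := d13_2 (iv7 F388945) D220218 (iv5 D193281)
theorem F502710 : act 0 n220218 = n193879 := d17_2 (iv1 F388947) D220218 (iv5 D193879) (iv4 D102448) D102449 F357223 (iv5 F357225) (iv0 D124355) D124357
theorem F502711 : act 1 n220218 = n193873 := d17_6 (iv1 F290102) F290103 F356196 (iv5 F343854) D193150 D220218 (iv5 D193873) D193872 F391271
def n220219 : Q := act 0 n193153
theorem D220219 : act 0 n193153 = n220219 := rfl
theorem F502712 : act 5 n220219 = n209190 := d17_1 D220219 (iv1 F491844) F491840 (iv4 F453651) (iv5 F491706) (iv0 F491709) (iv5 F432365) (iv0 F388954) (iv4 F388960)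
theorem F502713 : act 4 n220219 = n205080 := d18_1 D220219 (iv1 F448174) F448171 (iv5 F404929) (iv4 F404935) (iv0 D136554) D136556 F407610 F407609
theorem F502714 : act 2 n193270 = n220219 := d15_3 (iv0 D220219) F405105 (iv7 F407606)
theorem F502715 : act 1 n193273 = n220219 := d15_0 (iv0 D220219) (iv7 F407601) F407597
theorem F502716 : act 7 n220219 = n193271 := d15_2 (iv0 F405104) F502715 F405201
def n220220 : Q := act 3 n193156
theorem D220220 : act 3 n193156 = n220220 := rfl
theorem F502717 : act 4 n220220 = n193158 := d5_2 D193156 D220220 (iv3 D193158) (iv4 D101249) D101248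
theorem F502718 : act 7 n220220 = n193258 := d8_2 (iv7 F388972) D220220 (iv3 D193258)
theorem F502719 : act 0 n220220 = n214182 := d19_4 (iv1 D182158) (iv5 F155986) D193156 D220220 F473882 F387597 (iv3 F387588) F475549 (iv5 D214511) F251580 (iv3 D93850) F319803 (iv5 F319748) (iv4 D47576) (iv3 F74812) D102566 D193993 (iv4 F456206) F456205
theorem F502720 : act 0 n199096 = n220220 := d20_4 F163565 F93304 (iv4 F171942) D199096 (iv3 D220220) (iv4 D193156) F352685 (iv4 F363854) (iv3 D157176) F163566
theorem F502721 : act 2 n220220 = n214181 := d15_3 F473884 F389350 (iv7 F502718)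
def n220221 : Q := act 5 n193156
theorem D220221 : act 5 n193156 = n220221 := rfl
theorem F502722 : act 7 n220221 = n193259 := d13_2 (iv7 F388972) D220221 (iv5 D193259)
theorem F502723 : act 4 n220221 = n217667 := d16_2 D193156 D220221 (iv5 D217667) (iv4 D187720) (iv5 F145629) (iv4 F377064) F377065 (iv7 F388762) F388764
theorem F502724 : act 0 n220221 = n193906 := d17_2 F391212 D220221 (iv5 D193906) (iv4 D102475) F74730 D99017 F365762 (iv0 F368974) D193852
theorem F502725 : act 1 n220221 = n208575 := d17_6 (iv1 F362211) (iv5 F283609) (iv1 D182158) (iv5 F155986) D193156 D220221 F449965 F391358 F391356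
def n220222 : Q := act 6 n193156
theorem D220222 : act 6 n193156 = n220222 := rfl
theorem F502726 : act 4 n220222 = n193157 := d10_1 D220222 (iv6 D193157) D193156
theorem F502727 : act 0 n220222 = n199138 := d21_4 (iv5 F449965) (iv1 F502725) (iv5 D220221) D220222 (iv6 D199138) F180717 F222655 F222653 (iv6 F391360) (iv1 F391358)
def n220223 : Q := act 1 n193157
theorem D220223 : act 1 n193157 = n220223 := rfl
theorem F502728 : act 1 n220223 = n209209 := d15_1 D220223 (iv7 F502553) F502550
theorem F502729 : act 7 n220223 = n209208 := d15_2 (iv0 F388976) D220223 F452721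
theorem F502730 : act 2 n193668 = n220223 := d4_3 F502729 F452721 (iv7 F390633)
theorem F502731 : act 3 n209408 = n220223 := d8_3 F502729 F452722 (iv7 F453599)
theorem F502732 : act 6 n209722 = n220223 := d14_5 F502729 (iv6 D209208) F218707 D136854 D209722
def n220224 : Q := act 7 n193157
theorem D220224 : act 7 n193157 = n220224 := rfl
theorem F502733 : act 2 n220224 = n209209 := d4_1 D220224 (iv7 F502553) F502550
theorem F502734 : act 3 n220224 = n193161 := d8_1 D220224 (iv7 D193161) (iv3 F388974)
theorem F502735 : act 5 n220224 = n216191 := d13_1 D220224 (iv7 D216191) (iv5 F388975)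
theorem F502736 : act 6 n220224 = n193263 := d14_1 D220224 (iv7 D193263) (iv6 D101421) (iv7 F155987) D193157
theorem F502737 : act 1 n193668 = n220224 := d15_1 F502555 (iv7 D220224) (iv2 F502550)
theorem F502738 : act 1 n220224 = n209208 := d15_1 F502737 (iv7 F502729) (iv2 F502730)
def n220225 : Q := act 0 n193158
theorem D220225 : act 0 n193158 = n220225 := rfl
theorem F502739 : act 5 n220225 = n218936 := d17_1 D220225 (iv1 F496273) (iv5 F389285) F389284 (iv5 F388939) F387724 (iv5 F473882) (iv0 F502719) F502717
theorem F502740 : act 4 n220225 = n198217 := d18_3 F502720 F502717 D220225 (iv5 D198217) (iv4 F331083) F159484 D192774 F387716 (iv5 F410642)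
theorem F502741 : act 2 n193265 = n220225 := d15_3 (iv0 D220225) (iv0 F388978) (iv7 F389343)
theorem F502742 : act 1 n193266 = n220225 := d15_0 (iv0 D220225) F388977 D193266
theorem F502743 : act 7 n220225 = n193264 := d15_2 (iv0 F419976) F502742 (iv2 F389344)
theorem F502744 : act 6 n198229 = n220225 := d21_3 (iv5 D218286) F455548 F455546 (iv1 F502742) (iv6 F389366) (iv5 D192681) (iv1 F384974) F384972 D210430 (iv1 F493117)
def n220226 : Q := act 2 n193158
theorem D220226 : act 2 n193158 = n220226 := rfl
theorem F502745 : act 3 n220226 = n193288 := d0_2 D193158 D220226 (iv2 D193288) (iv3 D101434) (iv2 F155988)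
theorem F502746 : act 4 n220226 = n214181 := d1_2 F502717 D220226 (iv2 F502721)
theorem F502747 : act 7 n220226 = n193266 := d4_2 (iv7 F388977) D220226 (iv2 D193266)
theorem F502748 : act 1 n220226 = n193264 := d15_0 (iv0 D193264) (iv7 F388977) D220226
theorem F502749 : act 1 n193265 = n220226 := d15_0 F502748 (iv7 F502743) (iv2 F502741)
def n220227 : Q := act 6 n193158
theorem D220227 : act 6 n193158 = n220227 := rfl
theorem F502750 : act 3 n220227 = n193159 := d7_1 D220227 (iv6 D193159) D193158
theorem F502751 : act 7 n220227 = n220031 := d14_2 (iv7 F388977) D220227 (iv6 D220031) (iv7 F389364) (iv6 D193268)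
theorem F502752 : act 5 n220227 = n215486 := d21_6 (iv5 D201282) F178080 F143191 (iv6 F241494) F388978 D220227 F480196 (iv5 F471659) (iv6 D213691) (iv1 F419847)
theorem F502753 : act 0 n216059 = n220227 := d17_2 F479703 (iv5 F482706) F502752 (iv4 D215486) (iv5 F478558) (iv0 F478555) (iv5 D174649) D174647 F413609
def n220228 : Q := act 5 n193160
theorem D220228 : act 5 n193160 = n220228 := rfl
theorem F502754 : act 2 n220228 = n193293 := d2_1 D220228 (iv5 D193293) F388982
theorem F502755 : act 6 n220228 = n208375 := d12_2 (iv6 F388981) D220228 (iv5 F462174) (iv6 D211566) F225943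
theorem F502756 : act 7 n220228 = n193295 := d13_2 (iv7 F388984) D220228 (iv5 D193295)
theorem F502757 : act 4 n220228 = n218227 := d16_6 (iv4 F399449) (iv5 F441550) (iv4 F479000) F479003 F406430 D220228 (iv5 D218227) (iv7 F492822) (iv2 F492820)
theorem F502758 : act 1 n220228 = n193192 := d17_8 (iv1 F449123) (iv5 F462174) F462173 F242337 (iv4 F368946) F368947 (iv0 F388983) D220228 (iv4 F395421)
theorem F502759 : act 0 n220228 = n208376 := d18_0 (iv4 D208376) D208374 (iv4 F485820) F485823 (iv4 F459563) (iv0 D210972) F377741 (iv0 F388983) D220228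
def n220229 : Q := act 3 n193164
theorem D220229 : act 3 n193164 = n220229 := rfl
theorem F502760 : act 2 n220229 = n209784 := d0_1 D220229 F455010 (iv2 F422580) (iv3 D193328) (iv2 F422578)
theorem F502761 : act 5 n220229 = n210545 := d6_2 F466377 D220229 (iv3 F466375)
theorem F502762 : act 6 n220229 = n199328 := d7_2 (iv6 F466333) D220229 (iv3 F466329)
theorem F502763 : act 7 n220229 = n193331 := d8_2 (iv7 F422579) D220229 (iv3 D193331)
theorem F502764 : act 4 n220229 = n202108 := d20_6 (iv4 F86526) F56750 D60125 (iv3 F352719) D193164 D220229 (iv1 F422894) (iv4 F427900) F427899 (iv1 F186777)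
theorem F502765 : act 0 n220229 = n204603 := d20_10 F438330 F501007 F501003 (iv3 F427895) (iv1 D194009) (iv3 F381530) F381531 D218190 F492615 D220229
theorem F502766 : act 0 n193249 = n220229 := d20_4 F186945 (iv1 F339208) (iv4 F347042) (iv3 F389319) (iv3 D220229) (iv4 F492615) (iv1 F492617) (iv4 F375246) F428182 (iv1 D203410)
def n220230 : Q := act 6 n193180
theorem D220230 : act 6 n193180 = n220230 := rfl
theorem F502767 : act 2 n220230 = n214620 := d3_1 D220230 (iv6 D214620) (iv2 F389083)
theorem F502768 : act 3 n220230 = n196846 := d7_1 D220230 (iv6 D196846) F389085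
theorem F502769 : act 4 n220230 = n193181 := d10_1 D220230 (iv6 D193181) D193180
theorem F502770 : act 5 n220230 = n214646 := d12_1 D220230 (iv6 D214646) (iv5 D160457) (iv6 F253341) (iv5 F389084)
def n220231 : Q := act 1 n193181
theorem D220231 : act 1 n193181 = n220231 := rfl
theorem F502771 : act 7 n220231 = n211599 := d15_2 (iv0 F452967) D220231 F462324
theorem F502772 : act 4 n215346 = n220231 := d20_0 (iv1 D220231) (iv4 F502769) F502768 (iv1 F482031) (iv3 D215328) F271721 (iv1 D82969) D82970 D173379 D215346
theorem F502773 : act 3 n220231 = n211604 := d5_1 F502772 (iv4 F500706) F500705 (iv4 F502304) F502303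
def n220232 : Q := act 5 n193181
theorem D220232 : act 5 n193181 = n220232 := rfl
theorem F502774 : act 2 n220232 = n216047 := d2_1 D220232 F482656 F455862
theorem F502775 : act 3 n220232 = n193192 := d6_1 D220232 (iv5 D193192) (iv3 F389086)
theorem F502776 : act 6 n220232 = n193184 := d12_2 D193181 D220232 (iv5 D193184) (iv6 D101318) D101317
theorem F502777 : act 0 n220232 = n209210 := d21_7 (iv5 F409972) (iv1 F409971) F220119 D137330 (iv1 F351826) D193181 D220232 (iv5 D209210) (iv6 D135955) D135952
def n220233 : Q := act 7 n193181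
theorem D220233 : act 7 n193181 = n220233 := rfl
theorem F502778 : act 3 n220233 = n193193 := d8_1 D220233 (iv7 D193193) (iv3 F389086)
def n220234 : Q := act 5 n193189
theorem D220234 : act 5 n193189 = n220234 := rfl
theorem F502779 : act 3 n220234 = n215477 := d6_1 D220234 (iv5 F480163) F471660
theorem F502780 : act 4 n220234 = n206438 := d16_2 (iv4 F389123) D220234 (iv5 D206438) F206887 D134236 D208376 (iv5 F502675) (iv7 D220212) F388880
theorem F502781 : act 0 n220234 = n216064 := d18_0 F482735 F478381 F477423 (iv5 F482026) F482025 F470238 (iv4 F456407) F459530 D220234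
def n220235 : Q := act 7 n193189
theorem D220235 : act 7 n193189 = n220235 := rfl
theorem F502782 : act 3 n220235 = n219086 := d8_1 D220235 F497115 F471660
theorem F502783 : act 4 n220235 = n193193 := d11_1 D220235 (iv7 D193193) (iv4 F389123)
theorem F502784 : act 6 n220235 = n220084 := d14_1 D220235 F502684 (iv6 D220213) F388884 D193189
theorem F502785 : act 1 n210971 = n220235 := d15_1 (iv0 F502672) (iv7 D220235) (iv2 F502668)
theorem F502786 : act 1 n220235 = n210969 := d15_1 F502785 (iv7 F472095) F472092
def n220236 : Q := act 4 n193191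
theorem D220236 : act 4 n193191 = n220236 := rfl
theorem F502787 : act 2 n220236 = n203941 := d1_1 D220236 (iv4 F467484) F467483
theorem F502788 : act 3 n220236 = n213716 := d5_1 D220236 (iv4 F490815) F490814 (iv4 D193479) (iv3 F389131)
theorem F502789 : act 6 n220236 = n212584 := d10_2 F453884 D220236 F466546
theorem F502790 : act 7 n220236 = n210148 := d11_2 F483347 D220236 (iv4 F483345)
theorem F502791 : act 0 n220236 = n210311 := d17_0 F456960 D215237 F479003 F406430 D220228 F502758 (iv5 D193192) D193191 D220236
theorem F502792 : act 0 n215071 = n220236 := d21_4 F359486 (iv1 F359489) D196974 (iv6 F478187) F502789 (iv5 F493028) (iv1 F493030) F471786 (iv6 F402495) F402497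
def n220237 : Q := act 3 n193194
theorem D220237 : act 3 n193194 = n220237 := rfl
theorem F502793 : act 7 n220237 = n213412 := d8_2 (iv7 F389133) D220237 (iv3 D213412)
theorem F502794 : act 0 n220237 = n201543 := d19_4 (iv1 D101332) D101333 D193194 D220237 (iv5 D201543) (iv4 D114801) F83695 D53078 (iv5 F178436) (iv4 F178439) F370324 (iv1 D187438) (iv5 F139299) F340914 (iv3 F307486) F331836 F331833 F156563 F156464
def n220238 : Q := act 6 n193195
theorem D220238 : act 6 n193195 = n220238 := rfl
theorem F502795 : act 2 n220238 = n204822 := d3_1 D220238 (iv6 D204822) (iv2 F389136)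
theorem F502796 : act 4 n220238 = n193196 := d10_1 D220238 (iv6 D193196) D193195
theorem F502797 : act 5 n220238 = n211180 := d12_1 D220238 F460483 F400894 D201947 (iv5 F422483)
theorem F502798 : act 0 n210709 = n220238 := d21_4 D219805 F500698 F485670 (iv6 F458522) (iv6 D220238) F422483 F422484 F407476 F198811 D192279
theorem F502799 : act 7 n210500 = n220238 := d13_0 F502797 (iv7 F460486) (iv5 F457807)
def n220239 : Q := act 0 n193197
theorem D220239 : act 0 n193197 = n220239 := rfl
theorem F502800 : act 4 n220239 = n219206 := d18_1 D220239 (iv1 F497725) F445469 (iv5 D196974) D196973 (iv0 F402492) (iv4 F393338) F415093 (iv5 F415102)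
theorem F502801 : act 2 n219673 = n220239 := d15_3 (iv0 D220239) (iv0 F423735) (iv7 F499979)
theorem F502802 : act 3 n220239 = n214775 := d0_2 D219673 F502801 F476782 (iv3 D192900) (iv2 F385053)
theorem F502803 : act 7 n220239 = n193238 := d4_2 (iv7 F499979) F502801 F389276
theorem F502804 : act 1 n220084 = n220239 := d15_1 D220084 F502803 F389276
def n220240 : Q := act 7 n193197
theorem D220240 : act 7 n193197 = n220240 := rfl
theorem F502805 : act 2 n220240 = n220084 := d4_1 D220240 F502684 F502679
theorem F502806 : act 3 n220240 = n211409 := d8_1 D220240 F461448 F415101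
theorem F502807 : act 4 n220240 = n193200 := d11_1 D220240 (iv7 D193200) (iv4 F389144)
theorem F502808 : act 5 n220240 = n194588 := d13_1 D220240 (iv7 F415091) (iv5 F415102)
theorem F502809 : act 1 n193238 = n220240 := d15_1 (iv0 F502683) (iv7 D220240) (iv2 F502679)
theorem F502810 : act 1 n220240 = n219673 := d15_1 F502809 F499979 (iv2 F389276)
def n220241 : Q := act 0 n193203
theorem D220241 : act 0 n193203 = n220241 := rfl
theorem F502811 : act 5 n220241 = n204828 := d17_1 D220241 (iv1 D204828) (iv5 F433708) (iv4 D204820) (iv5 D124424) (iv0 F351741) D193178 F389073 D193203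
theorem F502812 : act 4 n220241 = n217001 := d18_1 D220241 (iv1 F486934) (iv4 F470500) F470501 (iv4 F346372) F346373 F433698 F433695 (iv5 F389169)
theorem F502813 : act 3 n220241 = n194586 := d20_5 (iv4 F471574) (iv1 F471577) (iv4 F464435) F464434 D220241 F393764 (iv1 F462769) (iv4 F462770) (iv3 F455678) (iv1 F455689)
theorem F502814 : act 2 n214618 = n220241 := d15_3 (iv0 D220241) (iv0 F405603) (iv7 F476076)
theorem F502815 : act 1 n204819 = n220241 := d15_0 (iv0 D220241) (iv7 F469720) F469718
theorem F502816 : act 7 n220241 = n214619 := d15_2 (iv0 F433706) F502815 F476080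
theorem F502817 : act 6 n194585 = n220241 := d21_9 (iv5 D204819) (iv1 F364762) D211106 F460124 F453992 (iv6 F490346) (iv5 D217727) F371641 (iv5 F393762) (iv1 F502815)
def n220242 : Q := act 5 n193207
theorem D220242 : act 5 n193207 = n220242 := rfl
theorem F502818 : act 2 n220242 = n218016 := d2_1 D220242 (iv5 F491713) (iv2 F474148)
theorem F502819 : act 3 n220242 = n201610 := d6_1 D220242 (iv5 F460250) F460248
theorem F502820 : act 6 n220242 = n195836 := d12_2 (iv6 F389413) D220242 F398394 F389414 (iv5 D193295)
theorem F502821 : act 7 n220242 = n208674 := d13_2 F460229 D220242 (iv5 F460228)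
theorem F502822 : act 4 n220242 = n195753 := d16_4 (iv4 F433874) (iv5 F459695) F459699 D220242 (iv5 D195753) (iv4 F398046) (iv5 F406141) (iv7 F439155) (iv2 F439157)
theorem F502823 : act 0 n220242 = n218008 := d17_2 D193207 D220242 F491666 F470339 (iv5 D177799) D177797 D215782 (iv0 F481554) F389176
theorem F502824 : act 1 n220242 = n218017 := d17_6 F405226 F405224 D199402 (iv5 F459695) F459699 D220242 F491715 (iv0 D189593) D189595
def n220243 : Q := act 2 n193212
theorem D220243 : act 2 n193212 = n220243 := rfl
theorem F502825 : act 3 n220243 = n210710 := d0_2 D193212 D220243 (iv2 F458526) (iv3 F424171) (iv2 F388899)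
theorem F502826 : act 4 n220243 = n196607 := d1_2 F463601 D220243 F463602
theorem F502827 : act 5 n220243 = n197683 := d2_2 (iv5 F389192) D220243 (iv2 F405344)
theorem F502828 : act 7 n220243 = n210894 := d4_2 F502690 D220243 (iv2 F502686)
theorem F502829 : act 1 n220243 = n220099 := d15_0 (iv0 F502691) F502690 D220243
theorem F502830 : act 1 n220103 = n220243 := d15_0 F502829 F502118 (iv2 F502135)
theorem F502831 : act 6 n210724 = n220243 := d21_3 F424762 D210286 F458584 (iv1 F502830) F502139 (iv5 D219187) (iv1 D190896) D190898 D219190 F497648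
def n220244 : Q := act 6 n193212
theorem D220244 : act 6 n193212 = n220244 := rfl
theorem F502832 : act 2 n220244 = n210724 := d3_1 D220244 F502831 (iv2 D220243)
theorem F502833 : act 3 n220244 = n193214 := d7_1 D220244 (iv6 D193214) D193212
theorem F502834 : act 5 n220244 = n209968 := d12_1 D220244 F460105 (iv5 F460104) F351691 (iv5 F389192)
theorem F502835 : act 0 n208630 = n220244 := d21_4 D108558 (iv1 F403462) F403460 D208630 (iv6 D220244) F389192 (iv1 D140334) D140335 F343149 (iv1 D108556)
def n220245 : Q := act 7 n193214
theorem D220245 : act 7 n193214 = n220245 := rfl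
theorem F502836 : act 2 n220245 = n196760 := d4_1 D220245 (iv7 F426711) F426708
theorem F502837 : act 4 n220245 = n212524 := d11_1 D220245 F466247 (iv4 F389194)
theorem F502838 : act 5 n220245 = n197457 := d13_1 D220245 (iv7 F464489) F464488
theorem F502839 : act 1 n196761 = n220245 := d15_1 F426714 (iv7 D220245) (iv2 F426708)
theorem F502840 : act 1 n220245 = n196758 := d15_1 F502839 (iv7 F457307) F457303
def n220246 : Q := act 2 n193215
theorem D220246 : act 2 n193215 = n220246 := rfl
theorem F502841 : act 3 n220246 = n220104 := d0_2 (iv3 F389197) D220246 (iv2 F502144) (iv3 D219937) F390037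
theorem F502842 : act 4 n220246 = n200263 := d1_2 (iv4 F389196) D220246 F415730
theorem F502843 : act 5 n220246 = n211699 := d2_2 F462778 D220246 (iv2 F462776)
theorem F502844 : act 7 n220246 = n193216 := d4_2 (iv7 F411021) D220246 (iv2 F411015)
theorem F502845 : act 1 n220246 = n193217 := d15_0 F411020 (iv7 F411021) D220246
theorem F502846 : act 1 n193218 = n220246 := d15_0 F502845 F389207 F389206
def n220247 : Q := act 5 n193224
theorem D220247 : act 5 n193224 = n220247 := rfl
theorem F502847 : act 0 n220247 = n211050 := d17_2 F391417 D220247 F459904 F363853 F367443 F369094 (iv5 F153703) (iv0 F371281) F371283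
theorem F502848 : act 6 n220247 = n211020 := d21_3 (iv5 D199241) F391417 D220247 F459775 F371982 F371981 F372032 F178323 (iv6 F401664) F411289
def n220248 : Q := act 6 n193224
theorem D220248 : act 6 n193224 = n220248 := rfl
theorem F502849 : act 2 n220248 = n212183 := d3_1 D220248 F464656 F398711
theorem F502850 : act 3 n220248 = n212821 := d7_1 D220248 F467621 F401629
theorem F502851 : act 4 n220248 = n193225 := d10_1 D220248 (iv6 D193225) D193224
theorem F502852 : act 5 n220248 = n211021 := d12_1 D220248 (iv6 D211021) D211020 (iv6 F502848) (iv5 D220247)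
theorem F502853 : act 0 n215344 = n220248 := d21_4 D196907 (iv1 F497400) (iv5 D215348) (iv6 F479492) (iv6 D220248) D220247 F502847 F459904 (iv6 F424528) (iv1 D196906)
theorem F502854 : act 1 n199251 = n220248 := d17_8 F455872 F455871 (iv1 D209978) (iv5 D137218) (iv4 F104330) D145433 D212174 (iv5 F464620) F502851
def n220249 : Q := act 1 n193225
theorem D220249 : act 1 n193225 = n220249 := rfl
theorem F502855 : act 7 n220249 = n204821 := d15_2 (iv0 F455872) D220249 (iv2 F455869)
theorem F502856 : act 5 n220249 = n199325 := d17_7 (iv1 F482172) (iv5 F482174) F458746 (iv5 F469403) F469402 F455643 D220249 (iv0 F411713) (iv4 F455249)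
theorem F502857 : act 3 n199326 = n220249 := d6_3 F502856 (iv3 D199325) D199326
def n220250 : Q := act 7 n193225
theorem D220250 : act 7 n193225 = n220250 := rfl
def n220251 : Q := act 6 n193226
theorem D220251 : act 6 n193226 = n220251 := rfl
theorem F502858 : act 2 n220251 = n219751 := d3_1 D220251 (iv6 D219751) F389238
theorem F502859 : act 3 n220251 = n195386 := d7_1 D220251 (iv6 F449974) F449973
theorem F502860 : act 4 n220251 = n219749 := d10_1 D220251 (iv6 D219749) (iv4 F389237)
theorem F502861 : act 5 n220251 = n195385 := d12_1 D220251 (iv6 D195385) (iv5 F216778) D208575 F449965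
theorem F502862 : act 7 n211094 = n220251 := d13_0 F502861 F396898 D211094
theorem F502863 : act 0 n220251 = n219864 := d21_1 (iv5 F502861) (iv5 D219864) F412821 (iv1 F412819) (iv6 D197562) (iv5 F389634) (iv1 F405245) F405247 D208631 F450253
def n220252 : Q := act 0 n193230
theorem D220252 : act 0 n193230 = n220252 := rfl
theorem F502864 : act 5 n220252 = n199399 := d19_1 D220252 F411983 F395576 D200635 F417307 (iv4 F445664) F445665 F389056 (iv5 F419234) F419233 (iv3 F427239) F427243 F397403 (iv4 F335038) (iv3 F424250) F424254 (iv5 D142164) (iv4 F225177) (iv3 F389253)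
theorem F502865 : act 4 n220252 = n194729 := d20_0 (iv1 F394280) D209503 (iv3 F499982) F499985 F404787 F246247 F322976 (iv4 F225177) (iv3 F389253) D220252
theorem F502866 : act 6 n220252 = n212583 := d21_5 (iv5 F369630) (iv1 D187250) (iv5 F360803) D193230 D220252 (iv5 F470484) F470486 (iv5 D193326) (iv6 D101456) (iv1 F155997)
theorem F502867 : act 2 n197654 = n220252 := d15_3 (iv0 D220252) (iv0 F389255) D197654
theorem F502868 : act 1 n197652 = n220252 := d15_0 (iv0 D220252) (iv7 F473665) F473663
theorem F502869 : act 7 n220252 = n197649 := d15_2 D197652 F502868 F405202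
theorem F502870 : act 3 n199593 = n220252 := d8_3 F502869 F405203 (iv7 F412792)
def n220253 : Q := act 5 n193230
theorem D220253 : act 5 n193230 = n220253 := rfl
theorem F502871 : act 2 n220253 = n218609 := d2_1 D220253 (iv5 D218609) (iv2 F389252)
theorem F502872 : act 3 n220253 = n211459 := d6_1 D220253 (iv5 D211459) (iv3 F389253)
theorem F502873 : act 4 n220253 = n215107 := d9_1 D220253 F478385 (iv4 F494698) F494699 F377050 (iv5 F377057) F405217 F464520 (iv4 F481227) F481228 (iv4 F494664) (iv5 D218594) F377019 (iv5 F156183) (iv4 F389254)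
theorem F502874 : act 6 n220253 = n199414 := d12_2 D193230 D220253 F412068 (iv6 D187251) (iv5 F360803)
theorem F502875 : act 1 n220253 = n211001 := d17_6 (iv1 D193208) F377022 (iv1 D189578) (iv5 F156183) (iv4 F389254) D220253 (iv5 D211001) F407420 F406164
theorem F502876 : act 1 n214146 = n220253 := d15_0 F502875 F459707 (iv2 F473708)
def n220254 : Q := act 3 n193239
theorem D220254 : act 3 n193239 = n220254 := rfl
theorem F502877 : act 2 n220254 = n211357 := d0_1 D220254 (iv3 D211357) F321330 D141910 F389282
theorem F502878 : act 7 n220254 = n211374 := d8_2 F502707 D220254 (iv3 F502703)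
theorem F502879 : act 0 n220254 = n211353 := d20_4 (iv4 F462068) (iv1 F462070) (iv4 F401621) D220254 F498635 F498630 (iv1 F478076) F478077 F459170 (iv1 F400459)
theorem F502880 : act 0 n211372 = n220254 := d20_4 F389265 F382004 F382002 F461322 (iv3 D220254) F401621 (iv1 F461957) F461954 (iv3 F440560) F440563
def n220255 : Q := act 5 n193239
theorem D220255 : act 5 n193239 = n220255 := rfl
theorem F502881 : act 2 n220255 = n211380 := d2_1 D220255 (iv5 D211380) F389282
theorem F502882 : act 6 n220255 = n203697 := d12_2 F481966 D220255 F429442 D214592 (iv5 F481962)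
theorem F502883 : act 7 n220255 = n215349 := d13_2 F502707 D220255 (iv5 F502701)
theorem F502884 : act 1 n220255 = n215553 := d17_8 (iv1 F480326) (iv5 D190067) F361105 D95651 D190126 F388940 F389278 D220255 F480466
theorem F502885 : act 0 n220255 = n215554 := d18_0 F480470 (iv1 D215526) F348936 (iv5 D141984) (iv4 F165314) F388220 (iv4 F165412) F389278 D220255
def n220256 : Q := act 6 n193241
theorem D220256 : act 6 n193241 = n220256 := rfl
theorem F502886 : act 2 n220256 = n193242 := d3_1 D220256 (iv6 D193242) D193241
theorem F502887 : act 3 n220256 = n202615 := d7_1 D220256 (iv6 F424761) (iv3 F389283)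
theorem F502888 : act 4 n220256 = n196694 := d10_1 D220256 (iv6 F401510) (iv4 F389284)
theorem F502889 : act 7 n220256 = n196784 := d14_2 (iv7 F389286) D220256 (iv6 D196784) F165382 D107353
theorem F502890 : act 0 n220256 = n196799 := d21_4 F502739 (iv1 F496273) (iv5 F389285) D220256 F401840 F459239 (iv1 F480195) (iv5 F502752) (iv6 D220227) D220225
theorem F502891 : act 0 n196798 = n220256 := d21_4 (iv5 F371618) F371619 (iv5 F419945) (iv6 F419951) (iv6 D220256) F389285 (iv1 F461360) F461356 F241494 D153624
def n220257 : Q := act 0 n193242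
theorem D220257 : act 0 n193242 = n220257 := rfl
theorem F502892 : act 5 n220257 = n209971 := d19_1 D220257 F460083 (iv3 F460082) F455525 F388198 (iv4 F401973) F401972 F359111 F318522 (iv4 F325302) (iv3 D111897) D111895 (iv5 F390522) (iv4 D193635) F355151 (iv1 F357285) (iv5 D101396) (iv4 F156194) (iv3 F389289)
theorem F502893 : act 2 n196799 = n220257 := d15_3 (iv0 D220257) (iv0 F466114) F466113
theorem F502894 : act 1 n196784 = n220257 := d15_0 (iv0 D220257) F389291 (iv2 F401790)
theorem F502895 : act 7 n220257 = n196798 := d15_2 (iv0 F466115) F502894 (iv2 F466116)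
theorem F502896 : act 6 n219088 = n220257 := d21_3 F501745 F459235 (iv5 F497123) (iv1 F502894) (iv6 D196784) D196783 F401787 F224937 D202463 F501747
theorem F502897 : act 3 n220257 = n209972 := d7_1 F502896 F455583 (iv3 F497122)
def n220258 : Q := act 1 n193249
theorem D220258 : act 1 n193249 = n220258 := rfl
theorem F502898 : act 1 n220258 = n204603 := d15_1 D220258 (iv7 F500539) F500536
theorem F502899 : act 7 n220258 = n209784 := d15_2 (iv0 F502766) D220258 (iv2 F502760)
theorem F502900 : act 4 n201977 = n220258 := d20_0 (iv1 D220258) (iv4 F469406) (iv3 D213196) (iv1 D152793) (iv3 D72100) (iv4 D33290) (iv1 F42601) D55037 D119612 (iv1 F422591)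
theorem F502901 : act 5 n208511 = n220258 := d21_0 (iv1 D220258) F389320 (iv6 D185105) F356382 D88264 D185226 F363293 F253206 D204459 F449667
theorem F502902 : act 6 n201976 = n220258 := d21_3 (iv5 F406300) (iv1 F406303) (iv5 F422585) (iv1 D220258) (iv6 D193249) (iv5 D101402) (iv1 D47195) D47197 D101409 F345483
theorem F502903 : act 2 n220258 = n193331 := d3_1 F502902 F400889 (iv2 F422583)
theorem F502904 : act 3 n220258 = n209205 := d7_1 F502902 (iv6 D209205) (iv3 F422584)
def n220259 : Q := act 1 n193250
theorem D220259 : act 1 n193250 = n220259 := rfl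
theorem F502905 : act 4 n213871 = n220259 := d20_0 (iv1 D220259) (iv4 F500482) F500481 F423418 F244858 (iv4 D117680) D117678 D203102 (iv3 F481837) (iv1 F481839)
theorem F502906 : act 6 n204568 = n220259 := d21_3 (iv5 D204479) (iv1 F363104) (iv5 F432896) (iv1 D220259) (iv6 D193250) F290103 F356196 (iv5 F343854) D193151 F432666
theorem F502907 : act 5 n208664 = n220259 := d21_6 (iv5 D91165) D91161 D188286 (iv6 F409138) F409140 F450373 (iv1 D220259) F389323 (iv6 D191333) (iv1 F295080)
theorem F502908 : act 2 n220259 = n213873 := d2_1 F502907 F472523 (iv2 F450374)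
theorem F502909 : act 3 n205089 = n220259 := d0_0 F502908 F472521 F470342 F454778 F453667
def n220260 : Q := act 0 n193251
theorem D220260 : act 0 n193251 = n220260 := rfl
theorem F502910 : act 4 n220260 = n219847 := d18_3 (iv1 F360795) (iv4 F389324) D220260 F500873 F431009 F433510 F461435 F461431 F429392
theorem F502911 : act 3 n220260 = n219839 := d20_5 F385983 (iv1 D101407) D101408 D193251 D220260 F500830 F500337 F500334 (iv3 D193868) (iv1 F385981)
theorem F502912 : act 1 n211402 = n220260 := d15_0 (iv0 D220260) (iv7 F498082) F498080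
theorem F502913 : act 6 n219837 = n220260 := d7_0 F502911 (iv6 D219839) D219837
def n220261 : Q := act 2 n193251
theorem D220261 : act 2 n193251 = n220261 := rfl
theorem F502914 : act 3 n220261 = n196809 := d0_2 D193251 D220261 (iv2 F422474) F422475 F362201
theorem F502915 : act 4 n220261 = n193253 := d1_2 (iv4 F389324) D220261 (iv2 D193253)
theorem F502916 : act 6 n220261 = n196807 := d3_2 (iv6 F389325) D220261 F401862
theorem F502917 : act 7 n220261 = n211402 := d4_2 F498082 D220261 (iv2 F498080)
theorem F502918 : act 0 n196809 = n202318 := d20_4 F422331 (iv1 F389330) (iv4 F502915) F502914 (iv3 D202318) F336275 (iv1 F359935) F176330 (iv3 F179800) F422334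
def n220262 : Q := act 5 n193251
theorem D220262 : act 5 n193251 = n220262 := rfl
theorem F502919 : act 3 n220262 = n193252 := d6_1 D220262 (iv5 D193252) D193251
theorem F502920 : act 6 n220262 = n219806 := d12_2 (iv6 F389325) D220262 F500700 F461209 (iv5 D211342)
theorem F502921 : act 4 n220262 = n213927 := d20_6 F388344 F343888 (iv4 F346027) (iv3 F391253) F391255 (iv3 F502919) (iv1 D213927) (iv4 F388349) (iv3 D192961) D192960
theorem F502922 : act 6 n213927 = n215796 := d10_2 (iv6 F502920) F502921 (iv4 F500701)
def n220263 : Q := act 6 n193252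
theorem D220263 : act 6 n193252 = n220263 := rfl
theorem F502923 : act 2 n220263 = n212748 := d3_1 D220263 (iv6 F467347) F422479
theorem F502924 : act 3 n220263 = n219806 := d7_1 D220263 (iv6 F502920) F502919
theorem F502925 : act 0 n212750 = n220263 := d21_4 (iv5 D193281) F356386 D192280 (iv6 F467350) (iv6 D220263) (iv5 D193252) (iv1 F356197) D193879 (iv6 F485671) F485673
theorem F502926 : act 7 n212749 = n220263 := d8_0 F502924 F500703 F469346
theorem F502927 : act 0 n220263 = n212751 := d20_4 F500492 F485317 (iv4 F500701) (iv3 F502924) F467351 F234525 (iv1 F234386) D212713 (iv3 F467211) D219763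
def n220264 : Q := act 3 n193255
theorem D220264 : act 3 n193255 = n220264 := rfl
theorem F502928 : act 4 n220264 = n219804 := d5_2 D193255 D220264 (iv3 D219804) F386275 F386034
theorem F502929 : act 0 n220264 = n214174 := d20_4 F363854 (iv1 F352687) D193255 D220264 (iv3 D214174) F361911 (iv1 F241562) (iv4 D153692) D153691 F361914
theorem F502930 : act 5 n198193 = n220264 := d17_1 F434650 F502929 F473852 F450883 (iv5 F450886) (iv0 D193874) (iv5 F370513) (iv0 F370514) (iv4 F434649)
theorem F502931 : act 6 n198350 = n220264 := d21_3 F332215 F222466 (iv5 F407713) F502929 F473853 F402307 F400512 (iv5 F400792) (iv6 D196480) (iv1 F358704)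
theorem F502932 : act 1 n220264 = n214617 := d15_1 (iv0 F502929) (iv7 F476074) F473855
def n220265 : Q := act 5 n193255
theorem D220265 : act 5 n193255 = n220265 := rfl
theorem F502933 : act 2 n220265 = n193259 := d2_1 D220265 (iv5 D193259) (iv2 F389333)
theorem F502934 : act 3 n220265 = n198193 := d6_1 D220265 F502930 (iv3 D220264)
theorem F502935 : act 4 n220265 = n217631 := d9_1 D220265 (iv5 D217631) (iv4 D187680) F139207 F138818 (iv5 F155986) D193156 D220221 F502723 (iv5 D217667) (iv4 D187720) (iv5 F145629) (iv4 F377064) F377065 D193255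
theorem F502936 : act 0 n220265 = n208575 := d17_2 (iv1 F389334) D220265 F449965 F389237 F385908 F369089 (iv5 F371298) (iv0 D187714) D187715
theorem F502937 : act 1 n220265 = n193906 := d17_6 F339537 D137602 (iv1 F377067) F377065 D193255 D220265 (iv5 D193906) (iv0 F157418) (iv4 D101379)
theorem F502938 : act 6 n220265 = n198192 := d21_3 (iv5 D217659) (iv1 F389334) D220265 F407176 D215245 F479019 (iv1 F455654) D218369 (iv6 F501861) F501863
def n220266 : Q := act 6 n193255
theorem D220266 : act 6 n193255 = n220266 := rfl
theorem F502939 : act 2 n220266 = n193260 := d3_1 D220266 (iv6 D193260) (iv2 F389333)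
theorem F502940 : act 3 n220266 = n198350 := d7_1 D220266 F502931 (iv3 D220264)
theorem F502941 : act 4 n220266 = n193256 := d10_1 D220266 (iv6 D193256) D193255
theorem F502942 : act 5 n220266 = n199566 := d12_1 D220266 (iv6 D199566) (iv5 F407175) (iv6 F502938) (iv5 D220265)
theorem F502943 : act 0 n199088 = n220266 := d21_4 (iv5 D219864) D219862 (iv5 F500933) (iv6 F410607) (iv6 D220266) D220265 F502936 F449965 D220251 F502863
theorem F502944 : act 7 n209371 = n220266 := d13_0 F502942 F412692 F453433
def n220267 : Q := act 2 n193258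
theorem D220267 : act 2 n193258 = n220267 := rfl
theorem F502945 : act 4 n220267 = n193266 := d1_2 (iv4 F389338) D220267 (iv2 D193266)
theorem F502946 : act 5 n220267 = n214286 := d2_2 F482878 D220267 (iv2 F482875)
theorem F502947 : act 6 n220267 = n197453 := d3_2 F389351 D220267 F404405
theorem F502948 : act 7 n220267 = n214181 := d4_2 F502718 D220267 (iv2 F502721)
theorem F502949 : act 1 n220267 = n214182 := d15_0 (iv0 F502719) F502718 D220267
theorem F502950 : act 1 n199096 = n220267 := d15_0 F502949 F473883 (iv2 F410645)
theorem F502951 : act 6 n214181 = n196554 := d14_1 F502948 F473850 (iv6 D214173) (iv7 F404402) (iv6 F502947)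
def n220268 : Q := act 1 n193259
theorem D220268 : act 1 n193259 = n220268 := rfl
theorem F502952 : act 7 n220268 = n208575 := d15_2 F500422 D220268 (iv2 F500419)
theorem F502953 : act 5 n220268 = n193903 := d17_7 (iv1 F365617) (iv5 F368134) F372947 F145059 D101420 D193259 D220268 F391352 (iv4 D193223)
theorem F502954 : act 3 n208578 = n220268 := d20_3 (iv4 F360124) (iv1 F405488) (iv4 F449978) (iv1 D220268) (iv3 F482876) F482877 F459299 F459296 F223478 D140374
theorem F502955 : act 2 n220268 = n193906 := d0_1 F502954 (iv3 F401750) (iv2 F470385) F470386 (iv2 F449977)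
def n220269 : Q := act 1 n193260
theorem D220269 : act 1 n193260 = n220269 := rfl
theorem F502956 : act 1 n220269 = n209371 := d15_1 D220269 F502944 F502939
theorem F502957 : act 5 n220269 = n198811 := d18_9 F459430 F459427 (iv1 F414311) (iv4 F414313) (iv5 D128808) (iv4 F99799) (iv0 F389354) (iv4 F389340) D220269
theorem F502958 : act 3 n198812 = n220269 := d20_3 (iv4 F164852) D196411 (iv4 F409364) (iv1 D220269) F389352 (iv4 F389353) (iv1 F434266) F434265 (iv3 D196414) (iv1 D106960)
theorem F502959 : act 2 n220269 = n199088 := d0_1 F502958 (iv3 D199088) F409336 (iv3 F409342) (iv2 F409361)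
def n220270 : Q := act 7 n193260
theorem D220270 : act 7 n193260 = n220270 := rfl
theorem F502960 : act 2 n220270 = n209371 := d4_1 D220270 F502944 F502939
theorem F502961 : act 3 n220270 = n197452 := d8_1 D220270 (iv7 F404399) (iv3 F389352)
theorem F502962 : act 4 n220270 = n193263 := d11_1 D220270 (iv7 D193263) (iv4 F389340)
theorem F502963 : act 5 n220270 = n215375 := d13_1 D220270 F479655 F400799
theorem F502964 : act 1 n199088 = n220270 := d15_1 (iv0 F502943) (iv7 D220270) (iv2 F502939)
def n220271 : Q := act 6 n193267
theorem D220271 : act 6 n193267 = n220271 := rfl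
theorem F502965 : act 2 n220271 = n220030 := d3_1 D220271 F501738 F480473
theorem F502966 : act 3 n220271 = n193269 := d7_1 D220271 (iv6 D193269) (iv3 F389346)
theorem F502967 : act 4 n220271 = n218803 := d10_1 D220271 (iv6 F497759) F497756
theorem F502968 : act 5 n220271 = n219664 := d12_1 D220271 (iv6 D219664) F389348 (iv6 D193268) D193267
def n220272 : Q := act 5 n193269
theorem D220272 : act 5 n193269 = n220272 := rfl
theorem F502969 : act 2 n220272 = n204391 := d2_1 D220272 (iv5 F488612) F488610
theorem F502970 : act 3 n220272 = n219664 := d6_1 D220272 (iv5 F502968) F502966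
theorem F502971 : act 6 n220272 = n193272 := d12_2 D193269 D220272 (iv5 D193272) (iv6 D101425) D101424
theorem F502972 : act 4 n220272 = n204368 := d16_2 (iv4 F389367) D220272 (iv5 D204368) D204367 F432245 (iv4 F392494) (iv5 F488625) (iv7 D217374) F369610
theorem F502973 : act 7 n220272 = n204395 := d16_8 F432254 (iv5 D204369) F392922 (iv5 D194356) F158493 D103248 (iv4 F389367) D220272 F432376
theorem F502974 : act 1 n220272 = n211052 := d17_6 (iv1 F491964) F381872 (iv1 D103247) D103248 (iv4 F389367) D220272 (iv5 F491951) (iv0 D218060) D218062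
def n220273 : Q := act 7 n193269
theorem D220273 : act 7 n193269 = n220273 := rfl
theorem F502975 : act 4 n220273 = n194365 := d11_1 D220273 (iv7 D194365) (iv4 F389367)
theorem F502976 : act 5 n220273 = n204395 := d13_1 D220273 (iv7 F502973) (iv5 D220272)
theorem F502977 : act 1 n218059 = n220273 := d15_1 (iv0 F491950) (iv7 D220273) (iv2 F488610)
theorem F502978 : act 1 n220273 = n218058 := d15_1 F502977 F491942 (iv2 F491946)
def n220274 : Q := act 3 n193278
theorem D220274 : act 3 n193278 = n220274 := rfl
theorem F502979 : act 7 n220274 = n219804 := d8_2 (iv7 F389387) D220274 (iv3 D219804)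
theorem F502980 : act 0 n220274 = n204810 := d19_4 F356430 (iv5 F356436) D193278 D220274 F433675 F234524 (iv3 D84724) D84722 D177984 F277531 (iv3 F277669) D215886 F481931 (iv4 D194913) (iv3 F380578) (iv1 F380582) F381219 (iv4 F458548) F458547
def n220275 : Q := act 5 n193278
theorem D220275 : act 5 n193278 = n220275 := rfl
theorem F502981 : act 2 n220275 = n193281 := d2_1 D220275 (iv5 D193281) (iv2 F389386)
theorem F502982 : act 7 n220275 = n219805 := d13_2 (iv7 F389387) D220275 (iv5 D219805)
theorem F502983 : act 0 n220275 = n193873 := d17_2 (iv1 F389389) D220275 (iv5 D193873) (iv4 D102443) (iv5 F295315) (iv0 F335697) F335699 (iv0 F289742) F357231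
theorem F502984 : act 1 n220275 = n193879 := d17_6 D101406 (iv5 F356407) F356430 (iv5 F356436) D193278 D220275 (iv5 D193879) F356197 (iv4 D101408)
def n220276 : Q := act 1 n193279
theorem D220276 : act 1 n193279 = n220276 := rfl
theorem F502985 : act 1 n220276 = n193285 := d15_1 D220276 (iv7 D193285) (iv2 F389390)
theorem F502986 : act 7 n220276 = n193283 := d15_2 (iv0 F389391) D220276 (iv2 F389395)
theorem F502987 : act 3 n216008 = n220276 := d20_9 F482119 (iv1 D213947) F245277 (iv3 D135577) F201755 (iv3 F434918) F434919 (iv1 F461641) (iv4 F482511) (iv1 D220276)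
theorem F502988 : act 5 n216007 = n220276 := d21_0 (iv1 D220276) (iv5 F479190) (iv6 D215280) (iv1 F356429) (iv6 F473704) (iv5 D214145) F246509 F222630 D210604 (iv1 F482509)
theorem F502989 : act 6 n214610 = n220276 := d21_3 F481843 (iv1 F450680) (iv5 F478845) (iv1 D220276) (iv6 D193279) F356436 (iv1 F290105) (iv5 F290103) D193250 F481844
theorem F502990 : act 2 n220276 = n193284 := d2_1 F502988 F478908 F482507
theorem F502991 : act 4 n213929 = n220276 := d16_2 (iv4 F392018) (iv5 F472777) (iv5 F502988) F482505 (iv5 F482468) (iv4 F482589) F482590 (iv7 D215795) F290124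
def n220277 : Q := act 7 n193279
theorem D220277 : act 7 n193279 = n220277 := rfl
theorem F502992 : act 2 n220277 = n193285 := d4_1 D220277 (iv7 D193285) (iv2 F389390)
theorem F502993 : act 3 n220277 = n209209 := d8_1 D220277 (iv7 F502553) F502551
theorem F502994 : act 4 n220277 = n215925 := d11_1 D220277 (iv7 F482117) (iv4 F482119)
theorem F502995 : act 6 n220277 = n209370 := d14_1 D220277 F453427 F432888 F386035 D193279
theorem F502996 : act 1 n193284 = n220277 := d15_1 D193284 (iv7 D220277) F389390
theorem F502997 : act 1 n220277 = n193283 := d15_1 F502996 (iv7 F502986) F502990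
def n220278 : Q := act 0 n193280
theorem D220278 : act 0 n193280 = n220278 := rfl
theorem F502998 : act 4 n220278 = n220112 := d20_2 (iv4 F389392) D220278 F502177 (iv1 F388295) (iv3 F386780) D193309 (iv1 F397741) D215033 F477992 (iv1 D193287)
theorem F502999 : act 6 n211691 = n220278 := d10_0 F502998 F502178 F501262
theorem F503000 : act 7 n220110 = n220278 := d11_0 F502998 (iv7 D220112) (iv4 F502170)
def n220279 : Q := act 2 n193280
theorem D220279 : act 2 n193280 = n220279 := rfl
theorem F503001 : act 4 n220279 = n193288 := d1_2 (iv4 F389392) D220279 (iv2 D193288)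
theorem F503002 : act 1 n220279 = n220110 := d15_0 (iv0 F502171) F472548 D220279
def n220280 : Q := act 5 n193280
theorem D220280 : act 5 n193280 = n220280 := rfl
theorem F503003 : act 3 n220280 = n193281 := d6_1 D220280 (iv5 D193281) D193280

end Cfsg.Agent.Helper17.ONTC
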