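import Cfsg.Agent.Helper17.ONTC.Facts58

set_option autoImplicit false
set_option linter.all false

noncomputable section

namespace Cfsg.Agent.Helper17.ONTC

theorem F503004 : act 4 n220280 = n213925 := d16_2 (iv4 F389392) D220280 (iv5 D213925) (iv4 F366109) (iv5 F401351) D214661 F476267 F457232 (iv2 D193288)
def n220281 : Q := act 6 n193281
theorem D220281 : act 6 n193281 = n220281 := rfl
theorem F503005 : act 4 n220281 = n213206 := d10_1 D220281 (iv6 F481632) F481633
def n220282 : Q := act 3 n193283
theorem D220282 : act 3 n193283 = n220282 := rfl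
theorem F503006 : act 2 n220282 = n209236 := d0_1 D220282 F452827 F218798 (iv3 F220086) F389395
theorem F503007 : act 4 n220282 = n216049 := d5_2 F422782 D220282 F482662 F422786 (iv3 F422781)
theorem F503008 : act 5 n220282 = n204640 := d6_2 F478903 D220282 F478905
theorem F503009 : act 6 n220282 = n209235 := d7_2 (iv6 F389394) D220282 F452821
theorem F503010 : act 7 n220282 = n216008 := d8_2 F502986 D220282 F502987
theorem F503011 : act 1 n210786 = n220282 := d15_1 (iv0 F461649) F503010 F482510
theorem F503012 : act 0 n209752 = n220282 := d21_4 D193584 F391416 D219246 F497921 F503009 F452823 (iv1 D207839) F345909 D143092 F363136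
def n220283 : Q := act 4 n193284
theorem D220283 : act 4 n193284 = n220283 := rfl
theorem F503013 : act 2 n220283 = n213929 := d1_1 D220283 F502991 F502990
theorem F503014 : act 3 n220283 = n202079 := d5_1 D220283 (iv4 F428865) F428863 F354162 F389397
theorem F503015 : act 7 n220283 = n209774 := d11_2 (iv7 F389396) D220283 F454910
theorem F503016 : act 5 n220283 = n215792 := d16_1 D220283 F481598 (iv5 F383542) (iv4 F478853) F478850 (iv4 F478901) F478903 (iv7 F502986) F502990
theorem F503017 : act 6 n202076 = n220283 := d7_0 F503014 (iv6 D202079) D202076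
def n220284 : Q := act 6 n193284
theorem D220284 : act 6 n193284 = n220284 := rfl
theorem F503018 : act 2 n220284 = n214610 := d3_1 D220284 F502989 F502990
theorem F503019 : act 3 n220284 = n193507 := d7_1 D220284 F390117 F389397
theorem F503020 : act 4 n220284 = n202076 := d10_1 D220284 F503017 (iv4 D220283)
theorem F503021 : act 7 n220284 = n208665 := d14_2 (iv7 F389396) D220284 F450377 (iv7 F328195) D136913
theorem F503022 : act 5 n220284 = n208666 := d21_6 F253226 D204219 F453429 (iv6 F502995) (iv1 F502996) D220284 (iv1 F450380) (iv5 F472523) (iv6 D213873) F344870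
theorem F503023 : act 0 n209725 = n220284 := d21_4 (iv5 D76834) (iv1 F115331) (iv5 F253144) (iv6 F454767) (iv6 D220284) F478908 (iv1 D215214) (iv5 F366924) (iv6 D124402) F301960
theorem F503024 : act 0 n204801 = n202076 := d18_2 (iv1 F365136) (iv4 F433635) (iv4 F503020) F503022 F450379 F409157 F450883 (iv0 D208041) F365138
theorem F503025 : act 0 n220284 = n214604 := d21_7 (iv5 D146924) D146921 (iv5 F429671) (iv6 F450348) (iv1 F450712) F450710 (iv5 F503022) F476014 (iv6 D203751) (iv1 F341477)
def n220285 : Q := act 5 n193291
theorem D220285 : act 5 n193291 = n220285 := rfl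
theorem F503026 : act 3 n220285 = n205044 := d6_1 D220285 F434758 F459258
theorem F503027 : act 6 n220285 = n199433 := d12_2 (iv6 F481555) D220285 F412175 (iv6 F394985) D215782
theorem F503028 : act 7 n220285 = n216064 := d13_2 (iv7 F459257) D220285 F482736
theorem F503029 : act 4 n220285 = n214921 := d16_2 F483574 D220285 (iv5 F477444) (iv4 F450398) (iv5 F488102) F488101 F470271 (iv7 F456370) F483575
def n220286 : Q := act 5 n193292
theorem D220286 : act 5 n193292 = n220286 := rfl
theorem F503030 : act 2 n220286 = n215237 := d2_1 D220286 F479003 F406428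
theorem F503031 : act 3 n220286 = n211902 := d6_1 D220286 (iv5 F463497) F460191
theorem F503032 : act 7 n220286 = n215238 := d13_2 F459654 D220286 F479004
theorem F503033 : act 1 n220286 = n215239 := d17_8 F478382 F478379 (iv1 F481330) (iv5 D215737) (iv4 F414757) F414758 (iv0 F389406) D220286 F479007
theorem F503034 : act 0 n220286 = n203972 := d21_1 D220286 (iv5 F482026) F482027 F488950 (iv6 D217453) (iv5 D187329) (iv1 F360816) (iv5 D101444) D101445 (iv1 F389430)
theorem F503035 : act 6 n220286 = n203974 := d21_3 (iv5 D193305) (iv1 F389430) D220286 (iv1 D203974) F358862 F325521 (iv1 F300151) (iv5 F478421) F478422 F478193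
def n220287 : Q := act 5 n193294
theorem D220287 : act 5 n193294 = n220287 := rfl
theorem F503036 : act 2 n220287 = n215238 := d2_1 D220287 F479004 F459656
theorem F503037 : act 3 n220287 = n216058 := d6_1 D220287 (iv5 D216058) (iv3 F389409)
theorem F503038 : act 6 n220287 = n200696 := d12_2 (iv6 F459697) D220287 (iv5 F417537) F412004 (iv5 F459695)
theorem F503039 : act 7 n220287 = n215237 := d13_2 (iv7 F406433) D220287 F479003
theorem F503040 : act 4 n220287 = n200691 := d16_2 D193294 D220287 (iv5 D200691) F176545 D188800 F389408 (iv5 D193293) (iv7 F385787) F385786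
theorem F503041 : act 1 n220287 = n203972 := d17_6 (iv1 F483349) (iv5 F493621) F493622 (iv5 D193295) D193294 D220287 (iv5 F482026) (iv0 F482033) (iv4 F483345)
theorem F503042 : act 0 n220287 = n215239 := d18_0 F479007 F478382 (iv4 F482735) F482736 F459254 (iv0 F438153) F377076 F389411 D220287
def n220288 : Q := act 0 n193296
theorem D220288 : act 0 n193296 = n220288 := rfl
theorem F503043 : act 5 n220288 = n204400 := d17_3 F469651 F405365 D220288 F432396 F198209 F198122 D204368 (iv0 F491979) (iv4 F491981)
theorem F503044 : act 4 n220288 = n194363 := d18_3 (iv1 D194421) (iv4 F389415) D220288 F392949 (iv4 D128218) D128217 (iv4 F422849) F425923 F425921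
theorem F503045 : act 2 n218063 = n220288 := d1_3 F503044 F488614 (iv4 F491966)
theorem F503046 : act 7 n204399 = n220288 := d11_0 F503044 (iv7 F488618) F488622
def n220289 : Q := act 1 n193296
theorem D220289 : act 1 n193296 = n220289 := rfl
theorem F503047 : act 7 n220289 = n218063 := d15_2 (iv0 D220288) D220289 F503045
theorem F503048 : act 5 n220289 = n204370 := d17_7 (iv1 F393094) (iv5 D153367) (iv1 F354082) D206303 F440155 F405365 D220289 (iv0 F453811) F453808
theorem F503049 : act 4 n220289 = n194364 := d18_7 (iv1 F392497) D194362 (iv1 F392947) F158647 D103363 (iv4 F389415) D220289 F488627 F488625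
theorem F503050 : act 2 n204399 = n220289 := d1_3 F503049 (iv2 F488620) F488622
def n220290 : Q := act 3 n193297
theorem D220290 : act 3 n193297 = n220290 := rfl
theorem F503051 : act 2 n220290 = n220112 := d0_1 D220290 F502177 F388292 (iv3 F497627) F497626
theorem F503052 : act 5 n220290 = n214096 := d6_2 F497617 D220290 (iv3 F497616)
theorem F503053 : act 6 n220290 = n210895 := d7_2 F404839 D220290 (iv3 F459190)
theorem F503054 : act 7 n220290 = n220107 := d8_2 (iv7 F497608) D220290 F502156
theorem F503055 : act 0 n220290 = n204770 := d19_4 (iv1 D195400) D195401 (iv4 F404840) D220290 (iv5 D204770) (iv4 F436682) F401112 F302242 (iv5 D83589) (iv4 D38543) (iv3 F59359) F320134 D74072 (iv4 F321977) (iv3 F320625) F333696 (iv5 F333692) D213831 F472281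
theorem F503056 : act 0 n198046 = n220290 := d21_4 (iv5 D140422) F101600 (iv5 F168874) D198046 F503053 F459189 F226613 (iv5 F400541) (iv6 F412555) (iv1 F412557)
def n220291 : Q := act 5 n193300
theorem D220291 : act 5 n193300 = n220291 := rfl
theorem F503057 : act 3 n220291 = n216051 := d6_1 D220291 (iv5 F494745) F494744
theorem F503058 : act 6 n220291 = n195471 := d12_2 F463700 D220291 (iv5 F403775) F385480 (iv5 F463699)
theorem F503059 : act 4 n220291 = n202814 := d17_4 (iv1 F401214) F438761 (iv1 F438758) D220291 (iv5 F489045) F489046 F488571 F453187 F453184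
def n220292 : Q := act 1 n193301
theorem D220292 : act 1 n193301 = n220292 := rfl
theorem F503060 : act 1 n220292 = n204751 := d15_1 D220292 (iv7 F461527) F461524
theorem F503061 : act 7 n220292 = n204742 := d15_2 (iv0 F433266) D220292 F433456
theorem F503062 : act 5 n208556 = n220292 := d21_0 (iv1 D220292) (iv5 D193301) D193302 (iv1 F407151) (iv6 D197851) D197850 F406020 (iv5 D134729) D134730 D208556
theorem F503063 : act 2 n220292 = n204752 := d2_1 F503062 F433470 F449876
def n220293 : Q := act 4 n193301
theorem D220293 : act 4 n193301 = n220293 := rfl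
theorem F503064 : act 3 n220293 = n194748 := d5_1 D220293 (iv4 D194748) F159919 (iv4 F156257) (iv3 F389420)
theorem F503065 : act 6 n220293 = n214695 := d10_2 F476255 D220293 F476428
def n220294 : Q := act 0 n193305
theorem D220294 : act 0 n193305 = n220294 := rfl
theorem F503066 : act 5 n220294 = n220236 := d17_1 D220294 F502791 F456960 F268402 (iv5 F354342) F395419 (iv5 F459557) (iv0 F459558) F389427
theorem F503067 : act 4 n220294 = n205148 := d18_1 D220294 F435163 (iv4 F223567) D210967 F459537 F388991 D193292 F389430 D193305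
theorem F503068 : act 2 n205222 = n220294 := d15_3 (iv0 D220294) (iv0 F478193) F478190
theorem F503069 : act 6 n220294 = n205147 := d3_2 D205222 F503068 F435155
theorem F503070 : act 7 n220294 = n206079 := d4_2 F478190 F503068 (iv2 F478188)
theorem F503071 : act 1 n200045 = n220294 := d15_1 F478191 F503070 (iv2 F478188)
def n220295 : Q := act 7 n193305
theorem D220295 : act 7 n193305 = n220295 := rfl
theorem F503072 : act 2 n220295 = n200045 := d4_1 D220295 F414759 (iv2 F389425)
theorem F503073 : act 3 n220295 = n194487 := d8_1 D220295 (iv7 F394636) F394635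
theorem F503074 : act 4 n220295 = n215721 := d11_1 D220295 F481233 F389427
theorem F503075 : act 5 n220295 = n193306 := d13_1 D220295 (iv7 D193306) D193305
theorem F503076 : act 6 n220295 = n197873 := d14_1 D220295 (iv7 F418220) (iv6 F430260) F430261 (iv6 F389426)
theorem F503077 : act 1 n206079 = n220295 := d15_1 (iv0 F439161) (iv7 D220295) F389425
theorem F503078 : act 1 n220295 = n205222 := d15_1 F503077 (iv7 F478190) F478188
def n220296 : Q := act 4 n193310
theorem D220296 : act 4 n193310 = n220296 := rfl
theorem F503079 : act 5 n220296 = n214500 := d16_1 D220296 F475484 (iv5 F421042) (iv4 F477867) F477870 (iv4 D193314) D193315 (iv7 F496001) (iv2 F496003)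
theorem F503080 : act 1 n220296 = n211414 := d18_6 (iv1 F390777) (iv4 F397750) (iv1 F397752) (iv4 D193309) D193310 D220296 (iv4 D211414) D211413 (iv5 F461465)
def n220297 : Q := act 6 n193310
theorem D220297 : act 6 n193310 = n220297 := rfl
theorem F503081 : act 3 n220297 = n218800 := d7_1 D220297 (iv6 F501322) F501321
def n220298 : Q := act 0 n193313
theorem D220298 : act 0 n193313 = n220298 := rfl
theorem F503082 : act 5 n220298 = n219215 := d17_3 D211433 F461513 D220298 (iv4 D219215) F381600 (iv0 F477874) (iv5 F480325) (iv0 D215525) F348936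
theorem F503083 : act 4 n220298 = n214182 := d18_1 D220298 (iv1 F502949) F502945 F480472 F480470 F480328 (iv4 F480139) F480142 F461513
theorem F503084 : act 3 n220298 = n214094 := d20_5 (iv4 D215033) (iv1 F389445) (iv4 D193314) D193313 D220298 (iv4 F498710) F498711 (iv4 F484540) F484541 (iv1 F477995)
theorem F503085 : act 6 n220298 = n220106 := d21_5 (iv5 D204297) D204295 (iv5 F459627) (iv6 F457283) D220298 F502152 (iv1 F388278) F404907 (iv6 F479014) F479013
theorem F503086 : act 2 n197545 = n220298 := d15_3 (iv0 D220298) (iv0 F397754) (iv7 F404762)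
theorem F503087 : act 1 n210722 = n220298 := d15_0 (iv0 D220298) F457203 (iv2 F458573)
theorem F503088 : act 7 n220298 = n214092 := d15_2 (iv0 F458575) F503087 (iv2 D214092)
def n220299 : Q := act 4 n193315
theorem D220299 : act 4 n193315 = n220299 := rfl
theorem F503089 : act 5 n220299 = n207027 := d9_2 D193315 D220299 F443027 (iv5 F418727) (iv4 F475339) F475340 (iv4 D193309) D193310 D220296 F503079 F475484 (iv5 F421042) (iv4 F477867) F477870 (iv4 D193314)
theorem F503090 : act 0 n220299 = n211414 := d18_2 F461615 D220299 (iv4 D211414) (iv5 D141962) (iv4 F220701) (iv0 F397735) (iv4 F401523) (iv0 F401524) D211455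
theorem F503091 : act 3 n220299 = n207028 := d19_3 (iv1 F389436) D193315 D220299 (iv1 F478616) (iv5 D215157) (iv4 D167349) F123394 F305436 (iv5 F307031) F116524 F302122 (iv1 D17293) F12878 (iv4 F41740) D15840 F188308 D60101 D127928 (iv3 F389432)
def n220300 : Q := act 6 n193315
theorem D220300 : act 6 n193315 = n220300 := rfl
theorem F503092 : act 3 n220300 = n204075 := d7_1 D220300 F461517 (iv3 F461516)
theorem F503093 : act 5 n220300 = n196491 := d12_1 D220300 (iv6 F481951) F481952 (iv6 D193316) D193315
theorem F503094 : act 0 n220300 = n212119 := d21_4 F497571 (iv1 F389436) D193315 D220300 (iv6 D212119) (iv5 F228385) (iv1 F211449) (iv5 F404437) F410989 (iv1 F497573)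
theorem F503095 : act 0 n219203 = n220300 := d21_4 F497565 F401525 (iv5 F381505) D219203 (iv6 D220300) (iv5 D193315) (iv1 D101447) D101449 (iv6 F389450) F497569
def n220301 : Q := act 4 n193317
theorem D220301 : act 4 n193317 = n220301 := rfl
theorem F503096 : act 2 n220301 = n193320 := d1_1 D220301 (iv4 D193320) (iv2 F389448)
theorem F503097 : act 3 n220301 = n209063 := d5_1 D220301 F452061 F379325 F366555 (iv3 F389449)
theorem F503098 : act 5 n220301 = n203926 := d9_2 D193317 D220301 (iv4 D203926) (iv5 D121352) (iv4 F120172) (iv5 F311739) (iv4 F156261) (iv5 F381473) D219176 F497577 (iv4 F445796) F362726 (iv4 F314186) (iv5 D102266) (iv4 F156258)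
theorem F503099 : act 6 n220301 = n193320 := d10_2 (iv6 F389450) D220301 (iv4 D193320)
def n220302 : Q := act 4 n193318
theorem D220302 : act 4 n193318 = n220302 := rfl
theorem F503100 : act 0 n215038 = n220302 := d20_7 (iv4 F480212) (iv1 F480215) F390149 F224852 D141837 D211330 (iv4 F478016) (iv4 D220302) (iv3 F480081) (iv1 F492660)
def n220303 : Q := act 3 n193319
theorem D220303 : act 3 n193319 = n220303 := rfl
theorem F503101 : act 2 n220303 = n196352 := d0_1 D220303 F501330 (iv2 F501328) (iv3 F497560) (iv2 F497563)
theorem F503102 : act 5 n220303 = n196343 := d6_2 F461585 D220303 (iv3 F440560)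
theorem F503103 : act 7 n220303 = n211432 := d8_2 F497564 D220303 F497567
theorem F503104 : act 4 n220303 = n217085 := d20_6 (iv4 F381908) (iv1 F381909) (iv4 F389462) (iv3 F497570) (iv1 F497574) D220303 (iv1 F496280) (iv4 D218937) (iv3 F389458) F379059
theorem F503105 : act 6 n217089 = n220303 := d10_0 F503104 F487334 D217089
theorem F503106 : act 1 n219215 = n220303 := d17_8 (iv1 F496280) F496277 F390407 D217268 F488201 (iv5 F461518) F503087 F503082 F503104
theorem F503107 : act 0 n214093 = n220303 := d18_0 F503104 (iv1 F496280) (iv4 D218937) F389459 (iv4 F469601) (iv0 F469604) F393679 (iv0 F397754) D214093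
def n220304 : Q := act 4 n193319
theorem D220304 : act 4 n193319 = n220304 := rfl
theorem F503108 : act 3 n220304 = n218700 := d5_1 D220304 (iv4 D218700) (iv3 F487333) (iv4 F503104) (iv3 D220303)
theorem F503109 : act 0 n220304 = n215038 := d17_0 (iv5 D215038) F475486 (iv5 F503079) (iv4 D220296) (iv5 D193310) (iv0 D101446) D101449 D193319 D220304
theorem F503110 : act 6 n218704 = n220304 := d7_0 F503108 F495221 D218704
def n220305 : Q := act 6 n193319
theorem D220305 : act 6 n193319 = n220305 := rfl
theorem F503111 : act 3 n220305 = n217089 := d7_1 D220305 F503105 (iv3 D220303)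
theorem F503112 : act 4 n220305 = n218704 := d10_1 D220305 F503110 (iv4 D220304)
theorem F503113 : act 5 n220305 = n200938 := d12_1 D220305 F418442 F340033 D206390 F461585
theorem F503114 : act 0 n211959 = n220305 := d21_4 (iv5 D196426) F164877 D144490 D211959 (iv6 D220305) (iv5 F461585) F440563 F389266 F401258 (iv1 F400653)
def n220306 : Q := act 0 n193320
theorem D220306 : act 0 n193320 = n220306 := rfl
theorem F503115 : act 5 n220306 = n195660 := d17_3 F418722 (iv5 F418721) D220306 (iv4 D195660) (iv5 D106142) (iv0 D49058) (iv5 F77428) D106103 D195629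
theorem F503116 : act 4 n220306 = n211410 := d18_1 D220306 F461453 D211419 (iv5 F478020) F478019 F259210 F332604 (iv0 F418720) (iv5 F418721)
def n220307 : Q := act 1 n193320
theorem D220307 : act 1 n193320 = n220307 := rfl
theorem F503117 : act 4 n220307 = n211345 := d17_9 (iv1 F498065) (iv5 F498062) (iv1 D193716) D193718 (iv4 F437464) (iv5 D205688) (iv0 F418720) (iv5 F418721) D220307
theorem F503118 : act 5 n195662 = n220307 := d21_6 F106099 (iv1 D69719) D69721 D148767 D212672 (iv6 F466991) (iv1 D220307) F418721 (iv6 D201010) F176971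
def n220308 : Q := act 3 n193321
theorem D220308 : act 3 n193321 = n220308 := rfl
theorem F503119 : act 4 n220308 = n215443 := d5_2 (iv4 F389453) D220308 F480020 F273425 (iv3 F273536)
theorem F503120 : act 5 n220308 = n211454 := d6_2 (iv5 F389452) D220308 (iv3 D211454)
theorem F503121 : act 0 n220308 = n220111 := d19_4 (iv1 D174679) D174681 (iv4 F389453) D220308 (iv5 D220111) (iv4 F502170) F502169 (iv1 F473218) (iv5 F502214) F502213 (iv3 F471331) (iv1 D213621) (iv5 F386833) (iv4 F461104) (iv3 F466397) F501369 F501367 F495211 F413759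
theorem F503122 : act 1 n220308 = n214096 := d15_1 (iv0 F503121) F497614 (iv2 F502172)
theorem F503123 : act 6 n220308 = n203896 := d21_5 F225014 (iv1 F216980) D156341 D214096 (iv1 F503122) (iv5 F479429) (iv1 D215330) (iv5 F348947) (iv6 D141989) D141986
def n220309 : Q := act 6 n193321
theorem D220309 : act 6 n193321 = n220309 := rfl
theorem F503124 : act 3 n220309 = n203896 := d7_1 D220309 (iv6 F503123) (iv3 D220308)
theorem F503125 : act 4 n220309 = n215496 := d10_1 D220309 (iv6 D215496) (iv4 F389453)
theorem F503126 : act 0 n220309 = n218832 := d21_10 F495837 F393673 D199140 F410849 F402298 F381860 (iv5 D142139) D142136 (iv5 F389452) D220309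
theorem F503127 : act 0 n205102 = n220309 := d21_4 (iv5 F389424) (iv1 F406202) F434981 (iv6 F434980) (iv6 D220309) F389452 (iv1 F225169) D142158 D211458 F461631
def n220310 : Q := act 6 n193322
theorem D220310 : act 6 n193322 = n220310 := rfl
theorem F503128 : act 3 n220310 = n209469 := d7_1 D220310 F453814 F449904
theorem F503129 : act 4 n220310 = n211747 := d10_1 D220310 F462935 (iv4 F389457)
theorem F503130 : act 5 n220310 = n209468 := d12_1 D220310 F453809 (iv5 D142011) D142012 (iv5 F389456)
theorem F503131 : act 0 n218833 = n220310 := d21_4 F464457 (iv1 F402288) F402291 D218833 (iv6 D220310) F389456 F348342 D142139 (iv6 F381860) (iv1 F464459)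
def n220311 : Q := act 7 n193342
theorem D220311 : act 7 n193342 = n220311 := rfl
theorem F503132 : act 2 n220311 = n215619 := d4_1 D220311 F480784 F479911
theorem F503133 : act 3 n220311 = n194533 := d8_1 D220311 F411206 (iv3 F411205)
theorem F503134 : act 4 n220311 = n193343 := d11_1 D220311 (iv7 D193343) D193342
theorem F503135 : act 1 n199239 = n220311 := d15_1 (iv0 F479914) (iv7 D220311) (iv2 F479911)
theorem F503136 : act 1 n220311 = n211546 := d15_1 F503135 F462065 F439068
def n220312 : Q := act 1 n193345
theorem D220312 : act 1 n193345 = n220312 := rfl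
theorem F503137 : act 1 n220312 = n203966 := d15_1 D220312 F430623 (iv2 F389525)
theorem F503138 : act 7 n220312 = n204163 := d15_2 (iv0 F492773) D220312 (iv2 F492769)
theorem F503139 : act 5 n220312 = n203455 := d17_7 D119167 D203457 F428400 F426216 (iv4 F304183) D193345 D220312 (iv0 D203455) F187516
theorem F503140 : act 4 n220312 = n219469 := d17_9 (iv1 D219469) D219470 F499040 (iv5 F499070) F499071 F444414 (iv0 F366715) D193345 D220312
theorem F503141 : act 3 n193353 = n220312 := d20_3 F454645 (iv1 F450321) F450322 (iv1 D220312) F389526 (iv4 F374727) (iv1 F374737) F374735 (iv3 F431216) (iv1 F454649)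
theorem F503142 : act 6 n217640 = n220312 := d21_3 D208381 (iv1 F488406) (iv5 F489913) (iv1 D220312) F389527 F361791 F280346 (iv5 F336958) D206724 F441977
theorem F503143 : act 2 n220312 = n204164 := d3_1 F503142 F431279 D217640
def n220313 : Q := act 6 n193353
theorem D220313 : act 6 n193353 = n220313 := rfl
theorem F503144 : act 2 n220313 = n211567 := d3_1 D220313 F462177 F459068
theorem F503145 : act 3 n220313 = n217640 := d7_1 D220313 F503142 (iv3 F503141)
theorem F503146 : act 4 n220313 = n204153 := d10_1 D220313 (iv6 F450324) F450322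
theorem F503147 : act 7 n220313 = n211568 := d14_2 F487530 D220313 F484358 F484355 (iv6 F487527)
theorem F503148 : act 0 n220313 = n211570 := d21_4 (iv5 F385170) (iv1 F424560) F424558 D220313 F462185 (iv5 F450648) F450650 (iv5 F403430) (iv6 F403429) F403426
theorem F503149 : act 0 n210098 = n220313 := d21_4 F355785 (iv1 F218725) (iv5 F220893) D210098 (iv6 D220313) (iv5 F424558) F424559 (iv5 F349694) (iv6 D143069) (iv1 F355784)
def n220314 : Q := act 5 n193360
theorem D220314 : act 5 n193360 = n220314 := rfl
theorem F503150 : act 3 n220314 = n208373 := d6_1 D220314 (iv5 D208373) (iv3 F389569)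
theorem F503151 : act 4 n220314 = n210863 := d9_1 D220314 (iv5 F460921) F460920 (iv5 F458794) F458793 (iv5 F287225) (iv4 F384200) (iv5 F489946) F489945 F461029 F461024 (iv5 F239078) (iv4 F389576) (iv5 D193361) D193360
theorem F503152 : act 7 n220314 = n216749 := d13_2 (iv7 F389571) D220314 F485765
def n220315 : Q := act 5 n193367
theorem D220315 : act 5 n193367 = n220315 := rfl
theorem F503153 : act 2 n220315 = n197901 := d2_1 D220315 F406141 F398045
theorem F503154 : act 7 n220315 = n204857 := d13_2 F452374 D220315 (iv5 F452371)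
theorem F503155 : act 4 n220315 = n197723 := d16_4 (iv4 F491712) F439769 F397989 D220315 F405521 (iv4 F460227) F460228 (iv7 F502821) F502818
theorem F503156 : act 0 n220315 = n204657 := d18_0 F433157 D204665 (iv4 F433878) (iv5 F395578) (iv4 F218009) (iv0 F361749) F218430 F389599 D220315
theorem F503157 : act 6 n220315 = n197722 := d21_3 F361242 D193367 D220315 F405516 (iv6 D185560) (iv5 F294067) (iv1 F382536) (iv5 F382537) F441587 (iv1 D206615)
theorem F503158 : act 0 n204858 = n220315 := d19_0 (iv5 D220315) (iv4 F397989) F397988 (iv1 D135554) D135555 (iv4 F349116) (iv3 F391813) (iv1 F499502) F499500 (iv4 F488170) F488166 F428236 F348114 (iv4 F417672) (iv3 F417674) F277088 (iv5 D124661) (iv4 F199307) (iv3 F433875)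
def n220316 : Q := act 6 n193374
theorem D220316 : act 6 n193374 = n220316 := rfl
theorem F503159 : act 2 n220316 = n193384 := d3_1 D220316 (iv6 D193384) F389630
theorem F503160 : act 3 n220316 = n202684 := d7_1 D220316 (iv6 F425090) F389629
theorem F503161 : act 5 n220316 = n202683 := d12_1 D220316 (iv6 F425087) (iv5 D150084) D150085 (iv5 F389628)
theorem F503162 : act 0 n218023 = n220316 := d21_4 F451315 (iv1 F460995) F461000 D218023 (iv6 D220316) F389628 F274422 D150237 (iv6 F426737) F451317
def n220317 : Q := act 4 n193379
theorem D220317 : act 4 n193379 = n220317 := rfl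
theorem F503163 : act 6 n220317 = n219425 := d10_2 F501639 D220317 (iv4 F501641)
theorem F503164 : act 5 n220317 = n209703 := d16_1 D220317 F462075 (iv5 D211548) (iv4 D142901) (iv5 F322380) (iv4 F280230) (iv5 F469963) F469962 (iv2 F427407)
theorem F503165 : act 0 n220317 = n203192 := d17_0 (iv5 F453074) F470000 (iv5 D213339) (iv4 D153546) (iv5 D72598) D72597 D153542 (iv0 F389645) D220317
theorem F503166 : act 1 n220317 = n203190 := d18_6 (iv1 F306501) (iv4 F190951) F242144 F200479 D193379 D220317 (iv4 D203190) (iv0 F304679) (iv5 D124152)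
def n220318 : Q := act 6 n193380
theorem D220318 : act 6 n193380 = n220318 := rfl
theorem F503167 : act 2 n220318 = n219986 := d3_1 D220318 (iv6 D219986) (iv2 F389647)
theorem F503168 : act 3 n220318 = n193382 := d7_1 D220318 (iv6 D193382) D193380
theorem F503169 : act 4 n220318 = n211199 := d10_1 D220318 (iv6 F460574) (iv4 F389650)
theorem F503170 : act 0 n220318 = n211206 := d21_4 F366713 (iv1 F387087) (iv5 F389648) D220318 (iv6 D211206) D211205 F460602 (iv5 D202558) D202559 (iv1 F424496)
def n220319 : Q := act 0 n193384
theorem D220319 : act 0 n193384 = n220319 := rfl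
theorem F503171 : act 4 n220319 = n217761 := d20_8 (iv4 F450672) (iv1 F450675) (iv4 F450372) (iv3 F470426) (iv1 F470429) (iv3 F411257) (iv4 F411260) D220319 F490497 (iv1 F458580)
theorem F503172 : act 6 n220319 = n217760 := d21_5 (iv5 D197501) (iv1 F217633) F312670 D193384 D220319 (iv5 F501646) (iv1 D220013) (iv5 D192624) F338892 (iv1 F404586)
theorem F503173 : act 5 n220319 = n209985 := d21_0 (iv1 D209985) (iv5 F453787) (iv6 D209463) (iv1 F408382) F408380 (iv5 D197501) (iv1 F217633) F312670 D193384 D220319
theorem F503174 : act 3 n193398 = n220319 := d6_3 F503173 (iv3 F455631) (iv5 F389706)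
theorem F503175 : act 7 n218023 = n220319 := d13_0 F503173 F455632 (iv5 F491749)
def n220320 : Q := act 1 n193384
theorem D220320 : act 1 n193384 = n220320 := rfl
theorem F503176 : act 5 n209984 = n220320 := d21_0 (iv1 D220320) F411234 F411233 (iv1 F350966) (iv6 F357624) (iv5 D138270) (iv1 F219610) (iv5 F219609) D137223 D209984
theorem F503177 : act 6 n211514 = n220320 := d21_3 (iv5 D142607) D142604 D211514 (iv1 D220320) (iv6 D193384) (iv5 F312670) F312668 D186859 F461928 (iv1 D211515)
theorem F503178 : act 2 n220320 = n218023 := d3_1 F503177 (iv6 D218023) (iv2 F461920)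
theorem F503179 : act 3 n220320 = n220072 := d7_1 F503177 F501974 F487434
def n220321 : Q := act 4 n193387
theorem D220321 : act 4 n193387 = n220321 := rfl
theorem F503180 : act 2 n220321 = n209502 := d1_1 D220321 F453945 (iv2 F389662)
theorem F503181 : act 3 n220321 = n202555 := d5_1 D220321 F424477 F389673 (iv4 D193388) D193387
theorem F503182 : act 6 n220321 = n202553 := d10_2 F466714 D220321 (iv4 F466713)
theorem F503183 : act 7 n220321 = n209564 := d11_2 (iv7 F389664) D220321 F454152
theorem F503184 : act 5 n220321 = n215635 := d16_1 D220321 (iv4 D215635) (iv5 F451229) (iv4 F465915) F465914 (iv4 F404578) (iv5 F453700) F453699 (iv2 F389662)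
theorem F503185 : act 0 n220321 = n209563 := d17_0 (iv5 D209563) F419114 (iv5 F487358) (iv4 D217090) (iv5 D186756) (iv0 F155430) D170714 F389666 D220321
theorem F503186 : act 1 n220321 = n209552 := d18_6 (iv1 F361336) F361337 (iv1 F361332) F240569 (iv5 F389663) D220321 F454102 F403449 (iv5 D197186)
def n220322 : Q := act 0 n193390
theorem D220322 : act 0 n193390 = n220322 := rfl
theorem F503187 : act 5 n220322 = n208302 := d17_1 D220322 (iv1 F450032) (iv5 F450648) (iv4 F493153) F493154 F430457 (iv5 F448334) (iv0 F498607) F498603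
theorem F503188 : act 4 n220322 = n203370 := d18_1 D220322 (iv1 D203370) F351267 F216919 F98623 (iv0 F355338) (iv4 F404680) (iv0 F449093) (iv5 F449095)
theorem F503189 : act 3 n220322 = n197527 := d20_5 (iv4 F317327) (iv1 D101560) D101561 D193390 D220322 F442444 (iv1 F442446) (iv4 F450906) F450904 F352563
theorem F503190 : act 6 n220322 = n212996 := d21_5 (iv5 F425054) (iv1 F425053) D212363 F465503 D220322 (iv5 F468513) (iv1 F461253) (iv5 F489663) F489664 F427957
theorem F503191 : act 1 n214437 = n220322 := d15_0 (iv0 D220322) (iv7 F487484) F487480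
theorem F503192 : act 7 n220322 = n210213 := d15_2 (iv0 F492647) F503191 (iv2 F492643)
def n220323 : Q := act 1 n193394
theorem D220323 : act 1 n193394 = n220323 := rfl
theorem F503193 : act 1 n220323 = n217224 := d15_1 D220323 F488014 (iv2 F389695)
theorem F503194 : act 7 n220323 = n217193 := d15_2 (iv0 F491837) D220323 (iv2 F491833)
theorem F503195 : act 5 n220323 = n218025 := d17_7 (iv1 F474918) (iv5 F390906) F489606 (iv5 D217579) (iv4 F370913) D193394 D220323 F491758 F491606
theorem F503196 : act 6 n217211 = n220323 := d21_3 (iv5 F493340) (iv1 D218328) F487957 (iv1 D220323) F389696 (iv5 D101575) (iv1 F156675) F156677 (iv6 F386946) (iv1 F389900)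
theorem F503197 : act 2 n220323 = n217993 := d3_1 F503196 F491724 F487958
def n220324 : Q := act 4 n193394
theorem D220324 : act 4 n193394 = n220324 := rfl
theorem F503198 : act 2 n220324 = n217994 := d1_1 D220324 (iv4 D217994) (iv2 F389695)
theorem F503199 : act 6 n220324 = n193395 := d10_2 (iv6 F389696) D220324 (iv4 D193395)
theorem F503200 : act 7 n220324 = n217997 := d11_2 (iv7 F389697) D220324 (iv4 D217997)
theorem F503201 : act 1 n220324 = n215196 := d18_6 (iv1 D93771) (iv4 F139085) D187588 (iv4 F370913) D193394 D220324 F482611 F491805 (iv5 D189213)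
theorem F503202 : act 3 n220012 = n220324 := d8_3 F503200 (iv3 F498846) (iv7 F501650)
theorem F503203 : act 6 n203080 = n220012 := d7_0 F503202 F503199 (iv3 F473512)
def n220325 : Q := act 6 n193396
theorem D220325 : act 6 n193396 = n220325 := rfl
theorem F503204 : act 2 n220325 = n208995 := d3_1 D220325 (iv6 F451752) (iv2 F389700)
theorem F503205 : act 4 n220325 = n193397 := d10_1 D220325 (iv6 D193397) D193396
theorem F503206 : act 5 n220325 = n208989 := d12_1 D220325 F451724 (iv5 F451655) (iv6 F451657) (iv5 F389702)
theorem F503207 : act 7 n220325 = n203374 := d14_2 (iv7 F389701) D220325 (iv6 D203374) (iv7 F386968) F386967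
theorem F503208 : act 0 n220325 = n217883 := d21_4 (iv5 D151453) D151450 (iv5 F389702) D220325 (iv6 D217883) F372324 (iv1 F374096) F374097 D192537 (iv1 F387003)
theorem F503209 : act 0 n217680 = n220325 := d21_4 (iv5 D147934) D147932 (iv5 F465092) (iv6 F490081) (iv6 D220325) F389702 (iv1 F238198) (iv5 F238378) (iv6 F427943) F428312
def n220326 : Q := act 4 n193404
theorem D220326 : act 4 n193404 = n220326 := rfl
theorem F503210 : act 2 n220326 = n193409 := d1_1 D220326 (iv4 D193409) (iv2 F389734)
theorem F503211 : act 3 n220326 = n196716 := d5_1 D220326 F401575 F392965 (iv4 F392976) F392975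
theorem F503212 : act 7 n220326 = n193413 := d11_2 (iv7 F389735) D220326 (iv4 D193413)
theorem F503213 : act 5 n220326 = n220061 := d16_1 D220326 (iv4 D220061) (iv5 D192826) F303706 (iv5 F188619) (iv4 F344060) D193406 F389747 (iv2 F389734)
theorem F503214 : act 0 n220326 = n203677 := d17_0 F429380 F403957 (iv5 F403956) (iv4 D193414) F321174 F120203 D152605 (iv0 F389737) D220326
theorem F503215 : act 1 n220326 = n195409 := d18_6 F305108 (iv4 F188906) F304072 (iv4 F344077) D193404 D220326 F396920 (iv0 F353472) F332035
theorem F503216 : act 6 n220326 = n195333 := d21_5 F403665 F404077 F404075 (iv6 F396921) (iv1 F503215) (iv5 F453203) (iv1 F453202) (iv5 D195315) (iv6 F166970) F403668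
def n220327 : Q := act 6 n193404
theorem D220327 : act 6 n193404 = n220327 := rfl
theorem F503217 : act 2 n220327 = n193410 := d3_1 D220327 (iv6 D193410) (iv2 F389734)
theorem F503218 : act 3 n220327 = n205941 := d7_1 D220327 (iv6 F438506) F392975
theorem F503219 : act 4 n220327 = n195333 := d10_1 D220327 (iv6 F503216) (iv4 D220326)
theorem F503220 : act 5 n220327 = n205820 := d12_1 D220327 F437986 (iv5 F389743) (iv6 D193405) D193404
theorem F503221 : act 7 n220327 = n205819 := d14_2 (iv7 F389735) D220327 F437978 (iv7 F346518) (iv6 F358428)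
theorem F503222 : act 0 n220327 = n205887 := d21_4 (iv5 D101608) D101606 D193404 D220327 (iv6 F438276) (iv5 D175101) (iv1 D83626) D83627 F128692 (iv1 F339373)
theorem F503223 : act 0 n205823 = n220327 := d21_4 (iv5 D201183) (iv1 F374024) (iv5 F492297) F492298 (iv6 D220327) (iv5 D193404) (iv1 F156535) (iv5 F156541) D193421 F463796
def n220328 : Q := act 4 n193406
theorem D220328 : act 4 n193406 = n220328 := rfl
theorem F503224 : act 2 n220328 = n193413 := d1_1 D220328 (iv4 D193413) (iv2 F389745)
theorem F503225 : act 6 n220328 = n203185 := d10_2 (iv6 F389746) D220328 F427354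
theorem F503226 : act 7 n220328 = n193409 := d11_2 (iv7 F389747) D220328 (iv4 D193409)
theorem F503227 : act 0 n220328 = n195409 := d17_0 (iv5 F456454) F456455 F358057 (iv4 D152612) (iv5 D71984) D71983 D152608 (iv0 F389748) D220328
theorem F503228 : act 1 n220328 = n203677 := d18_6 (iv1 D119855) F87257 D55166 (iv4 F344060) D193406 D220328 (iv4 D203677) (iv0 F429201) (iv5 D203640)
def n220329 : Q := act 4 n193408
theorem D220329 : act 4 n193408 = n220329 := rfl
theorem F503229 : act 2 n220329 = n200129 := d1_1 D220329 (iv4 F454441) F454440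
theorem F503230 : act 5 n220329 = n212821 := d9_2 D193408 D220329 (iv4 D212821) (iv5 D150093) (iv4 D70625) D70626 D150096 (iv5 F438548) (iv4 F438550) (iv5 F464650) F464649 (iv5 D150098) (iv4 D70630) D70631 (iv4 F344064)
theorem F503231 : act 6 n220329 = n205869 := d10_2 (iv6 F389763) D220329 (iv4 D205869)
theorem F503232 : act 7 n220329 = n218320 := d11_2 F428797 D220329 F493304
theorem F503233 : act 0 n220329 = n207438 := d17_0 F444912 F357675 D145424 (iv4 F428742) F428743 (iv0 F313537) D131525 (iv0 F389753) D220329
theorem F503234 : act 1 n220329 = n210928 := d18_6 F311870 F307994 F107163 (iv4 F344064) D193408 D220329 F459325 F444908 F444904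
theorem F503235 : act 3 n220329 = n211021 := d19_3 (iv1 F389718) D193408 D220329 F490758 F402236 (iv4 F501255) F501253 (iv1 F408431) F353370 (iv4 F422990) F422989 (iv1 F179690) F327151 (iv4 F321064) D54410 (iv1 F189966) (iv5 F77329) (iv4 F162784) (iv3 F389714)
def n220330 : Q := act 3 n193409
theorem D220330 : act 3 n193409 = n220330 := rfl
theorem F503236 : act 4 n220330 = n211021 := d5_2 D193409 D220330 (iv3 F503235) (iv4 D220329) F389752
theorem F503237 : act 6 n220330 = n211019 := d7_2 F389761 D220330 F459772
theorem F503238 : act 0 n220330 = n219866 := d20_4 (iv4 D215046) F362742 D193409 D220330 (iv3 D219866) (iv4 D192377) F346704 D184247 D216529 F484826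
theorem F503239 : act 0 n197410 = n220330 := d20_4 F427509 (iv1 D156032) (iv4 F167245) (iv3 F404178) (iv3 D220330) (iv4 D193409) (iv1 F362743) (iv4 F397350) (iv3 F462541) F462544
def n220331 : Q := act 5 n193413
theorem D220331 : act 5 n193413 = n220331 := rfl
theorem F503240 : act 3 n220331 = n215756 := d6_1 D220331 F481429 F392961
theorem F503241 : act 4 n220331 = n214240 := d9_1 D220331 (iv5 D214240) (iv4 D157668) (iv5 F344071) (iv4 D101612) D101613 D193409 (iv5 F476017) (iv4 D214605) F304173 F305741 (iv5 D73661) F316744 D101618 D193413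
theorem F503242 : act 7 n220331 = n220061 := d13_2 F503212 D220331 (iv5 F503213)
theorem F503243 : act 0 n220331 = n212000 := d17_2 (iv1 F389779) D220331 F463868 (iv4 D161367) (iv5 D77465) (iv0 F302744) D155132 (iv0 F259338) (iv4 F360160)
theorem F503244 : act 1 n220331 = n219457 := d17_6 F321171 (iv5 F312018) (iv1 F156536) D101618 D193413 D220331 F498965 F469163 (iv4 D193414)
theorem F503245 : act 6 n220331 = n195363 := d21_3 (iv5 D212219) (iv1 F389779) D220331 (iv1 D195363) (iv6 D105544) D105543 F360521 F344611 D195417 (iv1 F464803)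
def n220332 : Q := act 3 n193414
theorem D220332 : act 3 n193414 = n220332 := rfl
theorem F503246 : act 5 n220332 = n197263 := d6_2 (iv5 F403956) D220332 (iv3 F403953)
theorem F503247 : act 6 n220332 = n197264 := d7_2 F477125 D220332 F477127
theorem F503248 : act 7 n220332 = n215048 := d8_2 (iv7 F389780) D220332 (iv3 D215048)
theorem F503249 : act 0 n220332 = n219855 := d20_4 (iv4 D101622) D101620 D193414 D220332 (iv3 D219855) (iv4 D192355) D192353 (iv4 F463655) (iv3 F463656) (iv1 D193417)
def n220333 : Q := act 1 n193418
theorem D220333 : act 1 n193418 = n220333 := rfl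
def n220334 : Q := act 5 n193418
theorem D220334 : act 5 n193418 = n220334 := rfl
theorem F503250 : act 3 n220334 = n193419 := d6_1 D220334 (iv5 D193419) D193418
theorem F503251 : act 0 n216534 = n220334 := d21_10 (iv5 D220334) F456965 (iv5 F482686) (iv6 D216054) F343129 F366478 (iv5 F427532) (iv1 F484842) (iv5 D216533) D216534
theorem F503252 : act 4 n220334 = n210716 := d20_2 (iv4 F484844) F503251 F462700 (iv1 F388251) (iv3 F388863) (iv4 F440138) F465943 F465942 F484846 (iv1 D216535)
def n220335 : Q := act 7 n193418
theorem D220335 : act 7 n193418 = n220335 := rfl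
theorem F503253 : act 3 n220335 = n193420 := d8_1 D220335 (iv7 D193420) D193418
theorem F503254 : act 4 n220335 = n193440 := d11_1 D220335 (iv7 D193440) (iv4 F389786)
theorem F503255 : act 1 n205448 = n220335 := d15_1 (iv0 F462669) (iv7 D220335) (iv2 F456471)
def n220336 : Q := act 6 n193420
theorem D220336 : act 6 n193420 = n220336 := rfl
theorem F503256 : act 4 n220336 = n193421 := d10_1 D220336 (iv6 D193421) (iv4 F389787)
theorem F503257 : act 0 n220336 = n215977 := d21_4 F474156 D219458 F498969 D220336 (iv6 D215977) F403940 (iv1 D197314) (iv5 F403805) (iv6 F469152) (iv1 F474158)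
theorem F503258 : act 5 n217653 = n220336 := d17_1 (iv1 F489955) F503257 (iv5 F485126) (iv4 D216599) (iv5 D185020) (iv0 F344322) (iv5 F483164) (iv0 D216143) D216144
theorem F503259 : act 1 n220336 = n213779 := d15_1 (iv0 F503257) (iv7 F485204) F485201
def n220337 : Q := act 3 n193423
theorem D220337 : act 3 n193423 = n220337 := rfl
theorem F503260 : act 2 n220337 = n202509 := d0_1 D220337 F424325 F180490 (iv3 F357400) (iv2 F389796)
theorem F503261 : act 4 n220337 = n197269 := d5_2 D193423 D220337 (iv3 F478059) (iv4 D215046) (iv3 F346472)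
theorem F503262 : act 5 n220337 = n202505 := d6_2 F389801 D220337 F424314
theorem F503263 : act 6 n220337 = n193649 := d7_2 (iv6 F389797) D220337 (iv3 D193649)
theorem F503264 : act 7 n220337 = n209240 := d8_2 (iv7 F389798) D220337 (iv3 D209240)
theorem F503265 : act 0 n220337 = n209740 := d20_4 (iv4 D101661) (iv1 F156559) D193423 D220337 F454810 F385246 (iv1 F385243) (iv4 F462377) F462376 (iv1 F389803)
theorem F503266 : act 0 n203395 = n220337 := d20_4 F100434 (iv1 F314634) (iv4 F186939) (iv3 F428135) (iv3 D220337) (iv4 D193423) (iv1 D101644) D101645 F353386 F320750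
def n220338 : Q := act 5 n193425
theorem D220338 : act 5 n193425 = n220338 := rfl
theorem F503267 : act 2 n220338 = n202646 := d2_1 D220338 (iv5 F424917) F389939
theorem F503268 : act 3 n220338 = n211182 := d6_1 D220338 F460494 F455693
theorem F503269 : act 4 n220338 = n193515 := d9_1 D220338 F390141 F385535 (iv5 D100500) (iv4 F154556) (iv5 F337639) (iv4 F389802) (iv5 F473700) F473699 F390133 (iv4 F383639) F383635 (iv4 F333410) F337650 (iv4 F389805)
theorem F503270 : act 6 n220338 = n202645 := d12_2 F453401 D220338 (iv5 F484769) F484770 F453946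
theorem F503271 : act 0 n220338 = n211176 := d17_2 (iv1 F389804) D220338 F460469 (iv4 D167095) (iv5 D80218) D80217 (iv5 F346473) F156559 D101661
theorem F503272 : act 1 n220338 = n215600 := d17_6 D172400 F270613 (iv1 F272861) F337650 (iv4 F389805) D220338 (iv5 D215600) F287000 (iv4 D172402)
def n220339 : Q := act 0 n193428
theorem D220339 : act 0 n193428 = n220339 := rfl
theorem F503273 : act 4 n220339 = n196972 := d18_1 D220339 F454717 F454716 D209716 F454732 F431076 F386745 D192452 F390049
theorem F503274 : act 5 n220339 = n211164 := d19_1 D220339 F460409 F422378 (iv1 F459204) F459206 (iv4 D202752) (iv3 F359319) (iv1 F248369) F242670 F231684 (iv3 F231680) F428233 F428228 F188276 F86994 (iv1 F59442) D47278 D101661 D193428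
theorem F503275 : act 3 n220339 = n211165 := d20_5 (iv4 D193422) (iv1 F156562) D101661 D193428 D220339 F460414 (iv1 F390601) F220252 (iv3 F325768) (iv1 F389794)
theorem F503276 : act 1 n219933 = n220339 := d15_0 (iv0 D220339) F411184 (iv2 F501252)
theorem F503277 : act 7 n219862 = n214853 := d16_8 F459198 F425969 F403749 (iv5 F422379) (iv4 F460409) (iv5 F503274) F503273 F500933 F477150
def n220340 : Q := act 1 n193428
theorem D220340 : act 1 n193428 = n220340 := rfl
theorem F503278 : act 1 n220340 = n219933 := d15_1 D220340 F501254 F428169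
theorem F503279 : act 4 n220340 = n211098 := d17_9 F460088 (iv5 F455596) D220087 F502041 F500424 F385914 D192452 F390049 D220340
theorem F503280 : act 5 n213994 = n220340 := d16_1 (iv4 F473022) F503279 F460087 F459198 F425969 F403749 (iv5 F422379) F422380 (iv2 F366633)
def n220341 : Q := act 6 n193429
theorem D220341 : act 6 n193429 = n220341 := rfl
theorem F503281 : act 2 n220341 = n210622 := d3_1 D220341 F480711 F480706
theorem F503282 : act 3 n220341 = n219935 := d7_1 D220341 (iv6 D219935) (iv3 F390048)
theorem F503283 : act 4 n220341 = n193544 := d10_1 D220341 (iv6 D193544) (iv4 F389811)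
theorem F503284 : act 5 n220341 = n213613 := d21_6 D194030 (iv1 F499502) F499500 (iv6 F498992) F498994 D220341 (iv1 D213613) (iv5 F466345) (iv6 F466346) (iv1 D194028)
theorem F503285 : act 0 n220341 = n212544 := d21_10 F466354 F390923 D193814 (iv6 F416248) F416245 D214144 F473700 (iv1 F389803) D193429 D220341
theorem F503286 : act 0 n202548 = n220341 := d21_4 D211171 F460443 F224223 D202548 (iv6 D220341) (iv5 D193429) (iv1 F389804) D220338 F503270 (iv1 F424914)
def n220342 : Q := act 5 n193430
theorem D220342 : act 5 n193430 = n220342 := rfl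
theorem F503287 : act 2 n220342 = n212833 := d2_1 D220342 (iv5 D212833) (iv2 F389812)
theorem F503288 : act 4 n220342 = n215594 := d9_1 D220342 F480689 F458269 (iv5 D153755) F109224 F107533 (iv4 F186945) D203412 (iv4 F479538) F479539 F469022 (iv5 D194592) F346521 (iv5 F326898) (iv4 F389813)
theorem F503289 : act 6 n220342 = n213613 := d12_2 D193430 D220342 (iv5 F503284) (iv6 D220341) (iv5 D193429)
theorem F503290 : act 7 n220342 = n215593 := d13_2 F428186 D220342 F480684
theorem F503291 : act 0 n220342 = n214442 := d17_2 (iv1 F428176) D220342 (iv5 D214442) (iv4 F251056) (iv5 F393017) (iv0 D194387) F385589 (iv0 F385590) (iv4 F428173)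
theorem F503292 : act 1 n220342 = n214440 := d17_6 D76265 (iv5 F346535) (iv1 F244655) (iv5 F326898) (iv4 F389813) D220342 (iv5 D214440) (iv0 D159423) F114304
def n220343 : Q := act 1 n193432
theorem D220343 : act 1 n193432 = n220343 := rfl
theorem F503293 : act 1 n220343 = n193434 := d15_1 D220343 (iv7 F480716) F480713
theorem F503294 : act 7 n220343 = n220338 := d15_2 (iv0 F424919) D220343 F503267
theorem F503295 : act 5 n220343 = n193463 := d17_7 D175698 (iv5 F304813) F239803 (iv5 F304833) D101669 D193432 D220343 F389936 (iv4 D175700)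
theorem F503296 : act 4 n220343 = n193469 := d17_9 F389957 (iv5 D192123) (iv1 F272741) D191522 D219462 F498991 (iv0 D193431) D193432 D220343
theorem F503297 : act 3 n213536 = n220343 := d19_19 (iv1 D220343) (iv5 D193432) (iv4 D101669) F304832 (iv1 F123262) F300404 (iv4 F325330) (iv3 F325600) (iv1 F29415) D18303 D38351 D83272 D174209 F353243 (iv4 F334021) F231440 (iv1 F333963) D163002 (iv4 F470912)
theorem F503298 : act 2 n220343 = n214144 := d0_1 F503297 F473698 (iv2 F319244) (iv3 F313850) F470913
theorem F503299 : act 6 n220343 = n200391 := d7_2 F470914 F503297 F416265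
def n220344 : Q := act 1 n193433
theorem D220344 : act 1 n193433 = n220344 := rfl
theorem F503300 : act 7 n220344 = n219749 := d15_2 (iv0 F389818) D220344 F500415
theorem F503301 : act 5 n220344 = n219926 := d18_9 (iv1 F501223) F423942 F469404 F469402 F455643 (iv4 F502851) (iv0 F502853) F479490 D220344
theorem F503302 : act 4 n211094 = n220344 := d20_6 (iv4 D174494) (iv1 F271689) (iv4 F402025) F406440 (iv1 F406444) (iv3 F460073) (iv1 D220344) (iv4 F479490) (iv3 D215344) (iv1 F273906)
theorem F503303 : act 1 n220344 = n219752 := d18_6 F490758 D211056 F459924 F396910 D211094 F503302 (iv4 F500429) F502854 F502852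
theorem F503304 : act 2 n219753 = n220344 := d15_3 F503303 (iv0 D219752) D219753
def n220345 : Q := act 2 n193433
theorem D220345 : act 2 n193433 = n220345 := rfl
theorem F503305 : act 7 n220345 = n219752 := d4_2 F480712 D220345 (iv2 F500428)
theorem F503306 : act 1 n220345 = n219753 := d15_0 (iv0 F500433) F480712 D220345
theorem F503307 : act 1 n219749 = n220345 := d15_0 F503306 (iv7 D219753) (iv2 F500415)
def n220346 : Q := act 5 n193433
theorem D220346 : act 5 n193433 = n220346 := rfl
theorem F503308 : act 3 n220346 = n193434 := d6_1 D220346 (iv5 D193434) D193433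
theorem F503309 : act 1 n220346 = n202287 := d17_8 D202288 (iv5 F469587) F501251 (iv5 D219932) F386745 (iv5 F385914) (iv0 F389818) D220346 F423495
theorem F503310 : act 4 n215936 = n220346 := d16_2 F463865 F482174 (iv5 D220346) (iv4 F479490) F479491 (iv4 F464616) F459400 (iv7 F460146) (iv2 F463864)
theorem F503311 : act 0 n220346 = n215562 := d18_2 (iv1 F482172) F503310 F480512 (iv5 F452224) F452223 F423159 F397212 (iv0 F346600) D209884
def n220347 : Q := act 6 n193434
theorem D220347 : act 6 n193434 = n220347 := rfl
theorem F503312 : act 2 n220347 = n216547 := d3_1 D220347 F484891 F460471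
theorem F503313 : act 4 n220347 = n193532 := d10_1 D220347 (iv6 D193532) (iv4 F389819)
theorem F503314 : act 7 n220347 = n216548 := d14_2 F480716 D220347 (iv6 F500818) F500814 (iv6 F480715)
theorem F503315 : act 0 n220347 = n216549 := d21_4 F498991 (iv1 F389815) D193434 D220347 F484897 F460618 F394411 D210243 F456716 (iv1 F498995)
theorem F503316 : act 0 n212916 = n220347 := d21_4 (iv5 D194697) (iv1 F159626) (iv5 F354449) D212916 (iv6 D220347) (iv5 D193434) (iv1 F383168) (iv5 F394159) (iv6 D194703) (iv1 F394140)
def n220348 : Q := act 0 n193436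
theorem D220348 : act 0 n193436 = n220348 := rfl
theorem F503317 : act 3 n220348 = n210351 := d20_5 (iv4 F365564) F363858 (iv4 F460927) F460926 D220348 (iv4 F462672) (iv1 D211682) (iv4 D143878) (iv3 F226491) F362322
theorem F503318 : act 5 n220348 = n210350 := d21_2 (iv5 F430768) D220348 (iv6 D210350) (iv1 F457036) (iv6 D210325) F356561 F331635 F216395 D199365 (iv1 F424322)
theorem F503319 : act 2 n193440 = n220348 := d15_3 (iv0 D220348) (iv0 D193436) D193440
theorem F503320 : act 7 n220348 = n193438 := d4_2 D193440 F503319 (iv2 D193438)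
theorem F503321 : act 1 n193437 = n220348 := d15_1 D193437 F503320 (iv2 D193438)
theorem F503322 : act 6 n210472 = n220348 := d21_9 (iv5 F424320) (iv1 F424321) (iv5 F452843) (iv6 F452844) (iv1 D203129) (iv6 F427061) (iv5 D203125) D203123 F489715 (iv1 F503321)
def n220349 : Q := act 2 n193436
theorem D220349 : act 2 n193436 = n220349 := rfl
theorem F503323 : act 3 n220349 = n210490 := d0_2 F460926 D220349 F457759 (iv3 F456213) (iv2 F460925)
theorem F503324 : act 5 n220349 = n199381 := d2_2 (iv5 F430768) D220349 (iv2 F425039)
theorem F503325 : act 6 n220349 = n210043 := d3_2 F432104 D220349 F455896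
theorem F503326 : act 7 n193437 = n220349 := d15_2 (iv0 D193436) D193437 (iv2 D220349)
theorem F503327 : act 0 n193438 = n220349 := d21_4 (iv5 F480915) (iv1 F480919) F458549 (iv6 F389823) F503325 F455894 (iv1 F385345) D192826 F387919 (iv1 F385478)
theorem F503328 : act 0 n220349 = n193440 := d21_10 (iv5 F500264) F500267 (iv5 F500058) F500059 (iv1 F475876) (iv6 F475872) (iv5 D204596) F385344 (iv5 F455894) (iv6 F503325)
def n220350 : Q := act 4 n193436
theorem D220350 : act 4 n193436 = n220350 := rfl
theorem F503329 : act 3 n220350 = n219854 := d5_1 D220350 F500906 F432036 (iv4 F460927) F460926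
theorem F503330 : act 6 n220350 = n210169 := d10_2 F432104 D220350 F456446
theorem F503331 : act 0 n193930 = n220350 := d20_1 (iv4 F391429) (iv4 D220350) (iv3 F460926) F460930 F453782 (iv4 F403927) F403929 F220779 F391440 (iv1 D193933)
def n220351 : Q := act 7 n193436
theorem D220351 : act 7 n193436 = n220351 := rfl
theorem F503332 : act 2 n220351 = n193437 := d4_1 D220351 F503326 (iv2 D220349)
theorem F503333 : act 3 n220351 = n210112 := d8_1 D220351 (iv7 F460929) F460926
theorem F503334 : act 5 n220351 = n199382 := d13_1 D220351 F425038 (iv5 F430768)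
theorem F503335 : act 1 n193438 = n220351 := d15_1 (iv0 F503327) (iv7 D220351) D220349
theorem F503336 : act 1 n220351 = n193440 := d15_1 F503335 (iv7 D193440) D193438
def n220352 : Q := act 3 n193437
theorem D220352 : act 3 n193437 = n220352 := rfl
theorem F503337 : act 2 n220352 = n211464 := d0_1 D220352 F461658 F460911 (iv3 F503333) F503332
theorem F503338 : act 7 n220352 = n210490 := d8_2 (iv7 F503326) D220352 (iv3 F503323)
theorem F503339 : act 4 n220352 = n210429 := d20_6 (iv4 F433616) (iv1 F462670) F462672 (iv3 F503317) (iv1 F503321) D220352 (iv1 F457485) (iv4 F391286) F391285 F343869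
theorem F503340 : act 6 n211310 = n220352 := d10_0 F503339 F457483 D211310
theorem F503341 : act 1 n211579 = n220352 := d17_8 (iv1 F457485) F321219 (iv1 F321948) F321953 (iv4 F222930) (iv5 F456726) (iv0 F456727) (iv5 F462232) F503339
theorem F503342 : act 0 n210479 = n220352 := d18_0 F503339 (iv1 F457485) (iv4 F391286) (iv5 F455051) F455050 D209819 (iv4 F455061) F431061 (iv5 F457708)
def n220353 : Q := act 4 n193437
theorem D220353 : act 4 n193437 = n220353 := rfl
theorem F503343 : act 3 n220353 = n195415 := d5_1 D220353 (iv4 F478733) F478732 (iv4 F503339) (iv3 D220352)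
theorem F503344 : act 0 n220353 = n193930 := d20_1 D220353 F391429 F157432 D102490 F366767 (iv4 F433616) (iv1 F462670) F462672 (iv3 F503317) (iv1 F503321)
theorem F503345 : act 5 n195414 = n220353 := d6_0 F503343 (iv5 D195415) (iv3 F396937)
theorem F503346 : act 6 n203220 = n220353 := d7_0 F503343 F464167 (iv3 F464168)
def n220354 : Q := act 6 n193437
theorem D220354 : act 6 n193437 = n220354 := rfl
theorem F503347 : act 3 n220354 = n211310 := d7_1 D220354 F503340 (iv3 D220352)
theorem F503348 : act 4 n220354 = n203220 := d10_1 D220354 F503346 (iv4 D220353)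
theorem F503349 : act 7 n220354 = n211660 := d14_2 (iv7 F503326) D220354 (iv6 D211660) (iv7 F455893) (iv6 F503325)
theorem F503350 : act 0 n220354 = n203229 := d21_4 (iv5 D202509) D202507 F424320 D220354 (iv6 F438429) (iv5 F454946) (iv1 F500078) (iv5 D219691) (iv6 F500059) F500061
theorem F503351 : act 5 n220354 = n203207 := d21_6 (iv5 D203125) D203123 F489715 F503322 (iv1 F503321) D220354 (iv1 F482481) F482479 (iv6 F461650) (iv1 F454891)
theorem F503352 : act 0 n203201 = n220354 := d21_4 (iv5 D117700) D117698 F347294 (iv6 F427389) (iv6 D220354) (iv5 F424320) (iv1 F424321) (iv5 F452843) (iv6 F452844) (iv1 D203129)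
def n220355 : Q := act 1 n193439
theorem D220355 : act 1 n193439 = n220355 := rfl
theorem F503353 : act 1 n220355 = n210350 := d15_1 D220355 F457150 (iv2 F389825)
theorem F503354 : act 7 n220355 = n210716 := d15_2 (iv0 F472013) D220355 (iv2 F472009)
theorem F503355 : act 3 n203400 = n220355 := d19_19 (iv1 D220355) (iv5 D193439) (iv4 F389786) (iv3 D193418) D193416 F454006 F454004 (iv3 F453999) (iv1 F486927) (iv5 D217000) F367479 (iv3 D173777) (iv1 D83102) F330211 D135433 (iv3 F384708) F448233 (iv5 F455059) (iv4 F455061)
theorem F503356 : act 5 n203395 = n220355 := d21_0 (iv1 D220355) (iv5 D193439) (iv6 F328322) (iv1 F385436) (iv6 F385435) (iv5 F425172) F425175 D208491 F449604 F457813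
theorem F503357 : act 2 n220355 = n210717 := d2_1 F503356 (iv5 F500058) F500057
theorem F503358 : act 6 n198062 = n220355 := d21_5 D134005 (iv1 F372577) (iv5 D108902) (iv6 F168891) D198062 (iv5 F503356) F503266 F503262 (iv6 D202505) (iv1 F180484)
def n220356 : Q := act 6 n193440
theorem D220356 : act 6 n193440 = n220356 := rfl
theorem F503359 : act 2 n220356 = n210472 := d3_1 D220356 F503322 (iv2 F503319)
theorem F503360 : act 3 n220356 = n193443 := d7_1 D220356 (iv6 D193443) (iv3 F389828)
theorem F503361 : act 7 n220356 = n209439 := d14_2 D193440 D220356 F453711 (iv7 F385445) F328322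
theorem F503362 : act 0 n210474 = n220356 := d20_4 (iv4 D151311) (iv1 F316915) (iv4 F222294) (iv3 F457686) F503360 F389842 (iv1 F275353) (iv4 F454104) F454103 F314611
theorem F503363 : act 4 n220356 = n197325 := d20_6 (iv4 D74499) (iv1 F161295) (iv4 F99881) (iv3 F219596) (iv1 F389845) (iv3 F503360) (iv1 D197325) (iv4 F218602) F218601 F166184
theorem F503364 : act 3 n197325 = n220336 := d5_1 F503363 F503256 F389789 (iv4 F389842) (iv3 F503360)
theorem F503365 : act 6 n197325 = n220335 := d10_2 D220356 F503363 F503254
theorem F503366 : act 7 n197325 = n210180 := d11_2 (iv7 F503361) F503363 F456478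
theorem F503367 : act 2 n210180 = n197324 := d15_3 (iv0 D197324) D197325 F503366
theorem F503368 : act 6 n197324 = n194740 := d3_2 D210180 F503367 (iv2 F394317)
theorem F503369 : act 1 n210469 = n220356 := d15_0 (iv0 F503362) (iv7 D210474) (iv2 F457672)
def n220357 : Q := act 6 n193441
theorem D220357 : act 6 n193441 = n220357 := rfl
theorem F503370 : act 2 n220357 = n209238 := d3_1 D220357 F452834 F389832
theorem F503371 : act 3 n220357 = n209950 := d7_1 D220357 F455497 (iv3 F389834)
theorem F503372 : act 4 n220357 = n193488 := d10_1 D220357 (iv6 D193488) (iv4 F389830)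
theorem F503373 : act 5 n220357 = n201039 := d12_1 D220357 (iv6 D201039) F177023 (iv6 F325769) (iv5 F389829)
theorem F503374 : act 7 n220357 = n210322 := d14_2 F389833 D220357 (iv6 F457953) F457950 F457946
theorem F503375 : act 0 n220357 = n202563 := d21_4 F389801 F389799 (iv5 F389829) D220357 (iv6 D202563) F329507 (iv1 F346708) (iv5 F388014) (iv6 F411641) (iv1 F411642)
theorem F503376 : act 0 n209299 = n220357 := d21_4 (iv5 F411572) (iv1 F419863) F419860 (iv6 F453102) (iv6 D220357) F389829 (iv1 F389794) F389792 (iv6 D111186) (iv1 F357628)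
def n220358 : Q := act 5 n193451
theorem D220358 : act 5 n193451 = n220358 := rfl
theorem F503377 : act 2 n220358 = n217207 := d2_1 D220358 F487937 F455955
theorem F503378 : act 4 n220358 = n219826 := d9_1 D220358 F500769 (iv4 D213642) (iv5 F468540) F468539 F383276 F349902 D210053 (iv4 F455954) F383496 F421427 D213645 F471432 F383290 (iv4 F389881)
theorem F503379 : act 7 n220358 = n217208 := d13_2 F455905 D220358 F487941
theorem F503380 : act 0 n220358 = n217209 := d17_2 (iv1 F389880) D220358 F487949 F385749 D206322 F479558 F479555 (iv0 F440209) F440208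
theorem F503381 : act 1 n220358 = n215630 := d17_6 (iv1 D176126) (iv5 F303621) F383292 F383290 (iv4 F389881) D220358 (iv5 D215630) F354161 (iv4 F354162)
def n220359 : Q := act 5 n193457
theorem D220359 : act 5 n193457 = n220359 := rfl
theorem F503382 : act 2 n220359 = n219462 := d2_1 D220359 F498991 (iv2 F389901)
theorem F503383 : act 3 n220359 = n194706 := d6_1 D220359 (iv5 F497723) F497722
theorem F503384 : act 4 n220359 = n193474 := d9_1 D220359 F389982 (iv4 F156808) (iv5 D88940) F64069 D82552 D172402 (iv5 F458508) F458507 F389975 F156803 F151904 F156783 D101746 D193457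
theorem F503385 : act 7 n220359 = n194703 := d13_2 (iv7 F389902) D220359 F394159
theorem F503386 : act 0 n220359 = n215598 := d17_2 (iv1 F389904) D220359 (iv5 D215598) (iv4 D175711) (iv5 D83882) F59445 (iv5 F74519) F128884 D175716
theorem F503387 : act 1 n220359 = n215597 := d17_6 (iv1 D101760) (iv5 D47300) D47297 D101746 D193457 D220359 (iv5 D215597) (iv0 F389942) (iv4 D193465)
theorem F503388 : act 6 n216551 = n220359 := d21_9 (iv5 D215598) (iv1 F389943) F424917 (iv6 D202646) D202644 F424909 (iv5 F499486) (iv1 F499488) (iv5 F484908) F503386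
def n220360 : Q := act 6 n193457
theorem D220360 : act 6 n193457 = n220360 := rfl
theorem F503389 : act 2 n220360 = n212558 := d3_1 D220360 F466412 (iv2 F389901)
theorem F503390 : act 3 n220360 = n194730 := d7_1 D220360 (iv6 F497724) F497722
theorem F503391 : act 4 n220360 = n193458 := d10_1 D220360 (iv6 D193458) D193457
theorem F503392 : act 5 n220360 = n218996 := d12_1 D220360 F496590 (iv5 F484908) F503388 (iv5 D220359)
theorem F503393 : act 7 n220360 = n194726 := d14_2 (iv7 F389902) D220360 (iv6 D194726) F328711 (iv6 F383166)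
theorem F503394 : act 0 n220360 = n209553 := d21_4 D215597 (iv1 F503387) (iv5 D220359) D220360 (iv6 D209553) D209552 (iv1 F503186) F503184 F480877 F389942
theorem F503395 : act 0 n215088 = n220360 := d21_4 F471412 (iv1 F485649) F485651 (iv6 F478283) (iv6 D220360) D220359 F503386 (iv5 D215598) (iv6 F337657) D212832
def n220361 : Q := act 5 n193461
theorem D220361 : act 5 n193461 = n220361 := rfl
theorem F503396 : act 2 n220361 = n207414 := d2_1 D220361 (iv5 D207414) F389925
theorem F503397 : act 3 n220361 = n193466 := d6_1 D220361 (iv5 D193466) (iv3 F389924)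
theorem F503398 : act 6 n220361 = n207791 := d12_2 (iv6 F389926) D220361 (iv5 F477480) F477481 F337627
theorem F503399 : act 7 n220361 = n213145 := d13_2 (iv7 F389927) D220361 (iv5 F469192)
theorem F503400 : act 4 n220361 = n195677 := d16_2 (iv4 F389923) D220361 (iv5 F419203) (iv4 F419205) F417358 F348163 (iv5 D133008) D133009 F341886
theorem F503401 : act 0 n220361 = n213051 := d17_2 D193461 D220361 (iv5 D213051) F239419 D158325 F275819 (iv5 D176479) (iv0 F278521) F346980
theorem F503402 : act 1 n220361 = n213144 := d17_6 F334243 F320006 D165611 F348167 (iv4 F389923) D220361 (iv5 D213144) F344396 (iv4 F306580)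
def n220362 : Q := act 3 n193463
theorem D220362 : act 3 n193463 = n220362 := rfl
theorem F503403 : act 2 n220362 = n210001 := d0_1 D220362 (iv3 F455695) (iv2 F462375) F462376 (iv2 F389933)
theorem F503404 : act 5 n220362 = n213536 := d6_2 F503295 D220362 F503297
theorem F503405 : act 7 n220362 = n210000 := d8_2 (iv7 F389934) D220362 F455693
theorem F503406 : act 0 n220362 = n210002 := d19_4 (iv1 F156789) (iv5 F156788) D193463 D220362 F455700 (iv4 F465942) F465938 (iv1 F339265) (iv5 F339278) (iv4 F405463) F405462 (iv1 F272949) (iv5 F271576) F271575 (iv3 F308693) (iv1 D147562) F306845 (iv4 F298845) F298844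
theorem F503407 : act 0 n197991 = n220362 := d20_4 F99495 F79641 (iv4 F168839) (iv3 F406419) (iv3 D220362) (iv4 D193463) (iv1 F156636) D101822 F323244 (iv1 F99494)
theorem F503408 : act 6 n220362 = n203031 := d21_5 D136120 (iv1 F219111) (iv5 F168836) D197991 F503407 F426701 (iv1 F394306) F329159 (iv6 D64721) (iv1 F99601)
def n220363 : Q := act 6 n193463
theorem D220363 : act 6 n193463 = n220363 := rfl
theorem F503409 : act 2 n220363 = n201293 := d3_1 D220363 (iv6 F455458) (iv2 F389933)
theorem F503410 : act 3 n220363 = n203031 := d7_1 D220363 (iv6 F503408) (iv3 D220362)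
theorem F503411 : act 4 n220363 = n193464 := d10_1 D220363 (iv6 D193464) D193463
theorem F503412 : act 7 n220363 = n201294 := d14_2 (iv7 F389934) D220363 F480867 F480863 F453401
theorem F503413 : act 0 n220363 = n201295 := d21_10 F419894 (iv1 F419801) (iv5 F500377) (iv6 F500381) (iv1 D215341) (iv6 F366841) D193434 (iv1 F503293) F503295 D220363
theorem F503414 : act 0 n201276 = n220363 := d21_4 (iv5 F455836) (iv1 F431050) (iv5 F342120) (iv6 F419807) (iv6 D220363) (iv5 F503295) (iv1 D220343) (iv5 D193432) F346596 (iv1 F455837)
def n220364 : Q := act 6 n193472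
theorem D220364 : act 6 n193472 = n220364 := rfl
theorem F503415 : act 3 n220364 = n193475 := d7_1 D220364 (iv6 D193475) (iv3 F389973)
theorem F503416 : act 4 n220364 = n212201 := d10_1 D220364 F464726 F406838
theorem F503417 : act 5 n220364 = n217449 := d12_1 D220364 F488933 F381981 (iv6 F357908) D193472
theorem F503418 : act 7 n220364 = n217448 := d14_2 F393832 D220364 F488927 (iv7 F407787) F407789
theorem F503419 : act 0 n199131 = n220364 := d21_4 (iv5 F420269) F420271 (iv5 F383034) D199131 (iv6 D220364) (iv5 D193472) D193470 (iv5 F389966) F389954 (iv1 F206760)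
def n220365 : Q := act 0 n193478
theorem D220365 : act 0 n193478 = n220365 := rfl
theorem F503420 : act 5 n220365 = n215491 := d17_1 D220365 F488768 F488766 (iv4 D192154) (iv5 F368848) (iv0 F384284) (iv5 F385558) F385561 D193478
theorem F503421 : act 4 n220365 = n193946 := d18_1 D220365 (iv1 F498976) F498979 (iv5 F476631) F476630 F476574 (iv4 D193709) (iv0 F369053) (iv5 F389993)
theorem F503422 : act 6 n220365 = n193610 := d21_5 (iv5 D112040) (iv1 F324862) (iv5 F344511) (iv6 F389992) D220365 F431687 F455538 (iv5 D209960) (iv6 F349521) (iv1 F324865)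
theorem F503423 : act 1 n193479 = n220365 := d15_0 (iv0 D220365) (iv7 F497472) F497468
theorem F503424 : act 3 n215362 = n220365 := d7_3 F503422 F431685 D215362
def n220366 : Q := act 7 n193485
theorem D220366 : act 7 n193485 = n220366 := rfl
theorem F503425 : act 3 n220366 = n210931 := d8_1 D220366 F459343 F390021
theorem F503426 : act 4 n220366 = n193486 := d11_1 D220366 (iv7 D193486) D193485
theorem F503427 : act 5 n220366 = n214774 := d13_1 D220366 F476779 (iv5 F390020)
theorem F503428 : act 6 n220366 = n219960 := d14_1 D220366 F501381 (iv6 D199254) F410782 F410779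
theorem F503429 : act 1 n212821 = n220366 := d15_1 (iv0 F467623) (iv7 D220366) (iv2 F411345)
theorem F503430 : act 1 n220366 = n212182 := d15_1 F503429 F464652 (iv2 F467620)
def n220367 : Q := act 7 n193488
theorem D220367 : act 7 n193488 = n220367 := rfl
theorem F503431 : act 2 n220367 = n219291 := d4_1 D220367 (iv7 F500206) F500202
theorem F503432 : act 3 n220367 = n196685 := d8_1 D220367 (iv7 F411010) (iv3 F411014)
theorem F503433 : act 4 n220367 = n210322 := d11_1 D220367 (iv7 F503374) F503372
theorem F503434 : act 5 n220367 = n211114 := d13_1 D220367 (iv7 F496874) (iv5 F496877)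
theorem F503435 : act 6 n220367 = n210540 := d14_1 D220367 (iv7 F462869) F462868 F385545 D193488
theorem F503436 : act 1 n208071 = n220367 := d15_1 (iv0 F500208) (iv7 D220367) (iv2 F500202)
theorem F503437 : act 1 n220367 = n214823 := d15_1 F503436 (iv7 F482199) F482196
def n220368 : Q := act 4 n193490
theorem D220368 : act 4 n193490 = n220368 := rfl
theorem F503438 : act 2 n220368 = n211109 := d1_1 D220368 (iv4 F479798) (iv2 F479801)
theorem F503439 : act 5 n220368 = n198227 := d9_2 D193490 D220368 (iv4 F502143) F502142 F501377 F386940 (iv4 F391457) (iv5 F394663) (iv4 F455681) (iv5 D209996) (iv4 F455549) F455550 (iv4 D193495) (iv5 D101832) (iv4 F156791)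
theorem F503440 : act 6 n220368 = n199004 := d10_2 (iv6 F496878) D220368 (iv4 F496875)
theorem F503441 : act 7 n220368 = n211108 := d11_2 F479805 D220368 (iv4 F479807)
theorem F503442 : act 0 n220368 = n211110 := d17_0 F460141 F425113 (iv5 F411337) (iv4 F455336) (iv5 D209911) F390601 (iv5 F479793) (iv0 F479796) D220368
theorem F503443 : act 1 n220368 = n199495 := d18_6 (iv1 D219723) F385722 F153571 (iv4 F156791) D193490 D220368 F412389 F479573 (iv5 F500271)
def n220369 : Q := act 1 n193495
theorem D220369 : act 1 n193495 = n220369 := rfl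
theorem F503444 : act 1 n220369 = n219959 := d15_1 D220369 F501378 F500216
theorem F503445 : act 4 n220369 = n199348 := d17_9 F411803 (iv5 D193942) (iv1 F385924) F385921 (iv4 F386755) (iv5 F501277) (iv0 F501279) F455550 D220369
theorem F503446 : act 5 n220369 = n196333 := d18_9 (iv1 F404904) (iv4 F411327) (iv1 F481302) F481298 (iv5 D211311) F390053 (iv0 D193493) D193495 D220369
theorem F503447 : act 6 n197558 = n220369 := d21_3 (iv5 D217801) (iv1 F489450) F489447 (iv1 D220369) F390063 D193498 F390079 F366172 D192375 (iv1 F490701)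
theorem F503448 : act 2 n220369 = n196359 := d3_1 F503447 F411427 F411421
theorem F503449 : act 3 n220369 = n197560 := d7_1 F503447 (iv6 D197560) D197558
def n220370 : Q := act 4 n193512
theorem D220370 : act 4 n193512 = n220370 := rfl
theorem F503450 : act 2 n220370 = n211522 := d1_1 D220370 F462774 F462771
theorem F503451 : act 3 n220370 = n199127 := d5_1 D220370 F410785 F408845 (iv4 F357631) (iv3 F390131)
theorem F503452 : act 6 n220370 = n215447 := d10_2 F393855 D220370 (iv4 F480038)
theorem F503453 : act 7 n220370 = n199255 := d11_2 F500242 D220370 (iv4 F500240)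
theorem F503454 : act 5 n220370 = n203685 := d16_1 D220370 (iv4 F429410) F429412 F262198 D180627 (iv4 F463372) F463373 (iv7 F462773) F462771
theorem F503455 : act 1 n220370 = n196664 := d18_6 F392482 (iv4 F480857) (iv1 F480861) F390101 D193512 D220370 (iv4 F401746) (iv0 F407899) (iv5 D194391)
theorem F503456 : act 0 n220370 = n211523 := d20_7 F393787 F345640 (iv4 F440525) F440524 (iv1 D193515) (iv3 F390131) D220370 F461965 F393728 F393788
def n220371 : Q := act 0 n193516
theorem D220371 : act 0 n193516 = n220371 := rfl
theorem F503457 : act 4 n220371 = n211211 := d18_3 F457793 F457791 D220371 F460628 F368843 D187018 D217225 (iv0 F488016) F487928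
theorem F503458 : act 3 n220371 = n211487 := d20_5 (iv4 F373423) (iv1 F480043) (iv4 F480038) (iv3 F393856) D220371 F461776 (iv1 F340827) D203647 (iv3 F429225) (iv1 D194564)
theorem F503459 : act 6 n220371 = n211210 := d21_5 F389982 (iv1 D101845) D101847 D193516 D220371 F460623 (iv1 F496873) (iv5 F496877) (iv6 D193488) (iv1 F389980)
theorem F503460 : act 2 n214829 = n220371 := d15_3 (iv0 D220371) (iv0 F393901) (iv7 F477029)
theorem F503461 : act 1 n214820 = n220371 := d15_0 (iv0 D220371) F390144 (iv2 F476989)
theorem F503462 : act 7 n220371 = n214828 := d15_2 (iv0 F476991) F503461 (iv2 F477027)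
def n220372 : Q := act 4 n193517
theorem D220372 : act 4 n193517 = n220372 := rfl
theorem F503463 : act 2 n220372 = n217294 := d1_1 D220372 F488313 (iv2 F462907)
theorem F503464 : act 6 n220372 = n193676 := d10_2 (iv6 F390145) D220372 (iv4 D193676)
theorem F503465 : act 7 n220372 = n209906 := d11_2 F390146 D220372 F455327
theorem F503466 : act 0 n220372 = n209672 := d17_0 F454588 (iv1 F367537) (iv5 F157424) (iv4 F391381) (iv5 F480213) (iv0 D215494) (iv5 F408657) (iv0 F408660) D220372
theorem F503467 : act 5 n220372 = n218339 := d18_4 (iv1 D101851) (iv4 F156810) D193517 D220372 F493396 F486973 (iv4 F384857) (iv0 F375891) F375741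
theorem F503468 : act 1 n220372 = n217002 := d18_8 (iv1 D186644) F294988 D99001 F359435 D189126 (iv4 F408656) (iv0 F408660) D220372 F486939
theorem F503469 : act 3 n209674 = n220372 := d20_5 F99435 F175579 F175578 D136809 D209674 (iv4 D220372) F408660 F408656 F375836 F169551
theorem F503470 : act 7 n210185 = n209674 := d8_0 F503469 F503465 (iv3 F456492)
def n220373 : Q := act 5 n193517
theorem D220373 : act 5 n193517 = n220373 := rfl
theorem F503471 : act 6 n220373 = n214816 := d12_2 (iv6 F390145) D220373 (iv5 F497751) (iv6 D219212) F381566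
theorem F503472 : act 7 n220373 = n209909 := d13_2 F390146 D220373 (iv5 D209909)
theorem F503473 : act 4 n220373 = n219849 := d16_2 (iv4 D220372) D220373 (iv5 D219849) F386526 F154038 (iv4 F372604) D217931 (iv7 F491316) (iv2 F503463)
theorem F503474 : act 0 n220373 = n200231 := d17_2 D193517 D220373 (iv5 D200231) (iv4 F218570) (iv5 F371049) (iv0 F390160) (iv5 D193523) (iv0 D101850) (iv4 F156810)
theorem F503475 : act 1 n220373 = n194414 := d17_6 D102479 D193918 (iv1 F493399) (iv5 F503467) (iv4 D220372) D220373 (iv5 D194414) (iv0 F359409) F157423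
theorem F503476 : act 0 n218780 = n215499 := d21_4 F480295 (iv1 F476647) D215147 (iv6 F495623) F480233 (iv5 D193519) D193517 D220373 F503471 (iv1 F480298)
def n220374 : Q := act 5 n193518
theorem D220374 : act 5 n193518 = n220374 := rfl
theorem F503477 : act 2 n220374 = n209909 := d2_1 D220374 (iv5 D209909) (iv2 F390148)
theorem F503478 : act 3 n220374 = n194910 := d6_1 D220374 (iv5 F402452) F402450
theorem F503479 : act 0 n220374 = n194414 := d17_2 (iv1 F408661) D220374 (iv5 D194414) (iv4 F375890) (iv5 F375888) (iv0 F375891) F375741 (iv0 F375838) (iv4 F408656)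
theorem F503480 : act 1 n220374 = n200231 := d17_6 (iv1 F385904) D193921 F391399 D217931 F491315 D220374 (iv5 D200231) F390464 F390463
def n220375 : Q := act 3 n193524
theorem D220375 : act 3 n193524 = n220375 := rfl
theorem F503481 : act 2 n220375 = n202836 := d0_1 D220375 F425788 F182942 (iv3 F220330) (iv2 F390162)
theorem F503482 : act 6 n220375 = n194381 := d7_2 (iv6 F390163) D220375 F392995
theorem F503483 : act 0 n220375 = n193540 := d20_4 F408656 F375838 D193524 D220375 (iv3 F414066) D211811 F463168 (iv4 F455326) (iv3 F455324) F408660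
def n220376 : Q := act 5 n193524
theorem D220376 : act 5 n193524 = n220376 := rfl
theorem F503484 : act 2 n220376 = n209948 := d2_1 D220376 (iv5 D209948) (iv2 F390162)
theorem F503485 : act 4 n220376 = n211320 := d9_1 D220376 (iv5 D211320) F375861 (iv5 F487499) F487498 (iv5 D193523) D193522 (iv5 F495869) F495868 F379045 F385873 (iv5 F156492) (iv4 F375740) F375741 D193524
def n220377 : Q := act 6 n193528
theorem D220377 : act 6 n193528 = n220377 := rfl
theorem F503486 : act 2 n220377 = n193530 := d3_1 D220377 (iv6 D193530) D193528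
theorem F503487 : act 3 n220377 = n193544 := d7_1 D220377 (iv6 D193544) (iv3 F390169)
theorem F503488 : act 4 n220377 = n202427 := d10_1 D220377 (iv6 D202427) (iv4 F390170)
theorem F503489 : act 7 n220377 = n202367 := d14_2 F473363 D220377 (iv6 D202367) (iv7 F423719) (iv6 F473362)
def n220378 : Q := act 6 n193529
theorem D220378 : act 6 n193529 = n220378 := rfl
theorem F503490 : act 3 n220378 = n193532 := d7_1 D220378 (iv6 D193532) (iv3 F390171)
theorem F503491 : act 0 n194328 = n220378 := d21_4 (iv5 F158272) (iv1 F350173) (iv5 F158460) D194328 (iv6 D220378) (iv5 D193529) D193526 F422924 (iv6 D194452) (iv1 F158949)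
def n220379 : Q := act 0 n193530
theorem D220379 : act 0 n193530 = n220379 := rfl
theorem F503492 : act 4 n220379 = n202358 := d20_2 F422705 D220379 F433003 (iv1 D115677) F330592 F182857 (iv1 D116976) F85019 (iv3 F179616) D202011
theorem F503493 : act 3 n220379 = n204385 := d20_5 (iv4 F455327) F455329 (iv4 F375871) (iv3 F390172) D220379 (iv4 D204385) F423865 (iv4 F462929) F462928 (iv1 F390152)
theorem F503494 : act 6 n206279 = n220379 := d7_0 F503493 F432336 D206279
theorem F503495 : act 0 n220379 = n202367 := d20_10 F423780 (iv1 D202012) (iv4 F182873) F182872 D116984 D202804 F425654 F415296 D204385 (iv3 F503493)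
def n220380 : Q := act 1 n193530
theorem D220380 : act 1 n193530 = n220380 := rfl
theorem F503496 : act 1 n220380 = n202367 := d15_1 D220380 (iv7 F503489) F503486
theorem F503497 : act 4 n220380 = n202357 := d18_7 F457390 F432762 F431647 (iv4 F469449) F469450 F422705 D220380 (iv0 D202357) D202359
theorem F503498 : act 6 n196940 = n220380 := d21_3 (iv5 F463216) F498253 F498252 (iv1 D220380) (iv6 D193530) D193529 (iv1 F423205) F422537 (iv6 F423570) F438988
theorem F503499 : act 3 n220380 = n196942 := d7_1 F503498 (iv6 D196942) D196940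
theorem F503500 : act 5 n220380 = n217468 := d12_1 F503498 F498246 (iv5 D219311) D219312 F498252
def n220381 : Q := act 5 n193530
theorem D220381 : act 5 n193530 = n220381 := rfl
theorem F503501 : act 3 n220381 = n193534 := d6_1 D220381 (iv5 D193534) (iv3 F390172)
theorem F503502 : act 0 n220381 = n219261 := d21_1 D220381 F497994 (iv6 D193949) (iv1 F353167) (iv6 F438985) (iv5 F463216) F498253 F498252 F503498 (iv1 D220380)
theorem F503503 : act 7 n215096 = n220381 := d8_0 F503501 F390182 (iv3 F478318)
def n220382 : Q := act 7 n193530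
theorem D220382 : act 7 n193530 = n220382 := rfl
theorem F503504 : act 2 n220382 = n202367 := d4_1 D220382 (iv7 F503489) F503486
theorem F503505 : act 3 n220382 = n193535 := d8_1 D220382 (iv7 D193535) (iv3 F390172)
theorem F503506 : act 4 n220382 = n210779 := d11_1 D220382 F458755 F422705
theorem F503507 : act 5 n220382 = n215096 := d13_1 D220382 F503503 (iv5 D220381)
theorem F503508 : act 6 n220382 = n199943 := d14_1 D220382 F414254 (iv6 F385678) F385679 D193530
def n220383 : Q := act 5 n193532
theorem D220383 : act 5 n193532 = n220383 := rfl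
theorem F503509 : act 2 n220383 = n211840 := d2_1 D220383 (iv5 F500255) F500252
theorem F503510 : act 6 n220383 = n193534 := d12_2 D193532 D220383 (iv5 D193534) (iv6 D101870) D101869
theorem F503511 : act 7 n220383 = n204898 := d13_2 F501962 D220383 (iv5 F501963)
theorem F503512 : act 0 n220383 = n211827 := d21_1 D220383 (iv5 D211827) (iv6 D144146) (iv1 F182917) F390858 (iv5 F390857) F462821 F462817 D220064 F501934
theorem F503513 : act 0 n208101 = n220383 := d21_1 D208101 (iv5 D220383) (iv6 D193532) D193531 (iv6 F390177) (iv5 F396283) (iv1 F396287) (iv5 F396280) (iv6 F390733) F390734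
def n220384 : Q := act 1 n193539
theorem D220384 : act 1 n193539 = n220384 := rfl
theorem F503514 : act 1 n220384 = n193542 := d15_1 D220384 (iv7 F459767) F459765
theorem F503515 : act 7 n220384 = n211689 := d15_2 (iv0 F424142) D220384 F462703
theorem F503516 : act 5 n220384 = n211695 := d17_7 (iv1 F357171) (iv5 F357172) F226780 (iv5 F416473) F416474 F401482 D220384 F462733 F401479
theorem F503517 : act 4 n220384 = n207188 := d17_9 F443709 (iv5 D200263) (iv1 D112898) F331497 F103316 D141867 F345306 F401482 D220384
theorem F503518 : act 6 n193716 = n220384 := d21_3 D211345 (iv1 F498065) (iv5 F498062) (iv1 D220384) (iv6 F459749) F459750 (iv1 F441234) (iv5 F441236) (iv6 D141963) (iv1 F390437)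
theorem F503519 : act 2 n220384 = n211695 := d3_1 F503518 F462730 F390774
theorem F503520 : act 3 n220384 = n202751 := d7_1 F503518 (iv6 F498075) F498074
def n220385 : Q := act 3 n193539
theorem D220385 : act 3 n193539 = n220385 := rfl
theorem F503521 : act 5 n220385 = n211346 := d6_2 F401482 D220385 (iv3 D211346)
theorem F503522 : act 6 n220385 = n205053 := d7_2 F459749 D220385 F459755
theorem F503523 : act 0 n220385 = n212221 := d19_4 F168207 (iv5 F357182) D193539 D220385 F464809 (iv4 D163181) D163180 (iv1 F477143) (iv5 D214850) F353263 (iv3 F455372) (iv1 F455375) F407270 F390875 F385583 F385581 F357402 (iv4 F204361) F204360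
theorem F503524 : act 0 n211924 = n220385 := d20_4 (iv4 D154695) (iv1 F231696) (iv4 F466499) F466498 (iv3 D220385) (iv4 D193539) D193538 F390192 (iv3 F389218) (iv1 F389222)
theorem F503525 : act 0 n213701 = n212853 := d21_10 (iv5 F467794) F383315 D205053 (iv6 F503522) F503523 F466485 F466481 (iv1 F471600) (iv5 F471604) D213701
def n220386 : Q := act 0 n193540
theorem D220386 : act 0 n193540 = n220386 := rfl
theorem F503526 : act 3 n220386 = n202839 := d20_5 (iv4 F440653) (iv1 F463169) (iv4 D211811) F414066 D220386 F425802 (iv1 F424202) (iv4 F408695) F408694 D198647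
theorem F503527 : act 6 n193731 = n220386 := d7_0 F503526 F425803 F443602
theorem F503528 : act 7 n202836 = n220386 := d8_0 F503526 (iv7 D202839) (iv3 F425788)
def n220387 : Q := act 5 n193540
theorem D220387 : act 5 n193540 = n220387 := rfl
theorem F503529 : act 2 n220387 = n211850 := d2_1 D220387 F463257 F459761
theorem F503530 : act 3 n220387 = n211812 := d6_1 D220387 (iv5 D211812) F414066
theorem F503531 : act 6 n220387 = n202821 := d12_2 D193540 D220387 F425729 F207119 (iv5 F357182)
theorem F503532 : act 0 n220387 = n218893 := d21_1 D220387 F496074 F466468 F425242 (iv6 F390436) F382317 F382320 (iv5 F392994) (iv6 F503482) F503483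
def n220388 : Q := act 3 n193542
theorem D220388 : act 3 n193542 = n220388 := rfl
theorem F503533 : act 4 n220388 = n200172 := d5_2 D193542 D220388 (iv3 F415378) F390199 (iv3 D193541)
theorem F503534 : act 5 n220388 = n211348 := d6_2 F398665 D220388 (iv3 D211348)
theorem F503535 : act 7 n220388 = n214851 := d8_2 F459767 D220388 F477145
theorem F503536 : act 0 n220388 = n205443 := d20_4 (iv4 F390192) (iv1 F390194) D193542 D220388 (iv3 F455543) (iv4 D209962) (iv1 F346651) D192927 (iv3 F389197) (iv1 F389208)
theorem F503537 : act 0 n198870 = n220388 := d20_4 F366816 (iv1 D154595) D154596 (iv3 F409669) (iv3 D220388) (iv4 D193542) (iv1 D101877) (iv4 F156125) (iv3 D101363) D101361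
theorem F503538 : act 2 n220388 = n214852 := d15_3 F477148 F477146 (iv7 F503535)
def n220389 : Q := act 0 n193544
theorem D220389 : act 0 n193544 = n220389 := rfl
theorem F503539 : act 5 n220389 = n218822 := d17_3 D214702 F476453 D220389 (iv4 D218822) (iv5 D190139) (iv0 F366341) D190915 (iv0 F381541) F254050
theorem F503540 : act 4 n220389 = n210534 := d18_1 D220389 (iv1 F457958) D210540 F474458 F474455 F381558 (iv4 F478475) F478479 F476453
theorem F503541 : act 2 n202828 = n220389 := d15_3 (iv0 D220389) (iv0 F393171) D202828
theorem F503542 : act 3 n220389 = n199902 := d0_2 (iv3 F425755) F503541 (iv2 F414064) F226844 (iv2 F182927)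
theorem F503543 : act 6 n220389 = n193705 := d3_2 (iv6 F425757) F503541 (iv2 F390726)
theorem F503544 : act 7 n220389 = n202824 := d4_2 D202828 F503541 F425743
theorem F503545 : act 1 n202826 = n220389 := d15_1 D202826 F503544 F425743
def n220390 : Q := act 7 n193544
theorem D220390 : act 7 n193544 = n220390 := rfl
theorem F503546 : act 2 n220390 = n202826 := d4_1 D220390 (iv7 F500248) F500245
theorem F503547 : act 3 n220390 = n202367 := d8_1 D220390 (iv7 F503489) F503487
theorem F503548 : act 5 n220390 = n215123 := d13_1 D220390 (iv7 F478468) F476453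
theorem F503549 : act 6 n220390 = n202365 := d14_1 D220390 F423771 F413208 F385708 D193544
theorem F503550 : act 1 n202824 = n220390 := d15_1 (iv0 F500251) (iv7 D220390) (iv2 F500245)
theorem F503551 : act 1 n220390 = n202828 := d15_1 F503550 (iv7 D202828) (iv2 F425743)
def n220391 : Q := act 3 n193549
theorem D220391 : act 3 n193549 = n220391 := rfl
theorem F503552 : act 2 n220391 = n203759 := d0_1 D220391 F429713 F191924 D124047 F390230
theorem F503553 : act 5 n220391 = n203753 := d6_2 F390231 D220391 F429695
theorem F503554 : act 7 n220391 = n204315 := d8_2 (iv7 F390229) D220391 F432010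
theorem F503555 : act 0 n220391 = n204159 := d20_4 F392059 (iv1 F382986) F390232 D220391 (iv3 F475916) F475917 (iv1 F290092) D194113 (iv3 F485261) F485264
theorem F503556 : act 0 n204317 = n220391 := d20_4 F431637 (iv1 F430341) F392113 (iv3 F432012) (iv3 D220391) (iv4 F390232) (iv1 D191310) (iv4 F370378) F370377 D204243
def n220392 : Q := act 3 n193551
theorem D220392 : act 3 n193551 = n220392 := rfl
theorem F503557 : act 4 n220392 = n210394 := d5_2 D193551 D220392 F457378 (iv4 D153861) (iv3 F308376)
theorem F503558 : act 5 n220392 = n218142 := d6_2 F490147 D220392 F492343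
theorem F503559 : act 6 n220392 = n216798 := d7_2 (iv6 F489275) D220392 F489274
theorem F503560 : act 7 n220392 = n213606 := d8_2 (iv7 F390243) D220392 (iv3 D213606)
theorem F503561 : act 0 n220392 = n208495 := d19_4 F274900 F156852 D193551 D220392 (iv5 D208495) (iv4 F327837) F161512 (iv1 F327836) D115161 F338656 F205350 (iv1 D68500) (iv5 D31871) (iv4 F313318) (iv3 F24956) D32500 D70036 D149216 F338056
def n220393 : Q := act 3 n193552
theorem D220393 : act 3 n193552 = n220393 := rfl
theorem F503562 : act 6 n220393 = n220208 := d7_2 F392134 D220393 F502655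
theorem F503563 : act 4 n220209 = n220393 := d19_2 D210742 (iv5 F502659) (iv3 D220393) (iv1 D193552) D193554 F390258 F363736 (iv1 D135843) (iv5 F179421) F327337 F190389 F313308 (iv5 F53857) (iv4 F112088) (iv3 F186457) F383334 F383332 F170771 (iv3 F222813)
def n220394 : Q := act 0 n193560
theorem D220394 : act 0 n193560 = n220394 := rfl
theorem F503564 : act 5 n220394 = n193948 := d17_1 D220394 (iv1 F467340) (iv5 D212746) F388330 (iv5 F388328) F467167 F467165 (iv0 D193558) D193560
theorem F503565 : act 4 n220394 = n197503 := d18_1 D220394 F404595 D204282 F431845 (iv4 D193689) F359293 (iv4 F467230) F467233 F390283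
theorem F503566 : act 1 n212717 = n220394 := d15_0 (iv0 D220394) F390282 (iv2 F467235)
theorem F503567 : act 3 n202321 = n220394 := d19_19 (iv1 F503566) (iv5 F472568) F472567 F443594 (iv1 D193653) F157060 (iv4 F381780) F381779 D191414 F383406 F210744 (iv3 F210724) F344904 (iv5 F397470) (iv4 F426631) (iv3 D203011) F227959 D212026 F464008
theorem F503568 : act 6 n220394 = n209832 := d7_2 (iv6 F423621) F503567 (iv3 D209832)
theorem F503569 : act 2 n212731 = n220394 := d1_3 F503565 F404590 D212731
theorem F503570 : act 7 n212729 = n220394 := d11_0 F503565 F404593 D212729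
def n220395 : Q := act 1 n193560
theorem D220395 : act 1 n193560 = n220395 := rfl
theorem F503571 : act 1 n220395 = n212717 := d15_1 D220395 F467237 (iv2 F390280)
theorem F503572 : act 7 n220395 = n212731 := d15_2 (iv0 D220394) D220395 F503569
theorem F503573 : act 5 n220395 = n193950 := d17_7 (iv1 F456117) (iv5 F462101) F462102 (iv5 F428502) (iv4 F428504) F390283 D220395 (iv0 F467341) F467338
theorem F503574 : act 4 n220395 = n204236 := d17_9 (iv1 F431612) (iv5 D149049) (iv1 D69908) D69909 D149053 D212716 F467233 F390283 D220395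
theorem F503575 : act 2 n212729 = n220395 := d1_3 F503574 (iv2 F431611) D212729
def n220396 : Q := act 0 n193562
theorem D220396 : act 0 n193562 = n220396 := rfl
theorem F503576 : act 5 n220396 = n193799 := d17_1 D220396 (iv1 F485450) (iv5 D193068) D193067 F398617 (iv0 F439685) (iv5 F490289) (iv0 F501683) F501680
theorem F503577 : act 4 n220396 = n196287 := d18_1 D220396 F400219 (iv4 F458269) (iv5 F480689) (iv4 F503288) F503292 F475192 (iv0 F388666) D193562
theorem F503578 : act 6 n220396 = n196286 := d21_5 (iv5 F136837) F272016 D101927 (iv6 F390289) D220396 F400214 (iv1 F357566) (iv5 F372462) F372463 (iv1 F153265)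
theorem F503579 : act 2 n216521 = n220396 := d15_3 (iv0 D220396) (iv0 F491878) F491877
theorem F503580 : act 1 n194690 = n220396 := d15_0 (iv0 D220396) F390290 (iv2 F394100)
theorem F503581 : act 7 n220396 = n217913 := d15_2 F491880 F503580 (iv2 F491874)
theorem F503582 : act 3 n198254 = n220396 := d19_19 (iv1 F503580) (iv5 F480596) F480595 F390869 D193744 F390879 F352873 (iv3 D151262) (iv1 F107782) (iv5 F321143) (iv4 F62959) (iv3 D22523) (iv1 F293341) D42552 (iv4 F139616) (iv3 F345136) (iv1 F241647) (iv5 F331133) (iv4 F407361)
def n220397 : Q := act 1 n193564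
theorem D220397 : act 1 n193564 = n220397 := rfl
theorem F503583 : act 4 n220397 = n217523 := d17_9 F489303 F383591 (iv1 D98599) D98600 D191630 D219511 F499229 F394481 D220397
theorem F503584 : act 3 n214035 = n220397 := d19_19 (iv1 D220397) (iv5 F394481) F394480 (iv3 F367110) D195016 (iv5 F432238) F432237 (iv3 F417509) (iv1 F204694) (iv5 F395625) F395624 F165568 (iv1 F161253) (iv5 F161254) D74270 (iv3 F320478) F423710 D156225 D214035
theorem F503585 : act 6 n217522 = n220397 := d21_3 D193788 (iv1 F491082) (iv5 F491083) (iv1 D220397) (iv6 D193564) F374771 F450448 (iv5 F480563) (iv6 F480566) (iv1 D193787)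
def n220398 : Q := act 6 n193566
theorem D220398 : act 6 n193566 = n220398 := rfl
theorem F503586 : act 2 n220398 = n212747 := d3_1 D220398 (iv6 D212747) (iv2 F390298)
theorem F503587 : act 3 n220398 = n212714 := d7_1 D220398 (iv6 F467216) (iv3 F390311)
theorem F503588 : act 4 n220398 = n193567 := d10_1 D220398 (iv6 D193567) D193566
theorem F503589 : act 7 n220398 = n212745 := d14_2 (iv7 F390299) D220398 (iv6 F467335) F348364 F366578
theorem F503590 : act 1 n212747 = n214050 := d15_0 (iv0 F473250) (iv7 F503589) F503586
def n220399 : Q := act 0 n193567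
theorem D220399 : act 0 n193567 = n220399 := rfl
theorem F503591 : act 4 n220399 = n213907 := d20_8 F423429 D203091 (iv4 F467221) (iv3 D212715) D212714 (iv3 F503587) F503588 D220399 F472687 F471933
theorem F503592 : act 5 n217234 = n220399 := d17_3 F382914 F382913 D217234 F503591 (iv5 D213907) (iv0 D156058) D156060 (iv0 F455079) F455077
theorem F503593 : act 4 n219918 = n217234 := d18_3 (iv1 D216229) D216231 F501181 F503592 F503591 F472689 (iv4 D185253) D185251 (iv5 F484477)
theorem F503594 : act 7 n217234 = n219917 := d16_8 F498496 F486003 (iv4 F501074) F501075 (iv4 D213906) D213907 (iv4 F503591) (iv5 F503592) F501174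
def n220400 : Q := act 7 n193567
theorem D220400 : act 7 n193567 = n220400 := rfl
theorem F503595 : act 3 n220400 = n193571 := d8_1 D220400 (iv7 D193571) (iv3 F390302)
theorem F503596 : act 4 n220400 = n212745 := d11_1 D220400 (iv7 F503589) F503588
theorem F503597 : act 6 n220400 = n209792 := d14_1 D220400 F454973 F423713 (iv7 F338130) D193567
def n220401 : Q := act 0 n193572
theorem D220401 : act 0 n193572 = n220401 := rfl
theorem F503598 : act 5 n220401 = n210227 := d17_1 D220401 (iv1 D210227) D210228 F469446 (iv5 F469447) (iv0 F416263) (iv5 F429103) (iv0 F481497) F481494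
theorem F503599 : act 3 n220401 = n217523 := d20_5 (iv4 D186631) F338082 (iv4 F338083) D193572 D220401 (iv4 F503583) (iv1 D220397) F390297 (iv3 F368368) (iv1 F367503)
theorem F503600 : act 4 n220401 = n214030 := d20_8 (iv4 F458665) (iv1 F469384) (iv4 D213191) F356036 F303657 D215769 F481494 D220401 F473183 (iv1 F458664)
theorem F503601 : act 1 n216432 = n220401 := d15_0 (iv0 D220401) (iv7 F480650) (iv2 F484350)
theorem F503602 : act 6 n217519 = n220401 := d21_3 F386196 F450146 D217519 (iv1 F503601) F484352 (iv5 F444454) F444456 D213010 F500621 (iv1 D219787)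
def n220402 : Q := act 1 n193572
theorem D220402 : act 1 n193572 = n220402 := rfl
theorem F503603 : act 1 n220402 = n216432 := d15_1 D220402 (iv7 F498451) F498450
theorem F503604 : act 5 n210226 = n220402 := d21_0 (iv1 D220402) F489883 (iv6 D217636) D217633 F489871 (iv5 F410839) F410840 F172288 D137991 D210226
theorem F503605 : act 6 n193805 = n220402 := d21_9 F489883 F489886 F487159 (iv6 D213119) (iv1 F420945) (iv6 F489266) (iv5 F492308) (iv1 F492314) F411698 (iv1 D220402)
def n220403 : Q := act 3 n193580
theorem D220403 : act 3 n193580 = n220403 := rfl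
theorem F503606 : act 2 n220403 = n210229 := d0_1 D220403 F456655 F448783 F480656 (iv2 F480653)
theorem F503607 : act 4 n220403 = n209057 := d5_2 F449691 D220403 (iv3 D209057) (iv4 F359189) (iv3 F449692)
theorem F503608 : act 7 n220403 = n210223 := d8_2 F465543 D220403 (iv3 F465538)
theorem F503609 : act 0 n220403 = n210227 := d19_4 (iv1 F419538) (iv5 F449690) F449691 D220403 (iv5 F503598) F503600 F473183 (iv1 F458664) (iv5 D210740) F222806 (iv3 F169661) (iv1 F408461) F408458 (iv4 D146622) (iv3 F315423) D114663 F317649 D114740 (iv3 F419535)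
theorem F503610 : act 0 n210226 = n220403 := d20_4 (iv4 F452425) F454809 (iv4 F474827) F474826 (iv3 D220403) (iv4 F449691) (iv1 F449694) (iv4 F454916) F454919 (iv1 F450604)
theorem F503611 : act 6 n210247 = n220403 := d14_5 F503608 (iv6 D210223) (iv7 F411179) F487289 F487286
def n220404 : Q := act 6 n193580
theorem D220404 : act 6 n193580 = n220404 := rfl
theorem F503612 : act 2 n220404 = n210221 := d3_1 D220404 F480657 (iv2 F480653)
theorem F503613 : act 3 n220404 = n210247 := d7_1 D220404 F503611 (iv3 D220403)
theorem F503614 : act 4 n220404 = n217309 := d10_1 D220404 (iv6 F488375) F449691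
theorem F503615 : act 7 n220404 = n201107 := d14_2 F465543 D220404 (iv6 D201107) (iv7 F230212) D212370
theorem F503616 : act 0 n220404 = n194773 := d21_4 F490147 (iv1 F431607) F431605 D220404 (iv6 D194773) (iv5 F365790) (iv1 F369229) F369226 D187769 (iv1 F490151)
theorem F503617 : act 0 n210242 = n220404 := d21_4 F367649 (iv1 F148553) F367080 (iv6 F456712) (iv6 D220404) (iv5 F431605) F431606 (iv5 F364808) F364809 D183482
def n220405 : Q := act 5 n193583
theorem D220405 : act 5 n193583 = n220405 := rfl
theorem F503618 : act 2 n220405 = n210176 := d2_1 D220405 (iv5 D210176) (iv2 F390340)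
theorem F503619 : act 3 n220405 = n197415 := d6_1 D220405 F404190 (iv3 F390341)
theorem F503620 : act 7 n220405 = n210179 := d13_2 (iv7 F390343) D220405 (iv5 D210179)
theorem F503621 : act 4 n220405 = n197851 := d16_2 D193583 D220405 (iv5 F407149) F407148 F381215 (iv4 F480930) F480931 F462165 F385978
theorem F503622 : act 0 n220405 = n197402 := d17_2 F390345 D220405 (iv5 F404153) (iv4 D192269) (iv5 F367529) F391410 (iv5 D193924) F157425 D104276
theorem F503623 : act 1 n220405 = n219798 := d17_6 F385208 (iv5 F384668) (iv1 F390348) (iv5 D193584) D193583 D220405 (iv5 D219798) (iv0 F500039) (iv4 D219684)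
theorem F503624 : act 6 n203228 = n220333 := d21_3 (iv5 D216049) (iv1 F323263) (iv5 F427479) (iv1 D220333) (iv6 F390342) D220405 F503622 (iv5 F404153) (iv6 F454682) (iv1 F482666)
theorem F503625 : act 2 n220333 = n205448 := d3_1 F503624 (iv6 F446976) (iv2 F446981)
theorem F503626 : act 6 n197849 = n220405 := d10_0 F503621 (iv6 D197851) D197849
def n220406 : Q := act 6 n193585
theorem D220406 : act 6 n193585 = n220406 := rfl
theorem F503627 : act 2 n220406 = n194362 := d3_1 D220406 F392944 F390351
theorem F503628 : act 3 n220406 = n215424 := d7_1 D220406 F479924 F390354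
theorem F503629 : act 4 n220406 = n194249 := d10_1 D220406 (iv6 F392490) (iv4 F390350)
theorem F503630 : act 5 n220406 = n215357 := d12_1 D220406 (iv6 D215357) (iv5 D173694) (iv6 F270136) (iv5 F390349)
theorem F503631 : act 7 n220406 = n194359 := d14_2 (iv7 F390353) D220406 F392938 (iv7 F440220) F440215
theorem F503632 : act 0 n220406 = n194257 := d21_4 (iv5 D172056) D172054 (iv5 F390349) D220406 (iv6 D194257) F336631 (iv1 D93440) F293997 (iv6 F158278) (iv1 F337134)
theorem F503633 : act 0 n194417 = n220406 := d21_4 F355449 D147193 F350211 (iv6 F393123) (iv6 D220406) F390349 (iv1 F270138) (iv5 F346777) (iv6 D130521) D130518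
def n220407 : Q := act 6 n193591
theorem D220407 : act 6 n193591 = n220407 := rfl
theorem F503634 : act 3 n220407 = n217270 := d7_1 D220407 F488206 (iv3 F390745)
theorem F503635 : act 4 n220407 = n218331 := d10_1 D220407 (iv6 F501325) F487696
theorem F503636 : act 5 n220407 = n193598 := d12_1 D220407 F491176 (iv5 D217902) F372408 D193591
theorem F503637 : act 0 n209948 = n220407 := d17_0 F503636 (iv1 F493519) F493515 (iv4 D218322) (iv5 D189061) D189060 D218321 F493311 (iv4 F455491)
def n220408 : Q := act 3 n193599
theorem D220408 : act 3 n193599 = n220408 := rfl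
theorem F503638 : act 2 n220408 = n200390 := d0_1 D220408 F416259 (iv2 F416254) F493529 F493531
theorem F503639 : act 6 n220408 = n200299 := d7_2 (iv6 F453852) D220408 (iv3 F453848)
theorem F503640 : act 7 n220408 = n194235 := d8_2 (iv7 F493525) D220408 F493523
theorem F503641 : act 0 n220408 = n193949 := d20_4 F390463 (iv1 F385904) (iv4 F390408) D220408 F391492 D194362 (iv1 F392947) F158647 (iv3 F158632) (iv1 F390465)
theorem F503642 : act 4 n220408 = n200300 := d20_6 (iv4 F471764) F471766 F464529 (iv3 F493514) F493518 D220408 F472882 F472879 F439046 (iv1 F415696)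
def n220409 : Q := act 5 n193599
theorem D220409 : act 5 n193599 = n220409 := rfl
theorem F503643 : act 4 n220409 = n218326 := d9_1 D220409 (iv5 D218326) (iv4 D189065) D189066 (iv4 F391388) (iv5 D193918) (iv4 F391390) (iv5 F503636) F503635 (iv5 D218331) (iv4 D189070) (iv5 F373088) (iv4 F391398) (iv5 D193921) (iv4 F390408)
theorem F503644 : act 6 n220409 = n215709 := d12_2 (iv6 F453852) D220409 F481194 F463232 (iv5 F453846)
theorem F503645 : act 0 n220409 = n209948 := d17_2 F493518 D220409 (iv5 D209948) F220331 D137150 (iv0 F371053) F366997 (iv0 F375880) D218365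
def n220410 : Q := act 3 n193609
theorem D220410 : act 3 n193609 = n220410 := rfl
theorem F503646 : act 2 n220410 = n215363 := d0_1 D220410 F479577 (iv2 F390186) (iv3 F498984) F498983
theorem F503647 : act 6 n220410 = n214073 := d7_2 F433606 D220410 (iv3 F473348)
theorem F503648 : act 5 n212624 = n220410 := d12_5 F503647 (iv5 F473361) F473362 F423720 D212624
theorem F503649 : act 0 n193951 = n220410 := d21_4 (iv5 F369159) (iv1 F369162) F353157 D193951 F503647 (iv5 F473361) F473364 (iv5 F467436) (iv6 D212768) (iv1 F359293)
def n220411 : Q := act 5 n193609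
theorem D220411 : act 5 n193609 = n220411 := rfl
theorem F503650 : act 2 n220411 = n199945 := d2_1 D220411 (iv5 F498986) F498983
theorem F503651 : act 3 n220411 = n212624 := d6_1 D220411 F503648 (iv3 D220410)
theorem F503652 : act 6 n220411 = n199896 := d12_2 F433606 D220411 (iv5 F414031) F413208 (iv5 F433608)
theorem F503653 : act 7 n220411 = n215361 := d13_2 F500270 D220411 (iv5 F500271)
theorem F503654 : act 4 n220411 = n204825 := d16_2 (iv4 F405136) D220411 (iv5 F464436) F464435 (iv5 F474114) F474113 (iv5 D193945) F383654 F383652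
theorem F503655 : act 0 n220411 = n199912 := d17_2 D193609 D220411 F414114 (iv4 D137183) D137184 (iv0 F385618) (iv5 D192114) (iv0 F153515) (iv4 F156975)
theorem F503656 : act 1 n220411 = n209960 := d17_6 (iv1 F408674) (iv5 F411801) F411803 (iv5 D193942) (iv4 F405136) D220411 (iv5 D209960) (iv0 F455476) F455474
def n220412 : Q := act 6 n193615
theorem D220412 : act 6 n193615 = n220412 := rfl
theorem F503657 : act 3 n220412 = n219744 := d7_1 D220412 (iv6 D219744) (iv3 F390458)
theorem F503658 : act 4 n220412 = n193616 := d10_1 D220412 (iv6 D193616) D193615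
theorem F503659 : act 0 n220412 = n219896 := d21_4 F500679 (iv1 F483035) F483032 D220412 (iv6 D219896) D219895 F501088 (iv5 D216525) (iv6 F484803) (iv1 F500677)
theorem F503660 : act 0 n200432 = n220412 := d21_4 D195473 F397081 F222284 D200432 (iv6 D220412) (iv5 F483032) F483034 (iv5 F496306) F496304 (iv1 D195472)
def n220413 : Q := act 5 n193616
theorem D220413 : act 5 n193616 = n220413 := rfl
theorem F503661 : act 2 n220413 = n218779 := d2_1 D220413 F495620 F393945
theorem F503662 : act 3 n220413 = n193617 := d6_1 D220413 (iv5 D193617) (iv3 F390460)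
theorem F503663 : act 6 n220413 = n218777 := d12_2 D193616 D220413 F495613 (iv6 D217264) F369040
theorem F503664 : act 0 n220413 = n198649 := d21_1 D220413 (iv5 D198649) (iv6 D109727) (iv1 F81741) D112225 D200001 F414564 (iv5 F367386) D200322 (iv1 F472052)
def n220414 : Q := act 7 n193616
theorem D220414 : act 7 n193616 = n220414 := rfl
theorem F503665 : act 3 n220414 = n193618 := d8_1 D220414 (iv7 D193618) (iv3 F390460)
theorem F503666 : act 0 n199939 = n220414 := d20_4 (iv4 F473172) (iv1 F473181) F473149 F416007 F503665 F390463 (iv1 F385904) (iv4 F390408) D220408 F503641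
def n220415 : Q := act 6 n193619
theorem D220415 : act 6 n193619 = n220415 := rfl
theorem F503667 : act 2 n220415 = n196773 := d3_1 D220415 (iv6 D196773) (iv2 F390466)
theorem F503668 : act 3 n220415 = n219751 := d7_1 D220415 (iv6 D219751) (iv3 F390467)
theorem F503669 : act 4 n220415 = n193620 := d10_1 D220415 (iv6 D193620) D193619
theorem F503670 : act 5 n220415 = n196976 := d12_1 D220415 (iv6 F402499) (iv5 F400488) (iv6 F473716) F473715
theorem F503671 : act 0 n220415 = n196867 := d21_4 D213421 (iv1 F473718) F473715 D220415 (iv6 D196867) F402072 (iv1 D108938) D108939 (iv6 F406870) (iv1 F406874)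
def n220416 : Q := act 3 n193629
theorem D220416 : act 3 n193629 = n220416 := rfl
theorem F503672 : act 2 n220416 = n211210 := d0_1 D220416 F460621 F322327 D142585 F390500
theorem F503673 : act 4 n220416 = n211209 := d5_2 F440300 D220416 F460617 F416573 (iv3 F440299)
theorem F503674 : act 5 n220416 = n219047 := d6_2 (iv5 F390499) D220416 F496881
theorem F503675 : act 6 n220416 = n214829 := d7_2 (iv6 F440297) D220416 (iv3 F477030)
theorem F503676 : act 7 n220416 = n194398 := d8_2 (iv7 F390501) D220416 F393048
theorem F503677 : act 0 n220416 = n208227 := d19_4 (iv1 F351993) (iv5 F440301) F440300 D220416 (iv5 F448475) F408502 D199436 (iv1 F414297) (iv5 F487008) F487007 F367550 (iv1 F372994) D188344 (iv4 F455769) (iv3 F455770) (iv1 F224595) (iv5 F379395) F379394 F353507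
theorem F503678 : act 0 n211511 = n220416 := d20_4 (iv4 F410969) (iv1 F410970) D199168 (iv3 F461906) (iv3 D220416) (iv4 F440300) F440303 F376072 F401449 F401447
def n220417 : Q := act 4 n193633
theorem D220417 : act 4 n193633 = n220417 := rfl
theorem F503679 : act 2 n220417 = n213615 := d1_1 D220417 F471301 F390882
theorem F503680 : act 3 n220417 = n194118 := d5_1 D220417 (iv4 F485750) F485749 (iv4 F470607) F470606
theorem F503681 : act 5 n220417 = n216497 := d9_2 D193633 D220417 (iv4 D216497) F381818 F381816 (iv5 F427587) (iv4 F453859) (iv5 F485970) (iv4 D216802) F483938 F483937 F383920 (iv4 F478257) F478258 F390513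
theorem F503682 : act 6 n220417 = n213614 := d10_2 (iv6 F390514) D220417 F471297
theorem F503683 : act 7 n220417 = n216801 := d11_2 F390885 D220417 (iv4 F485965)
theorem F503684 : act 0 n220417 = n216800 := d17_0 F485974 F485988 F485989 F382957 F151050 D99814 D192165 (iv0 F390515) D220417
theorem F503685 : act 1 n220417 = n216723 := d18_6 (iv1 F488253) (iv4 F491174) F491173 F390513 D193633 D220417 F485628 (iv0 F498567) F498565
def n220418 : Q := act 0 n193637
theorem D220418 : act 0 n193637 = n220418 := rfl
theorem F503686 : act 5 n220418 = n214386 := d21_0 (iv1 F483881) (iv5 F455141) (iv6 D209853) (iv1 D137014) F328568 (iv5 D88296) (iv1 F74614) D102068 D193637 D220418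
theorem F503687 : act 3 n212866 = n220418 := d6_3 F503686 (iv3 D214386) (iv5 F467864)
theorem F503688 : act 7 n193643 = n220418 := d13_0 F503686 F474913 F404589
theorem F503689 : act 2 n220418 = n193642 := d15_3 (iv0 D193642) D193643 F503688
theorem F503690 : act 7 n212732 = n193642 := d4_2 (iv7 F503688) (iv2 F467291) (iv2 F503689)
theorem F503691 : act 1 n193644 = n220418 := d15_1 F467294 (iv7 F503688) (iv2 F467291)
theorem F503692 : act 3 n193642 = n215797 := d8_1 F503690 F481616 (iv3 F467292)
def n220419 : Q := act 7 n193637
theorem D220419 : act 7 n193637 = n220419 := rfl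
theorem F503693 : act 2 n220419 = n193644 := d4_1 D220419 (iv7 D193644) (iv2 F390532)
theorem F503694 : act 3 n220419 = n216767 := d8_1 D220419 (iv7 D216767) (iv3 F390533)
theorem F503695 : act 5 n220419 = n208836 := d13_1 D220419 (iv7 F483891) F483890
theorem F503696 : act 6 n220419 = n216470 := d14_1 D220419 F484534 (iv6 D185340) (iv7 F157010) D193637
theorem F503697 : act 1 n193643 = n220419 := d15_1 D193643 (iv7 D220419) F390532
theorem F503698 : act 1 n220419 = n193642 := d15_1 F503697 (iv7 F503690) F467291
def n220420 : Q := act 6 n193640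
theorem D220420 : act 6 n193640 = n220420 := rfl
theorem F503699 : act 3 n220420 = n193641 := d7_1 D220420 (iv6 D193641) D193640
theorem F503700 : act 4 n220420 = n193644 := d10_1 D220420 F390546 (iv4 F390541)
theorem F503701 : act 7 n220420 = n193641 := d14_2 (iv7 F390543) D220420 (iv6 D193641) (iv7 F329341) (iv6 F245200)
def n220421 : Q := act 0 n193641
theorem D220421 : act 0 n193641 = n220421 := rfl
def n220422 : Q := act 1 n193641
theorem D220422 : act 1 n193641 = n220422 := rfl
theorem F503702 : act 4 n220422 = n193784 := d18_7 F484722 (iv4 D213451) F402337 F402336 F373574 (iv4 F390544) D220422 F502238 F502236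
theorem F503703 : act 6 n212756 = n220422 := d21_3 (iv5 F353163) D193887 (iv5 F467373) (iv1 D220422) (iv6 D193641) F328984 (iv1 F111100) D137643 (iv6 F434181) F434183
theorem F503704 : act 5 n220422 = n215817 := d12_1 F503703 (iv6 D215817) (iv5 F472880) F472881 (iv5 F467373)
theorem F503705 : act 3 n215820 = n220422 := d6_3 F503704 F481693 D215820
def n220423 : Q := act 5 n193641
theorem D220423 : act 5 n193641 = n220423 := rfl
theorem F503706 : act 2 n220423 = n209808 := d2_1 D220423 (iv5 F456309) F456307
theorem F503707 : act 6 n220423 = n211765 := d12_2 D193641 D220423 (iv5 D211765) (iv6 F226796) (iv5 F328984)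
theorem F503708 : act 4 n220423 = n209806 := d16_2 (iv4 F390544) D220423 (iv5 D209806) F385262 (iv5 F401118) F471880 (iv5 F503695) (iv7 D220419) F390532
def n220424 : Q := act 4 n193642
theorem D220424 : act 4 n193642 = n220424 := rfl
def n220425 : Q := act 5 n193642
theorem D220425 : act 5 n193642 = n220425 := rfl
theorem F503709 : act 2 n220425 = n214386 := d2_1 D220425 (iv5 F503686) F503689
theorem F503710 : act 3 n220425 = n202659 := d6_1 D220425 (iv5 F481613) (iv3 F503692)
theorem F503711 : act 7 n220425 = n216332 := d13_2 F503690 D220425 F483879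
theorem F503712 : act 0 n220425 = n209683 := d21_1 D220425 F454615 (iv6 D209551) (iv1 F219672) F363006 (iv5 D102081) (iv1 D47410) D47411 D102086 D193642
theorem F503713 : act 4 n216505 = n220425 := d20_0 F503712 (iv4 F470410) (iv3 F491920) (iv1 D218053) (iv3 D188415) F140502 (iv1 D87802) D87803 D184074 D216505
theorem F503714 : act 6 n202657 = n220425 := d21_3 (iv5 F410505) (iv1 F410503) D202657 F503712 (iv6 D209683) F220019 (iv1 F218609) D136506 F451030 (iv1 D208828)
theorem F503715 : act 1 n220424 = n220120 := d18_6 F484698 F484695 D216505 F503713 (iv5 D220425) D220424 F502219 D220122 F502229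
def n220426 : Q := act 6 n193642
theorem D220426 : act 6 n193642 = n220426 := rfl
theorem F503716 : act 3 n220426 = n199281 := d7_1 D220426 (iv6 F481614) (iv3 F503692)
theorem F503717 : act 5 n220426 = n199280 := d12_1 D220426 F411455 D202657 F503714 (iv5 D220425)
theorem F503718 : act 7 n220426 = n210406 := d14_2 F503690 D220426 F457415 F431609 D212732
theorem F503719 : act 0 n213607 = n220426 := d21_4 (iv5 D115904) D115902 D202500 F471273 (iv6 D220426) D220425 F503712 F454615 (iv6 D209551) (iv1 F219672)
def n220427 : Q := act 4 n193653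
theorem D220427 : act 4 n193653 = n220427 := rfl
theorem F503720 : act 2 n220427 = n203223 := d1_1 D220427 F427464 F414385
theorem F503721 : act 3 n220427 = n197224 := d5_1 D220427 F403628 (iv3 F472566) F472567 F443594
theorem F503722 : act 5 n220427 = n203225 := d9_2 F467244 D220427 F427471 (iv5 F340755) F267240 D175197 (iv4 F414378) F414380 (iv4 F470009) F470013 F434676 F312357 (iv4 F304746) D175200 (iv4 F467243)
theorem F503723 : act 6 n220427 = n195425 := d10_2 (iv6 F414386) D220427 (iv4 F403769)
theorem F503724 : act 7 n220427 = n211933 := d11_2 (iv7 F414384) D220427 F463637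
theorem F503725 : act 0 n220427 = n205992 := d17_0 F438731 F462550 F462549 F397347 (iv5 F390456) (iv0 D191416) (iv5 F157060) D193653 D220427
def n220428 : Q := act 1 n193657
theorem D220428 : act 1 n193657 = n220428 := rfl
theorem F503726 : act 1 n220428 = n199086 := d15_1 D220428 (iv7 F434973) F434970
theorem F503727 : act 7 n220428 = n218772 := d15_2 F443562 D220428 F495588
theorem F503728 : act 5 n220428 = n219341 := d17_7 (iv1 F164259) (iv5 D106641) (iv1 F330442) F382571 (iv4 F382570) (iv5 F390585) D220428 F498370 F382726
theorem F503729 : act 3 n208068 = n220428 := d19_19 (iv1 D220428) F390585 F382570 F417752 (iv1 D200746) (iv5 D113401) F82729 (iv3 F50290) F323478 (iv5 D63766) (iv4 F98256) (iv3 D62967) (iv1 D29786) D29788 (iv4 F80897) (iv3 F172428) (iv1 F411585) F411586 (iv4 F447737)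
theorem F503730 : act 6 n218850 = n220428 := d21_3 F159295 D190181 D218850 (iv1 D220428) (iv6 F402490) (iv5 F430047) (iv1 F430045) D214825 F477017 (iv1 D194623)
theorem F503731 : act 2 n220428 = n208064 := d3_1 F503730 (iv6 F497492) F497490
def n220429 : Q := act 3 n193658
theorem D220429 : act 3 n193658 = n220429 := rfl
theorem F503732 : act 4 n220429 = n199088 := d5_2 D193658 D220429 (iv3 D199088) (iv4 F390586) (iv3 D193657)
theorem F503733 : act 6 n220429 = n220339 := d7_2 F460411 D220429 F503275
theorem F503734 : act 7 n220429 = n217284 := d8_2 (iv7 F390588) D220429 (iv3 D217284)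
theorem F503735 : act 0 n220429 = n206535 := d19_4 D133649 (iv5 F352861) D193658 D220429 (iv5 F441212) D209573 F454192 F432769 (iv5 D201476) F178687 F176062 (iv1 F176060) F82487 (iv4 F47671) (iv3 D29666) (iv1 D14092) D14094 D29672 D62732
theorem F503736 : act 0 n206534 = n220429 := d20_4 (iv4 F336419) (iv1 F327863) D215607 F480742 (iv3 D220429) (iv4 D193658) (iv1 D102173) F74637 (iv3 F74629) D102161
def n220430 : Q := act 6 n193660
theorem D220430 : act 6 n193660 = n220430 := rfl
theorem F503737 : act 2 n220430 = n210924 := d3_1 D220430 F459310 F405897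
theorem F503738 : act 3 n220430 = n204405 := d7_1 D220430 (iv6 D204405) (iv3 F390603)
theorem F503739 : act 4 n220430 = n193661 := d10_1 D220430 (iv6 D193661) D193660
theorem F503740 : act 5 n220430 = n211379 := d12_1 D220430 (iv6 F470397) (iv5 F492611) F492612 (iv5 F390604)
theorem F503741 : act 7 n220430 = n210917 := d14_2 (iv7 F390605) D220430 (iv6 D210917) (iv7 F400170) F400169
theorem F503742 : act 0 n220430 = n210922 := d21_4 (iv5 F432920) F432921 (iv5 F390604) D220430 (iv6 F459300) (iv5 D166737) F122841 D86163 D180412 F394081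
theorem F503743 : act 1 n220430 = n210921 := d15_1 (iv0 F503742) F474389 F474384
def n220431 : Q := act 1 n193661
theorem D220431 : act 1 n193661 = n220431 := rfl
theorem F503744 : act 1 n220431 = n210920 := d15_1 D220431 F459297 F432342
theorem F503745 : act 7 n220431 = n217171 := d15_2 (iv0 F390608) D220431 F487771
theorem F503746 : act 5 n220431 = n193975 := d17_7 F390407 D217268 F488202 F486522 F379248 (iv5 F390606) D220431 (iv0 D193975) (iv4 F390406)
theorem F503747 : act 2 n217169 = n220431 := d2_3 F503746 F432175 D217169
theorem F503748 : act 6 n219683 = n220431 := d21_5 D188160 (iv1 F389694) F389691 (iv6 F388614) (iv1 F500030) F503746 (iv1 F391575) F368494 (iv6 F370881) (iv1 F370883)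
def n220432 : Q := act 0 n193663
theorem D220432 : act 0 n193663 = n220432 := rfl
theorem F503749 : act 5 n220432 = n214292 := d17_1 D220432 (iv1 F474428) (iv5 F500211) (iv4 D219713) F385611 F361951 (iv5 D137156) (iv0 F352856) (iv4 F390611)
theorem F503750 : act 4 n220432 = n211179 := d18_1 D220432 F460480 (iv4 D209922) (iv5 F352925) F433720 F433726 (iv4 F479570) F479572 F464678
theorem F503751 : act 3 n220432 = n202369 := d20_5 (iv4 D145407) (iv1 F165858) (iv4 F402547) F402546 D220432 (iv4 F423794) F425274 F425273 (iv3 D200130) F228439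
theorem F503752 : act 6 n220432 = n202834 := d21_5 (iv5 F416241) F377494 F353357 D193663 D220432 (iv5 F425784) F425234 (iv5 D202711) (iv6 F359928) (iv1 F416242)
theorem F503753 : act 2 n209944 = n220432 := d15_3 (iv0 D220432) (iv0 F479586) F479583
theorem F503754 : act 1 n202840 = n220432 := d15_0 (iv0 D220432) F390612 (iv2 F425806)
theorem F503755 : act 7 n220432 = n193738 := d15_2 F479585 F503754 (iv2 F479581)
def n220433 : Q := act 5 n193668
theorem D220433 : act 5 n193668 = n220433 := rfl
theorem F503756 : act 3 n220433 = n193669 := d6_1 D220433 (iv5 D193669) D193668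
theorem F503757 : act 7 n220433 = n209210 := d13_2 (iv7 F390633) D220433 (iv5 D209210)
theorem F503758 : act 0 n220433 = n216047 := d21_1 D220433 F482656 (iv6 D210036) (iv1 F451494) F451496 (iv5 F453547) (iv1 F453551) F434948 (iv6 F502736) (iv1 F502737)
theorem F503759 : act 6 n216213 = n220433 := d21_5 (iv5 D193122) F361042 F135144 D182194 D216213 (iv5 D220433) (iv1 F502555) F502552 (iv6 D216179) F388822
def n220434 : Q := act 6 n193669
theorem D220434 : act 6 n193669 = n220434 := rfl
theorem F503760 : act 2 n220434 = n209410 := d3_1 D220434 (iv6 D209410) (iv2 F390634)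
theorem F503761 : act 3 n220434 = n216213 := d7_1 D220434 F503759 F503756
theorem F503762 : act 5 n220434 = n209736 := d12_1 D220434 (iv6 D209736) F220055 (iv6 F329004) D193669
theorem F503763 : act 7 n220434 = n217988 := d14_2 (iv7 F390635) D220434 (iv6 F491569) (iv7 D210064) F220598
theorem F503764 : act 0 n220434 = n217990 := d21_10 F491576 (iv1 F387275) (iv5 F501654) F501655 (iv1 F487982) F446136 (iv5 D135881) (iv1 F329001) D193669 D220434
theorem F503765 : act 0 n217982 = n220434 := d21_4 F486255 (iv1 D188256) D188257 (iv6 F491547) (iv6 D220434) (iv5 D193669) (iv1 D102210) D102211 (iv6 F288531) D216858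
def n220435 : Q := act 4 n193670
theorem D220435 : act 4 n193670 = n220435 := rfl
theorem F503766 : act 2 n220435 = n209413 := d1_1 D220435 (iv4 D209413) (iv2 F390643)
theorem F503767 : act 7 n220435 = n209411 := d11_2 F390642 D220435 (iv4 D209411)
theorem F503768 : act 0 n220435 = n213405 := d17_0 F470259 F451802 D209120 F452353 (iv5 D193669) F329001 D135881 F390641 D220435
theorem F503769 : act 1 n220435 = n216252 := d18_6 D137471 (iv4 F399182) F441153 F441152 (iv5 F390640) D220435 F483496 (iv0 F352702) (iv5 D137473)
def n220436 : Q := act 6 n193670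
theorem D220436 : act 6 n193670 = n220436 := rfl
theorem F503770 : act 2 n220436 = n209414 := d3_1 D220436 (iv6 D209414) (iv2 F390643)
theorem F503771 : act 3 n220436 = n220076 := d7_1 D220436 (iv6 F501989) F462468
theorem F503772 : act 5 n220436 = n209225 := d12_1 D220436 (iv6 D209225) F218767 D136533 (iv5 F390640)
theorem F503773 : act 0 n203208 = n220436 := d21_4 (iv5 D101067) F190192 D118220 D203208 (iv6 D220436) F390640 (iv1 F219631) D138254 F365826 F280243
def n220437 : Q := act 3 n193671
theorem D220437 : act 3 n193671 = n220437 := rfl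
theorem F503774 : act 2 n220437 = n216190 := d0_1 D220437 F483315 F462339 (iv3 F365485) F390647
theorem F503775 : act 5 n220437 = n209266 := d6_2 (iv5 F390646) D220437 F452965
theorem F503776 : act 7 n220437 = n209412 := d8_2 (iv7 F390645) D220437 (iv3 D209412)
theorem F503777 : act 0 n216191 = n220437 := d21_1 F502735 F503775 (iv6 D209266) (iv1 F409962) (iv6 D198933) F330978 D134184 F330974 D209208 (iv1 F502738)
theorem F503778 : act 0 n220437 = n216179 := d21_1 (iv5 F503775) (iv5 F502552) (iv6 D220189) (iv1 D193104) (iv6 F388752) (iv5 D193102) F351628 D101317 D193181 F452967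
def n220438 : Q := act 4 n193671
theorem D220438 : act 4 n193671 = n220438 := rfl
theorem F503779 : act 2 n220438 = n209411 := d1_1 D220438 (iv4 D209411) F390647
theorem F503780 : act 6 n220438 = n216747 := d10_2 F426401 D220438 (iv4 F485756)
theorem F503781 : act 7 n220438 = n209413 := d11_2 (iv7 F390645) D220438 (iv4 D209413)
theorem F503782 : act 5 n220438 = n217889 := d16_1 D220438 F491104 (iv5 D207250) F214589 D206513 F441152 (iv5 F390640) (iv7 F390642) F390647
theorem F503783 : act 0 n220438 = n216252 := d17_0 F483497 F448135 (iv5 F387435) (iv4 D136892) (iv5 D64349) F329000 D102211 D193671 D220438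
theorem F503784 : act 1 n220438 = n213405 := d18_6 F422940 (iv4 F397226) F397229 F328414 (iv5 F390646) D220438 F470258 F483502 F483499
def n220439 : Q := act 0 n193672
theorem D220439 : act 0 n193672 = n220439 := rfl
theorem F503785 : act 5 n220439 = n210575 := d17_1 D220439 F458097 (iv5 F456996) (iv4 D210318) (iv5 D138254) F219631 (iv5 F390640) (iv0 D193670) D193672
theorem F503786 : act 4 n220439 = n209495 := d18_1 D220439 F453917 D209702 F454673 (iv4 D208877) F218007 (iv4 F352115) (iv0 F443974) F443973
theorem F503787 : act 3 n220439 = n217201 := d20_5 (iv4 D187151) D187150 (iv4 F470284) (iv3 F470285) D220439 F487906 (iv1 D191466) (iv4 F383520) F488387 (iv1 D217312)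
theorem F503788 : act 1 n209147 = n220439 := d15_0 (iv0 D220439) F390648 (iv2 F452453)
theorem F503789 : act 2 n209416 = n220439 := d1_3 F503786 F483501 F483500
theorem F503790 : act 6 n210577 = n220439 := d10_0 F503786 (iv6 F485716) F485715
theorem F503791 : act 7 n209415 = n220439 := d11_0 F503786 F453916 (iv4 F453606)
def n220440 : Q := act 1 n193672
theorem D220440 : act 1 n193672 = n220440 := rfl
theorem F503792 : act 1 n220440 = n209147 := d15_1 D220440 (iv7 F466813) F466810
theorem F503793 : act 7 n220440 = n209416 := d15_2 (iv0 D220439) D220440 F503789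
theorem F503794 : act 5 n220440 = n210582 := d17_7 (iv1 F443969) (iv5 D207250) (iv1 D130647) D130648 D207251 F443973 D220440 F458126 (iv4 D209010)
theorem F503795 : act 4 n220440 = n209267 := d17_9 F452969 (iv5 D136839) (iv1 D64331) D64332 D136842 F352114 (iv0 F443974) F443973 D220440
theorem F503796 : act 2 n209415 = n220440 := d1_3 F503795 F452968 (iv4 F453606)
theorem F503797 : act 3 n210596 = n220440 := d20_5 (iv4 D203736) (iv1 F306418) (iv4 F308321) (iv3 F432829) (iv1 F458162) F503795 F452969 D209707 F454692 (iv1 F429606)
def n220441 : Q := act 3 n193674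
theorem D220441 : act 3 n193674 = n220441 := rfl
theorem F503798 : act 4 n220441 = n199138 := d5_2 D193674 D220441 F410842 F390650 (iv3 D193673)
theorem F503799 : act 6 n220441 = n199137 := d7_2 (iv6 F390652) D220441 F410837
theorem F503800 : act 7 n220441 = n217293 := d8_2 (iv7 F390653) D220441 (iv3 D217293)
theorem F503801 : act 0 n220441 = n209692 := d20_4 (iv4 F74640) D102217 D193674 D220441 (iv3 D209692) F366632 F390672 (iv4 D193681) (iv3 D102227) (iv1 D47451)
theorem F503802 : act 0 n215616 = n220441 := d20_4 (iv4 F354162) (iv1 D176126) (iv4 F275380) (iv3 F480776) (iv3 D220441) (iv4 D193674) (iv1 F385775) F385772 (iv3 F385748) (iv1 F385751)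
def n220442 : Q := act 2 n193675
theorem D220442 : act 2 n193675 = n220442 := rfl
theorem F503803 : act 6 n220442 = n198457 := d3_2 F455325 D220442 F455323
theorem F503804 : act 1 n220442 = n200020 := d15_0 (iv0 F500276) F500275 D220442
theorem F503805 : act 1 n219800 = n220442 := d15_0 F503804 (iv7 F463811) (iv2 F500682)
def n220443 : Q := act 4 n193675
theorem D220443 : act 4 n193675 = n220443 := rfl
theorem F503806 : act 6 n220443 = n200205 := d10_2 F455325 D220443 (iv4 F455326)
theorem F503807 : act 0 n220443 = n205997 := d17_0 (iv5 D205997) D205995 (iv5 F438761) F401210 F393847 F408135 F463813 (iv0 F463812) D220443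
theorem F503808 : act 1 n220443 = n220291 := d18_8 (iv1 F438750) (iv4 F471625) (iv1 F471628) (iv4 F404166) (iv5 F463722) (iv4 F463809) (iv0 F463812) D220443 (iv5 D220291)
theorem F503809 : act 5 n195441 = n220443 := d19_1 F497642 (iv4 D220443) (iv3 D193675) (iv1 D102218) D102219 F365781 F159342 (iv1 F75587) (iv5 D44656) F63438 (iv3 F58694) (iv1 D37848) (iv5 F30771) F30770 (iv3 F34945) D46682 D99947 D192265 (iv3 F497639)
def n220444 : Q := act 3 n193676
theorem D220444 : act 3 n193676 = n220444 := rfl
theorem F503810 : act 6 n220444 = n209674 := d7_2 F503464 D220444 F503469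
theorem F503811 : act 7 n220444 = n205934 := d8_2 (iv7 F390659) D220444 F438488
theorem F503812 : act 0 n220444 = n209704 := d19_4 (iv1 F381976) F381566 D193676 D220444 (iv5 F454679) F451864 D203194 F427383 F383470 (iv4 F383460) F383459 (iv1 F278620) F317621 (iv4 F319353) (iv3 D97174) (iv1 D45413) D45414 D97180 D191046
theorem F503813 : act 0 n205085 = n220444 := d20_4 (iv4 F100298) F100300 (iv4 F201754) (iv3 F434918) (iv3 D220444) (iv4 D193676) (iv1 D102218) F74640 (iv3 F74639) (iv1 F329000)
theorem F503814 : act 2 n209703 = n220444 := d15_3 (iv0 F503813) (iv0 F456507) (iv7 F456509)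
def n220445 : Q := act 0 n193678
theorem D220445 : act 0 n193678 = n220445 := rfl
theorem F503815 : act 3 n220445 = n202814 := d20_5 F74640 D47450 D102223 D193678 D220445 (iv4 F503059) (iv1 F503808) (iv4 D220443) (iv3 D193675) (iv1 D102218)
theorem F503816 : act 4 n220445 = n214080 := d20_8 F403901 (iv1 F463702) F463698 F389421 (iv1 F389430) (iv3 F460191) F460192 D220445 F473386 (iv1 F459788)
theorem F503817 : act 6 n220445 = n193723 := d21_5 F331558 (iv1 F419748) F419750 (iv6 F390668) D220445 (iv5 F420312) (iv1 F420316) F340015 F324395 D142469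
theorem F503818 : act 2 n193732 = n220445 := d15_3 (iv0 D220445) F443604 D193732
theorem F503819 : act 1 n193731 = n220445 := d15_0 (iv0 D220445) (iv7 F500284) F500282
theorem F503820 : act 7 n220445 = n193724 := d15_2 D193731 F503819 F390792
def n220446 : Q := act 1 n193682
theorem D220446 : act 1 n193682 = n220446 := rfl
theorem F503821 : act 7 n220446 = n220075 := d15_2 F462558 D220446 F501981
theorem F503822 : act 5 n220446 = n211626 := d17_7 D166052 (iv5 F307962) (iv1 F334085) F390671 (iv4 D193681) D193682 D220446 (iv0 F462441) (iv4 D166054)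
theorem F503823 : act 4 n220446 = n211612 := d17_9 (iv1 F501585) F501582 (iv1 D195606) D195607 (iv4 F486232) F486233 F390673 D193682 D220446
theorem F503824 : act 3 n209755 = n220446 := d20_5 (iv4 F454276) F454279 (iv4 D136892) (iv3 F220064) D209755 F503823 (iv1 F501585) F501581 F453614 (iv1 F221389)
def n220447 : Q := act 6 n193685
theorem D220447 : act 6 n193685 = n220447 := rfl
theorem F503825 : act 2 n220447 = n216861 := d3_1 D220447 (iv6 D216861) (iv2 F390684)
theorem F503826 : act 3 n220447 = n217115 := d7_1 D220447 (iv6 D217115) F390689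
theorem F503827 : act 4 n220447 = n193686 := d10_1 D220447 (iv6 D193686) D193685
theorem F503828 : act 5 n220447 = n217906 := d12_1 D220447 (iv6 D217906) F372468 F340540 (iv5 F390686)
theorem F503829 : act 0 n204532 = n220447 := d21_4 F368401 F355389 D123974 (iv6 F432809) (iv6 D220447) F390686 (iv1 D172214) D172215 (iv6 F383212) F383213
def n220448 : Q := act 3 n193700
theorem D220448 : act 3 n193700 = n220448 := rfl
theorem F503830 : act 2 n220448 = n219652 := d0_1 D220448 F499857 F488283 F369189 (iv2 F390722)
theorem F503831 : act 7 n220448 = n214042 := d8_2 F484900 D220448 (iv3 F484904)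
theorem F503832 : act 0 n220448 = n219653 := d20_4 F221530 (iv1 F365461) D193700 D220448 F499859 (iv4 F388293) (iv1 F388295) F386776 (iv3 F457010) F457012
theorem F503833 : act 0 n219650 = n220448 := d20_4 (iv4 F458068) F458069 (iv4 F438416) (iv3 F499852) (iv3 D220448) (iv4 D193700) (iv1 F368774) (iv4 F388098) (iv3 F457145) (iv1 F457148)
def n220449 : Q := act 5 n193700
theorem D220449 : act 5 n193700 = n220449 := rfl
theorem F503834 : act 2 n220449 = n193703 := d2_1 D220449 (iv5 D193703) (iv2 F390722)
def n220450 : Q := act 6 n193700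
theorem D220450 : act 6 n193700 = n220450 := rfl
theorem F503835 : act 2 n220450 = n193704 := d3_1 D220450 (iv6 D193704) (iv2 F390722)
theorem F503836 : act 4 n220450 = n193701 := d10_1 D220450 (iv6 D193701) D193700
theorem F503837 : act 7 n220450 = n210680 := d14_2 F484900 D220450 F473596 (iv7 F447690) F484902
theorem F503838 : act 5 n220450 = n217220 := d21_6 (iv5 F384397) (iv1 D191767) (iv5 F328507) (iv6 F467738) F467740 D220450 (iv1 F488006) F483507 (iv6 D184322) D184319
theorem F503839 : act 0 n210682 = n220450 := d20_10 F503836 (iv1 F390737) (iv4 F424343) F424342 F457042 F457041 F348290 F363463 F363480 (iv3 F458432)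
theorem F503840 : act 0 n220450 = n210677 := d20_1 (iv4 F503836) F458427 (iv3 D208081) (iv1 D133371) F97610 F47523 D29599 D62600 D133384 (iv1 F390736)
def n220451 : Q := act 5 n193701
theorem D220451 : act 5 n193701 = n220451 := rfl
theorem F503841 : act 2 n220451 = n193706 := d2_1 D220451 (iv5 D193706) (iv2 F390723)
theorem F503842 : act 3 n220451 = n218875 := d6_1 D220451 (iv5 F495990) F467428
theorem F503843 : act 7 n220451 = n211838 := d13_2 F390728 D220451 (iv5 D211838)
theorem F503844 : act 4 n220451 = n220025 := d16_4 (iv4 F488418) (iv5 F503838) F503836 D220451 (iv5 D220025) F387440 D192674 (iv7 F387447) F486318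
theorem F503845 : act 0 n220451 = n218890 := d17_2 (iv1 F390736) D220451 F496063 F388076 D192876 F498840 F498835 (iv0 D214123) F246044
def n220452 : Q := act 0 n193703
theorem D220452 : act 0 n193703 = n220452 := rfl
theorem F503846 : act 5 n220452 = n202650 := d17_3 F361895 D193703 D220452 (iv4 F469646) F469647 (iv0 F439589) F439587 (iv0 D192843) F361894
theorem F503847 : act 4 n220452 = n216498 := d18_1 D220452 F484687 (iv4 F491817) F491818 F457011 (iv0 F488171) F488170 (iv0 D193702) D193703
theorem F503848 : act 3 n220452 = n202651 := d20_5 (iv4 F503205) F503208 F491074 F488300 D220452 (iv4 F471962) F471964 F467530 (iv3 F501440) F501444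
theorem F503849 : act 6 n216497 = n220452 := d7_0 F503848 (iv6 F499484) F499481
def n220453 : Q := act 1 n193703
theorem D220453 : act 1 n193703 = n220453 := rfl
theorem F503850 : act 5 n220453 = n219739 := d17_7 (iv1 F385929) F385931 (iv1 D187080) F137244 D102247 D193703 D220453 (iv0 F500362) F391812
theorem F503851 : act 3 n211674 = n220453 := d19_19 (iv1 D220453) (iv5 D193703) (iv4 D102247) (iv3 D47458) (iv1 D22795) D22797 (iv4 F63945) (iv3 F136207) (iv1 F153398) (iv5 D99649) (iv4 F153387) (iv3 F285786) F285787 D194076 (iv4 F462626) (iv3 D211673) (iv1 D143762) D143763 D211674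
theorem F503852 : act 6 n220453 = n212934 := d7_2 (iv6 F462634) F503851 F468202
def n220454 : Q := act 1 n193704
theorem D220454 : act 1 n193704 = n220454 := rfl
theorem F503853 : act 1 n220454 = n210680 := d15_1 D220454 (iv7 F503837) F503835
theorem F503854 : act 7 n220454 = n210677 := d15_2 (iv0 F457316) D220454 F458425
theorem F503855 : act 3 n212545 = n220454 := d19_19 (iv1 D220454) (iv5 F488414) (iv4 D217321) (iv3 F451914) (iv1 F454703) F454700 (iv4 D208873) (iv3 F374723) (iv1 D188051) (iv5 F143019) (iv4 F369222) D213502 F470716 (iv5 D173421) F127910 (iv3 F127908) (iv1 F317255) (iv5 F354063) (iv4 F466356)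
theorem F503856 : act 6 n212544 = n220454 := d21_9 (iv5 F488414) (iv1 F488416) F488004 (iv6 D212916) (iv1 F386638) D219883 F501032 (iv1 D213604) (iv5 F466354) (iv1 D220454)
theorem F503857 : act 5 n220454 = n216247 := d12_1 F503856 (iv6 D216247) F283658 (iv6 F310367) (iv5 F466354)
theorem F503858 : act 2 n220454 = n210682 := d0_1 F503855 F458432 F341123 F341132 (iv2 F466355)
def n220455 : Q := act 7 n193704
theorem D220455 : act 7 n193704 = n220455 := rfl
theorem F503859 : act 2 n220455 = n210680 := d4_1 D220455 (iv7 F503837) F503835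
theorem F503860 : act 3 n220455 = n202531 := d8_1 D220455 (iv7 F473528) F473525
theorem F503861 : act 4 n220455 = n193707 := d11_1 D220455 (iv7 D193707) (iv4 F390724)
theorem F503862 : act 5 n220455 = n217221 := d13_1 D220455 (iv7 F488413) F488414
theorem F503863 : act 6 n220455 = n208061 := d14_1 D220455 F447693 F443515 F385800 D193704
theorem F503864 : act 1 n210682 = n220455 := d15_1 (iv0 F503839) (iv7 D220455) (iv2 F503835)
theorem F503865 : act 1 n220455 = n210677 := d15_1 F503864 (iv7 F503854) F503858
def n220456 : Q := act 5 n193705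
theorem D220456 : act 5 n193705 = n220456 := rfl
theorem F503866 : act 2 n220456 = n208101 := d2_1 D220456 (iv5 D208101) F390726
theorem F503867 : act 7 n220456 = n211827 := d13_2 (iv7 F390725) D220456 (iv5 D211827)
theorem F503868 : act 0 n220456 = n211840 := d21_1 D220456 (iv5 F500255) (iv6 D219720) F385675 (iv6 D113082) (iv5 F161798) D195209 (iv5 F396272) F390729 (iv1 F390727)
theorem F503869 : act 0 n204898 = n220456 := d21_10 (iv5 D220456) (iv1 D193705) D193706 (iv6 F488200) F488202 (iv6 D216914) F289077 (iv1 F136145) D124646 D204898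
def n220457 : Q := act 1 n193706
theorem D220457 : act 1 n193706 = n220457 := rfl
theorem F503870 : act 1 n220457 = n211838 := d15_1 D220457 (iv7 F503843) F503841
theorem F503871 : act 7 n220457 = n218890 := d15_2 (iv0 F474011) D220457 F496060
theorem F503872 : act 5 n220457 = n209313 := d17_7 F503315 (iv5 F486279) F488415 F488414 F390724 D193706 D220457 (iv0 F453178) (iv4 F503313)
theorem F503873 : act 3 n209316 = n220457 := d6_3 F503872 F453175 D209316
theorem F503874 : act 6 n215228 = n220457 := d12_0 F503872 (iv6 D209313) F219360 D195330 (iv5 F478964)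
def n220458 : Q := act 7 n193706
theorem D220458 : act 7 n193706 = n220458 := rfl
theorem F503875 : act 2 n220458 = n211838 := d4_1 D220458 (iv7 F503843) F503841
theorem F503876 : act 3 n220458 = n193710 := d8_1 D220458 (iv7 D193710) (iv3 F390730)
theorem F503877 : act 5 n220458 = n193707 := d13_1 D220458 (iv7 D193707) D193706
theorem F503878 : act 0 n218890 = n220458 := d17_2 (iv1 D220070) (iv5 F496063) F503877 (iv4 F503861) F503862 F487997 F483507 D216548 (iv4 F501964)
def n220459 : Q := act 6 n193710
theorem D220459 : act 6 n193710 = n220459 := rfl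
theorem F503879 : act 0 n220459 = n218111 := d21_4 (iv5 F385780) (iv1 F385794) (iv5 F390746) D220459 F492188 (iv5 D202827) F393171 (iv5 F476453) F495919 (iv1 D218853)
theorem F503880 : act 1 n220459 = n218112 := d15_1 (iv0 F503879) F492191 (iv2 F492186)
def n220460 : Q := act 5 n193717
theorem D220460 : act 5 n193717 = n220460 := rfl
theorem F503881 : act 3 n220460 = n193718 := d6_1 D220460 (iv5 D193718) D193717
theorem F503882 : act 6 n220460 = n198571 := d21_9 (iv5 F453794) F453795 F452567 F496244 (iv1 D218931) (iv6 F461355) (iv5 F471626) (iv1 F471628) D220460 (iv1 F418454)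
theorem F503883 : act 4 n198573 = n220460 := d10_3 F503882 (iv4 D198571) D198573
def n220461 : Q := act 6 n193718
theorem D220461 : act 6 n193718 = n220461 := rfl
theorem F503884 : act 3 n220461 = n198571 := d7_1 D220461 (iv6 F503882) F503881
theorem F503885 : act 0 n220461 = n201105 := d19_4 (iv1 F408363) (iv5 D198572) D198571 (iv3 F503884) (iv5 D201105) (iv4 D113913) (iv3 F177199) D201093 (iv5 F421280) F421278 (iv3 F251971) (iv1 D90564) (iv5 D42392) (iv4 F33699) F33698 D21450 D44944 D96274 (iv3 F340608)
def n220462 : Q := act 4 n193727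
theorem D220462 : act 4 n193727 = n220462 := rfl
theorem F503886 : act 2 n220462 = n207638 := d1_1 D220462 F461464 (iv2 F461463)
theorem F503887 : act 5 n220462 = n195629 := d9_2 D193727 D220462 (iv4 D195629) (iv5 F390781) (iv4 D193720) (iv5 D102257) D102256 D193718 (iv4 F437464) (iv5 D205688) (iv4 F332604) (iv5 F390803) (iv4 D193729) (iv5 D102262) D102261
theorem F503888 : act 0 n220462 = n219198 := d18_2 F461137 D220462 F497684 F381505 F377069 (iv0 F392712) D194301 (iv0 F392746) D211327
def n220463 : Q := act 5 n193731
theorem D220463 : act 5 n193731 = n220463 := rfl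
theorem F503889 : act 2 n220463 = n219218 := d2_1 D220463 (iv5 F500283) F500282
theorem F503890 : act 3 n220463 = n211859 := d6_1 D220463 F463291 F443602
theorem F503891 : act 7 n220463 = n211854 := d13_2 (iv7 F443603) D220463 (iv5 D211854)
theorem F503892 : act 4 n220463 = n218905 := d16_4 (iv4 F463492) (iv5 F463495) F457317 D220463 F496127 (iv4 F494732) F494736 F463482 F402093
theorem F503893 : act 0 n219219 = n220463 := d21_10 (iv5 D220463) (iv1 D193731) F378408 (iv6 F477949) (iv1 D215024) F447865 F447863 (iv1 F394560) F394558 (iv6 F497780)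
theorem F503894 : act 6 n217445 = n220463 := d21_5 (iv5 D164444) (iv1 F177937) F177929 (iv6 F378626) (iv1 F488909) (iv5 D220463) (iv1 D193731) F378408 (iv6 F477949) (iv1 D215024)
theorem F503895 : act 1 n211756 = n220463 := d15_1 (iv0 F497735) F503891 (iv2 F497733)
def n220464 : Q := act 6 n193748
theorem D220464 : act 6 n193748 = n220464 := rfl
theorem F503896 : act 2 n220464 = n218036 := d3_1 D220464 F491813 F422972
theorem F503897 : act 3 n220464 = n193750 := d7_1 D220464 (iv6 D193750) D193748
theorem F503898 : act 4 n220464 = n217602 := d10_1 D220464 F489741 F422969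
theorem F503899 : act 5 n220464 = n219681 := d12_1 D220464 (iv6 F500022) (iv5 D202129) (iv6 F422964) (iv5 F422968)
theorem F503900 : act 7 n220464 = n220180 := d14_2 F498530 D220464 F502504 F498536 (iv6 F498529)
theorem F503901 : act 0 n220464 = n210539 := d21_4 F390962 F422967 (iv5 F422968) D220464 F457972 (iv5 D139373) D139371 (iv5 F454957) (iv6 D209789) (iv1 F390964)
theorem F503902 : act 1 n220464 = n217522 := d15_1 (iv0 F503901) (iv7 F492407) F492405
def n220465 : Q := act 3 n193751
theorem D220465 : act 3 n193751 = n220465 := rfl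
theorem F503903 : act 2 n220465 = n218033 := d0_1 D220465 F491793 (iv2 F489740) (iv3 F498538) F498534
theorem F503904 : act 4 n220465 = n213167 := d5_2 D193751 D220465 F469295 F422878 F359414
theorem F503905 : act 5 n220465 = n216500 := d6_2 (iv5 F390903) D220465 (iv3 D216500)
theorem F503906 : act 7 n220465 = n209810 := d8_2 F453893 D220465 F455033
theorem F503907 : act 6 n220156 = n220465 := d14_5 F503906 (iv6 D209810) F220130 D202126 (iv7 F502408)
theorem F503908 : act 0 n209795 = n220465 := d21_4 (iv5 D208548) F338724 D136971 D209795 (iv6 F503907) (iv5 D220156) (iv1 F388537) D209486 (iv6 F453899) (iv1 F449837)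
def n220466 : Q := act 6 n193751
theorem D220466 : act 6 n193751 = n220466 := rfl
theorem F503909 : act 2 n220466 = n220180 := d3_1 D220466 F502504 F498534
theorem F503910 : act 3 n220466 = n220156 := d7_1 D220466 F503907 (iv3 D220465)
theorem F503911 : act 4 n220466 = n193752 := d10_1 D220466 (iv6 D193752) D193751
theorem F503912 : act 5 n220466 = n219680 := d12_1 D220466 F500015 (iv5 F484704) (iv6 D216501) (iv5 F390903)
theorem F503913 : act 7 n220466 = n218036 := d14_2 F453893 D220466 F491813 (iv7 F454937) (iv6 F454940)
theorem F503914 : act 0 n220466 = n217522 := d21_10 F491083 F491081 (iv5 F480583) (iv6 D215574) (iv1 F390226) D204609 F433007 F394064 (iv5 F390903) D220466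
theorem F503915 : act 1 n220466 = n210539 := d15_1 (iv0 F503914) (iv7 F492398) F492397
def n220467 : Q := act 3 n193753
theorem D220467 : act 3 n193753 = n220467 := rfl
theorem F503916 : act 4 n220467 = n203616 := d5_2 (iv4 F481860) D220467 (iv3 F481864) (iv4 D215868) D215867
theorem F503917 : act 6 n220467 = n219793 := d7_2 (iv6 F485653) D220467 (iv3 F500652)
theorem F503918 : act 0 n220467 = n217519 := d20_4 F391027 (iv1 F481861) (iv4 F481860) D220467 F489292 D217522 (iv1 F503902) F503898 (iv3 F498538) F498537
def n220468 : Q := act 6 n193754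
theorem D220468 : act 6 n193754 = n220468 := rfl
theorem F503919 : act 3 n220468 = n214449 := d7_1 D220468 F475224 F484593
theorem F503920 : act 4 n220468 = n218151 := d10_1 D220468 (iv6 F492390) F488251
theorem F503921 : act 7 n220468 = n214444 := d14_2 (iv7 F498521) D220468 (iv6 D214444) (iv7 F428194) (iv6 F498518)
theorem F503922 : act 5 n220468 = n216509 := d21_6 F431605 (iv1 F390327) F357753 D215589 (iv1 F480668) D220468 (iv1 F489631) F489632 (iv6 F489275) (iv1 F431607)
def n220469 : Q := act 0 n193755
theorem D220469 : act 0 n193755 = n220469 := rfl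
theorem F503923 : act 6 n220469 = n215864 := d21_5 (iv5 D212993) F337195 F346092 (iv6 F390909) D220469 F481848 (iv1 D192491) D192493 D219954 F501349
theorem F503924 : act 3 n215866 = n220469 := d7_3 F503923 (iv3 D215864) D215866
def n220470 : Q := act 1 n193755
theorem D220470 : act 1 n193755 = n220470 := rfl
theorem F503925 : act 3 n217520 = n220470 := d20_3 (iv4 F483469) F483470 F489296 (iv1 D220470) (iv3 D193755) (iv4 D102290) D102288 D193749 F491516 (iv1 D217976)
theorem F503926 : act 5 n211197 = n220470 := d21_0 (iv1 D220470) (iv5 F460970) (iv6 D211287) F337198 F359691 (iv5 F300552) D192562 F387077 D215787 F484682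
def n220471 : Q := act 4 n193757
theorem D220471 : act 4 n193757 = n220471 := rfl
theorem F503927 : act 2 n220471 = n193819 := d1_1 D220471 (iv4 D193819) F390913
theorem F503928 : act 6 n220471 = n210397 := d10_2 F390915 D220471 (iv4 D210397)
theorem F503929 : act 7 n220471 = n193817 := d11_2 F390916 D220471 (iv4 D193817)
theorem F503930 : act 5 n220471 = n220079 := d16_1 D220471 F502000 F388113 (iv4 F337188) F305883 (iv4 F243594) F390918 F390917 F390913
theorem F503931 : act 1 n220471 = n216693 := d18_6 (iv1 D203049) F184218 D117800 F356841 (iv5 F390911) D220471 (iv4 F485561) (iv0 D216708) (iv5 F426780)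
def n220472 : Q := act 4 n193758
theorem D220472 : act 4 n193758 = n220472 := rfl
theorem F503932 : act 2 n220472 = n193817 := d1_1 D220472 (iv4 D193817) (iv2 F390919)
theorem F503933 : act 3 n220472 = n215569 := d5_1 D220472 F480552 F391065 F367350 (iv3 F390920)
theorem F503934 : act 5 n220472 = n216133 := d9_2 F390918 D220472 (iv4 D216133) (iv5 D181939) (iv4 F304003) (iv5 F332523) F356841 (iv5 F390911) D220471 F503930 F502000 F388113 (iv4 F337188) F305883 (iv4 F243594)
theorem F503935 : act 6 n220472 = n215568 := d10_2 (iv6 F390921) D220472 F480545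
theorem F503936 : act 7 n220472 = n193819 := d11_2 (iv7 F390917) D220472 (iv4 D193819)
theorem F503937 : act 0 n220472 = n216693 := d18_2 F390922 D220472 (iv4 F485561) F485560 F425079 F337191 D151969 F391090 (iv5 D193820)
def n220473 : Q := act 3 n193761
theorem D220473 : act 3 n193761 = n220473 := rfl
theorem F503938 : act 4 n220473 = n216776 := d5_2 D193761 D220473 (iv3 D216776) F390931 (iv3 D193760)
theorem F503939 : act 5 n220473 = n215937 := d6_2 (iv5 F390933) D220473 F482176
theorem F503940 : act 6 n220473 = n217517 := d7_2 F390934 D220473 (iv3 D217517)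
def n220474 : Q := act 3 n193764
theorem D220474 : act 3 n193764 = n220474 := rfl
theorem F503941 : act 4 n220474 = n213227 := d5_2 F392046 D220474 F469493 (iv4 F469086) F469085
theorem F503942 : act 6 n220474 = n209787 := d7_2 F392035 D220474 (iv3 D209787)
def n220475 : Q := act 5 n193764
theorem D220475 : act 5 n193764 = n220475 := rfl
theorem F503943 : act 2 n220475 = n219528 := d2_1 D220475 F499283 F485296
theorem F503944 : act 4 n220475 = n217070 := d9_1 D220475 F487252 F487191 (iv5 D191620) F151992 D98600 D191630 D219511 F499228 (iv5 F431899) (iv4 F441051) (iv5 F487185) F487184 (iv5 F392047) F392046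
theorem F503945 : act 6 n220475 = n220358 := d12_2 F392035 D220475 (iv5 D220358) F422953 F422950
theorem F503946 : act 7 n220475 = n219431 := d13_2 (iv7 F392034) D220475 F498860
theorem F503947 : act 0 n220475 = n194789 := d17_2 (iv1 F499220) D220475 F394481 F390297 F367859 F367858 (iv5 F380152) (iv0 F390893) (iv4 F499217)
theorem F503948 : act 1 n220475 = n219391 := d17_8 (iv1 F489950) (iv5 F454849) F454847 F368890 F390942 (iv5 D193765) D193764 D220475 F498651
def n220476 : Q := act 7 n193765
theorem D220476 : act 7 n193765 = n220476 := rfl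
theorem F503949 : act 2 n220476 = n217248 := d4_1 D220476 (iv7 F501911) F501908
theorem F503950 : act 3 n220476 = n193778 := d8_1 D220476 (iv7 D193778) (iv3 F390940)
theorem F503951 : act 4 n220476 = n217203 := d11_1 D220476 F487911 F390942
theorem F503952 : act 5 n220476 = n193766 := d13_1 D220476 (iv7 D193766) D193765
theorem F503953 : act 6 n220476 = n217228 := d14_1 D220476 (iv7 D217228) (iv6 D187021) (iv7 F157121) (iv6 F390941)
def n220477 : Q := act 1 n193769
theorem D220477 : act 1 n193769 = n220477 := rfl
theorem F503954 : act 1 n220477 = n214582 := d15_1 D220477 (iv7 F501348) F501344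
theorem F503955 : act 7 n220477 = n212993 := d15_2 (iv0 F390958) D220477 F468500
theorem F503956 : act 5 n220477 = n193821 := d17_7 F336881 (iv5 F318758) F215410 (iv5 F321789) (iv4 F226158) (iv5 F390956) D220477 F391091 F223212
theorem F503957 : act 6 n220002 = n220477 := d21_9 F390956 F356849 (iv5 F390911) (iv6 F390915) F334429 (iv6 F458406) (iv5 D210671) D210670 (iv5 F501597) (iv1 D220477)
theorem F503958 : act 2 n220477 = n214584 := d3_1 F503957 F485747 (iv2 F501599)
theorem F503959 : act 3 n220477 = n215591 := d7_1 F503957 F480677 F501598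
def n220478 : Q := act 6 n193770
theorem D220478 : act 6 n193770 = n220478 := rfl
theorem F503960 : act 3 n220478 = n193771 := d7_1 D220478 (iv6 D193771) D193770
theorem F503961 : act 4 n220478 = n213059 := d10_1 D220478 F468818 F458691
theorem F503962 : act 5 n220478 = n210050 := d12_1 D220478 (iv6 D210050) (iv5 F349478) (iv6 F370330) (iv5 F390959)
theorem F503963 : act 7 n209787 = n220478 := d13_0 F503962 (iv7 F455936) (iv5 F454946)
theorem F503964 : act 0 n203394 = n220478 := d21_1 D203394 F503962 (iv6 D210050) (iv1 F359469) F385435 (iv5 D192073) F380576 D219044 (iv6 F496865) (iv1 D203393)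
theorem E104049 : n209868 = n202067 := ((c18_1 D202067 F455204 F503964 F503961 (iv5 D213059) F239524 (iv0 F422817) (iv4 D202059) (iv0 D115352) D115354)).symm
theorem F503965 : act 3 n202067 = n203613 := (sb E104049 F455203)
theorem F503966 : act 4 n202067 = n203394 := (sb E104049 F455204)
theorem F503967 : act 5 n202067 = n137038 := (sb E104049 (iv5 D209868))
def n220479 : Q := act 5 n193772
theorem D220479 : act 5 n193772 = n220479 := rfl
theorem F503968 : act 2 n220479 = n216196 := d2_1 D220479 F483337 (iv2 F390966)
theorem F503969 : act 3 n220479 = n193774 := d6_1 D220479 (iv5 D193774) D193772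
theorem F503970 : act 4 n220479 = n219577 := d16_2 (iv4 F390971) D220479 (iv5 D219577) F384414 (iv5 F157699) (iv4 F391802) F485282 F485281 (iv2 D213620)
theorem F503971 : act 0 n220479 = n220073 := d21_1 D220479 F501977 (iv6 D213602) (iv1 D154472) F308270 (iv5 D40847) D40845 D87675 D183759 (iv1 F390967)
def n220480 : Q := act 3 n193776
theorem D220480 : act 3 n193776 = n220480 := rfl
theorem F503972 : act 2 n220480 = n216152 := d0_1 D220480 (iv3 D216152) F283292 D182948 F390978
theorem F503973 : act 5 n220480 = n213646 := d6_2 (iv5 F390977) D220480 (iv3 D213646)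
theorem F503974 : act 7 n220480 = n217242 := d8_2 F390979 D220480 (iv3 D217242)
theorem F503975 : act 0 n216424 = n220480 := d17_2 F358627 D216424 F503973 F471436 (iv5 F466370) (iv0 F466373) F471321 (iv0 F485283) (iv4 D216634)
def n220481 : Q := act 6 n193776
theorem D220481 : act 6 n193776 = n220481 := rfl
theorem F503976 : act 2 n220481 = n216323 := d3_1 D220481 F483836 F390978
theorem F503977 : act 5 n220481 = n194681 := d12_1 D220481 (iv6 F491876) (iv5 F491879) (iv6 D213647) (iv5 F390977)
theorem F503978 : act 7 n220481 = n217912 := d14_2 F390979 D220481 (iv6 F498658) F498655 F487684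
theorem F503979 : act 0 n220481 = n217199 := d21_4 F368400 F368371 (iv5 F390977) D220481 (iv6 D217199) (iv5 F487769) F487768 D217175 F487791 F483510
theorem F503980 : act 0 n217202 = n220481 := d21_4 F367111 D186808 F384006 (iv6 F487909) (iv6 D220481) F390977 (iv1 F390318) (iv5 F502009) F502010 (iv1 D194790)
def n220482 : Q := act 0 n193781
theorem D220482 : act 0 n193781 = n220482 := rfl
theorem F503981 : act 5 n220482 = n201926 := d17_1 D220482 (iv1 F422395) D202310 F423581 F391045 (iv0 D117515) D117517 F346080 (iv4 F391001)
theorem F503982 : act 4 n220482 = n203015 := d18_1 D220482 F426644 (iv4 F426875) F426874 (iv4 D119598) F188548 D203563 F428899 F428585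
theorem F503983 : act 1 n212757 = n220482 := d15_0 (iv0 D220482) (iv7 F426850) (iv2 F467377)
theorem F503984 : act 6 n209229 = n220482 := d21_3 F455026 (iv1 F473000) F472998 (iv1 F503983) (iv6 D212757) (iv5 F467353) (iv1 F467356) (iv5 F455158) (iv6 D209858) (iv1 F455029)
theorem F503985 : act 2 n220482 = n202321 := d3_1 F503984 F423621 F452802
theorem F503986 : act 7 n220482 = n202319 := d14_2 (iv7 F452800) F503984 (iv6 F473254) F473264 (iv6 D209831)
def n220483 : Q := act 1 n193781
theorem D220483 : act 1 n193781 = n220483 := rfl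
theorem F503987 : act 1 n220483 = n212757 := d15_1 D220483 F467380 F426860
theorem F503988 : act 7 n220483 = n202321 := d15_2 (iv0 D220482) D220483 (iv2 F503985)
theorem F503989 : act 5 n220483 = n201927 := d17_7 (iv1 D119297) (iv5 D54898) D54896 D119290 D203501 F428585 D220483 F422398 (iv4 F360178)
theorem F503990 : act 4 n220483 = n203086 := d17_9 F426915 (iv5 D119605) (iv1 F188564) D203572 F428946 (iv5 F428897) F428899 F428585 D220483
theorem F503991 : act 3 n212729 = n220483 := d19_19 (iv1 D220483) (iv5 F428585) (iv4 D203501) (iv3 F345605) (iv1 F209101) (iv5 F331929) F270586 (iv3 F306019) (iv1 D134703) D134704 (iv4 F341138) F189477 (iv1 F318276) D202479 F424190 F424192 F243629 (iv5 F234496) D212729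
theorem F503992 : act 2 n202319 = n220483 := d1_3 F503990 (iv2 F485707) F485709
def n220484 : Q := act 6 n193781
theorem D220484 : act 6 n193781 = n220484 := rfl
theorem F503993 : act 2 n220484 = n209837 := d3_1 D220484 (iv6 F455100) F426860
theorem F503994 : act 3 n220484 = n193782 := d7_1 D220484 (iv6 D193782) D193781
theorem F503995 : act 4 n220484 = n193786 := d10_1 D220484 (iv6 D193786) (iv4 F391001)
theorem F503996 : act 5 n220484 = n213255 := d12_1 D220484 F469579 F458696 F428586 F428585
theorem F503997 : act 7 n220484 = n209835 := d14_2 F426850 D220484 F455096 (iv7 F467237) F467236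
theorem F503998 : act 0 n220484 = n202282 := d21_4 (iv5 F428904) F428905 F428585 D220484 (iv6 D202282) (iv5 D115531) F166208 D53324 (iv6 F179932) (iv1 F423624)
theorem F503999 : act 0 n209833 = n220484 := d21_4 (iv5 F348363) F348360 D142325 (iv6 F467218) (iv6 D220484) (iv5 F428585) (iv1 F428899) F428897 (iv6 F449570) (iv1 F449573)
def n220485 : Q := act 0 n193782
theorem D220485 : act 0 n193782 = n220485 := rfl
theorem F504000 : act 4 n220485 = n220418 := d18_3 (iv1 D193784) (iv4 F391002) D220485 F503686 (iv4 F489351) (iv0 F489355) F449898 (iv0 F470416) F470418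
theorem F504001 : act 2 n220424 = n220485 := d1_3 F504000 F503689 D220424
theorem F504002 : act 3 n209228 = n220485 := d5_5 F504000 (iv3 F503687) (iv4 D212866) (iv3 F366459) (iv4 F452795)
theorem F504003 : act 7 n209832 = n220485 := d11_0 F504000 (iv7 F503688) (iv4 F455094)
theorem F504004 : act 1 n209230 = n220485 := d18_6 F483892 F484737 (iv1 D216511) (iv4 F484721) (iv5 F502236) F502235 F504000 (iv0 D220418) (iv5 F483890)
theorem F504005 : act 4 n220421 = n193783 := d20_0 (iv1 F502239) F502235 (iv3 D209230) D209228 F504002 F504000 (iv1 F503691) (iv4 F503700) F503699 D220421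
def n220486 : Q := act 1 n193782
theorem D220486 : act 1 n193782 = n220486 := rfl
theorem F504006 : act 1 n220486 = n209230 := d15_1 D220486 (iv7 F502221) F502217
theorem F504007 : act 7 n220486 = n220424 := d15_2 (iv0 D220485) D220486 F504001
theorem F504008 : act 4 n220486 = n212732 := d17_9 F467293 (iv5 F483890) F483892 F450921 F428197 F239977 D152874 (iv5 F391003) D220486
theorem F504009 : act 6 n212731 = n220486 := d21_3 F467220 (iv1 F500517) F500513 (iv1 D220486) (iv6 D193782) F357604 (iv1 F245228) (iv5 F179933) F346026 D212714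
theorem F504010 : act 2 n220486 = n209832 := d3_1 F504009 (iv6 F503568) (iv2 F503569)
def n220487 : Q := act 7 n193782
theorem D220487 : act 7 n193782 = n220487 := rfl
theorem F504011 : act 2 n220487 = n209230 := d4_1 D220487 (iv7 F502221) F502217
theorem F504012 : act 3 n220487 = n209835 := d8_1 D220487 (iv7 F503997) F503994
theorem F504013 : act 4 n220487 = n193785 := d11_1 D220487 (iv7 D193785) (iv4 F391002)
theorem F504014 : act 5 n220487 = n213069 := d13_1 D220487 F472836 (iv5 F391003)
theorem F504015 : act 6 n220487 = n212763 := d14_1 D220487 F472577 F472575 F382908 D193782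
theorem F504016 : act 1 n209832 = n220487 := d15_1 (iv0 F502222) (iv7 D220487) (iv2 F502217)
theorem F504017 : act 1 n220487 = n220424 := d15_1 F504016 (iv7 F504007) F504010
def n220488 : Q := act 3 n193783
theorem D220488 : act 3 n193783 = n220488 := rfl
theorem F504018 : act 0 n220488 = n220006 := d20_4 (iv4 F390544) D220421 F504005 D220488 F501615 (iv4 D212834) F237095 D206066 F439085 (iv1 D193643)
def n220489 : Q := act 6 n193783
theorem D220489 : act 6 n193783 = n220489 := rfl
theorem F504019 : act 2 n220489 = n209841 := d3_1 D220489 (iv6 F502223) F502226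
theorem F504020 : act 7 n220489 = n209842 := d14_2 F502228 D220489 (iv6 F455115) (iv7 F390277) F502230
theorem F504021 : act 5 n220489 = n210422 := d21_6 F155638 (iv1 F290157) D47485 D102325 D193783 D220489 (iv1 F493286) (iv5 F498490) (iv6 D219365) (iv1 F382928)
theorem F504022 : act 0 n209233 = n220489 := d21_4 (iv5 D64381) (iv1 F99462) (iv5 F218777) D209233 (iv6 D220489) F491792 (iv1 F491790) (iv5 F455035) (iv6 D209810) (iv1 D136981)
theorem F504023 : act 1 n209802 = n220489 := d15_0 (iv0 F504022) (iv7 F501897) F501894
theorem F504024 : act 3 n210423 = n220489 := d6_3 F504021 (iv3 D210422) D210423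
theorem F504025 : act 6 n220488 = n210423 := d7_0 F504024 (iv6 D220489) D220488
def n220490 : Q := act 4 n193788
theorem D220490 : act 4 n193788 = n220490 := rfl
theorem F504026 : act 5 n220490 = n217960 := d9_2 D193788 D220490 F491426 F372655 (iv4 F140153) (iv5 F372799) (iv4 F480582) F480583 (iv4 F450689) F450690 F368878 F139245 (iv4 F139085) F293739 (iv4 F157146)
theorem F504027 : act 6 n220490 = n209773 := d10_2 F494783 D220490 (iv4 F494782)
theorem F504028 : act 7 n217959 = n220490 := d14_0 F504027 (iv7 D209773) (iv6 F375713) (iv7 F450685) (iv6 F491424)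
def n220491 : Q := act 7 n193788
theorem D220491 : act 7 n193788 = n220491 := rfl
theorem F504029 : act 2 n220491 = n204523 := d4_1 D220491 (iv7 F491526) F491523
theorem F504030 : act 3 n220491 = n212764 := d8_1 D220491 F467410 (iv3 F458931)
theorem F504031 : act 4 n220491 = n217959 := d11_1 D220491 F504028 (iv4 D220490)
theorem F504032 : act 5 n220491 = n193789 := d13_1 D220491 (iv7 D193789) D193788
theorem F504033 : act 6 n220491 = n204206 := d14_1 D220491 F431485 (iv6 F432132) (iv7 F494784) F494783
theorem F504034 : act 1 n210531 = n220491 := d15_1 (iv0 F491527) (iv7 D220491) (iv2 F491523)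
theorem F504035 : act 1 n220491 = n204587 := d15_1 F504034 F432960 (iv2 F457944)
def n220492 : Q := act 3 n193794
theorem D220492 : act 3 n193794 = n220492 := rfl
theorem F504036 : act 2 n220492 = n198065 := d0_1 D220492 F406636 F168892 (iv3 F222587) (iv2 F391021)
theorem F504037 : act 5 n220492 = n198064 := d6_2 F391020 D220492 F406634
theorem F504038 : act 6 n220492 = n220053 := d7_2 F492406 D220492 F501873
theorem F504039 : act 0 n199378 = n220492 := d21_4 (iv5 F476000) F475999 F411907 (iv6 F411909) F504038 (iv5 D220053) F387813 D213760 F471967 (iv1 F432600)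
def n220493 : Q := act 5 n193796
theorem D220493 : act 5 n193796 = n220493 := rfl
theorem F504040 : act 2 n220493 = n216683 := d2_1 D220493 (iv5 D216683) (iv2 F391030)
theorem F504041 : act 3 n220493 = n193797 := d6_1 D220493 (iv5 D193797) D193796
theorem F504042 : act 7 n220493 = n220116 := d13_2 F471458 D220493 F502202
theorem F504043 : act 0 n220493 = n210236 := d18_0 F456690 F365750 F218696 D139450 D210630 (iv0 F481461) F481459 F471459 D220493
theorem F504044 : act 0 n210835 = n220493 := d19_0 (iv5 D220493) F391031 (iv3 D185182) (iv1 D88252) (iv5 F133504) (iv4 D86989) (iv3 F133502) D182180 F356423 (iv4 F356511) F385449 (iv1 D192078) D192079 F385455 (iv3 F396295) (iv1 D195212) (iv5 F333246) F359173 D210835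
def n220494 : Q := act 4 n193797
theorem D220494 : act 4 n193797 = n220494 := rfl
theorem F504045 : act 2 n220494 = n194920 := d1_1 D220494 (iv4 F466362) (iv2 F466364)
theorem F504046 : act 5 n220494 = n194915 := d9_2 D193797 D220494 (iv4 D194915) (iv5 D104757) (iv4 F135202) D185309 F368568 D193798 F391036 (iv5 F378263) (iv4 D95466) (iv5 D44598) (iv4 F70107) D95437 (iv4 F361676)
theorem F504047 : act 7 n220494 = n196275 := d11_2 (iv7 F391032) D220494 F400157
theorem F504048 : act 0 n220494 = n210916 := d17_0 F479237 F479236 F407278 F388155 (iv5 F353860) (iv0 F387890) D220058 F501907 D220494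
theorem F504049 : act 1 n220494 = n202439 := d18_6 (iv1 F387911) F369080 F370380 (iv4 F361676) D193797 D220494 F423996 F457878 F412760
theorem F504050 : act 3 n220494 = n215782 := d19_3 D102343 D193797 D220494 F481553 (iv5 D204673) (iv4 F433214) (iv3 D204669) F198698 (iv5 F299760) (iv4 F433919) (iv3 F446308) (iv1 F446312) D207767 F446333 F350725 (iv1 F289489) (iv5 F368559) F368558 F157147
theorem F504051 : act 6 n197636 = n220494 := d7_0 F504050 (iv6 F481555) (iv3 F459258)
def n220495 : Q := act 6 n193797
theorem D220495 : act 6 n193797 = n220495 := rfl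
theorem F504052 : act 2 n220495 = n218328 := d3_1 D220495 (iv6 F493341) (iv2 F466364)
theorem F504053 : act 4 n220495 = n197636 := d10_1 D220495 F504051 (iv4 D220494)
theorem F504054 : act 5 n220495 = n217152 := d12_1 D220495 F487684 (iv5 F390316) F390315 D193797
theorem F504055 : act 7 n220495 = n210913 := d14_2 (iv7 F391032) D220495 (iv6 D210913) F357503 D192951
theorem F504056 : act 0 n220495 = n218191 := d21_4 F154229 D102343 D193797 D220495 (iv6 D218191) (iv5 F389706) (iv1 F487502) F487499 F386836 (iv1 D192498)
theorem F504057 : act 0 n218329 = n220495 := d21_4 (iv5 F375529) F411612 F411610 (iv6 F493345) (iv6 D220495) (iv5 D193797) (iv1 F382940) F382937 F375585 (iv1 F375526)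
def n220496 : Q := act 4 n193800
theorem D220496 : act 4 n193800 = n220496 := rfl
theorem F504058 : act 2 n220496 = n202267 := d1_1 D220496 (iv4 F428928) F428927
theorem F504059 : act 5 n220496 = n202166 := d9_2 F426505 D220496 F423103 (iv5 D152927) F108625 (iv5 F53258) D73846 D155375 D213753 F472679 F472677 (iv5 F428580) (iv4 D203094) F184255 (iv4 F426504)
theorem F504060 : act 6 n220496 = n202733 := d10_2 F391042 D220496 F431869
theorem F504061 : act 7 n220496 = n202266 := d11_2 F428911 D220496 (iv4 F428912)
theorem F504062 : act 0 n220496 = n201910 := d17_0 (iv5 D201910) D201909 (iv5 F422326) (iv4 D117645) (iv5 D54191) D54190 (iv5 F346065) D193800 D220496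
theorem F504063 : act 1 n220496 = n202269 := d18_6 (iv1 F355072) (iv4 D119315) (iv1 F183996) (iv4 F426504) F426505 D220496 F423429 D203092 F426931
theorem F504064 : act 3 n220496 = n193891 := d19_3 (iv1 F426507) F426505 D220496 (iv1 D193891) (iv5 D102454) (iv4 D47532) F35410 D22843 F35955 F63027 F33159 (iv1 F35682) (iv5 D19105) D19104 (iv3 F31495) F63424 (iv5 F69374) (iv4 F145322) (iv3 F346084)
def n220497 : Q := act 4 n193804
theorem D220497 : act 4 n193804 = n220497 := rfl
theorem F504065 : act 1 n220497 = n216451 := d18_6 (iv1 D153802) (iv4 F241656) F467074 F467070 F391049 D220497 F484436 (iv0 F470523) (iv5 D213464)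
def n220498 : Q := act 4 n193805
theorem D220498 : act 4 n193805 = n220498 := rfl
theorem F504066 : act 0 n220498 = n216451 := d18_2 F480519 D220498 F484436 (iv5 F368198) (iv4 F415430) (iv0 D200181) D200183 (iv0 F415448) D215563
def n220499 : Q := act 1 n193807
theorem D220499 : act 1 n193807 = n220499 := rfl
theorem F504067 : act 4 n220499 = n204447 := d18_7 F471056 F426603 (iv1 F466058) (iv4 F466061) F372386 D193807 D220499 F471127 F471123
def n220500 : Q := act 0 n193814
theorem D220500 : act 0 n193814 = n220500 := rfl
theorem F504068 : act 5 n220500 = n213614 := d17_3 F390923 D193814 D220500 F471297 F390269 (iv0 D186553) F136236 D102355 (iv4 F368365)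
theorem F504069 : act 4 n220500 = n210454 := d18_1 D220500 F457607 F388008 F386820 (iv4 F368558) F368562 D193803 (iv0 F391047) D193814
theorem F504070 : act 3 n220500 = n202652 := d20_5 F499973 (iv1 F500343) F500345 F473686 D220500 F424942 F361406 D202937 (iv3 F426278) F499977
theorem F504071 : act 2 n212542 = n220500 := d15_3 (iv0 D220500) (iv0 F479606) (iv7 F479607)
theorem F504072 : act 1 n219883 = n220500 := d15_0 (iv0 D220500) (iv7 F484887) (iv2 F501029)
theorem F504073 : act 7 n220500 = n210395 := d15_2 (iv0 F501034) F504072 (iv2 F479602)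
theorem F504074 : act 6 n202650 = n220500 := d21_3 D193703 D220452 F503846 (iv1 F504072) (iv6 D219883) F386634 (iv1 D183124) (iv5 F134917) D184343 F361895
def n220501 : Q := act 4 n193816
theorem D220501 : act 4 n193816 = n220501 := rfl
theorem F504075 : act 2 n220501 = n215804 := d1_1 D220501 F481638 (iv2 F391070)
theorem F504076 : act 6 n220501 = n215281 := d10_2 (iv6 F391072) D220501 (iv4 D215281)
theorem F504077 : act 7 n220501 = n202140 := d11_2 (iv7 F391073) D220501 (iv4 F423023)
theorem F504078 : act 5 n220501 = n202141 := d16_1 D220501 (iv4 F481270) F481275 (iv4 D199081) F357705 (iv4 F172373) D199279 F411452 (iv2 F391070)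
theorem F504079 : act 0 n220501 = n204451 := d18_2 F391074 D220501 (iv4 D204451) (iv5 D123825) (iv4 F354943) (iv0 D122699) (iv4 F191646) F350262 D134443
theorem F504080 : act 1 n220501 = n204454 := d18_6 D199291 F411504 F410560 F410558 (iv5 F391071) D220501 (iv4 D204454) (iv0 F353711) (iv5 F353707)
theorem F504081 : act 3 n220501 = n213189 := d19_3 (iv1 F411440) (iv5 F391071) D220501 (iv1 F469377) (iv5 D156963) F112063 (iv3 F318263) (iv1 F51352) (iv5 F104925) F312709 D117972 (iv1 F320160) F320163 F306947 F306341 D119499 (iv5 F426837) F426838 (iv3 F426618)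
def n220502 : Q := act 0 n193817
theorem D220502 : act 0 n193817 = n220502 := rfl
theorem F504082 : act 4 n220502 = n211295 := d18_1 D220502 F461011 (iv4 F426815) (iv5 F431080) (iv4 D204099) F430719 (iv4 F501986) (iv0 D220076) (iv5 F391076)
theorem F504083 : act 1 n193819 = n220502 := d15_0 (iv0 D220502) (iv7 F503929) F503927
theorem F504084 : act 3 n220399 = n220502 := d20_9 (iv4 D193819) (iv1 D102364) F74673 (iv3 D41196) D41194 D88272 D185253 (iv1 F472689) (iv4 F503591) (iv1 F504083)
theorem F504085 : act 2 n216693 = n220502 := d1_3 F504082 (iv2 F485564) F485561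
def n220503 : Q := act 1 n193817
theorem D220503 : act 1 n193817 = n220503 := rfl
theorem F504086 : act 1 n220503 = n193819 := d15_1 D220503 (iv7 F503936) F503932
theorem F504087 : act 7 n220503 = n216693 := d15_2 (iv0 D220502) D220503 F504085
theorem F504088 : act 4 n220503 = n214585 := d17_9 F475913 (iv5 D203058) (iv1 D117619) D117620 D203061 (iv5 F501987) (iv0 D220076) (iv5 F391076) D220503
theorem F504089 : act 3 n216447 = n220503 := d20_5 F481512 F481836 (iv4 F484449) F484448 (iv1 F484417) F504088 F475913 (iv4 F426826) F421399 D215772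
def n220504 : Q := act 3 n193817
theorem D220504 : act 3 n193817 = n220504 := rfl
theorem F504090 : act 4 n220504 = n213189 := d5_2 D193817 D220504 (iv3 F504081) (iv4 D220501) (iv3 D193816)
theorem F504091 : act 5 n220504 = n220078 := d6_2 (iv5 F391076) D220504 (iv3 D220078)
theorem F504092 : act 6 n220504 = n216114 := d7_2 (iv6 F391075) D220504 (iv3 F483024)
theorem F504093 : act 0 n220504 = n216681 := d20_4 (iv4 F74673) D102363 D193817 D220504 (iv3 D216681) F484454 (iv1 F485581) (iv4 D216711) (iv3 D185275) (iv1 D88278)
def n220505 : Q := act 5 n193819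
theorem D220505 : act 5 n193819 = n220505 := rfl
theorem F504094 : act 2 n220505 = n220079 := d2_1 D220505 (iv5 F503930) F503927
theorem F504095 : act 4 n220505 = n203735 := d9_1 D220505 (iv5 D203735) F191861 F318168 D117811 (iv5 F356857) D193817 F391076 (iv4 D192889) (iv5 D100895) (iv4 F155038) F332502 D117806 (iv5 F366939) D193819
theorem F504096 : act 7 n220505 = n216133 := d13_2 F503936 D220505 (iv5 F503934)
theorem F504097 : act 0 n220505 = n220077 := d18_0 F501992 F427160 D203989 F430724 F426826 (iv0 F475913) (iv4 F504088) F504086 D220505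
theorem F504098 : act 1 n220505 = n220076 := d15_1 (iv0 F504097) F501990 (iv2 F501994)
theorem F504099 : act 6 n212940 = n220505 := d10_0 F504095 F429598 D212940
def n220506 : Q := act 6 n193823
theorem D220506 : act 6 n193823 = n220506 := rfl
theorem F504100 : act 2 n220506 = n210199 := d3_1 D220506 (iv6 F489250) F489247
theorem F504101 : act 3 n220506 = n210202 := d7_1 D220506 F456545 F434591
theorem F504102 : act 4 n220506 = n208148 := d10_1 D220506 (iv6 D208148) (iv4 F391103)
theorem F504103 : act 5 n220506 = n210138 := d12_1 D220506 (iv6 D210138) F220811 D201043 (iv5 F418856)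
theorem F504104 : act 7 n220506 = n211580 := d14_2 F444031 D220506 (iv6 F462238) (iv7 F421262) (iv6 F444030)
theorem F504105 : act 0 n220506 = n202979 := d21_10 F426479 (iv1 D201294) (iv5 D114268) (iv6 D52740) D52738 D114264 D201287 F419870 (iv5 F418856) D220506
theorem F504106 : act 0 n211133 = n220506 := d21_4 F416247 F416245 (iv5 F461019) F461020 (iv6 D220506) F418856 (iv1 F418857) F380872 (iv6 F419880) (iv1 F419881)
def n220507 : Q := act 6 n193826
theorem D220507 : act 6 n193826 = n220507 := rfl
theorem F504107 : act 2 n220507 = n209781 := d3_1 D220507 F454934 (iv2 F391114)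
theorem F504108 : act 3 n220507 = n193828 := d7_1 D220507 (iv6 D193828) (iv3 F391115)
theorem F504109 : act 4 n220507 = n210769 := d10_1 D220507 (iv6 D210769) (iv4 F391116)
theorem F504110 : act 5 n220507 = n203393 := d12_1 D220507 F496865 (iv5 D219044) F380573 D193826
theorem F504111 : act 7 n220507 = n204595 := d14_2 (iv7 F391117) D220507 (iv6 D204595) F304481 (iv6 F286586)
theorem F504112 : act 1 n203384 = n220507 := d15_1 F469532 F504111 (iv2 F469529)
def n220508 : Q := act 3 n193827
theorem D220508 : act 3 n193827 = n220508 := rfl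
theorem F504113 : act 4 n220508 = n210768 := d5_2 D193827 D220508 (iv3 D210768) (iv4 F391116) F391115
theorem F504114 : act 7 n220508 = n216574 := d8_2 (iv7 F391120) D220508 (iv3 D216574)
theorem F504115 : act 5 n220499 = n220508 := d16_1 (iv4 F504067) F504113 F458732 F245090 D197122 F415424 D204445 (iv7 F470522) F470521
def n220509 : Q := act 5 n193827
theorem D220509 : act 5 n193827 = n220509 := rfl
theorem F504116 : act 2 n220509 = n216643 := d2_1 D220509 (iv5 D216643) (iv2 F391119)
theorem F504117 : act 3 n220509 = n220499 := d6_1 D220509 F504115 (iv3 D220508)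
theorem F504118 : act 4 n220509 = n193891 := d9_1 D220509 F391305 (iv4 D184626) (iv5 D88033) (iv4 F73698) D99867 D192216 (iv5 F469342) (iv4 F469343) F488271 F488266 F386041 (iv4 F289630) D102371 D193827
theorem F504119 : act 7 n220509 = n216575 := d13_2 (iv7 F391120) D220509 (iv5 D216575)
theorem F504120 : act 1 n220509 = n194084 := d17_6 (iv1 D102378) (iv5 D47502) D47499 D102371 D193827 D220509 (iv5 D194084) (iv0 F391136) (iv4 D193833)
def n220510 : Q := act 6 n193827
theorem D220510 : act 6 n193827 = n220510 := rfl
theorem F504121 : act 2 n220510 = n216644 := d3_1 D220510 (iv6 D216644) (iv2 F391119)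
theorem F504122 : act 4 n220510 = n193828 := d10_1 D220510 (iv6 D193828) D193827
theorem F504123 : act 7 n220510 = n204600 := d14_2 (iv7 F391120) D220510 (iv6 D204600) F304485 (iv6 F286590)
def n220511 : Q := act 3 n193829
theorem D220511 : act 3 n193829 = n220511 := rfl
theorem F504124 : act 4 n220511 = n213945 := d5_2 D193829 D220511 F472844 F359532 (iv3 F157178)
theorem F504125 : act 7 n220511 = n216645 := d8_2 (iv7 F391124) D220511 (iv3 D216645)
def n220512 : Q := act 6 n193830
theorem D220512 : act 6 n193830 = n220512 := rfl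
theorem F504126 : act 3 n220512 = n193832 := d7_1 D220512 (iv6 D193832) D193830
theorem F504127 : act 4 n220512 = n216778 := d10_1 D220512 (iv6 D216778) (iv4 F391128)
def n220513 : Q := act 3 n193831
theorem D220513 : act 3 n193831 = n220513 := rfl
theorem F504128 : act 4 n220513 = n202386 := d5_2 D193831 D220513 F423839 (iv4 F391128) (iv3 D193830)
theorem F504129 : act 7 n220513 = n202385 := d8_2 (iv7 F391131) D220513 F423838
theorem F504130 : act 0 n220513 = n213982 := d19_4 (iv1 F356393) (iv5 F290112) D193831 D220513 F472974 (iv4 D193807) (iv3 D102357) (iv1 F151048) F151046 (iv4 D47665) (iv3 F291115) F68973 F68972 F32948 (iv3 F63776) (iv1 F63779) D41496 F63982 (iv3 F135183)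
def n220514 : Q := act 5 n193831
theorem D220514 : act 5 n193831 = n220514 := rfl
theorem F504131 : act 2 n220514 = n216649 := d2_1 D220514 (iv5 D216649) (iv2 F391130)
theorem F504132 : act 7 n220514 = n216647 := d13_2 (iv7 F391131) D220514 (iv5 D216647)
theorem F504133 : act 4 n220514 = n193885 := d16_2 D193831 D220514 (iv5 D193885) F356396 D176191 F356388 (iv5 F356392) F290115 (iv2 F290111)
theorem F504134 : act 0 n220514 = n215801 := d17_2 (iv1 F391132) D220514 (iv5 D215801) (iv4 D177889) F277423 (iv0 F335635) F335638 (iv0 D102662) D102664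
theorem F504135 : act 1 n220514 = n215803 := d17_6 F356382 D88263 (iv1 F356393) (iv5 F290112) D193831 D220514 (iv5 D215803) (iv0 F357247) (iv4 D185104)
theorem F504136 : act 6 n220514 = n216649 := d21_5 (iv5 D156088) D156086 D213923 (iv6 F481640) (iv1 F504135) (iv5 D216649) F356205 D215796 (iv6 F502922) (iv1 D213927)
def n220515 : Q := act 6 n193831
theorem D220515 : act 6 n193831 = n220515 := rfl
theorem F504137 : act 2 n220515 = n216650 := d3_1 D220515 (iv6 D216650) (iv2 F391130)
theorem F504138 : act 4 n220515 = n193832 := d10_1 D220515 (iv6 D193832) D193831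
theorem F504139 : act 5 n220515 = n216650 := d12_1 D220515 (iv6 D216650) D216649 (iv6 F504136) (iv5 D220514)
theorem F504140 : act 0 n220515 = n208857 := d21_10 (iv5 F451140) F451142 (iv5 F481713) F481715 (iv1 F481642) (iv6 D215804) D215803 (iv1 F504135) (iv5 D220514) D220515
theorem F504141 : act 0 n208859 = n220515 := d21_4 (iv5 D198044) F359347 D213938 F472810 (iv6 D220515) D220514 F504134 (iv5 D215801) F457439 (iv1 F457437)
def n220516 : Q := act 3 n193833
theorem D220516 : act 3 n193833 = n220516 := rfl
theorem F504142 : act 7 n220516 = n216648 := d8_2 (iv7 F391135) D220516 (iv3 D216648)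
theorem F504143 : act 5 n216665 = n220516 := d13_3 F504142 (iv5 F500474) (iv7 F485375)
def n220517 : Q := act 5 n193833
theorem D220517 : act 5 n193833 = n220517 := rfl
theorem F504144 : act 2 n220517 = n216647 := d2_1 D220517 (iv5 D216647) (iv2 F391134)
theorem F504145 : act 3 n220517 = n216665 := d6_1 D220517 F504143 (iv3 D220516)
theorem F504146 : act 4 n220517 = n193883 := d9_1 D220517 (iv5 D193883) (iv4 F388908) F388907 F368924 (iv5 F290112) D193831 D220514 F504133 (iv5 D193885) F356396 D176191 F356388 (iv5 F356392) D193833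
theorem F504147 : act 7 n220517 = n216649 := d13_2 (iv7 F391135) D220517 (iv5 D216649)
theorem F504148 : act 0 n220517 = n215803 := d17_2 F481464 D220517 (iv5 D215803) (iv4 D177892) F335645 D89521 F335643 F290053 D215763
theorem F504149 : act 1 n220517 = n215801 := d17_6 (iv1 F356384) (iv5 F368953) (iv1 F368957) (iv5 F356392) D193833 D220517 (iv5 D215801) (iv0 F367336) (iv4 D184612)
def n220518 : Q := act 6 n193835
theorem D220518 : act 6 n193835 = n220518 := rfl
theorem F504150 : act 2 n220518 = n215824 := d3_1 D220518 F481698 F391143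
theorem F504151 : act 4 n220518 = n210707 := d10_1 D220518 F458511 (iv4 F391142)
theorem F504152 : act 0 n215872 = n220518 := d21_4 F433182 D215898 F481980 (iv6 F481871) (iv6 D220518) (iv5 F485478) (iv1 D216688) (iv5 D185220) D185221 F433185
theorem F504153 : act 1 n204590 = n220518 := d15_0 (iv0 F504152) (iv7 D215872) (iv2 F432965)
theorem F504154 : act 7 n215822 = n220518 := d11_0 F504151 F458512 D215822
def n220519 : Q := act 3 n193844
theorem D220519 : act 3 n193844 = n220519 := rfl
theorem F504155 : act 4 n220519 = n193846 := d5_2 D193844 D220519 (iv3 D193846) (iv4 D102395) (iv3 F157213)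
theorem F504156 : act 7 n220519 = n216222 := d8_2 (iv7 F391185) D220519 (iv3 D216222)
def n220520 : Q := act 6 n193844
theorem D220520 : act 6 n193844 = n220520 := rfl
theorem F504157 : act 2 n220520 = n219443 := d3_1 D220520 (iv6 D219443) (iv2 F391184)
theorem F504158 : act 4 n220520 = n193845 := d10_1 D220520 (iv6 D193845) D193844
theorem F504159 : act 5 n213361 = n220520 := d16_3 (iv4 F109142) D153579 D213361 F504158 F391189 (iv4 F407568) F407570 F326610 (iv2 D72746)
def n220521 : Q := act 0 n193845
theorem D220521 : act 0 n193845 = n220521 := rfl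
theorem F504160 : act 5 n220521 = n208658 := d17_3 F450437 (iv5 F391189) D220521 (iv4 F458616) (iv5 F460119) (iv0 F482603) (iv5 D216026) (iv0 F409113) (iv4 F450435)
theorem F504161 : act 3 n220521 = n216003 := d20_5 (iv4 F377045) F391196 F391193 (iv3 F391188) D220521 (iv4 D216003) D216001 (iv4 F483416) F483415 (iv1 F356711)
theorem F504162 : act 6 n220521 = n216007 := d21_5 F356415 (iv1 F356412) D102394 D193845 D220521 F502988 (iv1 D220276) (iv5 F479190) (iv6 D215280) (iv1 F356429)
theorem F504163 : act 4 n216034 = n220521 := d10_3 F504162 F482505 (iv6 F482616)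
theorem F504164 : act 7 n208386 = n220521 := d14_0 F504162 F482506 F478902 F448661 D208386
theorem F504165 : act 0 n220521 = n213448 := d21_10 (iv5 D213448) F450438 (iv5 F478847) F478848 (iv1 F469639) (iv6 F488150) F488149 (iv1 F502985) (iv5 F502988) (iv6 F504162)
theorem F504166 : act 0 n216027 = n216034 := d18_2 F449367 D216027 F504163 F504160 (iv4 F458616) F458619 F457225 (iv0 F449616) (iv5 F449366)
theorem F504167 : act 1 n216023 = n216034 := d18_6 F372971 (iv4 F429751) F429752 (iv4 D179802) D179803 D216023 F504163 (iv0 D220521) F391189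
def n220522 : Q := act 7 n193845
theorem D220522 : act 7 n193845 = n220522 := rfl
theorem F504168 : act 2 n220522 = n213448 := d4_1 D220522 F498590 F498586
theorem F504169 : act 3 n220522 = n193847 := d8_1 D220522 F391195 (iv3 F391188)
theorem F504170 : act 5 n220522 = n213446 := d13_1 D220522 F470443 (iv5 F391189)
theorem F504171 : act 6 n220522 = n193846 := d14_1 D220522 F391191 (iv6 D182205) (iv7 F157214) D193845
theorem F504172 : act 1 n208386 = n220522 := d15_1 (iv0 F498589) (iv7 D220522) (iv2 F498586)
def n220523 : Q := act 1 n193846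
theorem D220523 : act 1 n193846 = n220523 := rfl
theorem F504173 : act 7 n220523 = n214127 := d15_2 F483403 D220523 F473604
theorem F504174 : act 5 n220523 = n216453 := d17_7 (iv1 F481771) F482120 (iv1 D213947) D213949 (iv4 F472855) (iv5 F391190) D220523 (iv0 F484447) (iv4 F364090)
theorem F504175 : act 3 n219527 = n220523 := d19_19 (iv1 D220523) F391190 F472855 F472853 F468824 F468823 (iv4 D206979) F207852 F207620 (iv5 D129443) D129442 D206875 F445819 F445818 (iv4 F487222) F487221 (iv1 F367805) D191651 D219527
theorem F504176 : act 2 n216223 = n220523 := d2_3 F504174 F484446 (iv5 F483407)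
theorem F504177 : act 0 n216221 = n220523 := d21_10 F504174 (iv1 D216453) (iv5 F368927) (iv6 F368929) (iv1 F363076) F356424 F356423 (iv1 F157206) (iv5 F283645) D216221
def n220524 : Q := act 2 n193846
theorem D220524 : act 2 n193846 = n220524 := rfl
theorem F504178 : act 3 n220524 = n216219 := d0_2 D193846 D220524 (iv2 D216219) (iv3 D182196) (iv2 F157215)
theorem F504179 : act 5 n220524 = n216446 := d2_2 (iv5 F391190) D220524 (iv2 D216446)
theorem F504180 : act 6 n220524 = n213448 := d3_2 F504171 D220524 (iv2 F504168)
theorem F504181 : act 7 n220524 = n216221 := d4_2 (iv7 F391191) D220524 F483400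
theorem F504182 : act 1 n220524 = n216223 := d15_0 (iv0 D216223) (iv7 F391191) D220524
theorem F504183 : act 1 n214127 = n220524 := d15_0 F504182 (iv7 F483408) (iv2 F473604)
def n220525 : Q := act 3 n193849
theorem D220525 : act 3 n193849 = n220525 := rfl
theorem F504184 : act 2 n220525 = n217999 := d0_1 D220525 (iv3 D217999) (iv2 F372932) (iv3 F398386) (iv2 F439749)
theorem F504185 : act 4 n220525 = n219984 := d5_2 F483839 D220525 (iv3 F501516) (iv4 F499429) (iv3 F499433)
theorem F504186 : act 5 n220525 = n218293 := d6_2 F439745 D220525 F493146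
theorem F504187 : act 7 n220525 = n216220 := d8_2 (iv7 F439750) D220525 (iv3 D216220)
theorem F504188 : act 0 n220525 = n216135 := d19_4 (iv1 F439771) (iv5 F483838) F483839 D220525 F483135 (iv4 F374791) F370694 (iv1 F386141) (iv5 F483262) F483259 F283460 F344203 (iv5 F159457) D194679 F394066 (iv1 D159492) D159494 (iv4 F467024) F467023
theorem F504189 : act 1 n220525 = n218214 := d15_1 (iv0 F504188) F492757 F486240
def n220526 : Q := act 6 n193849
theorem D220526 : act 6 n193849 = n220526 := rfl
theorem F504190 : act 2 n220526 = n208374 := d3_1 D220526 (iv6 F449121) (iv2 F439749)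
theorem F504191 : act 4 n220526 = n213408 := d10_1 D220526 (iv6 F483841) F483839
theorem F504192 : act 5 n220526 = n208590 := d12_1 D220526 (iv6 D208590) F352493 F439748 F439745
theorem F504193 : act 7 n220526 = n208375 := d14_2 (iv7 F439750) D220526 (iv6 F502755) F502756 (iv6 F389414)
theorem F504194 : act 1 n208377 = n220526 := d15_1 (iv0 F488106) F504193 (iv2 F488105)
theorem F504195 : act 1 n220526 = n208368 := d15_1 F504194 F449104 (iv2 F449124)
def n220527 : Q := act 5 n193850
theorem D220527 : act 5 n193850 = n220527 := rfl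
theorem F504196 : act 3 n220527 = n215620 := d6_1 D220527 (iv5 D215620) (iv3 F391201)
theorem F504197 : act 4 n220527 = n212410 := d9_1 D220527 (iv5 F490088) (iv4 D217682) (iv5 D187741) F139332 D102397 F331213 D198943 (iv4 F465685) F465684 F422099 (iv5 F338623) F139380 D102399 D193850
theorem F504198 : act 7 n220527 = n199241 := d13_2 (iv7 F391202) D220527 (iv5 D199241)
theorem F504199 : act 0 n220527 = n220044 := d17_2 F398709 D220527 F501823 F470310 F388768 F290168 D101375 F365616 (iv4 F398707)
theorem F504200 : act 1 n220527 = n214188 := d17_6 (iv1 F371266) (iv5 D187710) (iv1 F139256) D102399 D193850 D220527 (iv5 D214188) (iv0 F361914) F363853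
def n220528 : Q := act 3 n193852
theorem D220528 : act 3 n193852 = n220528 := rfl
theorem F504201 : act 2 n220528 = n198133 := d0_1 D220528 F406954 (iv2 F378736) F378737 (iv2 F391210)
theorem F504202 : act 4 n220528 = n213895 := d5_2 D193852 D220528 (iv3 F500320) (iv4 D219732) F385829
theorem F504203 : act 5 n220528 = n197746 := d6_2 F490070 D220528 F490073
theorem F504204 : act 6 n220528 = n211104 := d7_2 F496698 D220528 (iv3 F496695)
theorem F504205 : act 7 n220528 = n197745 := d8_2 (iv7 F391211) D220528 F406878
theorem F504206 : act 0 n220528 = n198131 := d19_4 (iv1 F139257) D102401 D193852 D220528 (iv5 F449966) F449969 F404737 (iv1 D197540) D197541 F404742 F359656 F292810 D187329 F369853 F342530 (iv1 F225970) (iv5 F334881) D99577 F153325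
theorem F504207 : act 0 n198130 = n220528 := d20_4 F470321 (iv1 F428892) (iv4 F473832) F473831 (iv3 D220528) (iv4 D193852) F368974 (iv4 F470315) F470314 (iv1 F470319)
theorem F504208 : act 6 n198393 = n213895 := d10_2 F504204 (iv4 F460113) (iv4 F504202)
def n220529 : Q := act 0 n193854
theorem D220529 : act 0 n193854 = n220529 := rfl
theorem F504209 : act 6 n220529 = n210187 := d21_5 F153703 (iv1 F369094) (iv5 F367443) D193854 D220529 (iv5 D210187) F411285 (iv5 D199240) F371282 F371281
theorem F504210 : act 2 n220441 = n220529 := d15_3 (iv0 D220529) (iv0 F488312) (iv7 F503800)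
theorem F504211 : act 3 n220529 = n210189 := d0_2 D220441 F504210 F456506 F438488 (iv2 F390655)
def n220530 : Q := act 5 n193855
theorem D220530 : act 5 n193855 = n220530 := rfl
theorem F504212 : act 3 n220530 = n217819 := d6_1 D220530 F490784 F432156
theorem F504213 : act 4 n220530 = n212407 := d9_1 D220530 (iv5 D212407) (iv4 F371389) (iv5 F475688) F475687 (iv5 F367443) (iv4 F363853) (iv5 F459904) (iv4 F465679) (iv5 D212405) (iv4 F371466) (iv5 F377372) F377374 (iv5 F369091) D193855
theorem F504214 : act 6 n220530 = n217817 := d12_2 F441216 D220530 F490776 F435086 F435084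
theorem F504215 : act 0 n220530 = n220247 := d17_2 F391215 D220530 (iv5 D220247) (iv4 D193224) (iv5 F283609) F377068 F377065 F352687 (iv4 F363854)
theorem F504216 : act 1 n220530 = n196740 := d17_6 F371275 F157417 (iv1 F369090) (iv5 F369091) D193855 D220530 (iv5 D196740) D196738 (iv4 F401644)
def n220531 : Q := act 1 n193856
theorem D220531 : act 1 n193856 = n220531 := rfl
theorem F504217 : act 1 n220531 = n208161 := d15_1 D220531 F448177 F441214
theorem F504218 : act 5 n220531 = n209526 := d17_7 (iv1 F420917) (iv5 F496366) (iv1 D218955) (iv5 F483941) F483940 F454189 D220531 F454033 (iv4 F420659)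
theorem F504219 : act 4 n220531 = n220269 := d18_7 F474341 F474336 F443828 (iv4 F435085) F435084 (iv4 F441215) D220531 F502956 (iv5 F453433)
theorem F504220 : act 3 n197250 = n220531 := d19_19 (iv1 D220531) (iv5 F454189) (iv4 F483940) (iv3 D216344) F287206 (iv5 F379586) F379589 (iv3 F380285) F408314 (iv5 D198548) F169517 (iv3 F403558) F403561 F354245 (iv4 F354251) D197234 (iv1 F454554) (iv5 F482668) F482669
theorem F504221 : act 2 n220531 = n220429 := d0_1 F504220 (iv3 D220429) F390587 (iv3 F434904) (iv2 F434911)
def n220532 : Q := act 3 n193857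
theorem D220532 : act 3 n193857 = n220532 := rfl
theorem F504222 : act 4 n220532 = n220274 := d5_2 (iv4 F391216) D220532 (iv3 D220274) (iv4 D193278) (iv3 F388765)
theorem F504223 : act 7 n220532 = n220264 := d8_2 (iv7 F391219) D220532 (iv3 D220264)
theorem F504224 : act 0 n220532 = n198769 := d19_4 (iv1 F377062) F388763 (iv4 F391216) D220532 (iv5 D198769) (iv4 F409142) (iv3 F460539) F460546 (iv5 F462394) (iv4 F502201) F502200 F455555 F471328 F471327 F372705 (iv1 F382901) F382903 F357615 (iv3 F377059)
theorem F504225 : act 0 n210127 = n220532 := d20_4 (iv4 F455628) (iv1 F455639) (iv4 F499964) F499963 (iv3 D220532) F391216 (iv1 D193104) D193105 (iv3 F455664) F455665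
theorem F504226 : act 5 n220532 = n216012 := d21_2 F458576 F504225 (iv6 F482529) (iv1 D197689) (iv6 D108584) (iv5 F95114) F95115 D65527 D139618 D210723
theorem F504227 : act 6 n220532 = n212136 := d21_5 F440347 (iv1 F449986) (iv5 F499954) F499955 F504225 (iv5 F464452) F477557 F477555 (iv6 D206351) D206347
def n220533 : Q := act 5 n193857
theorem D220533 : act 5 n193857 = n220533 := rfl
theorem F504228 : act 2 n220533 = n220221 := d2_1 D220533 (iv5 D220221) F391217
theorem F504229 : act 3 n220533 = n216012 := d6_1 D220533 (iv5 F504226) (iv3 D220532)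
theorem F504230 : act 4 n220533 = n212412 := d9_1 D220533 (iv5 D212412) (iv4 D146888) (iv5 F144897) (iv4 F145058) F145059 D101420 D193259 (iv4 F465708) (iv5 D212416) (iv4 D146891) (iv5 F142370) (iv4 F283607) F388763 (iv4 F391216)
theorem F504231 : act 7 n220533 = n220265 := d13_2 (iv7 F391219) D220533 (iv5 D220265)
theorem F504232 : act 0 n220533 = n220268 := d17_2 D193857 D220533 F502953 (iv4 D193903) F157417 (iv0 F369093) (iv5 F367443) (iv0 D102402) D102404
theorem F504233 : act 1 n220533 = n219750 := d17_6 F365614 (iv5 F377058) (iv1 F377062) F388763 (iv4 F391216) D220533 (iv5 D219750) (iv0 F388925) (iv4 D193148)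
def n220534 : Q := act 6 n193857
theorem D220534 : act 6 n193857 = n220534 := rfl
theorem F504234 : act 2 n220534 = n220222 := d3_1 D220534 (iv6 D220222) F391217
theorem F504235 : act 3 n220534 = n212136 := d7_1 D220534 (iv6 F504227) (iv3 D220532)
theorem F504236 : act 4 n220534 = n220189 := d10_1 D220534 (iv6 D220189) (iv4 F391216)
def n220535 : Q := act 5 n193859
theorem D220535 : act 5 n193859 = n220535 := rfl
theorem F504237 : act 3 n220535 = n215593 := d6_1 D220535 F480684 F428184
theorem F504238 : act 6 n220535 = n215592 := d12_2 (iv6 F402226) D220535 F480680 (iv6 D210223) F402219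
theorem F504239 : act 4 n220535 = n215817 := d16_2 F402225 D220535 (iv5 F503704) F503702 (iv5 F470418) (iv4 D213441) (iv5 D153744) (iv7 F366149) (iv2 F402220)
def n220536 : Q := act 6 n193865
theorem D220536 : act 6 n193865 = n220536 := rfl
theorem F504240 : act 2 n220536 = n209851 := d3_1 D220536 F455132 (iv2 F391243)
theorem F504241 : act 4 n220536 = n193866 := d10_1 D220536 (iv6 D193866) D193865
theorem F504242 : act 5 n220536 = n203593 := d12_1 D220536 (iv6 F481834) (iv5 D215860) (iv6 F449641) (iv5 F449643)
theorem F504243 : act 7 n220536 = n204662 := d14_2 (iv7 F391244) D220536 (iv6 D204662) F305174 (iv6 F277188)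
theorem F504244 : act 1 n202109 = n220536 := d15_1 (iv0 F429043) F504243 F433186
theorem F504245 : act 1 n220536 = n203585 := d15_1 F504244 F428994 (iv2 F422896)
def n220537 : Q := act 0 n193868
theorem D220537 : act 0 n193868 = n220537 := rfl
theorem F504246 : act 4 n220537 = n199028 := d20_0 (iv1 D199028) (iv4 F179523) F179522 (iv1 F179493) (iv3 F385964) (iv4 D192199) (iv1 F153740) D102438 D193868 D220537
theorem F504247 : act 2 n202731 = n220537 := d15_3 (iv0 D220537) (iv0 F469231) F469230
theorem F504248 : act 1 n202227 = n220537 := d15_0 (iv0 D220537) (iv7 F500437) F500434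
theorem F504249 : act 7 n220537 = n202254 := d15_2 (iv0 F469232) F504248 (iv2 F469227)
theorem F504250 : act 3 n202246 = n220537 := d8_3 F504249 (iv3 D202254) (iv7 F423391)
theorem F504251 : act 6 n214166 = n220537 := d14_5 F504249 F502565 F502562 (iv6 D215942) F473817
def n220538 : Q := act 2 n193868
theorem D220538 : act 2 n193868 = n220538 := rfl
theorem F504252 : act 3 n220538 = n193889 := d0_2 D193868 D220538 (iv2 D193889) (iv3 D102453) (iv2 F157397)
theorem F504253 : act 6 n220538 = n202218 := d3_2 F501050 D220538 (iv2 F501048)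
theorem F504254 : act 7 n220538 = n202227 := d4_2 F500437 D220538 (iv2 F500434)
theorem F504255 : act 1 n220538 = n202254 := d15_0 F500439 F500437 D220538
theorem F504256 : act 1 n202731 = n220538 := d15_0 F504255 (iv7 F504249) (iv2 F504247)
theorem F504257 : act 5 n216592 = n220538 := d13_3 F504254 (iv5 F467324) (iv7 F485104)
def n220539 : Q := act 5 n193868
theorem D220539 : act 5 n193868 = n220539 := rfl
theorem F504258 : act 2 n220539 = n216592 := d2_1 D220539 F504257 (iv2 D220538)
theorem F504259 : act 3 n220539 = n193869 := d6_1 D220539 (iv5 D193869) D193868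
theorem F504260 : act 6 n220539 = n202269 := d12_2 F501050 D220539 F423430 (iv6 F401383) (iv5 F501052)
theorem F504261 : act 7 n220539 = n202277 := d13_2 F500437 D220539 F500440
theorem F504262 : act 4 n203093 = n220539 := d11_3 F504261 (iv4 F467275) F467276
def n220540 : Q := act 4 n193871
theorem D220540 : act 4 n193871 = n220540 := rfl
theorem F504263 : act 2 n220540 = n193896 := d1_1 D220540 (iv4 D193896) F391266
theorem F504264 : act 3 n220540 = n202231 := d5_1 D220540 F423331 F181153 (iv4 F220669) (iv3 F391264)
theorem F504265 : act 5 n220540 = n211004 := d9_2 (iv5 F391265) D220540 F459719 (iv5 F429678) (iv4 D203749) (iv5 D120462) (iv4 F353604) F329155 (iv4 F179783) D202228 F423318 (iv5 F412695) F412694 (iv5 D120467) D120466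
theorem F504266 : act 6 n220540 = n215851 := d10_2 F433600 D220540 (iv4 F481785)
theorem F504267 : act 7 n220540 = n193898 := d11_2 (iv7 F391268) D220540 (iv4 D193898)
theorem F504268 : act 0 n220540 = n201932 := d17_0 F422426 F422375 F422372 (iv4 F219453) (iv5 F328432) F343206 (iv5 F343204) F391267 D220540
theorem F504269 : act 1 n220540 = n201939 := d18_6 (iv1 F191908) (iv4 F191568) (iv1 F191570) D120466 (iv5 F391265) D220540 F422466 (iv0 F422737) F422736
def n220541 : Q := act 3 n193872
theorem D220541 : act 3 n193872 = n220541 := rfl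
theorem F504270 : act 2 n220541 = n201942 := d0_1 D220541 (iv3 F461415) (iv2 F498080) F498081 F391272
theorem F504271 : act 4 n220541 = n208351 := d5_2 (iv4 F391271) D220541 F449038 (iv4 D193223) (iv3 F290116)
theorem F504272 : act 5 n220541 = n220263 := d6_2 F500700 D220541 F502924
theorem F504273 : act 6 n220541 = n201938 := d7_2 (iv6 F461209) D220541 (iv3 F461204)
theorem F504274 : act 7 n220541 = n201941 := d8_2 (iv7 F391270) D220541 F422475
theorem F504275 : act 0 n202318 = n220541 := d20_4 F336260 F326826 (iv4 F336275) D202318 (iv3 D220541) F391271 (iv1 F290102) (iv4 F385983) (iv3 F385984) F336265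
def n220542 : Q := act 6 n193873
theorem D220542 : act 6 n193873 = n220542 := rfl
theorem F504276 : act 3 n220542 = n202282 := d7_1 D220542 (iv6 D202282) (iv3 F391273)
def n220543 : Q := act 4 n193874
theorem D220543 : act 4 n193874 = n220543 := rfl
theorem F504277 : act 7 n220543 = n209184 := d11_2 F450887 D220543 F452619
theorem F504278 : act 1 n220543 = n193884 := d18_6 F407462 F217229 (iv1 F409158) F450883 (iv5 F450886) D220543 (iv4 F502694) (iv0 F502696) F472523
theorem F504279 : act 3 n220543 = n214168 := d20_9 (iv4 F466348) (iv1 D199353) F172516 F111500 (iv1 F161389) D156128 (iv4 F329306) D193874 D220543 (iv1 F473822)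
def n220544 : Q := act 4 n193875
theorem D220544 : act 4 n193875 = n220544 := rfl
theorem F504280 : act 2 n220544 = n209184 := d1_1 D220544 F452619 (iv2 F433560)
theorem F504281 : act 3 n220544 = n200300 := d5_1 D220544 (iv4 F503642) (iv3 D220408) F390408 (iv3 F447578)
theorem F504282 : act 6 n220544 = n200298 := d10_2 F433556 D220544 F415892
theorem F504283 : act 0 n220544 = n193884 := d18_2 (iv1 F500458) D220544 (iv4 F502694) F502695 (iv4 F429769) (iv0 F434650) F434649 (iv0 F424976) (iv5 F500456)
def n220545 : Q := act 1 n193878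
theorem D220545 : act 1 n193878 = n220545 := rfl
theorem F504284 : act 1 n220545 = n209474 := d15_1 D220545 F453840 (iv2 F391284)
theorem F504285 : act 7 n220545 = n209590 := d15_2 (iv0 F391287) D220545 F454252
theorem F504286 : act 5 n220545 = n204786 := d17_7 (iv1 F462451) (iv5 F470869) (iv1 F470874) (iv5 F365828) (iv4 F455050) F455051 D220545 F433585 (iv4 F452950)
theorem F504287 : act 4 n220545 = n202596 := d17_9 (iv1 F424678) (iv5 D116056) (iv1 D53488) D53489 D116060 D202600 (iv0 F455052) F455051 D220545
theorem F504288 : act 6 n210072 = n220545 := d21_3 D136831 D209696 F456061 (iv1 D220545) (iv6 D193878) D193877 F391282 F383532 (iv6 F366629) (iv1 D136830)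
theorem F504289 : act 2 n220545 = n210115 := d3_1 F504288 (iv6 F462514) F462512
theorem F504290 : act 3 n220345 = n220545 := d0_0 F504289 (iv3 F456229) F304830 D193433 D220345
def n220546 : Q := act 7 n193878
theorem D220546 : act 7 n193878 = n220546 := rfl
theorem F504291 : act 2 n220546 = n209474 := d4_1 D220546 F453840 (iv2 F391284)
theorem F504292 : act 3 n220546 = n193881 := d8_1 D220546 (iv7 D193881) (iv3 F391285)
theorem F504293 : act 4 n220546 = n202867 := d11_1 D220546 F425946 (iv4 F391286)
theorem F504294 : act 5 n220546 = n211688 := d13_1 D220546 F462698 F455051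
theorem F504295 : act 6 n220546 = n209472 := d14_1 D220546 F453827 F359423 (iv7 F356211) D193878
theorem F504296 : act 1 n210115 = n220546 := d15_1 D210115 (iv7 D220546) F391284
theorem F504297 : act 1 n220546 = n209590 := d15_1 F504296 (iv7 F504285) F504289
def n220547 : Q := act 7 n193880
theorem D220547 : act 7 n193880 = n220547 := rfl
theorem F504298 : act 2 n220547 = n211681 := d4_1 D220547 F462666 F458520
theorem F504299 : act 3 n220547 = n202868 := d8_1 D220547 (iv7 F469224) F469221
theorem F504300 : act 4 n220547 = n193881 := d11_1 D220547 (iv7 D193881) (iv4 F391288)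
theorem F504301 : act 5 n220547 = n211681 := d13_1 D220547 F462666 F458523
theorem F504302 : act 6 n220547 = n215861 := d14_1 D220547 F481840 F469393 F385969 D193880
theorem F504303 : act 0 n220238 = n220547 := d17_0 F504301 F462667 F457807 F423145 (iv5 F406631) (iv0 F406632) D210351 F457154 (iv4 F502796)
def n220548 : Q := act 1 n193882
theorem D220548 : act 1 n193882 = n220548 := rfl
theorem F504304 : act 1 n220548 = n201906 := d15_1 D220548 (iv7 F455275) F455273
theorem F504305 : act 7 n220548 = n201905 := d15_2 (iv0 F391293) D220548 F422311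
theorem F504306 : act 6 n202192 = n220548 := d21_3 F179635 D115441 D202192 (iv1 D220548) (iv6 F455284) D213973 F485863 F485860 F422645 F404264
theorem F504307 : act 5 n216698 = n220548 := d21_6 F455068 F455067 (iv5 D209820) (iv6 F423444) (iv1 F467210) (iv6 F485521) (iv1 D220548) F455279 (iv6 D209826) D209823
theorem F504308 : act 2 n220548 = n201908 := d2_1 F504307 F422320 (iv2 F485519)
theorem F504309 : act 3 n220548 = n202248 := d6_1 F504307 (iv5 F481811) (iv3 F485520)
def n220549 : Q := act 4 n193882
theorem D220549 : act 4 n193882 = n220549 := rfl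
theorem F504310 : act 3 n220549 = n194740 := d5_1 D220549 F462166 (iv3 F462167) F388908 D193882
theorem F504311 : act 6 n220549 = n213972 := d10_2 F455284 D220549 (iv4 D213972)
theorem F504312 : act 7 n220549 = n210175 := d11_2 F500463 D220549 (iv4 F500461)
theorem F504313 : act 1 n220549 = n216056 := d18_8 (iv1 D219911) F386710 D192429 F397127 (iv5 D195488) (iv4 F179480) (iv0 F391293) D220549 F501152
def n220550 : Q := act 1 n193883
theorem D220550 : act 1 n193883 = n220550 := rfl
theorem F504314 : act 1 n220550 = n193885 := d15_1 D220550 (iv7 F500478) F500475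
theorem F504315 : act 7 n220550 = n212734 := d15_2 F485485 D220550 (iv2 F485482)
theorem F504316 : act 5 n220550 = n204782 := d17_7 F356385 F137169 D187050 (iv5 F388907) F388908 D193883 D220550 F433566 (iv4 D193248)
theorem F504317 : act 3 n212709 = n220550 := d19_19 (iv1 D220550) (iv5 D193883) (iv4 F388908) F462167 (iv1 D211565) F364509 F153328 F331185 (iv1 F331178) F331179 F173883 (iv3 F325162) (iv1 F60109) F29824 (iv4 F29819) (iv3 F51570) (iv1 F106337) D149049 D212709
theorem F504318 : act 2 n219802 = n220550 := d2_3 F504316 F433562 D219802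
def n220551 : Q := act 5 n193884
theorem D220551 : act 5 n193884 = n220551 := rfl
theorem F504319 : act 3 n220551 = n213973 := d6_1 D220551 (iv5 D213973) F455283
def n220552 : Q := act 7 n193886
theorem D220552 : act 7 n193886 = n220552 := rfl
theorem F504320 : act 2 n220552 = n211682 := d4_1 D220552 F462671 F458550
theorem F504321 : act 3 n220552 = n203546 := d8_1 D220552 (iv7 D203546) (iv3 F391295)
theorem F504322 : act 4 n220552 = n204823 := d11_1 D220552 F433717 (iv4 F391296)
theorem F504323 : act 5 n220552 = n211682 := d13_1 D220552 F462671 F458552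
theorem F504324 : act 1 n210503 = n220552 := d15_1 F458554 (iv7 D220552) (iv2 F458550)
theorem F504325 : act 1 n220552 = n202754 := d15_1 F504324 F425434 (iv2 F457822)
def n220553 : Q := act 6 n193888
theorem D220553 : act 6 n193888 = n220553 := rfl
theorem F504326 : act 3 n220553 = n199983 := d7_1 D220553 F414471 F391298
theorem F504327 : act 4 n220553 = n210092 := d10_1 D220553 (iv6 D210092) F391299
theorem F504328 : act 5 n220553 = n202176 := d21_6 (iv5 F423228) (iv1 F423230) F330557 D206398 (iv1 F440593) D220553 (iv1 F500811) F500809 (iv6 D202005) (iv1 F226787)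
def n220554 : Q := act 3 n193890
theorem D220554 : act 3 n193890 = n220554 := rfl
theorem F504329 : act 2 n220554 = n213907 := d0_1 D220554 F472687 F471931 F500504 (iv2 F500505)
theorem F504330 : act 5 n220554 = n213843 := d6_2 (iv5 F488271) D220554 F488270
theorem F504331 : act 7 n220554 = n213909 := d8_2 (iv7 F500495) D220554 F500494
theorem F504332 : act 0 n216698 = n220554 := d20_4 F234524 D177989 D215856 (iv3 F485520) (iv3 D220554) F469343 F469345 (iv4 F422480) F469346 (iv1 D212749)
theorem F504333 : act 1 n201907 = n220554 := d15_0 (iv0 F504332) F485522 F469275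
def n220555 : Q := act 6 n193892
theorem D220555 : act 6 n193892 = n220555 := rfl
theorem F504334 : act 2 n220555 = n216659 := d3_1 D220555 (iv6 D216659) (iv2 F391306)
theorem F504335 : act 4 n220555 = n193893 := d10_1 D220555 (iv6 D193893) D193892
def n220556 : Q := act 5 n193897
theorem D220556 : act 5 n193897 = n220556 := rfl
theorem F504336 : act 2 n220556 = n217297 := d2_1 D220556 (iv5 F488326) (iv2 F433601)
theorem F504337 : act 3 n220556 = n209267 := d6_1 D220556 (iv5 D209267) (iv3 F391321)
theorem F504338 : act 6 n220556 = n204129 := d12_2 D193897 D220556 F431145 (iv6 D204094) (iv5 F343220)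
theorem F504339 : act 7 n220556 = n217296 := d13_2 F433602 D220556 F488322
theorem F504340 : act 0 n220556 = n204002 := d17_2 F391322 D220556 F430792 (iv4 F500692) (iv5 F500694) (iv0 D215833) D215835 (iv0 F481736) F476806
theorem F504341 : act 0 n217298 = n220556 := d19_0 (iv5 D220556) F485438 F485435 (iv1 F442826) (iv5 F468823) F468822 (iv3 D187461) (iv1 F291324) (iv5 D45739) (iv4 D21864) (iv3 F66838) (iv1 F33051) (iv5 F290730) F68132 (iv3 F74651) (iv1 F357141) (iv5 F368794) (iv4 F369236) (iv3 F488328)
def n220557 : Q := act 5 n193898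
theorem D220557 : act 5 n193898 = n220557 := rfl
theorem F504342 : act 2 n220557 = n202228 := d2_1 D220557 (iv5 D202228) (iv2 F391323)
theorem F504343 : act 3 n220557 = n202338 := d6_1 D220557 (iv5 D202338) (iv3 F391324)
theorem F504344 : act 4 n220557 = n197848 := d9_1 D220557 (iv5 F407155) F407154 F383095 F353564 (iv5 F343220) D193896 (iv5 F458621) F458620 F457847 F429472 (iv5 D203706) F350756 F301782 D193898
theorem F504345 : act 6 n220557 = n210974 := d12_2 F426992 D220557 F459574 F469464 F469462
theorem F504346 : act 7 n220557 = n211004 := d13_2 F504267 D220557 (iv5 F504265)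
theorem F504347 : act 0 n220557 = n202450 := d17_2 (iv1 F422453) D220557 (iv5 F424058) (iv4 F429667) F429668 F191910 D160299 F422451 F422447
theorem F504348 : act 1 n220557 = n202448 := d17_6 F341514 (iv5 D122653) D122651 F301782 D193898 D220557 F424050 (iv0 F422827) (iv4 F219453)
theorem F504349 : act 6 n201944 = n201982 := d21_3 D220557 F504347 (iv5 F424058) (iv1 D201982) (iv6 D115303) D115302 (iv1 F364948) (iv5 D115270) D115271 (iv1 F422453)
theorem F504350 : act 3 n201982 = n201945 := d7_1 F504349 (iv6 D201945) D201944
def n220558 : Q := act 5 n193901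
theorem D220558 : act 5 n193901 = n220558 := rfl
theorem F504351 : act 2 n220558 = n217262 := d2_1 D220558 (iv5 D217262) (iv2 F391346)
theorem F504352 : act 3 n220558 = n193902 := d6_1 D220558 (iv5 D193902) D193901
theorem F504353 : act 6 n220558 = n217946 := d12_2 (iv6 F391338) D220558 F491372 (iv6 D188356) F373119
theorem F504354 : act 7 n220558 = n204128 := d13_2 (iv7 F391339) D220558 (iv5 D204128)
theorem F504355 : act 1 n220558 = n217306 := d17_6 (iv1 F486846) (iv5 F385931) (iv1 D192191) (iv5 F157448) (iv4 F391337) D220558 F488358 (iv0 F466846) (iv4 F486841)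
def n220559 : Q := act 3 n193903
theorem D220559 : act 3 n193903 = n220559 := rfl
theorem F504356 : act 4 n220559 = n210193 := d5_2 D193903 D220559 (iv3 D210193) (iv4 D137837) (iv3 F365467)
theorem F504357 : act 5 n220559 = n208578 := d6_2 F502953 D220559 F502954
theorem F504358 : act 7 n220559 = n208577 := d8_2 (iv7 F391350) D220559 F449973
theorem F504359 : act 0 n220559 = n198129 := d19_4 F369093 (iv5 F157417) D193903 D220559 (iv5 D198129) (iv4 F406945) F424966 (iv1 F448806) F448804 F378945 (iv3 D95693) F291903 (iv5 F156006) F156005 (iv3 F153332) (iv1 F153335) (iv5 F289320) D191890 F384688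
theorem F504360 : act 0 n198124 = n220559 := d20_4 F479912 F416683 F416681 F406937 (iv3 D220559) (iv4 D193903) (iv1 F371287) F371283 (iv3 F411275) F479914
def n220560 : Q := act 6 n193903
theorem D220560 : act 6 n193903 = n220560 := rfl
theorem F504361 : act 2 n220560 = n193907 := d3_1 D220560 (iv6 D193907) (iv2 F391349)
theorem F504362 : act 4 n220560 = n193904 := d10_1 D220560 (iv6 D193904) D193903
def n220561 : Q := act 0 n193904
theorem D220561 : act 0 n193904 = n220561 := rfl
theorem F504363 : act 2 n193908 = n220561 := d15_3 (iv0 D220561) F391386 F391363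
theorem F504364 : act 3 n220561 = n215088 := d0_2 (iv3 F391362) F504363 (iv2 F478282) F440489 (iv2 F359426)
theorem F504365 : act 7 n220561 = n193909 := d4_2 F391363 F504363 F473669
theorem F504366 : act 4 n220561 = n205124 := d16_0 F464333 (iv4 F494676) F494672 (iv4 F464428) F464429 F454127 (iv5 D209558) F391363 F504363
theorem F504367 : act 1 n193910 = n220561 := d15_1 (iv0 F391385) F504365 F473669
def n220562 : Q := act 7 n193904
theorem D220562 : act 7 n193904 = n220562 := rfl
theorem F504368 : act 2 n220562 = n193910 := d4_1 D220562 (iv7 D193910) (iv2 F391353)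
theorem F504369 : act 3 n220562 = n209166 := d8_1 D220562 F452549 (iv3 F391354)
theorem F504370 : act 5 n220562 = n212103 := d13_1 D220562 F464318 (iv5 F391355)
theorem F504371 : act 6 n220562 = n220344 := d14_1 D220562 F503300 (iv6 D219749) F385909 D193904
theorem F504372 : act 1 n193909 = n220562 := d15_1 D193909 (iv7 D220562) F391353
theorem F504373 : act 1 n220562 = n193908 := d15_1 F504372 (iv7 F391363) (iv2 F473669)
def n220563 : Q := act 4 n193906
theorem D220563 : act 4 n193906 = n220563 := rfl
theorem F504374 : act 3 n220563 = n212108 := d5_1 D220563 F464353 (iv3 F427617) F427618 F401750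
theorem F504375 : act 5 n220563 = n218206 := d9_2 D193906 D220563 (iv4 D218206) (iv5 F374632) F370544 (iv5 F385908) (iv4 F389237) (iv5 F449965) (iv4 F494991) (iv5 D218655) (iv4 D189769) (iv5 D94450) (iv4 F72976) (iv5 F74730) D102475
theorem F504376 : act 0 n220563 = n217674 := d17_0 (iv5 D217674) (iv1 D187723) D187725 D217678 F490070 F391213 D220265 F502937 D220563
theorem F504377 : act 1 n220563 = n217671 := d18_8 (iv1 F371319) F326333 (iv1 F139209) D187680 D217631 (iv4 F502935) F502937 D220563 (iv5 D217671)
def n220564 : Q := act 6 n193906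
theorem D220564 : act 6 n193906 = n220564 := rfl
theorem F504378 : act 3 n220564 = n213430 := d7_1 D220564 F470362 F401750
theorem F504379 : act 5 n220564 = n208759 := d12_1 D220564 (iv6 F454780) F464326 (iv6 D193907) D193906
theorem F504380 : act 0 n220564 = n204522 := d21_4 (iv5 D193228) F157418 D193906 D220564 F432797 F405476 (iv1 D108627) D108629 D197741 F406881
theorem F504381 : act 0 n207861 = n220564 := d21_4 (iv5 D219666) F440397 (iv5 F502509) F502510 (iv6 D220564) (iv5 D193906) D193905 (iv5 F502477) (iv6 D220174) (iv1 F499942)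
def n220565 : Q := act 0 n193907
theorem D220565 : act 0 n193907 = n220565 := rfl
theorem F504382 : act 5 n220565 = n219626 := d19_1 D220565 (iv4 D219626) (iv3 F496587) (iv1 D218995) (iv5 F394272) F394271 F434601 (iv1 F434600) (iv5 F359974) (iv4 F378974) (iv3 F381321) (iv1 F381324) D190915 F474453 (iv3 F488931) (iv1 F488934) (iv5 F391374) F393743 F393744
theorem F504383 : act 4 n209454 = n220565 := d16_0 F504382 (iv4 D219626) F464303 (iv4 D212096) D212097 F478206 (iv5 F454776) (iv7 F494719) F494721
def n220566 : Q := act 7 n193907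
theorem D220566 : act 7 n193907 = n220566 := rfl
theorem F504384 : act 3 n220566 = n194645 := d8_1 D220566 F393927 F393744
theorem F504385 : act 4 n220566 = n193910 := d11_1 D220566 (iv7 D193910) (iv4 F391361)
def n220567 : Q := act 4 n193908
theorem D220567 : act 4 n193908 = n220567 := rfl
theorem F504386 : act 2 n220567 = n205124 := d1_1 D220567 (iv4 F504366) (iv2 F504363)
theorem F504387 : act 3 n220567 = n206129 := d5_1 D220567 (iv4 D206129) (iv3 F250978) F359427 (iv3 F391362)
theorem F504388 : act 6 n220567 = n205129 := d10_2 F467859 D220567 (iv4 F467858)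
theorem F504389 : act 7 n220567 = n205111 := d11_2 F391363 D220567 F435019
theorem F504390 : act 0 n220567 = n197153 := d20_1 D220567 (iv4 F452482) (iv3 D209153) (iv1 D135889) (iv3 F218569) F218570 F352921 F157423 (iv3 F157419) D193908
theorem F504391 : act 0 n205121 = n220567 := d20_1 (iv4 F473674) (iv4 D220567) F391362 (iv1 F453828) (iv3 F500454) F500455 (iv1 F481839) F502905 (iv3 F502909) F453775
def n220568 : Q := act 5 n193908
theorem D220568 : act 5 n193908 = n220568 := rfl
theorem F504392 : act 3 n220568 = n209562 := d6_1 D220568 F454144 (iv3 F391362)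
theorem F504393 : act 7 n220568 = n209558 := d13_2 F391363 D220568 (iv5 D209558)
theorem F504394 : act 4 n220568 = n213728 := d16_2 (iv4 D220567) D220568 (iv5 F471816) (iv4 D209728) F389175 F464330 (iv5 D205123) D205124 (iv2 F504386)
theorem F504395 : act 6 n220568 = n213727 := d21_3 (iv5 F157420) D193908 D220568 (iv1 F471813) (iv6 D213008) (iv5 D152039) (iv1 F108161) D135385 F384600 (iv1 D191860)
theorem F504396 : act 0 n217930 = n220568 := d19_0 (iv5 D220568) D220567 F504387 F439372 F427624 (iv4 D196777) F165372 D107313 F165374 (iv4 F112143) F111339 (iv1 D50071) (iv5 F41010) (iv4 F80657) (iv3 F171788) F350402 F154038 (iv4 F372604) (iv3 F491310)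
def n220569 : Q := act 3 n193909
theorem D220569 : act 3 n193909 = n220569 := rfl
theorem F504397 : act 2 n220569 = n209553 := d0_1 D220569 F454103 F219693 (iv3 F219695) (iv2 F473669)
theorem F504398 : act 4 n220569 = n215004 := d5_2 (iv4 F473670) D220569 (iv3 F482332) F482333 F435026
theorem F504399 : act 6 n220569 = n205116 := d7_2 (iv6 F473671) D220569 (iv3 D205116)
theorem F504400 : act 7 n220569 = n215088 := d8_2 F504365 D220569 (iv3 F504364)
theorem F504401 : act 0 n220569 = n194726 := d20_4 F452482 F473667 (iv4 F473670) D220569 F394270 (iv4 F394277) (iv1 F494729) (iv4 D218607) D218606 (iv1 F494720)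
theorem F504402 : act 1 n220569 = n212558 := d15_1 (iv0 F504401) F466413 (iv2 F394269)
theorem F504403 : act 5 n204489 = n220569 := d16_7 F440490 (iv5 F420961) F420960 (iv5 F396211) (iv4 F432696) (iv5 D204490) D204489 F504400 (iv2 F478282)
def n220570 : Q := act 5 n193909
theorem D220570 : act 5 n193909 = n220570 := rfl
theorem F504404 : act 2 n220570 = n209558 := d2_1 D220570 (iv5 D209558) (iv2 F473669)
theorem F504405 : act 3 n220570 = n204489 := d6_1 D220570 F504403 (iv3 D220569)
theorem F504406 : act 4 n220570 = n199589 := d16_4 F464330 (iv5 D205123) (iv4 F473670) D220570 F454772 (iv4 D209726) D209727 (iv7 F494708) (iv2 D218603)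
theorem F504407 : act 6 n220570 = n199588 := d21_3 (iv5 F504370) (iv1 F504372) D220570 (iv1 F412779) (iv6 F465382) (iv5 D212337) (iv1 F426091) (iv5 F465749) (iv6 F465753) F464322
theorem F504408 : act 0 n220570 = n217930 := d20_4 (iv4 F453723) (iv1 F432136) D204489 (iv3 F504405) F491310 F372604 D191829 (iv4 F384857) (iv3 F454901) (iv1 F454904)
def n220571 : Q := act 5 n193916
theorem D220571 : act 5 n193916 = n220571 := rfl
theorem F504409 : act 3 n220571 = n193918 := d6_1 D220571 (iv5 D193918) D193916
theorem F504410 : act 7 n220571 = n210684 := d13_2 F500344 D220571 F500347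
theorem F504411 : act 0 n220571 = n219997 := d17_2 (iv1 F484889) D220571 F501572 F485465 (iv5 D216683) F484340 (iv5 F493545) (iv0 F493548) F391802
theorem F504412 : act 1 n220571 = n208778 := d17_6 (iv1 D139449) D139450 D210628 (iv5 F458261) F457402 D220571 (iv5 F462394) (iv0 D211616) (iv4 F353583)
theorem F504413 : act 6 n220571 = n219566 := d21_3 (iv5 F157699) (iv1 F484889) D220571 (iv1 D219566) (iv6 D191762) F338885 (iv1 F338834) (iv5 D179763) D179764 F338899
theorem F504414 : act 4 n210688 = n220571 := d10_3 F504413 F499478 F460584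
def n220572 : Q := act 5 n193922
theorem D220572 : act 5 n193922 = n220572 := rfl
theorem F504415 : act 2 n220572 = n219635 := d2_1 D220572 (iv5 F500411) F500408
theorem F504416 : act 3 n220572 = n199083 := d6_1 D220572 (iv5 F410580) (iv3 F447581)
theorem F504417 : act 6 n220572 = n199771 := d12_2 D193922 D220572 F413423 (iv6 F391400) (iv5 D193921)
theorem F504418 : act 7 n220572 = n199792 := d13_2 (iv7 F447582) D220572 F413522
theorem F504419 : act 0 n220572 = n210526 := d17_2 (iv1 F447580) D220572 F457922 (iv4 D193658) F352861 (iv0 D133649) F97860 D112863 (iv4 F352942)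
theorem F504420 : act 1 n220572 = n209524 := d17_6 F362570 (iv5 D176867) D176865 (iv5 F453846) F453847 D220572 F454025 F390582 F367375
theorem F504421 : act 4 n220572 = n218305 := d18_5 D64176 D136510 D209477 F453847 D220572 F493214 (iv4 F405899) (iv0 D136520) (iv5 D64179)
def n220573 : Q := act 6 n193923
theorem D220573 : act 6 n193923 = n220573 := rfl
theorem F504422 : act 2 n220573 = n193930 := d3_1 D220573 (iv6 D193930) (iv2 F391401)
theorem F504423 : act 3 n220573 = n211081 := d7_1 D220573 (iv6 F460038) F401568
theorem F504424 : act 4 n220573 = n193925 := d10_1 D220573 (iv6 D193925) D193923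
def n220574 : Q := act 1 n193925
theorem D220574 : act 1 n193925 = n220574 := rfl
theorem F504425 : act 1 n220574 = n193934 := d15_1 D220574 (iv7 D193934) (iv2 F391411)
theorem F504426 : act 7 n220574 = n193932 := d15_2 (iv0 F391413) D220574 (iv2 F391438)
theorem F504427 : act 5 n219914 = n220574 := d21_6 (iv5 D100165) (iv1 D46749) D46752 D100175 D192429 D219914 (iv1 D220574) F391412 (iv6 D184253) (iv1 F154102)
theorem F504428 : act 2 n220574 = n193933 := d2_1 F504427 (iv5 F455736) (iv2 F501163)
theorem F504429 : act 3 n220574 = n194732 := d6_1 F504427 (iv5 F470922) (iv3 F501164)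
theorem F504430 : act 4 n220574 = n220333 := d20_6 F273769 (iv1 F270637) D193457 (iv3 F497722) (iv1 F497725) (iv3 F504429) (iv1 D220333) F389786 (iv3 D101679) D101677
def n220575 : Q := act 7 n193925
theorem D220575 : act 7 n193925 = n220575 := rfl
theorem F504431 : act 2 n220575 = n193934 := d4_1 D220575 (iv7 D193934) (iv2 F391411)
theorem F504432 : act 3 n220575 = n220344 := d8_1 D220575 F503300 F500416
theorem F504433 : act 5 n220575 = n216536 := d13_1 D220575 (iv7 D216536) (iv5 F391412)
theorem F504434 : act 6 n220575 = n209166 := d14_1 D220575 F452549 (iv6 D137839) (iv7 F329332) D193925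
theorem F504435 : act 1 n193933 = n220575 := d15_1 D193933 (iv7 D220575) F391411
theorem F504436 : act 1 n220575 = n193932 := d15_1 F504435 (iv7 F504426) F504428
def n220576 : Q := act 6 n193928
theorem D220576 : act 6 n193928 = n220576 := rfl
theorem F504437 : act 3 n220576 = n193930 := d7_1 D220576 (iv6 D193930) D193928
theorem F504438 : act 4 n220576 = n193937 := d10_1 D220576 (iv6 D193937) (iv4 F391424)
theorem F504439 : act 5 n220576 = n205076 := d12_1 D220576 F460838 F460834 D211950 F463709
def n220577 : Q := act 5 n193930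
theorem D220577 : act 5 n193930 = n220577 := rfl
theorem F504440 : act 3 n220577 = n205076 := d6_1 D220577 (iv5 F504439) F504437
theorem F504441 : act 6 n220577 = n195437 := d12_2 D193930 D220577 F403878 F391427 (iv5 D193929)
theorem F504442 : act 4 n220577 = n219647 := d19_2 F503344 D220577 F499834 (iv1 F394166) (iv5 F394285) (iv4 F499978) (iv3 D219673) (iv1 F498733) F498730 (iv4 D211059) (iv3 D140592) (iv1 D65976) D65977 (iv4 F342437) (iv3 F434312) F482369 F482366 F478733 (iv3 F503343)
theorem F504443 : act 0 n210712 = n220577 := d19_0 (iv5 D220577) F391429 F157432 D102490 D193942 (iv4 F391473) (iv3 D140344) F168103 D66514 D141870 (iv3 F401333) (iv1 F423193) F423194 (iv4 D115725) (iv3 F180045) F221538 F221535 (iv4 F222744) (iv3 F458531)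
def n220578 : Q := act 7 n193930
theorem D220578 : act 7 n193930 = n220578 := rfl
theorem F504444 : act 4 n220578 = n193934 := d11_1 D220578 (iv7 D193934) (iv4 F391429)
def n220579 : Q := act 4 n193932
theorem D220579 : act 4 n193932 = n220579 := rfl
theorem F504445 : act 2 n220579 = n210312 := d1_1 D220579 F456963 F391438
theorem F504446 : act 6 n220579 = n210171 := d10_2 (iv6 F391437) D220579 (iv4 D210171)
theorem F504447 : act 7 n220579 = n220333 := d11_2 F504426 D220579 (iv4 F504430)
theorem F504448 : act 0 n220579 = n220335 := d20_1 D220579 F503254 F389828 (iv1 F275149) (iv3 F385623) (iv4 F391457) (iv1 D193938) F157435 (iv3 F157432) D193932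
theorem F504449 : act 0 n210177 = n220579 := d20_1 (iv4 F456472) (iv4 D220579) (iv3 F470916) F470918 (iv3 F472003) F472004 (iv1 F432075) (iv4 F456216) (iv3 F503333) (iv1 F503335)
def n220580 : Q := act 6 n193933
theorem D220580 : act 6 n193933 = n220580 := rfl
theorem F504450 : act 3 n220580 = n207909 := d7_1 D220580 F446955 F391440
theorem F504451 : act 4 n220580 = n207916 := d10_1 D220580 F446976 F436476
theorem F504452 : act 5 n220580 = n216006 := d12_1 D220580 (iv6 F483602) F501080 F501076 F455736
theorem F504453 : act 7 n220580 = n209293 := d14_2 (iv7 F391439) D220580 (iv6 D209293) F219267 D138223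
theorem F504454 : act 1 n209535 = n220580 := d15_1 F474174 F504453 (iv2 F474170)
theorem F504455 : act 1 n220580 = n209277 := d15_1 F504454 (iv7 F470054) F470051
def n220581 : Q := act 6 n193936
theorem D220581 : act 6 n193936 = n220581 := rfl
theorem F504456 : act 2 n220581 = n193937 := d3_1 D220581 (iv6 D193937) D193936
theorem F504457 : act 3 n220581 = n215748 := d7_1 D220581 F481388 (iv3 F391449)
theorem F504458 : act 5 n220581 = n198703 := d12_1 D220581 (iv6 D198703) (iv5 F320036) D190676 (iv5 F391450)
theorem F504459 : act 0 n198473 = n220581 := d17_2 (iv1 F408764) (iv5 F408607) F504458 (iv4 F477107) F477111 (iv0 F431802) D215379 (iv0 F479679) (iv4 F408762)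
def n220582 : Q := act 1 n193937
theorem D220582 : act 1 n193937 = n220582 := rfl
theorem F504460 : act 3 n215532 = n220582 := d19_19 (iv1 D220582) (iv5 F414302) F414301 F412273 F402070 (iv5 F351074) (iv4 F351067) F351066 D111366 F331098 (iv4 F461977) F461976 (iv1 F404611) F404609 F245580 (iv3 F245561) (iv1 F388801) D220194 F502580
theorem F504461 : act 5 n198660 = n220582 := d21_6 (iv5 F173664) F204861 (iv5 F204862) D199840 (iv1 F413761) (iv6 F408754) (iv1 D220582) (iv5 F414302) (iv6 D199951) (iv1 D112101)
theorem F504462 : act 2 n220582 = n198473 := d2_1 F504461 F408607 F408752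
theorem F504463 : act 6 n220582 = n198372 := d21_3 (iv5 F408742) (iv1 F408750) F504461 (iv1 F407795) (iv6 F174130) F340550 (iv1 F393096) (iv5 F393803) (iv6 F393807) (iv1 F408529)
def n220583 : Q := act 7 n193937
theorem D220583 : act 7 n193937 = n220583 := rfl
theorem F504464 : act 3 n220583 = n193940 := d8_1 D220583 (iv7 D193940) (iv3 F391454)
theorem F504465 : act 6 n220583 = n220414 := d14_1 D220583 (iv7 D220414) (iv6 D193616) (iv7 F157433) D193937
theorem F504466 : act 1 n198473 = n220583 := d15_1 (iv0 F504459) (iv7 D220583) (iv2 F504456)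
def n220584 : Q := act 6 n193943
theorem D220584 : act 6 n193943 = n220584 := rfl
theorem F504467 : act 2 n220584 = n211679 := d3_1 D220584 (iv6 D211679) (iv2 F391474)
theorem F504468 : act 3 n220584 = n193946 := d7_1 D220584 (iv6 D193946) D193943
theorem F504469 : act 4 n220584 = n204254 := d10_1 D220584 (iv6 D204254) F391475
theorem F504470 : act 0 n220584 = n216553 := d21_4 (iv5 D141181) D141179 (iv5 F391476) D220584 (iv6 D216553) D216552 (iv1 F501337) F501339 (iv6 F431708) F431709
theorem F504471 : act 0 n210158 = n220584 := d21_4 (iv5 D67190) (iv1 F103130) (iv5 F357293) D210158 (iv6 D220584) F391476 F361958 (iv5 F462378) (iv6 D211613) (iv1 F226169)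
def n220585 : Q := act 7 n193949
theorem D220585 : act 7 n193949 = n220585 := rfl
theorem F504472 : act 3 n220585 = n194248 := d8_1 D220585 F392498 (iv3 F391492)
theorem F504473 : act 4 n220585 = n214016 := d11_1 D220585 F473175 F473172
theorem F504474 : act 1 n200390 = n220585 := d15_1 F416262 (iv7 D220585) (iv2 F393756)
theorem F504475 : act 1 n220585 = n194235 := d15_1 F504474 (iv7 F503640) F503638
def n220586 : Q := act 3 n193950
theorem D220586 : act 3 n193950 = n220586 := rfl
theorem F504476 : act 2 n220586 = n202318 := d0_1 D220586 (iv3 D202318) (iv2 F422401) (iv3 F500507) F500506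
theorem F504477 : act 4 n220586 = n195910 := d5_2 D193950 D220586 F398699 (iv4 D194531) (iv3 F353158)
theorem F504478 : act 0 n220586 = n201942 := d20_4 F440590 (iv1 F353159) D193950 D220586 (iv3 F461415) (iv4 D211402) (iv1 F360084) (iv4 F469265) F469264 F440594
theorem F504479 : act 0 n201941 = n220586 := d20_4 (iv4 F388908) (iv1 F388910) F362202 (iv3 F422475) (iv3 D220586) (iv4 D193950) (iv1 D102494) (iv4 F157406) (iv3 D102453) D102451
def n220587 : Q := act 1 n193951
theorem D220587 : act 1 n193951 = n220587 := rfl
theorem F504480 : act 7 n220587 = n215363 := d15_2 (iv0 F503649) D220587 (iv2 F503646)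
theorem F504481 : act 5 n220587 = n203952 := d17_7 F358674 (iv5 F300634) (iv1 F388772) (iv5 F409445) F409443 F397368 D220587 (iv0 F479201) (iv4 D215282)
theorem F504482 : act 3 n204899 = n220587 := d19_19 (iv1 D220587) (iv5 F397368) (iv4 F409443) F430106 (iv1 F430105) (iv5 F354799) (iv4 D155227) (iv3 F317231) (iv1 F222415) F332514 (iv4 F348214) (iv3 F361529) D211620 F462409 F242113 (iv3 F199450) (iv1 F431679) (iv5 F500813) (iv4 F500815)
def n220588 : Q := act 6 n193955
theorem D220588 : act 6 n193955 = n220588 := rfl
theorem F504483 : act 2 n220588 = n193958 := d3_1 D220588 (iv6 D193958) D193955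
theorem F504484 : act 3 n220588 = n209277 := d7_1 D220588 (iv6 D209277) (iv3 F391506)
theorem F504485 : act 5 n220588 = n220135 := d12_1 D220588 F502307 (iv5 D203961) (iv6 F281114) F391510
theorem F504486 : act 0 n210267 = n220588 := d20_4 (iv4 D149331) (iv1 F309990) F363872 (iv3 F456795) F504484 (iv4 F470056) (iv1 F470059) (iv4 F503348) F503347 F461068
theorem F504487 : act 0 n220588 = n215342 := d20_4 (iv4 F462455) (iv1 F470060) F470056 (iv3 F504484) (iv3 D215342) (iv4 D173365) D173363 (iv4 F389881) (iv3 F438430) F462456
def n220589 : Q := act 6 n193956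
theorem D220589 : act 6 n193956 = n220589 := rfl
theorem F504488 : act 3 n220589 = n199164 := d7_1 D220589 (iv6 D199164) (iv3 F391522)
theorem F504489 : act 4 n220589 = n193958 := d10_1 D220589 (iv6 D193958) D193956
theorem F504490 : act 0 n220230 = n220589 := d21_4 (iv5 D197742) F362470 (iv5 F389084) D220230 (iv6 D220589) (iv5 F424827) (iv1 D202628) D202630 (iv6 F433703) F433706
def n220590 : Q := act 0 n193958
theorem D220590 : act 0 n193958 = n220590 := rfl
theorem F504491 : act 4 n220590 = n215347 := d20_2 F504489 D220590 F479498 (iv1 F381883) (iv3 F467852) F467853 D213692 (iv4 F471662) (iv3 F502768) F504490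
theorem F504492 : act 3 n220590 = n210072 := d20_5 F381569 F391527 F391524 (iv3 F391517) D220590 F456058 (iv1 F306075) D208216 F448415 (iv1 D192102)
theorem F504493 : act 2 n215342 = n220590 := d0_5 F504492 (iv2 F462512) (iv3 F478585) F478584 D215342
theorem F504494 : act 6 n220345 = n220590 := d7_0 F504492 F504288 (iv3 F504290)
theorem F504495 : act 7 n210267 = n220590 := d8_0 F504492 F456060 (iv3 F456795)
def n220591 : Q := act 1 n193958
theorem D220591 : act 1 n193958 = n220591 := rfl
theorem F504496 : act 7 n220591 = n215342 := d15_2 (iv0 D220590) D220591 F504493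
theorem F504497 : act 3 n214805 = n220591 := d20_3 F455957 F346537 D214805 (iv1 D220591) F391517 (iv4 F391524) (iv1 F391529) F389990 (iv3 F389886) (iv1 F455960)
theorem F504498 : act 4 n199248 = n220591 := d20_6 F445461 (iv1 D188392) (iv4 F352783) (iv3 D175021) (iv1 F303412) (iv3 F411316) (iv1 D220591) (iv4 F504489) F504488 F445465
theorem F504499 : act 6 n199246 = n220591 := d21_3 (iv5 D216999) F383604 (iv5 F411311) (iv1 D220591) (iv6 D193958) D193957 F391514 D212489 F466050 (iv1 F486922)
theorem F504500 : act 2 n220591 = n210267 := d3_1 F504499 (iv6 D210267) (iv2 F411310)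
theorem F504501 : act 5 n220591 = n219821 := d12_1 F504499 (iv6 D219821) (iv5 F386372) F384509 (iv5 F411311)
def n220592 : Q := act 5 n193958
theorem D220592 : act 5 n193958 = n220592 := rfl
theorem F504502 : act 2 n220592 = n220135 := d2_1 D220592 (iv5 F504485) F504483
theorem F504503 : act 3 n220592 = n193964 := d6_1 D220592 (iv5 D193964) (iv3 F391517)
theorem F504504 : act 6 n220592 = n200202 := d12_2 D193958 D220592 (iv5 F430579) F430577 (iv5 D193957)
theorem F504505 : act 4 n220592 = n200203 := d19_2 (iv1 D220591) D220592 (iv3 F458860) F483306 F483305 (iv4 D212644) (iv3 D148659) (iv1 F106016) (iv5 F106156) F106155 F51428 D68866 D146910 (iv4 F432139) F432138 F337511 D162624 D214805 F504497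
theorem F504506 : act 0 n220592 = n216985 := d21_1 D220592 F486876 (iv6 D193854) (iv1 F371266) (iv6 F486918) (iv5 D216999) F383604 (iv5 F411311) F504499 (iv1 D220591)
theorem F504507 : act 7 n217304 = n220592 := d8_0 F504503 (iv7 F391541) D217304
def n220593 : Q := act 7 n193958
theorem D220593 : act 7 n193958 = n220593 := rfl
theorem F504508 : act 3 n220593 = n193965 := d8_1 D220593 (iv7 D193965) (iv3 F391517)
theorem F504509 : act 5 n220593 = n217304 := d13_1 D220593 F504507 (iv5 D220592)
theorem F504510 : act 1 n210267 = n220593 := d15_1 (iv0 F504486) (iv7 D220593) (iv2 F504483)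
theorem F504511 : act 1 n220593 = n215342 := d15_1 F504510 (iv7 F504496) F504500
def n220594 : Q := act 5 n193962
theorem D220594 : act 5 n193962 = n220594 := rfl
theorem F504512 : act 2 n220594 = n217306 := d2_1 D220594 F488358 F466841
theorem F504513 : act 3 n220594 = n200202 := d6_1 D220594 (iv5 F430579) F430576
theorem F504514 : act 6 n220594 = n193964 := d12_2 D193962 D220594 (iv5 D193964) (iv6 D102505) D102504
theorem F504515 : act 0 n220594 = n217262 := d17_2 F445271 D220594 (iv5 D217262) F369002 (iv5 F385926) F385928 D194051 (iv0 F391882) (iv4 F445268)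
theorem F504516 : act 1 n220594 = n204128 := d17_6 D100793 D192839 F414366 (iv5 D199963) (iv4 F391535) D220594 (iv5 D204128) (iv0 F356535) F154890
theorem F504517 : act 4 n220594 = n216318 := d18_5 F486764 F426894 (iv1 D199962) (iv4 F391535) D220594 (iv0 F498698) (iv4 D217194) F487864 F487863
def n220595 : Q := act 5 n193967
theorem D220595 : act 5 n193967 = n220595 := rfl
theorem F504518 : act 2 n220595 = n209538 := d2_1 D220595 (iv5 D209538) (iv2 F454015)
theorem F504519 : act 3 n220595 = n193970 := d6_1 D220595 (iv5 D193970) (iv3 F391549)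
theorem F504520 : act 7 n220595 = n209534 := d13_2 (iv7 F391555) D220595 (iv5 D209534)
theorem F504521 : act 1 n220595 = n209846 := d17_8 (iv1 F473329) (iv5 D214069) (iv1 F404298) D213222 F469482 (iv5 D209522) F391551 D220595 (iv4 F469489)
def n220596 : Q := act 5 n193974
theorem D220596 : act 5 n193974 = n220596 := rfl
theorem F504522 : act 2 n220596 = n204128 := d2_1 D220596 (iv5 D204128) (iv2 F391567)
theorem F504523 : act 3 n220596 = n209697 := d6_1 D220596 F454665 F391565
theorem F504524 : act 6 n220596 = n217301 := d12_2 F411783 D220596 F488336 (iv6 D199343) D199342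
theorem F504525 : act 7 n220596 = n217262 := d13_2 (iv7 F391564) D220596 (iv5 D217262)
theorem F504526 : act 4 n220596 = n209712 := d16_2 F391566 D220596 F454714 (iv4 F499497) F499493 F385878 (iv5 F157448) F157449 (iv2 F353226)
theorem F504527 : act 0 n220596 = n217306 := d17_2 (iv1 F391563) D220596 F488358 F466842 (iv5 F479610) (iv0 F479612) F448491 (iv0 D190120) (iv4 F369005)
def n220597 : Q := act 6 n193975
theorem D220597 : act 6 n193975 = n220597 := rfl
theorem F504528 : act 2 n220597 = n217170 := d3_1 D220597 (iv6 D217170) (iv2 F432175)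
theorem F504529 : act 3 n220597 = n214344 := d7_1 D220597 F474675 (iv3 F466790)
theorem F504530 : act 4 n220597 = n199961 := d10_1 D220597 (iv6 F488187) F488182
theorem F504531 : act 7 n220597 = n213543 := d14_2 (iv7 F432173) D220597 (iv6 D213543) (iv7 F432168) F432171
theorem F504532 : act 0 n220597 = n216964 := d21_4 (iv5 F459298) (iv1 F503744) F503746 D220597 (iv6 D216964) (iv5 F390264) (iv1 F426859) (iv5 F426856) (iv6 F378931) (iv1 F378932)
theorem F504533 : act 5 n220597 = n216866 := d21_6 (iv5 F34829) (iv1 F35436) D47556 D102526 D193975 D220597 (iv1 D216866) F288565 (iv6 D88869) (iv1 F63947)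
theorem F504534 : act 0 n217138 = n220597 := d21_4 (iv5 F73596) D99759 (iv5 F368304) D217138 (iv6 D220597) (iv5 F503746) (iv1 D220431) F390606 F368344 (iv1 D89441)
def n220598 : Q := act 5 n193981
theorem D220598 : act 5 n193981 = n220598 := rfl
theorem F504535 : act 2 n220598 = n217267 := d2_1 D220598 (iv5 D217267) (iv2 F391606)
theorem F504536 : act 3 n220598 = n198993 := d6_1 D220598 F410221 (iv3 F391603)
theorem F504537 : act 7 n220598 = n199080 := d13_2 F391607 D220598 F410566
theorem F504538 : act 4 n220598 = n210921 := d16_4 (iv4 F488201) (iv5 D217268) (iv4 F391604) D220598 F461514 F393679 (iv5 F461513) (iv7 F480134) F480136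
theorem F504539 : act 0 n220598 = n218812 := d17_2 D193981 D220598 (iv5 D218812) (iv4 D190123) (iv5 F348934) D215526 (iv5 F487758) (iv0 F487757) F368503
theorem F504540 : act 1 n220598 = n210528 := d17_6 (iv1 F487338) D218886 F496044 (iv5 D217268) (iv4 F391604) D220598 F457935 F387600 (iv4 F487336)
theorem F504541 : act 6 n220598 = n204645 := d21_3 (iv5 F157501) D193981 D220598 (iv1 F451816) (iv6 D191949) (iv5 F310427) (iv1 F198464) (iv5 F310431) F384989 (iv1 D191957)
def n220599 : Q := act 5 n193987
theorem D220599 : act 5 n193987 = n220599 := rfl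
theorem F504542 : act 2 n220599 = n217183 := d2_1 D220599 (iv5 D217183) (iv2 F391639)
theorem F504543 : act 3 n220599 = n215981 := d6_1 D220599 (iv5 D215981) (iv3 F391640)
theorem F504544 : act 7 n220599 = n217184 := d13_2 (iv7 F391641) D220599 (iv5 D217184)
theorem F504545 : act 4 n220599 = n218531 := d16_2 D193987 D220599 (iv5 D218531) (iv4 F494311) F494312 F399298 F354692 (iv7 F354734) F354733
theorem F504546 : act 0 n220599 = n218675 := d17_2 F391645 D220599 (iv5 D218675) (iv4 F432166) F432167 (iv0 F410178) F367303 (iv0 D186578) (iv4 F367292)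
theorem F504547 : act 1 n220599 = n215186 := d17_6 (iv1 F377963) (iv5 D131922) D131919 F354715 D193987 D220599 (iv5 D215186) (iv0 F366649) (iv4 F377953)
theorem F504548 : act 6 n219074 = n220599 := d21_5 (iv5 D164121) F298017 D121148 (iv6 F430184) F497044 (iv5 D220599) F391643 (iv5 F456103) F456104 F414359
def n220600 : Q := act 5 n193990
theorem D220600 : act 5 n193990 = n220600 := rfl
theorem F504549 : act 2 n220600 = n201603 := d2_1 D220600 (iv5 F452162) F452159
theorem F504550 : act 3 n220600 = n217800 := d6_1 D220600 F490693 F391659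
theorem F504551 : act 4 n220600 = n194031 := d9_1 D220600 (iv5 F488293) F488294 (iv5 D192029) F153294 D100341 D192528 D219965 F501412 F391814 (iv4 F385471) (iv5 D192081) F153404 D102562 D193990
theorem F504552 : act 6 n220600 = n201594 := d12_2 (iv6 F391656) D220600 (iv5 D201594) D201595 F421080
theorem F504553 : act 7 n220600 = n217823 := d13_2 F439424 D220600 F490801
theorem F504554 : act 0 n220600 = n201091 := d17_2 (iv1 F391658) D220600 (iv5 D201091) F391679 (iv5 D90531) F139324 (iv5 F183752) F183756 D187744
theorem F504555 : act 1 n220600 = n201090 := d17_6 F349119 F349113 (iv1 F142890) D102562 D193990 D220600 (iv5 D201090) (iv0 D113897) (iv4 F349120)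
def n220601 : Q := act 1 n194001
theorem D220601 : act 1 n194001 = n220601 := rfl
theorem F504556 : act 1 n220601 = n217624 := d15_1 D220601 (iv7 F492719) F492717
theorem F504557 : act 7 n220601 = n201860 := d15_2 (iv0 F437917) D220601 (iv2 F437912)
theorem F504558 : act 4 n220601 = n201862 := d18_7 (iv1 F449711) F377374 (iv1 D187102) (iv4 F143482) (iv5 F157531) D194001 D220601 (iv0 F422110) D208519
theorem F504559 : act 5 n220601 = n217677 := d18_9 (iv1 D217677) D217678 F501864 F501859 (iv5 D217665) (iv4 D187718) F159977 D194001 D220601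
theorem F504560 : act 6 n206103 = n220601 := d21_3 (iv5 F437391) (iv1 F407078) (iv5 F439267) (iv1 D220601) (iv6 F465460) (iv5 F465459) (iv1 D148763) D148765 (iv6 F437740) (iv1 F437741)
theorem F504561 : act 2 n220601 = n217682 := d3_1 F504560 F495000 F494994
def n220602 : Q := act 5 n194001
theorem D220602 : act 5 n194001 = n220602 := rfl
theorem F504562 : act 2 n220602 = n220563 := d2_1 D220602 F504375 F492717
theorem F504563 : act 7 n220602 = n218655 := d13_2 (iv7 F391719) D220602 (iv5 D218655)
theorem F504564 : act 4 n220602 = n220268 := d16_2 D194001 D220602 F502953 (iv4 D193903) F157417 F152550 F371143 (iv7 F374631) F374633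
theorem F504565 : act 0 n220602 = n212407 := d17_2 (iv1 D220601) D220602 (iv5 D212407) (iv4 F371389) (iv5 F475688) (iv0 F483321) F483320 (iv0 F465488) (iv4 F504558)
theorem F504566 : act 1 n220602 = n212405 := d17_6 D68857 (iv5 F144897) F144899 (iv5 F157531) D194001 D220602 (iv5 D212405) (iv0 D146884) F105043
def n220603 : Q := act 4 n194005
theorem D220603 : act 4 n194005 = n220603 := rfl
theorem F504567 : act 2 n220603 = n206104 := d1_1 D220603 F439271 (iv2 F391730)
theorem F504568 : act 3 n220603 = n200077 := d5_1 D220603 (iv4 D200077) (iv3 F363986) F363987 D194005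
theorem F504569 : act 5 n220603 = n205770 := d9_2 F395441 D220603 F437804 F367812 F291554 (iv5 F370282) (iv4 F370284) F163752 (iv4 F204708) (iv5 F344984) (iv4 D98606) D98607 F291559 D105147 D195019
theorem F504570 : act 6 n220603 = n205691 := d10_2 F391733 D220603 F437471
theorem F504571 : act 7 n220603 = n206095 := d11_2 (iv7 F391731) D220603 F439231
theorem F504572 : act 0 n220603 = n201866 := d17_0 (iv5 F422130) (iv1 F367771) F437391 F437390 (iv5 F399891) (iv0 F399893) (iv5 F347380) F391734 D220603
theorem F504573 : act 1 n220603 = n206103 := d18_6 F370293 (iv4 D187427) F292213 D195019 F395441 D220603 F439268 (iv0 D201070) (iv5 F209194)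
def n220604 : Q := act 1 n194014
theorem D220604 : act 1 n194014 = n220604 := rfl
theorem F504574 : act 1 n220604 = n194049 := d15_1 D220604 (iv7 D194049) (iv2 F391770)
theorem F504575 : act 7 n220604 = n194045 := d15_2 (iv0 F447652) D220604 (iv2 F447653)
theorem F504576 : act 5 n220604 = n212965 := d17_7 (iv1 F392288) F392285 (iv1 F369352) (iv5 F468296) F468295 F402739 D220604 F468345 (iv4 F392295)
theorem F504577 : act 4 n220604 = n216290 := d17_9 F483666 (iv5 D194179) (iv1 F369299) (iv5 F368048) F368047 (iv5 F468397) F468400 F402739 D220604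
theorem F504578 : act 6 n214505 = n220604 := d21_3 F451951 F384215 (iv5 F475511) (iv1 D220604) (iv6 F423360) (iv5 F490634) F490638 F371878 F363978 (iv1 F451954)
theorem F504579 : act 2 n220604 = n194046 := d3_1 F504578 (iv6 F447632) (iv2 F475510)
theorem F504580 : act 3 n220604 = n209122 := d7_1 F504578 F452361 D214505
def n220605 : Q := act 5 n194027
theorem D220605 : act 5 n194027 = n220605 := rfl
theorem F504581 : act 2 n220605 = n220453 := d2_1 D220605 F503850 F500361
theorem F504582 : act 3 n220605 = n212844 := d6_1 D220605 F467749 (iv3 F391808)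
theorem F504583 : act 6 n220605 = n209577 := d12_2 F391809 D220605 F454208 F361338 D173813
theorem F504584 : act 7 n220605 = n220452 := d13_2 F424937 D220605 F503846
theorem F504585 : act 0 n220605 = n220449 := d17_2 D194027 D220605 (iv5 D220449) (iv4 D193700) (iv5 F369050) F391883 (iv5 D194051) (iv0 D102612) (iv4 F157700)
theorem F504586 : act 1 n220605 = n219727 := d17_6 F495586 F495583 (iv1 D199962) D199963 F414367 D220605 (iv5 D219727) F484909 F484907
theorem F504587 : act 4 n220605 = n209578 := d19_2 D194027 D220605 F454212 D209580 F454283 (iv4 D187151) F137393 (iv1 F137366) F291666 (iv4 F68883) (iv3 F70685) (iv1 F290756) F125246 F125248 (iv3 F292400) (iv1 D22881) D22883 D47587 D102599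
def n220606 : Q := act 5 n194028
theorem D220606 : act 5 n194028 = n220606 := rfl
theorem F504588 : act 2 n220606 = n220452 := d2_1 D220606 F503846 (iv2 F466353)
theorem F504589 : act 3 n220606 = n218158 := d6_1 D220606 F492430 F466350
theorem F504590 : act 6 n220606 = n218157 := d12_2 (iv6 F466346) D220606 F492423 (iv6 D213615) (iv5 F466345)
theorem F504591 : act 7 n220606 = n220453 := d13_2 F500357 D220606 F503850
theorem F504592 : act 4 n220606 = n219991 := d16_2 F391810 D220606 F501551 (iv4 F504517) (iv5 D220594) F391535 D199963 (iv7 F469649) F469645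
theorem F504593 : act 0 n220606 = n219727 := d17_2 (iv1 F500367) D220606 (iv5 D219727) (iv4 D192156) (iv5 F367377) F391891 (iv5 D194053) F385940 (iv4 F500363)
theorem F504594 : act 1 n220606 = n220449 := d17_6 (iv1 F493325) (iv5 F493327) (iv1 F465950) F465946 F391810 D220606 (iv5 D220449) (iv0 F467740) F467736
def n220607 : Q := act 6 n194030
theorem D220607 : act 6 n194030 = n220607 := rfl
theorem F504595 : act 3 n220607 = n194033 := d7_1 D220607 (iv6 D194033) (iv3 F391813)
theorem F504596 : act 4 n220607 = n209437 := d10_1 D220607 F489739 F451818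
theorem F504597 : act 5 n220607 = n219992 := d12_1 D220607 (iv6 F501556) (iv5 D211171) F364748 D194030
theorem F504598 : act 0 n216341 = n220607 := d21_4 F453537 F319027 D183083 D216341 (iv6 D220607) (iv5 D194030) D194027 D220605 F504583 F454209
def n220608 : Q := act 7 n194036
theorem D220608 : act 7 n194036 = n220608 := rfl
theorem F504599 : act 2 n220608 = n208783 := d4_1 D220608 F450845 (iv2 F391826)
theorem F504600 : act 3 n220608 = n209421 := d8_1 D220608 F453617 (iv3 F391827)
theorem F504601 : act 4 n220608 = n199361 := d11_1 D220608 F411852 F411498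
theorem F504602 : act 5 n220608 = n208776 := d13_1 D220608 F450823 (iv5 F391828)
theorem F504603 : act 6 n220608 = n219637 := d14_1 D220608 F499789 (iv6 F431053) F391759 D194036
theorem F504604 : act 1 n209183 = n220608 := d15_1 F452617 (iv7 D220608) F391826
theorem F504605 : act 1 n220608 = n209181 := d15_1 F504604 (iv7 F457330) F457327
def n220609 : Q := act 3 n194041
theorem D220609 : act 3 n194041 = n220609 := rfl
theorem F504606 : act 2 n220609 = n201029 := d0_1 D220609 F418806 (iv2 F209231) D202238 (iv2 F423362)
theorem F504607 : act 4 n220609 = n194072 := d5_2 D194041 D220609 (iv3 D194072) (iv4 D102631) (iv3 F157702)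
theorem F504608 : act 5 n220609 = n214396 := d6_2 F452072 D220609 F474963
theorem F504609 : act 6 n220609 = n194047 := d7_2 (iv6 F391847) D220609 (iv3 D194047)
theorem F504610 : act 7 n220609 = n195132 := d8_2 F456025 D220609 (iv3 F456021)
theorem F504611 : act 0 n220609 = n201023 := d20_4 F489699 (iv1 D194040) D194041 D220609 (iv3 F493065) (iv4 F496964) F496966 F462081 (iv3 F451719) (iv1 F489702)
theorem F504612 : act 0 n201027 = n220609 := d20_4 F183739 (iv1 F163258) (iv4 F229775) (iv3 F418801) (iv3 D220609) (iv4 D194041) D194039 (iv4 F391839) (iv3 D146394) (iv1 F183737)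
def n220610 : Q := act 6 n194043
theorem D220610 : act 6 n194043 = n220610 := rfl
theorem F504613 : act 2 n220610 = n195823 := d3_1 D220610 F398341 (iv2 F391856)
theorem F504614 : act 3 n220610 = n203298 := d7_1 D220610 F451607 (iv3 F451606)
theorem F504615 : act 4 n220610 = n194044 := d10_1 D220610 (iv6 D194044) D194043
theorem F504616 : act 5 n220610 = n195219 := d12_1 D220610 F396328 F215272 D207401 (iv5 F444705)
theorem F504617 : act 7 n220610 = n212595 := d14_2 (iv7 F391857) D220610 (iv6 F475845) (iv7 F487083) (iv6 D217036)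
theorem F504618 : act 0 n220610 = n203134 := d21_4 (iv5 F463963) F463965 (iv5 F444705) D220610 (iv6 F489855) F489854 (iv1 F468098) F468096 F449334 F439279
theorem F504619 : act 0 n212414 = n220610 := d21_4 (iv5 F387777) (iv1 F387780) F373927 D212414 (iv6 D220610) F444705 F444704 (iv5 F374694) (iv6 D188748) D188745
def n220611 : Q := act 3 n194045
theorem D220611 : act 3 n194045 = n220611 := rfl
theorem F504620 : act 2 n220611 = n208136 := d0_1 D220611 F448034 F447633 D208052 F447653
theorem F504621 : act 5 n220611 = n200350 := d6_2 F474043 D220611 (iv3 F474041)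
theorem F504622 : act 6 n220611 = n195222 := d7_2 (iv6 F437181) D220611 F396342
theorem F504623 : act 7 n220611 = n209122 := d8_2 F504575 D220611 (iv3 F504580)
theorem F504624 : act 0 n220611 = n201030 := d19_4 F294968 (iv5 F456171) F456170 D220611 F418811 (iv4 F443582) (iv3 F474511) (iv1 F474516) F384249 (iv4 F416536) F416535 F353954 F339527 F339520 (iv3 F356315) (iv1 F411669) F411672 F295381 D182605
theorem F504625 : act 0 n207211 = n220611 := d20_4 (iv4 F383900) F437403 F437401 (iv3 F443812) (iv3 D220611) (iv4 F456170) (iv1 F456173) F452252 F218290 D135758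
def n220612 : Q := act 3 n194057
theorem D220612 : act 3 n194057 = n220612 := rfl
theorem F504626 : act 4 n220612 = n201692 := d5_2 D194057 D220612 (iv3 F490711) F490712 F391895
theorem F504627 : act 6 n220612 = n218279 := d7_2 F487855 D220612 F493081
theorem F504628 : act 0 n220612 = n218561 := d20_10 F494481 (iv1 F466680) (iv4 F494237) F494560 (iv1 D218574) F456094 (iv4 F456093) F385793 D194057 D220612
theorem F504629 : act 1 n220612 = n200557 := d15_1 (iv0 F504628) (iv7 F465961) (iv2 F494480)
theorem F504630 : act 7 n218517 = n220612 := d11_0 F504626 (iv7 F421439) (iv4 F494249)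
def n220613 : Q := act 5 n194057
theorem D220613 : act 5 n194057 = n220613 := rfl
theorem F504631 : act 4 n220613 = n196040 := d16_2 D194057 D220613 (iv5 D196040) (iv4 F245960) (iv5 F333093) F333092 D210094 F456128 F386003
def n220614 : Q := act 7 n194057
theorem D220614 : act 7 n194057 = n220614 := rfl
theorem F504632 : act 3 n220614 = n218517 := d8_1 D220614 F504630 (iv3 D220612)
theorem F504633 : act 4 n220614 = n194058 := d11_1 D220614 (iv7 D194058) D194057
theorem F504634 : act 1 n210080 = n220614 := d15_1 F500527 (iv7 D220614) (iv2 F500525)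
theorem F504635 : act 1 n220614 = n210078 := d15_1 F504634 F456078 (iv2 F456083)
theorem F504636 : act 6 n218515 = n220614 := d10_0 F504633 (iv6 F414714) (iv4 F494243)
def n220615 : Q := act 4 n194060
theorem D220615 : act 4 n194060 = n220615 := rfl
theorem F504637 : act 2 n220615 = n209912 := d1_1 D220615 (iv4 D209912) (iv2 F391909)
theorem F504638 : act 3 n220615 = n219768 := d5_1 D220615 (iv4 D219768) (iv3 F496994) F496995 (iv3 F463039)
theorem F504639 : act 6 n220615 = n196192 := d10_2 (iv6 F391910) D220615 F399810
theorem F504640 : act 7 n220615 = n209914 := d11_2 (iv7 F391911) D220615 (iv4 D209914)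
theorem F504641 : act 1 n220615 = n194206 := d18_6 F333130 F74849 D47595 D102622 D194060 D220615 F392376 (iv0 F396288) (iv5 D137530)
def n220616 : Q := act 5 n194061
theorem D220616 : act 5 n194061 = n220616 := rfl
theorem F504642 : act 2 n220616 = n209952 := d2_1 D220616 (iv5 D209952) (iv2 F391914)
theorem F504643 : act 3 n220616 = n205217 := d6_1 D220616 (iv5 F497140) F497138
theorem F504644 : act 7 n220616 = n205214 := d13_2 (iv7 F391915) D220616 F435467
theorem F504645 : act 0 n220616 = n209265 := d17_2 (iv1 F391916) D220616 (iv5 D209265) (iv4 D136040) (iv5 D63967) D63965 (iv5 F225340) F218737 D137152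
theorem F504646 : act 1 n220616 = n210097 := d17_6 (iv1 D102630) (iv5 D47597) D47595 D102623 D194061 D220616 (iv5 D210097) (iv0 F391961) (iv4 D194070)
def n220617 : Q := act 4 n194067
theorem D220617 : act 4 n194067 = n220617 := rfl
theorem F504647 : act 2 n220617 = n209914 := d1_1 D220617 (iv4 D209914) (iv2 F391946)
theorem F504648 : act 7 n220617 = n209912 := d11_2 (iv7 F391948) D220617 (iv4 D209912)
theorem F504649 : act 0 n220617 = n194206 := d18_2 F391950 D220617 F392376 (iv5 F390838) (iv4 F418039) (iv0 F452668) (iv4 D209195) (iv0 D135938) (iv5 F206772)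
def n220618 : Q := act 3 n194068
theorem D220618 : act 3 n194068 = n220618 := rfl
theorem F504650 : act 2 n220618 = n196124 := d0_1 D220618 (iv3 F435589) F435588 F416996 (iv2 F391954)
theorem F504651 : act 4 n220618 = n201175 := d5_2 D194068 D220618 (iv3 F419333) F347280 (iv3 F347281)
theorem F504652 : act 5 n220618 = n205183 := d6_2 F455515 D220618 F455516
theorem F504653 : act 6 n220618 = n196241 := d7_2 F441007 D220618 (iv3 F441011)
theorem F504654 : act 7 n220618 = n196123 := d8_2 (iv7 F391951) D220618 F399513
theorem F504655 : act 0 n220618 = n196122 := d19_4 (iv1 F454583) F361813 D194068 D220618 F435860 F435859 F416872 (iv1 D125721) (iv5 D58868) (iv4 F81039) (iv3 D51344) F39165 (iv5 F39269) (iv4 F80590) (iv3 F171623) D198991 F410211 D202528 (iv3 F454577)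
theorem F504656 : act 0 n196126 = n220618 := d20_4 (iv4 D106479) (iv1 F77914) (iv4 F164367) (iv3 F399516) (iv3 D220618) (iv4 D194068) (iv1 F333140) F245960 F163844 F163724
def n220619 : Q := act 4 n194069
theorem D220619 : act 4 n194069 = n220619 := rfl
theorem F504657 : act 2 n220619 = n208325 := d1_1 D220619 F448922 (iv2 F391957)
theorem F504658 : act 6 n220619 = n201649 := d10_2 F489871 D220619 (iv4 F489869)
theorem F504659 : act 7 n220619 = n208326 := d11_2 (iv7 F391958) D220619 F448923
theorem F504660 : act 5 n220619 = n201162 := d16_1 D220619 F419295 F411139 (iv4 F228409) (iv5 F402439) (iv4 F411168) (iv5 F453001) F453002 (iv2 F391957)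
theorem F504661 : act 0 n220619 = n206698 := d18_2 F391963 D220619 F441889 F336142 D137323 F220493 (iv4 F361822) F361820 D137882
theorem F504662 : act 1 n220619 = n208320 := d18_6 (iv1 F218709) (iv4 F228392) F228391 D199137 F410839 D220619 F448903 (iv0 F365144) F365148
theorem F504663 : act 3 n201163 = n220619 := d6_3 F504660 (iv3 D201162) D201163
def n220620 : Q := act 3 n194070
theorem D220620 : act 3 n194070 = n220620 := rfl
theorem F504664 : act 2 n220620 = n201138 := d0_1 D220620 (iv3 F445760) F445759 F399513 (iv2 F391959)
theorem F504665 : act 4 n220620 = n201163 := d5_2 D194070 D220620 F504663 (iv4 D220619) (iv3 D194069)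
theorem F504666 : act 5 n220620 = n200568 := d6_2 F455511 D220620 (iv3 F455513)
theorem F504667 : act 7 n220620 = n200567 := d8_2 (iv7 F391960) D220620 F416996
theorem F504668 : act 0 n220620 = n219492 := d20_4 (iv4 F245960) (iv1 F364745) D194070 D220620 F499151 F436904 (iv1 F417893) (iv4 F436166) F436165 F333065
theorem F504669 : act 6 n195181 = n220620 := d21_3 (iv5 D113950) (iv1 F161575) (iv5 F396133) F504668 (iv6 D219492) (iv5 F483767) (iv1 F483770) (iv5 F383996) (iv6 F419180) (iv1 D201125)
def n220621 : Q := act 6 n194070
theorem D220621 : act 6 n194070 = n220621 := rfl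
theorem F504670 : act 2 n220621 = n206672 := d3_1 D220621 F441825 (iv2 F391959)
theorem F504671 : act 3 n220621 = n195181 := d7_1 D220621 F504669 (iv3 D220620)
theorem F504672 : act 4 n220621 = n194071 := d10_1 D220621 (iv6 D194071) D194070
theorem F504673 : act 5 n220621 = n195173 := d12_1 D220621 F396091 (iv5 F416970) (iv6 F455514) F455511
theorem F504674 : act 7 n220621 = n195172 := d14_2 (iv7 F391960) D220621 F396087 (iv7 F416980) (iv6 F416982)
theorem F504675 : act 0 n220621 = n217638 := d21_4 D137170 D209953 F455511 D220621 F489895 F383714 F332210 (iv5 F352189) (iv6 F367712) (iv1 D137169)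
theorem F504676 : act 1 n220621 = n217078 := d15_1 (iv0 F504675) F487300 (iv2 F489893)
def n220622 : Q := act 4 n194073
theorem D220622 : act 4 n194073 = n220622 := rfl
def n220623 : Q := act 7 n194073
theorem D220623 : act 7 n194073 = n220623 := rfl
theorem F504677 : act 2 n220623 = n196040 := d4_1 D220623 (iv7 F496645) F496642
theorem F504678 : act 3 n220623 = n207507 := d8_1 D220623 F445197 (iv3 F418125)
theorem F504679 : act 5 n220623 = n194074 := d13_1 D220623 (iv7 D194074) D194073
theorem F504680 : act 1 n205476 = n220623 := d15_1 F496647 (iv7 D220623) (iv2 F496642)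
theorem F504681 : act 1 n220623 = n205475 := d15_1 F504680 (iv7 F436610) F436613
def n220624 : Q := act 6 n194076
theorem D220624 : act 6 n194076 = n220624 := rfl
theorem F504682 : act 2 n220624 = n201580 := d3_1 D220624 F421008 (iv2 F391986)
theorem F504683 : act 3 n220624 = n194077 := d7_1 D220624 (iv6 D194077) (iv3 F391987)
theorem F504684 : act 4 n220624 = n201572 := d10_1 D220624 (iv6 F462628) F462626
theorem F504685 : act 5 n220624 = n201211 := d12_1 D220624 F419460 (iv5 D192566) (iv6 F157840) D194076
theorem F504686 : act 7 n220624 = n201582 := d14_2 (iv7 F391988) D220624 F421020 (iv7 F424619) F424618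
theorem F504687 : act 0 n214475 = n220624 := d21_4 (iv5 F480661) F480663 F448731 D214475 (iv6 D220624) (iv5 D194076) (iv1 F378116) (iv5 F421261) (iv6 F444030) F444032
def n220625 : Q := act 5 n194079
theorem D220625 : act 5 n194079 = n220625 := rfl
theorem F504688 : act 3 n220625 = n194080 := d6_1 D220625 (iv5 D194080) D194079
theorem F504689 : act 7 n220625 = n215926 := d13_2 (iv7 F392001) D220625 (iv5 D215926)
theorem F504690 : act 0 n220625 = n212489 := d17_2 F456549 D220625 (iv5 D212489) (iv4 D147368) D147369 F354856 F354806 F354812 (iv4 F456547)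
theorem F504691 : act 1 n220625 = n212488 := d17_6 (iv1 F281117) (iv5 D166484) (iv1 F330731) (iv5 F169518) (iv4 F392000) D220625 (iv5 D212488) (iv0 F426650) F426647
theorem F504692 : act 6 n217284 = n220625 := d21_5 F157417 (iv1 F369090) (iv5 F369091) D193856 F488276 (iv5 D220625) (iv1 F456560) F456557 F371277 F371275
def n220626 : Q := act 0 n194083
theorem D220626 : act 0 n194083 = n220626 := rfl
theorem F504693 : act 4 n220626 = n204448 := d18_3 (iv1 D194098) (iv4 F392017) D220626 F487612 F487610 (iv0 F406396) D212493 F488214 (iv5 F488215)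
theorem F504694 : act 3 n220626 = n216668 := d20_5 (iv4 F364220) (iv1 D102663) D102664 D194083 D220626 (iv4 D216668) (iv1 D185148) (iv4 F287494) (iv3 D185128) D185126
theorem F504695 : act 1 n203608 = n220626 := d15_0 (iv0 D220626) F469435 F469432
theorem F504696 : act 6 n216668 = n220626 := d10_0 F504693 F470529 D216668
def n220627 : Q := act 1 n194083
theorem D220627 : act 1 n194083 = n220627 := rfl
theorem F504697 : act 4 n220627 = n203004 := d18_7 (iv1 F241664) D204446 F432573 F374016 F367266 (iv4 F392017) D220627 F470545 F470543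
theorem F504698 : act 3 n216647 = n220627 := d20_3 (iv4 F500688) F500690 F500477 (iv1 D220627) (iv3 D194083) (iv4 D102664) D102662 (iv4 F287492) D216653 F485337
theorem F504699 : act 5 n220627 = n202385 := d6_2 D216647 F504698 F423838
theorem F504700 : act 0 n203608 = n220627 := d18_2 (iv1 F489268) F489265 F504697 (iv5 D203004) F184086 D147378 (iv4 F383392) (iv0 F486817) (iv5 F486819)
def n220628 : Q := act 2 n194083
theorem D220628 : act 2 n194083 = n220628 := rfl
theorem F504701 : act 3 n220628 = n204316 := d0_2 D194083 D220628 F481594 (iv3 D215790) F290123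
theorem F504702 : act 4 n220628 = n194099 := d1_2 (iv4 F392017) D220628 (iv2 D194099)
theorem F504703 : act 6 n220628 = n219448 := d3_2 (iv6 F472776) D220628 F498921
theorem F504704 : act 7 n220628 = n203608 := d4_2 (iv7 F469435) D220628 (iv2 F469432)
def n220629 : Q := act 5 n194083
theorem D220629 : act 5 n194083 = n220629 := rfl
theorem F504705 : act 3 n220629 = n194084 := d6_1 D220629 (iv5 D194084) D194083
theorem F504706 : act 6 n220629 = n209879 := d12_2 (iv6 F472776) D220629 (iv5 F472780) (iv6 D213932) D213931
theorem F504707 : act 0 n202097 = n202385 := d21_10 (iv5 F504699) (iv1 D220627) D220629 F504706 (iv1 D209879) (iv6 D137046) (iv5 D64420) D64417 (iv5 F201768) D202097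
theorem F504708 : act 0 n220508 = n220629 := d19_0 (iv5 D220629) F392017 (iv3 D102672) (iv1 F157126) F347711 (iv4 D89758) F64673 D87035 F133593 F63625 F62453 (iv1 D22825) (iv5 D10786) D10785 D22821 D47499 D102371 D193827 D220508
def n220630 : Q := act 6 n194084
theorem D220630 : act 6 n194084 = n220630 := rfl
theorem F504709 : act 3 n220630 = n209879 := d7_1 D220630 (iv6 F504706) F504705
theorem F504710 : act 4 n220630 = n212748 := d10_1 D220630 (iv6 F467347) F422480
def n220631 : Q := act 7 n194085
theorem D220631 : act 7 n194085 = n220631 := rfl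
theorem F504711 : act 3 n220631 = n202045 := d8_1 D220631 (iv7 F472773) (iv3 F472775)
theorem F504712 : act 4 n220631 = n194089 := d11_1 D220631 (iv7 D194089) (iv4 F392018)
theorem F504713 : act 5 n220631 = n202042 := d13_1 D220631 (iv7 F472765) F472777
theorem F504714 : act 6 n220631 = n203612 := d14_1 D220631 (iv7 F469429) (iv6 F469431) F290122 D194085
def n220632 : Q := act 4 n194086
theorem D220632 : act 4 n194086 = n220632 := rfl
theorem F504715 : act 2 n220632 = n216603 := d1_1 D220632 F485147 (iv2 F481601)
theorem F504716 : act 6 n220632 = n204460 := d10_2 F431116 D220632 F432603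
theorem F504717 : act 7 n220632 = n216604 := d11_2 F481604 D220632 (iv4 F485148)
theorem F504718 : act 0 n220632 = n213949 := d17_0 (iv5 D213949) F452212 F481750 (iv4 D215840) (iv5 F473547) (iv0 F482592) F482590 F481611 D220632
theorem F504719 : act 0 n216605 = n220632 := d20_7 F484533 (iv1 F456306) F455077 (iv3 F455018) (iv1 F364074) F364071 (iv4 F485149) (iv4 D220632) (iv3 F482594) (iv1 F484535)
def n220633 : Q := act 3 n194087
theorem D220633 : act 3 n194087 = n220633 := rfl
theorem F504720 : act 2 n220633 = n212867 := d0_1 D220633 F467867 (iv2 F484524) F484526 (iv2 F481606)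
theorem F504721 : act 4 n210401 = n220633 := d20_2 F485270 F457406 (iv3 D220633) (iv1 D194087) F157901 (iv4 F157919) (iv1 F390969) (iv4 D193773) D193772 F485271
theorem F504722 : act 6 n220633 = n203379 := d10_2 (iv6 F457405) F504721 (iv4 F439072)
theorem F504723 : act 0 n220633 = n219353 := d21_4 F186949 (iv1 F186929) D203379 (iv6 F504722) (iv6 D219353) (iv5 D191271) F157377 (iv5 F343276) (iv6 D118903) D118900
def n220634 : Q := act 4 n194087
theorem D220634 : act 4 n194087 = n220634 := rfl
theorem F504724 : act 2 n220634 = n216604 := d1_1 D220634 (iv4 F485148) (iv2 F481606)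
theorem F504725 : act 3 n220634 = n210402 := d5_1 D220634 (iv4 D210402) (iv3 F457404) F504721 (iv3 D220633)
theorem F504726 : act 7 n220634 = n216603 := d11_2 (iv7 F481602) D220634 F485147
theorem F504727 : act 1 n220634 = n213949 := d18_8 F452212 F452210 (iv1 F502985) (iv4 F502991) F472777 F392018 D194087 D220634 (iv5 D213949)
theorem F504728 : act 1 n216605 = n220634 := d15_0 F504727 F472854 D216605
theorem F504729 : act 6 n213063 = n220634 := d21_3 (iv5 D152347) D152344 D213063 (iv1 F504728) F485150 (iv5 F481651) (iv1 D215808) F391147 (iv6 F455132) (iv1 F455134)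
def n220635 : Q := act 6 n194087
theorem D220635 : act 6 n194087 = n220635 := rfl
theorem F504730 : act 3 n220635 = n203379 := d7_1 D220635 (iv6 F504722) (iv3 D220633)
theorem F504731 : act 4 n220635 = n213063 := d10_1 D220635 F504729 (iv4 D220634)
theorem F504732 : act 7 n220635 = n214439 := d14_2 (iv7 F481602) D220635 F475187 F431121 (iv6 F481600)
theorem F504733 : act 0 n220635 = n210552 := d21_4 F277232 D204012 F430820 D220635 (iv6 D210552) (iv5 D139389) (iv1 F180543) (iv5 F221804) D210410 F457427
theorem F504734 : act 5 n220635 = n203378 := d21_6 (iv5 D135201) D135199 D208851 (iv6 F481609) (iv1 F481610) D220635 (iv1 F452639) F452637 (iv6 F453922) (iv1 D208853)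
theorem F504735 : act 0 n208858 = n220635 := d21_4 (iv5 D63530) D63528 D135203 D208858 (iv6 D220635) (iv5 F430820) (iv1 F478643) F478640 F341431 (iv1 D135209)
def n220636 : Q := act 4 n194088
theorem D220636 : act 4 n194088 = n220636 := rfl
theorem F504736 : act 2 n220636 = n215200 := d1_1 D220636 F478853 (iv2 F392019)
theorem F504737 : act 6 n220636 = n194090 := d10_2 (iv6 F392021) D220636 (iv4 D194090)
def n220637 : Q := act 7 n194088
theorem D220637 : act 7 n194088 = n220637 := rfl
theorem F504738 : act 2 n220637 = n216024 := d4_1 D220637 F482591 (iv2 F392019)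
theorem F504739 : act 3 n220637 = n194110 := d8_1 D220637 (iv7 D194110) (iv3 F392020)
theorem F504740 : act 5 n220637 = n194089 := d13_1 D220637 (iv7 D194089) D194088
theorem F504741 : act 6 n220637 = n215990 := d14_1 D220637 F482455 (iv6 F292671) F292672 (iv6 F392021)
theorem F504742 : act 1 n210663 = n220637 := d15_1 (iv0 F458376) (iv7 D220637) F392019
theorem F504743 : act 1 n220637 = n219440 := d15_1 F504742 F498892 F473546
def n220638 : Q := act 5 n194090
theorem D220638 : act 5 n194090 = n220638 := rfl
theorem F504744 : act 2 n220638 = n204430 := d2_1 D220638 F432510 (iv2 F392023)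
theorem F504745 : act 7 n220638 = n204431 := d13_2 (iv7 F392024) D220638 F432511
theorem F504746 : act 4 n220638 = n199388 := d16_2 D194090 D220638 (iv5 D199388) F356367 F340899 F283987 F291475 (iv7 F290030) (iv2 F290031)
theorem F504747 : act 0 n220638 = n208443 := d17_2 F483355 D220638 (iv5 F488123) (iv4 D217252) F368911 (iv0 D102381) (iv5 F133506) (iv0 F335674) D216202
def n220639 : Q := act 1 n194091
theorem D220639 : act 1 n194091 = n220639 := rfl
theorem F504748 : act 7 n220639 = n215592 := d15_2 (iv0 F456654) D220639 F480678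
theorem F504749 : act 3 n204235 = n220639 := d20_3 F480564 (iv1 F386601) D204235 (iv1 D220639) F392026 (iv4 F392032) (iv1 F485300) F390944 (iv3 F385827) (iv1 F480561)
theorem F504750 : act 4 n204237 = n220639 := d20_6 (iv4 F469398) (iv1 F469399) (iv4 F433011) (iv3 D204610) F198433 D204237 (iv1 D220639) (iv4 F469503) F469502 (iv1 F469397)
theorem F504751 : act 5 n220403 = n220639 := d21_0 (iv1 D220639) F392027 (iv6 D186713) D186710 F448816 F448813 (iv1 F411697) D205012 (iv6 F456649) F503610
theorem F504752 : act 2 n220639 = n219356 := d2_1 F504751 F498444 (iv2 F503606)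
def n220640 : Q := act 6 n194092
theorem D220640 : act 6 n194092 = n220640 := rfl
theorem F504753 : act 2 n220640 = n216635 := d3_1 D220640 F485285 F432740
theorem F504754 : act 3 n220640 = n194093 := d7_1 D220640 (iv6 D194093) D194092
theorem F504755 : act 4 n220640 = n210746 := d10_1 D220640 (iv6 F485141) F485139
theorem F504756 : act 7 n220640 = n220474 := d14_2 (iv7 F392029) D220640 F503942 F503963 (iv6 D220478)
theorem F504757 : act 0 n219352 = n220640 := d21_4 (iv5 D184598) (iv1 F289655) D191269 D219352 (iv6 D220640) F392028 F426820 F426821 F473109 (iv1 F473107)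
def n220641 : Q := act 3 n194094
theorem D220641 : act 3 n194094 = n220641 := rfl
theorem F504758 : act 2 n220641 = n208855 := d0_1 D220641 F451126 F217375 F383981 F392041
theorem F504759 : act 5 n220641 = n195152 := d6_2 (iv5 F449396) D220641 F449394
theorem F504760 : act 6 n220641 = n219952 := d7_2 F500330 D220641 F501336
theorem F504761 : act 7 n220641 = n195151 := d8_2 F392042 D220641 F395985
theorem F504762 : act 0 n220641 = n220392 := d19_4 D182215 D216236 (iv4 F483682) D220641 F503558 F492344 (iv3 F466607) F372616 F371352 (iv4 F391624) F391622 F289891 (iv5 D82039) (iv4 F335618) (iv3 D40387) (iv1 D19083) D19084 D40392 D86999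
theorem F504763 : act 0 n194114 = n220641 := d20_4 (iv4 D73136) D73134 D154398 (iv3 F392098) (iv3 D220641) F483682 (iv1 F496694) F496691 F380151 (iv1 D154407)
theorem F504764 : act 4 n220641 = n210836 := d20_8 (iv4 D216634) F358627 (iv4 F484311) F484310 (iv1 F471295) F471166 F457395 F504763 F471318 F485284
def n220642 : Q := act 4 n194097
theorem D220642 : act 4 n194097 = n220642 := rfl
theorem F504765 : act 6 n220642 = n216606 := d10_2 (iv6 F486822) D220642 F485151
theorem F504766 : act 0 n220642 = n213219 := d18_2 D194097 D220642 F469471 F432578 (iv4 F432322) (iv0 F467073) F467070 (iv0 D188592) F367266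
theorem F504767 : act 1 n220642 = n213467 := d18_6 F471057 F471054 F415286 (iv4 F486815) (iv5 F486819) D220642 (iv4 D213467) D213466 (iv5 F470533)
def n220643 : Q := act 3 n194098
theorem D220643 : act 3 n194098 = n220643 := rfl
theorem F504768 : act 5 n220643 = n203017 := d6_2 (iv5 F488215) D220643 (iv3 F488209)
theorem F504769 : act 6 n209538 = n220643 := d12_0 F504768 (iv6 D203017) (iv5 F391545) (iv6 F454017) D209538
theorem F504770 : act 0 n217894 = n220643 := d17_2 D202908 (iv5 F491132) F504768 (iv4 F427039) F427040 F310778 (iv5 D73967) (iv0 F131205) (iv4 F183467)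
theorem F504771 : act 1 n203573 = n220643 := d17_6 F433911 (iv5 D204864) (iv1 F380167) F380173 F357745 D203573 F504768 (iv0 F433927) (iv4 D204867)
def n220644 : Q := act 4 n194098
theorem D220644 : act 4 n194098 = n220644 := rfl
theorem F504772 : act 0 n220644 = n213467 := d18_2 (iv1 F489269) D220644 (iv4 D213467) (iv5 D153803) (iv4 F241656) (iv0 F355102) (iv4 F374129) F492314 F492308
theorem F504773 : act 1 n220644 = n213219 := d18_6 (iv1 F487600) F487596 F482420 (iv4 F488210) (iv5 F488215) D220644 F469471 (iv0 F470530) F470524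
def n220645 : Q := act 6 n194098
theorem D220645 : act 6 n194098 = n220645 := rfl
theorem F504774 : act 3 n220645 = n209538 := d7_1 D220645 F504769 (iv3 D220643)
theorem F504775 : act 5 n220645 = n209536 := d12_1 D220645 F454073 (iv5 F426648) (iv6 F488211) (iv5 F488215)
theorem F504776 : act 0 n220645 = n220535 := d21_10 (iv5 D220535) (iv1 D193859) (iv5 F386212) (iv6 D192252) (iv1 F383398) (iv6 F391051) F391050 (iv1 F488213) (iv5 F488215) D220645
theorem F504777 : act 0 n203405 = n220645 := d21_1 D203405 F504775 F454073 (iv1 F391209) (iv6 D193851) (iv5 D102399) (iv1 D47513) D47515 D102405 F359407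
def n220646 : Q := act 5 n194102
theorem D220646 : act 5 n194102 = n220646 := rfl
theorem F504778 : act 3 n220646 = n194103 := d6_1 D220646 (iv5 D194103) D194102
theorem F504779 : act 0 n219530 = n220646 := d21_7 (iv5 F492308) (iv1 F492314) F411698 F503605 (iv1 D220402) (iv6 F484491) (iv5 F499295) (iv5 D220646) (iv6 F486822) (iv1 F489268)
def n220647 : Q := act 4 n194103
theorem D220647 : act 4 n194103 = n220647 := rfl
theorem F504780 : act 5 n220647 = n215618 := d9_2 D194103 D220647 F480779 F353795 (iv4 F429483) F429485 (iv4 F390227) D194106 (iv4 F483806) F483807 F454658 (iv5 F315040) F353802 D192856 (iv4 F388034)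
theorem F504781 : act 7 n220647 = n215617 := d11_2 (iv7 F488356) D220647 (iv4 F488353)
theorem F504782 : act 0 n220647 = n217146 := d17_0 F487657 F482091 F478588 (iv4 F462510) (iv5 F485524) (iv0 F485529) F421392 (iv0 F421393) D220647
def n220648 : Q := act 6 n194103
theorem D220648 : act 6 n194103 = n220648 := rfl
theorem F504783 : act 2 n220648 = n217278 := d3_1 D220648 (iv6 F498552) F498550
theorem F504784 : act 5 n220648 = n216975 := d12_1 D220648 (iv6 D216975) (iv5 F392062) (iv6 D194104) D194103
theorem F504785 : act 7 n220648 = n220594 := d14_2 (iv7 F488356) D220648 F504514 (iv7 F391541) D217305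
theorem F504786 : act 0 n220648 = n220596 := d21_4 (iv5 D102676) D102674 D194103 D220648 F504524 F488336 (iv1 F457919) (iv5 F498671) (iv6 F498673) (iv1 D194109)
theorem F504787 : act 0 n220558 = n220648 := d21_4 (iv5 F372599) F450897 (iv5 F491372) (iv6 F504353) (iv6 D220648) (iv5 D194103) (iv1 F382992) (iv5 F383516) F383517 (iv1 F372657)
def n220649 : Q := act 3 n194108
theorem D220649 : act 3 n194108 = n220649 := rfl
theorem F504788 : act 5 n220649 = n213109 := d6_2 F481718 D220649 F481721
theorem F504789 : act 7 n220649 = n219434 := d8_2 F479489 D220649 (iv3 D219434)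
theorem F504790 : act 6 n213112 = n220649 := d12_0 F504788 (iv6 D213109) (iv5 D152535) D152536 D213112
theorem F504791 : act 0 n216239 = n220649 := d17_2 (iv1 F500608) F500572 F504788 F469057 D213242 (iv0 F485157) (iv5 D216608) D216607 (iv4 F485939)
def n220650 : Q := act 6 n194108
theorem D220650 : act 6 n194108 = n220650 := rfl
theorem F504792 : act 2 n220650 = n217869 := d3_1 D220650 F491015 (iv2 F479486)
theorem F504793 : act 3 n220650 = n213112 := d7_1 D220650 F504790 (iv3 D220649)
theorem F504794 : act 5 n220650 = n213106 := d12_1 D220650 (iv6 D213106) D213105 (iv6 F481720) F481718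
theorem F504795 : act 7 n220650 = n217867 := d14_2 F479489 D220650 (iv6 F498666) (iv7 F498868) F498865
theorem F504796 : act 0 n220650 = n219435 := d21_4 F383496 D215829 F481718 D220650 (iv6 D219435) (iv5 F391342) F426475 D217278 (iv6 F498552) F498554
theorem F504797 : act 0 n220027 = n220650 := d21_4 (iv5 D186727) D186725 D217068 (iv6 F501724) (iv6 D220650) (iv5 F481718) F481722 (iv5 F500769) F500770 (iv1 D217070)
def n220651 : Q := act 7 n194114
theorem D220651 : act 7 n194114 = n220651 := rfl
theorem F504798 : act 2 n220651 = n220392 := d4_1 D220651 F503560 F471264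
theorem F504799 : act 3 n220651 = n213481 := d8_1 D220651 F470600 (iv3 F392098)
theorem F504800 : act 5 n220651 = n217038 := d13_1 D220651 (iv7 D217038) (iv5 F392099)
theorem F504801 : act 6 n220651 = n216746 := d14_1 D220651 (iv7 D216746) (iv6 D185383) (iv7 F157957) D194114
theorem F504802 : act 1 n195151 = n220651 := d15_1 (iv0 F471269) (iv7 D220651) (iv2 F471264)
theorem F504803 : act 1 n220651 = n208855 := d15_1 F504802 F451127 F449622
def n220652 : Q := act 6 n194115
theorem D220652 : act 6 n194115 = n220652 := rfl
theorem F504804 : act 3 n220652 = n213199 := d7_1 D220652 (iv6 F469416) F392102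
theorem F504805 : act 4 n220652 = n213126 := d10_1 D220652 (iv6 F469115) (iv4 F392101)
theorem F504806 : act 5 n220652 = n219986 := d12_1 D220652 (iv6 D219986) (iv5 D192582) D192583 (iv5 F392100)
theorem F504807 : act 0 n220006 = n220652 := d17_2 F501594 D220006 F504806 F501522 (iv5 F471531) (iv0 F471532) (iv5 D192616) D192615 D220001
def n220653 : Q := act 6 n194116
theorem D220653 : act 6 n194116 = n220653 := rfl
theorem F504808 : act 2 n220653 = n210426 := d3_1 D220653 (iv6 F498540) F498543
theorem F504809 : act 3 n220653 = n209842 := d7_1 D220653 (iv6 F455115) (iv3 F467370)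
theorem F504810 : act 4 n220653 = n209799 := d10_1 D220653 F481667 F481663
theorem F504811 : act 5 n220653 = n203264 := d12_1 D220653 (iv6 F467148) (iv5 D212700) D212701 (iv5 F467371)
theorem F504812 : act 0 n220653 = n210836 := d21_4 D219975 F501467 (iv5 F467371) D220653 (iv6 F498423) (iv5 D219351) (iv1 F382836) D209813 (iv6 F487066) F487069
theorem F504813 : act 1 n220653 = n210837 := d15_1 (iv0 F504812) F500097 F500092
theorem F504814 : act 7 n220653 = n210423 := d15_2 (iv0 F471363) (iv0 F504812) F471362
def n220654 : Q := act 0 n194117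
theorem D220654 : act 0 n194117 = n220654 := rfl
theorem F504815 : act 5 n220654 = n213046 := d19_1 D220654 F468760 (iv3 D203358) (iv1 F372778) (iv5 F439945) (iv4 D206255) F352726 (iv1 F310898) D213600 F471239 (iv3 F449992) F449995 F345428 F172863 (iv3 F222640) F387696 (iv5 F392115) (iv4 F480530) F480529
theorem F504816 : act 3 n213047 = n220654 := d6_3 F504815 (iv3 D213046) D213047
theorem F504817 : act 7 n213126 = n220654 := d13_0 F504815 F468762 D213126
def n220655 : Q := act 7 n194117
theorem D220655 : act 7 n194117 = n220655 := rfl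
theorem F504818 : act 3 n220655 = n220182 := d8_1 D220655 F502518 F480529
theorem F504819 : act 4 n220655 = n194120 := d11_1 D220655 (iv7 D194120) (iv4 F392103)
theorem F504820 : act 5 n220655 = n210831 := d13_1 D220655 (iv7 F469307) F469312
theorem F504821 : act 1 n213126 = n220655 := d15_1 (iv0 F501456) (iv7 D220655) (iv2 F501453)
def n220656 : Q := act 6 n194118
theorem D220656 : act 6 n194118 = n220656 := rfl
theorem F504822 : act 2 n220656 = n210394 := d3_1 D220656 (iv6 F457380) F392109
theorem F504823 : act 3 n220656 = n213614 := d7_1 D220656 (iv6 F503682) F503680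
theorem F504824 : act 4 n220656 = n220651 := d10_1 D220656 F504801 F485750
theorem F504825 : act 5 n220656 = n202652 := d12_1 D220656 (iv6 D202652) D202651 (iv6 F499484) F499483
theorem F504826 : act 7 n220656 = n210396 := d14_2 F481662 D220656 F457394 F392093 D215810
theorem F504827 : act 1 n210554 = n220656 := d15_1 (iv0 F458018) F504826 F457393
theorem F504828 : act 0 n210673 = n220656 := d17_2 D139491 D210673 F504825 F424942 F361403 (iv0 D105435) D105437 F333262 F320790
def n220657 : Q := act 6 n194122
theorem D220657 : act 6 n194122 = n220657 := rfl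
theorem F504829 : act 3 n220657 = n215793 := d7_1 D220657 F481600 F432607
theorem F504830 : act 4 n220657 = n215812 := d10_1 D220657 (iv6 D215812) (iv4 F392112)
theorem F504831 : act 7 n220657 = n220633 := d14_2 F430346 D220657 F504722 F428105 F430348
theorem F504832 : act 0 n216422 = n220657 := d21_4 (iv5 D183949) (iv1 F289776) D183756 D216422 (iv6 D220657) (iv5 F457399) (iv1 F468313) F468315 (iv6 F484367) F484370
def n220658 : Q := act 6 n194123
theorem D220658 : act 6 n194123 = n220658 := rfl
theorem F504833 : act 2 n220658 = n194124 := d3_1 D220658 (iv6 D194124) D194123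
theorem F504834 : act 3 n220658 = n201560 := d7_1 D220658 (iv6 F489266) F489264
theorem F504835 : act 4 n220658 = n213601 := d10_1 D220658 (iv6 D213601) (iv4 F392113)
theorem F504836 : act 5 n220658 = n201559 := d12_1 D220658 (iv6 F475584) F475583 (iv6 F430320) F430319
theorem F504837 : act 7 n220658 = n215760 := d14_2 F430314 D220658 (iv6 D215760) F364119 (iv6 F430313)
theorem F504838 : act 0 n220658 = n215823 := d21_4 (iv5 D203906) (iv1 F430322) F430319 D220658 F481697 F392013 F369027 (iv5 F484369) F484367 (iv1 F430333)
def n220659 : Q := act 7 n194124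
theorem D220659 : act 7 n194124 = n220659 := rfl
theorem F504839 : act 2 n220659 = n215760 := d4_1 D220659 (iv7 F504837) F504833
theorem F504840 : act 3 n220659 = n194126 := d8_1 D220659 (iv7 D194126) (iv3 F392114)
theorem F504841 : act 4 n220659 = n220182 := d11_1 D220659 F502518 F480530
theorem F504842 : act 5 n220659 = n204628 := d13_1 D220659 F433060 (iv5 F392115)
theorem F504843 : act 6 n220659 = n204245 := d14_1 D220659 (iv7 D204245) F197511 (iv7 F348248) D194124
theorem F504844 : act 0 n215823 = n220659 := d21_4 (iv5 F484277) F484278 (iv5 F392013) (iv6 F481697) F504843 F431650 F317084 D149044 (iv6 F285804) F386198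
def n220660 : Q := act 0 n194125
theorem D220660 : act 0 n194125 = n220660 := rfl
theorem F504845 : act 3 n220660 = n211201 := d20_5 (iv4 D184119) (iv1 F154736) D192764 (iv3 F392116) D220660 (iv4 F499478) (iv1 D219566) (iv4 F469311) (iv3 F469308) (iv1 F387702)
theorem F504846 : act 7 n211195 = n220660 := d8_0 F504845 (iv7 D211201) (iv3 F460566)
theorem F504847 : act 0 n220660 = n201554 := d20_4 F485962 (iv1 F499476) F499478 (iv3 F504845) (iv3 D201554) (iv4 D114806) (iv1 F83701) D72090 D152773 D213169
def n220661 : Q := act 1 n194125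
theorem D220661 : act 1 n194125 = n220661 := rfl
theorem F504848 : act 1 n220661 = n201554 := d15_1 D220661 (iv7 F469008) F469007
theorem F504849 : act 3 n217891 = n220661 := d19_19 (iv1 D220661) (iv5 D194125) F157965 (iv3 F157959) D194118 (iv5 F499483) F499482 F489559 (iv1 F489557) D218048 F491884 F471460 F469121 (iv5 D213127) F239762 F205646 (iv1 F420141) F420143 (iv4 F491116)
theorem F504850 : act 6 n211194 = n220661 := d21_3 (iv5 D210675) (iv1 F424442) (iv5 F460562) (iv1 D220661) F419468 F419467 (iv1 F419422) (iv5 F458473) (iv6 D210696) (iv1 F458422)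
theorem F504851 : act 2 n220661 = n211195 := d3_1 F504850 (iv6 D211195) D211194
def n220662 : Q := act 7 n194125
theorem D220662 : act 7 n194125 = n220662 := rfl
theorem F504852 : act 2 n220662 = n201554 := d4_1 D220662 (iv7 F469008) F469007
theorem F504853 : act 3 n220662 = n204628 := d8_1 D220662 F433060 (iv3 F392116)
theorem F504854 : act 4 n220662 = n218001 := d11_1 D220662 (iv7 F501569) F501567
theorem F504855 : act 5 n220662 = n194126 := d13_1 D220662 (iv7 D194126) D194125
theorem F504856 : act 6 n220662 = n204626 := d14_1 D220662 F433050 F241965 D201214 (iv6 F419468)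
theorem F504857 : act 1 n211195 = n220662 := d15_1 (iv0 F484681) (iv7 D220662) (iv2 F469007)
def n220663 : Q := act 4 n194127
theorem D220663 : act 4 n194127 = n220663 := rfl
theorem F504858 : act 2 n220663 = n216784 := d1_1 D220663 (iv4 D216784) (iv2 F392120)
theorem F504859 : act 3 n220663 = n215819 := d5_1 D220663 F481694 (iv3 F392125) (iv4 D194128) D194127
theorem F504860 : act 7 n220663 = n216786 := d11_2 (iv7 F392119) D220663 (iv4 D216786)
theorem F504861 : act 0 n213957 = n220663 := d20_7 (iv4 F489278) (iv1 F489281) (iv4 D193792) D193791 F391014 (iv3 F484326) F484327 (iv4 D220663) (iv3 D194127) (iv1 F370455)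
theorem F504862 : act 6 n220663 = n220516 := d21_5 (iv5 D74264) D74262 D156121 D213957 F504861 (iv5 F504143) (iv1 F485386) (iv5 F472898) (iv6 D213960) (iv1 D156125)
def n220664 : Q := act 6 n194127
theorem D220664 : act 6 n194127 = n220664 := rfl
theorem F504863 : act 2 n220664 = n216785 := d3_1 D220664 (iv6 D216785) (iv2 F392120)
theorem F504864 : act 3 n220664 = n194129 := d7_1 D220664 (iv6 D194129) D194127
theorem F504865 : act 4 n220664 = n220516 := d10_1 D220664 (iv6 F504862) (iv4 D220663)
theorem F504866 : act 7 n220664 = n219859 := d14_2 (iv7 F392119) D220664 F500924 F485915 (iv6 D216787)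
theorem F504867 : act 5 n220664 = n219860 := d21_6 F340587 (iv1 F134633) D88355 D185475 (iv1 F485851) D220664 (iv1 F500928) F386697 (iv6 F378219) F378222
theorem F504868 : act 1 n216785 = n213638 := d15_0 (iv0 F500925) (iv7 F504866) F504863
theorem F504869 : act 0 n220664 = n213609 := d20_4 (iv4 D188234) D188232 (iv4 F392130) (iv3 F504864) (iv3 D213609) (iv4 F242547) (iv1 F353743) F242548 (iv3 F242541) F372773
def n220665 : Q := act 5 n194131
theorem D220665 : act 5 n194131 = n220665 := rfl
theorem F504870 : act 2 n220665 = n219682 := d2_1 D220665 F500026 (iv2 F392133)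
theorem F504871 : act 3 n220665 = n217560 := d6_1 D220665 (iv5 F502656) F502655
theorem F504872 : act 4 n220665 = n218993 := d9_1 D220665 F496577 F483821 (iv5 F491306) F491305 F384549 D194128 F392126 (iv4 F500009) F500010 F488036 (iv5 F375648) F375647 F367516 D194131
theorem F504873 : act 6 n220665 = n217096 := d12_2 (iv6 F392134) D220665 F487391 (iv6 F489889) F489888
theorem F504874 : act 7 n220665 = n217662 := d13_2 (iv7 F392135) D220665 F489991
theorem F504875 : act 0 n220665 = n219681 := d17_2 (iv1 F392137) D220665 (iv5 F503899) F503898 (iv5 D217602) (iv0 F371062) F372785 F372783 (iv4 F391009)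
theorem F504876 : act 1 n220665 = n219680 := d17_6 (iv1 F489298) (iv5 F489299) (iv1 D217006) F367516 D194131 D220665 (iv5 F503912) F503915 (iv4 F457980)
def n220666 : Q := act 4 n194142
theorem D220666 : act 4 n194142 = n220666 := rfl
theorem F504877 : act 2 n220666 = n218751 := d1_1 D220666 F495489 F448016
theorem F504878 : act 3 n220666 = n198201 := d5_1 D220666 F407211 F373187 F377180 D194142
theorem F504879 : act 5 n220666 = n198200 := d9_2 F448318 D220666 F407207 (iv5 F416882) F416883 (iv5 F441745) (iv4 F468333) F468332 F430422 (iv5 F414268) F414272 (iv5 F416870) F416869 (iv5 F489195) F489194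
theorem F504880 : act 6 n220666 = n215014 := d10_2 F416094 D220666 F477893
theorem F504881 : act 7 n220666 = n215032 := d11_2 F467546 D220666 F477988
theorem F504882 : act 0 n220666 = n211542 := d17_0 F462047 (iv1 D190595) (iv5 D96228) (iv4 F107025) F107026 D106672 (iv5 F376344) (iv0 F392183) D220666
theorem F504883 : act 1 n220666 = n218752 := d18_6 F397788 (iv4 F402817) F489197 F489194 F448318 D220666 F495494 (iv0 D195664) D195665
def n220667 : Q := act 0 n194149
theorem D220667 : act 0 n194149 = n220667 := rfl
theorem F504884 : act 4 n220667 = n198534 := d18_3 D102783 D194149 D220667 (iv5 F408250) D219004 (iv0 F496635) (iv4 F382555) F382066 F129391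
theorem F504885 : act 3 n220667 = n214785 := d20_5 (iv4 F280708) F477225 (iv4 F490780) F490778 D220667 (iv4 D214785) F302616 (iv4 F258437) F301269 (iv1 F280712)
theorem F504886 : act 2 n216077 = n220667 := d15_3 (iv0 D220667) F474367 (iv7 F482813)
theorem F504887 : act 1 n194154 = n220667 := d15_0 (iv0 D220667) (iv7 F477648) F477646
theorem F504888 : act 7 n220667 = n214952 := d15_2 (iv0 F474366) F504887 F477604
theorem F504889 : act 6 n220667 = n198533 := d3_2 (iv6 F482812) F504886 (iv2 F413762)
def n220668 : Q := act 5 n194154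
theorem D220668 : act 5 n194154 = n220668 := rfl
theorem F504890 : act 3 n220668 = n194667 := d6_1 D220668 (iv5 F395379) F392199
theorem F504891 : act 0 n220668 = n201346 := d17_2 (iv1 F504887) D220668 (iv5 F482893) F482892 (iv5 F482204) (iv0 F482205) (iv5 F481139) F413833 (iv4 F504884)
theorem F504892 : act 0 n216516 = n220668 := d19_0 (iv5 D220668) (iv4 D194154) D194153 F417179 (iv5 F498303) F498304 (iv3 F468348) (iv1 D212965) (iv5 F335487) (iv4 F216891) F216890 F326257 (iv5 F294609) (iv4 D93757) (iv3 F294603) F294602 F294103 D216333 (iv3 F484767)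
def n220669 : Q := act 4 n194158
theorem D220669 : act 4 n194158 = n220669 := rfl
theorem F504893 : act 2 n220669 = n194919 := d1_1 D220669 F395006 F392208
theorem F504894 : act 3 n220669 = n204665 := d5_1 D220669 (iv4 F433878) F395577 (iv4 F394557) F394556
theorem F504895 : act 7 n220669 = n215779 := d11_2 (iv7 F392207) D220669 F481540
theorem F504896 : act 0 n220669 = n215889 := d17_0 F481945 F466462 F466399 (iv4 D194888) (iv5 F369660) (iv0 F392212) (iv5 D194159) D194158 D220669
theorem F504897 : act 1 n220669 = n218697 := d18_6 F414159 (iv4 F495946) (iv1 F495950) F379131 F392209 D220669 F495211 (iv0 F413760) D199920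
def n220670 : Q := act 6 n194163
theorem D220670 : act 6 n194163 = n220670 := rfl
theorem F504898 : act 2 n220670 = n194168 := d3_1 D220670 (iv6 D194168) (iv2 F392230)
theorem F504899 : act 3 n220670 = n215967 := d7_1 D220670 (iv6 F495475) F495474
theorem F504900 : act 4 n220670 = n194164 := d10_1 D220670 (iv6 D194164) D194163
theorem F504901 : act 5 n220670 = n215692 := d12_1 D220670 (iv6 D215692) (iv5 F476340) (iv6 F499764) F499765
theorem F504902 : act 0 n202703 = n220670 := d21_4 F227353 (iv1 D116455) D116457 D202703 (iv6 D220670) (iv5 F499765) F499766 (iv5 D211975) (iv6 D144549) (iv1 F227351)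
theorem F504903 : act 1 n211481 = n220670 := d15_0 (iv0 F504902) (iv7 F425193) (iv2 F461740)
theorem F504904 : act 7 n211480 = n220670 := d13_0 F504901 (iv7 F496556) F496557
def n220671 : Q := act 7 n194168
theorem D220671 : act 7 n194168 = n220671 := rfl
theorem F504905 : act 2 n220671 = n211480 := d4_1 D220671 F504904 F504898
theorem F504906 : act 3 n220671 = n200337 := d8_1 D220671 (iv7 F481040) F481038
theorem F504907 : act 4 n220671 = n194171 := d11_1 D220671 (iv7 D194171) (iv4 F392236)
theorem F504908 : act 6 n220671 = n219337 := d14_1 D220671 (iv7 F498349) (iv6 D216875) F288665 D194168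
theorem F504909 : act 1 n202703 = n220671 := d15_1 (iv0 F504902) (iv7 D220671) (iv2 F504898)
theorem F504910 : act 1 n220671 = n211481 := d15_1 F504909 (iv7 D211481) (iv2 F425189)
def n220672 : Q := act 1 n194174
theorem D220672 : act 1 n194174 = n220672 := rfl
theorem F504911 : act 1 n220672 = n208112 := d15_1 D220672 F447927 (iv2 F392252)
theorem F504912 : act 7 n220672 = n208110 := d15_2 (iv0 F400392) D220672 F447914
theorem F504913 : act 5 n220672 = n216947 := d17_7 (iv1 F490316) F490314 F457206 F457205 F377630 (iv5 F392253) D220672 F486662 D216952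
theorem F504914 : act 4 n220672 = n218626 := d17_9 (iv1 F494848) F481045 F411393 (iv5 D176927) F291635 D94418 D189755 (iv5 F392253) D220672
theorem F504915 : act 3 n200444 = n220672 := d19_19 (iv1 D220672) F392253 (iv4 F377630) F377631 F332984 (iv5 D50088) F38303 (iv3 D24131) D24129 D49434 (iv4 F78164) (iv3 F164949) D196464 F409341 D199086 F410601 F403799 (iv5 F415846) F416452
theorem F504916 : act 6 n208983 = n220672 := d21_3 F291523 D188751 (iv5 F451697) (iv1 D220672) (iv6 D194174) D194173 F468857 F468854 (iv6 F399050) F364449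
theorem F504917 : act 2 n220672 = n208113 := d3_1 F504916 F447929 (iv2 F451696)
def n220673 : Q := act 5 n194180
theorem D220673 : act 5 n194180 = n220673 := rfl
theorem F504918 : act 2 n220673 = n194184 := d2_1 D220673 (iv5 D194184) (iv2 F392276)
theorem F504919 : act 3 n220673 = n208123 := d6_1 D220673 F447981 (iv3 F402835)
theorem F504920 : act 4 n220673 = n216404 := d9_1 D220673 (iv5 D216404) (iv4 D183494) F293619 F70076 (iv5 F292544) D94336 D189686 F403347 D197165 F403352 (iv5 F367626) F148532 D102901 D194180
theorem F504921 : act 6 n220673 = n195963 := d12_2 (iv6 F494092) D220673 (iv5 F398875) (iv6 F468238) (iv5 F494089)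
theorem F504922 : act 7 n220673 = n212974 := d13_2 (iv7 F392277) D220673 F468403
theorem F504923 : act 0 n220673 = n208191 := d17_2 (iv1 F392279) D220673 (iv5 D208191) F376742 F366992 F374494 (iv5 F376704) (iv0 D189495) D189497
theorem F504924 : act 1 n220673 = n212953 := d17_6 F369308 (iv5 D187166) (iv1 F137477) D102901 D194180 D220673 F468296 F369352 (iv4 D187174)
def n220674 : Q := act 4 n194189
theorem D220674 : act 4 n194189 = n220674 := rfl
theorem F504925 : act 2 n220674 = n199795 := d1_1 D220674 F416302 (iv2 F392306)
theorem F504926 : act 7 n220674 = n199701 := d11_2 (iv7 F392307) D220674 F413169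
theorem F504927 : act 5 n220674 = n218304 := d16_1 D220674 F493208 (iv5 F391920) (iv4 F391919) F385119 (iv4 F385126) D194191 F392315 (iv2 F392306)
theorem F504928 : act 0 n220674 = n199486 := d17_0 F412343 F394081 (iv5 F432920) (iv4 F432917) (iv5 F377227) F377225 (iv5 F375034) (iv0 F392308) D220674
theorem F504929 : act 1 n220674 = n199796 := d18_6 (iv1 D88719) (iv4 F129384) D176865 (iv4 F385130) D194189 D220674 F413537 (iv0 F387438) (iv5 D186260)
def n220675 : Q := act 6 n194189
theorem D220675 : act 6 n194189 = n220675 := rfl
theorem F504930 : act 2 n220675 = n218240 := d3_1 D220675 (iv6 D218240) (iv2 F392306)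
theorem F504931 : act 3 n220675 = n216353 := d7_1 D220675 (iv6 F485056) F485060
theorem F504932 : act 5 n220675 = n214490 := d12_1 D220675 (iv6 F475423) (iv5 F392312) (iv6 D194190) D194189
theorem F504933 : act 7 n220675 = n218172 := d14_2 (iv7 F392307) D220675 (iv6 D218172) F392323 F375032
theorem F504934 : act 0 n220675 = n217708 := d21_4 F293200 D102911 D194189 D220675 F490236 F374344 D215260 F479091 (iv6 D188866) (iv1 D92859)
theorem F504935 : act 0 n208165 = n220675 := d21_4 (iv5 D159505) F206232 D201615 (iv6 F448196) (iv6 D220675) (iv5 D194189) (iv1 F352919) (iv5 F374276) F374277 (iv1 F251201)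
def n220676 : Q := act 4 n194191
theorem D220676 : act 4 n194191 = n220676 := rfl
theorem F504936 : act 2 n220676 = n199701 := d1_1 D220676 F413169 (iv2 F392314)
theorem F504937 : act 5 n220676 = n218305 := d9_2 D194191 D220676 (iv4 F504421) (iv5 D220572) (iv4 F453847) F453846 (iv4 F385130) D194189 D220674 F504927 F493208 (iv5 F391920) (iv4 F391919) F385119 (iv4 F385126)
theorem F504938 : act 6 n220676 = n199435 := d10_2 (iv6 F392318) D220676 (iv4 F412183)
theorem F504939 : act 7 n220676 = n199795 := d11_2 (iv7 F392315) D220676 F416302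
theorem F504940 : act 0 n220676 = n199796 := d17_0 (iv5 F413538) (iv1 F482846) (iv5 F485050) F485049 (iv5 F377217) (iv0 D189637) (iv5 F371569) (iv0 F392316) D220676
theorem F504941 : act 1 n220676 = n199486 := d18_6 (iv1 F288672) (iv4 F377556) (iv1 F377560) (iv4 F385126) D194191 D220676 (iv4 F486444) (iv0 D216895) (iv5 D186255)
def n220677 : Q := act 5 n194192
theorem D220677 : act 5 n194192 = n220677 := rfl
theorem F504942 : act 2 n220677 = n217331 := d2_1 D220677 F488471 (iv2 F392324)
theorem F504943 : act 3 n220677 = n208050 := d6_1 D220677 F447638 (iv3 F447617)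
theorem F504944 : act 4 n220677 = n218340 := d9_1 D220677 (iv5 D218340) (iv4 D189085) F347752 (iv4 F370090) (iv5 F380937) (iv4 F398920) (iv5 F452392) F452391 F384176 (iv4 D189083) (iv5 F357537) D187591 (iv5 F481090) F481089
theorem F504945 : act 6 n220677 = n218171 := d12_2 D194192 D220677 (iv5 D218171) (iv6 F392318) (iv5 D194191)
theorem F504946 : act 7 n220677 = n208908 := d13_2 F392327 D220677 F451359
theorem F504947 : act 0 n220677 = n215714 := d17_2 F392326 D220677 (iv5 D215714) (iv4 F372695) (iv5 D188213) F293827 D96130 (iv0 F294514) (iv4 F360836)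
theorem F504948 : act 1 n220677 = n212008 := d17_6 D84337 D176940 (iv1 F370934) (iv5 F481090) F481089 D220677 F463907 (iv0 D176933) F129398
def n220678 : Q := act 1 n194200
theorem D220678 : act 1 n194200 = n220678 := rfl
theorem F504949 : act 1 n220678 = n194210 := d15_1 D220678 (iv7 D194210) (iv2 F392359)
theorem F504950 : act 7 n220678 = n194207 := d15_2 F428291 D220678 (iv2 F428286)
theorem F504951 : act 4 n220678 = n196193 := d17_9 (iv1 F399816) (iv5 D188557) F342091 D212015 F463946 (iv5 D200557) D200555 F436262 D220678
theorem F504952 : act 2 n194208 = n220678 := d1_3 F504951 F399813 (iv4 F392379)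
def n220679 : Q := act 7 n194200
theorem D220679 : act 7 n194200 = n220679 := rfl
theorem F504953 : act 2 n220679 = n194210 := d4_1 D220679 (iv7 D194210) (iv2 F392359)
theorem F504954 : act 3 n220679 = n209903 := d8_1 D220679 (iv7 F456078) F456077
theorem F504955 : act 4 n220679 = n194202 := d11_1 D220679 (iv7 D194202) (iv4 F392360)
theorem F504956 : act 6 n220679 = n218424 := d14_1 D220679 F493814 (iv6 D189360) (iv7 F367153) D194200
theorem F504957 : act 1 n194208 = n220679 := d15_1 D194208 (iv7 D220679) F392359
theorem F504958 : act 1 n220679 = n194207 := d15_1 F504957 (iv7 F504950) (iv2 F504952)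
def n220680 : Q := act 3 n194203
theorem D220680 : act 3 n194203 = n220680 := rfl
theorem F504959 : act 4 n220680 = n200397 := d5_2 F498384 D220680 (iv3 F495300) F496628 F498386
theorem F504960 : act 5 n220680 = n218500 := d6_2 (iv5 F413685) D220680 F494179
theorem F504961 : act 0 n220680 = n218487 := d19_4 F495193 (iv5 F498385) F498384 D220680 F494133 F399007 F399008 (iv1 F395351) F376733 F361221 F287968 D185665 (iv5 F476673) (iv4 D214757) (iv3 F381874) F429432 F429431 F370039 D214355
theorem F504962 : act 0 n218558 = n220680 := d20_4 (iv4 F376511) F380117 D218710 F495268 (iv3 D220680) (iv4 F498384) (iv1 D219344) (iv4 F494198) (iv3 D218503) (iv1 D189393)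
theorem F504963 : act 6 n200396 = n220680 := d21_3 (iv5 F494060) F493768 (iv5 F416289) F504961 (iv6 D218487) F376467 D215300 F479277 F481109 F494059
def n220681 : Q := act 6 n194203
theorem D220681 : act 6 n194203 = n220681 := rfl
theorem F504964 : act 3 n220681 = n200396 := d7_1 D220681 F504963 (iv3 D220680)
theorem F504965 : act 4 n220681 = n217184 := d10_1 D220681 F498387 F498384
theorem F504966 : act 5 n220681 = n218532 := d12_1 D220681 F494327 (iv5 F494177) F494178 (iv5 F413685)
theorem F504967 : act 7 n220681 = n218531 := d14_2 (iv7 F479282) D220681 F494360 F494358 F494067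
theorem F504968 : act 0 n220681 = n218468 := d21_4 D93979 D189472 (iv5 F413685) D220681 F494040 F447696 F493905 F493904 (iv6 D189468) (iv1 D93977)
theorem F504969 : act 0 n218499 = n220681 := d21_4 F392357 D194203 F413685 (iv6 F494178) (iv6 D220681) F413685 (iv1 F376644) (iv5 F376627) D218535 (iv1 F494344)
def n220682 : Q := act 6 n194205
theorem D220682 : act 6 n194205 = n220682 := rfl
theorem F504970 : act 2 n220682 = n194206 := d3_1 D220682 (iv6 D194206) D194205
theorem F504971 : act 3 n220682 = n209907 := d7_1 D220682 (iv6 F494390) F494386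
theorem F504972 : act 4 n220682 = n194223 := d10_1 D220682 (iv6 D194223) (iv4 F392374)
theorem F504973 : act 0 n220682 = n209912 := d21_4 D189462 D218543 F494384 D220682 F455338 F376425 (iv1 F376376) (iv5 F376409) F144718 D93976
theorem F504974 : act 0 n209914 = n220682 := d21_4 F494277 (iv1 F493805) D218516 (iv6 F494248) (iv6 D220682) (iv5 F494384) (iv1 F494388) (iv5 D189467) D189468 (iv1 F494281)
def n220683 : Q := act 5 n194206
theorem D220683 : act 5 n194206 = n220683 := rfl
theorem F504975 : act 3 n220683 = n194209 := d6_1 D220683 (iv5 D194209) (iv3 F392375)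
def n220684 : Q := act 7 n194206
theorem D220684 : act 7 n194206 = n220684 := rfl
theorem F504976 : act 3 n220684 = n194210 := d8_1 D220684 (iv7 D194210) (iv3 F392375)
theorem F504977 : act 4 n220684 = n194225 := d11_1 D220684 (iv7 D194225) (iv4 F392376)
theorem F504978 : act 6 n220684 = n218555 := d14_1 D220684 F494457 (iv6 D215302) F270258 D194206
theorem F504979 : act 1 n209914 = n220684 := d15_1 (iv0 F504974) (iv7 D220684) (iv2 F504970)
theorem F504980 : act 1 n220684 = n209912 := d15_1 F504979 (iv7 F504648) F504647
def n220685 : Q := act 3 n194207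
theorem D220685 : act 3 n194207 = n220685 := rfl
theorem F504981 : act 4 n220685 = n196039 := d5_2 (iv4 F392377) D220685 F399152 F163846 (iv3 F164525)
theorem F504982 : act 6 n220685 = n196038 := d7_2 F392378 D220685 F399150
theorem F504983 : act 0 n220685 = n218579 := d20_4 F376811 F164526 (iv4 F392377) D220685 F494581 F494481 (iv1 F466680) (iv4 F494237) F494560 (iv1 D218574)
def n220686 : Q := act 5 n194207
theorem D220686 : act 5 n194207 = n220686 := rfl
theorem F504984 : act 2 n220686 = n205213 := d2_1 D220686 F435465 F428286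
theorem F504985 : act 4 n220686 = n200539 := d9_1 D220686 F416929 F202057 (iv5 F171210) (iv4 F313051) F376816 (iv4 F392379) (iv5 F435869) (iv4 D205303) F202226 (iv4 D112574) F105446 (iv4 F313050) F187318 (iv4 F392377)
def n220687 : Q := act 4 n194209
theorem D220687 : act 4 n194209 = n220687 := rfl
theorem F504986 : act 2 n220687 = n205402 := d1_1 D220687 F436261 (iv2 F436263)
theorem F504987 : act 6 n220687 = n205402 := d10_2 (iv6 F436264) D220687 F436261
theorem F504988 : act 5 n220687 = n200066 := d16_3 (iv4 F158256) D194209 D220687 (iv4 D200066) F226692 (iv4 F225735) (iv5 F392369) (iv7 D194202) F158251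
theorem F504989 : act 3 n220687 = n205404 := d19_3 (iv1 D194208) D194209 D220687 F436271 (iv5 D205343) F219306 (iv3 F349588) F406755 (iv5 F425813) (iv4 F460309) F460308 (iv1 D205037) F201279 (iv4 F231748) (iv3 F334758) (iv1 D119061) D119062 D203435 F428287
theorem F504990 : act 1 n209956 = n220687 := d17_6 F334764 (iv5 D173649) D173647 (iv5 F342092) (iv4 F413270) (iv5 F455521) F504988 (iv0 F416831) F416830
def n220688 : Q := act 3 n194211
theorem D220688 : act 3 n194211 = n220688 := rfl
theorem F504991 : act 4 n220688 = n203434 := d5_2 D194211 D220688 F428283 (iv4 D151446) (iv3 F293756)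
theorem F504992 : act 6 n220688 = n212921 := d7_2 (iv6 F392383) D220688 (iv3 D212921)
theorem F504993 : act 7 n220688 = n218513 := d8_2 F494557 D220688 F494560
theorem F504994 : act 0 n220688 = n218496 := d20_4 F158256 D102978 D194211 D220688 F494163 F376481 F373947 D203435 F428287 (iv1 D194208)
theorem F504995 : act 0 n201694 = n220688 := d20_4 (iv4 D194057) D194056 (iv4 F456088) (iv3 F456090) (iv3 D220688) (iv4 D194211) (iv1 F392372) (iv4 F504955) F504954 F455311
def n220689 : Q := act 5 n194211
theorem D220689 : act 5 n194211 = n220689 := rfl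
theorem F504996 : act 2 n220689 = n218454 := d2_1 D220689 (iv5 D218454) (iv2 F392382)
def n220690 : Q := act 5 n194212
theorem D220690 : act 5 n194212 = n220690 := rfl
theorem F504997 : act 7 n220690 = n218454 := d13_2 (iv7 F392384) D220690 (iv5 D218454)
theorem F504998 : act 4 n220690 = n205336 := d16_2 D194212 D220690 F435965 F416830 (iv5 F343321) F343320 (iv5 F293757) (iv7 F392362) (iv2 F392364)
theorem F504999 : act 1 n220690 = n205474 := d17_8 (iv1 F435865) F435863 (iv1 F231344) (iv5 F355839) D200553 F416963 (iv0 F392385) D220690 (iv4 D205474)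
def n220691 : Q := act 6 n194212
theorem D220691 : act 6 n194212 = n220691 := rfl
theorem F505000 : act 2 n220691 = n218446 := d3_1 D220691 F494561 (iv2 F494559)
theorem F505001 : act 3 n220691 = n212922 := d7_1 D220691 (iv6 F468137) (iv3 F455348)
theorem F505002 : act 4 n220691 = n194213 := d10_1 D220691 (iv6 D194213) D194212
theorem F505003 : act 7 n220691 = n208120 := d14_2 (iv7 F392384) D220691 (iv6 D208120) F214514 D189313
theorem F505004 : act 5 n212921 = n220691 := d21_2 F490551 F468133 (iv6 D220691) F392385 (iv6 D189367) (iv5 F144853) F144855 F144596 (iv6 F371788) D217774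
theorem F505005 : act 0 n220691 = n217853 := d17_2 F468133 F505004 F490936 F376484 (iv5 F374317) F374321 D188931 (iv0 F376218) (iv4 F376401)
theorem F505006 : act 1 n220691 = n217857 := d17_6 (iv1 D94027) D94028 D189548 F376861 (iv4 F468131) F505004 F490954 F376931 (iv4 D189545)
def n220692 : Q := act 6 n194216
theorem D220692 : act 6 n194216 = n220692 := rfl
theorem F505007 : act 2 n220692 = n218455 := d3_1 D220692 (iv6 F493982) F479271
theorem F505008 : act 3 n220692 = n208134 := d7_1 D220692 (iv6 F486194) F486193
theorem F505009 : act 4 n220692 = n194218 := d10_1 D220692 (iv6 D194218) D194216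
def n220693 : Q := act 5 n194222
theorem D220693 : act 5 n194222 = n220693 := rfl
theorem F505010 : act 3 n220693 = n218648 := d6_1 D220693 (iv5 D218648) (iv3 F392403)
theorem F505011 : act 4 n220693 = n218118 := d16_2 (iv4 F392404) D220693 (iv5 D218118) (iv4 D188525) D188526 D218119 (iv5 F492239) (iv7 F494234) (iv2 D218512)
def n220694 : Q := act 5 n194230
theorem D220694 : act 5 n194230 = n220694 := rfl
theorem F505012 : act 3 n220694 = n214163 := d6_1 D220694 (iv5 D214163) (iv3 F392426)
theorem F505013 : act 6 n220694 = n214161 := d12_2 F392427 D220694 (iv5 D214161) (iv6 D156954) (iv5 F245463)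
theorem F505014 : act 7 n220694 = n213232 := d13_2 F393237 D220694 F469511
theorem F505015 : act 4 n220694 = n213067 := d16_2 D194230 D220694 (iv5 F474088) F474087 (iv5 D194232) (iv4 D103025) D103026 (iv7 F158927) F158926
theorem F505016 : act 0 n220694 = n209875 := d17_2 (iv1 F469318) D220694 F455230 F226968 D144290 F365048 (iv5 F366637) (iv0 F393842) (iv4 F469316)
def n220695 : Q := act 6 n194232
theorem D220695 : act 6 n194232 = n220695 := rfl
theorem F505017 : act 2 n220695 = n200329 := d3_1 D220695 F416008 F393229
theorem F505018 : act 3 n220695 = n203645 := d7_1 D220695 (iv6 D203645) (iv3 F392433)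
theorem F505019 : act 4 n220695 = n214031 := d10_1 D220695 (iv6 F474089) F474087
theorem F505020 : act 7 n220695 = n200320 := d14_2 (iv7 F392434) D220695 (iv6 D200320) (iv7 F175951) D112989
theorem F505021 : act 0 n220695 = n197485 := d21_4 F372159 F372157 D194232 D220695 (iv6 F474866) (iv5 D214377) (iv1 F414427) (iv5 F423801) (iv6 F428521) (iv1 F428524)
theorem F505022 : act 0 n200326 = n220695 := d21_4 (iv5 D149180) D149177 (iv5 F439043) (iv6 F439044) (iv6 D220695) (iv5 D194232) (iv1 F176027) F365050 (iv6 F415559) (iv1 F415564)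
def n220696 : Q := act 3 n194234
theorem D220696 : act 3 n194234 = n220696 := rfl
theorem F505023 : act 4 n220696 = n209188 := d5_2 D194234 D220696 (iv3 F500003) (iv4 D219677) F385139
theorem F505024 : act 7 n220696 = n209187 := d8_2 F393222 D220696 F452633
theorem F505025 : act 0 n220696 = n209870 := d20_4 (iv4 D194561) F363042 D194234 D220696 (iv3 D209870) (iv4 F438467) (iv1 D205929) (iv4 F245092) (iv3 F472430) F472433
theorem F505026 : act 0 n213804 = n220696 := d20_4 (iv4 F245472) F366455 F251063 D213804 (iv3 D220696) (iv4 D194234) (iv1 F363045) (iv4 F422665) F422664 F347956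
theorem F505027 : act 5 n220696 = n220510 := d19_1 F505026 F504122 (iv3 F504108) (iv1 F504112) (iv5 D203384) (iv4 F236050) (iv3 D150034) F107058 (iv5 F228109) F228108 (iv3 F429247) (iv1 F438395) (iv5 D205914) (iv4 D126758) (iv3 F203968) D205903 F438349 F251063 D213804
def n220697 : Q := act 5 n194234
theorem D220697 : act 5 n194234 = n220697 := rfl
theorem F505028 : act 2 n220697 = n213232 := d2_1 D220697 F469511 F393235
theorem F505029 : act 3 n220697 = n220510 := d6_1 D220697 (iv5 F505027) (iv3 D220696)
theorem F505030 : act 4 n220697 = n213231 := d9_1 D220697 (iv5 F472432) F472431 (iv5 D194229) (iv4 D103022) D103023 D194230 D220694 F505015 (iv5 F474088) F474087 (iv5 D194232) (iv4 D103025) D103026 D194234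
theorem F505031 : act 1 n220697 = n209875 := d17_6 (iv1 F158950) F158947 (iv1 F75361) D103026 D194234 D220697 F455230 (iv0 F392445) (iv4 D194237)
theorem F505032 : act 6 n220697 = n220508 := d21_3 F422871 F401172 D220697 F504708 F504706 (iv5 F472780) (iv1 F472781) (iv5 F485860) (iv6 F485862) (iv1 F469459)
def n220698 : Q := act 5 n194237
theorem D220698 : act 5 n194237 = n220698 := rfl
theorem F505033 : act 3 n220698 = n219775 := d6_1 D220698 (iv5 D219775) (iv3 F392444)
theorem F505034 : act 7 n220698 = n213215 := d13_2 F393249 D220698 F469456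
theorem F505035 : act 4 n220698 = n213061 := d16_2 D194237 D220698 (iv5 D213061) (iv4 F425601) F425602 F378378 F158272 (iv7 F270490) F270492
theorem F505036 : act 0 n220698 = n213983 := d17_2 (iv1 F422857) D220698 (iv5 D213983) (iv4 F393029) F393030 (iv0 F428528) (iv5 D203489) (iv0 F380206) (iv4 F422854)
def n220699 : Q := act 5 n194239
theorem D220699 : act 5 n194239 = n220699 := rfl
theorem F505037 : act 2 n220699 = n213215 := d2_1 D220699 F469456 F393247
theorem F505038 : act 4 n220699 = n213212 := d9_1 D220699 (iv5 D213212) (iv4 F428520) (iv5 F488859) (iv4 D217434) F369783 D194237 D220698 F505035 (iv5 D213061) (iv4 F425601) F425602 F378378 F158272 D194239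
theorem F505039 : act 1 n220699 = n213983 := d17_6 F373307 (iv5 D188401) F350172 F158272 D194239 D220699 (iv5 D213983) (iv0 F393238) (iv4 D194443)
def n220700 : Q := act 5 n194251
theorem D220700 : act 5 n194251 = n220700 := rfl
theorem F505040 : act 3 n220700 = n213789 := d6_1 D220700 (iv5 F492543) (iv3 F492544)
theorem F505041 : act 6 n220700 = n196434 := d12_2 (iv6 F392502) D220700 (iv5 D196434) (iv6 F228461) F228463
theorem F505042 : act 7 n220700 = n194380 := d13_2 (iv7 F392503) D220700 (iv5 D194380)
theorem F505043 : act 4 n220700 = n214418 := d16_2 D194251 D220700 F475094 F441474 (iv5 F251985) (iv4 F369974) F369975 (iv7 F390822) (iv2 F390820)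
theorem F505044 : act 1 n220700 = n219657 := d17_6 F372080 F365602 F367217 (iv5 F365264) D194251 D220700 F499884 F392885 F372082
def n220701 : Q := act 6 n194256
theorem D220701 : act 6 n194256 = n220701 := rfl
theorem F505045 : act 2 n220701 = n194392 := d3_1 D220701 (iv6 D194392) (iv2 F392523)
theorem F505046 : act 3 n220701 = n199904 := d7_1 D220701 F414072 F407923
theorem F505047 : act 4 n220701 = n212520 := d10_1 D220701 F466227 F392522
theorem F505048 : act 5 n220701 = n218062 := d12_1 D220701 F491961 (iv5 D218045) F461723 F461719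
theorem F505049 : act 7 n220701 = n199901 := d14_2 (iv7 F392524) D220701 (iv6 D199901) F174016 (iv6 F352016)
theorem F505050 : act 0 n220701 = n204385 := d21_4 (iv5 F410908) (iv1 F461722) F461719 D220701 F432336 (iv5 F378782) (iv1 F381614) (iv5 F392838) (iv6 F393793) F393794
theorem F505051 : act 0 n194385 = n220701 := d21_4 (iv5 D191128) D191126 F382479 D194385 (iv6 D220701) (iv5 F461719) F461721 (iv5 F438787) (iv6 D206002) F382337
def n220702 : Q := act 6 n194264
theorem D220702 : act 6 n194264 = n220702 := rfl
theorem F505052 : act 2 n220702 = n219352 := d3_1 D220702 (iv6 D219352) (iv2 F392564)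
theorem F505053 : act 3 n220702 = n214583 := d7_1 D220702 F475908 (iv3 F392565)
theorem F505054 : act 4 n220702 = n213187 := d10_1 D220702 F469371 (iv4 F392566)
theorem F505055 : act 0 n220702 = n216635 := d21_4 (iv5 D191985) F289657 D194264 D220702 F485285 (iv5 F466819) F486732 F486729 (iv6 D216431) F385100
theorem F505056 : act 0 n220474 = n220702 := d21_4 (iv5 D203384) D203381 (iv5 F454946) (iv6 F503942) (iv6 D220702) (iv5 D194264) F158383 D193826 D220507 (iv1 F504112)
theorem F505057 : act 3 n216779 = n215870 := d20_3 (iv4 F505054) F505055 F485899 (iv1 D215870) (iv3 D178078) (iv4 D84765) (iv1 F304761) D124048 D204610 F469373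
def n220703 : Q := act 6 n194277
theorem D220703 : act 6 n194277 = n220703 := rfl
theorem F505058 : act 2 n220703 = n205306 := d3_1 D220703 (iv6 F435878) F392623
theorem F505059 : act 3 n220703 = n200066 := d7_1 D220703 F414876 (iv3 F392625)
theorem F505060 : act 4 n220703 = n198447 := d10_1 D220703 (iv6 F408041) (iv4 F392618)
theorem F505061 : act 5 n220703 = n205404 := d12_1 D220703 (iv6 D205404) F361381 (iv6 F356084) (iv5 F392617)
theorem F505062 : act 0 n220703 = n205260 := d21_4 (iv5 F356067) F365576 (iv5 F392617) D220703 (iv6 F440736) (iv5 D206427) (iv1 D128604) D128605 F377920 F377917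
theorem F505063 : act 0 n205163 = n220703 := d21_4 (iv5 D199986) F174355 D125545 (iv6 F435240) (iv6 D220703) F392617 F361382 F361715 (iv6 F402638) (iv1 F414484)
theorem F505064 : act 7 n220703 = n205307 := d15_2 F435649 (iv0 F505062) F435882
def n220704 : Q := act 6 n194278
theorem D220704 : act 6 n194278 = n220704 := rfl
theorem F505065 : act 2 n220704 = n214860 := d3_1 D220704 F477179 F392628
theorem F505066 : act 3 n220704 = n196251 := d7_1 D220704 (iv6 F417069) (iv3 F417068)
theorem F505067 : act 4 n220704 = n203861 := d10_1 D220704 F430153 (iv4 F392627)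
theorem F505068 : act 5 n220704 = n207471 := d12_1 D220704 F497105 F497099 (iv6 F417069) F417067
theorem F505069 : act 7 n220704 = n209074 := d14_2 (iv7 F392626) D220704 F452126 F435877 (iv6 F435878)
theorem F505070 : act 0 n220704 = n206524 := d21_4 (iv5 F361715) (iv1 F417066) F417067 D220704 (iv6 D206524) F355245 (iv1 F206844) F362252 F270670 D172540
def n220705 : Q := act 6 n194299
theorem D220705 : act 6 n194299 = n220705 := rfl
theorem F505071 : act 2 n220705 = n206002 := d3_1 D220705 (iv6 D206002) F392735
theorem F505072 : act 3 n220705 = n199152 := d7_1 D220705 (iv6 D199152) F392736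
theorem F505073 : act 4 n220705 = n205832 := d10_1 D220705 (iv6 D205832) (iv4 F392737)
theorem F505074 : act 5 n220705 = n194574 := d12_1 D220705 (iv6 D194574) D194573 F393726 (iv5 F392734)
theorem F505075 : act 7 n220705 = n194337 := d14_2 (iv7 F392733) D220705 (iv6 D194337) (iv7 F372114) F372118
theorem F505076 : act 0 n220705 = n206336 := d21_4 (iv5 F291961) D187414 (iv5 F392734) D220705 (iv6 D206336) (iv5 F378802) (iv1 F378803) (iv5 F392775) F392780 (iv1 D103270)
theorem F505077 : act 0 n214840 = n220705 := d21_4 (iv5 F394678) (iv1 F394681) (iv5 F464607) (iv6 F477097) (iv6 D220705) F392734 (iv1 F370262) (iv5 F382475) F382476 (iv1 F392508)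
def n220706 : Q := act 5 n194301
theorem D220706 : act 5 n194301 = n220706 := rfl
theorem F505078 : act 2 n220706 = n211410 := d2_1 D220706 (iv5 D211410) (iv2 F392743)
theorem F505079 : act 3 n220706 = n218930 := d6_1 D220706 (iv5 F498622) F498624
theorem F505080 : act 6 n220706 = n206038 := d12_2 (iv6 F392744) D220706 (iv5 D206038) (iv6 D127087) D127086
theorem F505081 : act 7 n220706 = n211345 := d13_2 (iv7 F392745) D220706 (iv5 D211345)
theorem F505082 : act 0 n220706 = n211418 := d17_2 F392746 D220706 F477997 (iv4 D215033) (iv5 D164464) D164463 (iv5 F439023) (iv0 D206054) (iv4 F224861)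
theorem F505083 : act 1 n220706 = n211330 := d17_6 F378409 D102266 F314184 D103179 D194301 D220706 F461153 F390777 F390776
def n220707 : Q := act 6 n194314
theorem D220707 : act 6 n194314 = n220707 := rfl
theorem F505084 : act 2 n220707 = n198881 := d3_1 D220707 (iv6 F428890) F428888
theorem F505085 : act 3 n220707 = n194318 := d7_1 D220707 (iv6 D194318) (iv3 F392792)
theorem F505086 : act 4 n220707 = n204854 := d10_1 D220707 (iv6 F433861) F393684
theorem F505087 : act 5 n220707 = n215319 := d12_1 D220707 F480825 F480821 F451422 F451418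
theorem F505088 : act 7 n220707 = n194388 := d14_2 D194314 D220707 (iv6 D194388) (iv7 D103282) (iv6 F158447)
theorem F505089 : act 0 n220707 = n215438 := d21_4 (iv5 F389512) D208922 F451418 D220707 (iv6 D215438) (iv5 F366958) F433967 (iv5 F476844) F476845 F428886
theorem F505090 : act 0 n200502 = n220707 := d21_4 (iv5 D112742) D112739 (iv5 F373684) D200502 (iv6 D220707) (iv5 F451418) (iv1 F467665) F467662 F415392 (iv1 D200175)
def n220708 : Q := act 5 n194319
theorem D220708 : act 5 n194319 = n220708 := rfl
theorem F505091 : act 2 n220708 = n212811 := d2_1 D220708 F467593 (iv2 F464113)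
theorem F505092 : act 3 n220708 = n195371 := d6_1 D220708 (iv5 D195371) (iv3 F392814)
theorem F505093 : act 4 n220708 = n212056 := d9_1 D220708 F464157 (iv4 D192017) (iv5 D99517) (iv4 F75090) D103083 D194261 F464161 F464160 F440459 F427347 F349994 (iv4 D103205) D103206 D194319
theorem F505094 : act 6 n220708 = n203244 := d12_2 F458059 D220708 (iv5 D203244) D203245 (iv5 F458057)
theorem F505095 : act 7 n220708 = n211875 := d13_2 (iv7 F392815) D220708 (iv5 D211875)
theorem F505096 : act 0 n220708 = n203234 := d17_2 (iv1 F464121) D220708 (iv5 D203234) (iv4 F244736) F358499 F154096 D192412 F386670 (iv4 F464117)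
theorem F505097 : act 1 n220708 = n212810 := d17_6 (iv1 D103210) (iv5 D47832) D47829 D103206 D194319 D220708 (iv5 D212810) (iv0 F392831) (iv4 D194324)
def n220709 : Q := act 5 n194322
theorem D220709 : act 5 n194322 = n220709 := rfl
theorem F505098 : act 2 n220709 = n212809 := d2_1 D220709 (iv5 D212809) (iv2 F392822)
theorem F505099 : act 3 n220709 = n197356 := d6_1 D220709 (iv5 D197356) (iv3 F392823)
theorem F505100 : act 7 n220709 = n195369 := d13_2 (iv7 F392824) D220709 (iv5 D195369)
theorem F505101 : act 4 n220709 = n219945 := d16_2 D194322 D220709 F501301 F499818 (iv5 F465056) (iv4 D191157) (iv5 F367031) (iv7 F379149) F379147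
theorem F505102 : act 0 n220709 = n212047 := d17_2 (iv1 F392826) D220709 (iv5 D212047) (iv4 F393805) F393803 F393096 (iv5 F340550) (iv0 F340553) (iv4 F358512)
theorem F505103 : act 6 n220709 = n219943 := d21_3 (iv5 D212810) (iv1 F392826) D220709 F501295 (iv6 D212801) (iv5 D150035) F107058 (iv5 F228109) D212057 (iv1 F467592)
def n220710 : Q := act 6 n194322
theorem D220710 : act 6 n194322 = n220710 := rfl
theorem F505104 : act 2 n220710 = n195402 := d3_1 D220710 F396913 (iv2 F392822)
theorem F505105 : act 3 n220710 = n197357 := d7_1 D220710 (iv6 D197357) (iv3 F392823)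
theorem F505106 : act 4 n220710 = n194323 := d10_1 D220710 (iv6 D194323) D194322
theorem F505107 : act 5 n220710 = n219944 := d12_1 D220710 (iv6 D219944) D219943 (iv6 F505103) (iv5 D220709)
theorem F505108 : act 7 n220710 = n195295 := d14_2 (iv7 F392824) D220710 (iv6 D195295) F161963 D105546
theorem F505109 : act 1 n195400 = n220710 := d15_1 D195400 F505108 F396611
theorem F505110 : act 1 n220710 = n195399 := d15_1 F505109 (iv7 F472286) (iv2 F472283)
theorem F505111 : act 0 n196599 = n211085 := d20_4 (iv4 F472282) (iv1 D198373) F169223 (iv3 F401202) (iv3 F460796) (iv4 D211247) (iv1 F224330) (iv4 F404027) (iv3 F505105) (iv1 F505109)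
def n220711 : Q := act 5 n194324
theorem D220711 : act 5 n194324 = n220711 := rfl
theorem F505112 : act 2 n220711 = n195369 := d2_1 D220711 (iv5 D195369) (iv2 F392828)
theorem F505113 : act 3 n220711 = n216540 := d6_1 D220711 F484858 F468113
theorem F505114 : act 4 n220711 = n203250 := d9_1 D220711 F427532 F228088 D151381 (iv4 F349216) (iv5 F349217) D194322 D220709 F505101 F501301 F499818 (iv5 F465056) (iv4 D191157) (iv5 F367031) D194324
theorem F505115 : act 6 n220711 = n195292 := d12_2 (iv6 F392829) D220711 (iv5 D195292) (iv6 D105498) D105497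
theorem F505116 : act 7 n220711 = n212809 := d13_2 (iv7 F392830) D220711 (iv5 D212809)
theorem F505117 : act 1 n220711 = n212047 := d17_6 (iv1 F296437) (iv5 F369965) (iv1 F369969) (iv5 F367031) D194324 D220711 (iv5 D212047) (iv0 F366316) (iv4 D144243)
def n220712 : Q := act 3 n194325
theorem D220712 : act 3 n194325 = n220712 := rfl
theorem F505118 : act 2 n220712 = n209653 := d0_1 D220712 F464130 F464129 F454066 F414233
theorem F505119 : act 4 n220712 = n194620 := d5_2 (iv4 F392833) D220712 (iv3 D194620) (iv4 D103873) D103872
theorem F505120 : act 7 n220712 = n195505 := d8_2 F392834 D220712 F397179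
theorem F505121 : act 0 n220712 = n209656 := d20_4 (iv4 F358507) F358504 (iv4 F392833) D220712 F454517 F219993 (iv1 F100136) (iv4 F203995) (iv3 F360493) F360495
theorem F505122 : act 0 n209654 = n220712 := d20_4 (iv4 F423246) (iv1 F423248) F220168 (iv3 F454513) (iv3 D220712) F392833 (iv1 F358520) F396835 (iv3 F438469) (iv1 F438471)
def n220713 : Q := act 5 n194325
theorem D220713 : act 5 n194325 = n220713 := rfl
theorem F505123 : act 6 n220713 = n212816 := d12_2 F401211 D220713 (iv5 F469923) F469919 (iv5 F438761)
theorem F505124 : act 7 n220713 = n195506 := d13_2 F392834 D220713 (iv5 D195506)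
theorem F505125 : act 0 n220713 = n219946 := d17_2 D194325 D220713 F501304 (iv4 D194366) (iv5 F369965) F369968 (iv5 F349217) (iv0 D103209) D103211
theorem F505126 : act 1 n220713 = n219320 := d17_6 F386669 F379042 (iv1 D190178) (iv5 F159290) (iv4 F392833) D220713 (iv5 D219320) F463650 F463648
def n220714 : Q := act 0 n194326
theorem D220714 : act 0 n194326 = n220714 := rfl
theorem F505127 : act 5 n220714 = n194368 := d17_3 F358516 D194326 D220714 F392956 (iv5 D103853) D103852 (iv5 F358508) (iv0 D112022) (iv4 F174128)
theorem F505128 : act 4 n220714 = n216528 := d18_3 (iv1 F501072) F501070 D220714 (iv5 D216528) (iv4 D184236) F154145 D192470 F427352 (iv5 F440459)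
theorem F505129 : act 2 n216542 = n220714 := d15_3 (iv0 D220714) (iv0 F472616) (iv7 F484868)
theorem F505130 : act 6 n220714 = n216528 := d3_2 F484869 F505129 F484818
theorem F505131 : act 7 n220714 = n216525 := d4_2 (iv7 F484868) F505129 F484810
def n220715 : Q := act 6 n194326
theorem D220715 : act 6 n194326 = n220715 := rfl
theorem F505132 : act 2 n220715 = n212800 := d3_1 D220715 (iv6 F501142) F501138
theorem F505133 : act 3 n220715 = n219902 := d7_1 D220715 F501112 (iv3 F396855)
theorem F505134 : act 5 n220715 = n212799 := d12_1 D220715 F467572 (iv5 F404135) F355181 D194326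
def n220716 : Q := act 0 n194327
theorem D220716 : act 0 n194327 = n220716 := rfl
theorem F505135 : act 4 n220716 = n194441 := d18_3 (iv1 F350175) D194327 D220716 (iv5 D194441) (iv4 D103592) F75352 F75026 F75360 D103590
theorem F505136 : act 3 n220716 = n213864 := d20_5 F188675 (iv1 F110854) D155873 (iv3 F392835) D220716 F472475 (iv1 F438471) (iv4 F423246) F423245 F354573
theorem F505137 : act 2 n214227 = n220716 := d15_3 (iv0 D220716) F416017 (iv7 F474090)
theorem F505138 : act 1 n202336 = n220716 := d15_0 (iv0 D220716) F422666 (iv2 F423676)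
theorem F505139 : act 7 n220716 = n213858 := d15_2 (iv0 F423678) F505138 F472429
theorem F505140 : act 6 n214018 = n220716 := d14_5 F505139 (iv6 D213858) F245087 D156201 D214018
def n220717 : Q := act 5 n194327
theorem D220717 : act 5 n194327 = n220717 := rfl
theorem F505141 : act 2 n220717 = n213214 := d2_1 D220717 F469458 F393694
theorem F505142 : act 3 n220717 = n213803 := d6_1 D220717 (iv5 D213803) (iv3 F392835)
theorem F505143 : act 7 n220717 = n213213 := d13_2 (iv7 F422666) D220717 F469453
theorem F505144 : act 0 n220717 = n213212 := d17_2 (iv1 F416017) D220717 (iv5 D213212) (iv4 F428520) (iv5 F488859) F488861 (iv5 F401169) (iv0 F401174) (iv4 F416016)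
theorem F505145 : act 1 n220717 = n213061 := d17_6 (iv1 F158949) (iv5 F158272) (iv1 F350173) (iv5 F158460) D194327 D220717 (iv5 D213061) F393261 F393260
def n220718 : Q := act 1 n194328
theorem D220718 : act 1 n194328 = n220718 := rfl
def n220719 : Q := act 3 n194329
theorem D220719 : act 3 n194329 = n220719 := rfl
theorem F505146 : act 4 n220719 = n211347 := d5_2 (iv4 F392839) D220719 F461222 F428759 (iv3 F364909)
theorem F505147 : act 5 n220719 = n211756 := d6_2 (iv5 F392838) D220719 F462973
theorem F505148 : act 6 n220719 = n200452 := d7_2 F393793 D220719 (iv3 F416478)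
theorem F505149 : act 7 n220719 = n206337 := d8_2 (iv7 F392841) D220719 (iv3 D206337)
theorem F505150 : act 0 n194341 = n220719 := d20_4 (iv4 F481244) (iv1 F481248) F344481 (iv3 F392879) (iv3 D220719) F392839 (iv1 F366392) (iv4 F393042) F393041 F414454
def n220720 : Q := act 5 n194342
theorem D220720 : act 5 n194342 = n220720 := rfl
theorem F505151 : act 2 n220720 = n202472 := d2_1 D220720 F424143 F392884
theorem F505152 : act 3 n220720 = n199723 := d6_1 D220720 (iv5 F469323) F469320
theorem F505153 : act 4 n220720 = n214403 := d9_1 D220720 (iv5 F475051) F475052 F370831 (iv4 F360293) (iv5 F360294) (iv4 F392887) (iv5 F499884) F499883 (iv5 F475042) F475043 F372401 F372395 F370150 (iv4 F392882)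
theorem F505154 : act 6 n220720 = n196897 := d12_2 (iv6 F401441) D220720 (iv5 D196897) F227037 (iv5 F401436)
theorem F505155 : act 7 n220720 = n199720 := d13_2 F490823 D220720 F490824
theorem F505156 : act 0 n220720 = n211012 := d17_2 D194342 D220720 (iv5 D211012) F367026 (iv5 F369975) F376042 F376037 (iv0 D103235) D103237
theorem F505157 : act 1 n220720 = n220700 := d17_6 (iv1 F365240) F373245 (iv1 F373244) F370150 (iv4 F392882) D220720 (iv5 D220700) F392504 F226958
def n220721 : Q := act 5 n194346
theorem D220721 : act 5 n194346 = n220721 := rfl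
theorem F505158 : act 3 n220721 = n218322 := d6_1 D220721 (iv5 F493515) F493514
theorem F505159 : act 7 n220721 = n218905 := d13_2 F493534 D220721 F496127
theorem F505160 : act 0 n220721 = n220387 := d17_2 D194346 D220721 (iv5 D220387) F459753 F459750 (iv0 F434790) (iv5 F464602) (iv0 F464605) F392889
theorem F505161 : act 4 n220721 = n211854 := d19_2 D194346 D220721 F463279 F463255 F463251 F447045 (iv3 D132647) F311299 (iv5 D34306) (iv4 F53650) (iv3 F310862) (iv1 D41142) D41143 D88124 D184836 (iv1 F392923) (iv5 D194356) F158493 (iv3 F158480)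
def n220722 : Q := act 1 n194348
theorem D220722 : act 1 n194348 = n220722 := rfl
theorem F505162 : act 5 n220722 = n202836 := d17_7 (iv1 D140531) (iv5 F336692) F412354 F412355 F392889 D194348 D220722 (iv0 F425790) F407970
theorem F505163 : act 4 n220722 = n214869 := d17_9 (iv1 F489083) F489081 F390793 D211854 (iv4 F505161) (iv5 D220721) (iv0 D194346) D194348 D220722
theorem F505164 : act 3 n202838 = n220722 := d19_19 (iv1 D220722) (iv5 D194348) (iv4 F392889) (iv3 F472077) F502033 F502031 (iv4 D194880) (iv3 D104667) (iv1 D48398) D48400 F76068 D97182 F289703 (iv5 D95494) (iv4 F147122) F147121 (iv1 F289532) D190864 (iv4 F425799)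
theorem F505165 : act 6 n214200 = n220722 := d21_3 F496179 F481125 (iv5 F473968) (iv1 D220722) F392892 (iv5 D103241) D103239 (iv5 F158487) D190280 D218915
def n220723 : Q := act 7 n194348
theorem D220723 : act 7 n194348 = n220723 := rfl
theorem F505166 : act 3 n220723 = n194365 := d8_1 D220723 (iv7 D194365) (iv3 F392891)
theorem F505167 : act 5 n220723 = n194349 := d13_1 D220723 (iv7 D194349) D194348
def n220724 : Q := act 6 n194352
theorem D220724 : act 6 n194352 = n220724 := rfl
theorem F505168 : act 2 n220724 = n194353 := d3_1 D220724 (iv6 D194353) D194352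
theorem F505169 : act 3 n220724 = n218133 := d7_1 D220724 F492288 F396875
theorem F505170 : act 4 n220724 = n219957 := d10_1 D220724 (iv6 D219957) (iv4 F392904)
theorem F505171 : act 5 n220724 = n214014 := d12_1 D220724 (iv6 D214014) (iv5 D156197) D156198 (iv5 F392905)
theorem F505172 : act 7 n220724 = n197611 := d14_2 F440462 D220724 (iv6 D197611) F403100 (iv6 F440466)
theorem F505173 : act 0 n197127 = n220724 := d21_4 F471898 F362751 F364930 (iv6 F403171) (iv6 D220724) F392905 F366455 (iv5 F438349) (iv6 F480765) F480766
def n220725 : Q := act 1 n194353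
theorem D220725 : act 1 n194353 = n220725 := rfl
theorem F505174 : act 1 n220725 = n197611 := d15_1 D220725 (iv7 F505172) F505168
theorem F505175 : act 5 n220725 = n198719 := d17_7 F436409 (iv5 F489039) F489040 (iv5 D190223) D190222 F392925 D220725 (iv0 F427677) F403548
theorem F505176 : act 4 n220725 = n197670 := d17_9 (iv1 F405320) (iv5 F412504) (iv1 F412506) (iv5 F360138) (iv4 F428674) (iv5 F429910) (iv0 F429912) F392925 D220725
theorem F505177 : act 6 n205984 = n220725 := d21_3 (iv5 D215283) F429336 (iv5 F438697) (iv1 D220725) (iv6 D194353) F359963 F409545 F409544 (iv6 F403039) (iv1 F479206)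
theorem F505178 : act 2 n220725 = n197127 := d3_1 F505177 F403171 D205984
theorem F505179 : act 3 n220725 = n215972 := d7_1 F505177 F482352 (iv3 F438695)
def n220726 : Q := act 7 n194353
theorem D220726 : act 7 n194353 = n220726 := rfl
theorem F505180 : act 2 n220726 = n197611 := d4_1 D220726 (iv7 F505172) F505168
theorem F505181 : act 3 n220726 = n194357 := d8_1 D220726 (iv7 D194357) (iv3 F392912)
theorem F505182 : act 4 n220726 = n208636 := d11_1 D220726 (iv7 F472079) F472078
theorem F505183 : act 5 n220726 = n204389 := d13_1 D220726 F432355 F392925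
theorem F505184 : act 6 n220726 = n197112 := d14_1 D220726 F403097 (iv6 F372108) F372109 D194353
theorem F505185 : act 1 n197127 = n220726 := d15_1 (iv0 F505173) (iv7 D220726) (iv2 F505168)
def n220727 : Q := act 4 n194360
theorem D220727 : act 4 n194360 = n220727 := rfl
theorem F505186 : act 3 n220727 = n218863 := d5_1 D220727 F495960 (iv3 F399905) F393751 F393747
theorem F505187 : act 6 n220727 = n197922 := d10_2 F478569 D220727 (iv4 F478568)
theorem F505188 : act 7 n220727 = n218833 := d11_2 (iv7 F392935) D220727 F495838
def n220728 : Q := act 1 n194370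
theorem D220728 : act 1 n194370 = n220728 := rfl
theorem F505189 : act 7 n220728 = n199937 := d15_2 F397183 D220728 F414231
theorem F505190 : act 5 n220728 = n199938 := d17_7 (iv1 F379151) (iv5 D190235) F369641 F138087 D103253 D194370 D220728 F414237 (iv4 D194321)
theorem F505191 : act 4 n220728 = n219897 := d17_9 F501092 F463877 F388095 D216528 (iv4 F505128) F505127 (iv0 D194368) D194370 D220728
theorem F505192 : act 3 n213324 = n220728 := d19_19 (iv1 D220728) (iv5 D194370) (iv4 D103253) (iv3 D47848) (iv1 F75047) F75040 F36041 F17649 (iv1 F17651) D10872 D23061 D47901 (iv1 F294727) (iv5 F154142) D192470 F463840 (iv1 D211991) D211993 (iv4 F469930)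
theorem F505193 : act 6 n220728 = n213323 := d7_2 D213324 F505192 F469925
theorem F505194 : act 2 n220713 = n220728 := d3_3 F505193 F469924 (iv6 F505123)
def n220729 : Q := act 6 n194370
theorem D220729 : act 6 n194370 = n220729 := rfl
theorem F505195 : act 4 n220729 = n195373 := d10_1 D220729 (iv6 F501281) F501283
theorem F505196 : act 5 n220729 = n205912 := d12_1 D220729 (iv6 F481428) F481429 (iv6 D194371) D194370
theorem F505197 : act 0 n201973 = n220729 := d17_0 F505196 F438388 D209639 F454431 F227560 F219996 D144754 F227608 D201973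
def n220730 : Q := act 4 n194380
theorem D220730 : act 4 n194380 = n220730 := rfl
theorem F505198 : act 3 n220730 = n201809 := d5_1 D220730 (iv4 F499604) F499603 F492942 F492945
theorem F505199 : act 7 n220730 = n214418 := d11_2 F505042 D220730 (iv4 F505043)
theorem F505200 : act 5 n220730 = n214558 := d16_3 D103264 D194380 D220730 F475781 F374517 (iv4 F376050) (iv5 F390819) F390822 (iv2 D103263)
theorem F505201 : act 0 n220730 = n217837 := d17_0 (iv5 D217837) (iv1 D188036) D188038 (iv4 F412359) (iv5 F412358) F490822 (iv5 F490824) (iv0 F421796) D220730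
theorem F505202 : act 1 n220730 = n217836 := d18_6 D100982 F365237 F177374 D103264 D194380 D220730 F490856 (iv0 D188880) F293127
def n220731 : Q := act 1 n194385
theorem D220731 : act 1 n194385 = n220731 := rfl
theorem F505203 : act 1 n220731 = n204385 := d15_1 D220731 (iv7 F454460) F454458
theorem F505204 : act 7 n220731 = n194392 := d15_2 (iv0 F505051) D220731 (iv2 F505045)
theorem F505205 : act 4 n220731 = n212539 := d17_9 F466336 (iv5 F432345) (iv1 F432348) (iv5 F392486) F392485 (iv5 F369611) D217373 (iv5 F488619) D220731
theorem F505206 : act 5 n219262 = n220731 := d21_0 (iv1 D220731) F488619 F492061 (iv1 D216825) F379289 F379287 D190773 F380995 D191012 D219262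
theorem F505207 : act 6 n199899 = n220731 := d21_3 F352011 F352012 D199899 (iv1 D220731) (iv6 D194385) (iv5 F382479) (iv1 F497098) F497095 F392740 (iv1 F352019)
theorem F505208 : act 2 n220731 = n199901 := d3_1 F505207 (iv6 D199901) (iv2 F414048)
def n220732 : Q := act 0 n194388
theorem D220732 : act 0 n194388 = n220732 := rfl
theorem F505209 : act 5 n220732 = n203849 := d17_1 D220732 (iv1 D203849) (iv5 F423639) (iv4 F474854) (iv5 D214375) (iv0 F431989) (iv5 F433847) (iv0 F433850) (iv4 F393023)
theorem F505210 : act 3 n220732 = n214850 := d20_5 F390202 (iv1 D103288) (iv4 F158516) (iv3 F393022) D220732 F477142 (iv1 F394168) F394164 (iv3 F277117) (iv1 F277122)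
theorem F505211 : act 6 n220732 = n198869 := d21_5 (iv5 F347872) F375931 F375928 D194388 D220732 (iv5 D198869) (iv1 D110395) D110397 F347893 (iv1 F376011)
theorem F505212 : act 2 n200502 = n220732 := d15_3 (iv0 D220732) F472260 F472257
theorem F505213 : act 1 n198881 = n220732 := d15_0 (iv0 D220732) (iv7 F505088) F505084
theorem F505214 : act 7 n220732 = n215438 := d15_2 (iv0 F472259) F505213 F479997
def n220733 : Q := act 5 n194407
theorem D220733 : act 5 n194407 = n220733 := rfl
theorem F505215 : act 2 n220733 = n211334 := d2_1 D220733 F461170 (iv2 F393074)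
theorem F505216 : act 3 n220733 = n198427 := d6_1 D220733 (iv5 F453820) F453818
theorem F505217 : act 7 n220733 = n220310 := d13_2 (iv7 F453810) D220733 F503130
theorem F505218 : act 4 n220733 = n219144 := d16_2 (iv4 F393075) D220733 F497409 F425654 D211904 (iv4 F470738) F470739 (iv7 D184086) (iv2 F158605)
theorem F505219 : act 0 n220733 = n219146 := d17_2 (iv1 F425305) D220733 F497422 F491981 (iv5 D218065) (iv0 D188428) (iv5 D91375) F308579 D123727
theorem F505220 : act 1 n220733 = n220727 := d17_8 (iv1 F491963) (iv5 F505048) F505050 (iv5 F488613) (iv4 F491966) (iv5 D218063) F426492 D220733 (iv4 D220727)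
def n220734 : Q := act 3 n194412
theorem D220734 : act 3 n194412 = n220734 := rfl
theorem F505221 : act 2 n220734 = n214434 := d0_1 D220734 F475165 (iv2 F454013) F391554 (iv2 F393102)
theorem F505222 : act 4 n220734 = n194566 := d5_2 D194412 D220734 (iv3 D194566) F159220 F159221
theorem F505223 : act 6 n220734 = n220593 := d7_2 (iv6 F393103) D220734 F504508
theorem F505224 : act 7 n220734 = n214435 := d8_2 (iv7 F393104) D220734 (iv3 F475167)
theorem F505225 : act 0 n220734 = n212865 := d20_4 (iv4 F165087) (iv1 F352882) D194412 D220734 (iv3 D212865) F237876 (iv1 F114271) D76258 (iv3 F352872) (iv1 D136525)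
theorem F505226 : act 0 n214436 = n220734 := d20_4 (iv4 F422957) (iv1 F206673) (iv4 F251057) (iv3 F475171) (iv3 D220734) (iv4 D194412) (iv1 D103353) D103354 D194413 F422961
def n220735 : Q := act 6 n194421
theorem D220735 : act 6 n194421 = n220735 := rfl
theorem F505227 : act 5 n220735 = n205243 := d12_1 D220735 F435578 (iv5 D202862) D202863 F425921
theorem F505228 : act 0 n220735 = n219032 := d21_4 (iv5 D211747) F425922 F425921 D220735 F496795 F381303 (iv1 F380339) F378292 D190153 F462936
theorem F505229 : act 1 n220735 = n219033 := d15_1 (iv0 F505228) F496799 (iv2 F496794)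
def n220736 : Q := act 0 n194424
theorem D220736 : act 0 n194424 = n220736 := rfl
theorem F505230 : act 5 n220736 = n215542 := d17_1 D220736 F482350 F482347 F413155 (iv5 F443238) (iv0 F443240) F251338 (iv0 F374267) (iv4 F393140)
theorem F505231 : act 4 n220736 = n207961 := d18_1 D220736 F447168 (iv4 F412479) (iv5 F476859) (iv4 D214790) F366951 (iv4 F415054) F476872 F476869
theorem F505232 : act 6 n220736 = n213670 := d21_5 D92917 F292694 D103451 D194424 D220736 (iv5 D213670) (iv1 D154686) F110057 F68292 D43471
theorem F505233 : act 2 n217724 = n220736 := d3_3 F505232 F471552 D217724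
theorem F505234 : act 3 n204205 = n220736 := d7_3 F505232 F471553 (iv6 F431480)
theorem F505235 : act 7 n204204 = n220736 := d14_0 F505232 F471555 (iv6 F429764) F429765 (iv6 F431476)
theorem F505236 : act 0 n220736 = n215729 := d21_4 (iv5 F241516) (iv1 F242846) D213670 (iv6 F505232) (iv6 F482853) (iv5 D216084) F415352 F415350 F178122 D114288
def n220737 : Q := act 1 n194424
theorem D220737 : act 1 n194424 = n220737 := rfl
theorem F505237 : act 1 n220737 = n215729 := d15_1 D220737 F481284 (iv2 F393139)
theorem F505238 : act 7 n220737 = n217724 := d15_2 (iv0 D220736) D220737 F505233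
theorem F505239 : act 4 n220737 = n207960 := d17_9 F447162 F372319 (iv1 F362466) D208156 F448150 F415057 F476872 F476869 D220737
theorem F505240 : act 6 n204223 = n220737 := d21_3 F394205 (iv1 F482540) F482538 (iv1 D220737) (iv6 D194424) (iv5 D103451) (iv1 F292915) (iv5 D92920) D92921 (iv1 F394203)
theorem F505241 : act 2 n220737 = n204204 := d3_1 F505240 F431476 D204223
theorem F505242 : act 3 n220737 = n204495 := d7_1 F505240 F432704 (iv3 F431543)
def n220738 : Q := act 7 n194424
theorem D220738 : act 7 n194424 = n220738 := rfl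
theorem F505243 : act 2 n220738 = n215729 := d4_1 D220738 F481284 (iv2 F393139)
theorem F505244 : act 3 n220738 = n212097 := d8_1 D220738 (iv7 F472137) F472135
theorem F505245 : act 4 n220738 = n217714 := d11_1 D220738 F490272 (iv4 F393140)
theorem F505246 : act 5 n220738 = n212095 := d13_1 D220738 (iv7 F476870) F476869
theorem F505247 : act 6 n220738 = n199716 := d14_1 D220738 F413232 (iv6 D188845) F292038 D194424
theorem F505248 : act 1 n204204 = n220738 := d15_1 (iv0 F471950) (iv7 D220738) F393139
theorem F505249 : act 1 n220738 = n217724 := d15_1 F505248 (iv7 F505238) F505241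
def n220739 : Q := act 7 n194427
theorem D220739 : act 7 n194427 = n220739 := rfl
theorem F505250 : act 2 n220739 = n200505 := d4_1 D220739 (iv7 F416766) (iv2 F393154)
theorem F505251 : act 3 n220739 = n206531 := d8_1 D220739 (iv7 F472151) F472142
theorem F505252 : act 4 n220739 = n204852 := d11_1 D220739 (iv7 F479365) F479363
theorem F505253 : act 5 n220739 = n194428 := d13_1 D220739 (iv7 D194428) D194427
theorem F505254 : act 6 n220739 = n204851 := d14_1 D220739 F433848 F464301 (iv7 F476870) F476866
theorem F505255 : act 1 n198875 = n220739 := d15_1 (iv0 F409699) (iv7 D220739) F393154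
theorem F505256 : act 1 n220739 = n200500 := d15_1 F505255 (iv7 F500846) F500843
def n220740 : Q := act 0 n194430
theorem D220740 : act 0 n194430 = n220740 := rfl
theorem F505257 : act 5 n220740 = n218190 := d17_1 D220740 (iv1 F492617) (iv5 D188952) F143287 (iv5 F241575) F370865 (iv5 F372043) (iv0 F387639) (iv4 F393175)
theorem F505258 : act 3 n220740 = n199721 := d20_5 (iv4 D92596) (iv1 F292101) D103464 D194430 D220740 (iv4 F413255) (iv1 F406690) F406687 (iv3 D188994) F143391
theorem F505259 : act 2 n217723 = n220740 := d15_3 (iv0 D220740) (iv0 F467939) (iv7 F490325)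
theorem F505260 : act 1 n218248 = n220740 := d15_0 (iv0 D220740) F393177 D218248
theorem F505261 : act 7 n220740 = n204584 := d15_2 F492955 F505260 (iv2 F467937)
theorem F505262 : act 6 n204496 = n220740 := d14_5 F505261 (iv6 D204584) (iv7 D124019) (iv6 F198327) D204496
def n220741 : Q := act 0 n194431
theorem D220741 : act 0 n194431 = n220741 := rfl
theorem F505263 : act 5 n220741 = n198794 := d17_1 D220741 (iv1 F409278) D199758 F413370 (iv5 F375017) (iv0 F229812) (iv5 F393182) (iv0 D194432) (iv4 F393181)
theorem F505264 : act 4 n220741 = n206203 := d18_1 D220741 (iv1 F439699) (iv4 F412464) (iv5 D199510) (iv4 F175479) F324546 (iv4 F280783) F431975 F431973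
theorem F505265 : act 2 n198795 = n220741 := d15_3 (iv0 D220741) (iv0 F395005) (iv7 F409280)
theorem F505266 : act 1 n199716 = n220741 := d15_0 (iv0 D220741) (iv7 F482854) F482850
theorem F505267 : act 7 n220741 = n199704 := d15_2 D199716 F505266 F413179
theorem F505268 : act 3 n199760 = n220741 := d20_3 (iv4 F220841) (iv1 F400334) (iv4 F413375) (iv1 F505266) (iv3 F491693) (iv4 D218013) D218011 F491681 F412038 (iv1 F219138)
def n220742 : Q := act 3 n194437
theorem D220742 : act 3 n194437 = n220742 := rfl
theorem F505269 : act 4 n220742 = n194459 := d5_2 D194437 D220742 (iv3 D194459) (iv4 D103609) (iv3 F158904)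
theorem F505270 : act 5 n220742 = n212751 := d6_2 (iv5 F393215) D220742 F467351
theorem F505271 : act 6 n220742 = n194449 := d7_2 (iv6 F393213) D220742 (iv3 D194449)
theorem F505272 : act 7 n220742 = n204810 := d8_2 (iv7 F393214) D220742 F433674
theorem F505273 : act 0 n219804 = n220742 := d20_4 (iv4 D192214) D192213 (iv4 F386275) D219804 (iv3 D220742) (iv4 D194437) F353152 D192160 (iv3 F433563) F433565
def n220743 : Q := act 5 n194439
theorem D220743 : act 5 n194439 = n220743 := rfl
theorem F505274 : act 2 n220743 = n220694 := d2_1 D220743 (iv5 D220694) (iv2 F393221)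
theorem F505275 : act 3 n220743 = n204600 := d6_1 D220743 (iv5 F452635) F452633
theorem F505276 : act 6 n220743 = n204598 := d12_2 F393224 D220743 F473783 (iv6 D214159) (iv5 F247036)
theorem F505277 : act 7 n220743 = n220697 := d13_2 (iv7 F393222) D220743 (iv5 D220697)
theorem F505278 : act 0 n220743 = n202093 := d17_2 (iv1 F393223) D220743 (iv5 F463356) F463355 F372159 (iv0 F372158) D194229 (iv0 F393031) F393029
theorem F505279 : act 1 n220743 = n202085 := d17_6 (iv1 D103596) (iv5 D47983) D47981 D103590 D194439 D220743 (iv5 D202085) (iv0 F393250) (iv4 D194447)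
def n220744 : Q := act 0 n194444
theorem D220744 : act 0 n194444 = n220744 := rfl
theorem F505280 : act 4 n220744 = n214029 := d18_3 (iv1 F482163) F482160 D220744 F473178 F432762 D213591 F471197 (iv0 F471199) (iv5 F472880)
theorem F505281 : act 6 n220744 = n214352 := d21_5 F158274 (iv1 F75352) D103593 D194444 D220744 (iv5 D214352) F394601 F394598 (iv6 D194446) (iv1 F158948)
theorem F505282 : act 2 n220585 = n220744 := d15_3 (iv0 D220744) (iv0 F393241) D220585
theorem F505283 : act 1 n220408 = n220744 := d15_0 (iv0 D220744) (iv7 F416261) (iv2 F503638)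
theorem F505284 : act 7 n220744 = n194583 := d15_2 (iv0 F503641) F505283 F393756
theorem F505285 : act 3 n194463 = n220744 := d8_3 F505284 (iv3 D194583) (iv7 F393320)
def n220745 : Q := act 3 n194445
theorem D220745 : act 3 n194445 = n220745 := rfl
theorem F505286 : act 2 n220745 = n209849 := d0_1 D220745 (iv3 F489967) F489966 (iv3 F392444) (iv2 F393242)
theorem F505287 : act 4 n220745 = n203326 := d5_2 D194445 D220745 F427888 F385844 (iv3 F385845)
theorem F505288 : act 7 n220745 = n209671 := d8_2 (iv7 F393243) D220745 F454585
theorem F505289 : act 0 n220745 = n202063 := d19_4 D184128 F367108 D194445 D220745 (iv5 F481851) (iv4 D215865) D215864 (iv1 F481850) F387076 F356751 F142779 (iv1 F292936) (iv5 D22287) F17155 F14139 D9066 D19287 D40940 D87826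
theorem F505290 : act 0 n213196 = n220745 := d20_4 F203871 D126741 F347038 D213196 (iv3 D220745) (iv4 D194445) (iv1 F158948) F360759 F360758 F365113
theorem F505291 : act 6 n220745 = n210012 := d21_5 D193869 (iv1 F500500) F500502 (iv6 F469407) F505290 F455744 F391297 (iv5 F458552) F458551 (iv1 F385977)
def n220746 : Q := act 5 n194445
theorem D220746 : act 5 n194445 = n220746 := rfl
theorem F505292 : act 2 n220746 = n220698 := d2_1 D220746 (iv5 D220698) (iv2 F393242)
theorem F505293 : act 7 n220746 = n220699 := d13_2 (iv7 F393243) D220746 (iv5 D220699)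
theorem F505294 : act 1 n220746 = n202095 := d17_6 (iv1 F363043) F292221 D184128 F367108 D194445 D220746 F422871 (iv0 F401173) (iv4 D194230)
def n220747 : Q := act 6 n194445
theorem D220747 : act 6 n194445 = n220747 := rfl
theorem F505295 : act 2 n220747 = n202172 := d3_1 D220747 F423118 (iv2 F393242)
theorem F505296 : act 3 n220747 = n210012 := d7_1 D220747 (iv6 F505291) (iv3 D220745)
theorem F505297 : act 4 n220747 = n194446 := d10_1 D220747 (iv6 D194446) D194445
theorem F505298 : act 7 n220747 = n202005 := d14_2 (iv7 F393243) D220747 (iv6 D202005) F392461 (iv6 F392458)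
theorem F505299 : act 0 n220747 = n202173 := d21_4 (iv5 F422871) (iv1 F505294) (iv5 D220746) D220747 (iv6 F443611) F443613 (iv1 D156952) (iv5 F245463) F392427 F401173
theorem F505300 : act 5 n211683 = n220747 := d17_1 F502577 F505299 (iv5 F423120) F430758 F430757 F389019 D204167 F431297 D220193
theorem F505301 : act 1 n220747 = n201898 := d15_1 (iv0 F505299) F422285 D202173
def n220748 : Q := act 5 n194448
theorem D220748 : act 5 n194448 = n220748 := rfl
theorem F505302 : act 2 n220748 = n213061 := d2_1 D220748 (iv5 D213061) F393255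
theorem F505303 : act 3 n220748 = n213224 := d6_1 D220748 (iv5 D213224) (iv3 F393256)
theorem F505304 : act 4 n220748 = n220746 := d9_1 D220748 (iv5 D220746) (iv4 D194445) (iv5 F367108) (iv4 F428527) (iv5 D203489) F187729 D152829 D213215 F469456 (iv4 D194447) (iv5 F158943) (iv4 F380905) F380906 (iv4 F393253)
theorem F505305 : act 7 n220748 = n213212 := d13_2 (iv7 F393252) D220748 (iv5 D213212)
theorem F505306 : act 0 n220748 = n213214 := d17_2 (iv1 F393251) D220748 F469458 (iv4 D194561) F292221 (iv0 F343057) F158943 F158942 F360759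
theorem F505307 : act 1 n220748 = n213213 := d17_6 F393032 F393030 F382660 F380906 (iv4 F393253) D220748 F469453 (iv0 F474091) F474087
def n220749 : Q := act 0 n194449
theorem D220749 : act 0 n194449 = n220749 := rfl
theorem F505308 : act 3 n220749 = n220108 := d20_5 (iv4 D194447) (iv1 D103596) D103597 D194449 D220749 F502160 F462714 F462711 (iv3 F463354) (iv1 F463360)
theorem F505309 : act 2 n213062 = n220749 := d0_5 F505308 (iv2 F502161) (iv3 F501226) (iv2 F422893) D213062
theorem F505310 : act 0 n220749 = n196574 := d20_4 F400989 D202468 (iv4 F502160) (iv3 F505308) (iv3 F423858) F423859 (iv1 F357006) D212836 F467700 F400994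
def n220750 : Q := act 1 n194449
theorem D220750 : act 1 n194449 = n220750 := rfl
theorem F505311 : act 1 n220750 = n196574 := d15_1 D220750 (iv7 F472122) F472120
theorem F505312 : act 7 n220750 = n213062 := d15_2 (iv0 D220749) D220750 F505309
theorem F505313 : act 3 n201977 = n220750 := d20_3 (iv4 F438330) (iv1 F502898) (iv4 F502900) (iv1 D220750) (iv3 D194449) (iv4 D103597) D103595 D194445 D220745 F505289
theorem F505314 : act 6 n220750 = n196562 := d7_2 D201977 F505313 (iv3 F402270)
def n220751 : Q := act 5 n194449
theorem D220751 : act 5 n194449 = n220751 := rfl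
theorem F505315 : act 3 n220751 = n194450 := d6_1 D220751 (iv5 D194450) D194449
def n220752 : Q := act 7 n194449
theorem D220752 : act 7 n194449 = n220752 := rfl
theorem F505316 : act 2 n220752 = n196574 := d4_1 D220752 (iv7 F472122) F472120
theorem F505317 : act 3 n220752 = n194451 := d8_1 D220752 (iv7 D194451) D194449
theorem F505318 : act 4 n220752 = n194470 := d11_1 D220752 (iv7 D194470) (iv4 F393257)
theorem F505319 : act 6 n220752 = n204779 := d14_1 D220752 F433546 D204810 (iv7 F505272) F505271
theorem F505320 : act 0 n213062 = n220752 := d18_2 F499952 (iv4 F468829) F505318 F393346 F345203 (iv0 F351111) (iv4 F223523) (iv0 F449985) (iv5 F499954)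
def n220753 : Q := act 1 n194450
theorem D220753 : act 1 n194450 = n220753 := rfl
theorem F505321 : act 1 n220753 = n202112 := d15_1 D220753 F422907 (iv2 F393258)
theorem F505322 : act 7 n220753 = n213231 := d15_2 (iv0 F416019) D220753 (iv2 D213231)
theorem F505323 : act 5 n220753 = n220716 := d17_7 F350174 (iv5 D103593) (iv1 D47982) D47983 D103597 D194450 D220753 (iv0 D220716) (iv4 D194327)
theorem F505324 : act 4 n220753 = n220743 := d17_9 F505278 (iv5 F463356) (iv1 F463360) (iv5 F469456) (iv4 D213215) (iv5 D152829) (iv0 F366191) D194450 D220753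
theorem F505325 : act 3 n213237 = n220753 := d19_19 (iv1 D220753) (iv5 D194450) (iv4 D103597) F75355 D47991 F292223 (iv4 F291824) F68412 F291169 (iv5 D22251) D22250 D46443 F157767 D46528 D99539 D192026 (iv1 F475876) F475875 (iv4 F469527)
theorem F505326 : act 2 n220753 = n213067 := d0_1 F505325 (iv3 D213067) (iv2 F239547) D152869 D213237
def n220754 : Q := act 5 n194456
theorem D220754 : act 5 n194456 = n220754 := rfl
theorem F505327 : act 2 n220754 = n194545 := d2_1 D220754 (iv5 D194545) (iv2 F393287)
theorem F505328 : act 3 n220754 = n199098 := d6_1 D220754 F410649 (iv3 F393288)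
theorem F505329 : act 4 n220754 = n202759 := d9_1 D220754 (iv5 D202759) F182483 (iv5 F334486) F150022 D97277 (iv4 F337157) D213421 F470308 F464750 F228572 (iv5 F228589) F324928 F334492 D194456
theorem F505330 : act 7 n220754 = n194548 := d13_2 (iv7 F393289) D220754 (iv5 D194548)
theorem F505331 : act 0 n220754 = n213435 := d17_2 (iv1 F393290) D220754 F470388 F393617 F391367 F378012 (iv5 F378726) (iv0 D190058) D190060
theorem F505332 : act 1 n220754 = n214147 := d17_6 D103731 F320990 D127636 F334492 D194456 D220754 F473715 F390470 (iv4 D103733)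
def n220755 : Q := act 5 n194458
theorem D220755 : act 5 n194458 = n220755 := rfl
theorem F505333 : act 2 n220755 = n194553 := d2_1 D220755 (iv5 D194553) F393299
theorem F505334 : act 3 n220755 = n214282 := d6_1 D220755 F474386 (iv3 F469873)
theorem F505335 : act 4 n220755 = n215728 := d9_1 D220755 (iv5 D215728) (iv4 D177174) F341008 D127680 F361888 (iv4 F393291) (iv5 F464479) (iv4 D212145) (iv5 D145371) F104313 F330075 D127685 F350623 (iv4 F393298)
theorem F505336 : act 7 n220755 = n194550 := d13_2 (iv7 F393297) D220755 (iv5 D194550)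
theorem F505337 : act 6 n220755 = n213459 := d21_3 F393691 (iv1 F393296) D220755 (iv1 D213459) (iv6 D153789) F109236 (iv1 F109093) D153516 (iv6 F411213) F411214
def n220756 : Q := act 6 n194458
theorem D220756 : act 6 n194458 = n220756 := rfl
theorem F505338 : act 2 n220756 = n194554 := d3_1 D220756 (iv6 D194554) F393299
theorem F505339 : act 3 n220756 = n210361 := d7_1 D220756 F469875 (iv3 F469873)
theorem F505340 : act 4 n220756 = n207158 := d10_1 D220756 F443560 (iv4 F393298)
theorem F505341 : act 5 n220756 = n214281 := d12_1 D220756 (iv6 D214281) (iv5 F470498) (iv6 F505337) (iv5 D220755)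
theorem F505342 : act 0 n200308 = n220756 := d17_0 F505341 F474382 F440928 F400655 (iv5 F382210) (iv0 D191097) F340427 F175918 D200308
theorem F505343 : act 1 n196396 = n220756 := d17_6 (iv1 D128640) (iv5 D60498) D60495 (iv5 F358330) F176708 (iv5 F400581) F505341 (iv0 F474383) (iv4 D206461)
def n220757 : Q := act 2 n194459
theorem D220757 : act 2 n194459 = n220757 := rfl
theorem F505344 : act 3 n220757 = n194555 := d0_2 D194459 D220757 (iv2 D194555) (iv3 D103766) (iv2 F158953)
theorem F505345 : act 5 n220757 = n198283 := d2_2 F457252 D220757 F457253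
theorem F505346 : act 6 n220757 = n194469 := d3_2 (iv6 F393300) D220757 (iv2 D194469)
theorem F505347 : act 7 n196403 = n220757 := d15_2 (iv0 F393301) D196403 (iv2 D220757)
theorem F505348 : act 0 n196401 = n220757 := d21_4 (iv5 F412384) F412386 (iv5 F337405) D196401 F505346 F393340 (iv1 F345205) F362343 (iv6 D125494) (iv1 F330478)
theorem F505349 : act 0 n220757 = n196405 := d21_4 (iv5 D198332) (iv1 F345206) (iv5 F393340) (iv6 F505346) (iv6 F402248) (iv5 F498069) F498070 F480017 F480015 (iv1 F407643)
def n220758 : Q := act 7 n194459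
theorem D220758 : act 7 n194459 = n220758 := rfl
theorem F505350 : act 2 n220758 = n196403 := d4_1 D220758 F505347 (iv2 D220757)
theorem F505351 : act 3 n220758 = n194461 := d8_1 D220758 (iv7 D194461) D194459
theorem F505352 : act 4 n220758 = n204810 := d11_1 D220758 (iv7 F505272) F505269
theorem F505353 : act 5 n220758 = n198269 := d13_1 D220758 (iv7 F457255) F457252
theorem F505354 : act 6 n220758 = n198270 := d14_1 D220758 F407413 F393349 (iv7 D194470) (iv6 F393300)
theorem F505355 : act 1 n196401 = n220758 := d15_1 (iv0 F505348) (iv7 D220758) D220757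
theorem F505356 : act 1 n220758 = n196405 := d15_1 F505355 (iv7 D196405) (iv2 F400591)
def n220759 : Q := act 4 n194460
theorem D220759 : act 4 n194460 = n220759 := rfl
theorem F505357 : act 2 n220759 = n194558 := d1_1 D220759 (iv4 D194558) (iv2 F393302)
theorem F505358 : act 5 n220759 = n194528 := d9_2 D194460 D220759 F393591 F159159 F75493 (iv5 F75502) (iv4 F159196) (iv5 F393691) F393690 (iv5 D177184) (iv4 D84425) (iv5 D38926) (iv4 F36226) D47987 D103609
theorem F505359 : act 6 n220759 = n218248 := d10_2 F490491 D220759 F492952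
theorem F505360 : act 7 n220759 = n194527 := d11_2 F470430 D220759 (iv4 F470425)
theorem F505361 : act 0 n220759 = n196777 := d18_2 (iv1 F434279) D220759 (iv4 D196777) (iv5 D107311) (iv4 F350559) D194454 (iv4 F411208) (iv0 F481268) F481265
theorem F505362 : act 1 n220759 = n211549 := d18_6 (iv1 F406874) F337157 F150032 D103609 D194460 D220759 F462077 (iv0 D198111) D198112
theorem F505363 : act 3 n212100 = n220759 := d7_3 F505359 F492951 F466860
theorem F505364 : act 4 n209729 = n212100 := d5_0 F505363 (iv4 D220759) (iv3 F457257) F457250 (iv3 F457256)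
theorem F505365 : act 5 n209454 = n209729 := d9_0 F505364 (iv5 D212100) D212099 (iv5 F464323) D219625 F499741 (iv4 F453668) F454776 (iv4 F478206) (iv5 D212097) D212096 (iv5 F464303) D219626 (iv5 F504382) (iv4 F504383)
def n220760 : Q := act 6 n194461
theorem D220760 : act 6 n194461 = n220760 := rfl
theorem F505366 : act 2 n220760 = n194560 := d3_1 D220760 (iv6 D194560) (iv2 F393303)
theorem F505367 : act 3 n220760 = n198270 := d7_1 D220760 (iv6 F505354) F505351
theorem F505368 : act 4 n220760 = n194462 := d10_1 D220760 (iv6 D194462) (iv4 F393304)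
theorem F505369 : act 5 n220760 = n198267 := d12_1 D220760 (iv6 D198267) D198266 (iv6 F470427) F470424
theorem F505370 : act 7 n220760 = n194471 := d14_2 D194461 D220760 (iv6 D194471) (iv7 D103623) (iv6 F158954)
theorem F505371 : act 0 n220760 = n194595 := d21_10 F417110 F457621 F457619 (iv6 D142705) (iv1 F180292) D199217 F411194 D213443 F470424 D220760
theorem F505372 : act 0 n194594 = n220760 := d21_4 (iv5 D213711) (iv1 F350003) D202608 (iv6 F424727) (iv6 D220760) (iv5 F470424) (iv1 F470429) (iv5 F411226) (iv6 F424730) (iv1 F471743)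
def n220761 : Q := act 4 n194463
theorem D220761 : act 4 n194463 = n220761 := rfl
theorem F505373 : act 2 n220761 = n194580 := d1_1 D220761 (iv4 D194580) F393319
theorem F505374 : act 3 n220761 = n199811 := d5_1 D220761 (iv4 F432766) F473179 (iv4 F505280) (iv3 F505285)
theorem F505375 : act 7 n220761 = n194584 := d11_2 (iv7 F393320) D220761 (iv4 D194584)
theorem F505376 : act 5 n220761 = n204496 := d17_5 F488529 (iv5 D217340) F476702 (iv5 F476703) D220761 F471725 F466505 (iv0 F476876) F476874
theorem F505377 : act 0 n220761 = n194644 := d18_2 D194463 D220761 F393926 (iv5 F393954) F393953 (iv0 F488683) (iv4 D217386) (iv0 D187259) (iv5 F158977)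
theorem F505378 : act 1 n220761 = n194477 := d18_6 F381607 F369601 D187240 (iv4 F476699) (iv5 F476703) D220761 F393377 (iv0 F391375) F391374
def n220762 : Q := act 4 n194464
theorem D220762 : act 4 n194464 = n220762 := rfl
theorem F505379 : act 2 n220762 = n194584 := d1_1 D220762 (iv4 D194584) (iv2 F393316)
theorem F505380 : act 6 n220762 = n194533 := d10_2 F393314 D220762 (iv4 D194533)
theorem F505381 : act 7 n220762 = n194580 := d11_2 F393318 D220762 (iv4 D194580)
theorem F505382 : act 5 n220762 = n204495 := d17_5 F402397 D211754 F462966 F393315 D220762 F471734 (iv5 F471736) (iv0 D212201) (iv4 F402391)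
theorem F505383 : act 0 n220762 = n194477 := d18_2 (iv1 F393313) D220762 F393377 (iv5 F160417) (iv4 F369661) (iv0 F488685) (iv4 D217388) F369900 F369897
theorem F505384 : act 1 n220762 = n194644 := d18_6 (iv1 F488935) F488932 (iv1 F369845) (iv4 F381970) F393315 D220762 F393926 F393380 F476615
def n220763 : Q := act 1 n194471
theorem D220763 : act 1 n194471 = n220763 := rfl
theorem F505385 : act 1 n220763 = n194560 := d15_1 D220763 F393693 (iv2 F393350)
theorem F505386 : act 7 n220763 = n194594 := d15_2 (iv0 F471399) D220763 (iv2 F452937)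
theorem F505387 : act 4 n220763 = n194613 := d17_9 (iv1 D194613) F159273 F385686 D219718 F500240 F433541 (iv0 D204777) (iv5 F393353) D220763
theorem F505388 : act 3 n198227 = n220763 := d19_19 (iv1 D220763) F393353 F198849 (iv3 D84369) (iv1 F296388) (iv5 F325526) (iv4 F358846) F170310 (iv1 F326983) D124442 (iv4 F433647) F459207 (iv1 D210899) (iv5 F404997) (iv4 D197605) (iv3 F404908) F501379 (iv5 F502142) F502143
theorem F505389 : act 2 n220763 = n194595 := d0_1 F505388 (iv3 F452939) F452938 (iv3 F455685) F455684
def n220764 : Q := act 3 n194475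
theorem D220764 : act 3 n194475 = n220764 := rfl
theorem F505390 : act 2 n220764 = n196590 := d0_1 D220764 (iv3 D196590) (iv2 F352953) F393362 (iv2 F393368)
theorem F505391 : act 4 n220764 = n209663 := d5_2 F393366 D220764 (iv3 D209663) (iv4 F410654) (iv3 D199099)
theorem F505392 : act 5 n220764 = n202707 := d6_2 F393367 D220764 F425216
theorem F505393 : act 6 n220764 = n202709 := d7_2 F477103 D220764 (iv3 F477101)
theorem F505394 : act 7 n220764 = n194632 := d8_2 (iv7 F393365) D220764 (iv3 D194632)
theorem F505395 : act 0 n220764 = n200323 := d19_4 D199089 F410608 F393366 D220764 F415995 F414657 F289177 (iv1 F291640) D189752 (iv4 F387411) (iv3 D192664) F357935 (iv5 D139616) (iv4 F167298) (iv3 D108192) (iv1 D49970) D49972 (iv4 F80681) (iv3 F171937)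
theorem F505396 : act 0 n200321 = n220764 := d20_4 (iv4 F100978) (iv1 F245521) (iv4 F316037) (iv3 F415985) (iv3 D220764) (iv4 F393366) (iv1 F295620) F159227 F319042 F316682
def n220765 : Q := act 5 n194477
theorem D220765 : act 5 n194477 = n220765 := rfl
theorem F505397 : act 2 n220765 = n194643 := d2_1 D220765 (iv5 D194643) (iv2 F393376)
theorem F505398 : act 3 n220765 = n218278 := d6_1 D220765 F493080 F490376
theorem F505399 : act 6 n220765 = n194713 := d12_2 D194477 D220765 (iv5 D194713) F159712 (iv5 F294317)
theorem F505400 : act 0 n220765 = n199809 := d17_2 F505383 D220765 (iv5 F464735) (iv4 F488676) (iv5 D217387) (iv0 D187259) (iv5 F158977) D194464 D220762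
theorem F505401 : act 4 n214086 = n220765 := d16_0 (iv5 D220765) F393377 (iv5 F160417) (iv4 F369661) D217400 (iv4 F488740) F476125 (iv7 D214089) (iv2 F473423)
theorem F505402 : act 7 n199732 = n220765 := d14_0 F505399 (iv7 F457262) F457261 F412156 D199732
def n220766 : Q := act 7 n194477
theorem D220766 : act 7 n194477 = n220766 := rfl
theorem F505403 : act 2 n220766 = n194644 := d4_1 D220766 (iv7 D194644) (iv2 F393376)
theorem F505404 : act 3 n220766 = n197574 := d8_1 D220766 (iv7 F490378) F490376
theorem F505405 : act 4 n220766 = n194479 := d11_1 D220766 (iv7 D194479) (iv4 F393377)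
theorem F505406 : act 5 n220766 = n199732 := d13_1 D220766 F505402 (iv5 D220765)
theorem F505407 : act 6 n220766 = n194631 := d14_1 D220766 (iv7 D194631) (iv6 D103879) (iv7 F159010) D194477
theorem F505408 : act 1 n194584 = n220766 := d15_1 (iv0 F393913) (iv7 D220766) F393376
theorem F505409 : act 1 n220766 = n194580 := d15_1 F505408 (iv7 F505381) F505379
def n220767 : Q := act 3 n194478
theorem D220767 : act 3 n194478 = n220767 := rfl
theorem F505410 : act 2 n220767 = n220414 := d0_1 D220767 F503665 (iv2 F391380) F393385 (iv2 F393383)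
theorem F505411 : act 7 n220767 = n194648 := d8_2 (iv7 F393382) D220767 (iv3 D194648)
theorem F505412 : act 0 n220767 = n200322 := d20_4 (iv4 F159235) D194577 F393931 D220767 F415990 (iv4 F245476) D214015 F473141 (iv3 D194583) (iv1 D103810)
theorem F505413 : act 0 n213777 = n220767 := d20_4 F366536 F366526 (iv4 F244738) (iv3 F472049) (iv3 D220767) (iv4 F393931) F410677 F410672 F393323 (iv1 F366533)
def n220768 : Q := act 5 n194490
theorem D220768 : act 5 n194490 = n220768 := rfl
theorem F505414 : act 2 n220768 = n211027 := d2_1 D220768 F459790 F393425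
theorem F505415 : act 3 n220768 = n202456 := d6_1 D220768 (iv5 F431952) (iv3 F431949)
theorem F505416 : act 4 n220768 = n219798 := d9_1 D220768 (iv5 D219798) (iv4 D192267) (iv5 F361849) (iv4 F326524) F361846 D189879 D218686 F495149 (iv5 F404153) (iv4 D192269) (iv5 F367529) (iv4 F378814) (iv5 F380638) (iv4 F393424)
theorem F505417 : act 7 n220768 = n211026 := d13_2 F394640 D220768 F459787
theorem F505418 : act 0 n220768 = n194855 := d17_2 F394631 D220768 (iv5 D194855) (iv4 D104648) (iv5 F138103) D187368 (iv5 F370015) F160322 D194826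
theorem F505419 : act 1 n220768 = n210376 := d17_6 D190685 (iv5 F472053) (iv1 F472057) (iv5 F380638) (iv4 F393424) D220768 F457271 F395191 (iv4 D190687)
theorem F505420 : act 6 n213683 = n220768 := d21_5 F471604 (iv1 D213681) (iv5 D154702) D154703 D213683 (iv5 D220768) (iv1 D194490) D194492 (iv6 F466534) (iv1 F466525)
def n220769 : Q := act 4 n194492
theorem D220769 : act 4 n194492 = n220769 := rfl
theorem F505421 : act 2 n220769 = n212226 := d1_1 D220769 (iv4 F466529) (iv2 F466532)
theorem F505422 : act 5 n220769 = n219732 := d9_2 D194492 D220769 (iv4 D219732) (iv5 D192166) F153664 D104623 D194826 F394630 F386263 (iv5 D192273) (iv4 D99953) (iv5 D46684) (iv4 F36255) D48009 D103660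
theorem F505423 : act 6 n220769 = n197349 := d10_2 F466534 D220769 (iv4 F466522)
theorem F505424 : act 7 n220769 = n212225 := d11_2 F394646 D220769 F464826
theorem F505425 : act 0 n220769 = n212220 := d17_0 F464807 (iv1 D193927) D193929 F391426 (iv5 F394755) F394756 (iv5 F456483) F456486 D220769
theorem F505426 : act 1 n220769 = n212228 := d18_6 F393423 (iv4 D194489) (iv1 D103659) D103660 D194492 D220769 (iv4 F478997) F478999 (iv5 D198028)
def n220770 : Q := act 6 n194499
theorem D220770 : act 6 n194499 = n220770 := rfl
theorem F505427 : act 2 n220770 = n205389 := d3_1 D220770 F436209 (iv2 F393450)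
theorem F505428 : act 4 n220770 = n194500 := d10_1 D220770 (iv6 D194500) D194499
theorem F505429 : act 0 n220770 = n206568 := d21_4 (iv5 F490223) F490226 F441345 D220770 F441376 F411046 F398159 F398154 (iv6 F353194) (iv1 F394515)
theorem F505430 : act 5 n220770 = n206565 := d21_6 D163433 (iv1 F376285) F369394 D215104 F478370 D220770 (iv1 D206565) (iv5 F441186) (iv6 F441187) (iv1 D163431)
theorem F505431 : act 0 n205346 = n220770 := d21_4 (iv5 F220430) (iv1 F416880) F416882 D205346 (iv6 D220770) (iv5 F441345) (iv1 D206559) F362290 (iv6 F380252) F380254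
def n220771 : Q := act 5 n194501
theorem D220771 : act 5 n194501 = n220771 := rfl
theorem F505432 : act 2 n220771 = n200701 := d2_1 D220771 (iv5 F417553) F393454
theorem F505433 : act 3 n220771 = n207461 := d6_1 D220771 F445039 (iv3 F434005)
theorem F505434 : act 4 n220771 = n217611 := d9_1 D220771 (iv5 D217611) (iv4 D187645) D187646 F371098 F160245 (iv4 F393460) F418729 (iv4 F489760) F489764 (iv4 D187641) D187642 F371089 (iv5 F369999) (iv4 F393453)
theorem F505435 : act 6 n220771 = n196057 := d12_2 (iv6 F393457) D220771 (iv5 D196057) F342856 (iv5 F342864)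
theorem F505436 : act 7 n220771 = n201134 := d13_2 F393455 D220771 F419213
theorem F505437 : act 0 n220771 = n206087 := d17_2 D194501 D220771 (iv5 F496734) F496733 F394706 F350462 (iv5 F353191) (iv0 D103677) D103679
theorem F505438 : act 1 n220771 = n217041 := d17_6 D190598 F380257 (iv1 F370006) (iv5 F369999) (iv4 F393453) D220771 F487104 (iv0 F380262) (iv4 D190599)
def n220772 : Q := act 6 n194503
theorem D220772 : act 6 n194503 = n220772 := rfl
theorem F505439 : act 2 n220772 = n205212 := d3_1 D220772 F435464 (iv2 F393462)
theorem F505440 : act 3 n220772 = n214663 := d7_1 D220772 F476278 (iv3 F393463)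
theorem F505441 : act 4 n220772 = n194504 := d10_1 D220772 (iv6 D194504) (iv4 F393464)
theorem F505442 : act 5 n220772 = n215390 := d12_1 D220772 F479737 D219389 F498642 (iv5 F393465)
theorem F505443 : act 7 n220772 = n205209 := d14_2 D194503 D220772 (iv6 D205209) (iv7 F382094) F382093
theorem F505444 : act 0 n220772 = n205211 := d21_4 (iv5 F436375) F436376 (iv5 F393465) D220772 (iv6 F435460) F415178 F397856 F414479 F496736 (iv1 D219022)
theorem F505445 : act 0 n205210 = n220772 := d21_4 D195096 (iv1 F400026) (iv5 F206938) (iv6 F435459) (iv6 D220772) F393465 (iv1 F496743) (iv5 D219023) (iv6 F395744) (iv1 D195095)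
def n220773 : Q := act 0 n194511
theorem D220773 : act 0 n194511 = n220773 := rfl
theorem F505446 : act 5 n220773 = n202483 := d17_1 D220773 (iv1 D202483) F330013 F346301 (iv5 D89723) (iv0 F136298) (iv5 F157444) (iv0 F347303) (iv4 F393509)
theorem F505447 : act 4 n220773 = n203727 := d18_1 D220773 (iv1 F429564) F385455 (iv5 D151282) D151281 (iv0 F429219) F429217 F457591 F457589
theorem F505448 : act 3 n220773 = n194518 := d20_5 (iv4 D146622) (iv1 F183911) (iv4 F319867) D194511 D220773 (iv4 F426462) F465718 F465715 F426235 F243196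
theorem F505449 : act 6 n220773 = n204424 := d21_5 (iv5 D149190) F315813 F314651 (iv6 F393510) D220773 (iv5 F478787) F478786 (iv5 F433890) F433891 F234561
theorem F505450 : act 2 n210819 = n220773 := d15_3 (iv0 D220773) F420788 (iv7 F458893)
theorem F505451 : act 1 n212855 = n220773 := d15_0 (iv0 D220773) (iv7 F426438) (iv2 F467800)
theorem F505452 : act 7 n220773 = n203726 := d15_2 (iv0 F467805) F505451 F429555
def n220774 : Q := act 0 n194513
theorem D220774 : act 0 n194513 = n220774 := rfl
theorem F505453 : act 5 n220774 = n201607 := d17_1 D220774 (iv1 F454111) (iv5 D209554) F314612 (iv5 F162530) F397387 F397382 (iv0 D194512) D194513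
theorem F505454 : act 4 n220774 = n198597 := d18_3 (iv1 F334899) D194513 D220774 F408452 F338193 (iv0 F397380) F397378 (iv0 F341054) (iv5 D140771)
theorem F505455 : act 2 n198591 = n220774 := d15_3 (iv0 D220774) F393518 D198591
theorem F505456 : act 3 n220774 = n204802 := d0_2 (iv3 F408423) F505455 (iv2 F433636) F220015 (iv2 F169563)
theorem F505457 : act 6 n220774 = n209418 := d3_2 (iv6 F408425) F505455 (iv2 D209418)
theorem F505458 : act 7 n220774 = n198589 := d4_2 D198591 F505455 (iv2 D198589)
theorem F505459 : act 1 n198588 = n220774 := d15_1 D198588 F505458 (iv2 D198589)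
def n220775 : Q := act 7 n194513
theorem D220775 : act 7 n194513 = n220775 := rfl
theorem F505460 : act 2 n220775 = n198588 := d4_1 D220775 (iv7 F463522) F463520
theorem F505461 : act 3 n220775 = n212099 := d8_1 D220775 F464308 F451478
theorem F505462 : act 4 n220775 = n194514 := d11_1 D220775 (iv7 D194514) D194513
theorem F505463 : act 5 n220775 = n213020 := d13_1 D220775 F468623 (iv5 F393517)
theorem F505464 : act 6 n220775 = n210007 := d14_1 D220775 F455729 F238171 F348203 (iv6 F393516)
theorem F505465 : act 1 n198589 = n220775 := d15_1 F463525 (iv7 D220775) (iv2 F463520)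
theorem F505466 : act 1 n220775 = n198591 := d15_1 F505465 (iv7 D198591) D198589
def n220776 : Q := act 5 n194518
theorem D220776 : act 5 n194518 = n220776 := rfl
theorem F505467 : act 2 n220776 = n202575 := d2_1 D220776 F424576 F393544
theorem F505468 : act 3 n220776 = n202483 := d6_1 D220776 (iv5 F505446) F505448
theorem F505469 : act 6 n220776 = n212036 := d12_2 F393545 D220776 (iv5 D212036) (iv6 F439388) (iv5 D206132)
theorem F505470 : act 7 n220776 = n202574 := d13_2 (iv7 F393543) D220776 F424569
theorem F505471 : act 0 n220776 = n194524 := d17_2 (iv1 F393547) D220776 F393578 F352620 D203079 (iv0 F487513) F487512 (iv0 F465304) F465303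
theorem F505472 : act 4 n220776 = n210739 := d17_4 D197490 F404537 (iv1 F393547) D220776 (iv5 F469494) (iv0 F469496) F363546 (iv0 F366573) F245492
theorem F505473 : act 1 n220776 = n202577 := d17_6 F426409 F470196 (iv1 F483483) F483480 F426462 D220776 (iv5 F425985) (iv0 D202875) (iv4 F184133)
def n220777 : Q := act 4 n194519
theorem D220777 : act 4 n194519 = n220777 := rfl
theorem F505474 : act 2 n220777 = n194520 := d1_1 D220777 (iv4 D194520) D194519
theorem F505475 : act 3 n220777 = n195230 := d5_1 D220777 (iv4 D195230) (iv3 D105445) D105446 (iv3 F393548)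
theorem F505476 : act 6 n220777 = n211291 := d10_2 (iv6 F449531) D220777 F460990
theorem F505477 : act 7 n220777 = n212321 := d11_2 (iv7 F393549) D220777 F465303
theorem F505478 : act 5 n220777 = n203080 := d17_5 F364334 (iv5 F239723) (iv1 F393563) F393552 D220777 (iv0 D203080) (iv5 D117650) D117649 (iv4 F352620)
theorem F505479 : act 0 n220777 = n204442 := d17_0 (iv5 F502013) (iv1 F502017) F487893 F426389 F341009 (iv0 F424571) F424569 F393551 D220777
theorem F505480 : act 1 n220777 = n202928 := d18_6 (iv1 F318398) D117680 D203103 F426977 F393552 D220777 F426227 (iv0 F233279) F318400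
def n220778 : Q := act 5 n194520
theorem D220778 : act 5 n194520 = n220778 := rfl
theorem F505481 : act 2 n220778 = n203080 := d2_1 D220778 (iv5 F505478) F505474
theorem F505482 : act 3 n220778 = n216969 := d6_1 D220778 (iv5 D216969) (iv3 F393553)
theorem F505483 : act 7 n220778 = n203081 := d13_2 (iv7 F393554) D220778 (iv5 F426898)
theorem F505484 : act 0 n220778 = n203074 := d17_2 F393556 D220778 (iv5 D203074) F184238 F318292 (iv0 F318290) (iv5 F320612) (iv0 F349381) (iv4 F368570)
theorem F505485 : act 1 n220778 = n202962 := d17_6 (iv1 F424582) (iv5 F468732) F468734 (iv5 D194521) D194520 D220778 (iv5 D202962) D202961 F426395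
def n220779 : Q := act 3 n194523
theorem D220779 : act 3 n194523 = n220779 := rfl
theorem F505486 : act 4 n220779 = n213186 := d5_2 D194523 D220779 (iv3 D213186) (iv4 F393560) F393558
theorem F505487 : act 6 n220779 = n211147 := d7_2 (iv6 F393573) D220779 (iv3 D211147)
theorem F505488 : act 7 n220779 = n213433 := d8_2 (iv7 F393574) D220779 (iv3 D213433)
theorem F505489 : act 0 n220779 = n199561 := d19_4 (iv1 F75489) D103706 D194523 D220779 (iv5 D199561) F172894 (iv3 F215941) F331641 (iv5 D148518) (iv4 D69602) (iv3 F85672) F232234 F50261 (iv4 F52204) F305019 (iv1 F85719) F85715 (iv4 F311061) (iv3 F313313)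
def n220780 : Q := act 3 n194525
theorem D220780 : act 3 n194525 = n220780 := rfl
theorem F505490 : act 2 n220780 = n215892 := d0_1 D220780 F481959 (iv2 F436654) F436655 F393584
theorem F505491 : act 4 n220780 = n211034 := d5_2 (iv4 F393582) D220780 F459821 F359816 (iv3 F324912)
theorem F505492 : act 6 n220780 = n212193 := d7_2 (iv6 F393583) D220780 F464706
theorem F505493 : act 7 n220780 = n202757 := d8_2 (iv7 F393585) D220780 F425447
theorem F505494 : act 0 n220780 = n218268 := d19_4 F240650 (iv5 F324913) (iv4 F393582) D220780 (iv5 D218268) (iv4 D188889) (iv3 F206225) F370629 F370628 (iv4 D153925) (iv3 F311118) (iv1 F313412) F110193 (iv4 F112622) (iv3 F115993) F192009 (iv5 F128450) (iv4 F323507) (iv3 F105161)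
theorem F505495 : act 0 n218266 = n220780 := d18_2 D202433 (iv4 F493039) F505491 F459822 F272933 (iv0 F358934) (iv4 F277900) (iv0 D178317) (iv5 F353305)
def n220781 : Q := act 5 n194525
theorem D220781 : act 5 n194525 = n220781 := rfl
theorem F505496 : act 2 n220781 = n212208 := d2_1 D220781 F464750 F393584
theorem F505497 : act 4 n220781 = n194548 := d9_1 D220781 (iv5 D194548) (iv4 D103762) (iv5 F148717) F334494 (iv5 D68240) (iv4 F104396) D145516 (iv4 F393671) (iv5 D194545) (iv4 D103757) (iv5 F288198) F334491 (iv5 F324913) (iv4 F393582)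
theorem F505498 : act 6 n220781 = n213377 := d12_2 (iv6 F393583) D220781 (iv5 F498177) F498175 F382284
theorem F505499 : act 7 n220781 = n202759 := d13_2 (iv7 F393585) D220781 (iv5 D202759)
theorem F505500 : act 0 n220781 = n212207 := d17_2 D194525 D220781 F464746 F434665 F201180 F204798 (iv5 F341052) (iv0 D103708) D103710
theorem F505501 : act 1 n220781 = n212206 := d17_6 (iv1 F322381) (iv5 F105162) F240650 (iv5 F324913) (iv4 F393582) D220781 F464741 F439373 F225783
def n220782 : Q := act 5 n194526
theorem D220782 : act 5 n194526 = n220782 := rfl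
theorem F505502 : act 2 n220782 = n212097 := d2_1 D220782 (iv5 D212097) (iv2 F393598)
theorem F505503 : act 3 n220782 = n194527 := d6_1 D220782 (iv5 D194527) D194526
theorem F505504 : act 6 n220782 = n199744 := d12_2 (iv6 F393587) D220782 F413340 (iv6 F361593) F348197
theorem F505505 : act 7 n220782 = n212100 := d13_2 F393597 D220782 (iv5 D212100)
def n220783 : Q := act 5 n194531
theorem D220783 : act 5 n194531 = n220783 := rfl
theorem F505506 : act 3 n220783 = n204586 := d6_1 D220783 F432955 F398699
theorem F505507 : act 7 n220783 = n204583 := d13_2 F411207 D220783 F432942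
theorem F505508 : act 0 n220783 = n212145 := d17_2 (iv1 F411196) D220783 F464479 F393291 (iv5 F361888) F361891 D190677 F380545 (iv4 F411193)
theorem F505509 : act 1 n220783 = n220755 := d17_6 F150033 (iv5 D97277) (iv1 F334488) (iv5 F320990) D194531 D220783 (iv5 D220755) F393296 F159196
theorem F505510 : act 6 n220783 = n199551 := d21_3 (iv5 F411194) (iv1 F411196) D220783 (iv1 F453018) F453016 (iv5 F372005) (iv1 F372008) (iv5 F371748) (iv6 F371749) F372009
def n220784 : Q := act 6 n194531
theorem D220784 : act 6 n194531 = n220784 := rfl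
theorem F505511 : act 2 n220784 = n212535 := d3_1 D220784 F466313 (iv2 F411204)
theorem F505512 : act 3 n220784 = n211009 := d7_1 D220784 F459737 F398699
theorem F505513 : act 4 n220784 = n194532 := d10_1 D220784 (iv6 D194532) D194531
theorem F505514 : act 5 n220784 = n211007 := d12_1 D220784 (iv6 D211007) (iv5 F412640) (iv6 F505510) (iv5 D220783)
theorem F505515 : act 0 n219874 = n220784 := d21_4 D212196 F464714 (iv5 F480036) (iv6 F500985) (iv6 D220784) D220783 F505508 F464479 (iv6 F464243) F476921
def n220785 : Q := act 0 n194532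
theorem D220785 : act 0 n194532 = n220785 := rfl
theorem F505516 : act 5 n220785 = n198402 := d17_3 F359596 (iv5 F393614) D220785 (iv4 F415412) F415413 D220210 F502664 (iv0 F436404) (iv4 F359595)
theorem F505517 : act 4 n220785 = n196867 := d18_3 F505515 F505513 D220785 (iv5 F464516) (iv4 F464518) (iv0 D193198) (iv4 F389144) (iv0 F423735) (iv5 F500983)
theorem F505518 : act 3 n220785 = n195683 := d20_5 (iv4 F502580) F502582 F500826 (iv3 F393613) D220785 (iv4 D195683) F167347 (iv4 F404523) (iv3 F474863) (iv1 F480364)
theorem F505519 : act 6 n220785 = n196866 := d21_5 (iv5 D97277) (iv1 F334488) (iv5 F320990) D194532 D220785 F402085 F392525 (iv5 F159198) (iv6 D103769) F150033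
theorem F505520 : act 1 n194582 = n220785 := d15_0 (iv0 D220785) (iv7 F476707) F476704
theorem F505521 : act 2 n198403 = n220785 := d3_3 F505519 (iv2 F402086) (iv6 F407898)
theorem F505522 : act 7 n205501 = n220785 := d14_0 F505519 F402084 (iv6 F393698) (iv7 F415740) (iv6 F436727)
def n220786 : Q := act 1 n194532
theorem D220786 : act 1 n194532 = n220786 := rfl
theorem F505523 : act 1 n220786 = n194582 := d15_1 D220786 F393755 (iv2 F393612)
theorem F505524 : act 7 n220786 = n198403 := d15_2 (iv0 D220785) D220786 F505521
theorem F505525 : act 5 n220786 = n198404 := d17_7 (iv1 F193073) D162821 (iv1 F333975) (iv5 D147385) (iv4 F205192) (iv5 F393614) D220786 (iv0 F430072) (iv4 D203842)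
theorem F505526 : act 3 n198413 = n220786 := d19_19 (iv1 D220786) F393614 F205192 (iv3 F231094) F354859 (iv5 F423604) F423603 F423212 D202202 F433628 (iv4 F501219) (iv3 F501216) (iv1 F455053) F455051 F391286 F321218 (iv1 F351428) F351429 (iv4 F407940)
theorem F505527 : act 6 n194564 = n220786 := d21_3 (iv5 F495634) F498051 F498050 (iv1 D220786) (iv6 D194532) F320990 D127636 F334492 F361618 F402379
theorem F505528 : act 2 n220786 = n205501 := d3_1 F505527 F436727 F415742
def n220787 : Q := act 5 n194533
theorem D220787 : act 5 n194533 = n220787 := rfl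
theorem F505529 : act 2 n220787 = n204583 := d2_1 D220787 F432942 (iv2 F411209)
theorem F505530 : act 6 n220787 = n204579 := d12_2 F505380 D220787 (iv5 D204579) (iv6 F432704) (iv5 F505382)
theorem F505531 : act 4 n220787 = n206180 := d16_2 D194533 D220787 (iv5 D206180) (iv4 D127690) (iv5 D59946) (iv4 F94414) (iv5 F320990) (iv7 F393275) (iv2 F393277)
theorem F505532 : act 0 n220787 = n220755 := d17_2 (iv1 F411227) D220787 (iv5 D220755) F393298 (iv5 F350623) (iv0 F368498) F368496 (iv0 F378703) (iv4 F411225)
theorem F505533 : act 1 n220787 = n212145 := d17_6 D103608 (iv5 F334492) (iv1 F334496) (iv5 F334498) D194533 D220787 F464479 (iv0 D194457) (iv4 D103609)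
def n220788 : Q := act 3 n194534
theorem D220788 : act 3 n194534 = n220788 := rfl
theorem F505534 : act 2 n220788 = n220559 := d0_1 D220788 (iv3 D220559) F391349 (iv3 F356928) F393618
theorem F505535 : act 4 n220788 = n196712 := d5_2 (iv4 F393617) D220788 (iv3 F401569) F397202 (iv3 F391366)
theorem F505536 : act 5 n220788 = n196371 := d6_2 F470388 D220788 (iv3 F470386)
theorem F505537 : act 7 n220788 = n196370 := d8_2 (iv7 F393616) D220788 F400495
theorem F505538 : act 0 n220788 = n195930 := d20_4 (iv4 D215726) (iv1 F391369) (iv4 F393617) D220788 F398756 (iv4 F389515) (iv1 D193341) D193342 F411205 (iv1 F481269)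
theorem F505539 : act 1 n220788 = n211392 := d15_1 (iv0 F505538) F461385 F406948
def n220789 : Q := act 6 n194548
theorem D220789 : act 6 n194548 = n220789 := rfl
theorem F505540 : act 2 n220789 = n215250 := d3_1 D220789 F479045 F470305
theorem F505541 : act 3 n220789 = n199094 := d7_1 D220789 F410633 (iv3 F393678)
theorem F505542 : act 4 n220789 = n213377 := d10_1 D220789 (iv6 F505498) F505497
theorem F505543 : act 5 n220789 = n199091 := d12_1 D220789 (iv6 D199091) (iv5 D110925) (iv6 F337155) D194548
theorem F505544 : act 0 n220789 = n203976 := d21_4 (iv5 F406802) F390577 D194548 D220789 F430674 F206045 F94875 D72732 D153728 F406803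
theorem F505545 : act 0 n215249 = n220789 := d21_4 F467934 (iv1 F432466) (iv5 F420143) (iv6 F479041) (iv6 D220789) (iv5 D194548) F366332 (iv5 F406886) (iv6 F471792) F471795
theorem F505546 : act 7 n215251 = n220789 := d13_0 F505543 (iv7 F435565) (iv5 F479046)
def n220790 : Q := act 1 n194550
theorem D220790 : act 1 n194550 = n220790 := rfl
theorem F505547 : act 1 n220790 = n194553 := d15_1 D220790 F464480 F464478
theorem F505548 : act 7 n220790 = n220787 := d15_2 (iv0 F432945) D220790 F505529
theorem F505549 : act 5 n220790 = n199219 := d17_7 F348025 F348024 D189857 (iv5 F378726) (iv4 F378730) D194550 D220790 (iv0 D199219) (iv4 F346808)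
theorem F505550 : act 4 n220790 = n212207 := d17_9 (iv1 D212207) (iv5 D145516) (iv1 F363401) D194527 (iv4 F470425) F470424 F393306 D194550 D220790
theorem F505551 : act 3 n217799 = n220790 := d19_19 (iv1 D220790) (iv5 D194550) F378730 F389446 (iv1 F397753) F397751 F163151 F77439 (iv1 F37463) D49154 D106383 D195866 F418742 (iv5 D126291) F93403 (iv3 F161538) D195161 F396031 (iv4 F490689)
theorem F505552 : act 6 n210142 = n220790 := d21_3 (iv5 F438146) (iv1 F459246) F459248 (iv1 D220790) F473425 (iv5 F495974) F495975 D219279 F498093 (iv1 F412874)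
theorem F505553 : act 2 n220790 = n220783 := d3_1 F505552 F505510 F456332
def n220791 : Q := act 5 n194551
theorem D220791 : act 5 n194551 = n220791 := rfl
theorem F505554 : act 2 n220791 = n219253 := d2_1 D220791 F497952 (iv2 F464245)
theorem F505555 : act 6 n220791 = n218869 := d12_2 D194551 D220791 F495974 (iv6 F473425) (iv5 D194550)
theorem F505556 : act 0 n220791 = n218056 := d17_2 F464702 D220791 (iv5 D218056) F373423 F159215 D190206 (iv5 F379076) (iv0 F361617) (iv4 F256840)
theorem F505557 : act 1 n220791 = n215449 := d17_6 (iv1 F497513) F497510 (iv1 F381434) (iv5 F495579) F495578 D220791 (iv5 D215449) D215447 (iv4 F480038)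
theorem F505558 : act 4 n218870 = n220791 := d16_0 (iv5 D220791) (iv4 F495578) F495579 F410850 (iv5 D199140) F390650 (iv5 F497743) F497744 F497681
def n220792 : Q := act 5 n194552
theorem D220792 : act 5 n194552 = n220792 := rfl
theorem F505559 : act 2 n220792 = n217983 := d2_1 D220792 F493351 F493347
theorem F505560 : act 3 n220792 = n194553 := d6_1 D220792 (iv5 D194553) D194552
theorem F505561 : act 6 n220792 = n217576 := d12_2 F406876 D220792 F489583 (iv6 F477603) F400841
theorem F505562 : act 7 n220792 = n218362 := d13_2 F464241 D220792 (iv5 F493503)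
theorem F505563 : act 4 n220792 = n217577 := d16_2 F455628 D220792 F489589 (iv4 F499964) F499965 (iv4 F503171) F503173 F455632 F455633
theorem F505564 : act 0 n220792 = n196736 := d21_1 D220792 (iv5 D196736) D196737 (iv1 F401642) (iv6 F410779) F410776 (iv1 F455661) (iv5 D209991) D209992 F455665
theorem F505565 : act 0 n199231 = n220792 := d21_10 (iv5 D220792) F406875 (iv5 F439809) (iv6 D206227) F372041 F450952 (iv5 F482449) F482451 (iv5 F450978) (iv6 F451029)
def n220793 : Q := act 5 n194554
theorem D220793 : act 5 n194554 = n220793 := rfl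
theorem F505566 : act 2 n220793 = n214281 := d2_1 D220793 (iv5 F505341) F505338
theorem F505567 : act 3 n220793 = n196495 := d6_1 D220793 F400841 (iv3 F406877)
theorem F505568 : act 6 n220793 = n214280 := d12_2 D194554 D220793 F474377 F407369 (iv5 D194553)
theorem F505569 : act 4 n220793 = n206508 := d16_2 F495590 D220793 F441134 (iv4 F399953) (iv5 F478417) F478415 (iv5 F447715) F447716 (iv2 F495588)
theorem F505570 : act 7 n220793 = n199125 := d16_8 F479647 F477409 F399342 (iv5 F498197) F498198 (iv5 F495591) F495590 D220793 (iv2 F479646)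
theorem F505571 : act 0 n220793 = n206642 := d17_2 (iv1 F463418) D220793 F441714 (iv4 D194572) D194573 F393725 F163777 D112843 F407690
theorem F505572 : act 1 n220793 = n206640 := d17_6 D103880 D194633 (iv1 F478793) (iv5 F495591) F495590 D220793 F441706 (iv0 F363562) F159305
def n220794 : Q := act 7 n194554
theorem D220794 : act 7 n194554 = n220794 := rfl
theorem F505573 : act 3 n220794 = n196392 := d8_1 D220794 F400839 (iv3 F406877)
theorem F505574 : act 4 n220794 = n220428 := d11_1 D220794 F503727 F495590
theorem F505575 : act 5 n220794 = n199125 := d13_1 D220794 (iv7 F505570) (iv5 D220793)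
theorem F505576 : act 6 n220794 = n214801 := d14_1 D220794 F476918 F464243 (iv7 F393293) D194554
theorem F505577 : act 1 n200308 = n220794 := d15_1 (iv0 F505342) (iv7 D220794) (iv2 F505338)
theorem F505578 : act 1 n220794 = n196396 := d15_1 F505577 (iv7 F407689) (iv2 F415931)
def n220795 : Q := act 6 n194559
theorem D220795 : act 6 n194559 = n220795 := rfl
theorem F505579 : act 2 n220795 = n198266 := d3_1 D220795 (iv6 F470427) (iv2 F470428)
theorem F505580 : act 3 n220795 = n198273 := d7_1 D220795 (iv6 F490342) F490340
theorem F505581 : act 4 n220795 = n199431 := d10_1 D220795 (iv6 F412167) (iv4 F393690)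
theorem F505582 : act 7 n220795 = n198287 := d14_2 D194559 D220795 F407481 F387638 (iv6 F371749)
theorem F505583 : act 0 n220795 = n198215 := d21_4 F464479 (iv1 F393294) (iv5 F393691) D220795 F407256 (iv5 F400152) F400155 (iv5 F412640) (iv6 F505510) F505508
theorem F505584 : act 5 n220795 = n198198 := d21_6 F109236 (iv1 F109093) D153516 (iv6 F411213) F411214 D220795 (iv1 D198198) (iv5 F355977) (iv6 D128392) F109237
theorem F505585 : act 0 n198289 = n220795 := d21_4 (iv5 F365127) (iv1 F407334) (iv5 F473628) (iv6 F473632) (iv6 D220795) F393691 (iv1 F393296) D220755 F505337 (iv1 D213459)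
def n220796 : Q := act 5 n194560
theorem D220796 : act 5 n194560 = n220796 := rfl
theorem F505586 : act 2 n220796 = n198267 := d2_1 D220796 (iv5 F505369) F505366
theorem F505587 : act 3 n220796 = n198274 := d6_1 D220796 (iv5 F433856) F433857
theorem F505588 : act 4 n220796 = n205470 := d9_1 D220796 F436591 (iv4 F493595) (iv5 D218378) F375970 (iv5 F158997) (iv4 F393352) F393353 F198849 D177016 (iv4 F480828) F480829 F392812 (iv5 F159198) (iv4 F393692)
theorem F505589 : act 6 n220796 = n198198 := d12_2 D194560 D220796 (iv5 F505584) (iv6 D220795) F393691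
theorem F505590 : act 7 n220796 = n194596 := d13_2 (iv7 F393693) D220796 (iv5 D194596)
theorem F505591 : act 0 n220796 = n198219 := d17_2 F452935 D220796 (iv5 F461963) F462774 F462772 F443679 F443676 F393830 (iv4 F452934)
theorem F505592 : act 1 n220796 = n204777 := d17_6 F410905 F402085 F392525 (iv5 F159198) (iv4 F393692) D220796 (iv5 F433541) F476053 F476049
def n220797 : Q := act 6 n194561
theorem D220797 : act 6 n194561 = n220797 := rfl
theorem F505593 : act 2 n220797 = n210744 := d3_1 D220797 F458674 (iv2 F393694)
theorem F505594 : act 4 n220797 = n194562 := d10_1 D220797 (iv6 D194562) D194561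
theorem F505595 : act 7 n220797 = n210737 := d14_2 F423679 D220797 (iv6 D210737) F222802 D202336
theorem F505596 : act 0 n220797 = n202415 := d21_4 D220748 F505306 F469458 D220797 (iv6 D202415) (iv5 F422624) (iv1 F422626) D202114 F422918 (iv1 F393251)
theorem F505597 : act 0 n210742 = n220797 := d21_4 (iv5 F245562) (iv1 F388801) D220194 (iv6 F502583) (iv6 D220797) (iv5 F469458) (iv1 D213214) (iv5 D152829) D152830 F415148
def n220798 : Q := act 0 n194562
theorem D220798 : act 0 n194562 = n220798 := rfl
theorem F505598 : act 3 n220798 = n219459 := d20_5 (iv4 F480445) (iv1 F480037) F373423 (iv3 F393696) D220798 F498972 F383647 (iv4 F391524) (iv3 F497508) (iv1 F497512)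
theorem F505599 : act 6 n220798 = n202417 := d21_5 (iv5 F158943) F343057 (iv5 F292221) D194562 D220798 (iv5 F423922) (iv1 F423923) (iv5 F422924) F422925 (iv1 F158942)
theorem F505600 : act 2 n220378 = n220798 := d3_3 F505599 (iv2 F423920) D220378
theorem F505601 : act 0 n220798 = n210741 := d21_4 (iv5 F467436) F467438 F423922 (iv6 F505599) (iv6 D210741) (iv5 F414043) F414046 (iv5 F423720) (iv6 F473362) F473364
theorem F505602 : act 7 n220718 = n220798 := d15_2 (iv0 F503491) D220718 (iv2 F505600)
def n220799 : Q := act 1 n194562
theorem D220799 : act 1 n194562 = n220799 := rfl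
theorem F505603 : act 1 n220799 = n210741 := d15_1 D220799 F458668 (iv2 F393695)
theorem F505604 : act 7 n220799 = n220378 := d15_2 (iv0 D220798) D220799 F505600
theorem F505605 : act 3 n220070 = n220799 := d20_3 F503457 (iv1 F484893) (iv4 F501964) (iv1 D220799) F393696 (iv4 F373423) (iv1 F480043) (iv4 F480038) (iv3 F393856) D220371
theorem F505606 : act 6 n220587 = n220799 := d21_3 (iv5 F479200) F479201 (iv5 F504481) (iv1 D220799) (iv6 D194562) F292221 D184128 F367108 D194446 F408673
theorem F505607 : act 2 n220718 = n220799 := d4_3 F505604 F505600 (iv7 F505602)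
def n220800 : Q := act 7 n194562
theorem D220800 : act 7 n194562 = n220800 := rfl
theorem F505608 : act 2 n220800 = n210741 := d4_1 D220800 F458668 (iv2 F393695)
theorem F505609 : act 3 n220800 = n194565 := d8_1 D220800 (iv7 D194565) (iv3 F393696)
theorem F505610 : act 4 n220800 = n210737 := d11_1 D220800 (iv7 F505595) F505594
theorem F505611 : act 5 n220800 = n218876 := d13_1 D220800 (iv7 D218876) (iv5 F393697)
theorem F505612 : act 6 n220800 = n210736 := d14_1 D220800 F458649 (iv6 F391500) F373305 D194562
theorem F505613 : act 1 n220718 = n220800 := d15_1 D220718 (iv7 D220800) F393695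
theorem F505614 : act 1 n220800 = n220378 := d15_1 F505613 (iv7 F505604) (iv2 F505607)
def n220801 : Q := act 0 n194566
theorem D220801 : act 0 n194566 = n220801 := rfl
theorem F505615 : act 5 n220801 = n208833 := d17_3 F489354 (iv5 F393706) D220801 F451049 D208837 (iv0 F455142) F455141 F483881 (iv4 F489351)
theorem F505616 : act 6 n220565 = n220801 := d12_0 F505615 (iv6 D208833) (iv5 F451047) (iv6 F499744) (iv5 F504382)
def n220802 : Q := act 2 n194566
theorem D220802 : act 2 n194566 = n220802 := rfl
theorem F505617 : act 4 n220802 = n214434 := d1_2 F505222 D220802 (iv2 F505221)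
theorem F505618 : act 5 n220802 = n217718 := d2_2 (iv5 F393706) D220802 F490296
def n220803 : Q := act 6 n194566
theorem D220803 : act 6 n194566 = n220803 := rfl
theorem F505619 : act 3 n220803 = n194567 := d7_1 D220803 (iv6 D194567) D194566
theorem F505620 : act 4 n220803 = n220593 := d10_1 D220803 (iv6 F505223) F505222
theorem F505621 : act 7 n220803 = n220589 := d14_2 F393861 D220803 (iv6 D220589) F401800 (iv6 F401804)
theorem F505622 : act 0 n220803 = n214620 := d20_1 (iv4 F505620) F476087 F455863 F455943 F455940 (iv4 F349902) (iv1 D173364) D173365 D215342 (iv1 F504511)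
def n220804 : Q := act 5 n194567
theorem D220804 : act 5 n194567 = n220804 := rfl
theorem F505623 : act 6 n220804 = n220733 := d12_2 D194567 D220804 (iv5 D220733) (iv6 D194407) (iv5 F294252)
theorem F505624 : act 0 n220804 = n205102 := d17_2 F488954 D220804 (iv5 D205102) F201794 (iv5 F379070) (iv0 D190205) (iv5 F159215) D194564 F488953
theorem F505625 : act 1 n220804 = n218832 := d17_8 F491867 (iv5 D218045) (iv1 F393705) F393703 (iv4 F496007) F496008 (iv0 F402047) D220804 F495836
def n220805 : Q := act 0 n194568
theorem D220805 : act 0 n194568 = n220805 := rfl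
theorem F505626 : act 5 n220805 = n198758 := d19_1 D220805 (iv4 F450435) (iv3 F502498) F502501 F489617 F487314 D217232 (iv1 F492758) (iv5 D218214) (iv4 D188769) F143064 F251773 (iv5 F367180) F154234 (iv3 D91286) (iv1 F75190) D103346 (iv4 F294256) D194568
theorem F505627 : act 4 n220805 = n212804 := d20_2 F397180 D220805 F467584 (iv1 F438376) (iv3 F438459) (iv4 F438460) D209866 F455193 (iv3 F482574) F482576
theorem F505628 : act 3 n220805 = n195891 := d20_5 (iv4 D103630) F294251 (iv4 F294256) D194568 D220805 F398616 (iv1 F376010) (iv4 F352781) F352780 (iv1 F294316)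
theorem F505629 : act 6 n195888 = n220805 := d7_0 F505628 (iv6 D195891) D195888
def n220806 : Q := act 1 n194568
theorem D220806 : act 1 n194568 = n220806 := rfl
theorem F505630 : act 5 n220806 = n203768 := d17_7 (iv1 D85876) D85877 D179810 F444181 F444178 F394214 D220806 (iv0 F429753) (iv4 D179807)
theorem F505631 : act 4 n212805 = n220806 := d20_6 (iv4 D194321) (iv1 F379151) (iv4 F383081) (iv3 F388057) (iv1 F499697) F499698 (iv1 D220806) (iv4 F397180) F397179 (iv1 F392821)
theorem F505632 : act 6 n204540 = n220806 := d12_0 F505630 (iv6 D203768) F191936 D123977 D204540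
def n220807 : Q := act 2 n194568
theorem D220807 : act 2 n194568 = n220807 := rfl
theorem F505633 : act 5 n220807 = n210367 := d2_2 F394214 D220807 (iv2 F457223)
def n220808 : Q := act 4 n194573
theorem D220808 : act 4 n194573 = n220808 := rfl
theorem F505634 : act 2 n220808 = n198969 := d1_1 D220808 F410100 (iv2 F393722)
theorem F505635 : act 3 n220808 = n201235 := d5_1 D220808 (iv4 D201235) (iv3 F419563) F419565 (iv3 F393723)
theorem F505636 : act 5 n220808 = n206479 := d9_2 D194573 D220808 (iv4 D206479) (iv5 F349607) D206640 F441706 F363563 D194571 F393720 (iv5 F441025) (iv4 D206480) F358266 D206642 F441714 (iv4 D194572)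
theorem F505637 : act 6 n220808 = n214899 := d10_2 (iv6 F393726) D220808 F477334
theorem F505638 : act 7 n220808 = n219292 := d11_2 (iv7 F393724) D220808 (iv4 D219292)
theorem F505639 : act 0 n220808 = n215112 := d17_0 F478417 (iv1 D196219) (iv5 F382207) F382206 (iv5 F358271) F175923 (iv5 F382218) F393727 D220808
theorem F505640 : act 1 n220808 = n219300 := d18_6 (iv1 F393375) (iv4 F410718) F410720 (iv4 D194572) D194573 D220808 F498198 F478793 (iv5 D194633)
def n220809 : Q := act 3 n194577
theorem D220809 : act 3 n194577 = n220809 := rfl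
theorem F505641 : act 4 n220809 = n197369 := d20_6 (iv4 D107759) (iv1 F80706) (iv4 F171988) F362346 D194577 D220809 (iv1 D197369) (iv4 F201823) F201822 (iv1 F166511)
theorem F505642 : act 6 n197998 = n220809 := d10_0 F505641 (iv6 F460033) F460030
theorem F505643 : act 0 n204540 = n220809 := d18_0 F505641 (iv1 D197369) (iv4 F201823) (iv5 F409221) F409220 F431565 F443976 (iv0 D204538) D204540
theorem F505644 : act 5 n220809 = n199518 := d17_3 (iv1 D204539) D204540 F505643 F412494 (iv5 F430797) (iv0 F431570) (iv5 D204229) (iv0 F410563) (iv4 F443983)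
theorem F505645 : act 2 n211096 = n220809 := d2_3 F505644 (iv2 F412947) (iv5 F460079)
def n220810 : Q := act 5 n194577
theorem D220810 : act 5 n194577 = n220810 := rfl
theorem F505646 : act 2 n220810 = n213723 := d2_1 D220810 F471798 F393930
theorem F505647 : act 3 n220810 = n199518 := d6_1 D220810 (iv5 F505644) (iv3 D220809)
theorem F505648 : act 7 n220810 = n213724 := d13_2 F393949 D220810 (iv5 F471802)
theorem F505649 : act 0 n220810 = n199537 := d17_2 D194577 D220810 F412575 (iv4 F462790) (iv5 F488535) F488538 (iv5 D194581) (iv0 D103809) (iv4 F159235)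
theorem F505650 : act 4 n220810 = n217815 := d18_5 F505383 F393377 D194478 (iv4 F393931) D220810 (iv0 F490772) F467856 (iv0 F466506) (iv5 F505382)
theorem F505651 : act 6 n220810 = n213721 := d21_3 (iv5 D194579) D194577 D220810 (iv1 D213721) (iv6 F464475) (iv5 D212144) (iv1 D145370) D145371 (iv6 F402457) F402458
theorem F505652 : act 0 n212111 = n220810 := d21_10 (iv5 D220810) F410677 F410673 (iv6 D197916) (iv1 F406699) (iv6 D147931) (iv5 D69306) D69303 D147923 (iv6 F464362)
def n220811 : Q := act 6 n194577
theorem D220811 : act 6 n194577 = n220811 := rfl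
theorem F505653 : act 3 n220811 = n197998 := d7_1 D220811 F505642 (iv3 D220809)
theorem F505654 : act 4 n220811 = n214742 := d10_1 D220811 F476617 (iv4 F393931)
theorem F505655 : act 5 n220811 = n196975 := d12_1 D220811 F402495 (iv5 F471786) (iv6 F505651) (iv5 D220810)
theorem F505656 : act 7 n220811 = n196773 := d14_2 F393949 D220811 (iv6 D196773) (iv7 F393616) (iv6 F393948)
theorem F505657 : act 0 n196867 = n220811 := d21_4 (iv5 F406840) (iv1 F406841) (iv5 F402072) D196867 (iv6 D220811) D220810 F505649 F412575 F410812 (iv1 F406899)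
def n220812 : Q := act 5 n194578
theorem D220812 : act 5 n194578 = n220812 := rfl
theorem F505658 : act 2 n220812 = n213724 := d2_1 D220812 (iv5 F471802) F393947
theorem F505659 : act 3 n220812 = n209731 := d6_1 D220812 F464326 (iv3 F393744)
theorem F505660 : act 7 n220812 = n213723 := d13_2 F393927 D220812 F471798
theorem F505661 : act 0 n220812 = n212111 := d17_2 F410675 D220812 (iv5 D212111) (iv4 F425672) (iv5 F425676) (iv0 F379182) F379183 F393326 (iv4 F410672)
theorem F505662 : act 1 n220812 = n199537 := d17_6 F503419 F503417 (iv1 F488934) (iv5 F391374) F393743 D220812 F412575 (iv0 D199132) (iv4 F410806)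
theorem F505663 : act 4 n220812 = n209734 := d18_5 F505377 F393926 (iv1 F391376) F393743 D220812 F498097 F498095 F471735 (iv5 F505376)
def n220813 : Q := act 0 n194579
theorem D220813 : act 0 n194579 = n220813 := rfl
theorem F505664 : act 5 n220813 = n199134 := d21_2 D194579 D220813 F410823 (iv1 F402436) (iv6 D194546) D194545 (iv1 F401752) (iv5 D196774) (iv6 F393745) (iv1 D194578)
theorem F505665 : act 1 n197916 = n220813 := d15_0 (iv0 D220813) (iv7 F410686) F410683
theorem F505666 : act 7 n220813 = n199133 := d15_2 (iv0 F410676) F505665 F410819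
theorem F505667 : act 3 n204538 = n220813 := d19_19 (iv1 F505665) (iv5 F410673) F410672 F393323 (iv1 F366533) (iv5 F379161) (iv4 F379162) F379049 (iv1 F369743) (iv5 D97044) (iv4 F72925) F72924 D46263 D98858 D191729 (iv3 F449433) D211221 F460668 F443976
def n220814 : Q := act 4 n194579
theorem D220814 : act 4 n194579 = n220814 := rfl
theorem F505668 : act 2 n220814 = n197920 := d1_1 D220814 F470361 F470356
theorem F505669 : act 6 n220814 = n204939 := d10_2 (iv6 F393746) D220814 F434261
theorem F505670 : act 7 n220814 = n197907 := d11_2 F410686 D220814 F410687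
theorem F505671 : act 0 n220814 = n197918 := d17_0 (iv5 F497653) (iv1 F497656) F477548 F440371 (iv5 F402455) F410824 (iv5 F505664) (iv0 D220813) D220814
theorem F505672 : act 1 n220814 = n197917 := d18_6 (iv1 F505408) (iv4 D194584) (iv1 D103810) (iv4 F159235) D194579 D220814 F464731 (iv0 F464732) (iv5 F505406)
theorem F505673 : act 3 n220178 = n220814 := d7_3 F505669 F434260 D220178
def n220815 : Q := act 0 n194585
theorem D220815 : act 0 n194585 = n220815 := rfl
theorem F505674 : act 5 n220815 = n216505 := d17_3 F371641 (iv5 F393762) D220815 F503713 (iv5 D220425) (iv0 D193642) (iv5 F373574) (iv0 F427837) F427835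
theorem F505675 : act 4 n220815 = n209205 := d18_1 D220815 F452709 F385262 (iv5 F401118) F471880 (iv0 D208836) (iv4 F451049) (iv0 F459448) (iv5 F393762)
theorem F505676 : act 6 n220815 = n199135 := d21_5 F389084 (iv1 F433738) (iv5 F502811) (iv6 F502817) D220815 F410826 (iv1 F398730) F398732 D210167 (iv1 F456440)
theorem F505677 : act 2 n209718 = n220815 := d15_3 (iv0 D220815) (iv0 F490310) F490309
theorem F505678 : act 1 n219016 = n220815 := d15_0 (iv0 D220815) F393763 D219016
theorem F505679 : act 7 n220815 = n209804 := d15_2 (iv0 F496699) F505678 (iv2 F490306)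
def n220816 : Q := act 2 n194585
theorem D220816 : act 2 n194585 = n220816 := rfl
theorem F505680 : act 3 n220816 = n216026 := d0_2 D194585 D220816 F482599 (iv3 D194610) F159269
theorem F505681 : act 4 n220816 = n203403 := d1_2 (iv4 F393761) D220816 (iv2 F428159)
theorem F505682 : act 5 n220816 = n216025 := d2_2 (iv5 F393762) D220816 F482595
theorem F505683 : act 6 n220816 = n214618 := d3_2 (iv6 F502817) D220816 F502814
theorem F505684 : act 7 n220816 = n219016 := d4_2 (iv7 F393763) D220816 (iv2 D219016)
theorem F505685 : act 1 n220816 = n209804 := d15_0 (iv0 F455009) (iv7 F393763) D220816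
theorem F505686 : act 1 n209718 = n220816 := d15_0 F505685 (iv7 F505679) (iv2 F505677)
def n220817 : Q := act 6 n194589
theorem D220817 : act 6 n194589 = n220817 := rfl
theorem F505687 : act 2 n220817 = n213713 := d3_1 D220817 F471756 F415090
theorem F505688 : act 3 n220817 = n219842 := d7_1 D220817 (iv6 D219842) (iv3 F393769)
theorem F505689 : act 4 n220817 = n194590 := d10_1 D220817 (iv6 D194590) D194589
theorem F505690 : act 5 n220817 = n214084 := d12_1 D220817 F473413 F466491 D220213 F502682
theorem F505691 : act 7 n220817 = n213712 := d14_2 F479885 D220817 (iv6 F471749) (iv7 F415932) (iv6 F479888)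
theorem F505692 : act 0 n220817 = n212501 := d21_10 (iv5 D212501) (iv1 F316881) (iv5 F424740) (iv6 F480041) (iv1 F480438) (iv6 F480440) F477018 F502683 F502682 D220817
theorem F505693 : act 1 n220817 = n213714 := d15_1 (iv0 F505692) (iv7 D213714) (iv2 F466117)
def n220818 : Q := act 0 n194596
theorem D220818 : act 0 n194596 = n220818 := rfl
theorem F505694 : act 4 n220818 = n198085 := d18_1 D220818 (iv1 D198085) F168920 D108939 (iv4 F393827) (iv0 F462768) (iv4 F462770) (iv0 D194594) D194596
theorem F505695 : act 3 n220818 = n198209 := d20_5 (iv4 F345547) F345543 (iv4 F199040) (iv3 F393782) D220818 (iv4 F455379) (iv1 F455381) F433750 F433752 F406749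
theorem F505696 : act 2 n204777 = n220818 := d15_3 (iv0 D220818) (iv0 F429409) F433542
theorem F505697 : act 1 n198267 = n220818 := d15_0 (iv0 D220818) (iv7 F505590) F505586
theorem F505698 : act 7 n220818 = n198219 := d15_2 (iv0 F429408) F505697 (iv2 F429406)
def n220819 : Q := act 6 n194600
theorem D220819 : act 6 n194600 = n220819 := rfl
theorem F505699 : act 2 n220819 = n212171 := d3_1 D220819 (iv6 F477097) F477094
theorem F505700 : act 4 n220819 = n211162 := d10_1 D220819 F460396 (iv4 F393787)
theorem F505701 : act 5 n220819 = n194924 := d12_1 D220819 F395023 (iv5 F393789) (iv6 D194601) D194600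
theorem F505702 : act 7 n220819 = n194923 := d14_2 (iv7 F440312) D220819 F395017 (iv7 F378800) D206336
theorem F505703 : act 0 n220819 = n194874 := d21_4 (iv5 F75524) D103849 D194600 D220819 (iv6 F394835) (iv5 F498001) (iv1 F498003) (iv5 F496197) (iv6 D194392) (iv1 D103288)
theorem F505704 : act 0 n194871 = n220819 := d21_4 (iv5 F147140) (iv1 F334512) D191067 (iv6 F394819) (iv6 D220819) (iv5 D194600) (iv1 F393312) F393309 (iv6 D194246) (iv1 F158282)
def n220820 : Q := act 6 n194613
theorem D220820 : act 6 n194613 = n220820 := rfl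
theorem F505705 : act 2 n220820 = n220364 := d3_1 D220820 (iv6 D220364) (iv2 F393824)
theorem F505706 : act 3 n220820 = n211718 := d7_1 D220820 F462833 F415731
theorem F505707 : act 5 n220820 = n217366 := d12_1 D220820 F488596 F379202 (iv6 F389970) F393823
theorem F505708 : act 7 n220820 = n211728 := d14_2 F462767 D220820 F462879 (iv7 F408508) (iv6 F462766)
theorem F505709 : act 0 n196959 = n220820 := d21_4 D199218 F411200 (iv5 D196958) D196959 (iv6 D220820) (iv5 F393823) (iv1 F389972) (iv5 F410949) (iv6 D199161) F172274
def n220821 : Q := act 1 n194616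
theorem D220821 : act 1 n194616 = n220821 := rfl
theorem F505710 : act 7 n220821 = n211706 := d15_2 (iv0 F462754) D220821 F462782
theorem F505711 : act 4 n220821 = n196640 := d18_7 F481953 (iv4 D215890) (iv1 D178124) (iv4 F197905) D204302 F431961 D220821 (iv0 F402110) F402109
theorem F505712 : act 3 n194623 = n220821 := d19_19 (iv1 D220821) (iv5 F492252) F492251 F462893 (iv1 F226776) (iv5 D112866) F82358 (iv3 F48451) F161296 D74500 D156669 F326026 F298313 (iv5 F298314) (iv4 F273416) (iv3 F464711) F464714 (iv5 F480036) F480445
theorem F505713 : act 6 n196639 = n220821 := d21_3 F415159 (iv1 F476987) F476984 (iv1 D220821) (iv6 D194616) F360294 (iv1 F373243) (iv5 F373245) (iv6 F388045) (iv1 F415162)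
theorem F505714 : act 2 n220821 = n212160 := d3_1 F505713 (iv6 D212160) (iv2 F401292)
def n220822 : Q := act 7 n194616
theorem D220822 : act 7 n194616 = n220822 := rfl
theorem F505715 : act 3 n220822 = n199160 := d8_1 D220822 F410945 (iv3 F393839)
theorem F505716 : act 4 n220822 = n202619 := d11_1 D220822 (iv7 F431958) F431961
theorem F505717 : act 5 n220822 = n208093 := d13_1 D220822 F492253 F492252
theorem F505718 : act 6 n220822 = n199159 := d14_1 D220822 F410939 F397282 (iv7 F375091) D194616
theorem F505719 : act 1 n212160 = n220822 := d15_1 (iv0 F493020) (iv7 D220822) (iv2 F493016)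
theorem F505720 : act 1 n220822 = n211706 := d15_1 F505719 (iv7 F505710) F505714
def n220823 : Q := act 0 n194620
theorem D220823 : act 0 n194620 = n220823 := rfl
theorem F505721 : act 5 n220823 = n215218 := d17_3 (iv1 F458618) (iv5 F393851) D220823 F478926 F366927 D215198 F478844 F450698 (iv4 F458616)
theorem F505722 : act 3 n220823 = n206371 := d20_5 (iv4 D48089) D48087 D103873 D194620 D220823 F440469 (iv1 F376059) F376056 (iv3 D188433) (iv1 F293300)
theorem F505723 : act 1 n220807 = n220823 := d15_0 (iv0 D220823) F393852 D220807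
theorem F505724 : act 7 n220805 = n220823 := d8_0 F505722 (iv7 F440471) (iv3 F505628)
theorem F505725 : act 2 n220806 = n220823 := d2_3 F505721 F478924 (iv5 F505630)
def n220824 : Q := act 1 n194620
theorem D220824 : act 1 n194620 = n220824 := rfl
theorem F505726 : act 7 n220824 = n220806 := d15_2 (iv0 D220823) D220824 F505725
theorem F505727 : act 5 n220824 = n216513 := d17_7 (iv1 F279926) (iv5 F280034) F473583 F473580 F387224 (iv5 F393851) D220824 F484747 F404974
theorem F505728 : act 3 n206356 = n220824 := d19_19 (iv1 D220824) F393851 (iv4 F387224) (iv3 D192605) (iv1 F387212) (iv5 F485825) (iv4 F501658) (iv3 D220015) (iv1 F458504) (iv5 D210705) F222696 F101168 D65478 (iv5 F343886) F343885 F136489 (iv1 F343890) (iv5 F386286) (iv4 F440390)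
theorem F505729 : act 4 n219899 = n220824 := d20_0 (iv1 D220824) (iv4 F505119) (iv3 D220712) (iv1 F414227) (iv3 F501115) F501114 (iv1 F466513) (iv4 F471678) F471677 F501116
theorem F505730 : act 2 n220824 = n220805 := d1_1 F505729 F505627 (iv2 F501099)
theorem F505731 : act 1 n220824 = n220807 := d18_8 (iv1 F458619) F458616 (iv1 F450698) F450700 F436710 (iv4 F427294) (iv0 F501102) F505729 F505633
def n220825 : Q := act 2 n194620
theorem D220825 : act 2 n194620 = n220825 := rfl
theorem F505732 : act 3 n220825 = n220802 := d0_2 D194620 D220825 (iv2 D220802) (iv3 D194566) (iv2 F159291)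
theorem F505733 : act 4 n220825 = n209653 := d1_2 F505119 D220825 (iv2 F505118)
theorem F505734 : act 5 n220825 = n210729 := d2_2 (iv5 F393851) D220825 F458613
theorem F505735 : act 7 n220825 = n220807 := d4_2 (iv7 F393852) D220825 (iv2 D220807)
theorem F505736 : act 1 n220825 = n220805 := d15_0 (iv0 D220805) (iv7 F393852) D220825
theorem F505737 : act 1 n220806 = n220825 := d15_0 F505736 F505724 (iv2 F505725)
theorem F505738 : act 6 n220825 = n211399 := d21_5 (iv5 D198807) (iv1 F362600) (iv5 F398628) F505629 (iv1 F505736) (iv5 D211399) F405896 D203897 F430288 (iv1 F409346)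
theorem F505739 : act 0 n198395 = n213362 := d17_2 (iv1 D198394) D198395 F470089 (iv4 F505733) F505734 F458609 F457228 (iv0 F401871) F407866
def n220826 : Q := act 6 n194620
theorem D220826 : act 6 n194620 = n220826 := rfl
theorem F505740 : act 2 n220826 = n211399 := d3_1 D220826 (iv6 F505738) (iv2 D220825)
theorem F505741 : act 3 n220826 = n194621 := d7_1 D220826 (iv6 D194621) D194620
theorem F505742 : act 5 n220826 = n211324 := d12_1 D220826 F461119 (iv5 F457132) (iv6 F457133) (iv5 F393851)
theorem F505743 : act 7 n220826 = n215330 := d14_2 (iv7 F393852) D220826 F479431 F401201 (iv6 F397178)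
theorem F505744 : act 0 n220826 = n198136 := d21_4 F460119 (iv1 F458618) (iv5 F393851) D220826 (iv6 D198136) (iv5 D108951) F168522 (iv5 F405632) (iv6 F482600) F482603
theorem F505745 : act 0 n215331 = n220826 := d21_4 (iv5 F436723) F436724 F406448 (iv6 F479435) (iv6 D220826) F393851 F450697 (iv5 F407036) (iv6 D198160) D198158
def n220827 : Q := act 5 n194621
theorem D220827 : act 5 n194621 = n220827 := rfl
theorem F505746 : act 2 n220827 = n220804 := d2_1 D220827 (iv5 D220804) (iv2 F393853)
theorem F505747 : act 3 n220827 = n211324 := d6_1 D220827 (iv5 F505742) F505741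
theorem F505748 : act 6 n220827 = n211334 := d12_2 D194621 D220827 F461170 (iv6 D184082) (iv5 F293231)
theorem F505749 : act 0 n220827 = n219147 := d17_2 (iv1 F445466) D220827 F497425 F407859 F393676 (iv0 D187331) F352785 D188392 (iv4 F445461)
theorem F505750 : act 7 n220309 = n220827 := d8_0 F505747 F461127 (iv3 F503124)
def n220828 : Q := act 7 n194621
theorem D220828 : act 7 n194621 = n220828 := rfl
theorem F505751 : act 2 n220828 = n199164 := d4_1 D220828 F410963 (iv2 F393853)
theorem F505752 : act 3 n220828 = n215330 := d8_1 D220828 (iv7 F505743) F505741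
theorem F505753 : act 4 n220828 = n194624 := d11_1 D220828 (iv7 D194624) (iv4 F393854)
theorem F505754 : act 5 n220828 = n220309 := d13_1 D220828 F505750 (iv5 D220827)
theorem F505755 : act 6 n220828 = n198371 := d14_1 D220828 F407792 F345149 (iv7 F159292) D194621
theorem F505756 : act 1 n217455 = n220828 := d15_1 (iv0 F488954) (iv7 D220828) F393853
theorem F505757 : act 1 n220828 = n196854 := d15_1 F505756 (iv7 F445464) (iv2 F488951)
def n220829 : Q := act 5 n194622
theorem D220829 : act 5 n194622 = n220829 := rfl
theorem F505758 : act 3 n220829 = n215499 := d6_1 D220829 F480232 F393856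
theorem F505759 : act 6 n220829 = n218831 := d12_2 (iv6 F393855) D220829 F495833 (iv6 D193513) D193512
theorem F505760 : act 7 n220829 = n215496 := d13_2 (iv7 F477024) D220829 F480226
theorem F505761 : act 4 n220829 = n220827 := d16_2 (iv4 F480038) D220829 (iv5 D220827) F393854 F159295 (iv4 F379046) (iv5 F480036) (iv7 F480444) (iv2 F480443)
theorem F505762 : act 0 n220829 = n219210 := d17_2 D194622 D220829 F497743 (iv4 F390650) D199140 F488958 (iv5 F491861) (iv0 F491862) F393854
theorem F505763 : act 1 n220829 = n218870 := d17_8 F505556 (iv5 D218056) (iv1 F480043) (iv5 F497486) F497485 (iv5 F497510) F497513 D220829 F505558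
def n220830 : Q := act 0 n194625
theorem D220830 : act 0 n194625 = n220830 := rfl
theorem F505764 : act 5 n220830 = n210949 := d17_1 D220830 F482598 (iv5 F505682) F505681 F472838 (iv0 F469576) F428189 D214435 (iv4 F475168)
theorem F505765 : act 3 n220830 = n206348 := d20_5 (iv4 D48106) (iv1 F75557) D103876 D194625 D220830 (iv4 F472531) (iv1 F491932) (iv4 D218055) F373419 (iv1 F293298)
theorem F505766 : act 4 n220830 = n209426 := d20_8 F475226 F505026 F505023 (iv3 F500003) F500001 F475167 (iv4 F475168) D220830 (iv3 F472533) F475228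
theorem F505767 : act 1 n220802 = n220830 := d15_0 (iv0 D220830) F393861 D220802
theorem F505768 : act 6 n209425 = n220830 := d21_9 F505618 (iv1 D217718) D217720 F490308 (iv1 F464404) (iv6 F410607) F459441 (iv1 D210950) (iv5 F453641) (iv1 F505767)
theorem F505769 : act 2 n220830 = n217727 := d3_1 F505768 F490346 (iv2 F453638)
theorem F505770 : act 7 n220801 = n220830 := d16_8 F490347 F434940 F351169 (iv5 F468801) F468800 (iv5 D208837) (iv4 F451049) (iv5 F505615) F505769
def n220831 : Q := act 1 n194625
theorem D220831 : act 1 n194625 = n220831 := rfl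
theorem F505771 : act 7 n220831 = n217727 := d15_2 (iv0 D220830) D220831 (iv2 F505769)
theorem F505772 : act 5 n220831 = n216511 := d17_7 F451304 (iv5 F454980) F503908 F503905 F484695 (iv5 F393860) D220831 (iv0 F484740) F482596
theorem F505773 : act 3 n201309 = n220831 := d20_3 F237849 F178148 D201309 (iv1 D220831) (iv3 D194625) (iv4 D103876) (iv1 D48088) D48089 D103878 F365231
theorem F505774 : act 4 n209491 = n220831 := d20_6 (iv4 D219676) (iv1 F453890) (iv4 D209484) D209483 (iv1 F471236) F471232 (iv1 D220831) F475168 (iv3 F475167) (iv1 F499996)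
theorem F505775 : act 1 n220831 = n220802 := d18_6 F469576 (iv4 D213251) (iv1 F468850) F468847 (iv5 F455021) F505774 F505617 (iv0 D214434) (iv5 F428189)
theorem F505776 : act 2 n220801 = n220831 := d15_3 F505775 F505767 (iv7 F505770)
def n220832 : Q := act 2 n194625
theorem D220832 : act 2 n194625 = n220832 := rfl
theorem F505777 : act 3 n220832 = n220807 := d0_2 D194625 D220832 (iv2 D220807) (iv3 D194568) (iv2 F159299)
theorem F505778 : act 4 n220832 = n209536 := d1_2 (iv4 F475168) D220832 F475170
theorem F505779 : act 5 n220832 = n208561 := d2_2 (iv5 F393860) D220832 F449897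
theorem F505780 : act 6 n220832 = n208562 := d3_2 (iv6 F401804) D220832 F449899
theorem F505781 : act 7 n220832 = n220802 := d4_2 (iv7 F393861) D220832 (iv2 D220802)
theorem F505782 : act 1 n220832 = n220801 := d15_0 (iv0 D220801) (iv7 F393861) D220832
theorem F505783 : act 1 n217727 = n220832 := d15_0 F505782 F505770 F505769
def n220833 : Q := act 5 n194632
theorem D220833 : act 5 n194632 = n220833 := rfl
theorem F505784 : act 2 n220833 = n208124 := d2_1 D220833 F447984 F415626
theorem F505785 : act 3 n220833 = n194633 := d6_1 D220833 (iv5 D194633) D194632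
theorem F505786 : act 6 n220833 = n211481 := d12_2 F401730 D220833 (iv5 F482330) F495438 F495433
theorem F505787 : act 7 n220833 = n202707 := d13_2 F505394 D220833 (iv5 F505392)
theorem F505788 : act 4 n220833 = n195980 := d16_4 (iv4 F472614) F472612 F404065 D220833 (iv5 F420507) F452530 F452529 (iv7 F434906) (iv2 F434908)
theorem F505789 : act 0 n220833 = n200021 := d17_2 F393882 D220833 (iv5 D200021) F403769 F396971 D197222 F403616 (iv0 F176186) F315165
theorem F505790 : act 1 n220833 = n200019 := d17_6 D200017 (iv5 F473303) F473305 F472612 F404065 D220833 (iv5 D200019) (iv0 D112253) (iv4 F174599)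
def n220834 : Q := act 6 n194633
theorem D220834 : act 6 n194633 = n220834 := rfl
theorem F505791 : act 2 n220834 = n196098 := d3_1 D220834 F399395 F399077
theorem F505792 : act 3 n220834 = n211481 := d7_1 D220834 (iv6 F505786) F505785
theorem F505793 : act 4 n220834 = n196096 := d10_1 D220834 (iv6 D196096) (iv4 F393884)
theorem F505794 : act 5 n220834 = n218743 := d12_1 D220834 (iv6 D218743) F378588 F366088 D194633
theorem F505795 : act 7 n220834 = n207611 := d14_2 (iv7 F393883) D220834 F445671 F355422 D191243
theorem F505796 : act 0 n220834 = n207612 := d21_4 (iv5 F294255) D103880 D194633 D220834 F445676 F382668 (iv1 F479761) F479758 F447253 (iv1 D181906)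
theorem F505797 : act 1 n220834 = n206409 := d15_1 (iv0 F505796) F440655 (iv2 F445675)
def n220835 : Q := act 0 n194640
theorem D220835 : act 0 n194640 = n220835 := rfl
theorem F505798 : act 5 n220835 = n211964 := d17_1 D220835 (iv1 F463762) F474458 F474455 F381556 (iv0 F366340) D190139 (iv0 F394657) (iv4 F393919)
theorem F505799 : act 4 n220835 = n215023 := d18_3 (iv1 D217172) (iv4 F393919) D220835 (iv5 D215023) (iv4 F361979) (iv0 F361980) (iv4 F149703) F381324 (iv5 F487780)
theorem F505800 : act 3 n220835 = n211971 := d20_5 D217469 F489024 F369909 (iv3 F393917) D220835 F463784 (iv1 F369865) (iv4 F457553) F457552 (iv1 F369893)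
theorem F505801 : act 2 n215148 = n220835 := d0_5 F505800 F463783 (iv3 F495850) (iv2 F495853) (iv3 F478562)
theorem F505802 : act 7 n211963 = n220835 := d8_0 F505800 (iv7 D211971) (iv3 F463760)
theorem F505803 : act 6 n220835 = n214748 := d14_1 F505802 F492223 D215144 (iv7 F492209) F492208
def n220836 : Q := act 1 n194640
theorem D220836 : act 1 n194640 = n220836 := rfl
theorem F505804 : act 7 n220836 = n215148 := d15_2 (iv0 D220835) D220836 F505801
theorem F505805 : act 5 n220836 = n211961 := d17_7 (iv1 D139372) D139373 F393907 (iv5 F393904) F393903 D194640 D220836 F463756 (iv4 D210540)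
theorem F505806 : act 4 n220836 = n217269 := d17_9 (iv1 D217269) (iv5 D187083) F368535 (iv5 F368534) (iv4 F262368) F393912 (iv0 D194638) D194640 D220836
theorem F505807 : act 3 n218837 = n220836 := d5_5 F505806 F488205 D219240 F497896 F495859
theorem F505808 : act 2 n220836 = n211963 := d0_1 F505807 F463760 (iv2 F425924) F425925 F495858
def n220837 : Q := act 7 n194640
theorem D220837 : act 7 n194640 = n220837 := rfl
theorem F505809 : act 3 n220837 = n194652 := d8_1 D220837 (iv7 D194652) (iv3 F393917)
theorem F505810 : act 4 n220837 = n217173 := d11_1 D220837 (iv7 D217173) (iv4 F393919)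
theorem F505811 : act 5 n220837 = n194641 := d13_1 D220837 (iv7 D194641) D194640
theorem F505812 : act 6 n220837 = n217404 := d14_1 D220837 F488752 (iv6 D194912) F160423 (iv6 F393918)
theorem F505813 : act 1 n211963 = n220837 := d15_1 (iv0 F497467) (iv7 D220837) (iv2 F497462)
theorem F505814 : act 1 n220837 = n215148 := d15_1 F505813 (iv7 F505804) F505808
def n220838 : Q := act 0 n194643
theorem D220838 : act 0 n194643 = n220838 := rfl
theorem F505815 : act 5 n220838 = n214792 := d17_1 D220838 F476876 (iv5 F466505) (iv4 F467856) (iv5 F496233) (iv0 F496236) (iv5 F496224) (iv0 D214087) F393925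
theorem F505816 : act 4 n220838 = n197918 := d18_1 D220838 (iv1 D197918) (iv4 F406193) (iv5 F410673) F410672 F393327 D194580 F393752 D194643
theorem F505817 : act 2 n199809 = n220838 := d15_3 (iv0 D220838) (iv0 F464729) (iv7 F464733)
theorem F505818 : act 3 n220838 = n214793 := d0_2 D199809 F505817 (iv2 F479985) F479986 (iv2 F410547)
theorem F505819 : act 6 n220838 = n213687 := d3_2 F470140 F505817 (iv2 F471633)
theorem F505820 : act 0 n220838 = n199732 := d19_4 (iv1 F374594) D218205 F492712 (iv3 F505818) (iv5 F505406) F505405 (iv3 F415643) F415646 (iv5 F495525) F495524 F447838 (iv1 F226816) (iv5 F226817) F226650 F176253 (iv1 F99784) (iv5 F101980) D133242 (iv3 F371337)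
def n220839 : Q := act 7 n194643
theorem D220839 : act 7 n194643 = n220839 := rfl
theorem F505821 : act 2 n220839 = n199732 := d4_1 D220839 F505402 F505397
theorem F505822 : act 4 n220839 = n214089 := d11_1 D220839 (iv7 D214089) F393925
theorem F505823 : act 5 n220839 = n194644 := d13_1 D220839 (iv7 D194644) D194643
theorem F505824 : act 6 n220839 = n199426 := d14_1 D220839 F412139 (iv6 F363305) (iv7 F245664) (iv6 F393924)
theorem F505825 : act 0 n199809 = n220839 := d19_0 F505823 F393926 (iv3 F393920) (iv1 F457608) (iv5 F478494) F478493 (iv3 D215027) (iv1 F259091) (iv5 F177929) F177928 (iv3 F142278) D188558 (iv5 F396211) (iv4 F432696) F432694 (iv1 F363290) (iv5 F362801) F363105 D199809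
def n220840 : Q := act 6 n194645
theorem D220840 : act 6 n194645 = n220840 := rfl
theorem F505826 : act 2 n220840 = n220811 := d3_1 D220840 (iv6 D220811) (iv2 F393930)
theorem F505827 : act 4 n220840 = n194647 := d10_1 D220840 (iv6 D194647) D194645
theorem F505828 : act 5 n220840 = n206271 := d12_1 D220840 (iv6 D206271) D206270 (iv6 F471797) F471798
theorem F505829 : act 7 n220840 = n220415 := d14_2 (iv7 F393927) D220840 (iv6 D220415) F390468 (iv6 F393745)
theorem F505830 : act 0 n220840 = n205315 := d21_4 F402455 D213723 F471798 D220840 (iv6 F445463) F445462 F495903 F495904 (iv6 F410823) (iv1 F410824)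
def n220841 : Q := act 1 n194648
theorem D220841 : act 1 n194648 = n220841 := rfl
theorem F505831 : act 1 n220841 = n220414 := d15_1 D220841 (iv7 D220414) (iv2 F393945)
theorem F505832 : act 7 n220841 = n213777 := d15_2 (iv0 F473725) D220841 F472048
theorem F505833 : act 3 n204994 = n220841 := d20_3 F366535 F404531 (iv4 F434509) (iv1 D220841) (iv3 D194648) D194649 (iv1 F393950) F362352 F362353 (iv1 F366534)
theorem F505834 : act 6 n200321 = n220841 := d21_3 D112255 D200022 (iv5 F415987) (iv1 D220841) F393946 (iv5 F473721) F473723 F467244 F414386 (iv1 D112254)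
theorem F505835 : act 2 n220841 = n200322 := d3_1 F505834 (iv6 D200322) D200321
theorem F505836 : act 4 n220841 = n200419 := d10_1 F505834 (iv6 D200419) (iv4 F415986)
def n220842 : Q := act 4 n194648
theorem D220842 : act 4 n194648 = n220842 := rfl
theorem F505837 : act 2 n220842 = n220412 := d1_1 D220842 F503658 (iv2 F393945)
theorem F505838 : act 6 n220842 = n195518 := d10_2 (iv6 F393946) D220842 F397202
def n220843 : Q := act 3 n194649
theorem D220843 : act 3 n194649 = n220843 := rfl
theorem F505839 : act 5 n220843 = n199639 := d6_2 (iv5 F471802) D220843 F471801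
theorem F505840 : act 6 n220843 = n220788 := d7_2 (iv6 F393948) D220843 (iv3 D220788)
theorem F505841 : act 7 n220843 = n220809 := d8_2 (iv7 F393949) D220843 (iv3 D220809)
def n220844 : Q := act 3 n194650
theorem D220844 : act 3 n194650 = n220844 := rfl
theorem F505842 : act 6 n220844 = n215515 := d7_2 (iv6 F488992) D220844 F488998
theorem F505843 : act 7 n220844 = n220374 := d8_2 (iv7 F410810) D220844 F503478
theorem F505844 : act 0 n220844 = n215523 := d19_4 (iv1 F381366) F478552 F478551 D220844 F480317 (iv4 D193604) F371051 F357406 (iv5 F372720) (iv4 F432676) (iv3 F487772) F487775 F388748 (iv4 F475662) (iv3 D214533) F251659 D188548 D218130 (iv3 F492272)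
theorem F505845 : act 0 n211750 = n220844 := d20_4 D202833 (iv1 F462954) (iv4 D211751) D211750 (iv3 D220844) (iv4 F478551) (iv1 D215139) (iv4 F369896) F369895 (iv1 F182926)
theorem F505846 : act 5 n220844 = n211741 := d17_1 F505845 (iv1 F462908) (iv5 F479458) F479457 F461110 F461082 (iv5 F495882) F495884 F493310
theorem F505847 : act 2 n220373 = n220844 := d15_3 (iv0 F505845) (iv0 F462951) (iv7 F503472)
def n220845 : Q := act 5 n194650
theorem D220845 : act 5 n194650 = n220845 := rfl
theorem F505848 : act 3 n220845 = n211741 := d6_1 D220845 (iv5 F505846) (iv3 D220844)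
theorem F505849 : act 6 n220845 = n219725 := d12_2 (iv6 F488992) D220845 F500277 (iv6 D219197) (iv5 F488988)
theorem F505850 : act 7 n220845 = n196959 := d13_2 (iv7 F410810) D220845 F402452
theorem F505851 : act 0 n220845 = n211728 := d17_2 D194650 D220845 (iv5 F462880) F369601 (iv5 F149882) D191033 (iv5 F489015) (iv0 F489019) F369909
theorem F505852 : act 1 n220845 = n220364 := d17_6 (iv1 F369754) (iv5 F381364) (iv1 F381366) F478552 F478551 D220845 F503417 F488935 F476612
theorem F505853 : act 4 n220845 = n196963 := d18_5 (iv1 D187260) (iv4 F369649) (iv1 F478550) F478551 D220845 F410818 (iv4 F462790) (iv0 D211708) F369650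
def n220846 : Q := act 3 n194651
theorem D220846 : act 3 n194651 = n220846 := rfl
theorem F505854 : act 2 n220846 = n214652 := d0_1 D220846 F476230 (iv2 F503477) F503478 (iv2 F410808)
theorem F505855 : act 5 n220846 = n198647 := d6_2 F410807 D220846 (iv3 F440652)
theorem F505856 : act 6 n220846 = n214365 := d7_2 F393952 D220846 F474785
theorem F505857 : act 0 n220846 = n218792 := d20_10 F495674 (iv1 F497400) F479501 F463179 (iv1 F226850) (iv3 F369895) F369896 D215138 F478549 D220846
theorem F505858 : act 4 n214646 = n220846 := d10_3 F505856 F474786 D214646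
def n220847 : Q := act 3 n194657
theorem D220847 : act 3 n194657 = n220847 := rfl
theorem F505859 : act 2 n220847 = n210679 := d0_1 D220847 F458430 (iv2 F224222) (iv3 F460526) F460525
theorem F505860 : act 5 n220847 = n214233 := d6_2 (iv5 F432309) D220847 (iv3 D214233)
theorem F505861 : act 6 n220847 = n210676 := d7_2 (iv6 F438512) D220847 F458424
theorem F505862 : act 7 n220847 = n216174 := d8_2 F432310 D220847 F483285
theorem F505863 : act 0 n220847 = n209578 := d20_4 F345151 D211531 (iv4 F462002) D220847 F454212 (iv4 F387711) (iv1 D192771) (iv4 F387707) F387706 (iv1 D188413)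
theorem F505864 : act 4 n220847 = n220072 := d20_6 F420898 D201735 (iv4 F453289) F393976 D194657 D220847 F501975 F487371 F446128 F420900
theorem F505865 : act 0 n219991 = n220847 := d20_4 (iv4 D114801) D114799 (iv4 F387587) (iv3 F501550) (iv3 D220847) F462002 (iv1 F462001) (iv4 F373193) F420897 (iv1 D201541)
def n220848 : Q := act 6 n194667
theorem D220848 : act 6 n194667 = n220848 := rfl
theorem F505866 : act 4 n220848 = n213512 := d10_1 D220848 F470777 F394025
theorem F505867 : act 5 n220848 = n211369 := d12_1 D220848 (iv6 F461316) (iv5 F429434) (iv6 F431246) F395379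
theorem F505868 : act 7 n220848 = n211052 := d14_2 F456893 D220848 (iv6 D211052) (iv7 F459855) (iv6 F459857)
theorem F505869 : act 0 n220848 = n204395 := d21_4 F248832 D170826 F395379 D220848 F432377 F405882 (iv1 F176732) D140410 D210964 F459521
theorem F505870 : act 0 n204391 = n220848 := d21_4 (iv5 F405101) (iv1 F405105) (iv5 F407609) F432360 (iv6 D220848) (iv5 F395379) (iv1 F268408) (iv5 F459792) (iv6 F491841) F491843
def n220849 : Q := act 6 n194670
theorem D220849 : act 6 n194670 = n220849 := rfl
theorem F505871 : act 2 n220849 = n204472 := d3_1 D220849 F432641 F394037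
theorem F505872 : act 3 n220849 = n194673 := d7_1 D220849 (iv6 D194673) D194670
theorem F505873 : act 4 n220849 = n207361 := d10_1 D220849 (iv6 F451777) (iv4 F394030)
theorem F505874 : act 5 n220849 = n208409 := d12_1 D220849 (iv6 D208409) (iv5 D134275) D134276 (iv5 F394036)
theorem F505875 : act 0 n220849 = n204181 := d21_4 (iv5 F449234) (iv1 D208410) (iv5 F394036) D220849 F431369 (iv5 D202295) (iv1 D115552) D115553 D202296 F431433
theorem F505876 : act 0 n204179 = n220849 := d21_4 F432880 (iv1 F432883) D209373 F453443 (iv6 D220849) F394036 F409984 (iv5 F434954) (iv6 D205095) F432879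
def n220850 : Q := act 6 n194671
theorem D220850 : act 6 n194671 = n220850 := rfl
theorem F505877 : act 4 n220850 = n194673 := d10_1 D220850 (iv6 D194673) D194671
theorem F505878 : act 7 n220850 = n213270 := d14_2 F412656 D220850 (iv6 D213270) (iv7 F366543) (iv6 F412655)
theorem F505879 : act 0 n220850 = n202662 := d21_10 F476251 F476252 (iv5 D204399) F198207 D123769 (iv6 F412611) (iv5 D199545) D199543 F412595 D220850
def n220851 : Q := act 4 n194674
theorem D220851 : act 4 n194674 = n220851 := rfl
theorem F505880 : act 2 n220851 = n197955 := d1_1 D220851 F406271 F394044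
theorem F505881 : act 3 n220851 = n213688 := d5_1 D220851 (iv4 F479043) F479044 (iv4 D194675) D194674
theorem F505882 : act 5 n220851 = n197719 := d9_2 F394045 D220851 (iv4 D197719) (iv5 D108612) F79447 F38401 (iv4 F48001) D63089 D134296 (iv5 F406274) F406273 F168715 F79578 (iv5 F79589) (iv4 F168744)
theorem F505883 : act 6 n220851 = n198804 := d10_2 F394048 D220851 F436651
theorem F505884 : act 7 n220851 = n197969 := d11_2 (iv7 F394043) D220851 (iv4 D197969)
theorem F505885 : act 0 n220851 = n199785 := d17_0 (iv5 F413939) F413940 F412115 (iv4 F215929) (iv5 F343844) F173155 (iv5 F216316) F394046 D220851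
theorem F505886 : act 1 n220851 = n208053 := d18_6 (iv1 F168417) (iv4 D63093) (iv1 F79596) (iv4 F168744) F394045 D220851 (iv4 D208053) F214252 (iv5 D63117)
def n220852 : Q := act 5 n194685
theorem D220852 : act 5 n194685 = n220852 := rfl
theorem F505887 : act 2 n220852 = n217816 := d2_1 D220852 (iv5 D217816) (iv2 F394085)
theorem F505888 : act 3 n220852 = n200945 := d6_1 D220852 (iv5 F453794) F453797
theorem F505889 : act 6 n220852 = n217570 := d12_2 D194685 D220852 (iv5 D217570) (iv6 D187571) (iv5 F362670)
theorem F505890 : act 4 n220852 = n214211 := d16_2 (iv4 F394086) D220852 (iv5 F501933) F501932 (iv5 F487928) F487927 F486323 (iv7 D188080) (iv2 F369257)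
theorem F505891 : act 0 n220852 = n198315 := d17_2 F491893 D220852 (iv5 D198315) (iv4 F388613) (iv5 F388615) (iv0 D187017) (iv5 F159460) D194681 (iv4 F491890)
theorem F505892 : act 1 n220852 = n220271 := d17_6 (iv1 F451816) F384958 (iv1 D187157) D187158 (iv4 F394086) D220852 F502968 (iv0 F499928) F436653
def n220853 : Q := act 7 n194685
theorem D220853 : act 7 n194685 = n220853 := rfl
theorem F505893 : act 2 n220853 = n211316 := d4_1 D220853 (iv7 F461093) (iv2 F394085)
theorem F505894 : act 3 n220853 = n209204 := d8_1 D220853 (iv7 F453793) F453797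
theorem F505895 : act 4 n220853 = n217324 := d11_1 D220853 (iv7 D217324) (iv4 F394086)
theorem F505896 : act 6 n220853 = n216083 := d14_1 D220853 F482847 (iv6 D187989) F293360 D194685
theorem F505897 : act 1 n211318 = n220853 := d15_1 F461098 (iv7 D220853) F394085
theorem F505898 : act 1 n220853 = n211312 := d15_1 F505897 (iv7 F491892) F491888
def n220854 : Q := act 3 n194687
theorem D220854 : act 3 n194687 = n220854 := rfl
theorem F505899 : act 2 n220854 = n199235 := d0_1 D220854 F411257 (iv2 F434276) F434277 (iv2 F411221)
theorem F505900 : act 4 n220854 = n220316 := d5_2 F411222 D220854 F503160 F425088 (iv3 F384992)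
theorem F505901 : act 5 n220854 = n196733 := d6_2 F462066 D220854 (iv3 F462067)
theorem F505902 : act 6 n220854 = n212723 := d7_2 (iv6 F411223) D220854 (iv3 F467269)
theorem F505903 : act 7 n220854 = n199216 := d8_2 (iv7 F411219) D220854 F411191
theorem F505904 : act 0 n220854 = n199233 := d19_4 (iv1 D214581) F384990 F411222 D220854 (iv5 F473903) F473902 (iv3 F457103) F488287 F488285 (iv4 F490093) F490090 F447169 (iv5 D207961) (iv4 F442897) (iv3 D206995) (iv1 D129706) D129707 D206998 F475901
theorem F505905 : act 0 n196743 = n220854 := d20_4 D111050 F350595 (iv4 F350591) D196743 (iv3 D220854) (iv4 F411222) (iv1 D191957) (iv4 F384987) F384986 (iv1 D111049)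
def n220855 : Q := act 1 n194688
theorem D220855 : act 1 n194688 = n220855 := rfl
theorem F505906 : act 1 n220855 = n213261 := d15_1 D220855 F469603 (iv2 F394092)
theorem F505907 : act 7 n220855 = n213314 := d15_2 (iv0 F394096) D220855 (iv2 F469869)
theorem F505908 : act 5 n220855 = n210922 := d17_7 F390608 F391569 (iv1 D193976) F157470 (iv4 F159477) D194688 D220855 (iv0 F503742) F503739
theorem F505909 : act 4 n220855 = n210722 := d17_9 F458575 D214093 F503107 F503102 (iv4 F461954) F461955 (iv0 D194686) D194688 D220855
theorem F505910 : act 6 n210721 = n220855 := d21_3 (iv5 F333018) (iv1 F330847) (iv5 F458569) (iv1 D220855) F394094 F241278 D187521 F370662 D194630 (iv1 F393877)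
theorem F505911 : act 2 n220855 = n213315 := d3_1 F505910 (iv6 F469875) (iv2 F458567)
theorem F505912 : act 3 n220855 = n218330 := d7_1 F505910 F493348 (iv3 F458568)
def n220856 : Q := act 5 n194704
theorem D220856 : act 5 n194704 = n220856 := rfl
theorem F505913 : act 2 n220856 = n197991 := d2_1 D220856 (iv5 F406421) F424282
theorem F505914 : act 3 n220856 = n205936 := d6_1 D220856 (iv5 F499836) F499834
theorem F505915 : act 4 n220856 = n196976 := d9_1 D220856 (iv5 F503670) F503669 F390472 (iv4 F436402) (iv5 F502664) F502663 (iv5 F424278) (iv4 F402493) (iv5 F505655) F505654 (iv5 D214742) F254099 D205063 F434843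
theorem F505916 : act 6 n220856 = n197990 := d12_2 (iv6 F470934) D220856 F406414 (iv6 F380758) (iv5 F470931)
theorem F505917 : act 7 n220856 = n210002 := d13_2 F424284 D220856 F455700
theorem F505918 : act 0 n220856 = n210001 := d17_2 D194704 D220856 F455697 (iv4 D163005) (iv5 D78384) F336339 D160993 F336618 F336607
theorem F505919 : act 1 n220856 = n210000 := d17_6 F479841 F455831 (iv1 F394738) D205063 F434843 D220856 (iv5 F460494) (iv0 F460495) (iv4 F479838)
def n220857 : Q := act 1 n194723
theorem D220857 : act 1 n194723 = n220857 := rfl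
theorem F505920 : act 1 n220857 = n216474 := d15_1 D220857 F484553 (iv2 F394253)
theorem F505921 : act 7 n220857 = n216473 := d15_2 (iv0 F394257) D220857 (iv2 F484547)
theorem F505922 : act 5 n220857 = n219157 := d17_7 (iv1 F473967) F473965 (iv1 F341117) D202835 (iv4 F425787) (iv5 F394255) D220857 (iv0 F497476) F495864
theorem F505923 : act 4 n220857 = n215724 := d17_9 F481254 F480764 (iv1 D207993) D207994 (iv4 F461215) (iv5 F495921) (iv0 D218854) (iv5 F394255) D220857
theorem F505924 : act 3 n213684 = n220857 := d20_3 F404840 F482677 F482676 (iv1 D220857) (iv3 D194723) (iv4 D104230) (iv1 F145071) (iv4 F145072) D101443 D193297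
theorem F505925 : act 2 n220857 = n216472 := d0_1 F505924 F484541 F390749 D193717 (iv2 F473397)
def n220858 : Q := act 1 n194727
theorem D220858 : act 1 n194727 = n220858 := rfl
theorem F505926 : act 1 n220858 = n219385 := d15_1 D220858 F498613 F461099
theorem F505927 : act 7 n220858 = n219388 := d15_2 (iv0 F461216) D220858 (iv2 F498631)
theorem F505928 : act 5 n220858 = n218855 := d17_7 (iv1 F463292) (iv5 D211676) (iv1 F461774) (iv5 F473956) F473958 (iv5 F394274) D220858 F496254 F496250
theorem F505929 : act 4 n220858 = n215286 := d17_9 F479221 F438697 F479374 F479370 (iv4 F484540) (iv5 F495860) (iv0 D218838) (iv5 F394274) D220858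
theorem F505930 : act 6 n213798 = n220858 := d21_9 F394274 D218838 F495860 (iv6 F484543) F473377 (iv6 F477153) F477152 (iv1 F411290) (iv5 F472138) (iv1 D220858)
theorem F505931 : act 2 n220858 = n219387 := d3_1 F505930 (iv6 F498626) F472140
def n220859 : Q := act 6 n194727
theorem D220859 : act 6 n194727 = n220859 := rfl
theorem F505932 : act 2 n220859 = n212554 := d3_1 D220859 F466398 F461099
theorem F505933 : act 3 n220859 = n194728 := d7_1 D220859 (iv6 D194728) D194727
theorem F505934 : act 4 n220859 = n205013 := d10_1 D220859 F434599 (iv4 F394273)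
theorem F505935 : act 7 n220859 = n212645 := d14_2 (iv7 F394275) D220859 (iv6 F476783) F476784 F464583
theorem F505936 : act 0 n220859 = n213785 := d21_4 F484546 F477578 (iv5 F394274) D220859 (iv6 D213785) D213784 F472073 F374333 D189058 F484549
def n220860 : Q := act 7 n194728
theorem D220860 : act 7 n194728 = n220860 := rfl
theorem F505937 : act 2 n220860 = n209503 := d4_1 D220860 F453948 (iv2 F394276)
theorem F505938 : act 3 n220860 = n212645 := d8_1 D220860 (iv7 F505935) F505933
theorem F505939 : act 4 n220860 = n194730 := d11_1 D220860 (iv7 D194730) (iv4 F394277)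
theorem F505940 : act 5 n220860 = n204670 := d13_1 D220860 (iv7 F476135) F476134
theorem F505941 : act 6 n220860 = n220239 := d14_1 D220860 F502803 (iv6 D193238) (iv7 F159838) D194728
theorem F505942 : act 1 n215783 = n220860 := d15_1 (iv0 F481558) (iv7 D220860) F394276
theorem F505943 : act 1 n220860 = n204668 := d15_1 F505942 F433210 (iv2 F481556)
def n220861 : Q := act 5 n194729
theorem D220861 : act 5 n194729 = n220861 := rfl
theorem F505944 : act 2 n220861 = n209506 := d2_1 D220861 F453953 F394278
theorem F505945 : act 6 n220861 = n217835 := d12_2 F471482 D220861 F490850 (iv6 D213657) D213656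
theorem F505946 : act 7 n220861 = n209501 := d13_2 (iv7 F394279) D220861 (iv5 D209501)
theorem F505947 : act 0 n220861 = n209505 := d17_2 D194729 D220861 (iv5 F469768) (iv4 F481552) (iv5 D215782) F433207 (iv5 F494727) F494729 F394277
theorem F505948 : act 1 n220861 = n209504 := d17_6 F423995 (iv5 F405521) F411984 (iv5 F502864) F502865 D220861 F453950 (iv0 F438148) (iv4 F423991)
theorem F505949 : act 4 n220861 = n214464 := d19_2 D194729 D220861 (iv3 D214464) (iv1 D159489) (iv5 F114708) (iv4 F252006) (iv3 F442420) F442422 (iv5 F502359) F502360 F428979 (iv1 F393095) (iv5 F466237) F466235 F440187 F360143 F366898 (iv4 F394271) F394270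
def n220862 : Q := act 6 n194732
theorem D220862 : act 6 n194732 = n220862 := rfl
theorem F505950 : act 2 n220862 = n210074 := d3_1 D220862 (iv6 F497720) F497719
theorem F505951 : act 4 n220862 = n215071 := d10_1 D220862 F478187 (iv4 F445469)
theorem F505952 : act 7 n220862 = n210144 := d14_2 (iv7 F470920) D220862 (iv6 D210144) (iv7 F351806) (iv6 F470917)
theorem F505953 : act 0 n220862 = n210161 := d21_4 (iv5 F460494) (iv1 F470925) F470922 D220862 (iv6 F485255) (iv5 D216630) F471281 F471278 F424275 D210000
theorem F505954 : act 0 n194737 = n220862 := d21_4 (iv5 D202991) F314962 (iv5 F350768) D194737 (iv6 D220862) (iv5 F470922) (iv1 F470924) (iv5 F455697) (iv6 F455696) (iv1 F426542)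
def n220863 : Q := act 3 n194738
theorem D220863 : act 3 n194738 = n220863 := rfl
theorem F505955 : act 2 n220863 = n211133 := d0_1 D220863 (iv3 D211133) F223857 F222935 F394312
theorem F505956 : act 4 n220863 = n210055 := d5_2 (iv4 F394305) D220863 (iv3 F455965) (iv4 F461891) F461890
theorem F505957 : act 5 n220863 = n220363 := d6_2 F426701 D220863 F503410
theorem F505958 : act 7 n220863 = n202979 := d8_2 F394314 D220863 (iv3 D202979)
theorem F505959 : act 0 n220863 = n210199 := d19_4 F355530 (iv5 F242695) (iv4 F394305) D220863 (iv5 D210199) F221095 F204417 (iv1 F321559) F316313 F321495 D50960 (iv1 F323923) F323924 (iv4 F170045) (iv3 F382041) F466311 F466307 (iv4 D212248) (iv3 F357686)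
theorem F505960 : act 0 n211580 = n220863 := d20_4 F328577 (iv1 F354847) (iv4 F383404) (iv3 F462237) (iv3 D220863) F394305 (iv1 F440157) F440159 (iv3 F448981) F448985
def n220864 : Q := act 5 n194740
theorem D220864 : act 5 n194740 = n220864 := rfl
theorem F505961 : act 2 n220864 = n210179 := d2_1 D220864 (iv5 D210179) F394317
theorem F505962 : act 4 n220864 = n210988 := d9_1 D220864 (iv5 F478989) F478990 (iv5 F472053) F472054 (iv5 D193584) D193583 D220405 F503621 (iv5 F407149) F407148 F381215 (iv4 F480930) F480931 (iv4 F462166)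
theorem F505963 : act 7 n220864 = n210176 := d13_2 (iv7 F394316) D220864 (iv5 D210176)
theorem F505964 : act 0 n220864 = n219798 := d17_2 (iv1 F394315) D220864 (iv5 D219798) (iv4 D192267) (iv5 F361849) (iv0 F352787) (iv5 F153699) F329325 (iv4 F221045)
theorem F505965 : act 1 n220864 = n197402 := d17_6 (iv1 F497924) (iv5 D219246) (iv1 F480934) F480931 (iv4 F462166) D220864 (iv5 F404153) (iv0 F500168) (iv4 D219706)
def n220865 : Q := act 1 n194741
theorem D220865 : act 1 n194741 = n220865 := rfl
theorem F505966 : act 1 n220865 = n195443 := d15_1 D220865 (iv7 D195443) (iv2 F394318)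
theorem F505967 : act 7 n220865 = n195440 := d15_2 (iv0 F461321) D220865 (iv2 F461324)
theorem F505968 : act 4 n220254 = n220865 := d20_0 (iv1 D220865) F394319 (iv3 D104279) (iv1 F156186) D193234 F389265 F382004 F382002 F461322 F502880
theorem F505969 : act 3 n196731 = n220865 := d20_3 (iv4 D211067) (iv1 F363141) D196731 (iv1 D220865) (iv3 D194741) (iv4 D104276) (iv1 F157425) D193923 (iv3 F401568) (iv1 F459979)
theorem F505970 : act 2 n220865 = n195441 := d0_1 F505969 (iv3 F427427) (iv2 F427426) (iv3 F459988) F459987
def n220866 : Q := act 4 n194742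
theorem D220866 : act 4 n194742 = n220866 := rfl
theorem F505971 : act 2 n220866 = n210183 := d1_1 D220866 (iv4 D210183) (iv2 F394321)
theorem F505972 : act 5 n220866 = n194853 := d9_2 D194742 D220866 (iv4 F394758) (iv5 D189862) F153660 F327683 (iv4 F221045) (iv5 F456490) F456489 F380596 (iv4 D190687) (iv5 D96388) F70778 D48257 D104276
theorem F505973 : act 7 n220866 = n212176 := d11_2 F500672 D220866 (iv4 F500670)
theorem F505974 : act 0 n220866 = n194830 := d17_0 (iv5 D194830) (iv1 F380644) (iv5 F459790) F459791 (iv5 D197273) (iv0 F387920) D220062 F501921 D220866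
theorem F505975 : act 1 n220866 = n212581 := d18_6 F385894 (iv4 D192181) F156187 D104276 D194742 D220866 F466529 (iv0 F500173) (iv5 D219707)
theorem F505976 : act 3 n220866 = n212180 := d20_3 (iv4 F501133) (iv1 F501137) D220866 (iv1 F464642) F424780 (iv4 F410933) F410936 (iv4 F344448) (iv3 F478995) F478998
def n220867 : Q := act 6 n194742
theorem D220867 : act 6 n194742 = n220867 := rfl
theorem F505977 : act 2 n220867 = n195403 := d3_1 D220867 F396914 (iv2 F394321)
theorem F505978 : act 5 n220867 = n195296 := d12_1 D220867 F396614 (iv5 D137791) (iv6 F329327) D194742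
theorem F505979 : act 0 n220867 = n205450 := d21_4 (iv5 D220864) (iv1 D194740) D194742 D220867 F436484 (iv5 D156348) (iv1 F316476) F316477 D197402 (iv1 F505965)
theorem F505980 : act 1 n220867 = n205449 := d15_1 (iv0 F505979) F436477 (iv2 F436481)
theorem F505981 : act 7 n220867 = n195404 := d15_2 (iv0 F436485) (iv0 F505979) (iv2 F403783)
def n220868 : Q := act 4 n194743
theorem D220868 : act 4 n194743 = n220868 := rfl
theorem F505982 : act 3 n195486 = n220868 := d20_5 F396650 (iv1 D107230) F78301 (iv3 F162222) D195486 (iv4 D220868) (iv1 F394322) (iv4 F397002) F397001 (iv1 F396648)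
def n220869 : Q := act 6 n194743
theorem D220869 : act 6 n194743 = n220869 := rfl
theorem F505983 : act 2 n220869 = n219640 := d3_1 D220869 F499802 (iv2 F449876)
theorem F505984 : act 3 n220869 = n219845 := d7_1 D220869 F500866 F433461
theorem F505985 : act 7 n220869 = n219863 := d14_2 (iv7 F433460) D220869 F500935 F404851 D204689
theorem F505986 : act 0 n220869 = n210897 := d21_4 (iv5 F488646) F488648 F433470 D220869 (iv6 D210897) F351858 (iv1 F436460) (iv5 F502138) F502139 F497629
theorem F505987 : act 1 n220869 = n219862 := d15_1 (iv0 F505986) F503277 F477150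
def n220870 : Q := act 3 n194744
theorem D220870 : act 3 n194744 = n220870 := rfl
theorem F505988 : act 2 n220870 = n218360 := d0_1 D220870 (iv3 F493497) F430956 (iv3 F433263) F433458
theorem F505989 : act 6 n220870 = n218270 := d7_2 F433459 D220870 (iv3 F493053)
theorem F505990 : act 7 n220870 = n218359 := d8_2 F449878 D220870 (iv3 F493491)
theorem F505991 : act 4 n220870 = n199039 := d20_6 (iv4 F102386) F166084 (iv4 F166082) D141979 (iv1 F394323) D220870 (iv1 D199039) F171789 F102378 D66495
theorem F505992 : act 1 n196348 = n220870 := d17_8 (iv1 D199039) (iv5 F350403) (iv1 F359444) (iv5 F384850) (iv4 F388293) (iv5 F502188) F502190 F501326 F505991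
theorem F505993 : act 0 n218197 = n220870 := d18_0 F505991 (iv1 D199039) F171789 D141827 (iv4 F390149) F480215 F480212 F492660 (iv5 F492658)
def n220871 : Q := act 4 n194744
theorem D220871 : act 4 n194744 = n220871 := rfl
theorem F505994 : act 5 n220871 = n197304 := d16_5 (iv4 F497672) F497670 F481157 (iv5 F433457) D220871 F403907 D214206 F473990 F495642
theorem F505995 : act 3 n220871 = n197305 := d20_3 F397002 (iv1 F394323) D220871 F448592 F448588 F323261 D153550 (iv4 F397351) (iv3 F461317) F461319
def n220872 : Q := act 4 n194747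
theorem D220872 : act 4 n194747 = n220872 := rfl
theorem F505996 : act 2 n220872 = n194748 := d1_1 D220872 (iv4 D194748) (iv2 F394336)
theorem F505997 : act 6 n220872 = n217381 := d10_2 F448294 D220872 F488661
theorem F505998 : act 7 n220872 = n219104 := d11_2 (iv7 F394338) D220872 (iv4 D219104)
theorem F505999 : act 5 n220872 = n217473 := d16_1 D220872 F489043 F463083 F368512 (iv5 D90666) (iv4 F139576) D187910 F371825 (iv2 F394336)
theorem F506000 : act 0 n220872 = n217439 := d17_0 (iv5 F488906) (iv1 F488908) (iv5 F381289) F381288 F149575 (iv0 F142176) D188536 (iv0 F394339) D220872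
theorem F506001 : act 1 n220872 = n217437 := d18_6 D103804 F251680 (iv1 F371816) F371812 D194747 D220872 (iv4 D217437) F369813 F138060
theorem F506002 : act 3 n220872 = n217382 := d19_3 F370167 D194747 D220872 F488940 (iv5 D217450) F393751 F393747 (iv1 F491963) (iv5 F505048) F505047 F466226 (iv1 D201185) (iv5 D114069) F83195 F40412 D25556 D52655 (iv4 F161630) (iv3 F370164)
def n220873 : Q := act 5 n194748
theorem D220873 : act 5 n194748 = n220873 := rfl
theorem F506003 : act 2 n220873 = n217473 := d2_1 D220873 (iv5 F505999) F505996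
theorem F506004 : act 4 n220873 = n206175 := d9_1 D220873 (iv5 D206175) (iv4 F371808) (iv5 D187907) (iv4 F371800) (iv5 F381254) D219104 F497201 (iv4 F495480) F495479 F477911 F369495 (iv4 F291491) D104299 D194748
theorem F506005 : act 0 n220873 = n211824 := d17_2 (iv1 F394342) D220873 (iv5 F474000) F473999 F369827 F178370 (iv5 F137911) F367229 D191036
theorem F506006 : act 1 n220873 = n218903 := d17_6 D190819 F381235 (iv1 D104297) D104299 D194748 D220873 F496119 F488892 F379285
theorem F506007 : act 6 n220873 = n208100 := d21_3 F497341 (iv1 F394342) D220873 (iv1 F447870) (iv6 F419583) (iv5 D201237) (iv1 F177930) (iv5 F251887) D214554 (iv1 F497339)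
def n220874 : Q := act 6 n194748
theorem D220874 : act 6 n194748 = n220874 := rfl
theorem F506008 : act 2 n220874 = n217381 := d3_1 D220874 (iv6 F505997) F505996
theorem F506009 : act 3 n220874 = n214695 := d7_1 D220874 (iv6 F503065) F503064
theorem F506010 : act 4 n220874 = n194749 := d10_1 D220874 (iv6 D194749) D194748
theorem F506011 : act 5 n220874 = n215118 := d12_1 D220874 F478450 (iv5 F447869) (iv6 F506007) (iv5 D220873)
theorem F506012 : act 7 n220874 = n218912 := d14_2 F490574 D220874 F496166 (iv7 F463196) (iv6 F490573)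
theorem F506013 : act 0 n220874 = n214546 := d21_4 (iv5 F496119) (iv1 F506006) (iv5 D220873) D220874 (iv6 D214546) (iv5 D159801) F136450 (iv5 F147498) D190285 (iv1 F488892)
theorem F506014 : act 0 n218913 = n220874 := d21_4 (iv5 F226862) F397271 (iv5 F415946) (iv6 F496174) (iv6 D220874) D220873 F506005 (iv5 F474000) (iv6 D214208) F247459
def n220875 : Q := act 3 n194750
theorem D220875 : act 3 n194750 = n220875 := rfl
theorem F506015 : act 2 n220875 = n214752 := d0_1 D220875 (iv3 F495292) (iv2 F497036) F497037 F495826
theorem F506016 : act 5 n220875 = n219000 := d6_2 F394346 D220875 F496610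
theorem F506017 : act 6 n220875 = n214711 := d7_2 F480221 D220875 (iv3 F480219)
theorem F506018 : act 7 n220875 = n219141 := d8_2 (iv7 F394345) D220875 F497391
theorem F506019 : act 0 n220875 = n194912 := d20_4 (iv4 F418208) F418209 F418210 D220875 F394973 (iv4 F369569) (iv1 F369567) (iv4 F369657) (iv3 F381865) (iv1 F433396)
theorem F506020 : act 4 n218112 = n220875 := d19_2 (iv1 F373788) D218112 (iv3 D220875) (iv1 D194750) F367256 F147724 (iv3 F379794) F463966 F463963 F439278 (iv3 F379611) F412715 F412708 F283981 F370984 (iv1 D185459) (iv5 F147681) D190499 F379919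
def n220876 : Q := act 5 n194754
theorem D220876 : act 5 n194754 = n220876 := rfl
theorem F506021 : act 3 n220876 = n213922 := d6_1 D220876 F472752 F461430
theorem F506022 : act 0 n220876 = n210653 := d17_2 F480105 D220876 F458341 (iv4 D190952) F149765 D185470 F380581 (iv0 F381630) (iv4 F480103)
theorem F506023 : act 1 n220876 = n210651 := d17_6 D190969 F381753 (iv1 D104315) D104317 D194754 D220876 F458338 (iv0 F430277) (iv4 D190971)
def n220877 : Q := act 5 n194756
theorem D220877 : act 5 n194756 = n220877 := rfl
theorem F506024 : act 2 n220877 = n199413 := d2_1 D220877 (iv5 F497530) F497526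
theorem F506025 : act 3 n220877 = n199658 := d6_1 D220877 (iv5 F433455) F433454
theorem F506026 : act 6 n220877 = n199411 := d12_2 (iv6 F433451) D220877 (iv5 D199411) (iv6 F365643) D204739
theorem F506027 : act 4 n220877 = n198256 := d16_2 (iv4 F474445) D220877 (iv5 D198256) F346875 F435367 (iv4 F495937) (iv5 D218858) F478515 (iv2 F478514)
theorem F506028 : act 0 n215265 = n220877 := d21_10 (iv5 D220877) (iv1 F497592) F497589 (iv6 D206252) F205902 D153179 (iv5 F467953) (iv1 D204412) D204414 F479112
def n220878 : Q := act 5 n194757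
theorem D220878 : act 5 n194757 = n220878 := rfl
theorem F506029 : act 3 n220878 = n198788 := d6_1 D220878 F409241 F394368
theorem F506030 : act 4 n220878 = n198258 := d9_1 D220878 (iv5 D198258) F346872 (iv5 F382447) (iv4 F462897) (iv5 F462900) (iv4 F474445) D220877 F506027 (iv5 D198256) F346875 F435367 (iv4 F495937) (iv5 D218858) (iv4 F394363)
theorem F506031 : act 6 n220878 = n198109 := d12_2 (iv6 F394369) D220878 F406858 F325244 D160435
theorem F506032 : act 7 n220878 = n199413 := d13_2 F497529 D220878 (iv5 F497530)
theorem F506033 : act 0 n220878 = n215265 := d18_0 (iv4 D215265) (iv1 F456351) F456347 F413347 (iv4 D194761) (iv0 D104352) (iv4 F159970) D194757 D220878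
def n220879 : Q := act 0 n194758
theorem D220879 : act 0 n194758 = n220879 := rfl
theorem F506034 : act 4 n220879 = n198259 := d18_1 D220879 (iv1 F467832) F467828 (iv5 F461362) F461361 F381452 (iv4 F474445) (iv0 D194756) D194758
theorem F506035 : act 3 n220879 = n217123 := d20_5 (iv4 F505542) F505544 F430676 (iv3 F394364) D220879 (iv4 D217123) (iv1 F372945) (iv4 F486485) (iv3 F486489) (iv1 F470141)
theorem F506036 : act 1 n206252 = n220879 := d15_0 (iv0 D220879) F394366 (iv2 F439935)
theorem F506037 : act 6 n212146 = n220879 := d21_3 F406861 (iv1 F402276) (iv5 F464482) (iv1 F506036) (iv6 D206252) (iv5 D127949) F109171 D153620 D213374 F470131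
theorem F506038 : act 2 n220879 = n206275 := d3_1 F506037 (iv6 F481281) F481276
theorem F506039 : act 7 n206274 = n220879 := d15_2 (iv0 F497586) F497585 F506038
def n220880 : Q := act 1 n194758
theorem D220880 : act 1 n194758 = n220880 := rfl
theorem F506040 : act 1 n220880 = n206252 := d15_1 D220880 (iv7 F497584) F497580
theorem F506041 : act 7 n220880 = n206275 := d15_2 (iv0 D220879) D220880 (iv2 F506038)
theorem F506042 : act 4 n220880 = n198260 := d17_9 (iv1 D198260) (iv5 D109091) D109089 D198256 (iv4 F506027) (iv5 D220877) (iv0 D194756) D194758 D220880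
theorem F506043 : act 3 n208460 = n220880 := d19_19 (iv1 D220880) (iv5 D194758) F159970 (iv3 F291913) D104712 (iv5 F376156) (iv4 D189228) (iv3 F376146) F376148 (iv5 F339779) F380799 (iv3 F380800) (iv1 F378135) F376082 F356310 (iv3 F326048) F168732 (iv5 F216353) (iv4 F449455)
theorem F506044 : act 6 n220813 = n220880 := d21_3 F412898 (iv1 F410825) (iv5 F505664) (iv1 D220880) F394365 (iv5 D128039) D128036 D206270 (iv6 F471797) (iv1 F471799)
theorem F506045 : act 2 n206274 = n220880 := d1_3 F506042 F470492 (iv4 F470491)
def n220881 : Q := act 4 n194762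
theorem D220881 : act 4 n194762 = n220881 := rfl
theorem F506046 : act 2 n220881 = n205242 := d1_1 D220881 (iv4 F498042) F498039
theorem F506047 : act 3 n220881 = n214902 := d5_1 D220881 F477351 (iv3 F370242) (iv4 F463152) F463156
theorem F506048 : act 5 n220881 = n205295 := d9_2 D194762 D220881 F435830 F430666 (iv4 F413302) (iv5 F413303) (iv4 D194766) D194767 (iv4 F445553) (iv5 F479033) (iv4 D215247) F456350 F456347 F413347 (iv4 D194761)
theorem F506049 : act 6 n220881 = n214923 := d10_2 F445655 D220881 F477454
theorem F506050 : act 7 n220881 = n205241 := d11_2 (iv7 F394384) D220881 (iv4 F435574)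
theorem F506051 : act 0 n220881 = n205230 := d17_0 (iv5 D205230) D205228 F435518 F382278 D191112 D219295 (iv5 F498170) F435370 D220881
theorem F506052 : act 1 n220881 = n205244 := d18_6 (iv1 D190885) (iv4 F379339) F394374 (iv4 D194761) D194762 D220881 (iv4 F486041) F497543 (iv5 D219168)
def n220882 : Q := act 2 n194765
theorem D220882 : act 2 n194765 = n220882 := rfl
theorem F506053 : act 3 n220882 = n204740 := d0_2 D194765 D220882 F433452 F413058 F394382
theorem F506054 : act 7 n220882 = n218915 := d4_2 F498036 D220882 (iv2 F498035)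
theorem F506055 : act 1 n220882 = n207240 := d15_0 F498038 F498036 D220882
theorem F506056 : act 1 n207238 = n220882 := d15_0 F506055 F443932 (iv2 F443925)
def n220883 : Q := act 4 n194765
theorem D220883 : act 4 n194765 = n220883 := rfl
theorem F506057 : act 6 n220883 = n219119 := d10_2 F496123 D220883 F497277
theorem F506058 : act 0 n220883 = n218916 := d17_0 (iv5 F496823) F496824 (iv5 F497217) F497219 F473977 (iv0 F382228) (iv5 F379263) F443930 D220883
theorem F506059 : act 5 n220883 = n218665 := d18_4 (iv1 D214701) (iv4 F409025) F409026 D220883 (iv4 D218665) (iv0 D189803) F146893 D163247 (iv5 F476449)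
def n220884 : Q := act 5 n194765
theorem D220884 : act 5 n194765 = n220884 := rfl
theorem F506060 : act 3 n220884 = n194767 := d6_1 D220884 (iv5 D194767) D194765
theorem F506061 : act 6 n220884 = n216889 := d12_2 F496123 D220884 F486405 F486527 F486529
theorem F506062 : act 4 n220884 = n200933 := d16_4 D218665 (iv5 F506059) (iv4 D220883) D220884 (iv5 D200933) (iv4 F418421) F418422 (iv7 F399481) (iv2 F399479)
theorem F506063 : act 0 n220884 = n212009 := d17_2 F409026 D220884 F473972 (iv4 F476562) (iv5 D214727) F257537 (iv5 F476444) (iv0 D214700) (iv4 F409025)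
theorem F506064 : act 1 n220884 = n211498 := d17_6 F497224 F497222 F495047 (iv5 F506059) (iv4 D220883) D220884 (iv5 F473968) (iv0 D214200) D214202
def n220885 : Q := act 0 n194776
theorem D220885 : act 0 n194776 = n220885 := rfl
theorem F506065 : act 4 n220885 = n206728 := d20_2 F437851 D220885 F441988 (iv1 F437229) (iv3 F486137) F486138 F441333 (iv4 F437842) F437841 D205782
theorem F506066 : act 3 n220885 = n219574 := d20_5 (iv4 D92738) D92736 (iv4 F159988) D194776 D220885 F499516 F437224 F359568 F359590 F160058
theorem F506067 : act 6 n220885 = n208424 := d21_5 F384111 (iv1 F483082) F483078 F450785 D220885 (iv5 F449304) F428450 F428449 F217113 F384117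
theorem F506068 : act 5 n220885 = n217961 := d21_8 F503794 (iv1 F458125) F451846 F384296 F487936 F487932 F486311 D220885 (iv6 F491434) (iv1 F503792)
theorem F506069 : act 2 n208380 = n220885 := d15_3 (iv0 D220885) F442849 (iv7 F449149)
theorem F506070 : act 1 n206984 = n220885 := d15_0 (iv0 D220885) (iv7 F394463) (iv2 F442844)
theorem F506071 : act 7 n220885 = n206724 := d15_2 (iv0 F442848) F506070 F441975
def n220886 : Q := act 5 n194778
theorem D220886 : act 5 n194778 = n220886 := rfl
theorem F506072 : act 2 n220886 = n208529 := d2_1 D220886 (iv5 D208529) F394431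
theorem F506073 : act 4 n220886 = n213288 := d9_1 D220886 (iv5 D213288) (iv4 F267772) (iv5 F466283) F466282 (iv5 D207968) F394439 F441294 (iv4 D191427) (iv5 D98344) (iv4 F151771) F366435 D206192 (iv5 F443318) F443317
theorem F506074 : act 6 n220886 = n216859 := d12_2 (iv6 F394429) D220886 F486263 (iv6 D188251) (iv5 F368036)
theorem F506075 : act 7 n220886 = n208530 := d13_2 F394434 D220886 (iv5 D208530)
theorem F506076 : act 0 n220886 = n210060 := d17_2 D194778 D220886 (iv5 D210060) (iv4 F347095) F352094 F330651 (iv5 F323492) (iv0 F337692) (iv4 F328608)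
theorem F506077 : act 1 n220886 = n210061 := d17_6 F347074 (iv5 F427165) (iv1 F439653) (iv5 F443318) F443317 D220886 (iv5 D210061) F220596 F347094
def n220887 : Q := act 6 n194785
theorem D220887 : act 6 n194785 = n220887 := rfl
theorem F506078 : act 3 n220887 = n194786 := d7_1 D220887 (iv6 D194786) (iv3 F394466)
theorem F506079 : act 4 n220887 = n217643 := d10_1 D220887 F489909 F478818
theorem F506080 : act 5 n220887 = n220137 := d12_1 D220887 F502310 (iv5 F388556) F364207 D194785
def n220888 : Q := act 0 n194786
theorem D220888 : act 0 n194786 = n220888 := rfl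
theorem F506081 : act 5 n220888 = n217909 := d17_1 D220888 (iv1 D217909) (iv5 F486274) (iv4 F487874) F487870 (iv0 F487619) (iv5 F486291) (iv0 D216865) (iv4 F394470)
theorem F506082 : act 4 n220888 = n216997 := d18_3 (iv1 D216866) (iv4 F394470) D220888 F486905 (iv4 F486841) F486845 (iv4 F486762) (iv0 F504532) F504533
theorem F506083 : act 1 n217143 = n220888 := d15_0 (iv0 D220888) (iv7 F502022) F502020
theorem F506084 : act 3 n209415 = n220888 := d19_19 (iv1 F506083) F487643 (iv4 F451821) F410405 (iv1 F410403) F343813 F181227 F93971 (iv1 F166074) F76976 D59684 (iv3 F102585) (iv1 F323826) (iv5 F427476) (iv4 F453073) F453072 F352703 D137473 (iv4 F453606)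
theorem F506085 : act 7 n220888 = n217201 := d8_2 (iv7 F503791) F506084 (iv3 F503787)
theorem F506086 : act 2 n220888 = n217200 := d15_3 (iv0 D217200) D217201 (iv7 F506085)
def n220889 : Q := act 1 n194786
theorem D220889 : act 1 n194786 = n220889 := rfl
theorem F506087 : act 1 n220889 = n217143 := d15_1 D220889 F487645 (iv2 F394469)
theorem F506088 : act 7 n220889 = n217200 := d15_2 (iv0 D220888) D220889 (iv2 F506086)
theorem F506089 : act 5 n220889 = n202515 := d17_7 (iv1 F501976) (iv5 D220072) (iv1 D192883) (iv5 F372727) F432812 F432810 D220889 (iv0 F424348) (iv4 F491206)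
theorem F506090 : act 4 n220889 = n204135 := d18_7 F356535 F356536 F357210 (iv4 F136280) (iv5 F288565) (iv4 F394470) D220889 (iv0 F431163) F383513
theorem F506091 : act 6 n202518 = n220889 := d21_3 (iv5 F488009) (iv1 D202517) D202518 (iv1 D220889) (iv6 D194786) (iv5 D104411) D104409 F365794 D187155 F488010
theorem F506092 : act 3 n220889 = n202521 := d7_1 F506091 F424357 (iv3 F424350)
theorem F506093 : act 2 n217201 = n220889 := d0_5 F506092 F424356 F453608 F503789 F503787
def n220890 : Q := act 0 n194794
theorem D220890 : act 0 n194794 = n220890 := rfl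
theorem F506094 : act 5 n220890 = n201389 := d17_3 F399649 (iv5 F394500) D220890 F420298 F375198 (iv0 D188917) D188919 (iv0 F421777) (iv4 F421779)
theorem F506095 : act 4 n220890 = n205526 := d18_3 F362934 (iv4 F394499) D220890 (iv5 F441805) F441804 (iv0 F207677) F99696 D128667 (iv5 F395753)
theorem F506096 : act 6 n220890 = n195080 := d21_5 (iv5 D48371) D48368 D104582 D194794 D220890 F395690 F393844 (iv5 F394529) (iv6 D194802) (iv1 D104590)
theorem F506097 : act 2 n194992 = n220890 := d15_3 (iv0 D220890) (iv0 F485845) F485844
theorem F506098 : act 1 n206587 = n220890 := d15_0 (iv0 D220890) (iv7 F394501) (iv2 F441444)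
theorem F506099 : act 7 n220890 = n206596 := d15_2 (iv0 F485846) F506098 (iv2 F485840)
theorem F506100 : act 3 n199695 = n220890 := d19_19 (iv1 F506098) F447818 F447817 (iv3 F486573) (iv1 F486577) (iv5 F443873) F443872 F429902 D204219 F453429 F453428 D215924 F482112 F407694 F245449 (iv3 F360001) F279177 (iv5 F378718) (iv4 F413151)
def n220891 : Q := act 1 n194799
theorem D220891 : act 1 n194799 = n220891 := rfl
theorem F506101 : act 1 n220891 = n194809 := d15_1 D220891 (iv7 D194809) (iv2 F394516)
theorem F506102 : act 7 n220891 = n194807 := d15_2 (iv0 F455409) D220891 (iv2 F455405)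
theorem F506103 : act 5 n220891 = n215320 := d17_7 (iv1 F358239) (iv5 F477052) (iv1 F477055) (iv5 F418478) F418477 (iv5 F394518) D220891 (iv0 F479382) (iv4 F358240)
theorem F506104 : act 3 n216879 = n220891 := d19_19 (iv1 D220891) F394518 (iv4 F418477) F418476 F276593 D177332 (iv4 F405715) (iv3 F405716) (iv1 F407436) (iv5 F433856) (iv4 F505086) F505085 F463512 F463510 (iv4 F336523) (iv3 F395680) F435757 D200717 F486353
theorem F506105 : act 4 n205210 = n220891 := d20_0 (iv1 D220891) (iv4 F477053) (iv3 F480385) F480388 (iv3 D198896) F170872 (iv1 D64450) (iv4 F92984) (iv3 F202049) D205210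
theorem F506106 : act 6 n206466 = n220891 := d21_3 (iv5 F399721) (iv1 F444663) F444660 (iv1 D220891) (iv6 D194799) (iv5 D104588) (iv1 F76033) D96235 D190602 F395332
theorem F506107 : act 2 n220891 = n194808 := d0_1 F506104 (iv3 F394546) F338792 (iv3 F482956) (iv2 F486355)
def n220892 : Q := act 4 n194807
theorem D220892 : act 4 n194807 = n220892 := rfl
theorem F506108 : act 2 n220892 = n205211 := d1_1 D220892 (iv4 F455407) F455405
theorem F506109 : act 6 n220892 = n200706 := d10_2 (iv6 F394544) D220892 F417575
theorem F506110 : act 7 n220892 = n205210 := d11_2 F506102 D220892 F506105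
theorem F506111 : act 5 n220892 = n194945 := d16_1 D220892 F395129 (iv5 F393470) (iv4 F505441) F505442 (iv4 D215390) F394547 F455410 F455405
theorem F506112 : act 1 n220892 = n205212 := d18_8 F481321 (iv4 F395714) F453080 F453077 (iv5 F479764) (iv4 D215395) F394551 D220892 (iv5 F481318)
theorem F506113 : act 3 n220892 = n200707 := d19_3 (iv1 F479388) (iv5 F395248) D220892 (iv1 F417582) (iv5 F365658) F346882 F346883 (iv1 D75800) D75802 D158864 (iv3 F473232) (iv1 F473235) (iv5 D191529) (iv4 F333750) (iv3 F345800) (iv1 F345801) (iv5 F341916) (iv4 F362529) (iv3 F479383)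
theorem F506114 : act 0 n220892 = n205209 := d20_1 D220892 F435457 F220402 (iv1 F392603) F392606 (iv4 F392982) (iv1 F392983) F160251 (iv3 F160248) D194807
def n220893 : Q := act 4 n194808
theorem D220893 : act 4 n194808 = n220893 := rfl
theorem F506115 : act 2 n220893 = n205210 := d1_1 D220893 F506105 F506107
theorem F506116 : act 3 n220893 = n200594 := d5_1 D220893 F417114 (iv3 D177525) D177526 F394546
theorem F506117 : act 5 n220893 = n200590 := d9_2 F394547 D220893 F417096 (iv5 D137263) (iv4 F202050) (iv5 F417852) F417851 (iv5 F395248) D220892 F506111 F395129 (iv5 F393470) (iv4 F505441) F505442 (iv4 D215390)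
theorem F506118 : act 7 n220893 = n205211 := d11_2 (iv7 F455410) D220893 (iv4 F455407)
theorem F506119 : act 0 n220893 = n205212 := d17_0 (iv5 F481318) F481321 (iv5 D195086) (iv4 F395704) (iv5 F495091) (iv0 D218674) F377951 D194808 D220893
theorem F506120 : act 0 n205209 = n220893 := d20_10 (iv4 D220893) (iv1 D194808) (iv4 F394542) (iv3 F402588) F402591 D205311 (iv4 F466203) (iv1 D212516) F355870 (iv3 F435456)
theorem F506121 : act 6 n220893 = n206465 := d21_5 D205287 F435784 (iv5 D205208) D205209 F506120 F440955 (iv1 F400030) (iv5 F395753) (iv6 D125706) D125703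
def n220894 : Q := act 6 n194808
theorem D220894 : act 6 n194808 = n220894 := rfl
theorem F506122 : act 2 n220894 = n206466 := d3_1 D220894 F506106 F506107
theorem F506123 : act 3 n220894 = n204983 := d7_1 D220894 F434449 F394546
theorem F506124 : act 4 n220894 = n206465 := d10_1 D220894 (iv6 F506121) (iv4 D220893)
theorem F506125 : act 5 n220894 = n207170 := d12_1 D220894 F443631 (iv5 D191354) F364249 F394547
theorem F506126 : act 7 n220894 = n202853 := d14_2 (iv7 F455410) D220894 (iv6 D202853) (iv7 F220260) D209931
theorem F506127 : act 0 n220894 = n206634 := d21_4 (iv5 D174242) D174238 F394547 D220894 (iv6 F441677) F283197 (iv1 F379230) (iv5 F379231) F479745 (iv1 D215392)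
theorem F506128 : act 0 n206633 = n220894 := d19_0 F506125 F443630 F362772 (iv1 F416441) F416442 (iv4 F424319) F424318 (iv1 F362242) (iv5 F332959) (iv4 D156017) D156016 (iv1 F413629) F413625 (iv4 D196400) D196399 F400589 (iv5 F479782) (iv4 D215398) (iv3 F443349)
def n220895 : Q := act 3 n194822
theorem D220895 : act 3 n194822 = n220895 := rfl
theorem F506129 : act 2 n220895 = n203972 := d0_1 D220895 (iv3 D203972) (iv2 F195575) D170811 (iv2 F394612)
theorem F506130 : act 4 n220895 = n214251 := d5_2 D194822 D220895 F474227 (iv4 D194499) (iv3 F160307)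
theorem F506131 : act 6 n220895 = n196465 := d7_2 F459439 D220895 (iv3 F459440)
theorem F506132 : act 7 n220895 = n215239 := d8_2 (iv7 F394613) D220895 F479006
theorem F506133 : act 0 n220895 = n215238 := d19_4 D48381 D104619 D194822 D220895 F479004 (iv4 F459655) (iv3 D192153) (iv1 D99804) (iv5 F137135) F365784 F287661 F135262 (iv5 D86913) (iv4 D40323) (iv3 F63437) F64756 F64754 (iv4 D23523) D23522
theorem F506134 : act 0 n215237 = n220895 := d20_4 (iv4 D180131) (iv1 F299802) (iv4 F424263) (iv3 F479001) (iv3 D220895) (iv4 D194822) (iv1 F160644) D194960 (iv3 F431827) (iv1 F431832)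
theorem F506135 : act 5 n220895 = n215071 := d17_1 F506134 F502792 (iv5 F503066) F503067 F440799 F440794 F436363 (iv0 F441552) (iv4 F479000)
def n220896 : Q := act 5 n194822
theorem D220896 : act 5 n194822 = n220896 := rfl
theorem F506136 : act 2 n220896 = n215236 := d2_1 D220896 (iv5 D215236) (iv2 F394612)
theorem F506137 : act 3 n220896 = n215071 := d6_1 D220896 (iv5 F506135) (iv3 D220895)
theorem F506138 : act 4 n220896 = n219707 := d9_1 D220896 (iv5 D219707) (iv4 D192077) (iv5 D99635) F76048 D104621 D194824 (iv5 F464824) F464823 D212227 F464836 (iv5 D194821) (iv4 D104618) D104619 D194822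
theorem F506139 : act 6 n220896 = n219862 := d12_2 F459439 D220896 (iv5 F500933) (iv6 F410607) F459441
theorem F506140 : act 7 n220896 = n219919 := d13_2 (iv7 F394613) D220896 F501182
theorem F506141 : act 0 n220896 = n199527 := d17_2 (iv1 F483020) D220896 (iv5 D199527) F172877 F354564 (iv0 F289638) D190684 F380580 (iv4 F483017)
theorem F506142 : act 1 n220896 = n219920 := d17_6 (iv1 D104625) (iv5 D48384) D48381 D104619 D194822 D220896 F501190 F406555 (iv4 F331240)
def n220897 : Q := act 4 n194848
theorem D220897 : act 4 n194848 = n220897 := rfl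
theorem F506143 : act 2 n220897 = n215902 := d1_1 D220897 F482000 F403037
theorem F506144 : act 3 n220897 = n218682 := d5_1 D220897 F495128 (iv3 F478234) (iv4 D215080) F403038
theorem F506145 : act 7 n220897 = n215901 := d11_2 (iv7 F403036) D220897 F481994
theorem F506146 : act 0 n220897 = n204896 := d17_0 (iv5 F463091) F463092 (iv5 D198455) (iv4 F171175) (iv5 F398495) (iv0 F398497) (iv5 F352041) F394746 D220897
theorem F506147 : act 1 n220897 = n204895 := d18_6 F336476 F239688 D152510 (iv4 F468915) F468914 D220897 (iv4 D204895) (iv0 D124643) (iv5 F335977)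
def n220898 : Q := act 1 n194850
theorem D220898 : act 1 n194850 = n220898 := rfl
theorem F506148 : act 1 n220898 = n205283 := d15_1 D220898 F435762 F408853
theorem F506149 : act 7 n220898 = n214811 := d15_2 (iv0 F394750) D220898 (iv2 D214811)
theorem F506150 : act 5 n220898 = n218808 := d17_7 (iv1 F415625) (iv5 D200229) F175770 D112866 D200232 F415631 D220898 (iv0 F495742) (iv4 D211748)
theorem F506151 : act 4 n220898 = n198900 := d17_9 (iv1 F409801) (iv5 F394791) F175699 (iv5 F345715) F281846 (iv5 F345714) (iv0 F415632) F415631 D220898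
theorem F506152 : act 3 n194886 = n220898 := d20_3 F495128 (iv1 F459693) F459691 (iv1 D220898) (iv3 D194850) F348566 (iv1 F304292) F344667 (iv3 F378039) D218682
theorem F506153 : act 6 n199884 = n220898 := d21_3 (iv5 F416330) F489214 F489210 (iv1 D220898) F408850 (iv5 F453081) (iv1 F476519) (iv5 D214717) (iv6 F366955) F365690
theorem F506154 : act 2 n220898 = n204891 := d3_1 F506153 F434035 F413977
def n220899 : Q := act 6 n194853
theorem D220899 : act 6 n194853 = n220899 := rfl
theorem F506155 : act 2 n220899 = n218681 := d3_1 D220899 (iv6 D218681) (iv2 F394759)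
theorem F506156 : act 3 n220899 = n206540 := d7_1 D220899 (iv6 F463474) F463473
theorem F506157 : act 4 n220899 = n218680 := d10_1 D220899 (iv6 D218680) F394758
theorem F506158 : act 7 n220899 = n206538 := d14_2 F395197 D220899 (iv6 D206538) (iv7 F227053) F400578
theorem F506159 : act 5 n220899 = n211015 := d21_6 F481347 (iv1 F480369) F480366 (iv6 F431822) F395190 D220899 F471501 F471500 F479680 F481346
theorem F506160 : act 0 n220899 = n194888 := d21_10 (iv5 F466399) F501369 F501367 (iv6 F495212) (iv1 F498130) F498127 F466530 (iv1 F505975) F505972 D220899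
def n220900 : Q := act 2 n194854
theorem D220900 : act 2 n194854 = n220900 := rfl
theorem F506161 : act 3 n220900 = n202464 := d0_2 D194854 D220900 F424109 F394757 F394753
theorem F506162 : act 4 n220900 = n194858 := d1_2 (iv4 F394760) D220900 (iv2 D194858)
theorem F506163 : act 6 n220900 = n197784 := d3_2 (iv6 F490795) D220900 F490792
theorem F506164 : act 7 n220900 = n215383 := d4_2 F395201 D220900 F479700
theorem F506165 : act 5 n202463 = n220900 := d13_3 F506164 (iv5 F482706) F482708
def n220901 : Q := act 5 n194854
theorem D220901 : act 5 n194854 = n220901 := rfl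
theorem F506166 : act 2 n220901 = n202463 := d2_1 D220901 F506165 (iv2 D220900)
theorem F506167 : act 3 n220901 = n194855 := d6_1 D220901 (iv5 D194855) D194854
theorem F506168 : act 4 n220901 = n205488 := d9_1 D220901 (iv5 F476980) F476979 F256910 (iv4 F253819) F348747 (iv4 F479702) (iv5 F482706) F482705 (iv5 F498179) F498178 F480295 F476644 (iv5 F348745) (iv4 F394760)
theorem F506169 : act 7 n220901 = n215893 := d13_2 F395201 D220901 F481961
theorem F506170 : act 1 n220901 = n220227 := d17_6 (iv1 F394661) (iv5 F476481) (iv1 F476489) (iv5 F348745) (iv4 F394760) D220901 F502752 F480195 F459236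
theorem F506171 : act 0 n220901 = n210908 := d18_0 (iv4 F473847) F473848 F400647 F363365 F197885 D174647 F413609 (iv0 F413608) D220901
theorem F506172 : act 6 n220901 = n202462 := d21_3 F480163 F480162 D220901 (iv1 F424106) (iv6 F371649) (iv5 F371590) F371591 (iv5 D154712) D154713 D213692
def n220902 : Q := act 0 n194856
theorem D220902 : act 0 n194856 = n220902 := rfl
theorem F506173 : act 5 n220902 = n216516 := d17_1 D220902 F504892 (iv5 D220668) (iv4 D194154) (iv5 F443835) F377550 (iv5 D176829) (iv0 F361132) (iv4 F394764)
theorem F506174 : act 4 n220902 = n200026 := d18_3 (iv1 F361133) (iv4 F394764) D220902 (iv5 F482242) F482241 (iv0 F494900) (iv4 D218635) (iv0 D189723) F292432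
theorem F506175 : act 3 n220902 = n203820 := d20_5 (iv4 F254054) F394774 (iv4 F490790) F490791 D220902 (iv4 D203820) F341230 (iv4 F333845) F248782 (iv1 F248773)
theorem F506176 : act 6 n220902 = n214665 := d21_5 D220768 F505418 (iv5 D194855) D194856 D220902 (iv5 F476290) (iv1 D209257) F408832 F408833 F394631
theorem F506177 : act 2 n215663 = n220902 := d15_3 (iv0 D220902) (iv0 F482896) F482895
theorem F506178 : act 1 n214356 = n220902 := d15_0 (iv0 D220902) (iv7 F394765) (iv2 F474731)
theorem F506179 : act 7 n220902 = n215662 := d15_2 (iv0 F482897) F506178 (iv2 F482891)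
def n220903 : Q := act 5 n194856
theorem D220903 : act 5 n194856 = n220903 := rfl
theorem F506180 : act 2 n220903 = n211025 := d2_1 D220903 F459786 (iv2 F394763)
theorem F506181 : act 6 n220903 = n211022 := d12_2 D194856 D220903 (iv5 D211022) F394762 (iv5 D194855)
theorem F506182 : act 7 n220903 = n215664 := d13_2 F394765 D220903 (iv5 D215664)
theorem F506183 : act 0 n220903 = n216330 := d17_2 F482896 D220903 F483869 F477605 (iv5 F495451) (iv0 F495455) F413844 (iv0 F414582) (iv4 F482892)
def n220904 : Q := act 3 n194857
theorem D220904 : act 3 n194857 = n220904 := rfl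
theorem F506184 : act 2 n220904 = n218683 := d0_1 D220904 F495131 F378048 F395212 (iv2 F395213)
theorem F506185 : act 4 n220904 = n206538 := d5_2 F431910 D220904 F441232 (iv4 F400727) (iv3 F431913)
theorem F506186 : act 5 n220904 = n219285 := d6_2 F394768 D220904 (iv3 D219285)
theorem F506187 : act 7 n220904 = n218680 := d8_2 (iv7 F394767) D220904 F495122
theorem F506188 : act 0 n220904 = n198666 := d19_4 (iv1 F479011) (iv5 D215240) F431910 D220904 F408787 F434033 F427675 (iv1 F408345) (iv5 D190930) F348931 F96979 (iv1 F95353) (iv5 D60762) F46472 (iv3 F47399) D62525 (iv5 F164744) F344440 (iv3 F431927)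
theorem F506189 : act 0 n218682 = n220904 := d20_4 (iv4 F160353) D194848 D220897 F506144 (iv3 D220904) (iv4 F431910) (iv1 F431921) F431918 (iv3 F353296) (iv1 D104670)
theorem F506190 : act 6 n199953 = n220904 := d14_5 F506187 (iv6 D218680) (iv7 F380579) F408622 (iv7 F414312)
def n220905 : Q := act 6 n194857
theorem D220905 : act 6 n194857 = n220905 := rfl
theorem F506191 : act 2 n220905 = n218685 := d3_1 D220905 F495143 (iv2 F395213)
theorem F506192 : act 3 n220905 = n199953 := d7_1 D220905 F506190 (iv3 D220904)
theorem F506193 : act 4 n220905 = n196451 := d10_1 D220905 F431912 F431910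
theorem F506194 : act 7 n220905 = n194914 := d14_2 (iv7 F394767) D220905 (iv6 D194914) F160465 D189925
theorem F506195 : act 0 n220905 = n198202 := d21_4 F160330 D191049 F394768 D220905 (iv6 D198202) D198201 F407212 (iv5 F378014) (iv6 F394651) (iv1 D194832)
theorem F506196 : act 0 n216763 = n220905 := d21_4 (iv5 F503674) F503677 (iv5 F448475) (iv6 F485836) (iv6 D220905) (iv5 F394768) (iv1 F488923) F488920 F460153 (iv1 F496885)
def n220906 : Q := act 5 n194866
theorem D220906 : act 5 n194866 = n220906 := rfl
theorem F506197 : act 2 n220906 = n212154 := d2_1 D220906 F464524 F437063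
theorem F506198 : act 3 n220906 = n198411 := d6_1 D220906 F407931 F394804
theorem F506199 : act 4 n220906 = n196631 := d9_1 D220906 F401247 F165439 F80848 D58883 D125747 (iv4 F394796) F394797 (iv4 F401255) F401253 (iv4 D125746) (iv5 D58880) D58879 D125745 (iv4 F394803)
theorem F506200 : act 7 n220906 = n212156 := d13_2 (iv7 F394802) D220906 F464535
theorem F506201 : act 0 n220906 = n196995 := d17_2 F464576 D220906 F402608 (iv4 F402593) (iv5 D196992) F165880 D125737 (iv0 F228459) (iv4 F464572)
theorem F506202 : act 1 n220906 = n196991 := d17_6 (iv1 D125820) (iv5 D58920) (iv1 F100283) D125745 (iv4 F394803) D220906 F402585 F402544 F402541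
theorem F506203 : act 6 n220906 = n210451 := d21_3 D212164 F464576 D220906 F457592 F392895 (iv5 F379765) (iv1 F481080) F481077 F402551 (iv1 F402549)
def n220907 : Q := act 5 n194872
theorem D220907 : act 5 n194872 = n220907 := rfl
theorem F506204 : act 2 n220907 = n214352 := d2_1 D220907 (iv5 D214352) (iv2 F394822)
theorem F506205 : act 3 n220907 = n194874 := d6_1 D220907 (iv5 D194874) D194872
theorem F506206 : act 7 n220907 = n214353 := d13_2 (iv7 F394823) D220907 (iv5 D214353)
theorem F506207 : act 0 n220907 = n220587 := d17_2 (iv1 F394826) D220907 F504481 F430556 (iv5 F345835) F345834 D152173 F345822 (iv4 F250112)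
theorem F506208 : act 1 n220907 = n220410 := d17_6 (iv1 F340648) (iv5 F340647) F155902 F364245 F394824 D220907 (iv5 F503648) F479514 F479511
theorem F506209 : act 6 n220907 = n220585 := d21_3 F423790 (iv1 F394826) D220907 (iv1 F504474) (iv6 D200390) D200389 F416258 (iv5 F415909) F415910 (iv1 F423787)
def n220908 : Q := act 6 n194876
theorem D220908 : act 6 n194876 = n220908 := rfl
theorem F506210 : act 2 n220908 = n194989 := d3_1 D220908 (iv6 F395322) F394886
theorem F506211 : act 4 n220908 = n200775 := d10_1 D220908 (iv6 F440824) F440822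
theorem F506212 : act 5 n220908 = n218950 := d12_1 D220908 (iv6 F496348) F497833 (iv6 D219228) (iv5 F394887)
theorem F506213 : act 7 n220908 = n194937 := d14_2 (iv7 F394888) D220908 (iv6 D194937) F160583 D194274
theorem F506214 : act 0 n220908 = n194990 := d21_4 F160249 D190953 (iv5 F394887) D220908 F395325 D200778 F417881 (iv5 D113646) D113647 F365881
theorem F506215 : act 0 n194932 = n220908 := d21_4 (iv5 F336178) (iv1 D111008) D111009 (iv6 F395065) (iv6 D220908) F394887 F462981 F462978 (iv6 F414020) (iv1 D199893)
def n220909 : Q := act 4 n194879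
theorem D220909 : act 4 n194879 = n220909 := rfl
theorem F506216 : act 2 n220909 = n194880 := d1_1 D220909 (iv4 D194880) D194879
theorem F506217 : act 3 n220909 = n204670 := d5_1 D220909 F443389 F443387 F440742 F394889
theorem F506218 : act 5 n220909 = n212645 := d9_2 F409044 D220909 (iv4 D212645) F408978 (iv4 F439535) (iv5 F488733) (iv4 D217398) F369660 D194888 (iv5 F466399) (iv4 D212554) (iv5 D147812) (iv4 F231539) D212550 F466383
theorem F506219 : act 6 n220909 = n199256 := d10_2 F408559 D220909 F411342
theorem F506220 : act 0 n220909 = n220899 := d17_0 F506159 F471501 F471500 F395006 F160480 D190110 (iv5 F394625) F394860 D220909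
theorem F506221 : act 1 n220909 = n205048 := d18_6 (iv1 F497371) F497367 F496028 F466383 F409044 D220909 (iv4 F495132) (iv0 F495134) (iv5 F480246)
def n220910 : Q := act 4 n194883
theorem D220910 : act 4 n194883 = n220910 := rfl
theorem F506222 : act 7 n220910 = n215095 := d11_2 F394850 D220910 (iv4 D215095)
theorem F506223 : act 5 n220910 = n219502 := d16_1 D220910 F499198 (iv5 D201525) (iv4 F323416) F321799 D166408 F394851 (iv7 F395282) (iv2 F395283)
theorem F506224 : act 0 n220910 = n209136 := d17_0 (iv5 D209136) (iv1 F218514) D207023 F443014 (iv5 D194882) F160690 D194978 F395280 D220910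
theorem F506225 : act 1 n220910 = n209138 := d18_8 (iv1 D135850) F99349 D63879 D135855 D209143 F452444 F395280 D220910 (iv5 D209138)
theorem F506226 : act 6 n219505 = n220910 := d12_0 F506223 (iv6 D219502) (iv5 D191608) D191609 D219505
def n220911 : Q := act 6 n194883
theorem D220911 : act 6 n194883 = n220911 := rfl
theorem F506227 : act 3 n220911 = n204898 := d7_1 D220911 (iv6 D204898) F394849
theorem F506228 : act 4 n220911 = n219505 := d10_1 D220911 F506226 (iv4 D220910)
theorem F506229 : act 5 n220911 = n220799 := d12_1 D220911 (iv6 F505606) F504481 (iv6 D203952) (iv5 F394848)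
theorem F506230 : act 0 n206166 = n220911 := d21_4 F488551 (iv1 F494903) D219328 (iv6 F498312) (iv6 D220911) F394848 (iv1 F373617) (iv5 F488561) F488565 F488552
def n220912 : Q := act 3 n194884
theorem D220912 : act 3 n194884 = n220912 := rfl
theorem F506231 : act 2 n220912 = n215334 := d0_1 D220912 F479449 F271746 (iv3 F261983) (iv2 F394852)
theorem F506232 : act 5 n220912 = n210018 := d6_2 F394851 D220912 (iv3 F455774)
theorem F506233 : act 7 n220912 = n215487 := d8_2 F395282 D220912 F480198
theorem F506234 : act 6 n215123 = n220912 := d14_5 F506233 (iv6 F497552) F497549 (iv6 F495919) F478468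
theorem F506235 : act 1 n215489 = n220912 := d15_1 D215489 F506233 F480197
theorem F506236 : act 1 n220912 = n215488 := d15_1 F506235 (iv7 F480204) F480207
def n220913 : Q := act 4 n194884
theorem D220913 : act 4 n194884 = n220913 := rfl
theorem F506237 : act 2 n220913 = n215095 := d1_1 D220913 (iv4 D215095) (iv2 F394852)
theorem F506238 : act 5 n220913 = n206740 := d9_2 F394851 D220913 F442014 (iv5 D201509) (iv4 F336452) (iv5 D121723) D121722 (iv5 F394848) D220910 F506223 F499198 (iv5 D201525) (iv4 F323416) F321799 D166408
theorem F506239 : act 0 n220913 = n209138 := d17_0 (iv5 D209138) (iv1 D135850) D135851 F335982 (iv5 D174617) F329648 D104672 D194884 D220913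
theorem F506240 : act 1 n220913 = n209136 := d18_6 F395546 F373679 F336468 D166408 F394851 D220913 (iv4 F482006) F482007 (iv5 D215500)
theorem F506241 : act 3 n220913 = n206742 := d19_3 (iv1 F373616) F394851 D220913 F442017 (iv5 D133170) (iv4 D62483) (iv3 D29530) (iv1 F23410) F10833 (iv4 F23408) (iv3 F47335) D62442 D133087 (iv4 F341920) F341919 (iv1 D130311) D130312 (iv4 F408371) F408372
def n220914 : Q := act 6 n194884
theorem D220914 : act 6 n194884 = n220914 := rfl
theorem F506242 : act 2 n220914 = n215096 := d3_1 D220914 (iv6 D215096) (iv2 F394852)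
theorem F506243 : act 3 n220914 = n215123 := d7_1 D220914 F506234 (iv3 D220912)
theorem F506244 : act 5 n220914 = n202367 := d12_1 D220914 (iv6 D202367) F414251 F414247 F394851
theorem F506245 : act 0 n219261 = n220914 := d21_4 (iv5 D206158) (iv1 F439511) F439508 D219261 (iv6 D220914) (iv5 F394851) F369709 (iv5 F369788) F379166 (iv1 F439519)
def n220915 : Q := act 0 n194885
theorem D220915 : act 0 n194885 = n220915 := rfl
theorem F506246 : act 4 n220915 = n215910 := d18_1 D220915 F482047 F463090 (iv5 D209056) (iv4 F359185) (iv0 F359184) (iv4 F203666) (iv0 F362724) (iv5 F394855)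
theorem F506247 : act 1 n209143 = n220915 := d15_0 (iv0 D220915) (iv7 F395285) (iv2 F452443)
def n220916 : Q := act 1 n194885
theorem D220916 : act 1 n194885 = n220916 := rfl
theorem F506248 : act 1 n220916 = n209143 := d15_1 D220916 F452445 F452060
theorem F506249 : act 5 n220916 = n195668 := d17_7 F422156 (iv5 D201509) F258997 F336464 D135860 (iv5 F394855) D220916 F465683 F465682
theorem F506250 : act 4 n220916 = n198455 := d18_7 F434061 F408796 (iv1 D194849) F160353 D104672 D194885 D220916 (iv0 F463092) F463091
def n220917 : Q := act 4 n194887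
theorem D220917 : act 4 n194887 = n220917 := rfl
theorem F506251 : act 2 n220917 = n194888 := d1_1 D220917 (iv4 D194888) D194887
theorem F506252 : act 3 n220917 = n214632 := d5_1 D220917 F476133 F436858 (iv4 F394841) (iv3 F394861)
theorem F506253 : act 5 n220917 = n220859 := d9_2 F488727 D220917 F505934 F434598 D205435 (iv5 F489039) (iv4 D217472) F369902 D194880 (iv5 F502031) F502030 F434606 F342267 D206165 F488729
theorem F506254 : act 6 n220917 = n214631 := d10_2 F394878 D220917 F476129
theorem F506255 : act 7 n220917 = n220909 := d11_2 (iv7 F394862) D220917 (iv4 D220909)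
theorem F506256 : act 0 n220917 = n206538 := d18_2 (iv1 F394863) D220917 (iv4 F506185) F506186 F498118 (iv0 F436739) F379131 F488523 F488518
theorem F506257 : act 1 n220917 = n218681 := d18_6 F496049 (iv4 D218887) (iv1 F439540) F488729 F488727 D220917 F495125 (iv0 F408788) F408787
def n220918 : Q := act 6 n194899
theorem D220918 : act 6 n194899 = n220918 := rfl
theorem F506258 : act 2 n220918 = n211818 := d3_1 D220918 F463185 (iv2 F394930)
theorem F506259 : act 3 n220918 = n217402 := d7_1 D220918 (iv6 F489037) F489036
theorem F506260 : act 4 n220918 = n194900 := d10_1 D220918 (iv6 D194900) D194899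
theorem F506261 : act 5 n220918 = n211873 := d12_1 D220918 F463347 (iv5 D190354) D190355 (iv5 F394931)
theorem F506262 : act 0 n220918 = n211821 := d21_4 F419613 F379538 (iv5 F394931) D220918 F497311 (iv5 D219125) (iv1 F496154) F496151 (iv6 D214554) (iv1 F419611)
theorem F506263 : act 0 n202831 = n220918 := d21_4 (iv5 D202809) F182892 D117003 (iv6 F425770) (iv6 D220918) F394931 (iv1 F379539) (iv5 F419604) F419606 (iv1 F425683)
theorem F506264 : act 7 n211819 = n220918 := d15_2 (iv0 D211818) D211819 F506258
theorem F506265 : act 3 n198504 = n211819 := d8_3 F506264 F506259 F488745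
theorem F506266 : act 4 n211785 = n211819 := d11_3 F506264 F506260 (iv7 F463069)
def n220919 : Q := act 0 n194900
theorem D220919 : act 0 n194900 = n220919 := rfl
theorem F506267 : act 4 n220919 = n211740 := d18_3 F506263 F506260 D220919 F462906 (iv4 F226860) F425713 (iv4 F425758) (iv0 D202829) D202831
theorem F506268 : act 3 n220919 = n208188 := d20_5 F137920 D89854 F358139 (iv3 F394934) D220919 F448288 F415602 (iv4 F402358) F402355 (iv1 F358138)
theorem F506269 : act 6 n220919 = n201189 := d21_5 F251859 (iv1 D104702) D104704 D194900 D220919 (iv5 D201189) F177603 (iv5 F251891) (iv6 D159821) D159818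
theorem F506270 : act 2 n218755 = n220919 := d3_3 F506269 F419373 D218755
theorem F506271 : act 7 n211739 = n220919 := d14_0 F506269 F419375 (iv6 F435777) F435778 (iv6 F462903)
def n220920 : Q := act 1 n194900
theorem D220920 : act 1 n194900 = n220920 := rfl
theorem F506272 : act 7 n220920 = n218755 := d15_2 (iv0 D220919) D220920 F506270
theorem F506273 : act 5 n220920 = n219335 := d17_7 F416189 (iv5 F497182) F497184 (iv5 D211736) (iv4 F425640) (iv5 F394935) D220920 (iv0 F498341) F440572
theorem F506274 : act 6 n202807 = n220920 := d21_3 (iv5 F395154) (iv1 F395157) (iv5 F425669) (iv1 D220920) (iv6 D194900) (iv5 D104704) (iv1 F161614) (iv5 F251884) D214553 F475759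
theorem F506275 : act 2 n220920 = n211739 := d3_1 F506274 F462903 (iv2 F425668)
theorem F506276 : act 4 n220920 = n202802 := d10_1 F506274 F425648 D202807
def n220921 : Q := act 2 n194905
theorem D220921 : act 2 n194905 = n220921 := rfl
theorem F506277 : act 3 n220921 = n198735 := d0_2 D194905 D220921 (iv2 F409022) F408182 (iv2 F379215)
theorem F506278 : act 4 n220921 = n211788 := d1_2 F477273 D220921 (iv2 F477271)
theorem F506279 : act 5 n220921 = n202829 := d2_2 (iv5 F394952) D220921 (iv2 F425760)
theorem F506280 : act 6 n220921 = n218723 := d3_2 F477244 D220921 F495322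
theorem F506281 : act 7 n220921 = n211817 := d4_2 F496111 D220921 (iv2 F496107)
theorem F506282 : act 1 n220921 = n219228 := d15_0 (iv0 F497831) F496111 D220921
theorem F506283 : act 1 n217442 = n220921 := d15_0 F506282 F497829 (iv2 F488894)
def n220922 : Q := act 3 n194909
theorem D220922 : act 3 n194909 = n220922 := rfl
theorem F506284 : act 7 n220922 = n220846 := d8_2 (iv7 F410809) D220922 (iv3 D220846)
theorem F506285 : act 0 n219223 = n220922 := d20_4 F425799 F381377 (iv4 F463777) (iv3 F497796) (iv3 D220922) (iv4 F488990) (iv1 F488989) F478545 (iv3 F457552) F457556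
theorem F506286 : act 5 n220922 = n198457 := d21_2 (iv5 F497797) F506285 (iv6 F503803) (iv1 F503805) (iv6 D219800) F386271 F369042 F369040 D193616 F472051
theorem F506287 : act 0 n220922 = n216938 := d21_1 (iv5 F506286) F486612 (iv6 D200322) F401182 F401180 (iv5 D142371) D142369 (iv5 F408015) (iv6 F408702) (iv1 F408704)
def n220923 : Q := act 5 n194909
theorem D220923 : act 5 n194909 = n220923 := rfl
theorem F506288 : act 2 n220923 = n220845 := d2_1 D220923 (iv5 D220845) (iv2 F410811)
theorem F506289 : act 3 n220923 = n198457 := d6_1 D220923 (iv5 F506286) (iv3 D220922)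
theorem F506290 : act 7 n220923 = n199131 := d13_2 (iv7 F410809) D220923 F410807
theorem F506291 : act 0 n220923 = n217448 := d17_2 D194909 D220923 (iv5 D217448) F369840 (iv5 F147515) D190314 (iv5 F488680) (iv0 F488681) F369661
theorem F506292 : act 4 n220923 = n199134 := d17_4 F391375 (iv5 F160417) D194909 D220923 (iv5 F505664) (iv0 D220813) (iv5 D194579) D194578 (iv4 F393743)
theorem F506293 : act 1 n220923 = n220820 := d17_6 (iv1 F369756) (iv5 F379011) (iv1 F381499) (iv5 F488988) F488990 D220923 F505707 F488598 F393933
def n220924 : Q := act 0 n194912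
theorem D220924 : act 0 n194912 = n220924 := rfl
theorem F506294 : act 4 n220924 = n218111 := d18_3 F480959 (iv4 F443896) D220924 (iv5 D218111) F373783 (iv0 D186248) (iv4 F276101) D215649 (iv5 F480958)
theorem F506295 : act 5 n220924 = n219074 := d19_1 D220924 F497042 (iv3 F494359) F380949 D218748 F495471 F494008 F451364 (iv5 D207318) (iv4 D130819) D130818 (iv1 F444262) (iv5 F476677) F476676 (iv3 D160988) (iv1 F254191) (iv5 F369564) F369569 (iv3 F394973)
theorem F506296 : act 3 n220924 = n219075 := d20_5 F369562 D187229 F369569 (iv3 F394973) D220924 (iv4 F497050) F497053 (iv4 F488971) F488970 (iv1 F369881)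
theorem F506297 : act 6 n220924 = n217172 := d21_5 (iv5 F158650) F158653 D104722 D194912 D220924 F487780 (iv1 F381324) D190915 F381540 F158656
theorem F506298 : act 2 n219141 = n220924 := d15_3 (iv0 D220924) (iv0 F506019) F506018
theorem F506299 : act 7 n220924 = n214752 := d4_2 F506018 F506298 (iv2 F506015)
def n220925 : Q := act 0 n194919
theorem D220925 : act 0 n194919 = n220925 := rfl
theorem F506300 : act 4 n220925 = n198559 := d18_3 F365997 (iv4 F395006) D220925 (iv5 F496048) (iv4 D218887) (iv0 F489040) (iv4 D217472) (iv0 F476950) (iv5 D214807)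
theorem F506301 : act 3 n220925 = n214953 := d20_5 (iv4 F359243) F148373 D104759 D194919 D220925 F477608 F406494 F406490 (iv3 F406482) (iv1 F406486)
theorem F506302 : act 1 n215779 = n220925 := d15_0 (iv0 D220925) F395007 (iv2 F481539)
theorem F506303 : act 2 n215889 = n220925 := d0_5 F506301 F477607 F451392 F412837 D215889
theorem F506304 : act 6 n214952 = n220925 := d7_0 F506301 (iv6 D214953) D214952
theorem F506305 : act 7 n220925 = n218697 := d14_2 F504888 F506304 (iv6 F495212) F413757 (iv6 F504889)
def n220926 : Q := act 1 n194919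
theorem D220926 : act 1 n194919 = n220926 := rfl
theorem F506306 : act 1 n220926 = n215779 := d15_1 D220926 (iv7 F504895) F504893
theorem F506307 : act 7 n220926 = n215889 := d15_2 (iv0 D220925) D220926 F506303
theorem F506308 : act 5 n220926 = n213785 := d17_7 (iv1 F434600) (iv5 F359974) (iv1 D154610) D154612 D213660 F471500 D220926 (iv0 F505936) F505934
theorem F506309 : act 4 n198538 = n220926 := d20_0 (iv1 D220926) F395006 (iv3 D104761) (iv1 F138112) F340637 F258625 (iv1 F340641) (iv4 F408063) (iv3 F414144) F414147
theorem F506310 : act 2 n220926 = n218697 := d1_1 F506309 F495211 F413758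
theorem F506311 : act 6 n220926 = n198536 := d10_2 D198538 F506309 (iv4 D198536)
theorem F506312 : act 3 n220926 = n199488 := d20_3 (iv4 F414145) F414147 F506309 F412353 (iv3 D177794) F158035 (iv1 D102781) F129978 D178094 F406083
def n220927 : Q := act 1 n194920
theorem D220927 : act 1 n194920 = n220927 := rfl
theorem F506313 : act 1 n220927 = n196275 := d15_1 D220927 (iv7 F504047) F504045
theorem F506314 : act 7 n220927 = n210916 := d15_2 F406613 D220927 F459274
theorem F506315 : act 5 n220927 = n219349 := d17_7 (iv1 D190679) (iv5 D96381) F70773 D48438 D104759 D194920 D220927 F498409 (iv4 D219042)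
theorem F506316 : act 4 n220927 = n210513 := d17_9 F457871 (iv5 D192823) D192821 F387904 F172371 (iv5 F394993) (iv0 D194917) D194920 D220927
theorem F506317 : act 3 n202460 = n220927 := d19_19 (iv1 D220927) (iv5 D194920) (iv4 D104759) F76176 (iv1 F70656) F70657 F70261 (iv3 F67811) (iv1 F67815) (iv5 F62406) F62405 D47550 F140607 (iv5 F284556) (iv4 F467802) F467801 (iv1 F424253) (iv5 D202494) (iv4 F424093)
theorem F506318 : act 6 n213675 = n220927 := d21_3 F404774 F389190 (iv5 F471588) (iv1 D220927) F432000 F431998 F358727 D180171 (iv6 F400546) F404776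
theorem F506319 : act 2 n220927 = n202439 := d3_1 F506318 (iv6 F424175) (iv2 F471586)
def n220928 : Q := act 5 n194921
theorem D220928 : act 5 n194921 = n220928 := rfl
theorem F506320 : act 2 n220928 = n212177 := d2_1 D220928 F477000 F477002
theorem F506321 : act 3 n220928 = n194923 := d6_1 D220928 (iv5 D194923) (iv3 F395009)
theorem F506322 : act 6 n220928 = n209314 := d12_2 D194921 D220928 F453188 F378795 (iv5 F160480)
theorem F506323 : act 4 n220928 = n213140 := d16_4 F479672 D215379 F479678 D220928 F469167 F456463 (iv5 D177632) (iv7 F277067) (iv2 F479671)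
theorem F506324 : act 0 n220928 = n206053 := d17_2 F430044 D220928 F439022 (iv4 F479133) F479134 F353976 (iv5 F351056) (iv0 F351058) (iv4 F430041)
theorem F506325 : act 0 n214350 = n220928 := d19_0 (iv5 D220928) (iv4 F479678) F479677 F272921 (iv5 D173341) (iv4 D82954) F315948 F57142 F311142 F130949 (iv3 F184626) (iv1 F106323) F106319 (iv4 F106312) (iv3 F154869) (iv1 F154871) D100827 (iv4 F356160) (iv3 F474709)
def n220929 : Q := act 6 n194938
theorem D220929 : act 6 n194938 = n220929 := rfl
theorem F506326 : act 2 n220929 = n194945 := d3_1 D220929 (iv6 D194945) (iv2 F395091)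
theorem F506327 : act 3 n220929 = n200595 := d7_1 D220929 F417120 (iv3 F395092)
theorem F506328 : act 4 n220929 = n194939 := d10_1 D220929 (iv6 D194939) D194938
theorem F506329 : act 5 n220929 = n205211 := d12_1 D220929 (iv6 F435460) F415178 F341626 (iv5 F395094)
theorem F506330 : act 7 n220929 = n200590 := d14_2 (iv7 F395093) D220929 (iv6 D200590) (iv7 F395562) F395561
def n220930 : Q := act 7 n194945
theorem D220930 : act 7 n194945 = n220930 := rfl
theorem F506331 : act 2 n220930 = n200590 := d4_1 D220930 (iv7 F506330) F506326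
theorem F506332 : act 3 n220930 = n206469 := d8_1 D220930 (iv7 F478679) (iv3 F478682)
theorem F506333 : act 4 n220930 = n194948 := d11_1 D220930 (iv7 D194948) (iv4 F395129)
theorem F506334 : act 5 n220930 = n205210 := d13_1 D220930 (iv7 F506110) F506111
theorem F506335 : act 6 n220930 = n200588 := d14_1 D220930 F417084 F379372 (iv7 F160603) D194945
def n220931 : Q := act 6 n194947
theorem D220931 : act 6 n194947 = n220931 := rfl
theorem F506336 : act 2 n220931 = n218634 := d3_1 D220931 F494890 F474734
theorem F506337 : act 3 n220931 = n199833 := d7_1 D220931 (iv6 D199833) F395136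
theorem F506338 : act 4 n220931 = n205573 := d10_1 D220931 F437046 F402618
theorem F506339 : act 5 n220931 = n195531 := d12_1 D220931 F397238 F377516 (iv6 F453146) F453145
theorem F506340 : act 0 n218952 = n220931 := d17_0 F506339 (iv1 F397256) (iv5 D194991) (iv4 F362266) F362262 (iv0 D128585) D128588 D206419 (iv4 F496356)
def n220932 : Q := act 5 n194958
theorem D220932 : act 5 n194958 = n220932 := rfl
theorem F506341 : act 2 n220932 = n213082 := d2_1 D220932 F468914 (iv2 F403037)
theorem F506342 : act 3 n220932 = n197987 := d6_1 D220932 (iv5 F406403) F395183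
theorem F506343 : act 6 n220932 = n197619 := d12_2 (iv6 F395184) D220932 (iv5 F447234) F447237 (iv5 D205465)
theorem F506344 : act 7 n220932 = n197098 := d13_2 (iv7 F403035) D220932 F403032
theorem F506345 : act 4 n220932 = n208157 := d16_6 F332591 D205696 F437486 (iv5 F482002) F482000 D220932 F448155 (iv7 F361693) (iv2 F332590)
theorem F506346 : act 0 n220932 = n201871 := d17_2 (iv1 F395182) D220932 F422152 (iv4 F369705) (iv5 F369788) (iv0 F395270) (iv5 D194976) F160689 (iv4 F352038)
theorem F506347 : act 1 n220932 = n199651 := d17_6 F353519 D214997 (iv1 F477806) (iv5 F482002) F482000 D220932 F413005 (iv0 D178333) D178336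
def n220933 : Q := act 0 n194963
theorem D220933 : act 0 n194963 = n220933 := rfl
theorem F506348 : act 5 n220933 = n219087 := d17_1 D220933 (iv1 D219087) F459239 F459236 F394658 (iv0 F488772) F488770 (iv0 F378270) (iv4 F395200)
theorem F506349 : act 4 n220933 = n215221 := d18_3 (iv1 D194967) (iv4 F395200) D220933 (iv5 F480206) (iv4 F488788) F488904 F488901 D217446 (iv5 F488914)
theorem F506350 : act 3 n220933 = n199649 := d20_5 F268401 (iv1 F331200) D104812 D194963 D220933 F412991 F410249 (iv4 F223596) (iv3 F407147) (iv1 F407152)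
theorem F506351 : act 6 n220933 = n215291 := d21_5 (iv5 D83545) D83542 (iv5 F343708) F395202 D220933 F479247 (iv1 F504049) F504046 F394981 (iv1 D174907)
theorem F506352 : act 1 n220900 = n220933 := d15_0 (iv0 D220933) F395201 D220900
theorem F506353 : act 2 n215477 = n220933 := d3_3 F506351 F498413 (iv6 F498412)
theorem F506354 : act 7 n199813 = n220933 := d14_0 F506351 F479246 (iv6 D198338) (iv7 F173444) D199813
def n220934 : Q := act 1 n194963
theorem D220934 : act 1 n194963 = n220934 := rfl
theorem F506355 : act 1 n220934 = n220900 := d15_1 D220934 F506164 F479700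
theorem F506356 : act 7 n220934 = n215477 := d15_2 (iv0 D220933) D220934 F506353
theorem F506357 : act 4 n215220 = n220934 := d20_0 (iv1 D220934) F395200 (iv3 D104814) (iv1 F147116) F327919 F298768 F297000 D81859 D170743 D215220
theorem F506358 : act 6 n199697 = n220934 := d21_3 (iv5 D215955) F479896 (iv5 F479895) (iv1 D220934) (iv6 F395202) F343708 (iv1 F318834) F318836 (iv6 F481056) (iv1 F482261)
theorem F506359 : act 5 n219086 = n220934 := d21_6 (iv5 F459817) (iv1 F466429) (iv5 F466446) F466442 (iv1 F479891) F497113 (iv1 D220934) (iv5 F481961) (iv6 D215893) (iv1 F459815)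
theorem F506360 : act 2 n220934 = n199813 := d2_1 F506359 F471663 (iv2 F497114)
def n220935 : Q := act 5 n194975
theorem D220935 : act 5 n194975 = n220935 := rfl
theorem F506361 : act 2 n220935 = n215222 := d2_1 D220935 (iv5 D215222) (iv2 F395261)
theorem F506362 : act 3 n220935 = n194976 := d6_1 D220935 (iv5 D194976) D194975
theorem F506363 : act 7 n220935 = n214698 := d13_2 (iv7 F395262) D220935 F476439
theorem F506364 : act 0 n220935 = n210019 := d17_2 (iv1 F395266) D220935 (iv5 D210019) (iv4 F223460) D210908 (iv0 F506171) (iv5 D220901) (iv0 F480162) (iv4 D215477)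
theorem F506365 : act 1 n220935 = n215142 := d17_6 D204295 (iv5 F459627) (iv1 F457281) (iv5 F363354) F395264 D220935 F478558 (iv0 D174660) (iv4 F197896)
def n220936 : Q := act 4 n194979
theorem D220936 : act 4 n194979 = n220936 := rfl
theorem F506366 : act 2 n220936 = n220910 := d1_1 D220936 (iv4 D220910) F395283
theorem F506367 : act 5 n220936 = n201528 := d9_2 F430546 D220936 (iv4 D201528) (iv5 D114777) F323418 (iv5 F321410) D79896 D166413 D215095 F478315 (iv4 D213028) (iv5 D152196) D152195 (iv5 F336454) D203950
theorem F506368 : act 7 n220936 = n220913 := d11_2 (iv7 F395282) D220936 (iv4 D220913)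
theorem F506369 : act 0 n220936 = n209056 := d17_0 (iv5 D209056) (iv1 F218516) (iv5 F452439) F452438 (iv5 D194974) (iv0 D104831) D104834 D194979 D220936
theorem F506370 : act 1 n220936 = n209058 := d18_6 (iv1 F353506) (iv4 D166400) (iv1 F194280) D203950 F430546 D220936 (iv4 F495564) (iv0 F495567) (iv5 D198455)
theorem F506371 : act 3 n220936 = n207133 := d19_3 (iv1 F430548) F430546 D220936 (iv1 D207133) (iv5 D130503) (iv4 D61229) (iv3 D28987) (iv1 F23048) F10621 (iv4 F23047) (iv3 F46603) D61188 D130393 F345778 F257996 F340259 F333982 F230704 (iv3 F364237)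
def n220937 : Q := act 6 n194979
theorem D220937 : act 6 n194979 = n220937 := rfl
theorem F506372 : act 2 n220937 = n220911 := d3_1 D220937 (iv6 D220911) F395283
theorem F506373 : act 3 n220937 = n219170 := d7_1 D220937 F497552 F480198
theorem F506374 : act 5 n220937 = n220718 := d21_6 F369772 (iv1 F160293) (iv5 F147504) D190302 (iv1 F395281) D220937 (iv1 D220718) F392837 (iv6 D187308) D187305
theorem F506375 : act 0 n220937 = n218782 := d21_10 F495631 F467432 F495990 F497982 (iv1 D219258) (iv6 F478312) (iv5 D215094) (iv1 F430548) F430546 D220937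
def n220938 : Q := act 0 n194980
theorem D220938 : act 0 n194980 = n220938 := rfl
theorem F506376 : act 5 n220938 = n213073 := d17_3 (iv1 F364262) (iv5 F395286) D220938 (iv4 D213073) (iv5 D152365) (iv0 D71882) (iv5 F105037) (iv0 F332589) F332591
theorem F506377 : act 1 n209063 = n220938 := d15_0 (iv0 D220938) F395285 (iv2 F452060)
theorem F506378 : act 2 n220916 = n220938 := d2_3 F506376 F468864 (iv5 F506249)
theorem F506379 : act 7 n220915 = n220938 := d15_2 F506248 F506247 (iv2 F506378)
def n220939 : Q := act 1 n194980
theorem D220939 : act 1 n194980 = n220939 := rfl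
theorem F506380 : act 1 n220939 = n209063 := d15_1 D220939 (iv7 F452445) F452443
theorem F506381 : act 7 n220939 = n220916 := d15_2 (iv0 D220938) D220939 F506378
theorem F506382 : act 4 n220939 = n215500 := d18_7 (iv1 F481998) F482000 (iv1 D194958) F160624 D104834 D194980 D220939 (iv0 F482011) (iv5 D215904)
theorem F506383 : act 5 n220939 = n195862 := d18_9 F490058 F490056 (iv1 F420864) D213028 (iv5 F478315) (iv4 D215095) (iv0 F356782) D194980 D220939
theorem F506384 : act 2 n220915 = n220939 := d1_3 F506382 (iv2 F482046) (iv4 F506246)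
def n220940 : Q := act 4 n194985
theorem D220940 : act 4 n194985 = n220940 := rfl
theorem F506385 : act 2 n220940 = n198808 := d1_1 D220940 (iv4 F461846) F461851
theorem F506386 : act 5 n220940 = n205100 := d9_2 F496386 D220940 (iv4 F488272) F488277 (iv4 F454117) D213133 F469137 F463308 (iv4 F409358) (iv5 F502957) (iv4 F504219) F504218 (iv4 F454031) (iv5 F451707) (iv4 F496385)
theorem F506387 : act 6 n220940 = n210998 := d10_2 (iv6 F461854) D220940 F459691
theorem F506388 : act 7 n220940 = n210950 := d11_2 F461852 D220940 (iv4 F459437)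
theorem F506389 : act 0 n220940 = n199404 := d17_0 (iv5 F412017) (iv1 F453991) (iv5 F453993) F430292 F461766 F461762 (iv5 F461858) F461860 D220940
theorem F506390 : act 1 n220940 = n210948 := d18_6 D219337 F498347 (iv1 F486343) (iv4 F496385) F496386 D220940 F459427 (iv0 F408618) (iv5 F382667)
theorem F506391 : act 3 n220940 = n199103 := d19_3 (iv1 F496389) F496386 D220940 (iv1 D199103) (iv5 D110936) (iv4 F82341) (iv3 D52091) (iv1 F40061) (iv5 F76747) (iv4 D48738) (iv3 F69008) (iv1 F144712) F144713 F95753 D106691 F164404 D130612 (iv4 F363604) D194993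
def n220941 : Q := act 6 n194996
theorem D220941 : act 6 n194996 = n220941 := rfl
theorem F506392 : act 2 n220941 = n216915 := d3_1 D220941 (iv6 F486524) F395341
theorem F506393 : act 3 n220941 = n194998 := d7_1 D220941 (iv6 D194998) D194996
theorem F506394 : act 4 n220941 = n211873 := d10_1 D220941 F463347 (iv4 F395340)
theorem F506395 : act 7 n220941 = n216916 := d14_2 (iv7 F463337) D220941 (iv6 F486527) F420315 D211869
theorem F506396 : act 0 n211870 = n220941 := d21_4 F377502 (iv1 F158076) (iv5 F350477) D211870 (iv6 D220941) (iv5 F441189) (iv1 F494893) (iv5 D218634) (iv6 D189719) D189716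
theorem F506397 : act 1 n216917 = n220941 := d15_0 (iv0 F506396) (iv7 F495314) F495312
def n220942 : Q := act 6 n195003
theorem D220942 : act 6 n195003 = n220942 := rfl
theorem F506398 : act 2 n220942 = n205581 := d3_1 D220942 (iv6 D205581) F395366
theorem F506399 : act 3 n220942 = n200774 := d7_1 D220942 (iv6 D200774) F395368
theorem F506400 : act 4 n220942 = n206462 := d10_1 D220942 F440933 F436938
theorem F506401 : act 5 n220942 = n217689 := d12_1 D220942 (iv6 F490133) F452155 (iv6 D200772) (iv5 F395365)
theorem F506402 : act 0 n220942 = n216833 := d21_4 (iv5 D113478) (iv1 F176635) (iv5 F395365) D220942 F486112 (iv5 F477409) (iv1 D214914) (iv5 F441092) F441093 F409947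
theorem F506403 : act 0 n217649 = n220942 := d21_4 F441025 D219300 F498197 F489936 (iv6 D220942) F395365 (iv1 F176634) D126114 D205479 (iv1 F441026)
def n220943 : Q := act 4 n195012
theorem D220943 : act 4 n195012 = n220943 := rfl
theorem F506404 : act 2 n220943 = n207910 := d1_1 D220943 (iv4 F448656) F448654
theorem F506405 : act 7 n220943 = n219517 := d11_2 (iv7 F448648) D220943 (iv4 F499251)
theorem F506406 : act 0 n220943 = n219518 := d20_7 F367808 F367838 F367835 F294448 D105054 D195012 D220943 F499254 F383993 (iv1 F367799)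
theorem F506407 : act 0 n219512 = n220943 := d20_1 (iv4 F499232) (iv4 D220943) (iv3 D195012) (iv1 F361742) (iv3 F389569) (iv4 D193360) (iv1 F385397) (iv4 F448724) (iv3 F492730) (iv1 F492735)
theorem F506408 : act 5 n220943 = n201647 := d21_8 (iv5 D206818) (iv1 F207590) D195280 F396563 F230260 D203122 (iv5 F499233) F506407 (iv6 F492378) (iv1 F442305)
def n220944 : Q := act 5 n195012
theorem D220944 : act 5 n195012 = n220944 := rfl
theorem F506409 : act 3 n220944 = n195014 := d6_1 D220944 (iv5 D195014) D195012
theorem F506410 : act 0 n220944 = n210059 := d21_1 D220944 (iv5 D210059) (iv6 D137392) (iv1 F336141) (iv6 F362231) (iv5 D182415) (iv1 F160957) F339538 (iv6 F448649) (iv1 F448658)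
theorem F506411 : act 6 n220944 = n220237 := d21_9 (iv5 D201543) F375400 D218307 F493228 F483162 D216184 F483307 (iv1 F448658) D220944 F502794
def n220945 : Q := act 3 n195016
theorem D220945 : act 3 n195016 = n220945 := rfl
theorem F506412 : act 2 n220945 = n204044 := d0_1 D220945 F430880 F304299 (iv3 F240120) F395428
theorem F506413 : act 5 n220945 = n208699 := d6_2 F432238 D220945 (iv3 F450487)
theorem F506414 : act 6 n220945 = n204039 := d7_2 (iv6 F395427) D220945 F430869
theorem F506415 : act 7 n220945 = n216200 := d8_2 (iv7 F395430) D220945 F483341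
theorem F506416 : act 0 n216184 = n220945 := d21_4 (iv5 F287416) (iv1 F287418) F287427 D216184 F506414 (iv5 D204039) F286389 D171090 (iv6 F364162) (iv1 F287439)
def n220946 : Q := act 6 n195035
theorem D220946 : act 6 n195035 = n220946 := rfl
theorem F506417 : act 2 n220946 = n200571 := d3_1 D220946 (iv6 D200571) (iv2 F395517)
theorem F506418 : act 3 n220946 = n205270 := d7_1 D220946 (iv6 F436180) F436179
theorem F506419 : act 4 n220946 = n205423 := d10_1 D220946 (iv6 D205423) F395516
theorem F506420 : act 5 n220946 = n206661 := d12_1 D220946 (iv6 D206661) D206660 F441783 F395515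
theorem F506421 : act 0 n220946 = n205183 := d21_4 (iv5 D131891) D131889 F395515 D220946 F435333 F435187 (iv1 F202194) D195031 (iv6 F395493) F365770
theorem F506422 : act 0 n205185 = n220946 := d21_4 F398074 (iv1 F398072) (iv5 F436275) F436278 (iv6 D220946) (iv5 F395515) (iv1 F391969) (iv5 F418124) (iv6 F418123) (iv1 F399173)
def n220947 : Q := act 3 n195036
theorem D220947 : act 3 n195036 = n220947 := rfl
theorem F506423 : act 2 n220947 = n205348 := d0_1 D220947 (iv3 F436189) F436188 (iv3 D200572) (iv2 F395503)
theorem F506424 : act 4 n220947 = n219321 := d5_2 F395504 D220947 F498280 (iv4 F436198) F436197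
theorem F506425 : act 5 n220947 = n207508 := d6_2 F395502 D220947 (iv3 D207508)
theorem F506426 : act 7 n220947 = n200569 := d8_2 F395519 D220947 (iv3 D200569)
theorem F506427 : act 0 n205387 = n220947 := d20_4 F416998 (iv1 F395501) (iv4 F395504) (iv3 F436197) (iv3 D220947) (iv4 F395504) (iv1 D125933) F93163 (iv3 F201978) (iv1 F417001)
theorem F506428 : act 6 n220947 = n197833 := d21_5 (iv5 F436908) (iv1 D205540) F360447 D205387 F506427 F405950 (iv1 F168910) D125831 F360416 D205366
def n220948 : Q := act 6 n195036
theorem D220948 : act 6 n195036 = n220948 := rfl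
theorem F506429 : act 2 n220948 = n200573 := d3_1 D220948 (iv6 D200573) (iv2 F395503)
theorem F506430 : act 3 n220948 = n197833 := d7_1 D220948 (iv6 F506428) (iv3 D220947)
theorem F506431 : act 4 n220948 = n196046 := d10_1 D220948 F399179 F395504
theorem F506432 : act 5 n220948 = n195538 := d12_1 D220948 F397272 F362255 F362256 F395502
theorem F506433 : act 0 n220948 = n205184 := d21_4 F418124 F391968 F395502 D220948 F435605 F405916 (iv1 D197825) (iv5 F202322) F366360 (iv1 F418122)
theorem F506434 : act 7 n220948 = n205343 := d15_2 F441089 (iv0 F506433) (iv2 F441085)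
def n220949 : Q := act 6 n195047
theorem D220949 : act 6 n195047 = n220949 := rfl
theorem F506435 : act 2 n220949 = n200593 := d3_1 D220949 (iv6 D200593) (iv2 F395568)
theorem F506436 : act 3 n220949 = n220368 := d7_1 D220949 F503440 F410279
theorem F506437 : act 4 n220949 = n195048 := d10_1 D220949 (iv6 D195048) D195047
theorem F506438 : act 7 n220949 = n214611 := d14_2 (iv7 F395569) D220949 (iv6 F476038) F381065 (iv6 F350074)
theorem F506439 : act 0 n220949 = n206621 := d21_4 D199760 (iv1 F471671) F471668 D220949 (iv6 D206621) F208891 (iv1 F246671) (iv5 F417459) (iv6 D200681) F176537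
theorem F506440 : act 5 n220949 = n220763 := d21_6 (iv5 F407346) (iv1 F461294) F461296 (iv6 F460175) (iv1 F460178) D220949 (iv1 D220763) F393353 F198850 D180777
theorem F506441 : act 0 n214612 = n220949 := d21_4 (iv5 F418198) (iv1 F479693) F479696 (iv6 F476044) (iv6 D220949) (iv5 F471668) (iv1 F471670) (iv5 D198798) F365963 F417515
def n220950 : Q := act 7 n195049
theorem D220950 : act 7 n195049 = n220950 := rfl
theorem F506442 : act 2 n220950 = n195053 := d4_1 D220950 (iv7 D195053) (iv2 F395575)
theorem F506443 : act 3 n220950 = n200637 := d8_1 D220950 (iv7 D200637) (iv3 F395576)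
theorem F506444 : act 4 n220950 = n197903 := d11_1 D220950 F411985 F411983
theorem F506445 : act 6 n220950 = n200600 := d14_1 D220950 (iv7 D200600) (iv6 D113261) (iv7 F161127) D195049
theorem F506446 : act 1 n195051 = n220950 := d15_1 D195051 (iv7 D220950) F395575
theorem F506447 : act 1 n220950 = n195050 := d15_1 F506446 F435659 F435654
def n220951 : Q := act 3 n195056
theorem D220951 : act 3 n195056 = n220951 := rfl
theorem F506448 : act 4 n220951 = n208151 := d5_2 D195056 D220951 (iv3 F494696) F494693 F395580
theorem F506449 : act 0 n207816 = n220951 := d20_4 (iv4 F444253) (iv1 D207306) (iv4 F212460) (iv3 F446577) (iv3 D220951) (iv4 D195056) D195054 (iv4 F418503) (iv3 F446716) (iv1 F446719)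
theorem F506450 : act 7 n217704 = n220951 := d11_0 F506448 (iv7 F475292) (iv4 F490215)
def n220952 : Q := act 5 n195056
theorem D220952 : act 5 n195056 = n220952 := rfl
theorem F506451 : act 2 n220952 = n200668 := d2_1 D220952 (iv5 D200668) (iv2 F395597)
theorem F506452 : act 4 n220952 = n196547 := d9_1 D220952 F401038 F165037 F78210 (iv4 F82685) (iv5 F176526) (iv4 F417411) F417412 (iv4 D145356) (iv5 D68150) F50033 F39775 (iv4 F76512) D105204 D195056
theorem F506453 : act 7 n220952 = n196546 := d16_8 (iv4 D145356) (iv5 D68150) F50033 F39775 (iv4 F76512) D105204 D195056 D220952 F401034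
theorem F506454 : act 0 n220952 = n205108 := d17_2 F439212 D220952 (iv5 F439191) (iv4 D206086) (iv5 D127373) (iv0 D59826) D59827 D127375 D206090
theorem F506455 : act 1 n220952 = n206884 := d17_8 (iv1 F400672) F228361 (iv1 F165717) D196897 (iv4 F446137) (iv5 F446138) F439200 D220952 F442510
def n220953 : Q := act 7 n195056
theorem D220953 : act 7 n195056 = n220953 := rfl
theorem F506456 : act 2 n220953 = n200669 := d4_1 D220953 (iv7 D200669) (iv2 F395597)
theorem F506457 : act 3 n220953 = n217704 := d8_1 D220953 F506450 (iv3 D220951)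
theorem F506458 : act 4 n220953 = n195057 := d11_1 D220953 (iv7 D195057) D195056
theorem F506459 : act 5 n220953 = n196546 := d13_1 D220953 (iv7 F506453) (iv5 D220952)
theorem F506460 : act 1 n200666 = n220953 := d15_1 D200666 (iv7 D220953) F395597
theorem F506461 : act 1 n220953 = n200665 := d15_1 F506460 (iv7 F439211) F439208
theorem F506462 : act 6 n217703 = n220953 := d10_0 F506458 F441789 (iv4 F490210)
def n220954 : Q := act 5 n195058
theorem D220954 : act 5 n195058 = n220954 := rfl
theorem F506463 : act 2 n220954 = n205876 := d2_1 D220954 F438224 F403546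
theorem F506464 : act 3 n220954 = n214839 := d6_1 D220954 F477090 F436774
theorem F506465 : act 6 n220954 = n195059 := d12_2 D195058 D220954 (iv5 D195059) (iv6 D105207) D105206
theorem F506466 : act 7 n220954 = n205877 := d13_2 F466288 D220954 (iv5 F466289)
theorem F506467 : act 4 n220954 = n211015 := d16_2 (iv4 F395602) D220954 (iv5 F506159) F506157 (iv5 F495943) F495942 (iv5 F436742) (iv7 D205504) (iv2 F244992)
theorem F506468 : act 0 n220954 = n203519 := d17_2 (iv1 F466298) D220954 (iv5 F429910) F429909 D216380 (iv0 F484106) F378996 D198696 (iv4 F466295)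
theorem F506469 : act 1 n220954 = n205872 := d17_6 (iv1 F379110) F379108 (iv1 F379120) (iv5 F379121) (iv4 F395602) D220954 (iv5 F495815) (iv0 F495816) (iv4 D190218)
def n220955 : Q := act 5 n195061
theorem D220955 : act 5 n195061 = n220955 := rfl
theorem F506470 : act 2 n220955 = n205312 := d2_1 D220955 F435897 F435751
theorem F506471 : act 3 n220955 = n195062 := d6_1 D220955 (iv5 D195062) D195061
theorem F506472 : act 6 n220955 = n200137 := d12_2 F435209 D220955 F415200 F201919 D205156
theorem F506473 : act 7 n220955 = n200717 := d13_2 (iv7 F395614) D220955 (iv5 D200717)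
theorem F506474 : act 4 n220955 = n218674 := d16_2 (iv4 F395613) D220955 F495091 F395704 D195086 (iv4 F395714) (iv5 F453135) F453140 (iv2 D198679)
theorem F506475 : act 0 n220955 = n220930 := d17_2 F478393 D220955 F506334 F506105 F506103 (iv0 F479382) (iv5 F358246) (iv0 F358247) (iv4 F478391)
theorem F506476 : act 1 n220955 = n220929 := d17_6 (iv1 F393472) (iv5 F453078) F453079 (iv5 D198680) (iv4 F395613) D220955 F506329 (iv0 F505444) F505441
def n220956 : Q := act 1 n195069
theorem D220956 : act 1 n195069 = n220956 := rfl
theorem F506477 : act 1 n220956 = n200757 := d15_1 D220956 F417802 (iv2 F395649)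
theorem F506478 : act 7 n220956 = n200760 := d15_2 (iv0 F395654) D220956 F417813
theorem F506479 : act 5 n220956 = n195922 := d17_7 (iv1 F204113) (iv5 F407358) (iv1 F410310) (iv5 D199010) (iv4 F220264) (iv5 F395652) D220956 F438094 F438091
theorem F506480 : act 4 n220956 = n200622 := d17_9 F417253 (iv5 D126255) F176632 D198240 F407318 F331751 (iv0 F358794) (iv5 F395652) D220956
theorem F506481 : act 3 n195923 = n220956 := d20_3 D205963 F438614 (iv4 F398743) (iv1 D220956) F395650 (iv4 D105307) F82859 (iv4 F324787) F97762 F336048
theorem F506482 : act 6 n215068 = n220956 := d21_3 F438792 F416737 (iv5 F478168) (iv1 D220956) (iv6 F395653) F319326 (iv1 F317956) (iv5 D132095) D132096 F438794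
theorem F506483 : act 2 n220956 = n200759 := d3_1 F506482 (iv6 F444341) F478170
def n220957 : Q := act 6 n195071
theorem D220957 : act 6 n195071 = n220957 := rfl
theorem F506484 : act 2 n220957 = n206608 := d3_1 D220957 (iv6 F479031) F479029
theorem F506485 : act 3 n220957 = n206615 := d7_1 D220957 (iv6 F441587) F430661
theorem F506486 : act 4 n220957 = n220286 := d10_1 D220957 F503035 F430660
theorem F506487 : act 5 n220957 = n195954 := d12_1 D220957 (iv6 D195954) (iv5 F373552) (iv6 F435573) (iv5 F435575)
theorem F506488 : act 0 n220957 = n206458 := d21_4 D125629 D205241 (iv5 F435575) D220957 (iv6 D206458) (iv5 D128634) (iv1 D60496) D60498 (iv6 F358327) (iv1 D125628)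
def n220958 : Q := act 5 n195077
theorem D220958 : act 5 n195077 = n220958 := rfl
theorem F506489 : act 2 n220958 = n195086 := d2_1 D220958 (iv5 D195086) (iv2 F395679)
theorem F506490 : act 3 n220958 = n214835 := d6_1 D220958 F477064 (iv3 F395680)
theorem F506491 : act 6 n220958 = n206428 := d12_2 D195077 D220958 F440741 F211234 (iv5 F342870)
theorem F506492 : act 4 n220958 = n209296 := d16_2 F479738 D220958 (iv5 F453087) F408551 D200717 F486353 F486352 F479743 F479741
theorem F506493 : act 0 n220958 = n200768 := d17_2 F435755 D220958 F417852 F202050 D137263 (iv0 F395133) (iv5 F395132) (iv0 F408851) (iv4 F435753)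
theorem F506494 : act 1 n220958 = n215390 := d17_6 (iv1 D220891) F394518 F481362 F481360 F479738 D220958 (iv5 F505442) (iv0 F505445) F506105
def n220959 : Q := act 5 n195078
theorem D220959 : act 5 n195078 = n220959 := rfl
theorem F506495 : act 2 n220959 = n200753 := d2_1 D220959 (iv5 D200753) (iv2 F395683)
theorem F506496 : act 3 n220959 = n200804 := d6_1 D220959 (iv5 D200804) F395682
theorem F506497 : act 6 n220959 = n205422 := d12_2 F417778 D220959 (iv5 D205422) D205423 F436346
theorem F506498 : act 7 n220959 = n201114 := d13_2 (iv7 F395681) D220959 F419142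
theorem F506499 : act 0 n220959 = n195092 := d17_2 (iv1 F435301) D220959 (iv5 F435409) (iv4 D205201) (iv5 F405918) F202401 (iv5 D125564) (iv0 F342907) (iv4 F435299)
theorem F506500 : act 1 n220959 = n201115 := d17_6 F417056 (iv5 F417057) F435540 F435539 (iv4 F395684) D220959 (iv5 F435401) (iv0 F435402) (iv4 F406118)
theorem F506501 : act 4 n220959 = n210274 := d18_5 (iv1 F163215) D106214 (iv1 F395472) (iv4 F395684) D220959 F487284 (iv4 D195706) F163226 (iv5 F163213)
def n220960 : Q := act 5 n195085
theorem D220960 : act 5 n195085 = n220960 := rfl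
theorem F506502 : act 2 n220960 = n200717 := d2_1 D220960 (iv5 D200717) F395710
theorem F506503 : act 3 n220960 = n200803 := d6_1 D220960 (iv5 D200803) (iv3 F395711)
theorem F506504 : act 6 n220960 = n206418 := d12_2 (iv6 F395712) D220960 (iv5 D206418) (iv6 F415232) F415231
theorem F506505 : act 7 n220960 = n205312 := d13_2 F435754 D220960 F435897
theorem F506506 : act 4 n220960 = n216101 := d16_6 F395704 D195086 (iv4 F395714) (iv5 F453135) F453136 D220960 (iv5 D216101) F479742 (iv2 F479741)
theorem F506507 : act 0 n220960 = n220929 := d17_2 D195085 D220960 F506329 (iv4 F455407) (iv5 F477130) (iv0 F477134) D215322 (iv0 F479392) F395704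
theorem F506508 : act 1 n220960 = n220930 := d17_6 D137260 F408838 F408837 (iv5 F453135) F453136 D220960 F506334 (iv0 D205210) F202050
def n220961 : Q := act 7 n195086
theorem D220961 : act 7 n195086 = n220961 := rfl
theorem F506509 : act 3 n220961 = n209902 := d8_1 D220961 F455307 (iv3 F436084)
theorem F506510 : act 4 n220961 = n209295 := d11_1 D220961 (iv7 F453084) F395714
theorem F506511 : act 5 n220961 = n195087 := d13_1 D220961 (iv7 D195087) D195086
theorem F506512 : act 6 n220961 = n215105 := d14_1 D220961 F478374 F445395 F214450 (iv6 F395713)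
theorem F506513 : act 1 n215390 = n220961 := d15_1 F506494 (iv7 D220961) (iv2 F506489)
theorem F506514 : act 1 n220961 = n200768 := d15_1 F506513 (iv7 F481320) F481316
def n220962 : Q := act 2 n195092
theorem D220962 : act 2 n195092 = n220962 := rfl
theorem F506515 : act 3 n220962 = n201117 := d0_2 D195092 D220962 (iv2 D201117) (iv3 D113938) (iv2 F329452)
theorem F506516 : act 4 n220962 = n195708 := d1_2 (iv4 F397650) D220962 (iv2 F397913)
theorem F506517 : act 5 n220962 = n200875 := d2_2 F435409 D220962 (iv2 F435405)
theorem F506518 : act 6 n220962 = n206572 := d3_2 (iv6 F395731) D220962 (iv2 D206572)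
theorem F506519 : act 7 n220962 = n201115 := d4_2 (iv7 F395732) D220962 (iv2 D201115)
theorem F506520 : act 1 n220962 = n200753 := d15_0 (iv0 F417783) (iv7 F395732) D220962
theorem F506521 : act 1 n201114 = n220962 := d15_0 F506520 (iv7 F439133) F439130
def n220963 : Q := act 2 n195093
theorem D220963 : act 2 n195093 = n220963 := rfl
theorem F506522 : act 3 n220963 = n201115 := d0_2 D195093 D220963 (iv2 D201115) (iv3 D113933) (iv2 F342854)
theorem F506523 : act 4 n220963 = n212358 := d1_2 F449716 D220963 F465470
theorem F506524 : act 5 n220963 = n200946 := d2_2 F439098 D220963 (iv2 F439097)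
theorem F506525 : act 6 n220963 = n216828 := d3_2 F399240 D220963 F486081
theorem F506526 : act 7 n220963 = n201117 := d4_2 (iv7 F395733) D220963 (iv2 D201117)
theorem F506527 : act 1 n220963 = n201116 := d15_0 (iv0 D201116) (iv7 F395733) D220963
theorem F506528 : act 1 n200769 = n220963 := d15_0 F506527 (iv7 F419149) (iv2 F417853)
def n220964 : Q := act 2 n195098
theorem D220964 : act 2 n195098 = n220964 := rfl
theorem F506529 : act 3 n220964 = n200840 := d0_2 D195098 D220964 (iv2 D200840) (iv3 D113546) (iv2 F395766)
theorem F506530 : act 5 n220964 = n200095 := d2_2 F435995 D220964 (iv2 F435992)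
theorem F506531 : act 6 n220964 = n206658 := d3_2 F441723 D220964 (iv2 F441775)
theorem F506532 : act 7 n220964 = n200094 := d4_2 F395768 D220964 F414981
theorem F506533 : act 1 n220964 = n200771 := d15_0 (iv0 F417859) F395768 D220964
theorem F506534 : act 1 n200845 = n220964 := d15_0 F506533 (iv7 F417861) (iv2 F418128)
def n220965 : Q := act 4 n195098
theorem D220965 : act 4 n195098 = n220965 := rfl
theorem F506535 : act 3 n220965 = n212355 := d5_1 D220965 F465454 F415797 (iv4 F395522) D195098
theorem F506536 : act 7 n220965 = n200846 := d11_2 F395768 D220965 (iv4 D200846)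
theorem F506537 : act 5 n220965 = n212669 := d16_1 D220965 F466975 (iv5 D195685) (iv4 F395467) F395476 F202023 D200094 (iv7 F506532) (iv2 D220964)
def n220966 : Q := act 4 n195099
theorem D220966 : act 4 n195099 = n220966 := rfl
theorem F506538 : act 2 n220966 = n200844 := d1_1 D220966 (iv4 D200844) F395774
theorem F506539 : act 7 n220966 = n200847 := d11_2 F395770 D220966 (iv4 D200847)
theorem F506540 : act 5 n220966 = n205425 := d17_5 (iv1 D195036) F161095 D105263 D195099 D220966 (iv0 D205425) (iv5 D125934) D125933 F395504
theorem F506541 : act 0 n220966 = n205323 := d17_0 F441337 F441339 (iv5 D205406) (iv4 F395518) D200570 (iv0 F417004) D207507 F445198 D220966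
theorem F506542 : act 1 n220966 = n205319 := d18_6 (iv1 D106226) F77471 D106125 (iv4 F395522) D195099 D220966 (iv4 F436060) F436062 (iv5 D195717)
theorem F506543 : act 3 n220966 = n205477 := d19_3 D105263 D195099 D220966 (iv1 F483698) F483694 F284028 (iv3 F284012) (iv1 F352447) D209950 F455499 (iv3 D199173) (iv1 D111033) (iv5 D51198) F39058 (iv3 F39054) D51189 D111012 (iv4 F342881) F161214
def n220967 : Q := act 4 n195103
theorem D220967 : act 4 n195103 = n220967 := rfl
theorem F506544 : act 2 n220967 = n200847 := d1_1 D220967 (iv4 D200847) F395781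
theorem F506545 : act 6 n220967 = n205341 := d10_2 F435304 D220967 F435988
theorem F506546 : act 7 n220967 = n200844 := d11_2 (iv7 F395777) D220967 (iv4 D200844)
theorem F506547 : act 5 n220967 = n205426 := d17_5 (iv1 F395507) F176422 (iv1 F161216) D195103 D220967 F436358 (iv5 F362930) F202414 F395516
theorem F506548 : act 0 n220967 = n205319 := d17_0 (iv5 F484252) F484253 (iv5 D205408) F395509 (iv5 F365649) (iv0 F391984) (iv5 F435935) (iv0 F435940) D220967
theorem F506549 : act 1 n220967 = n205323 := d15_1 (iv0 F506548) (iv7 D205323) (iv2 F435928)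
def n220968 : Q := act 6 n195106
theorem D220968 : act 6 n195106 = n220968 := rfl
theorem F506550 : act 2 n220968 = n200855 := d3_1 D220968 (iv6 D200855) F395794
theorem F506551 : act 3 n220968 = n219013 := d7_1 D220968 F496679 F440676
theorem F506552 : act 4 n220968 = n206705 := d10_1 D220968 (iv6 D206705) (iv4 F395793)
theorem F506553 : act 5 n220968 = n212181 := d12_1 D220968 (iv6 D212181) (iv5 D145437) (iv6 F202437) (iv5 F395792)
theorem F506554 : act 7 n220968 = n219494 := d14_2 (iv7 F395791) D220968 F499163 (iv7 F402678) F402677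
theorem F506555 : act 0 n220968 = n219493 := d21_4 F418151 (iv1 F202438) (iv5 F395792) D220968 (iv6 D219493) (iv5 F384084) (iv1 F440870) F440867 (iv6 F417209) (iv1 F418149)
theorem F506556 : act 0 n219495 = n220968 := d21_4 F211440 (iv1 F211331) D206489 (iv6 F499170) (iv6 D220968) F395792 F395559 (iv5 F418143) (iv6 F418145) (iv1 F399252)
def n220969 : Q := act 0 n195114
theorem D220969 : act 0 n195114 = n220969 := rfl
theorem F506557 : act 5 n220969 = n205536 := d17_1 D220969 (iv1 F436887) F358226 (iv4 F299762) D174242 D215392 (iv5 F486352) (iv0 F495083) F495080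
theorem F506558 : act 4 n220969 = n214357 := d18_1 D220969 F474738 (iv4 F506328) F506329 (iv4 F455407) (iv0 F455409) (iv4 F477053) (iv0 D214833) F395830
theorem F506559 : act 3 n220969 = n200872 := d20_5 (iv4 F341673) F206413 (iv4 F341684) (iv3 F395829) D220969 (iv4 F479695) (iv1 D215382) (iv4 F477058) F477057 F257223
theorem F506560 : act 6 n220969 = n206641 := d21_5 D52374 D113457 F357994 D195114 D220969 F441708 (iv1 F402690) F402693 (iv6 D113449) (iv1 D52371)
theorem F506561 : act 2 n196998 = n220969 := d15_3 (iv0 D220969) (iv0 F395831) (iv7 F402619)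
theorem F506562 : act 1 n200953 = n220969 := d15_0 (iv0 D220969) (iv7 F435733) F435729
theorem F506563 : act 7 n220969 = n200951 := d15_2 F418480 F506562 F418467
def n220970 : Q := act 4 n195119
theorem D220970 : act 4 n195119 = n220970 := rfl
theorem F506564 : act 2 n220970 = n197809 := d1_1 D220970 F420130 F395860
theorem F506565 : act 7 n220970 = n200932 := d11_2 F395855 D220970 (iv4 D200932)
theorem F506566 : act 0 n220970 = n198316 := d18_2 F420104 D220970 F459356 F419079 F418308 (iv0 F421534) F418738 D201016 (iv5 F420103)
theorem F506567 : act 6 n196373 = n220970 := d21_3 F405829 (iv1 F345341) F400502 F506566 (iv6 F459351) (iv5 F459354) (iv1 F228340) (iv5 F165310) (iv6 F356736) D197798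
def n220971 : Q := act 6 n195119
theorem D220971 : act 6 n195119 = n220971 := rfl
theorem F506568 : act 2 n220971 = n197808 := d3_1 D220971 F420129 F395860
theorem F506569 : act 3 n220971 = n200999 := d7_1 D220971 F475246 (iv3 F475248)
theorem F506570 : act 4 n220971 = n196373 := d10_1 D220971 F506567 (iv4 D220970)
theorem F506571 : act 5 n220971 = n200995 := d12_1 D220971 (iv6 D200995) (iv5 F395836) (iv6 D195120) D195119
theorem F506572 : act 7 n220971 = n197812 := d14_2 F395855 D220971 (iv6 F405855) F395867 F178383
theorem F506573 : act 0 n220971 = n206234 := d21_4 (iv5 D105304) D105302 D195119 D220971 (iv6 D206234) (iv5 F345177) (iv1 F345180) F205484 D188981 F375319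
def n220972 : Q := act 1 n195121
theorem D220972 : act 1 n195121 = n220972 := rfl
theorem F506574 : act 1 n220972 = n195751 := d15_1 D220972 (iv7 F475821) F475818
theorem F506575 : act 7 n220972 = n195735 := d15_2 (iv0 F406143) D220972 F397987
theorem F506576 : act 4 n220972 = n209125 := d17_9 (iv1 F452373) (iv5 F433215) F481231 F481228 (iv4 F494664) (iv5 D218594) D218593 F494657 D220972
theorem F506577 : act 3 n208989 = n220972 := d19_19 (iv1 D220972) (iv5 F494657) F494656 (iv3 F408398) F408400 (iv5 D136503) (iv4 D64169) (iv3 F161298) (iv1 F111012) F111009 (iv4 F173606) (iv3 F393444) (iv1 F393448) (iv5 F350456) (iv4 F350448) F350453 (iv1 F369183) (iv5 F371382) (iv4 F451723)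
theorem F506578 : act 2 n220972 = n195754 := d0_1 F506577 (iv3 F449333) F451749 (iv3 D208994) F451725
theorem F506579 : act 6 n220972 = n195759 := d7_2 (iv6 F451724) F506577 F398065
def n220973 : Q := act 4 n195122
theorem D220973 : act 4 n195122 = n220973 := rfl
theorem F506580 : act 2 n220973 = n200932 := d1_1 D220973 (iv4 D200932) (iv2 F395862)
theorem F506581 : act 6 n220973 = n201454 := d10_2 (iv6 F395864) D220973 F420564
theorem F506582 : act 7 n220973 = n197809 := d11_2 (iv7 F395863) D220973 F420130
theorem F506583 : act 1 n220973 = n198316 := d18_6 (iv1 F161548) (iv4 F203067) (iv1 F203070) F362902 D195122 D220973 F459356 (iv0 D201097) (iv5 D113904)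
theorem F506584 : act 5 n220461 = n220973 := d17_7 (iv1 F419080) (iv5 D113909) (iv1 D52587) D52588 D113913 D201105 (iv0 F503885) F506583 F459356
def n220974 : Q := act 7 n195123
theorem D220974 : act 7 n195123 = n220974 := rfl
theorem F506585 : act 2 n220974 = n200934 := d4_1 D220974 (iv7 D200934) (iv2 F395869)
theorem F506586 : act 4 n220974 = n196089 := d11_1 D220974 (iv7 F417376) F417375
theorem F506587 : act 5 n220974 = n207199 := d13_1 D220974 (iv7 F496398) F496401
theorem F506588 : act 6 n220974 = n195797 := d14_1 D220974 F398226 (iv6 D113631) (iv7 F395846) D195123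
theorem F506589 : act 1 n195801 = n220974 := d15_1 F418412 (iv7 D220974) F395869
theorem F506590 : act 1 n220974 = n200369 := d15_1 F506589 F416166 (iv2 F398239)
def n220975 : Q := act 3 n195124
theorem D220975 : act 3 n195124 = n220975 := rfl
theorem F506591 : act 4 n220975 = n213708 := d5_2 D195124 D220975 (iv3 F490329) F490330 F371622
theorem F506592 : act 6 n220975 = n195126 := d7_2 (iv6 F395871) D220975 (iv3 D195126)
theorem F506593 : act 0 n220975 = n196325 := d19_4 (iv1 D105303) D105304 D195124 D220975 F400339 F379063 (iv3 F378953) F480960 (iv5 D215143) D215142 (iv3 F478556) F474007 F447869 F394841 (iv3 F436858) F443371 F443370 F441313 (iv3 D195121)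
theorem F506594 : act 1 n220975 = n213272 := d15_1 (iv0 F506593) (iv7 F497669) F497666
def n220976 : Q := act 5 n195124
theorem D220976 : act 5 n195124 = n220976 := rfl
theorem F506595 : act 2 n220976 = n200939 := d2_1 D220976 (iv5 D200939) (iv2 F395870)
theorem F506596 : act 6 n220976 = n200939 := d12_2 (iv6 F395871) D220976 (iv5 D200939) F176815 (iv5 F161471)
theorem F506597 : act 0 n220297 = n220976 := d19_0 (iv5 D220976) (iv4 D195124) (iv3 F371622) D217725 F490333 F374601 F336054 F139297 D92796 F143137 F69401 (iv1 F55140) D34930 D76465 D159797 F385145 (iv5 F488546) (iv4 F495714) (iv3 F503081)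
def n220977 : Q := act 7 n195124
theorem D220977 : act 7 n195124 = n220977 := rfl
theorem F506598 : act 2 n220977 = n200940 := d4_1 D220977 (iv7 D200940) (iv2 F395870)
theorem F506599 : act 4 n220977 = n195125 := d11_1 D220977 (iv7 D195125) D195124
theorem F506600 : act 6 n220977 = n212886 := d14_1 D220977 (iv7 D212886) (iv6 D151242) (iv7 F161470) (iv6 F395871)
theorem F506601 : act 1 n196927 = n220977 := d15_1 (iv0 F402328) (iv7 D220977) F395870
theorem F506602 : act 1 n220977 = n200938 := d15_1 F506601 (iv7 F418444) F410873
def n220978 : Q := act 1 n195126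
theorem D220978 : act 1 n195126 = n220978 := rfl
theorem F506603 : act 7 n220978 = n206237 := d15_2 F471796 D220978 (iv2 F471790)
theorem F506604 : act 5 n220978 = n201362 := d17_7 (iv1 F386102) F386099 (iv1 F391158) (iv5 F391161) (iv4 F391164) (iv5 F395876) D220978 F420179 (iv4 F239762)
theorem F506605 : act 4 n220978 = n218264 := d17_9 (iv1 F493030) F471786 (iv1 F389465) (iv5 F440016) F440015 F418448 (iv0 D200941) (iv5 F395876) D220978
theorem F506606 : act 3 n198174 = n220978 := d20_3 (iv4 F372187) F442643 F442642 (iv1 D220978) (iv3 D195126) (iv4 D105306) F76618 D52765 D114334 F365267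
theorem F506607 : act 6 n197753 = n220978 := d21_9 F395876 D200941 (iv5 F418448) (iv6 F402314) F402312 (iv6 F354398) F354397 (iv1 F168538) D197753 (iv1 D220978)
theorem F506608 : act 2 n220978 = n197756 := d3_1 F506607 (iv6 D197756) (iv2 F405635)
theorem F506609 : act 1 n220978 = n212882 := d15_0 (iv0 F471795) F471793 (iv2 F506608)
def n220979 : Q := act 2 n195126
theorem D220979 : act 2 n195126 = n220979 := rfl
theorem F506610 : act 3 n220979 = n200943 := d0_2 D195126 D220979 (iv2 D200943) (iv3 D113641) (iv2 F161469)
theorem F506611 : act 4 n220979 = n220740 := d1_2 F490323 D220979 (iv2 F505259)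
theorem F506612 : act 5 n220979 = n200943 := d2_2 (iv5 F395876) D220979 (iv2 D200943)
theorem F506613 : act 7 n220979 = n212882 := d4_2 (iv7 F395877) D220979 (iv2 D212882)
theorem F506614 : act 1 n220979 = n197756 := d15_0 (iv0 F405649) (iv7 F395877) D220979
theorem F506615 : act 1 n206237 = n220979 := d15_0 F506614 (iv7 F471793) F471790
def n220980 : Q := act 5 n195129
theorem D220980 : act 5 n195129 = n220980 := rfl
theorem F506616 : act 2 n220980 = n200999 := d2_1 D220980 (iv5 D200999) (iv2 F395888)
theorem F506617 : act 3 n220980 = n212286 := d6_1 D220980 (iv5 D212286) F409943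
theorem F506618 : act 6 n220980 = n201676 := d12_2 D195129 D220980 (iv5 F421342) F364677 F364674
theorem F506619 : act 0 n220980 = n195646 := d17_2 F418318 D220980 (iv5 D195646) (iv4 F374585) D195103 (iv0 F445199) (iv5 D207507) F391985 (iv4 F418317)
theorem F506620 : act 0 n195644 = n220980 := d21_1 D195644 (iv5 D220980) (iv6 D195129) (iv1 D105310) (iv6 D48689) (iv5 D23739) (iv1 F18209) (iv5 F37354) D49053 D106125
theorem F506621 : act 7 n220980 = n214431 := d15_2 (iv0 F421917) (iv0 F506619) F475151
def n220981 : Q := act 7 n195129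
theorem D220981 : act 7 n195129 = n220981 := rfl
theorem F506622 : act 2 n220981 = n201000 := d4_1 D220981 (iv7 D201000) (iv2 F395888)
theorem F506623 : act 3 n220981 = n202945 := d8_1 D220981 F426318 F409943
theorem F506624 : act 5 n220981 = n214431 := d13_1 D220981 (iv7 F506621) (iv5 D220980)
theorem F506625 : act 6 n220981 = n195857 := d14_1 D220981 F398480 (iv6 D113720) (iv7 F343644) D195129
theorem F506626 : act 1 n200988 = n220981 := d15_1 (iv0 F418641) (iv7 D220981) F395888
theorem F506627 : act 1 n220981 = n200998 := d15_1 F506626 (iv7 F418675) (iv2 F418638)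
def n220982 : Q := act 6 n195139
theorem D220982 : act 6 n195139 = n220982 := rfl
theorem F506628 : act 2 n220982 = n208267 := d3_1 D220982 (iv6 F448652) (iv2 F395933)
theorem F506629 : act 3 n220982 = n195140 := d7_1 D220982 (iv6 D195140) D195139
theorem F506630 : act 4 n220982 = n212656 := d10_1 D220982 (iv6 D212656) (iv4 F395934)
theorem F506631 : act 7 n220982 = n208266 := d14_2 F450769 D220982 F448649 (iv7 F361057) D208766
theorem F506632 : act 0 n220982 = n208265 := d21_4 D134951 F365268 (iv5 F395935) D220982 (iv6 D208265) (iv5 F360775) (iv1 F360776) F365400 F365404 (iv1 D134950)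
theorem F506633 : act 0 n208269 = n220982 := d21_4 (iv5 F456196) (iv1 F449290) F449288 (iv6 F448657) (iv6 D220982) F395935 F422363 (iv5 F450504) F450505 (iv1 F413132)
def n220983 : Q := act 1 n195140
theorem D220983 : act 1 n195140 = n220983 := rfl
theorem F506634 : act 1 n220983 = n208528 := d15_1 D220983 (iv7 F475518) F475515
theorem F506635 : act 4 n220983 = n218482 := d18_7 (iv1 F465245) F237334 (iv1 F238461) F360959 F238408 (iv4 F395937) D220983 F494109 F465247
theorem F506636 : act 3 n210266 = n220983 := d20_9 F395937 F363820 F99301 F98401 (iv1 F168309) D134255 (iv4 F217241) (iv1 F356306) D210266 (iv1 D220983)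
theorem F506637 : act 6 n209791 = n220983 := d21_3 F499540 (iv1 D217920) (iv5 F454965) (iv1 D220983) (iv6 D195140) F330621 (iv1 F330613) (iv5 F330619) (iv6 F384439) (iv1 F499538)
theorem F506638 : act 2 n220983 = n219574 := d3_1 F506637 (iv6 D219574) F454967
def n220984 : Q := act 5 n195140
theorem D220984 : act 5 n195140 = n220984 := rfl
theorem F506639 : act 2 n220984 = n219418 := d2_1 D220984 F498798 F475515
theorem F506640 : act 6 n220984 = n211301 := d12_2 D195140 D220984 (iv5 D211301) (iv6 D141540) (iv5 F330621)
theorem F506641 : act 4 n220984 = n204103 := d16_2 (iv4 F395937) D220984 (iv5 F468276) F468275 F238437 (iv4 F452313) (iv5 D209112) F342159 F251540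
def n220985 : Q := act 7 n195140
theorem D220985 : act 7 n195140 = n220985 := rfl
theorem F506642 : act 2 n220985 = n208528 := d4_1 D220985 (iv7 F475518) F475515
theorem F506643 : act 3 n220985 = n208266 := d8_1 D220985 (iv7 F506631) F506629
theorem F506644 : act 4 n220985 = n195142 := d11_1 D220985 (iv7 D195142) (iv4 F395937)
theorem F506645 : act 6 n220985 = n216299 := d14_1 D220985 F483709 (iv6 F450755) F233632 D195140
theorem F506646 : act 1 n219574 = n220985 := d15_1 (iv0 F499518) (iv7 D220985) (iv2 F475515)
def n220986 : Q := act 5 n195141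
theorem D220986 : act 5 n195141 = n220986 := rfl
theorem F506647 : act 2 n220986 = n209114 := d2_1 D220986 F452322 F395940
theorem F506648 : act 3 n220986 = n195163 := d6_1 D220986 (iv5 D195163) F395941
theorem F506649 : act 6 n220986 = n212915 := d12_2 F451952 D220986 F468099 F429307 (iv5 F451951)
theorem F506650 : act 7 n220986 = n201096 := d13_2 (iv7 F395939) D220986 (iv5 D201096)
theorem F506651 : act 4 n220986 = n212305 := d16_2 F395942 D220986 (iv5 F468004) F468003 F449348 (iv4 D208434) (iv5 D134319) D134320 (iv2 F384045)
theorem F506652 : act 1 n220986 = n209113 := d17_6 D217695 F490165 F488056 (iv5 F488053) F395942 D220986 F452316 (iv0 F448191) F443962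
theorem F506653 : act 0 n220986 = n201630 := d18_0 (iv4 D201630) (iv1 F420513) (iv4 F452175) (iv5 D209084) (iv4 F452171) (iv0 F452172) F395937 D195141 D220986
def n220987 : Q := act 4 n195144
theorem D220987 : act 4 n195144 = n220987 := rfl
theorem F506654 : act 2 n220987 = n200506 := d1_1 D220987 F416770 (iv2 F395958)
theorem F506655 : act 3 n220987 = n204944 := d5_1 D220987 F434282 (iv3 F341079) F229943 (iv3 F395959)
theorem F506656 : act 5 n220987 = n200500 := d9_2 D195144 D220987 (iv4 D200500) (iv5 D113185) F82600 D52394 D113506 D200810 (iv4 F458593) F458594 (iv4 D198875) F170797 F82603 (iv5 F76644) (iv4 F161520)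
theorem F506657 : act 7 n220987 = n200816 := d11_2 (iv7 F395960) D220987 (iv4 D200816)
theorem F506658 : act 0 n220987 = n197632 := d17_0 (iv5 F480431) F480434 (iv5 F393141) F393142 F383753 F445031 F445029 F411382 D220987
theorem F506659 : act 1 n220987 = n210927 := d18_6 (iv1 F352448) (iv4 F352451) (iv1 D105351) (iv4 F161520) D195144 D220987 F459322 (iv0 F455500) (iv5 D209950)
theorem F506660 : act 6 n220987 = n210916 := d21_5 (iv5 F401239) (iv1 F459319) (iv5 D210926) D210927 (iv1 F506659) F479237 F479236 F407278 (iv6 D192901) (iv1 F386519)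
def n220988 : Q := act 6 n195144
theorem D220988 : act 6 n195144 = n220988 := rfl
theorem F506661 : act 2 n220988 = n198057 := d3_1 D220988 F406609 (iv2 F395958)
theorem F506662 : act 3 n220988 = n195147 := d7_1 D220988 (iv6 D195147) (iv3 F395959)
theorem F506663 : act 4 n220988 = n210916 := d10_1 D220988 (iv6 F506660) (iv4 D220987)
theorem F506664 : act 5 n220988 = n218688 := d12_1 D220988 F495163 (iv5 F395966) (iv6 D195145) D195144
theorem F506665 : act 7 n220988 = n210513 := d14_2 (iv7 F395960) D220988 F457868 F391226 F383748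
theorem F506666 : act 0 n220988 = n199582 := d21_4 (iv5 F136773) F367826 D195144 D220988 (iv6 D199582) F350422 (iv1 D141136) (iv5 D66200) D66201 F360355
theorem F506667 : act 0 n210514 = n220988 := d21_4 (iv5 F383500) D219432 F498863 F457876 (iv6 D220988) (iv5 D195144) (iv1 F360366) F360367 (iv6 F360368) (iv1 F372301)
def n220989 : Q := act 5 n195147
theorem D220989 : act 5 n195147 = n220989 := rfl
theorem F506668 : act 2 n220989 = n210554 := d2_1 D220989 (iv5 D210554) (iv2 F395973)
theorem F506669 : act 3 n220989 = n218688 := d6_1 D220989 (iv5 F506664) F506662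
theorem F506670 : act 6 n220989 = n195151 := d12_2 D195147 D220989 (iv5 D195151) (iv6 D105332) D105331
theorem F506671 : act 7 n220989 = n210673 := d13_2 (iv7 F395977) D220989 (iv5 D210673)
theorem F506672 : act 0 n220989 = n210396 := d17_2 (iv1 F395976) D220989 (iv5 D210396) (iv4 F334430) F396292 F396289 (iv5 F333259) F333257 (iv4 F341127)
theorem F506673 : act 1 n220989 = n210394 := d17_6 D65120 (iv5 F353416) D194515 F393524 (iv4 F395974) D220989 (iv5 D210394) (iv0 D138622) F100875
def n220990 : Q := act 4 n195151
theorem D220990 : act 4 n195151 = n220990 := rfl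
theorem F506674 : act 2 n220990 = n210837 := d1_1 D220990 F458957 F449622
theorem F506675 : act 5 n220990 = n202579 := d9_2 D195151 D220990 F424595 (iv5 D146619) (iv4 F319422) F355708 F218156 D208855 (iv4 F500093) F500094 (iv4 D195221) (iv5 D105437) F76782 (iv5 F76635) (iv4 F161522)
theorem F506676 : act 7 n220990 = n210836 := d11_2 F504761 D220990 (iv4 F504764)
theorem F506677 : act 0 n220990 = n210426 := d17_0 (iv5 D210426) (iv1 F434400) (iv5 F458964) F458965 D216713 (iv0 F485593) (iv5 F471266) (iv0 F471269) D220990
theorem F506678 : act 1 n220990 = n210423 := d18_8 (iv1 F426277) (iv4 D202937) F233411 D148650 (iv5 F364524) (iv4 F471265) (iv0 F471269) D220990 (iv5 D210423)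
def n220991 : Q := act 0 n195154
theorem D220991 : act 0 n195154 = n220991 := rfl
theorem F506679 : act 4 n220991 = n212643 := d18_3 D105334 D195154 D220991 F466851 F397513 (iv0 D194515) F192430 (iv0 D48756) (iv5 F76635)
theorem F506680 : act 2 n209738 = n220991 := d15_3 (iv0 D220991) F465074 F465072
theorem F506681 : act 1 n195155 = n220991 := d15_0 (iv0 D220991) (iv7 F451928) F451925
theorem F506682 : act 7 n220991 = n209793 := d15_2 (iv0 F465073) F506681 (iv2 F465069)
theorem F506683 : act 6 n209199 = n220991 := d21_3 (iv5 D136877) (iv1 F218690) D209199 (iv1 F506681) F396001 F335168 (iv1 F456566) F456563 (iv6 F448965) F225845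
theorem F506684 : act 3 n208359 = n220991 := d8_3 F506682 (iv3 F454976) (iv7 F452426)
def n220992 : Q := act 5 n195154
theorem D220992 : act 5 n195154 = n220992 := rfl
theorem F506685 : act 2 n220992 = n209794 := d2_1 D220992 (iv5 D209794) (iv2 F395999)
theorem F506686 : act 3 n220992 = n216590 := d6_1 D220992 (iv5 F485096) F450054
theorem F506687 : act 4 n220992 = n202580 := d16_2 D195154 D220992 (iv5 D202580) F180762 D116022 (iv4 F339442) (iv5 F339446) (iv7 F395932) (iv2 F395930)
theorem F506688 : act 0 n220992 = n216596 := d17_2 (iv1 F465074) D220992 F492785 F492782 F465703 F338190 D148594 (iv0 F360953) (iv4 F465071)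
theorem F506689 : act 0 n216595 = n220992 := d19_0 (iv5 D220992) (iv4 D195154) F336803 (iv1 F390809) (iv5 D193733) (iv4 D102269) F74643 (iv1 F64407) F64409 (iv4 D22845) (iv3 F35410) D47530 (iv5 F295315) F295314 (iv3 F151860) D191489 F428218 F428219 (iv3 F485110)
def n220993 : Q := act 5 n195155
theorem D220993 : act 5 n195155 = n220993 := rfl
theorem F506690 : act 3 n220993 = n208526 := d6_1 D220993 (iv5 D208526) (iv3 F396000)
theorem F506691 : act 4 n220993 = n210840 := d9_1 D220993 F458967 F223177 (iv5 F223188) (iv4 F341044) (iv5 F355711) D195154 D220992 F506687 (iv5 D202580) F180762 D116022 (iv4 F339442) (iv5 F339446) D195155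
theorem F506692 : act 6 n220993 = n216709 := d12_2 (iv6 F396001) D220993 F485568 F428923 (iv5 F335168)
theorem F506693 : act 7 n220993 = n209794 := d13_2 (iv7 F396002) D220993 (iv5 D209794)
theorem F506694 : act 0 n220993 = n216595 := d18_0 (iv4 D216595) (iv1 F424449) (iv4 F450805) (iv5 D208773) (iv4 F363110) (iv0 F360953) (iv4 F465071) (iv0 F465073) D220993
theorem F506695 : act 0 n216596 = n220993 := d21_7 (iv5 F474800) (iv1 F474804) (iv5 F448625) (iv6 F471516) F471519 D218219 (iv5 F492785) (iv5 D220993) F396001 (iv1 F449215)
def n220994 : Q := act 4 n195163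
theorem D220994 : act 4 n195163 = n220994 := rfl
theorem F506696 : act 2 n220994 = n201101 := d1_1 D220994 (iv4 D201101) (iv2 F396044)
theorem F506697 : act 3 n220994 = n217802 := d5_1 D220994 F490704 (iv3 F465241) (iv4 F506651) F506648
theorem F506698 : act 6 n220994 = n201363 := d10_2 F396046 D220994 F420185
theorem F506699 : act 7 n220994 = n201099 := d11_2 (iv7 F396045) D220994 (iv4 D201099)
theorem F506700 : act 1 n220994 = n214185 := d18_6 (iv1 F161466) (iv4 F176705) (iv1 F204672) (iv4 F362906) D195163 D220994 (iv4 F475231) F475235 (iv5 D195119)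
theorem F506701 : act 5 n220297 = n220994 := d17_7 F475234 (iv5 D195122) (iv1 D105303) D105304 D195124 D220976 (iv0 F506597) F506700 (iv4 F475231)
def n220995 : Q := act 5 n195167
theorem D220995 : act 5 n195167 = n220995 := rfl
theorem F506702 : act 2 n220995 = n209101 := d2_1 D220995 (iv5 D209101) (iv2 F396063)
theorem F506703 : act 3 n220995 = n200287 := d6_1 D220995 (iv5 F436980) F436978
theorem F506704 : act 4 n220995 = n207384 := d9_1 D220995 (iv5 F444620) F421294 F183732 (iv4 F238570) (iv5 F394472) F394471 F391682 (iv4 F444728) (iv5 F444726) (iv4 F364744) F349258 F247679 (iv5 F161551) (iv4 F396064)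
theorem F506705 : act 6 n220995 = n212983 := d12_2 D195167 D220995 F468453 (iv6 F465225) F231743
theorem F506706 : act 7 n220995 = n209103 := d13_2 (iv7 F396065) D220995 (iv5 D209103)
theorem F506707 : act 0 n220995 = n203442 := d17_2 F396066 D220995 F428327 (iv4 F365704) (iv5 F451661) F451663 F252363 F391717 F391714
theorem F506708 : act 1 n220995 = n207407 := d17_6 F451934 F451933 (iv1 D157363) (iv5 F161551) (iv4 F396064) D220995 F444745 F439074 (iv4 F439076)
def n220996 : Q := act 6 n195175
theorem D220996 : act 6 n195175 = n220996 := rfl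
theorem F506709 : act 2 n220996 = n201127 := d3_1 D220996 (iv6 D201127) (iv2 F396099)
theorem F506710 : act 3 n220996 = n205356 := d7_1 D220996 (iv6 F436055) F399357
theorem F506711 : act 4 n220996 = n209352 := d10_1 D220996 F453365 F421579
theorem F506712 : act 5 n220996 = n206527 := d12_1 D220996 (iv6 D206527) F342951 (iv6 F342950) D195175
theorem F506713 : act 7 n220996 = n209348 := d14_2 (iv7 F396100) D220996 (iv6 D209348) F330449 (iv6 F396112)
theorem F506714 : act 0 n220996 = n219089 := d21_4 (iv5 D105356) D105354 D195175 D220996 F497128 (iv5 D206085) (iv1 F393458) F418729 (iv6 F418730) (iv1 D195179)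
theorem F506715 : act 1 n220996 = n216109 := d15_1 (iv0 F506714) (iv7 F498638) F498636
def n220997 : Q := act 1 n195176
theorem D220997 : act 1 n195176 = n220997 := rfl
theorem F506716 : act 1 n220997 = n200654 := d15_1 D220997 (iv7 F418407) F418404
theorem F506717 : act 7 n220997 = n200774 := d15_2 F439298 D220997 (iv2 F439293)
theorem F506718 : act 5 n220997 = n205414 := d17_7 (iv1 F418750) (iv5 F420103) F420104 (iv5 D195119) (iv4 F395842) (iv5 F396108) D220997 F470819 F470815
theorem F506719 : act 6 n200845 = n220997 := d21_3 F445734 (iv1 D205187) F418127 (iv1 D220997) (iv6 F399190) F399189 (iv1 F259061) D215021 F477936 F445735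
theorem F506720 : act 2 n220997 = n201122 := d3_1 F506719 (iv6 F419167) (iv2 F418128)
def n220998 : Q := act 4 n195187
theorem D220998 : act 4 n195187 = n220998 := rfl
theorem F506721 : act 2 n220998 = n201151 := d1_1 D220998 (iv4 D201151) (iv2 F396156)
theorem F506722 : act 6 n220998 = n209345 := d10_2 (iv6 F396158) D220998 F453336
theorem F506723 : act 7 n220998 = n201153 := d11_2 (iv7 F396159) D220998 (iv4 D201153)
theorem F506724 : act 5 n220998 = n206924 := d17_5 (iv1 D159368) F114220 D105368 D195187 D220998 (iv0 D206924) F362931 (iv0 F475113) (iv4 D214423)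
theorem F506725 : act 1 n220998 = n206926 := d18_6 (iv1 D106126) (iv4 F77471) D106225 F383825 D195187 D220998 F442629 (iv0 F421917) (iv5 D195646)
theorem F506726 : act 3 n199477 = n220998 := d7_3 F506722 F453334 (iv6 F446020)
def n220999 : Q := act 4 n195203
theorem D220999 : act 4 n195203 = n220999 := rfl
theorem F506727 : act 2 n220999 = n220612 := d1_1 D220999 F504626 (iv2 F421438)
theorem F506728 : act 3 n220999 = n209912 := d5_1 D220999 (iv4 D209912) F340519 F340516 (iv3 F396233)
theorem F506729 : act 6 n220999 = n218473 := d10_2 F492515 D220999 F494061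
theorem F506730 : act 0 n220999 = n212472 := d17_0 F465962 F465963 (iv5 D194209) F158256 F292763 (iv0 F334778) (iv5 F421449) F421452 D220999
def n221000 : Q := act 4 n195210
theorem D221000 : act 4 n195210 = n221000 := rfl
theorem F506731 : act 2 n221000 = n200404 := d1_1 D221000 (iv4 D200404) (iv2 F396276)
theorem F506732 : act 3 n221000 = n217769 := d5_1 D221000 (iv4 D217769) (iv3 F376989) (iv4 F385806) F396274
theorem F506733 : act 7 n221000 = n200407 := d11_2 F396278 D221000 (iv4 D200407)
theorem F506734 : act 5 n221000 = n218426 := d17_5 D200395 F416284 (iv1 F214377) F396275 D221000 (iv0 F494411) (iv5 F494421) F494424 (iv4 D200396)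
theorem F506735 : act 0 n221000 = n218516 := d17_0 (iv5 D218516) F400101 D189451 (iv4 F416293) F416294 F387954 (iv5 F161798) D195210 D221000
theorem F506736 : act 1 n221000 = n218514 := d18_6 (iv1 F443553) (iv4 F419877) (iv1 F443516) (iv4 D207146) F396275 D221000 F494239 (iv0 F443655) (iv5 F443551)
def n221001 : Q := act 6 n195213
theorem D221001 : act 6 n195213 = n221001 := rfl
theorem F506737 : act 2 n221001 = n199312 := d3_1 D221001 F420350 (iv2 F420348)
theorem F506738 : act 3 n221001 = n195215 := d7_1 D221001 (iv6 D195215) D195213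
theorem F506739 : act 4 n221001 = n199308 := d10_1 D221001 (iv6 F419435) F419434
theorem F506740 : act 5 n221001 = n197042 := d12_1 D221001 F402805 (iv5 F376474) F374882 (iv5 F396298)
theorem F506741 : act 7 n221001 = n199309 := d14_2 (iv7 F396296) D221001 (iv6 F411600) (iv7 F377168) F365210
theorem F506742 : act 0 n221001 = n201584 := d21_4 (iv5 F143132) D188785 (iv5 F396298) D221001 (iv6 D201584) D201583 F421026 (iv5 F430375) (iv6 F430379) F339465
theorem F506743 : act 0 n218414 = n221001 := d21_4 F235979 (iv1 F421704) (iv5 F455963) (iv6 F493772) (iv6 D221001) F396298 (iv1 F374878) F371524 (iv6 F374153) (iv1 F374154)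
def n221002 : Q := act 4 n195216
theorem D221002 : act 4 n195216 = n221002 := rfl
theorem F506744 : act 2 n221002 = n195232 := d1_1 D221002 (iv4 D195232) (iv2 F396309)
theorem F506745 : act 6 n221002 = n219571 := d10_2 F415214 D221002 F499503
theorem F506746 : act 7 n221002 = n195226 := d11_2 (iv7 F396310) D221002 (iv4 D195226)
theorem F506747 : act 0 n221002 = n218219 := d17_0 (iv5 F492785) F506695 (iv5 D220993) (iv4 D195155) F339446 (iv0 F420833) F420830 F396359 D221002
def n221003 : Q := act 5 n195220
theorem D221003 : act 5 n195220 = n221003 := rfl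
theorem F506748 : act 2 n221003 = n212595 := d2_1 D221003 F466605 (iv2 F396332)
theorem F506749 : act 3 n221003 = n195818 := d6_1 D221003 (iv5 D195818) (iv3 F396333)
theorem F506750 : act 4 n221003 = n217038 := d9_1 D221003 (iv5 F504800) (iv4 F504824) F504825 F424942 F361403 D195219 (iv5 F504616) F504615 (iv5 F471266) F471265 F364524 (iv4 D148650) (iv5 F315199) D195220
theorem F506751 : act 6 n221003 = n216940 := d12_2 (iv6 F396334) D221003 (iv5 D216940) (iv6 F355689) (iv5 F355732)
theorem F506752 : act 7 n221003 = n195823 := d13_2 (iv7 F396335) D221003 (iv5 D195823)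
theorem F506753 : act 0 n221003 = n212414 := d17_2 (iv1 F396337) D221003 F465703 (iv4 F335048) (iv5 D138671) (iv0 F319540) F348034 (iv0 F353440) F319649
theorem F506754 : act 1 n221003 = n203134 := d17_6 (iv1 D117317) D117318 F233411 (iv5 F315199) D195220 D221003 (iv5 D203134) (iv0 F426271) (iv4 D202936)
def n221004 : Q := act 3 n195221
theorem D221004 : act 3 n195221 = n221004 := rfl
theorem F506755 : act 4 n221004 = n210806 := d5_2 D195221 D221004 (iv3 D210806) F364628 F178856
theorem F506756 : act 6 n221004 = n210717 := d7_2 (iv6 F467773) D221004 (iv3 F467774)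
theorem F506757 : act 7 n221004 = n198063 := d8_2 (iv7 F396339) D221004 (iv3 F406633)
theorem F506758 : act 0 n221004 = n198066 := d20_4 (iv4 F320790) (iv1 F333262) D195221 D221004 F406637 F168894 (iv1 F79659) D65425 D139392 F349408
theorem F506759 : act 2 n221004 = n198062 := d15_3 (iv0 D198062) D198063 (iv7 F506757)
theorem F506760 : act 0 n198064 = n221004 := d21_4 (iv5 F372573) (iv1 F406679) (iv5 D198074) (iv6 F406635) F506756 (iv5 F500058) F500061 (iv5 D202509) (iv6 D115922) D115918
def n221005 : Q := act 4 n195222
theorem D221005 : act 4 n195222 = n221005 := rfl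
theorem F506761 : act 5 n221005 = n220302 := d16_1 D221005 (iv4 D220302) F410988 (iv4 F439025) F439023 F346747 D212793 F467541 F430413
theorem F506762 : act 1 n221005 = n217612 := d18_6 (iv1 D78988) (iv4 F120161) D164462 F259113 D195222 D221005 F489790 F398474 (iv5 D164472)
def n221006 : Q := act 5 n195226
theorem D221006 : act 5 n195226 = n221006 := rfl
theorem F506763 : act 2 n221006 = n209799 := d2_1 D221006 F456179 F456175
theorem F506764 : act 3 n221006 = n216443 := d6_1 D221006 F484397 F483272
theorem F506765 : act 6 n221006 = n216419 := d12_2 (iv6 F456174) D221006 F484292 (iv6 D216166) (iv5 F456171)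
theorem F506766 : act 4 n221006 = n210426 := d16_2 D195226 D221006 (iv5 D210426) (iv4 D138693) (iv5 F355715) (iv4 D105446) D105447 (iv7 F396301) F396299
def n221007 : Q := act 5 n195232
theorem D221007 : act 5 n195232 = n221007 := rfl
theorem F506767 : act 3 n221007 = n209217 := d6_1 D221007 (iv5 F456183) F456181
theorem F506768 : act 4 n221007 = n210423 := d9_1 D221007 (iv5 D210423) (iv4 D138688) (iv5 F353416) F192430 D105442 D195226 D221006 F506766 (iv5 D210426) (iv4 D138693) (iv5 F355715) (iv4 D105446) D105447 D195232
theorem F506769 : act 7 n221007 = n209799 := d13_2 (iv7 F456178) D221007 F456179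
def n221008 : Q := act 3 n195241
theorem D221008 : act 3 n195241 = n221008 := rfl
theorem F506770 : act 2 n221008 = n207551 := d0_1 D221008 F445415 (iv2 F399234) F399235 F396430
theorem F506771 : act 4 n221008 = n218658 := d5_2 (iv4 F396428) D221008 (iv3 F495011) F484181 (iv3 D195669)
theorem F506772 : act 5 n221008 = n196223 := d6_2 F400082 D221008 F400085
theorem F506773 : act 7 n221008 = n201681 := d8_2 F396431 D221008 (iv3 D201681)
def n221009 : Q := act 6 n195250
theorem D221009 : act 6 n195250 = n221009 := rfl
theorem F506774 : act 2 n221009 = n207558 := d3_1 D221009 F445440 F396475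
theorem F506775 : act 4 n221009 = n210226 := d10_1 D221009 F456649 F434596
theorem F506776 : act 7 n221009 = n205653 := d14_2 (iv7 F396473) D221009 (iv6 D205653) (iv7 F437754) F437753
theorem F506777 : act 0 n205697 = n221009 := d20_10 F506775 F503610 F503607 (iv3 D209057) (iv1 D135653) F99140 F97057 (iv1 F102164) (iv4 F203453) D205697
def n221010 : Q := act 5 n195252
theorem D221010 : act 5 n195252 = n221010 := rfl
theorem F506778 : act 2 n221010 = n195253 := d2_1 D221010 (iv5 D195253) D195252
theorem F506779 : act 3 n221010 = n206585 := d6_1 D221010 (iv5 D206585) (iv3 F396476)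
theorem F506780 : act 4 n221010 = n217554 := d9_1 D221010 F489463 F404779 F352306 (iv4 D134279) (iv5 D63084) (iv4 F98385) D134263 D208400 F449199 F434554 (iv5 F415466) F415465 F360775 (iv4 F396477)
theorem F506781 : act 7 n221010 = n208397 := d13_2 (iv7 F396478) D221010 (iv5 D208397)
theorem F506782 : act 1 n221010 = n198020 := d17_6 D134022 F365396 (iv1 F360777) F360775 (iv4 F396477) D221010 (iv5 F421951) (iv0 D201829) F179204
theorem F506783 : act 0 n221010 = n208399 := d18_0 F449194 (iv1 F388635) (iv4 F405333) F443020 (iv4 F443018) F445235 F445234 F396480 D221010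
theorem F506784 : act 6 n221010 = n217553 := d21_3 F448905 (iv1 F396479) D221010 F489460 F475140 F475136 F388371 (iv5 F448918) (iv6 D208324) D208321
def n221011 : Q := act 6 n195253
theorem D221011 : act 6 n195253 = n221011 := rfl
theorem F506785 : act 2 n221011 = n217553 := d3_1 D221011 (iv6 F506784) F506778
theorem F506786 : act 3 n221011 = n195255 := d7_1 D221011 (iv6 D195255) (iv3 F396481)
theorem F506787 : act 4 n221011 = n201453 := d10_1 D221011 F434546 F434544
theorem F506788 : act 5 n221011 = n212400 := d12_1 D221011 F499235 F455985 (iv6 D195254) D195253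
theorem F506789 : act 7 n221011 = n217807 := d14_2 (iv7 F396482) D221011 F490728 F459884 (iv6 D208401)
theorem F506790 : act 0 n221011 = n217809 := d21_4 F405322 (iv1 D195251) D195253 D221011 (iv6 F490738) (iv5 D193020) (iv1 F361002) (iv5 F250888) (iv6 F448900) F448899
theorem F506791 : act 1 n221011 = n217808 := d15_1 (iv0 F506790) (iv7 F490735) (iv2 F490739)
def n221012 : Q := act 4 n195256
theorem D221012 : act 4 n195256 = n221012 := rfl
theorem F506792 : act 2 n221012 = n209341 := d1_1 D221012 (iv4 D209341) (iv2 F396488)
theorem F506793 : act 6 n221012 = n219595 := d10_2 (iv6 F421859) D221012 F499615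
theorem F506794 : act 7 n221012 = n217008 := d11_2 (iv7 F441867) D221012 F486967
theorem F506795 : act 0 n221012 = n206706 := d17_0 F441921 F440143 F386763 (iv4 F446507) (iv5 D207802) (iv0 D132385) D132387 (iv0 F396489) D221012
theorem F506796 : act 1 n221012 = n207908 := d18_6 (iv1 F212726) (iv4 F179219) (iv1 D115091) (iv4 F161916) D195256 D221012 (iv4 D207908) F361177 F345874
theorem F506797 : act 3 n221012 = n217009 := d20_3 F465512 (iv1 F441870) D221012 (iv1 F486972) F384553 D199270 F481591 F481588 F424892 (iv1 F465515)
def n221013 : Q := act 5 n195258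
theorem D221013 : act 5 n195258 = n221013 := rfl
theorem F506798 : act 2 n221013 = n195259 := d2_1 D221013 (iv5 D195259) D195258
theorem F506799 : act 3 n221013 = n208397 := d6_1 D221013 (iv5 D208397) (iv3 F396496)
theorem F506800 : act 4 n221013 = n218643 := d9_1 D221013 F494929 F441496 (iv5 D206597) (iv4 D128928) (iv5 D60632) D60631 D128924 D206592 F441470 (iv4 F486373) F486374 F395742 (iv5 F395745) (iv4 F396497)
theorem F506801 : act 7 n221013 = n206585 := d13_2 (iv7 F396498) D221013 (iv5 D206585)
theorem F506802 : act 0 n221013 = n206591 := d17_2 (iv1 F396499) D221013 F441463 (iv4 F440682) (iv5 F441375) (iv0 F505429) F505430 (iv0 F441358) F208748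
theorem F506803 : act 1 n221013 = n206590 := d17_6 D196241 F400021 (iv1 F395739) (iv5 F395745) (iv4 F396497) D221013 F441459 (iv0 F212223) F179206
def n221014 : Q := act 6 n195258
theorem D221014 : act 6 n195258 = n221014 := rfl
theorem F506804 : act 2 n221014 = n195260 := d3_1 D221014 (iv6 D195260) D195258
theorem F506805 : act 3 n221014 = n208398 := d7_1 D221014 (iv6 D208398) (iv3 F396496)
theorem F506806 : act 4 n221014 = n206448 := d10_1 D221014 (iv6 D206448) (iv4 F396497)
theorem F506807 : act 0 n221014 = n206101 := d21_4 (iv5 F441459) (iv1 F506803) (iv5 D221013) D221014 (iv6 D206101) (iv5 F421734) F421737 (iv5 F417898) (iv6 F417901) F212223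
theorem F506808 : act 7 n219541 = n221014 := d11_0 F506806 F440857 D219541
theorem F506809 : act 0 n207076 = n221014 := d18_2 F441812 (iv4 F443212) F506806 (iv5 F487293) F487292 F451582 (iv4 F446623) F441390 (iv5 F439304)
def n221015 : Q := act 4 n195259
theorem D221015 : act 4 n195259 = n221015 := rfl
theorem F506810 : act 2 n221015 = n218643 := d1_1 D221015 (iv4 F506800) F506798
theorem F506811 : act 3 n221015 = n209164 := d5_1 D221015 (iv4 D209164) F218599 (iv4 F161920) (iv3 F396501)
theorem F506812 : act 5 n221015 = n200289 := d9_2 D195259 D221015 (iv4 F447817) (iv5 F447818) (iv4 D206587) (iv5 D128920) D128919 D206585 F441438 (iv5 D189741) (iv4 F377582) (iv5 F394500) F394499 (iv5 D128620) (iv4 F161917)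
theorem F506813 : act 7 n221015 = n206592 := d11_2 (iv7 F396502) D221015 (iv4 D206592)
theorem F506814 : act 0 n221015 = n206380 := d17_0 F440509 (iv1 D133398) (iv5 F163521) (iv4 F250891) (iv5 F421969) F421972 D206940 F442671 D221015
theorem F506815 : act 1 n221015 = n201269 := d18_8 (iv1 F214481) (iv4 F443630) F444645 (iv4 D207388) F383191 (iv4 F442670) F442671 D221015 (iv5 D201269)
theorem F506816 : act 6 n221015 = n195644 := d21_5 (iv5 F114468) F178441 D114241 (iv6 F419776) (iv1 F506815) (iv5 D195644) (iv1 F163318) D195798 F398228 (iv1 F163412)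
def n221016 : Q := act 6 n195259
theorem D221016 : act 6 n195259 = n221016 := rfl
theorem F506817 : act 3 n221016 = n195261 := d7_1 D221016 (iv6 D195261) (iv3 F396501)
theorem F506818 : act 4 n221016 = n195644 := d10_1 D221016 (iv6 F506816) (iv4 D221015)
theorem F506819 : act 0 n207660 = n221016 := d21_4 (iv5 F421618) (iv1 D132196) D132198 D207660 (iv6 D221016) (iv5 D195259) F212821 F421772 F421771 (iv1 F421620)
def n221017 : Q := act 0 n195260
theorem D221017 : act 0 n195260 = n221017 := rfl
theorem F506820 : act 5 n221017 = n219515 := d17_3 D219487 (iv5 F499132) D221017 F499243 F383996 F483770 F483767 (iv0 D191593) (iv4 F383899)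
theorem F506821 : act 4 n221017 = n206112 := d18_3 (iv1 D206449) (iv4 F396504) D221017 (iv5 F495068) F495067 F446175 F442483 F487181 F487177
theorem F506822 : act 3 n221017 = n200079 := d20_5 (iv4 F327533) F327530 (iv4 F161925) (iv3 F396503) D221017 (iv4 D200079) (iv1 D112603) D112604 F326079 F207844
theorem F506823 : act 6 n221017 = n206100 := d21_5 D209327 F453245 (iv5 D195259) D195260 D221017 (iv5 F440498) (iv1 D206378) (iv5 F417094) (iv6 F421970) (iv1 F421977)
theorem F506824 : act 2 n206101 = n221017 := d3_3 F506823 (iv2 D206100) D206101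
theorem F506825 : act 7 n207076 = n221017 := d14_0 F506823 F439257 F442936 F442933 (iv6 F443213)
theorem F506826 : act 0 n221017 = n219541 := d19_4 (iv1 F323880) F175192 D200079 (iv3 F506822) F499343 F499133 F447899 (iv1 D182771) D182772 (iv4 F364845) (iv3 F416937) F416940 F248690 (iv4 F160840) (iv3 D56261) F325683 (iv5 F325686) (iv4 F88261) (iv3 F192514)
def n221018 : Q := act 1 n195260
theorem D221018 : act 1 n195260 = n221018 := rfl
theorem F506827 : act 1 n221018 = n219541 := d15_1 D221018 F506808 F506804
theorem F506828 : act 7 n221018 = n206101 := d15_2 (iv0 D221017) D221018 F506824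
theorem F506829 : act 4 n221018 = n206115 := d18_7 F435412 (iv4 F212990) D207941 F447084 F383995 (iv4 F396504) D221018 (iv0 F499354) F499351
theorem F506830 : act 3 n206104 = n221018 := d20_3 F499126 (iv1 F439235) (iv4 F439271) (iv1 D221018) F396503 F161925 (iv1 F168393) (iv4 F208159) (iv3 F418973) (iv1 F499130)
theorem F506831 : act 2 n221018 = n207076 := d0_1 F506830 (iv3 D207076) (iv2 F414928) (iv3 F504568) F504567
theorem F506832 : act 5 n221018 = n217074 := d6_2 (iv5 F439272) F506830 (iv3 D217074)
theorem F506833 : act 6 n221018 = n207626 := d7_2 (iv6 F439273) F506830 F445737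
def n221019 : Q := act 7 n195260
theorem D221019 : act 7 n195260 = n221019 := rfl
theorem F506834 : act 2 n221019 = n219541 := d4_1 D221019 F506808 F506804
theorem F506835 : act 3 n221019 = n195263 := d8_1 D221019 (iv7 D195263) (iv3 F396503)
theorem F506836 : act 4 n221019 = n206450 := d11_1 D221019 (iv7 D206450) (iv4 F396504)
theorem F506837 : act 6 n221019 = n206595 := d14_1 D221019 (iv7 D206595) (iv6 D128925) (iv7 F161918) D195260
theorem F506838 : act 1 n207076 = n221019 := d15_1 (iv0 F506809) (iv7 D221019) (iv2 F506804)
theorem F506839 : act 1 n221019 = n206101 := d15_1 F506838 (iv7 F506828) F506831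
def n221020 : Q := act 7 n195261
theorem D221020 : act 7 n195261 = n221020 := rfl
theorem F506840 : act 2 n221020 = n208404 := d4_1 D221020 (iv7 D208404) (iv2 F396505)
theorem F506841 : act 4 n221020 = n209171 := d11_1 D221020 (iv7 D209171) (iv4 F396506)
theorem F506842 : act 5 n221020 = n207777 := d13_1 D221020 F446392 F442198
theorem F506843 : act 6 n221020 = n209340 := d14_1 D221020 (iv7 D209340) (iv6 D136324) (iv7 F161921) D195261
theorem F506844 : act 1 n208403 = n221020 := d15_1 D208403 (iv7 D221020) F396505
theorem F506845 : act 1 n221020 = n203121 := d15_1 F506844 F427056 (iv2 F449211)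
def n221021 : Q := act 5 n195265
theorem D221021 : act 5 n195265 = n221021 := rfl
theorem F506846 : act 3 n221021 = n195266 := d6_1 D221021 (iv5 D195266) D195265
theorem F506847 : act 6 n221021 = n198019 := d12_2 F453309 D221021 F406529 (iv6 F219395) (iv5 F453306)
theorem F506848 : act 7 n221021 = n214430 := d13_2 F437467 D221021 (iv5 F475150)
def n221022 : Q := act 2 n195272
theorem D221022 : act 2 n195272 = n221022 := rfl
theorem F506849 : act 3 n221022 = n209328 := d0_2 D195272 D221022 F453249 F219387 F161932
theorem F506850 : act 5 n221022 = n201831 := d2_2 (iv5 F396545) D221022 (iv2 D201831)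
theorem F506851 : act 6 n221022 = n212410 := d3_2 (iv6 F490066) D221022 F490068
theorem F506852 : act 7 n221022 = n208319 := d4_2 (iv7 F396546) D221022 F448896
theorem F506853 : act 1 n221022 = n208321 := d15_0 (iv0 D208321) (iv7 F396546) D221022
theorem F506854 : act 1 n208322 = n221022 := d15_0 F506853 (iv7 F448907) F448912
def n221023 : Q := act 4 n195272
theorem D221023 : act 4 n195272 = n221023 := rfl
theorem F506855 : act 3 n221023 = n209190 := d5_1 D221023 (iv4 D209190) (iv3 D135931) (iv4 F161930) D195272
theorem F506856 : act 7 n221023 = n208323 := d11_2 (iv7 F396546) D221023 (iv4 D208323)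
theorem F506857 : act 0 n221023 = n208635 := d17_0 (iv5 D208635) F366592 D205008 (iv4 F449187) (iv5 D208397) F396468 (iv5 F405310) (iv0 F439892) D221023
def n221024 : Q := act 5 n195273
theorem D221024 : act 5 n195273 = n221024 := rfl
theorem F506858 : act 2 n221024 = n209335 := d2_1 D221024 (iv5 D209335) (iv2 F396547)
theorem F506859 : act 3 n221024 = n220601 := d6_1 D221024 F504559 F490067
theorem F506860 : act 6 n221024 = n198168 := d12_2 D195273 D221024 (iv5 D198168) F168994 (iv5 F161929)
theorem F506861 : act 4 n205783 = n221024 := d5_0 F506859 F504558 F422108 D216836 (iv3 F486135)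
def n221025 : Q := act 3 n195274
theorem D221025 : act 3 n195274 = n221025 := rfl
theorem F506862 : act 4 n221025 = n208762 := d5_2 (iv4 F396549) D221025 F450746 (iv4 D204909) F366497
def n221026 : Q := act 6 n195274
theorem D221026 : act 6 n195274 = n221026 := rfl
theorem F506863 : act 2 n221026 = n201645 := d3_1 D221026 F421229 (iv2 F396578)
theorem F506864 : act 4 n221026 = n209629 := d10_1 D221026 (iv6 D209629) (iv4 F396549)
theorem F506865 : act 5 n221026 = n207918 := d12_1 D221026 (iv6 F446989) (iv5 F465645) F465646 F446404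
theorem F506866 : act 7 n221026 = n220147 := d14_2 F396582 D221026 F502362 F421609 F421610
theorem F506867 : act 0 n221026 = n220127 := d21_4 F467637 F446406 F446404 D221026 (iv6 D220127) (iv5 F421821) (iv1 D201797) (iv5 F179184) D201815 (iv1 F467640)
theorem F506868 : act 0 n220149 = n221026 := d21_4 (iv5 F442198) (iv1 D206791) D206792 (iv6 F502373) (iv6 D221026) (iv5 F446404) (iv1 D207779) D207781 F446420 F442906
def n221027 : Q := act 5 n195277
theorem D221027 : act 5 n195277 = n221027 := rfl
theorem F506869 : act 2 n221027 = n196256 := d2_1 D221027 (iv5 D196256) (iv2 F396557)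
theorem F506870 : act 3 n221027 = n195278 := d6_1 D221027 (iv5 D195278) D195277
theorem F506871 : act 7 n221027 = n196259 := d13_2 (iv7 F396559) D221027 (iv5 D196259)
theorem F506872 : act 4 n221027 = n216044 := d18_5 (iv1 F212741) F99708 (iv1 F213173) (iv4 F396558) D221027 (iv0 D216044) (iv4 F443091) F443095 F442507
def n221028 : Q := act 3 n195282
theorem D221028 : act 3 n195282 = n221028 := rfl
theorem F506873 : act 5 n221028 = n207674 := d6_2 F442310 D221028 (iv3 D207674)
theorem F506874 : act 4 n221028 = n204569 := d20_6 (iv4 F96635) (iv1 F161947) (iv4 D105494) (iv3 F161942) D195282 D221028 (iv1 F446113) (iv4 D207710) (iv3 D132241) (iv1 F96681)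
def n221029 : Q := act 3 n195284
theorem D221029 : act 3 n195284 = n221029 := rfl
theorem F506875 : act 4 n221029 = n195285 := d5_2 D195284 D221029 (iv3 D195285) (iv4 D105494) (iv3 F161942)
theorem F506876 : act 5 n221029 = n208726 := d6_2 F396572 D221029 (iv3 D208726)
theorem F506877 : act 6 n221029 = n219561 := d7_2 (iv6 F442580) D221029 (iv3 F499455)
theorem F506878 : act 7 n221029 = n209396 := d8_2 F404699 D221029 F453559
theorem F506879 : act 0 n221029 = n208900 := d19_4 (iv1 D105491) D105493 D195284 D221029 F451320 F365154 (iv3 D130799) (iv1 F317507) F113617 F300962 (iv3 F321355) F334098 (iv5 D84072) D84071 (iv3 F313510) F215121 (iv5 D132984) (iv4 F213178) F213181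
theorem F506880 : act 0 n208756 = n221029 := d20_4 (iv4 F431524) F450734 (iv4 D208757) D208756 (iv3 D221029) (iv4 D195284) D195282 (iv4 F493380) F493379 (iv1 F491309)
def n221030 : Q := act 0 n195285
theorem D221030 : act 0 n195285 = n221030 := rfl
theorem F506881 : act 5 n221030 = n207655 := d17_3 F411884 (iv5 F396574) D221030 F445867 (iv5 F468221) (iv0 F468222) F422081 F411880 D199369
theorem F506882 : act 4 n221030 = n208600 := d18_1 D221030 (iv1 D208600) D208601 F450093 (iv4 F411876) F411873 F222328 (iv0 F179686) (iv5 F396574)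
theorem F506883 : act 3 n221030 = n209584 := d20_5 (iv4 F98333) F98334 D105494 D195285 D221030 (iv4 D209584) (iv1 D136653) (iv4 D64229) F48633 D30257
theorem F506884 : act 2 n208777 = n221030 := d15_3 (iv0 D221030) (iv0 F502337) (iv7 F502339)
theorem F506885 : act 1 n209395 = n221030 := d15_0 (iv0 D221030) F396575 D209395
theorem F506886 : act 7 n221030 = n208779 := d15_2 (iv0 F502338) F506885 (iv2 F502333)
theorem F506887 : act 6 n214525 = n221030 := d14_5 F506886 (iv6 F489550) F489551 F459041 (iv7 F475621)
def n221031 : Q := act 2 n195285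
theorem D221031 : act 2 n195285 = n221031 := rfl
theorem F506888 : act 3 n221031 = n209393 := d0_2 D195285 D221031 (iv2 D209393) (iv3 D136400) (iv2 F161943)
theorem F506889 : act 5 n221031 = n202127 := d2_2 (iv5 F396574) D221031 (iv2 D202127)
theorem F506890 : act 6 n221031 = n216560 := d3_2 F467631 D221031 F484944
theorem F506891 : act 7 n221031 = n209395 := d4_2 (iv7 F396575) D221031 (iv2 D209395)
theorem F506892 : act 1 n221031 = n208779 := d15_0 (iv0 F450829) (iv7 F396575) D221031
theorem F506893 : act 1 n208777 = n221031 := d15_0 F506892 (iv7 F506886) (iv2 F506884)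
def n221032 : Q := act 3 n195287
theorem D221032 : act 3 n195287 = n221032 := rfl
theorem F506894 : act 2 n221032 = n217839 := d0_1 D221032 F490863 F445789 F445788 (iv2 F396585)
theorem F506895 : act 4 n221032 = n217845 := d5_2 (iv4 F396583) D221032 F490893 F432431 (iv3 F394190)
theorem F506896 : act 5 n221032 = n212647 := d6_2 F396584 D221032 (iv3 D212647)
theorem F506897 : act 6 n221032 = n201802 := d7_2 F421610 D221032 (iv3 D201802)
theorem F506898 : act 7 n221032 = n221025 := d8_2 (iv7 F396582) D221032 (iv3 D221025)
def n221033 : Q := act 6 n195288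
theorem D221033 : act 6 n195288 = n221033 := rfl
theorem F506899 : act 2 n221033 = n195390 := d3_1 D221033 (iv6 D195390) F396587
theorem F506900 : act 3 n221033 = n196618 := d7_1 D221033 (iv6 D196618) (iv3 F396586)
theorem F506901 : act 0 n200197 = n221033 := d20_4 F396756 (iv1 F162052) D112784 D200197 F506900 F401228 F360135 (iv4 F415493) (iv3 D200199) (iv1 F396759)
def n221034 : Q := act 5 n195291
theorem D221034 : act 5 n195291 = n221034 := rfl
theorem F506902 : act 3 n221034 = n195292 := d6_1 D221034 (iv5 D195292) (iv3 F396598)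
theorem F506903 : act 6 n221034 = n216540 := d12_2 D195291 D221034 F484858 F468114 (iv5 D195290)
theorem F506904 : act 7 n221034 = n211986 := d13_2 F396600 D221034 (iv5 D211986)
theorem F506905 : act 1 n221034 = n213697 := d17_6 (iv1 F405253) (iv5 F492967) (iv1 F492969) (iv5 D197852) (iv4 F396599) D221034 (iv5 D213697) D213695 (iv4 F471673)
def n221035 : Q := act 4 n195292
theorem D221035 : act 4 n195292 = n221035 := rfl
theorem F506906 : act 2 n221035 = n195375 := d1_1 D221035 (iv4 D195375) (iv2 F396601)
theorem F506907 : act 6 n221035 = n203250 := d10_2 F505115 D221035 (iv4 F505114)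
theorem F506908 : act 7 n221035 = n211987 := d11_2 (iv7 F396602) D221035 (iv4 D211987)
theorem F506909 : act 5 n221035 = n197239 := d16_1 D221035 F403690 (iv5 F396883) F396882 F162119 (iv4 F162086) (iv5 F396857) (iv7 D195376) (iv2 F396601)
theorem F506910 : act 0 n221035 = n211989 := d17_0 (iv5 D211989) (iv1 F427358) (iv5 F463859) F463860 F438444 F204004 D197356 F404025 D221035
theorem F506911 : act 1 n221035 = n203187 := d18_6 (iv1 F169288) (iv4 D67815) F101928 (iv4 F161957) D195292 D221035 F427366 F407883 F407882
theorem F506912 : act 3 n221035 = n203251 := d19_3 (iv1 F162089) D195292 D221035 F502134 (iv5 D220102) (iv4 D192932) (iv3 D100976) F293154 (iv5 D92856) (iv4 D43446) (iv3 F68295) D92840 (iv5 F349238) F349214 (iv3 F238098) F357139 (iv5 D139604) (iv4 F222742) (iv3 D139596)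
def n221036 : Q := act 0 n195294
theorem D221036 : act 0 n195294 = n221036 := rfl
theorem F506913 : act 5 n221036 = n211265 := d19_1 D221036 F460866 (iv3 F425037) (iv1 F425034) (iv5 D137207) (iv4 F180574) (iv3 D115967) F328495 (iv5 D46698) F34951 F28077 D17147 (iv5 F323443) F49367 (iv3 F166120) (iv1 D50899) (iv5 F76808) (iv4 F161966) (iv3 F396608)
theorem F506914 : act 3 n221036 = n211266 := d20_5 (iv4 D53962) F76809 (iv4 F161966) (iv3 F396608) D221036 (iv4 F472670) (iv1 F472673) F415925 (iv3 F404309) (iv1 D117097)
theorem F506915 : act 4 n221036 = n199383 := d20_8 (iv4 F423145) (iv1 D202182) F179726 (iv3 D64504) (iv1 F99507) (iv3 F204038) (iv4 F396609) D221036 F411914 (iv1 F222500)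
theorem F506916 : act 2 n212216 = n221036 := d15_3 (iv0 D221036) (iv0 F403795) (iv7 F464788)
theorem F506917 : act 1 n212217 = n221036 := d15_0 (iv0 D221036) (iv7 F396610) D212217
theorem F506918 : act 7 n221036 = n212215 := d15_2 F464794 F506917 F464783
def n221037 : Q := act 5 n195294
theorem D221037 : act 5 n195294 = n221037 := rfl
theorem F506919 : act 3 n221037 = n195297 := d6_1 D221037 (iv5 D195297) (iv3 F396608)
theorem F506920 : act 6 n221037 = n197307 := d12_2 D195294 D221037 F403915 (iv6 D195427) F336181
theorem F506921 : act 7 n221037 = n212218 := d13_2 F396610 D221037 (iv5 D212218)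
theorem F506922 : act 1 n221037 = n220334 := d17_6 (iv1 D220574) F391412 F438497 (iv5 D205939) (iv4 F396609) D221037 (iv5 D220334) D220333 (iv4 F504430)
theorem F506923 : act 0 n221037 = n213821 := d18_0 F472232 (iv1 D210717) (iv4 F458532) (iv5 F460367) F460366 (iv0 F457813) (iv4 F506915) (iv0 D221036) D221037
theorem F506924 : act 4 n221037 = n219649 := d19_2 F403795 D221037 F499846 (iv1 F384837) D192468 (iv4 F390851) (iv3 F393246) F408673 (iv5 F479200) (iv4 D215282) F357777 (iv1 F345799) (iv5 F351974) F351973 F239792 (iv1 F120196) D164523 D215046 F478059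
def n221038 : Q := act 5 n195295
theorem D221038 : act 5 n195295 = n221038 := rfl
theorem F506925 : act 2 n221038 = n195401 := d2_1 D221038 (iv5 D195401) (iv2 F396611)
theorem F506926 : act 3 n221038 = n197307 := d6_1 D221038 F403915 F396980
theorem F506927 : act 6 n221038 = n195297 := d12_2 D195295 D221038 (iv5 D195297) (iv6 D105501) D105500
theorem F506928 : act 7 n221038 = n219944 := d13_2 F505108 D221038 (iv5 F505107)
theorem F506929 : act 4 n221038 = n219187 := d16_2 (iv4 F396612) D221038 (iv5 D219187) (iv4 F488802) (iv5 F496066) F496065 F453198 (iv7 D209317) F219362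
theorem F506930 : act 0 n221038 = n197405 := d17_2 F445467 D221038 (iv5 F463722) (iv4 F463809) (iv5 F463813) (iv0 D198479) (iv5 D109348) D109347 D198476
def n221039 : Q := act 0 n195297
theorem D221039 : act 0 n195297 = n221039 := rfl
theorem F506931 : act 5 n221039 = n210419 := d17_3 F167067 D195297 D221039 F457452 F221813 F169191 F79626 (iv0 F95717) (iv4 F167066)
theorem F506932 : act 4 n221039 = n220385 := d18_1 D221039 F503523 (iv4 D212221) (iv5 D145646) F104425 F165100 (iv4 F396613) (iv0 D195296) D195297
theorem F506933 : act 1 n195408 = n221039 := d15_0 (iv0 D221039) F396619 (iv2 F396916)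
theorem F506934 : act 3 n211675 = n221039 := d19_19 (iv1 F506933) F396917 F162146 (iv3 F162134) (iv1 F162138) (iv5 F79731) F79730 (iv3 F79728) D109055 D198220 F407264 (iv3 F462777) F462780 F438992 (iv4 D200454) F355200 F321332 D143792 D211675
theorem F506935 : act 7 n221039 = n195406 := d8_2 (iv7 F462638) F506934 (iv3 F436475)
theorem F506936 : act 2 n221039 = n195405 := d15_3 (iv0 D195405) D195406 (iv7 F506935)
theorem F506937 : act 3 n195405 = n214857 := d0_2 F506934 F506936 (iv2 F477163) F463630 (iv2 F462637)
def n221040 : Q := act 1 n195297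
theorem D221040 : act 1 n195297 = n221040 := rfl
theorem F506938 : act 1 n221040 = n195408 := d15_1 D221040 (iv7 D195408) (iv2 F396618)
theorem F506939 : act 7 n221040 = n195405 := d15_2 (iv0 D221039) D221040 (iv2 F506936)
theorem F506940 : act 5 n221040 = n195450 := d17_7 F202623 F162211 (iv1 D50899) (iv5 F76808) (iv4 F161966) D195297 D221040 (iv0 F436394) (iv4 D205432)
theorem F506941 : act 3 n211926 = n221040 := d19_19 (iv1 D221040) (iv5 D195297) F161966 F76807 (iv1 F100429) D107510 (iv4 F169739) D198676 F408837 (iv5 F453135) F453136 F395711 (iv1 F358032) (iv5 D177635) (iv4 D84601) D84600 D177628 D215751 F481407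
theorem F506942 : act 6 n197408 = n221040 := d21_3 F453203 (iv1 F396733) (iv5 F404170) (iv1 D221040) (iv6 F506927) (iv5 D221038) F410928 (iv5 F453227) (iv6 D209321) D209318
theorem F506943 : act 2 n221040 = n195406 := d3_1 F506942 F436474 F404171
def n221041 : Q := act 6 n195299
theorem D221041 : act 6 n195299 = n221041 := rfl
theorem F506944 : act 2 n221041 = n195301 := d3_1 D221041 (iv6 D195301) D195299
theorem F506945 : act 3 n221041 = n195419 := d7_1 D221041 (iv6 D195419) (iv3 F396624)
theorem F506946 : act 4 n221041 = n196306 := d10_1 D221041 (iv6 D196306) (iv4 F396625)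
theorem F506947 : act 5 n221041 = n205958 := d12_1 D221041 F438592 (iv5 D197259) D197260 (iv5 F403759)
theorem F506948 : act 0 n221041 = n213698 := d21_4 (iv5 F403886) (iv1 F403763) (iv5 F403759) D221041 (iv6 D213698) D213697 (iv1 F506905) (iv5 D221034) (iv6 D195291) D195288
def n221042 : Q := act 0 n195301
theorem D221042 : act 0 n195301 = n221042 := rfl
theorem F506949 : act 5 n221042 = n209631 := d17_3 (iv1 F438072) F396948 D221042 (iv4 D209631) F338737 F338723 (iv5 D59431) D59429 D126665
theorem F506950 : act 4 n221042 = n213702 := d18_3 (iv1 D196312) (iv4 F396632) D221042 F471702 F455586 F452886 (iv4 F456854) (iv0 D210286) (iv5 F424762)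
theorem F506951 : act 2 n213698 = n221042 := d15_3 (iv0 D221042) (iv0 F462133) (iv7 F471688)
theorem F506952 : act 6 n221042 = n213696 := d3_2 D213698 F506951 (iv2 D213696)
def n221043 : Q := act 5 n195303
theorem D221043 : act 5 n195303 = n221043 := rfl
theorem F506953 : act 2 n221043 = n195446 := d2_1 D221043 (iv5 D195446) (iv2 F396638)
theorem F506954 : act 3 n221043 = n195403 := d6_1 D221043 (iv5 D195403) (iv3 F396639)
theorem F506955 : act 6 n221043 = n195306 := d12_2 D195303 D221043 (iv5 D195306) (iv6 D105509) D105508
theorem F506956 : act 7 n221043 = n214846 := d13_2 F403779 D221043 F477124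
theorem F506957 : act 4 n221043 = n215555 := d16_2 (iv4 F396640) D221043 F480476 F415372 (iv5 F351059) (iv4 F430041) (iv5 F443542) F443539 (iv2 F361843)
theorem F506958 : act 1 n221043 = n203847 := d17_8 F339279 (iv5 D177513) (iv1 F199103) F339278 (iv4 F463622) (iv5 F463625) (iv0 F408723) D221043 (iv4 D203847)
theorem F506959 : act 0 n221043 = n197244 := d18_0 F403711 (iv1 F341247) D215742 F481356 (iv4 F408527) F408529 D198654 (iv0 F408723) D221043
def n221044 : Q := act 3 n195308
theorem D221044 : act 3 n195308 = n221044 := rfl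
theorem F506960 : act 2 n221044 = n195319 := d0_1 D221044 F396685 F162004 (iv3 F361838) D195308
theorem F506961 : act 4 n221044 = n202606 := d5_2 F449841 D221044 (iv3 F449849) (iv4 D208550) D208549
theorem F506962 : act 6 n221044 = n195315 := d7_2 (iv6 F396664) D221044 F396680
theorem F506963 : act 7 n221044 = n195311 := d8_2 F396665 D221044 (iv3 D195311)
theorem F506964 : act 0 n221044 = n196300 := d19_4 D218220 F492786 F449841 D221044 (iv5 F460805) (iv4 D211248) (iv3 F366347) F350014 F350015 (iv4 D159673) (iv3 F251180) F251182 (iv5 D90568) (iv4 F65469) (iv3 F68247) (iv1 D43409) D43410 D92790 D188780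
theorem F506965 : act 0 n195475 = n221044 := d20_4 (iv4 D115638) D115635 F179996 D195475 (iv3 D221044) (iv4 F449841) F449844 F423593 (iv3 D202199) F179999
def n221045 : Q := act 2 n195311
theorem D221045 : act 2 n195311 = n221045 := rfl
theorem F506966 : act 3 n221045 = n195323 := d0_2 D195311 D221045 F396699 (iv3 F396671) F396670
theorem F506967 : act 4 n221045 = n202604 := d1_2 (iv4 F396676) D221045 F424713
theorem F506968 : act 7 n221045 = n195319 := d4_2 F506963 D221045 (iv2 F506960)
theorem F506969 : act 1 n221045 = n196300 := d15_0 (iv0 F506964) F506963 D221045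
theorem F506970 : act 1 n195475 = n221045 := d15_0 F506969 (iv7 F434692) F434687
def n221046 : Q := act 6 n195311
theorem D221046 : act 6 n195311 = n221046 := rfl
theorem F506971 : act 3 n221046 = n195314 := d7_1 D221046 (iv6 D195314) D195311
theorem F506972 : act 4 n221046 = n211353 := d10_1 D221046 (iv6 D211353) (iv4 F396676)
theorem F506973 : act 5 n221046 = n198476 := d12_1 D221046 (iv6 F500949) (iv5 D219867) D219868 F500952
def n221047 : Q := act 5 n195314
theorem D221047 : act 5 n195314 = n221047 := rfl
theorem F506974 : act 3 n221047 = n198476 := d6_1 D221047 (iv5 F506973) F506971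
def n221048 : Q := act 4 n195316
theorem D221048 : act 4 n195316 = n221048 := rfl
theorem F506975 : act 2 n221048 = n196311 := d1_1 D221048 F453208 (iv2 F453209)
theorem F506976 : act 7 n221048 = n196312 := d11_2 (iv7 F453205) D221048 (iv4 F453201)
theorem F506977 : act 5 n221048 = n210288 := d16_1 D221048 F456862 F221327 (iv4 F203973) F389759 F389760 (iv5 F396681) (iv7 F453206) (iv2 F453209)
theorem F506978 : act 0 n221048 = n196314 := d17_0 F455567 F455565 (iv5 F500963) F500962 (iv5 D195313) F224388 (iv5 F453212) F453214 D221048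
theorem F506979 : act 3 n221048 = n213275 := d19_3 D144407 (iv5 F438372) D221048 (iv1 F469668) F423381 (iv4 D196598) F165110 F78242 (iv5 D48784) (iv4 D23791) F18098 D13471 (iv5 F38816) (iv4 F39874) (iv3 D25270) (iv1 F39827) F39824 D31429 D67669
theorem F506980 : act 0 n196306 = n221048 := d20_7 (iv4 F423184) (iv1 F423185) D202208 (iv3 F462159) F462162 (iv3 F506945) F506946 (iv4 D221048) (iv3 F438373) (iv1 F423173)
theorem F506981 : act 6 n221048 = n197658 := d21_5 D197846 F405993 (iv5 D196305) D196306 F506980 (iv5 F492967) (iv1 F492969) (iv5 D197852) (iv6 D108712) D108709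
def n221049 : Q := act 6 n195316
theorem D221049 : act 6 n195316 = n221049 := rfl
theorem F506982 : act 2 n221049 = n219644 := d3_1 D221049 F499822 (iv2 F453209)
theorem F506983 : act 3 n221049 = n209666 := d7_1 D221049 (iv6 F463104) F438373
theorem F506984 : act 4 n221049 = n197658 := d10_1 D221049 (iv6 F506981) (iv4 D221048)
theorem F506985 : act 7 n221049 = n219905 := d14_2 (iv7 F453205) D221049 F501129 (iv7 F501919) F501922
theorem F506986 : act 0 n221049 = n219904 := d21_4 (iv5 D144410) D144407 (iv5 F438372) D221049 F501123 F403680 F210271 D108140 D197399 (iv1 F404143)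
theorem F506987 : act 1 n221049 = n219903 := d15_1 (iv0 F506986) (iv7 F501118) (iv2 F501122)
def n221050 : Q := act 3 n195317
theorem D221050 : act 3 n195317 = n221050 := rfl
theorem F506988 : act 5 n221050 = n211019 := d6_2 (iv5 F396681) D221050 F459772
theorem F506989 : act 6 n221050 = n219912 := d7_2 F456481 D221050 F501155
theorem F506990 : act 7 n221050 = n219540 := d8_2 F453206 D221050 F499339
theorem F506991 : act 4 n221050 = n211168 := d20_6 (iv4 F397166) (iv1 F409440) F409437 (iv3 F453211) (iv1 F453215) D221050 (iv1 F484837) F484838 F448550 (iv1 F227260)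
theorem F506992 : act 0 n221050 = n195497 := d20_7 (iv4 D66385) (iv1 F102270) (iv4 F224213) (iv3 F360358) (iv1 F360362) D211168 (iv4 F506991) (iv4 F424308) F424307 F330612
def n221051 : Q := act 4 n195317
theorem D221051 : act 4 n195317 = n221051 := rfl
theorem F506993 : act 2 n221051 = n196312 := d1_1 D221051 (iv4 F453201) (iv2 F453204)
theorem F506994 : act 3 n221051 = n211169 := d5_1 D221051 (iv4 D211169) D211168 (iv4 F506991) (iv3 D221050)
theorem F506995 : act 5 n221051 = n209288 := d9_2 (iv5 F396681) D221051 (iv4 D209288) (iv5 D136227) (iv4 F203709) D205819 F437980 (iv5 F438372) D221048 F506977 F456862 F221327 (iv4 F203973) F389759 F389760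
theorem F506996 : act 6 n221051 = n219920 := d10_2 F456481 D221051 F501189
theorem F506997 : act 7 n221051 = n196311 := d11_2 F453206 D221051 F453208
theorem F506998 : act 0 n221051 = n196306 := d18_2 (iv1 F453215) D221051 (iv4 F506946) F506947 (iv4 D205958) F438371 (iv4 D195312) F224388 (iv5 F453212)
theorem F506999 : act 1 n221051 = n196314 := d18_6 (iv1 F454877) F454873 F389762 F389760 (iv5 F396681) D221051 (iv4 F456460) F471689 F471687
def n221052 : Q := act 5 n195320
theorem D221052 : act 5 n195320 = n221052 := rfl
theorem F507000 : act 3 n221052 = n195324 := d6_1 D221052 (iv5 D195324) (iv3 F396687)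
theorem F507001 : act 6 n221052 = n198471 := d12_2 D195320 D221052 (iv5 F453227) (iv6 D209321) F219364
theorem F507002 : act 4 n221052 = n198473 := d16_2 (iv4 F396688) D221052 F408607 F408000 (iv5 D163073) (iv4 D78409) D78410 (iv7 F193114) (iv2 F353958)
theorem F507003 : act 0 n221052 = n211930 := d17_2 (iv1 F477126) D221052 (iv5 D211930) (iv4 F463619) F463620 (iv0 F362464) D215752 F481412 (iv4 F477123)
def n221053 : Q := act 6 n195321
theorem D221053 : act 6 n195321 = n221053 := rfl
theorem F507004 : act 2 n221053 = n195516 := d3_1 D221053 (iv6 D195516) (iv2 F396693)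
theorem F507005 : act 3 n221053 = n209271 := d7_1 D221053 (iv6 D209271) (iv3 F396690)
theorem F507006 : act 4 n221053 = n210075 := d10_1 D221053 (iv6 D210075) (iv4 F396689)
theorem F507007 : act 7 n221053 = n211473 := d14_2 F396691 D221053 F461701 F416409 (iv6 D195517)
theorem F507008 : act 5 n221053 = n211938 := d21_6 (iv5 D49545) F37896 D48784 D105518 D195321 D221053 (iv1 D211938) (iv5 D144435) (iv6 D67681) (iv1 F78307)
theorem F507009 : act 0 n204343 = n221053 := d17_0 F507008 (iv1 D211938) (iv5 D144435) (iv4 F169307) D198407 (iv0 F407920) D210444 F457567 (iv4 F432119)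
def n221054 : Q := act 6 n195325
theorem D221054 : act 6 n195325 = n221054 := rfl
theorem F507010 : act 2 n221054 = n195326 := d3_1 D221054 (iv6 D195326) D195325
theorem F507011 : act 3 n221054 = n205856 := d7_1 D221054 (iv6 D205856) (iv3 F396707)
theorem F507012 : act 4 n221054 = n195361 := d10_1 D221054 (iv6 D195361) (iv4 F396708)
theorem F507013 : act 0 n221054 = n209844 := d21_4 D64753 F347224 (iv5 F396709) D221054 (iv6 F473101) (iv5 D192166) (iv1 F153668) (iv5 F328548) (iv6 D30464) D30459
theorem F507014 : act 0 n209843 = n221054 := d21_4 F351865 (iv1 F366232) (iv5 F383632) F455117 (iv6 D221054) F396709 F347223 (iv5 D64758) D64759 (iv1 F362502)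
theorem F507015 : act 7 n221054 = n209845 := d15_2 D209844 (iv0 F507013) (iv2 D209845)
def n221055 : Q := act 1 n195326
theorem D221055 : act 1 n195326 = n221055 := rfl
theorem F507016 : act 1 n221055 = n209845 := d15_1 D221055 (iv7 F507015) F507010
theorem F507017 : act 7 n221055 = n209844 := d15_2 (iv0 F396715) D221055 (iv2 F473100)
theorem F507018 : act 4 n203247 = n221055 := d20_0 (iv1 D221055) F396714 F162073 D105547 F365055 F365056 (iv1 F365068) D192017 D219686 (iv1 F500051)
theorem F507019 : act 3 n203403 = n221055 := d20_3 D209804 (iv1 F505685) F505681 (iv1 D221055) F396713 F162011 F111394 F111282 D64379 D136977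
theorem F507020 : act 6 n214241 = n221055 := d21_3 (iv5 D157672) D157669 D214241 (iv1 D221055) (iv6 D195326) F162008 (iv1 F360511) (iv5 D136093) D136094 F362508
theorem F507021 : act 2 n221055 = n209843 := d3_1 F507020 (iv6 F455117) (iv2 F474165)
def n221056 : Q := act 5 n195326
theorem D221056 : act 5 n195326 = n221056 := rfl
theorem F507022 : act 3 n221056 = n195327 := d6_1 D221056 (iv5 D195327) (iv3 F396713)
theorem F507023 : act 6 n221056 = n209283 := d12_2 D195326 D221056 (iv5 D209283) (iv6 D136217) (iv5 F162008)
theorem F507024 : act 7 n221056 = n209846 := d13_2 F396716 D221056 (iv5 D209846)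
theorem F507025 : act 0 n221056 = n209534 := d17_2 (iv1 D221055) D221056 (iv5 D209534) D209533 (iv5 F469931) (iv0 F469932) (iv5 D203249) D203247 F507018
theorem F507026 : act 0 n209538 = n221056 := d21_10 (iv5 D221056) F396715 F385842 (iv6 D185473) (iv1 F340568) (iv6 F458701) F458702 F433927 (iv5 F504768) (iv6 F504769)
def n221057 : Q := act 4 n195331
theorem D221057 : act 4 n195331 = n221057 := rfl
theorem F507027 : act 5 n221057 = n218653 := d9_2 D195331 D221057 F494979 (iv5 D201072) F327976 F175199 F175194 (iv5 F379137) (iv4 F463765) (iv5 D211965) F363063 (iv5 D115135) (iv4 F93584) F93585 (iv4 F162031)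
def n221058 : Q := act 3 n195334
theorem D221058 : act 3 n195334 = n221058 := rfl
theorem F507028 : act 2 n221058 = n211010 := d0_1 D221058 F459739 F425684 (iv3 F227186) (iv2 F396739)
theorem F507029 : act 4 n221058 = n202457 := d5_2 F396735 D221058 (iv3 F454438) (iv4 D209640) (iv3 F347032)
theorem F507030 : act 5 n221058 = n219540 := d6_2 F453207 D221058 F499339
theorem F507031 : act 6 n221058 = n205913 := d7_2 (iv6 F396736) D221058 (iv3 D205913)
theorem F507032 : act 7 n221058 = n211019 := d8_2 (iv7 F396737) D221058 F459772
theorem F507033 : act 0 n221058 = n197845 := d20_4 (iv4 F438278) (iv1 F438277) F396735 D221058 (iv3 F458088) F458087 (iv1 F474124) F474120 (iv3 F454406) F454404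
theorem F507034 : act 0 n197849 = n221058 := d20_4 F404276 (iv1 F423685) F423684 (iv3 F406018) (iv3 D221058) (iv4 F396735) F438003 F438001 (iv3 D202032) F396954
def n221059 : Q := act 6 n195335
theorem D221059 : act 6 n195335 = n221059 := rfl
theorem F507035 : act 3 n221059 = n195337 := d7_1 D221059 (iv6 D195337) (iv3 F396741)
theorem F507036 : act 4 n221059 = n211018 := d10_1 D221059 (iv6 F463437) F463439
theorem F507037 : act 5 n221059 = n215270 := d12_1 D221059 (iv6 F485180) F485182 (iv6 D195336) D195335
theorem F507038 : act 0 n221059 = n215882 := d20_7 (iv4 F481679) F481681 F481499 (iv3 F459757) (iv1 F459759) D211018 (iv4 F507036) (iv4 D215882) F277635 D178100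
def n221060 : Q := act 0 n195337
theorem D221060 : act 0 n195337 = n221060 := rfl
theorem F507039 : act 4 n221060 = n198456 := d18_3 (iv1 F397195) (iv4 F396747) D221060 (iv5 F476232) F476231 D214654 (iv4 F476233) F463181 F463180
theorem F507040 : act 6 n221060 = n197432 := d21_5 F76908 (iv1 F76855) D105529 D195337 D221060 (iv5 D197432) (iv1 D108153) F79001 (iv6 D48840) D48837
theorem F507041 : act 1 n200206 = n221060 := d15_0 (iv0 D221060) (iv7 F463167) F463165
theorem F507042 : act 2 n200204 = n221060 := d3_3 F507040 F404266 (iv6 F415501)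
theorem F507043 : act 7 n200205 = n221060 := d15_2 (iv0 D200204) D200205 (iv2 F507042)
def n221061 : Q := act 1 n195337
theorem D221061 : act 1 n195337 = n221061 := rfl
theorem F507044 : act 1 n221061 = n200206 := d15_1 D221061 (iv7 D200206) (iv2 F396746)
theorem F507045 : act 7 n221061 = n200204 := d15_2 (iv0 D221060) D221061 F507042
theorem F507046 : act 4 n198457 = n221061 := d20_0 (iv1 D221061) F396747 (iv3 F407969) F425790 F425788 F182943 D202482 (iv4 F425939) (iv3 F425937) (iv1 F408704)
theorem F507047 : act 2 n221061 = n200205 := d1_1 F507046 (iv4 F455326) (iv2 F455323)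
def n221062 : Q := act 5 n195337
theorem D221062 : act 5 n195337 = n221062 := rfl
theorem F507048 : act 2 n221062 = n200203 := d2_1 D221062 F415500 (iv2 F396746)
theorem F507049 : act 3 n221062 = n215270 := d6_1 D221062 (iv5 F507037) F507035
theorem F507050 : act 6 n221062 = n195339 := d12_2 D195337 D221062 (iv5 D195339) (iv6 D105530) D105529
theorem F507051 : act 4 n220135 = n221062 := d10_3 F507050 (iv4 F430601) (iv6 F502307)
theorem F507052 : act 0 n221062 = n216189 := d20_7 (iv4 F364083) F362137 (iv4 F470233) (iv3 F498819) (iv1 F498822) D220135 F507051 F483313 F283608 D182168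
def n221063 : Q := act 3 n195338
theorem D221063 : act 3 n195338 = n221063 := rfl
theorem F507053 : act 4 n221063 = n196896 := d5_2 (iv4 F396750) D221063 (iv3 D196896) F165719 (iv3 F169265)
theorem F507054 : act 6 n221063 = n196707 := d7_2 F396752 D221063 F401554
theorem F507055 : act 7 n221063 = n200199 := d8_2 (iv7 F396749) D221063 (iv3 D200199)
theorem F507056 : act 1 n198390 = n221063 := d15_1 (iv0 F460149) F507055 (iv2 F460147)
def n221064 : Q := act 5 n195338
theorem D221064 : act 5 n195338 = n221064 := rfl
theorem F507057 : act 2 n221064 = n200201 := d2_1 D221064 (iv5 D200201) F396751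
theorem F507058 : act 7 n221064 = n200200 := d13_2 (iv7 F396749) D221064 (iv5 D200200)
theorem F507059 : act 0 n221064 = n213951 := d17_2 (iv1 F396748) D221064 (iv5 D213951) F245282 (iv5 F175025) (iv0 F175027) F162045 F162044 (iv4 F175591)
theorem F507060 : act 1 n221064 = n197155 := d17_6 D74256 D156109 F245294 F169264 (iv4 F396750) D221064 (iv5 D197155) (iv0 F166514) F111135
def n221065 : Q := act 3 n195341
theorem D221065 : act 3 n195341 = n221065 := rfl
theorem F507061 : act 4 n221065 = n202436 := d5_2 D195341 D221065 (iv3 D202436) F180075 F180076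
theorem F507062 : act 6 n221065 = n211922 := d7_2 (iv6 F396761) D221065 F463594
theorem F507063 : act 7 n221065 = n200197 := d8_2 (iv7 F396762) D221065 (iv3 D200197)
theorem F507064 : act 0 n195390 = n221065 := d20_4 F458835 F420839 (iv4 F458802) F458801 (iv3 D221065) (iv4 D195341) F162043 (iv4 F175591) (iv3 F223035) (iv1 F458833)
theorem F507065 : act 5 n221065 = n219824 := d19_1 F507064 F500758 F386374 (iv1 F153987) F275091 F275089 (iv3 F311716) (iv1 F249725) (iv5 F331833) (iv4 F371518) F371520 (iv1 F396360) (iv5 F396362) F229682 (iv3 F229649) (iv1 F334976) (iv5 F334980) (iv4 F458802) F458801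
def n221066 : Q := act 5 n195341
theorem D221066 : act 5 n195341 = n221066 := rfl
theorem F507066 : act 2 n221066 = n200195 := d2_1 D221066 (iv5 D200195) (iv2 F396760)
theorem F507067 : act 3 n221066 = n219824 := d6_1 D221066 (iv5 F507065) (iv3 D221065)
theorem F507068 : act 6 n221066 = n214140 := d12_2 (iv6 F396761) D221066 (iv5 D214140) (iv6 F463876) (iv5 D212001)
theorem F507069 : act 7 n221066 = n200198 := d13_2 (iv7 F396762) D221066 (iv5 D200198)
theorem F507070 : act 4 n221066 = n219830 := d16_2 D195341 D221066 F500789 F430590 (iv5 F406403) F202715 F162045 F202469 (iv2 F202477)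
theorem F507071 : act 1 n221066 = n210418 := d17_6 (iv1 F166958) (iv5 F175025) (iv1 F175028) (iv5 F162041) D195341 D221066 (iv5 D210418) (iv0 F221811) F167172
def n221067 : Q := act 3 n195342
theorem D221067 : act 3 n195342 = n221067 := rfl
theorem F507072 : act 4 n221067 = n198586 := d5_2 D195342 D221067 (iv3 D198586) (iv4 F202611) (iv3 F202610)
theorem F507073 : act 6 n221067 = n203019 := d7_2 (iv6 F396765) D221067 F426658
theorem F507074 : act 7 n221067 = n200194 := d8_2 (iv7 F396766) D221067 (iv3 D200194)
theorem F507075 : act 0 n211463 = n221067 := d20_4 F458864 (iv1 D201185) D201186 (iv3 F461651) (iv3 D221067) (iv4 D195342) (iv1 D105532) (iv4 F162040) (iv3 F396744) F463146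
theorem F507076 : act 1 n195358 = n221067 := d15_0 (iv0 F507075) F461653 F454878
def n221068 : Q := act 5 n195342
theorem D221068 : act 5 n195342 = n221068 := rfl
theorem F507077 : act 2 n221068 = n200198 := d2_1 D221068 (iv5 D200198) (iv2 F396764)
theorem F507078 : act 4 n221068 = n219829 := d9_1 D221068 F500785 F430596 F406397 F202668 (iv5 F162041) D195341 D221066 F507070 F500789 F430590 (iv5 F406403) F202715 F162045 D195342
theorem F507079 : act 7 n221068 = n200195 := d13_2 (iv7 F396766) D221068 (iv5 D200195)
theorem F507080 : act 0 n221068 = n210418 := d17_2 (iv1 F403913) D221068 (iv5 D210418) (iv4 D138645) F169194 (iv0 F174620) F174619 F169274 (iv4 F403911)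
def n221069 : Q := act 6 n195345
theorem D221069 : act 6 n195345 = n221069 := rfl
theorem F507081 : act 2 n221069 = n195347 := d3_1 D221069 (iv6 D195347) D195345
theorem F507082 : act 3 n221069 = n211799 := d7_1 D221069 (iv6 D211799) (iv3 F396778)
theorem F507083 : act 4 n221069 = n198064 := d10_1 D221069 F406635 (iv4 F396779)
def n221070 : Q := act 0 n195347
theorem D221070 : act 0 n195347 = n221070 := rfl
theorem F507084 : act 5 n221070 = n216187 := d19_1 D221070 F483309 (iv3 D182166) D182164 (iv5 F337966) (iv4 F337984) D88312 (iv1 F378211) (iv5 D185306) (iv4 F289700) F289699 (iv1 D47794) D47795 (iv4 F319039) (iv3 F79632) (iv1 D50255) (iv5 F78238) (iv4 F162060) (iv3 F396790)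
theorem F507085 : act 4 n221070 = n216597 := d20_2 (iv4 F396791) D221070 (iv3 D216597) (iv1 D184993) (iv3 F341126) F341127 (iv1 F333257) F334971 F406633 (iv1 D198063)
theorem F507086 : act 3 n221070 = n216188 := d20_5 F175590 (iv1 D107123) (iv4 F162060) (iv3 F396790) D221070 F483310 F466146 (iv4 F458859) (iv3 F458857) (iv1 F396758)
def n221071 : Q := act 1 n195347
theorem D221071 : act 1 n195347 = n221071 := rfl
theorem F507087 : act 6 n195436 = n221071 := d21_3 (iv5 D195290) D195288 (iv5 F403886) (iv1 D221071) (iv6 D195347) D195346 (iv1 F448547) (iv5 D208242) D208243 (iv1 F448553)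
def n221072 : Q := act 5 n195347
theorem D221072 : act 5 n195347 = n221072 := rfl
theorem F507088 : act 3 n221072 = n195349 := d6_1 D221072 (iv5 D195349) (iv3 F396790)
theorem F507089 : act 6 n221072 = n210820 := d12_2 D195347 D221072 (iv5 D210820) F396789 (iv5 D195346)
theorem F507090 : act 0 n221072 = n216211 := d21_1 D221072 (iv5 F501098) (iv6 D219898) (iv1 F468117) F468114 (iv5 D195290) D195288 (iv5 F403886) F507087 (iv1 D221071)
def n221073 : Q := act 7 n195347
theorem D221073 : act 7 n195347 = n221073 := rfl
theorem F507091 : act 3 n221073 = n195350 := d8_1 D221073 (iv7 D195350) (iv3 F396790)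
theorem F507092 : act 4 n221073 = n198066 := d11_1 D221073 (iv7 D198066) (iv4 F396791)
theorem F507093 : act 6 n221073 = n210563 := d14_1 D221073 (iv7 D210563) (iv6 D139398) (iv7 F162055) D195347
def n221074 : Q := act 5 n195348
theorem D221074 : act 5 n195348 = n221074 := rfl
theorem F507094 : act 3 n221074 = n210820 := d6_1 D221074 (iv5 D210820) (iv3 F396792)
theorem F507095 : act 6 n221074 = n195349 := d12_2 D195348 D221074 (iv5 D195349) (iv6 D105536) D105535
theorem F507096 : act 4 n221074 = n220437 := d19_2 (iv1 F463145) D221074 (iv3 D220437) (iv1 D193671) (iv5 D102211) (iv4 F328996) (iv3 F82458) (iv1 F82461) (iv5 F48369) F48368 (iv3 F95237) (iv1 F352201) (iv5 D113327) (iv4 D52308) (iv3 F81587) (iv1 F168784) (iv5 F169272) (iv4 F403911) (iv3 F463142)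
def n221075 : Q := act 0 n195349
theorem D221075 : act 0 n195349 = n221075 := rfl
theorem F507097 : act 5 n221075 = n197232 := d17_3 F396767 D195349 D221075 F403661 F166964 F82022 (iv5 F76858) D105532 D195342
theorem F507098 : act 2 n197341 = n221075 := d15_3 (iv0 D221075) F396794 D197341
theorem F507099 : act 7 n221075 = n197231 := d4_2 D197341 F507098 F403659
theorem F507100 : act 4 n221075 = n219591 := d16_0 F499600 (iv4 D198913) (iv5 D110602) F80450 F38826 (iv4 F78973) D108099 D197341 F507098
theorem F507101 : act 3 n219587 = n221075 := d5_5 F507100 (iv3 D219591) (iv4 D191817) (iv3 F384510) D219587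
theorem F507102 : act 0 n221075 = n197339 := d19_4 (iv1 D191809) D191810 D219587 F507101 F403988 F403911 (iv3 F175991) (iv1 F175995) (iv5 F176399) (iv4 F202296) F345726 F127218 (iv5 F151608) F151607 F321830 F328763 (iv5 F328786) (iv4 F273694) F384508
def n221076 : Q := act 4 n195349
theorem D221076 : act 4 n195349 = n221076 := rfl
theorem F507103 : act 2 n221076 = n211600 := d1_1 D221076 F462328 F407843
theorem F507104 : act 6 n221076 = n220437 := d10_2 F507095 D221076 (iv4 F507096)
theorem F507105 : act 5 n221076 = n202959 := d16_1 D221076 F426386 (iv5 F353503) (iv4 F171179) (iv5 F169272) (iv4 F403911) (iv5 F403988) (iv7 F407844) F407843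
theorem F507106 : act 1 n221076 = n213953 := d18_6 (iv1 F396758) F175590 (iv1 D107123) (iv4 F162060) D195349 D221076 (iv4 D213953) D213952 F472866
theorem F507107 : act 3 n221076 = n202962 := d19_3 F396767 D195349 D221076 (iv1 F505485) (iv5 D220778) (iv4 D194520) (iv3 D103704) (iv1 D48029) D48030 D103710 D194526 F401025 (iv5 F464313) (iv4 F464315) (iv3 F456519) F465377 F465375 (iv4 F507072) (iv3 D221067)
def n221077 : Q := act 7 n195349
theorem D221077 : act 7 n195349 = n221077 := rfl
theorem F507108 : act 2 n221077 = n197339 := d4_1 D221077 (iv7 F407844) F407843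
theorem F507109 : act 5 n221077 = n195350 := d13_1 D221077 (iv7 D195350) D195349
theorem F507110 : act 1 n197231 = n221077 := d15_1 F407846 (iv7 D221077) (iv2 F407843)
theorem F507111 : act 1 n221077 = n197341 := d15_1 F507110 (iv7 D197341) (iv2 F403659)
def n221078 : Q := act 6 n195352
theorem D221078 : act 6 n195352 = n221078 := rfl
theorem F507112 : act 2 n221078 = n195354 := d3_1 D221078 (iv6 D195354) D195352
theorem F507113 : act 3 n221078 = n210557 := d7_1 D221078 (iv6 D210557) (iv3 F396799)
theorem F507114 : act 4 n221078 = n202813 := d10_1 D221078 (iv6 D202813) (iv4 F396800)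
theorem F507115 : act 0 n221078 = n197271 := d21_4 F215920 D199339 F411770 D221078 (iv6 D197271) (iv5 D108062) D108059 F167073 (iv6 F99691) (iv1 F336189)
theorem F507116 : act 0 n211953 = n221078 := d21_4 (iv5 F397013) F434678 (iv5 F470013) F470010 (iv6 D221078) (iv5 F411770) (iv1 F416365) F416363 D209326 (iv1 F453241)
theorem F507117 : act 5 n221078 = n220868 := d17_3 F506930 (iv5 F463722) F507116 (iv4 D220868) (iv5 F433470) (iv0 F488648) F488646 (iv0 F497629) (iv4 F506929)
def n221079 : Q := act 6 n195353
theorem D221079 : act 6 n195353 = n221079 := rfl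
theorem F507118 : act 3 n221079 = n195355 := d7_1 D221079 (iv6 D195355) (iv3 F396808)
theorem F507119 : act 4 n221079 = n214071 := d10_1 D221079 F473337 F404223
def n221080 : Q := act 0 n195354
theorem D221080 : act 0 n195354 = n221080 := rfl
theorem F507120 : act 4 n221080 = n200020 := d20_2 (iv4 F396811) D221080 F425907 (iv1 F425905) (iv3 F340950) (iv4 F354111) (iv1 F392773) F392769 (iv3 F392758) F392774
theorem F507121 : act 3 n221080 = n205025 := d20_5 F227199 (iv1 F164868) (iv4 F162068) (iv3 F396810) D221080 F434670 F312680 (iv4 F227233) F227232 (iv1 F227197)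
theorem F507122 : act 6 n221080 = n195424 := d21_5 F219383 (iv1 F404256) (iv5 D195353) D195354 D221080 F396963 F403618 F403616 (iv6 F219377) F340502
theorem F507123 : act 2 n197271 = n221080 := d3_3 F507122 (iv2 F396966) D197271
theorem F507124 : act 7 n211953 = n221080 := d14_0 F507122 (iv7 F396967) (iv6 F427465) (iv7 F470011) F470010
def n221081 : Q := act 1 n195354
theorem D221081 : act 1 n195354 = n221081 := rfl
theorem F507125 : act 7 n221081 = n197271 := d15_2 (iv0 D221080) D221081 F507123
theorem F507126 : act 5 n221081 = n216052 := d18_9 F501298 F501297 F389419 D193300 D220291 F503059 (iv0 D202814) (iv4 F396811) D221081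
theorem F507127 : act 3 n197279 = n221081 := d20_3 F472600 (iv1 F470575) (iv4 F403819) (iv1 D221081) F396810 F162068 F78236 (iv4 F111116) (iv3 F245159) D213891
theorem F507128 : act 4 n219800 = n221081 := d20_6 F82432 (iv1 F53920) (iv4 F103410) (iv3 F226808) (iv1 F463025) (iv3 F500683) (iv1 D221081) F396811 F182908 F85042
theorem F507129 : act 6 n211933 = n221081 := d21_3 (iv5 D144431) D144429 D211933 (iv1 D221081) (iv6 D195354) D195353 F397345 (iv5 D195558) D195559 F397349
theorem F507130 : act 2 n221081 = n211953 := d3_1 F507129 (iv6 F470010) (iv2 F470014)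
def n221082 : Q := act 5 n195354
theorem D221082 : act 5 n195354 = n221082 := rfl
theorem F507131 : act 2 n221082 = n220868 := d2_1 D221082 (iv5 F507117) F507112
theorem F507132 : act 3 n221082 = n195356 := d6_1 D221082 (iv5 D195356) (iv3 F396810)
theorem F507133 : act 7 n221082 = n220871 := d13_2 F403908 D221082 F505994
theorem F507134 : act 4 n221082 = n208556 := d17_4 F482677 (iv5 F507126) (iv1 D221081) D221082 F503062 F503060 F433467 F389416 F404840
theorem F507135 : act 1 n221082 = n221046 := d17_6 (iv1 F453196) (iv5 F495652) (iv1 F495654) (iv5 D202815) (iv4 F396811) D221082 F506973 F445470 (iv4 F453194)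
theorem F507136 : act 0 n221082 = n209321 := d21_1 D221082 F453227 (iv6 F507001) F507003 F463628 (iv5 D144431) D144429 D211933 F507129 (iv1 D221081)
def n221083 : Q := act 0 n195355
theorem D221083 : act 0 n195355 = n221083 := rfl
theorem F507137 : act 5 n221083 = n210574 := d17_3 (iv1 F499796) F499794 D221083 F458093 F356867 F335231 (iv5 F432086) (iv0 D204333) D204334
theorem F507138 : act 4 n221083 = n198405 := d18_3 F393811 (iv4 F396813) D221083 (iv5 F407905) (iv4 F474110) (iv0 F474111) F467566 (iv0 D203490) (iv5 F393810)
theorem F507139 : act 6 n221083 = n197281 := d21_5 (iv5 D48807) (iv1 F76862) D105538 D195355 D221083 (iv5 F462115) (iv1 F464163) F464166 (iv6 D195367) (iv1 F162076)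
theorem F507140 : act 1 n210567 = n221083 := d15_0 (iv0 D221083) (iv7 F500913) F500911
theorem F507141 : act 3 n197282 = n221083 := d19_19 (iv1 F507140) (iv5 F500886) (iv4 D219850) (iv3 F499805) F499807 F386458 F342349 (iv3 F317229) (iv1 F128234) (iv5 F128251) (iv4 F272621) (iv3 F346369) (iv1 F172331) (iv5 F172332) (iv4 D107425) (iv3 F165697) F209165 (iv5 F209163) (iv4 F403823)
theorem F507142 : act 7 n221083 = n210565 := d8_2 (iv7 F403825) F507141 (iv3 F458058)
theorem F507143 : act 2 n221083 = n210564 := d15_3 (iv0 D210564) D210565 (iv7 F507142)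
def n221084 : Q := act 1 n195355
theorem D221084 : act 1 n195355 = n221084 := rfl
theorem F507144 : act 1 n221084 = n210567 := d15_1 D221084 (iv7 D210567) (iv2 F396812)
theorem F507145 : act 7 n221084 = n210564 := d15_2 (iv0 D221083) D221084 (iv2 F507143)
theorem F507146 : act 5 n221084 = n219685 := d17_7 (iv1 F386607) (iv5 D150124) F232767 D191899 D219638 F499794 D221084 F500045 F473312
theorem F507147 : act 4 n221084 = n198406 := d17_9 (iv1 D198406) D198407 F407919 F355199 (iv4 F416354) (iv5 F432102) (iv0 F499795) F499794 D221084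
theorem F507148 : act 3 n216538 = n221084 := d19_19 (iv1 D221084) (iv5 F499794) (iv4 D219638) F384738 (iv1 F343495) (iv5 D162025) F117649 (iv3 D35522) F117658 (iv5 F299909) F323534 (iv3 F169841) (iv1 F338994) (iv5 F457482) (iv4 F503339) (iv3 D220352) (iv1 D193437) D193439 (iv4 F484852)
theorem F507149 : act 6 n212045 = n221084 := d21_3 D150045 D212811 F467593 (iv1 D221084) (iv6 D195355) (iv5 D105538) (iv1 D48795) D48797 D105546 F360495
theorem F507150 : act 2 n221084 = n210565 := d3_1 F507149 F458059 F464113
def n221085 : Q := act 6 n195357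
theorem D221085 : act 6 n195357 = n221085 := rfl
theorem F507151 : act 2 n221085 = n202034 := d3_1 D221085 (iv6 D202034) F396817
theorem F507152 : act 3 n221085 = n195358 := d7_1 D221085 (iv6 D195358) D195357
theorem F507153 : act 4 n221085 = n201896 := d10_1 D221085 (iv6 D201896) (iv4 F396816)
def n221086 : Q := act 0 n195358
theorem D221086 : act 0 n195358 = n221086 := rfl
theorem F507154 : act 4 n221086 = n209675 := d20_8 (iv4 F481552) F481553 (iv4 F474138) (iv3 F476013) F476016 (iv3 F454868) F454869 D221086 (iv3 F469762) (iv1 F469767)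
theorem F507155 : act 6 n221086 = n219457 := d21_5 D64765 D137804 (iv5 F347237) D195358 D221086 F498965 (iv1 D213139) (iv5 F358057) (iv6 D137803) (iv1 D64764)
theorem F507156 : act 2 n200194 = n221086 := d15_3 (iv0 D221086) F507076 F507074
theorem F507157 : act 0 n221086 = n211463 := d21_4 (iv5 F403956) (iv1 F469163) (iv5 F498965) (iv6 F507155) (iv6 D211463) (iv5 D142253) (iv1 F323826) (iv5 F427476) (iv6 F429381) F403957
def n221087 : Q := act 5 n195358
theorem D221087 : act 5 n195358 = n221087 := rfl
theorem F507158 : act 2 n221087 = n216990 := d2_1 D221087 (iv5 F486892) F454878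
theorem F507159 : act 6 n221087 = n221068 := d12_2 D195358 D221087 (iv5 D221068) F396765 (iv5 F347237)
theorem F507160 : act 4 n221087 = n216995 := d19_2 (iv1 F507076) D221087 F486902 F449364 F449360 (iv4 F328253) F197124 D123030 (iv5 F302061) (iv4 F324106) F173818 (iv1 F324101) F57373 (iv4 F325051) (iv3 F166515) F166517 F162045 D195342 D221067
theorem F507161 : act 0 n197326 = n221087 := d19_0 (iv5 D221087) (iv4 F454869) F454868 F454769 (iv5 F454768) F429513 (iv3 F432941) F432944 (iv5 D194553) F378735 D218771 F495585 (iv5 D190121) (iv4 F369005) (iv3 F474593) F474596 (iv5 F468028) (iv4 D197340) (iv3 F403971)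
def n221088 : Q := act 7 n195358
theorem D221088 : act 7 n195358 = n221088 := rfl
theorem F507162 : act 2 n221088 = n211463 := d4_1 D221088 F461653 F454878
theorem F507163 : act 6 n221088 = n211460 := d14_1 D221088 (iv7 F482664) F482663 F396607 D195358
theorem F507164 : act 1 n221088 = n200194 := d15_0 (iv0 F454880) (iv7 F461653) (iv2 F507162)
def n221089 : Q := act 1 n195361
theorem D221089 : act 1 n195361 = n221089 := rfl
theorem F507165 : act 1 n221089 = n195365 := d15_1 D221089 (iv7 D195365) (iv2 F396819)
theorem F507166 : act 7 n221089 = n195362 := d15_2 (iv0 F500049) D221089 (iv2 F454931)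
theorem F507167 : act 4 n221089 = n214576 := d17_9 (iv1 D214576) D214578 F475885 F454946 (iv4 F438428) F427480 D203255 F438449 D221089
theorem F507168 : act 3 n202064 = n221089 := d20_3 F463847 (iv1 F422801) D202064 (iv1 D221089) (iv3 F469915) (iv4 F469912) (iv1 F388253) (iv4 F501293) F501292 (iv1 F463850)
theorem F507169 : act 2 n221089 = n195363 := d0_1 F507168 (iv3 F438387) F454485 F464099 F464100
def n221090 : Q := act 7 n195361
theorem D221090 : act 7 n195361 = n221090 := rfl
theorem F507170 : act 2 n221090 = n195365 := d4_1 D221090 (iv7 D195365) (iv2 F396819)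
theorem F507171 : act 3 n221090 = n211985 := d8_1 D221090 (iv7 F469911) F469915
theorem F507172 : act 4 n221090 = n209845 := d11_1 D221090 (iv7 F507015) F507012
theorem F507173 : act 6 n221090 = n212217 := d14_1 D221090 F464793 (iv6 D211244) (iv7 F360499) D195361
theorem F507174 : act 1 n195363 = n221090 := d15_1 D195363 (iv7 D221090) F396819
theorem F507175 : act 1 n221090 = n195362 := d15_1 F507174 (iv7 F507166) F507169
def n221091 : Q := act 5 n195362
theorem D221091 : act 5 n195362 = n221091 := rfl
theorem F507176 : act 3 n221091 = n219909 := d6_1 D221091 F501145 F464092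
theorem F507177 : act 6 n221091 = n219906 := d12_2 F472360 D221091 (iv5 D219906) D219907 F501135
theorem F507178 : act 4 n221091 = n213365 := d16_2 (iv4 F428133) D221091 F470099 F404021 F366407 D213238 (iv5 F469533) (iv7 F428132) (iv2 F454932)
theorem F507179 : act 0 n221091 = n212813 := d17_2 D195362 D221091 F467601 F438425 D209522 (iv0 F454021) (iv5 F385842) (iv0 F396715) F396714
def n221092 : Q := act 5 n195363
theorem D221092 : act 5 n195363 = n221092 := rfl
theorem F507180 : act 3 n221092 = n220729 := d6_1 D221092 F505196 F438387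
theorem F507181 : act 4 n221092 = n205924 := d9_1 D221092 F438442 (iv4 F245092) (iv5 F458736) (iv4 F504109) F504110 (iv4 F428133) D221091 F507178 F470099 F404021 F366407 D213238 (iv5 F469533) F428131
theorem F507182 : act 6 n221092 = n205923 := d12_2 F503245 D221092 F438437 (iv6 F389777) D220331
theorem F507183 : act 0 n212813 = n221092 := d21_10 (iv5 D221092) (iv1 D195363) D195364 F396853 (iv1 D195374) (iv6 F396837) (iv5 D195369) F360495 D150045 D212813
def n221093 : Q := act 4 n195364
theorem D221093 : act 4 n195364 = n221093 := rfl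
theorem F507184 : act 3 n221093 = n219891 := d5_1 D221093 F501070 F396855 (iv4 D195375) (iv3 F396820)
theorem F507185 : act 0 n221093 = n211993 := d18_2 (iv1 F427538) D221093 (iv4 F469930) F469931 (iv4 D209533) (iv0 D136587) (iv4 F203997) D205919 (iv5 F438423)
theorem F507186 : act 5 n209665 = n221093 := d19_1 D209665 (iv4 D221093) F396820 D195373 F396848 F203989 F164929 F80924 F53738 (iv4 F84249) (iv3 F320773) (iv1 F105553) (iv5 F109234) (iv4 D72751) (iv3 F109226) (iv1 F351138) (iv5 F400698) (iv4 F454514) F454513
def n221094 : Q := act 5 n195368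
theorem D221094 : act 5 n195368 = n221094 := rfl
theorem F507187 : act 2 n221094 = n203234 := d2_1 D221094 (iv5 D203234) (iv2 F396836)
theorem F507188 : act 7 n221094 = n212810 := d13_2 (iv7 F396834) D221094 (iv5 D212810)
theorem F507189 : act 0 n221094 = n211875 := d17_2 (iv1 F396833) D221094 (iv5 D211875) (iv4 D144243) F296080 F157757 D100170 (iv0 F379150) (iv4 F383081)
theorem F507190 : act 1 n221094 = n212811 := d17_6 (iv1 D194608) (iv5 D103853) F154963 F358515 F396835 D221094 F467593 (iv0 D212045) (iv4 F393805)
def n221095 : Q := act 6 n195368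
theorem D221095 : act 6 n195368 = n221095 := rfl
theorem F507191 : act 2 n221095 = n203235 := d3_1 D221095 (iv6 D203235) (iv2 F396836)
theorem F507192 : act 3 n221095 = n197333 := d7_1 D221095 (iv6 F438470) F438469
theorem F507193 : act 4 n221095 = n199939 := d10_1 D221095 (iv6 D199939) F396835
theorem F507194 : act 7 n221095 = n197323 := d14_2 (iv7 F396834) D221095 (iv6 D197323) (iv7 F176180) F366547
theorem F507195 : act 1 n197336 = n221095 := d15_1 (iv0 F416352) F507194 (iv2 F416350)
def n221096 : Q := act 4 n195374
theorem D221096 : act 4 n195374 = n221096 := rfl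
theorem F507196 : act 5 n221096 = n205910 := d9_2 (iv5 F396851) D221096 (iv4 D205910) (iv5 F396868) F396869 F167741 (iv4 F203989) (iv5 F396848) (iv4 F505195) F505196 (iv4 D205912) (iv5 F346514) (iv4 F346505) (iv5 F164920) (iv4 F203995)
theorem F507197 : act 6 n221096 = n221093 := d10_2 F396853 D221096 (iv4 D221093)
theorem F507198 : act 0 n221096 = n201973 := d17_0 (iv5 F429245) (iv1 F454496) F454494 F425502 (iv5 D195370) (iv0 D105547) D105549 D195374 D221096
def n221097 : Q := act 7 n195375
theorem D221097 : act 7 n195375 = n221097 := rfl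
theorem F507199 : act 2 n221097 = n211987 := d4_1 D221097 (iv7 F506908) F506906
theorem F507200 : act 3 n221097 = n219895 := d8_1 D221097 F501086 F396855
theorem F507201 : act 4 n221097 = n195376 := d11_1 D221097 (iv7 D195376) D195375
theorem F507202 : act 5 n221097 = n197133 := d13_1 D221097 F403194 (iv5 F396854)
theorem F507203 : act 1 n203187 = n221097 := d15_1 F506911 (iv7 D221097) (iv2 F506906)
theorem F507204 : act 1 n221097 = n211989 := d15_1 F507203 (iv7 F464144) F464141
def n221098 : Q := act 6 n195378
theorem D221098 : act 6 n195378 = n221098 := rfl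
theorem F507205 : act 2 n221098 = n202769 := d3_1 D221098 (iv6 D202769) (iv2 F396863)
theorem F507206 : act 4 n221098 = n198400 := d10_1 D221098 F407886 (iv4 F396865)
theorem F507207 : act 5 n221098 = n205908 := d12_1 D221098 F438374 F397140 F167089 D195378
theorem F507208 : act 7 n221098 = n203243 := d14_2 (iv7 F396864) D221098 (iv6 D203243) (iv7 F228085) (iv6 F351851)
theorem F507209 : act 0 n221098 = n197385 := d21_10 F404093 (iv1 F438389) (iv5 F505196) (iv6 D220729) (iv1 F397183) F397182 (iv5 D109278) (iv1 F162092) D195378 D221098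
theorem F507210 : act 1 n221098 = n209639 := d15_1 (iv0 F507209) (iv7 F454522) F454520
def n221099 : Q := act 4 n195382
theorem D221099 : act 4 n195382 = n221099 := rfl
theorem F507211 : act 2 n221099 = n197849 := d1_1 D221099 (iv4 D197849) F405999
theorem F507212 : act 3 n221099 = n210516 := d5_1 D221099 (iv4 D210516) (iv3 D139319) D139320 (iv3 F396888)
theorem F507213 : act 7 n221099 = n197845 := d11_2 F406000 D221099 (iv4 D197845)
theorem F507214 : act 1 n221099 = n211019 := d18_8 F506992 (iv4 F424308) F424309 (iv4 F396974) F396975 F396592 F396889 D221099 (iv5 F506988)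
theorem F507215 : act 0 n221099 = n211010 := d20_1 D221099 (iv4 D211010) (iv3 D140520) (iv1 D65951) (iv3 D30862) (iv4 F24442) (iv1 F38391) D48804 D105556 D195382
theorem F507216 : act 6 n210176 = n221099 := d3_0 F507211 F503626 F503618
def n221100 : Q := act 6 n195382
theorem D221100 : act 6 n195382 = n221100 := rfl
theorem F507217 : act 2 n221100 = n197851 := d3_1 D221100 (iv6 D197851) F405999
theorem F507218 : act 3 n221100 = n210520 := d7_1 D221100 (iv6 D210520) (iv3 F396888)
theorem F507219 : act 4 n221100 = n210176 := d10_1 D221100 F507216 (iv4 D221099)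
theorem F507220 : act 5 n221100 = n216113 := d12_1 D221100 (iv6 D216113) D216112 F483013 F406022
theorem F507221 : act 7 n221100 = n210988 := d14_2 F406000 D221100 F459644 F412816 (iv6 D197847)
theorem F507222 : act 0 n221100 = n210989 := d21_4 D106888 D196307 F406022 D221100 F459650 F403844 (iv1 D179744) (iv5 F343119) (iv6 F397101) (iv1 D106886)
theorem F507223 : act 0 n202447 = n221100 := d21_4 (iv5 F433470) (iv1 F461529) F461525 (iv6 F424044) (iv6 D221100) (iv5 F406022) (iv1 F449871) (iv5 D208554) F365462 D194743
def n221101 : Q := act 6 n195387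
theorem D221101 : act 6 n195387 = n221101 := rfl
theorem F507224 : act 2 n221101 = n220577 := d3_1 D221101 F504441 (iv2 F403882)
theorem F507225 : act 3 n221101 = n198147 := d7_1 D221101 F436666 F436663
theorem F507226 : act 4 n221101 = n205939 := d10_1 D221101 F438496 F432129
theorem F507227 : act 5 n221101 = n220573 := d12_1 D221101 (iv6 D220573) F396905 (iv6 D195388) D195387
theorem F507228 : act 0 n216538 = n221101 := d18_2 (iv1 D220355) (iv4 F484852) F507226 (iv5 D205939) (iv4 F396609) (iv0 F403795) (iv4 F503261) (iv0 F503266) F503356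
def n221102 : Q := act 6 n195389
theorem D221102 : act 6 n195389 = n221102 := rfl
theorem F507229 : act 2 n221102 = n221071 := d3_1 D221102 (iv6 F507087) (iv2 F403885)
theorem F507230 : act 0 n221102 = n221069 := d21_4 F396975 (iv1 F396595) D195389 D221102 (iv6 D221069) (iv5 F396783) (iv1 F458036) F458038 F403810 (iv1 F396978)
theorem F507231 : act 1 n221102 = n221073 := d15_1 (iv0 F507230) (iv7 D221073) (iv2 F507081)
def n221103 : Q := act 1 n195390
theorem D221103 : act 1 n195390 = n221103 := rfl
theorem F507232 : act 5 n221103 = n219813 := d17_7 F286393 (iv5 D184476) F303721 D153681 D213418 F470299 D221103 F500740 (iv4 D216046)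
theorem F507233 : act 4 n221103 = n211003 := d17_9 (iv1 F459718) (iv5 D178098) (iv1 F361601) D111472 D199606 (iv5 F499579) F499581 F470299 D221103
theorem F507234 : act 2 n200197 = n221103 := d1_3 F507233 (iv2 D211003) (iv4 F415487)
def n221104 : Q := act 7 n195390
theorem D221104 : act 7 n195390 = n221104 := rfl
theorem F507235 : act 6 n221104 = n211948 := d14_1 D221104 F463692 (iv6 F391427) F223682 D195390
theorem F507236 : act 1 n200197 = n221104 := d15_1 (iv0 F506901) (iv7 D221104) (iv2 F506899)
def n221105 : Q := act 5 n195391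
theorem D221105 : act 5 n195391 = n221105 := rfl
theorem F507237 : act 2 n221105 = n195397 := d2_1 D221105 (iv5 D195397) (iv2 F396906)
theorem F507238 : act 6 n221105 = n197419 := d12_2 D195391 D221105 F472586 (iv6 D211243) F360518
theorem F507239 : act 0 n197430 = n221105 := d19_0 (iv5 D221105) (iv4 F502042) (iv3 F502047) (iv1 D196976) (iv5 D107503) (iv4 F165822) F165821 D107486 D196944 F402407 (iv3 D167709) (iv1 F300169) D84509 (iv4 F322344) F331102 F172821 F169075 (iv4 F406993) (iv3 F406997)
theorem F507240 : act 4 n221105 = n214051 := d20_0 F473253 (iv4 F472251) (iv3 D213825) F244894 (iv3 F470093) F470094 F331124 (iv4 F406993) (iv3 F406997) F507239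
theorem F507241 : act 1 n211999 = n221105 := d15_0 (iv0 F507239) (iv7 F460146) (iv2 F463864)
def n221106 : Q := act 7 n195391
theorem D221106 : act 7 n195391 = n221106 := rfl
theorem F507242 : act 2 n221106 = n195398 := d4_1 D221106 (iv7 D195398) (iv2 F396906)
theorem F507243 : act 3 n221106 = n212217 := d8_1 D221106 F464793 F460784
theorem F507244 : act 4 n221106 = n211093 := d11_1 D221106 (iv7 F502046) F502042
theorem F507245 : act 6 n221106 = n211985 := d14_1 D221106 (iv7 F469911) (iv6 F469913) F396593 D195391
theorem F507246 : act 1 n195396 = n221106 := d15_1 D195396 (iv7 D221106) F396906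
theorem F507247 : act 1 n221106 = n195395 := d15_1 F507246 F459929 F403871
def n221107 : Q := act 3 n195392
theorem D221107 : act 3 n195392 = n221107 := rfl
theorem F507248 : act 2 n221107 = n196726 := d0_1 D221107 (iv3 F425120) F425119 (iv3 F448550) F448549
theorem F507249 : act 5 n221107 = n195431 := d6_2 (iv5 F400470) D221107 (iv3 D195431)
theorem F507250 : act 6 n221107 = n211524 := d7_2 F403810 D221107 (iv3 F461970)
theorem F507251 : act 7 n221107 = n196728 := d8_2 F460775 D221107 F460778
theorem F507252 : act 1 n211558 = n221107 := d15_1 (iv0 F462130) F507251 (iv2 F461972)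
def n221108 : Q := act 5 n195394
theorem D221108 : act 5 n195394 = n221108 := rfl
theorem F507253 : act 2 n221108 = n197419 := d2_1 D221108 F472586 F460780
theorem F507254 : act 3 n221108 = n195401 := d6_1 D221108 (iv5 D195401) (iv3 F396907)
theorem F507255 : act 6 n221108 = n195397 := d12_2 D195394 D221108 (iv5 D195397) (iv6 D105563) D105562
theorem F507256 : act 7 n221108 = n197418 := d13_2 F501949 D221108 F501950
theorem F507257 : act 1 n221108 = n197421 := d17_6 D139416 D210585 F488412 F488410 F460808 D221108 F458044 (iv0 D210560) F222609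
theorem F507258 : act 0 n221108 = n196412 := d18_0 F400630 D213843 (iv4 F472357) F403903 F386710 D192430 D219915 (iv0 F501169) D221108
theorem F507259 : act 4 n213886 = n221108 := d18_1 (iv1 F472572) F507258 F400630 F245043 F365328 F484522 F484521 (iv0 F473276) F473274
def n221109 : Q := act 5 n195395
theorem D221109 : act 5 n195395 = n221109 := rfl
theorem F507260 : act 2 n221109 = n197438 := d2_1 D221109 F459925 F459926
theorem F507261 : act 3 n221109 = n199995 := d6_1 D221109 (iv5 F460005) (iv3 F460008)
theorem F507262 : act 4 n221109 = n202202 := d9_1 D221109 F433628 (iv4 F501219) (iv5 F501217) F428171 (iv5 F434346) F434345 F397219 F397212 D214074 (iv4 F501207) F501208 F411183 D199211 (iv4 F459927)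
theorem F507263 : act 0 n202185 = n221109 := d18_2 (iv1 F452227) F452223 F507262 F433628 (iv4 F501219) F501214 (iv4 F458417) (iv0 D202393) (iv5 F423825)
theorem F507264 : act 1 n197373 = n221109 := d18_6 D215935 F482168 (iv1 F480515) F423495 F365197 (iv4 F404079) F507262 (iv0 D202202) (iv5 F336251)
def n221110 : Q := act 1 n195397
theorem D221110 : act 1 n195397 = n221110 := rfl
theorem F507265 : act 7 n221110 = n211999 := d15_2 (iv0 F463603) D221110 F463864
theorem F507266 : act 3 n202420 = n221110 := d20_3 F396844 F180046 D202420 (iv1 D221110) F396908 D195407 (iv1 F459186) (iv4 F463593) F463594 F396847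
theorem F507267 : act 2 n221110 = n197430 := d0_1 F507266 F406997 (iv2 F406994) F405729 (iv2 F423935)
theorem F507268 : act 4 n221110 = n202429 := d5_2 D202420 F507266 (iv3 D202429) (iv4 D115725) (iv3 F180045)
theorem F507269 : act 6 n221110 = n197245 := d7_2 (iv6 F423936) F507266 (iv3 F404242)
def n221111 : Q := act 4 n195397
theorem D221111 : act 4 n195397 = n221111 := rfl
theorem F507270 : act 2 n221111 = n214051 := d1_1 D221111 (iv4 F507240) F507237
theorem F507271 : act 6 n221111 = n213886 := d10_2 F507255 D221111 F507259
theorem F507272 : act 5 n221111 = n202393 := d16_5 (iv4 F502860) F502861 F396897 D195397 D221111 F458417 (iv5 F500431) (iv7 D219753) (iv2 F500415)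
theorem F507273 : act 7 n219932 = n221111 := d13_0 F507272 (iv7 F458418) D219932
theorem F507274 : act 0 n214070 = n221111 := d19_0 F507272 F458417 F386746 (iv1 F384832) (iv5 F391224) (iv4 F479584) F479582 (iv1 F356137) F356139 (iv4 D78212) D78211 F195251 (iv5 D84432) (iv4 D38930) D38929 D84427 D177189 (iv4 F429009) (iv3 F473331)
theorem F507275 : act 1 n202411 = n221111 := d15_0 (iv0 F507274) (iv7 F473333) F469586
def n221112 : Q := act 7 n195397
theorem D221112 : act 7 n195397 = n221112 := rfl
theorem F507276 : act 3 n221112 = n195408 := d8_1 D221112 (iv7 D195408) (iv3 F396908)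
theorem F507277 : act 4 n221112 = n219932 := d11_1 D221112 F507273 (iv4 D221111)
theorem F507278 : act 5 n221112 = n195398 := d13_1 D221112 (iv7 D195398) D195397
theorem F507279 : act 6 n221112 = n211990 := d14_1 D221112 (iv7 F463845) (iv6 F485495) (iv7 F507256) F507255
theorem F507280 : act 1 n197430 = n221112 := d15_1 (iv0 F507239) (iv7 D221112) (iv2 F507237)
theorem F507281 : act 1 n221112 = n211999 := d15_1 F507280 (iv7 F507265) F507267
def n221113 : Q := act 3 n195399
theorem D221113 : act 3 n195399 = n221113 := rfl
theorem F507282 : act 2 n221113 = n211263 := d0_1 D221113 F460858 (iv2 F453222) (iv3 F453226) F472285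
theorem F507283 : act 7 n221113 = n221047 := d8_2 F472286 D221113 F506974
theorem F507284 : act 5 n211260 = n221113 := d13_3 F507283 (iv5 D221047) (iv7 F460849)
theorem F507285 : act 6 n221113 = n211261 := d12_2 D211260 F507284 (iv5 D211261) (iv6 D141352) D141351
def n221114 : Q := act 5 n195399
theorem D221114 : act 5 n195399 = n221114 := rfl
theorem F507286 : act 2 n221114 = n209321 := d2_1 D221114 F453227 F472285
theorem F507287 : act 3 n221114 = n211260 := d6_1 D221114 F507284 (iv3 D221113)
theorem F507288 : act 7 n221114 = n221046 := d13_2 F472286 D221114 F506973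
theorem F507289 : act 0 n221114 = n220871 := d17_2 D195399 D221114 F505994 F403907 D214206 (iv0 F473991) (iv5 F453188) (iv0 D209314) F219363
theorem F507290 : act 1 n221114 = n220868 := d17_8 (iv1 F394322) F381483 F497597 (iv5 F497596) (iv4 F501297) (iv5 F505107) F505110 D221114 (iv4 D220868)
theorem F507291 : act 6 n221114 = n209320 := d21_9 F396681 (iv1 D144408) D144410 (iv6 F436474) (iv1 D195406) (iv6 F396912) (iv5 D195401) D195399 D221114 (iv1 F453215)
def n221115 : Q := act 6 n195399
theorem D221115 : act 6 n195399 = n221115 := rfl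
theorem F507292 : act 2 n221115 = n221052 := d3_1 D221115 F507001 F472285
theorem F507293 : act 3 n221115 = n211261 := d7_1 D221115 (iv6 F507285) (iv3 D221113)
theorem F507294 : act 4 n221115 = n220582 := d10_1 D221115 F504463 (iv4 F472287)
theorem F507295 : act 5 n221115 = n203847 := d12_1 D221115 F430092 (iv5 F453212) (iv6 F507291) (iv5 D221114)
theorem F507296 : act 7 n214847 = n221115 := d13_0 F507295 F430093 D214847
def n221116 : Q := act 5 n195400
theorem D221116 : act 5 n195400 = n221116 := rfl
theorem F507297 : act 2 n221116 = n221046 := d2_1 D221116 F506973 (iv2 F472283)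
theorem F507298 : act 3 n221116 = n209324 := d6_1 D221116 (iv5 F472276) F472281
theorem F507299 : act 7 n221116 = n209321 := d13_2 (iv7 F472284) D221116 F453227
theorem F507300 : act 0 n221116 = n220868 := d17_2 (iv1 F505109) D221116 (iv5 F507117) F507114 (iv5 F495640) (iv0 F495641) F488583 F453179 (iv4 F505106)
theorem F507301 : act 1 n221116 = n220871 := d17_8 (iv1 D194744) (iv5 F381488) (iv1 F497619) F497617 F404840 (iv5 D195401) D195400 D221116 (iv4 D220871)
theorem F507302 : act 6 n221116 = n221045 := d21_3 (iv5 F505107) (iv1 F505109) D221116 (iv1 F506970) F397099 (iv5 D132437) (iv1 F316349) D179908 D216052 F501298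
def n221117 : Q := act 6 n195400
theorem D221117 : act 6 n195400 = n221117 := rfl
theorem F507303 : act 2 n221117 = n219867 := d3_1 D221117 F500949 (iv2 F472283)
theorem F507304 : act 3 n221117 = n197506 := d7_1 D221117 (iv6 F472277) F472281
theorem F507305 : act 4 n221117 = n211470 := d10_1 D221117 (iv6 F461680) F472282
theorem F507306 : act 0 n221117 = n211492 := d21_4 (iv5 F505994) (iv1 F507301) (iv5 D221116) D221117 F461803 (iv5 D197268) (iv1 D108060) D108062 D197271 F423688
theorem F507307 : act 5 n214066 = n221117 := d21_2 F507137 F473313 (iv6 D221117) (iv1 D195400) (iv6 D105564) (iv5 D48807) (iv1 F76862) D105538 D195355 D221083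
theorem F507308 : act 0 n198385 = n221117 := d21_4 D211802 F463131 (iv5 D198384) D198385 (iv6 D221117) D221116 F507300 (iv5 F507117) (iv6 D221078) (iv1 F396807)
theorem F507309 : act 7 n221117 = n211274 := d13_2 D214066 F507307 F460900
def n221118 : Q := act 1 n195401
theorem D221118 : act 1 n195401 = n221118 := rfl
theorem F507310 : act 1 n221118 = n219944 := d15_1 D221118 (iv7 F506928) F506925
theorem F507311 : act 7 n221118 = n197405 := d15_2 (iv0 F482677) D221118 (iv2 F482675)
theorem F507312 : act 5 n221118 = n221080 := d17_7 D202814 (iv5 F489045) (iv1 F489047) (iv5 D209316) F219363 D195401 D221118 (iv0 D221080) F396811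
theorem F507313 : act 3 n219799 = n221118 := d19_19 (iv1 D221118) (iv5 D195401) (iv4 F219363) (iv3 F453175) F479576 F479574 (iv4 F480080) (iv3 F487686) (iv1 F495732) F495730 (iv4 F449982) F420518 (iv1 F420517) (iv5 F421050) F421049 F381998 (iv1 F496301) F496298 (iv4 F500680)
theorem F507314 : act 4 n213683 = n221118 := d20_0 (iv1 D221118) (iv4 F404840) D220290 F503055 F436688 F206001 F199423 (iv4 F110066) (iv3 F242869) D213683
theorem F507315 : act 6 n219798 = n221118 := d21_3 (iv5 F500038) F500039 D219798 (iv1 D221118) F396912 (iv5 D105567) D105565 D195403 F396914 D210181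
def n221119 : Q := act 7 n195401
theorem D221119 : act 7 n195401 = n221119 := rfl
theorem F507316 : act 2 n221119 = n219944 := d4_1 D221119 (iv7 F506928) F506925
theorem F507317 : act 3 n221119 = n197418 := d8_1 D221119 (iv7 F507256) F507254
theorem F507318 : act 4 n221119 = n219183 := d11_1 D221119 (iv7 F497608) F404840
theorem F507319 : act 5 n221119 = n195402 := d13_1 D221119 (iv7 D195402) D195401
theorem F507320 : act 6 n221119 = n219942 := d14_1 D221119 (iv7 F502109) (iv6 F502113) (iv7 D195408) (iv6 F396912)
theorem F507321 : act 0 n197405 = n221119 := d17_2 F463723 F463722 F507319 (iv4 F453194) (iv5 F453198) D218892 (iv5 F496069) (iv0 D214204) (iv4 F403907)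
def n221120 : Q := act 1 n195403
theorem D221120 : act 1 n195403 = n221120 := rfl
theorem F507322 : act 1 n221120 = n195404 := d15_1 D221120 (iv7 F505981) F505977
theorem F507323 : act 7 n221120 = n205450 := d15_2 (iv0 F404340) D221120 F436481
theorem F507324 : act 5 n221120 = n205432 := d17_7 (iv1 F401603) (iv5 F401605) F172660 (iv5 F162151) F162149 D195403 D221120 F457454 F457452
theorem F507325 : act 4 n221120 = n197685 := d17_9 (iv1 F405355) (iv5 F436380) F436383 F409569 F409570 (iv5 D145641) F162148 D195403 D221120
theorem F507326 : act 3 n202185 = n221120 := d19_19 (iv1 D221120) (iv5 D195403) (iv4 F162149) F162150 (iv1 F82704) (iv5 F82706) (iv4 F176528) F358035 F358038 F339176 F268191 (iv3 F240159) F430077 (iv5 F438584) F438588 F423832 (iv1 F423496) (iv5 F452224) F452223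
theorem F507327 : act 6 n221120 = n202184 := d7_2 D202185 F507326 (iv3 D202184)
theorem F507328 : act 2 n205449 = n221120 := d3_3 F507327 (iv2 F423155) F436480
def n221121 : Q := act 4 n195403
theorem D221121 : act 4 n195403 = n221121 := rfl
theorem F507329 : act 3 n221121 = n214849 := d5_1 D221121 F477137 (iv3 F480475) (iv4 F506957) F506954
theorem F507330 : act 6 n221121 = n210183 := d10_2 (iv6 F396914) D221121 (iv4 D210183)
theorem F507331 : act 0 n221121 = n204964 := d17_0 (iv5 F436445) F461220 (iv5 F503521) (iv4 F506932) F506931 F457455 F404337 (iv0 F404340) D221121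
def n221122 : Q := act 6 n195404
theorem D221122 : act 6 n195404 = n221122 := rfl
theorem F507332 : act 2 n221122 = n220332 := d3_1 D221122 F503247 F403783
theorem F507333 : act 4 n221122 = n196988 := d10_1 D221122 (iv6 F461226) F461225
theorem F507334 : act 5 n221122 = n197329 := d12_1 D221122 (iv6 D197329) F167130 (iv6 F162144) D195404
theorem F507335 : act 7 n221122 = n212175 := d14_2 F505981 D221122 (iv6 F500671) F500672 D220867
def n221123 : Q := act 4 n195405
theorem D221123 : act 4 n195405 = n221123 := rfl
theorem F507336 : act 2 n221123 = n220385 := d1_1 D221123 (iv4 F506932) F506936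
theorem F507337 : act 5 n221123 = n214849 := d16_1 D221123 F477137 F366439 F175495 D196609 (iv4 F436470) F436469 (iv7 F506935) F506936
theorem F507338 : act 0 n221123 = n212572 := d17_0 (iv5 F466489) F503537 F503534 F461225 (iv5 D195404) F162142 D145641 F396918 D221123
theorem F507339 : act 1 n221123 = n196608 := d18_6 F402141 F402139 F245306 (iv4 F403983) (iv5 F403985) D221123 (iv4 D196608) D196607 (iv5 F401215)
def n221124 : Q := act 6 n195405
theorem D221124 : act 6 n195405 = n221124 := rfl
def n221125 : Q := act 4 n195406
theorem D221125 : act 4 n195406 = n221125 := rfl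
theorem F507340 : act 3 n221125 = n196684 := d5_1 D221125 F401479 F346860 (iv4 F227196) F436475
theorem F507341 : act 5 n221125 = n212167 := d9_2 F436469 D221125 F464585 (iv5 D200170) F175489 (iv5 F245305) (iv4 F403983) (iv5 F403985) D221123 F507337 F477137 F366439 F175495 D196609 (iv4 F436470)
theorem F507342 : act 6 n221125 = n196683 := d10_2 (iv6 F436474) D221125 F401475
theorem F507343 : act 7 n221125 = n220385 := d11_2 F506935 D221125 (iv4 F506932)
theorem F507344 : act 0 n221125 = n196608 := d18_2 (iv1 F396915) D221125 (iv4 D196608) (iv5 D107131) F78244 D49494 F162143 F162142 D145641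
theorem F507345 : act 1 n221125 = n212572 := d18_6 (iv1 F414458) (iv4 D199981) (iv1 F401221) (iv4 F436470) F436469 D221125 F466488 F425962 (iv5 F409593)
def n221126 : Q := act 6 n195410
theorem D221126 : act 6 n195410 = n221126 := rfl
theorem F507346 : act 2 n221126 = n202872 := d3_1 D221126 (iv6 D202872) (iv2 F396923)
theorem F507347 : act 3 n221126 = n220579 := d7_1 D221126 F504446 (iv3 F456457)
theorem F507348 : act 4 n221126 = n214853 := d10_1 D221126 (iv6 D214853) (iv4 F396925)
theorem F507349 : act 5 n221126 = n197373 := d12_1 D221126 (iv6 D197373) F167205 (iv6 F162157) D195410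
theorem F507350 : act 0 n210943 = n221126 := d17_2 (iv1 F507280) (iv5 F459400) F507349 F404079 (iv5 F365197) (iv0 F423807) D214071 (iv0 F501250) (iv4 F507277)
def n221127 : Q := act 4 n195411
theorem D221127 : act 4 n195411 = n221127 := rfl
theorem F507351 : act 2 n221127 = n199047 := d1_1 D221127 F410467 F410462
theorem F507352 : act 3 n221127 = n199053 := d5_1 D221127 F410482 (iv3 D126664) D126665 (iv3 F396928)
theorem F507353 : act 6 n221127 = n211946 := d10_2 (iv6 F438103) D221127 (iv4 D211946)
theorem F507354 : act 7 n221127 = n199044 := d11_2 (iv7 F410461) D221127 (iv4 F410457)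
theorem F507355 : act 0 n221127 = n199043 := d17_0 F420715 F420714 F362383 F396771 F396774 (iv0 F363487) F364295 F396929 D221127
theorem F507356 : act 1 n221127 = n199036 := d18_6 D207844 F446679 (iv1 F462150) F462148 F458030 D221127 (iv4 F448565) (iv0 D208247) (iv5 F353531)
def n221128 : Q := act 6 n195413
theorem D221128 : act 6 n195413 = n221128 := rfl
theorem F507357 : act 2 n221128 = n195414 := d3_1 D221128 (iv6 D195414) D195413
theorem F507358 : act 4 n221128 = n202505 := d10_1 D221128 (iv6 D202505) (iv4 F396932)
def n221129 : Q := act 0 n195414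
theorem D221129 : act 0 n195414 = n221129 := rfl
theorem F507359 : act 5 n221129 = n195485 := d19_1 D221129 (iv4 F438493) F438492 F408672 (iv5 D192468) (iv4 F424174) F424173 F226566 F226565 (iv4 F423073) F424182 F422869 (iv5 D156301) (iv4 D74344) D74343 F168291 F78230 (iv4 F162170) (iv3 F396937)
theorem F507360 : act 4 n221129 = n219914 := d20_2 (iv4 F396938) D221129 F501164 (iv1 F470924) F313850 F130706 D85504 (iv4 F361578) F424323 (iv1 D202508)
theorem F507361 : act 3 n221129 = n195491 := d20_5 (iv4 F162243) F168291 (iv4 F162170) (iv3 F396937) D221129 (iv4 F397132) F339277 (iv4 F403711) F403710 (iv1 F166982)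
theorem F507362 : act 6 n221129 = n195488 := d21_5 F396774 (iv1 F396830) F396824 D195414 D221129 (iv5 D195488) D195486 F473161 (iv6 D210557) F396775
def n221130 : Q := act 1 n195414
theorem D221130 : act 1 n195414 = n221130 := rfl
theorem F507363 : act 3 n198141 = n221130 := d19_19 (iv1 D221130) F503345 (iv4 D220353) D220352 (iv1 F503341) F462232 F385255 (iv3 F471415) F471418 F342120 (iv4 F347439) F347438 (iv1 F334177) (iv5 F437058) F437057 F365973 (iv1 F168521) D108956 D198141
theorem F507364 : act 4 n210313 = n221130 := d20_0 (iv1 D221130) F396938 F180487 (iv1 F172446) D199325 F411711 (iv1 F423079) (iv4 F473022) F473021 F465848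
theorem F507365 : act 6 n221130 = n211937 := d10_2 (iv6 F456967) F507364 F463652
def n221131 : Q := act 6 n195416
theorem D221131 : act 6 n195416 = n221131 := rfl
theorem F507366 : act 2 n221131 = n202201 := d3_1 D221131 (iv6 D202201) F396944
theorem F507367 : act 3 n221131 = n195417 := d7_1 D221131 (iv6 D195417) D195416
theorem F507368 : act 4 n221131 = n201904 := d10_1 D221131 (iv6 D201904) (iv4 F396942)
theorem F507369 : act 5 n221131 = n215048 := d12_1 D221131 F478069 F456490 (iv6 F396959) F396958
theorem F507370 : act 7 n221131 = n197263 := d14_2 (iv7 F396941) D221131 (iv6 D197263) (iv7 F167165) (iv6 F336210)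
def n221132 : Q := act 6 n195420
theorem D221132 : act 6 n195420 = n221132 := rfl
theorem F507371 : act 2 n221132 = n205919 := d3_1 D221132 (iv6 F455933) F455927
theorem F507372 : act 3 n221132 = n205929 := d7_1 D221132 (iv6 F463132) F463128
theorem F507373 : act 4 n221132 = n203382 := d10_1 D221132 (iv6 F457680) (iv4 F455926)
theorem F507374 : act 0 n221132 = n205920 := d21_4 (iv5 D202043) (iv1 F422761) (iv5 F423223) D221132 F438426 F204010 F176186 (iv5 F403616) (iv6 F403614) (iv1 F422784)
theorem F507375 : act 1 n221132 = n205922 := d15_1 (iv0 F507374) (iv7 D205922) D205920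
theorem F507376 : act 7 n221132 = n205918 := d15_2 (iv0 F438427) (iv0 F507374) (iv2 F438419)
def n221133 : Q := act 1 n195423
theorem D221133 : act 1 n195423 = n221133 := rfl
theorem F507377 : act 1 n221133 = n211804 := d15_1 D221133 (iv7 F463140) (iv2 F396960)
theorem F507378 : act 7 n221133 = n211799 := d15_2 (iv0 F396962) D221133 F463115
theorem F507379 : act 4 n199902 = n221133 := d20_0 (iv1 D221133) F396961 (iv3 F408078) F425614 F425612 F226765 D211013 (iv4 F459753) (iv3 F414066) F414065
theorem F507380 : act 2 n221133 = n211806 := d1_1 F507379 F463143 F414064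
def n221134 : Q := act 5 n195423
theorem D221134 : act 5 n195423 = n221134 := rfl
theorem F507381 : act 2 n221134 = n221074 := d2_1 D221134 (iv5 D221074) (iv2 F396960)
theorem F507382 : act 6 n221134 = n198388 := d12_2 D195423 D221134 (iv5 D198388) (iv6 D109270) (iv5 F162183)
theorem F507383 : act 4 n216190 = n221134 := d10_3 F507382 (iv4 F462328) (iv6 F483316)
def n221135 : Q := act 7 n195423
theorem D221135 : act 7 n195423 = n221135 := rfl
theorem F507384 : act 2 n221135 = n211804 := d4_1 D221135 (iv7 F463140) (iv2 F396960)
theorem F507385 : act 4 n221135 = n198459 := d11_1 D221135 (iv7 D198459) (iv4 F396961)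
theorem F507386 : act 6 n221135 = n219856 := d14_1 D221135 F500913 (iv6 D195355) (iv7 F162182) D195423
theorem F507387 : act 1 n211806 = n221135 := d15_1 F463145 (iv7 D221135) F396960
theorem F507388 : act 1 n221135 = n211799 := d15_1 F507387 (iv7 F507378) F507380
def n221136 : Q := act 6 n195429
theorem D221136 : act 6 n195429 = n221136 := rfl
theorem F507389 : act 2 n221136 = n211925 := d3_1 D221136 (iv6 D211925) (iv2 F396986)
theorem F507390 : act 3 n221136 = n204340 := d7_1 D221136 F432106 F406655
theorem F507391 : act 4 n221136 = n209740 := d10_1 D221136 (iv6 D209740) F406657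
def n221137 : Q := act 5 n195439
theorem D221137 : act 5 n195439 = n221137 := rfl
theorem F507392 : act 3 n221137 = n195446 := d6_1 D221137 (iv5 D195446) (iv3 F396998)
theorem F507393 : act 4 n221137 = n200449 := d9_1 D221137 (iv5 F416462) F385685 F311807 F90731 D57579 D123551 D204343 F432119 F416461 F385690 F314879 (iv4 F317092) (iv5 F388037) (iv4 F396999)
theorem F507394 : act 6 n221137 = n195442 := d12_2 D195439 D221137 (iv5 D195442) (iv6 D105595) D105594
theorem F507395 : act 1 n221137 = n221053 := d17_8 F461679 F461677 (iv1 D203491) (iv5 F393810) (iv4 F463559) F463560 F432113 D221137 F507006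
def n221138 : Q := act 5 n195440
theorem D221138 : act 5 n195440 = n221138 := rfl
theorem F507396 : act 3 n221138 = n198391 := d6_1 D221138 F459373 (iv3 F459372)
theorem F507397 : act 6 n221138 = n197429 := d12_2 F459401 D221138 (iv5 D197429) D197430 (iv5 F459400)
theorem F507398 : act 0 n221138 = n220291 := d17_2 D195440 D221138 (iv5 D220291) (iv4 D193300) D193301 D220292 (iv5 F503062) (iv0 D208556) F216759
theorem F507399 : act 1 n221138 = n205997 := d17_8 F392774 D202815 F495648 F495645 F453110 (iv5 F497641) (iv0 F497643) D221138 (iv4 F438753)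
def n221139 : Q := act 6 n195441
theorem D221139 : act 6 n195441 = n221139 := rfl
theorem F507400 : act 3 n221139 = n212566 := d7_1 D221139 F466454 F427427
theorem F507401 : act 4 n221139 = n212567 := d10_1 D221139 F466458 F461263
theorem F507402 : act 5 n219823 = n221139 := d16_1 (iv4 F500756) F507401 F474260 F474256 F329440 (iv4 F197594) (iv5 F429589) F429590 (iv2 F389098)
theorem F507403 : act 0 n221139 = n199606 := d20_7 (iv4 D74465) (iv1 D34152) (iv4 F53636) (iv3 F111764) (iv1 F316989) D212567 (iv4 F507401) (iv4 D199606) F172982 (iv1 F336727)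
def n221140 : Q := act 7 n195446
theorem D221140 : act 7 n195446 = n221140 := rfl
theorem F507404 : act 2 n221140 = n214846 := d4_1 D221140 (iv7 F506956) F506953
theorem F507405 : act 4 n221140 = n213142 := d11_1 D221140 F469176 F440276
theorem F507406 : act 5 n221140 = n195447 := d13_1 D221140 (iv7 D195447) D195446
theorem F507407 : act 6 n221140 = n213141 := d14_1 D221140 (iv7 D213141) F397045 (iv7 D195455) (iv6 F397007)
theorem F507408 : act 1 n203847 = n221140 := d15_1 F506958 (iv7 D221140) (iv2 F506953)
theorem F507409 : act 1 n221140 = n197244 := d15_1 F507408 F403712 (iv2 F430090)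
def n221141 : Q := act 6 n195448
theorem D221141 : act 6 n195448 = n221141 := rfl
theorem F507410 : act 2 n221141 = n211930 := d3_1 D221141 F463628 (iv2 F397009)
theorem F507411 : act 3 n221141 = n195450 := d7_1 D221141 (iv6 D195450) D195448
theorem F507412 : act 4 n221141 = n206053 := d10_1 D221141 (iv6 D206053) (iv4 F397010)
theorem F507413 : act 5 n221141 = n211926 := d12_1 D221141 (iv6 D211926) (iv5 D144425) D144426 F397013
theorem F507414 : act 0 n221115 = n221141 := d21_4 F507117 (iv1 F507290) (iv5 D221114) D221115 (iv6 D221141) (iv5 F397013) F434678 (iv5 F470013) F470010 F507116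
def n221142 : Q := act 4 n195465
theorem D221142 : act 4 n195465 = n221142 := rfl
theorem F507415 : act 2 n221142 = n195468 := d1_1 D221142 (iv4 D195468) (iv2 F397070)
theorem F507416 : act 5 n221142 = n196521 := d9_2 D195465 D221142 (iv4 D196521) (iv5 D107049) F78186 (iv5 F37899) (iv4 F78303) D107235 D196709 (iv5 F423026) (iv4 D202142) (iv5 D115402) F84086 (iv5 F163628) F163627
theorem F507417 : act 6 n221142 = n198809 := d10_2 (iv6 F397092) D221142 F409349
theorem F507418 : act 7 n221142 = n202152 := d11_2 F401547 D221142 F423068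
theorem F507419 : act 0 n221142 = n198148 := d17_0 F406983 F461567 F461565 (iv4 D195504) F162236 D109275 (iv5 F401561) F401559 D221142
theorem F507420 : act 1 n221142 = n219890 := d18_8 F400252 (iv4 D115506) (iv1 F365189) (iv4 F400249) (iv5 F407303) F407302 F401559 D221142 (iv5 D219890)
def n221143 : Q := act 6 n195467
theorem D221143 : act 6 n195467 = n221143 := rfl
theorem F507421 : act 2 n221143 = n221063 := d3_1 D221143 F507054 (iv2 F401557)
theorem F507422 : act 4 n221143 = n196619 := d10_1 D221143 (iv6 F424765) F424767
theorem F507423 : act 7 n221143 = n211113 := d14_2 F401560 D221143 (iv6 D211113) (iv7 F406992) F406996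
theorem F507424 : act 0 n221143 = n196595 := d21_4 F397074 (iv1 F169282) (iv5 F397072) D221143 (iv6 D196595) (iv5 F397072) (iv1 D195467) (iv5 D105612) D105613 D195470
def n221144 : Q := act 0 n195468
theorem D221144 : act 0 n195468 = n221144 := rfl
theorem F507425 : act 4 n221144 = n196612 := d18_3 (iv1 D195467) D195468 D221144 (iv5 D196612) (iv4 D107137) (iv0 D49497) (iv4 F78239) D107126 (iv5 F397072)
theorem F507426 : act 5 n221144 = n210978 := d19_1 D221144 F459597 F415059 (iv1 D115560) (iv5 F330520) F179497 (iv3 F203733) (iv1 F203737) (iv5 F336591) D205945 F438524 F211671 (iv5 F411046) (iv4 F414553) (iv3 D199999) (iv1 D112221) D112223 (iv4 F410605) F410604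
theorem F507427 : act 3 n221144 = n200501 := d20_5 F466119 F379401 (iv4 F410605) F410604 D221144 (iv4 D200501) F386504 (iv4 F500844) (iv3 F505688) F505692
theorem F507428 : act 1 n202152 = n221144 := d15_0 (iv0 D221144) (iv7 F401563) (iv2 F423066)
theorem F507429 : act 6 n197750 = n221144 := d21_3 (iv5 D140681) (iv1 F172873) (iv5 F405626) (iv1 F507428) F423067 F223761 F246299 (iv5 F406974) (iv6 D198142) (iv1 F223770)
theorem F507430 : act 2 n221144 = n198148 := d3_1 F507429 (iv6 D198148) F405627
theorem F507431 : act 7 n219890 = n221144 := d15_2 (iv0 F507419) F507420 F507430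
def n221145 : Q := act 1 n195468
theorem D221145 : act 1 n195468 = n221145 := rfl
theorem F507432 : act 1 n221145 = n202152 := d15_1 D221145 (iv7 F507418) F507415
theorem F507433 : act 7 n221145 = n198148 := d15_2 (iv0 D221144) D221145 (iv2 F507430)
theorem F507434 : act 5 n221145 = n213275 := d17_7 (iv1 F180738) (iv5 D115396) (iv1 F164994) D196517 (iv4 F433242) F433243 D221145 (iv0 F469667) (iv4 D196655)
theorem F507435 : act 3 n210288 = n221145 := d19_19 (iv1 D221145) (iv5 F433243) F433242 F400934 (iv1 F409705) F409707 (iv4 F396942) (iv3 D195416) (iv1 F162171) D137791 F347231 F217148 (iv1 F168250) (iv5 F168267) (iv4 F217288) (iv3 F360525) (iv1 F219262) (iv5 F221327) (iv4 F456862)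
theorem F507436 : act 4 n196617 = n221145 := d20_6 F103687 (iv1 F99674) F99671 (iv3 F162205) D195436 (iv3 F403889) (iv1 D221145) (iv4 D195468) F162219 (iv1 F103689)
theorem F507437 : act 2 n221145 = n219890 := d1_1 F507436 F501066 F436638
def n221146 : Q := act 4 n195470
theorem D221146 : act 4 n195470 = n221146 := rfl
theorem F507438 : act 2 n221146 = n195504 := d1_1 D221146 (iv4 D195504) F397075
theorem F507439 : act 3 n221146 = n208562 := d5_1 D221146 F449900 (iv3 F391544) (iv4 F414219) F414218
theorem F507440 : act 5 n221146 = n196655 := d9_2 (iv5 F397074) D221146 (iv4 D196655) (iv5 D107178) F78273 F37885 (iv4 F78239) D107128 D196598 (iv5 F423381) (iv4 D202244) (iv5 D115502) (iv4 F163673) F163674 (iv4 F169279)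
theorem F507441 : act 7 n221146 = n202250 := d11_2 F401193 D221146 F423404
theorem F507442 : act 1 n221146 = n196835 := d18_8 F502083 (iv4 D196521) D196519 F400946 (iv5 F424789) F424788 F401196 D221146 (iv5 F502081)
theorem F507443 : act 6 n221146 = n220807 := d21_5 (iv5 F180732) F401054 F401052 D196835 (iv1 F507442) F505633 (iv1 F458619) (iv5 F460119) F460120 F401858
def n221147 : Q := act 6 n195470
theorem D221147 : act 6 n195470 = n221147 := rfl
theorem F507444 : act 2 n221147 = n195505 := d3_1 D221147 (iv6 D195505) F397075
theorem F507445 : act 3 n221147 = n209537 := d7_1 D221147 F454075 F414218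
theorem F507446 : act 4 n221147 = n220807 := d10_1 D221147 (iv6 F507443) (iv4 D221146)
theorem F507447 : act 0 n221147 = n209654 := d21_4 (iv5 F401187) (iv1 F169281) (iv5 F397074) D221147 F454515 (iv5 F220005) D136781 F397083 (iv6 D195469) D195466
theorem F507448 : act 1 n221147 = n209656 := d15_1 (iv0 F507447) (iv7 D209656) D209654
theorem F507449 : act 7 n221147 = n209653 := d15_2 (iv0 F505122) (iv0 F507447) (iv2 F505118)
def n221148 : Q := act 5 n195472
theorem D221148 : act 5 n195472 = n221148 := rfl
theorem F507450 : act 2 n221148 = n205026 := d2_1 D221148 F434673 F404157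
theorem F507451 : act 3 n221148 = n197241 := d6_1 D221148 F434685 (iv3 F434683)
theorem F507452 : act 4 n221148 = n209381 := d9_1 D221148 F457665 F451835 F451833 (iv4 D201395) (iv5 F361841) (iv4 F403773) (iv5 F403775) (iv4 F385482) (iv5 F448222) (iv4 F448224) F237955 (iv4 F361788) (iv5 F379501) F397095
theorem F507453 : act 6 n221148 = n203221 := d12_2 F496304 D221148 (iv5 D203221) D203222 (iv5 F496306)
theorem F507454 : act 7 n221148 = n214064 := d13_2 F414644 D221148 F473303
theorem F507455 : act 0 n221148 = n216050 := d17_2 (iv1 F414649) D221148 F482668 (iv4 F505391) F505392 (iv0 F429343) F429344 F397096 (iv4 F414647)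
theorem F507456 : act 1 n221148 = n200016 := d17_6 F360553 D113117 (iv1 F178460) (iv5 F379501) F397095 D221148 F414637 F404137 F404132
def n221149 : Q := act 6 n195477
theorem D221149 : act 6 n195477 = n221149 := rfl
theorem F507457 : act 3 n221149 = n195479 := d7_1 D221149 (iv6 D195479) D195477
theorem F507458 : act 5 n221149 = n220333 := d12_1 D221149 (iv6 F503624) F427479 (iv6 F360679) F397112
def n221150 : Q := act 1 n195479
theorem D221150 : act 1 n195479 = n221150 := rfl
theorem F507459 : act 1 n221150 = n197255 := d15_1 D221150 (iv7 F423158) F423157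
theorem F507460 : act 7 n221150 = n221109 := d15_2 (iv0 F423810) D221150 F507260
theorem F507461 : act 4 n209885 = n221150 := d20_0 (iv1 D221150) (iv4 F423484) F423483 D202288 (iv3 F423832) (iv4 F438588) F473134 F473130 F425268 D209885
theorem F507462 : act 3 n198155 = n221150 := d20_9 (iv4 F423484) (iv1 F452216) (iv4 F460886) (iv3 D211271) (iv1 F404553) F460041 F460039 F223780 D198155 (iv1 D221150)
theorem F507463 : act 6 n211082 = n221150 := d21_3 (iv5 F404272) (iv1 F404553) (iv5 F460042) (iv1 D221150) (iv6 D195479) D195478 F397117 F162237 D144419 F404299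
theorem F507464 : act 5 n221150 = n197294 := d12_1 F507463 (iv6 D197294) F167382 D197493 (iv5 F460042)
theorem F507465 : act 2 n195523 = n221150 := d2_3 F507464 F403871 F397219
def n221151 : Q := act 5 n195479
theorem D221151 : act 5 n195479 = n221151 := rfl
theorem F507466 : act 3 n221151 = n220333 := d6_1 D221151 (iv5 F507458) F507457
theorem F507467 : act 4 n221151 = n219862 := d9_1 D221151 (iv5 F500933) (iv4 F503273) F503274 F460409 F422379 (iv4 F403749) (iv5 F425969) (iv4 F459198) (iv5 F460087) (iv4 F503279) (iv5 F503280) F473022 (iv5 F423485) F423484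
theorem F507468 : act 6 n221151 = n219707 := d12_2 D195479 D221151 (iv5 D219707) (iv6 F397116) (iv5 D195478)
theorem F507469 : act 7 n221151 = n221126 := d13_2 F404080 D221151 F507349
def n221152 : Q := act 6 n195480
theorem D221152 : act 6 n195480 = n221152 := rfl
theorem F507470 : act 2 n221152 = n195485 := d3_1 D221152 (iv6 D195485) (iv2 F397118)
theorem F507471 : act 3 n221152 = n196600 := d7_1 D221152 F401549 F401546
theorem F507472 : act 0 n221152 = n211156 := d21_10 F460367 F504443 (iv5 D220577) (iv6 D193930) D193926 (iv6 F414217) F414212 (iv1 F179728) D195480 D221152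
theorem F507473 : act 0 n221136 = n221152 := d21_4 F347219 (iv1 F179745) D195429 D221136 (iv6 D221152) (iv5 D195480) (iv1 F179733) F360858 (iv6 D143033) (iv1 F219047)
def n221153 : Q := act 1 n195481
theorem D221153 : act 1 n195481 = n221153 := rfl
theorem F507474 : act 1 n221153 = n195489 := d15_1 D221153 (iv7 D195489) (iv2 F397119)
theorem F507475 : act 7 n221153 = n195486 := d15_2 (iv0 F458050) D221153 (iv2 F473160)
theorem F507476 : act 2 n195487 = n221153 := d4_3 F507475 (iv2 F473160) F473159
theorem F507477 : act 6 n221153 = n209886 := d3_2 (iv6 F473156) F507476 (iv2 F472454)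
def n221154 : Q := act 5 n195481
theorem D221154 : act 5 n195481 = n221154 := rfl
theorem F507478 : act 2 n221154 = n195488 := d2_1 D221154 (iv5 D195488) (iv2 F397119)
theorem F507479 : act 4 n221154 = n219893 := d16_2 F422313 D221154 (iv5 F501080) F483601 F283716 D185253 (iv5 F422320) (iv7 D201908) (iv2 F422311)
theorem F507480 : act 1 n221154 = n220067 := d17_6 D156058 D213907 F472688 F469277 F422313 D221154 (iv5 F501950) (iv0 D197418) F167238
theorem F507481 : act 1 n211243 = n221154 := d15_0 F507480 F501949 (iv2 F460780)
theorem F507482 : act 7 n219915 = n221154 := d11_0 F507479 F501079 D219915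
def n221155 : Q := act 7 n195481
theorem D221155 : act 7 n195481 = n221155 := rfl
theorem F507483 : act 2 n221155 = n195489 := d4_1 D221155 (iv7 D195489) (iv2 F397119)
theorem F507484 : act 3 n221155 = n211067 := d8_1 D221155 F459978 F401552
theorem F507485 : act 4 n221155 = n220548 := d11_1 D221155 F504305 F422313
theorem F507486 : act 5 n221155 = n219915 := d13_1 D221155 F507482 (iv5 D221154)
theorem F507487 : act 6 n221155 = n195515 := d14_1 D221155 F423164 (iv6 D202186) F179731 D195481
theorem F507488 : act 1 n195487 = n221155 := d15_1 D195487 (iv7 D221155) F397119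
theorem F507489 : act 1 n221155 = n195486 := d15_1 F507488 (iv7 F507475) (iv2 F507476)
def n221156 : Q := act 3 n195482
theorem D221156 : act 3 n195482 = n221156 := rfl
theorem F507490 : act 4 n221156 = n210233 := d5_2 (iv4 F397123) D221156 F456673 F221263 (iv3 F322681)
theorem F507491 : act 5 n221156 = n201964 := d6_2 F397124 D221156 (iv3 D201964)
def n221157 : Q := act 6 n195482
theorem D221157 : act 6 n195482 = n221157 := rfl
theorem F507492 : act 2 n221157 = n210808 := d3_1 D221157 F458865 F422549
theorem F507493 : act 4 n221157 = n203125 := d10_1 D221157 F427061 (iv4 F397123)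
def n221158 : Q := act 0 n195485
theorem D221158 : act 0 n195485 = n221158 := rfl
theorem F507494 : act 5 n221158 = n216538 := d17_3 D221129 F507359 D221158 F484852 (iv5 D193439) D193437 (iv5 F424320) (iv0 D202507) (iv4 F396938)
theorem F507495 : act 4 n221158 = n219688 := d18_3 D205937 F438493 D221158 F500058 (iv4 F472232) (iv0 F506923) F506924 F499850 (iv5 D205939)
theorem F507496 : act 3 n221158 = n219685 := d20_5 (iv4 D198657) (iv1 D109731) (iv4 F162223) (iv3 F397125) D221158 (iv4 D219685) F385213 D204323 F432044 (iv1 F408733)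
theorem F507497 : act 2 n211156 = n221158 := d15_3 (iv0 D221158) (iv0 F463608) F463607
theorem F507498 : act 6 n221158 = n219686 := d3_2 (iv6 F460368) F507497 F500046
theorem F507499 : act 7 n221158 = n221136 := d4_2 F463607 F507497 F507389
def n221159 : Q := act 7 n195485
theorem D221159 : act 7 n195485 = n221159 := rfl
theorem F507500 : act 3 n221159 = n195492 := d8_1 D221159 (iv7 D195492) (iv3 F397125)
theorem F507501 : act 1 n221136 = n221159 := d15_1 (iv0 F507473) (iv7 D221159) (iv2 F507470)
theorem F507502 : act 1 n221159 = n211156 := d15_1 F507501 (iv7 F463607) (iv2 F507389)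
def n221160 : Q := act 6 n195486
theorem D221160 : act 6 n195486 = n221160 := rfl
theorem F507503 : act 2 n221160 = n213824 := d3_1 D221160 F472249 F473160
theorem F507504 : act 4 n221160 = n202402 := d10_1 D221160 (iv6 F461044) (iv4 F473256)
theorem F507505 : act 5 n221160 = n203259 := d12_1 D221160 (iv6 F446751) F446750 D210557 (iv5 F473161)
theorem F507506 : act 7 n221160 = n213826 := d14_2 F507475 D221160 F472254 F472456 (iv6 F507477)
theorem F507507 : act 0 n221160 = n211082 := d21_4 D197420 F458029 (iv5 F473161) D221160 F507463 F507464 (iv1 F403874) D221105 F507238 (iv1 D197419)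
def n221161 : Q := act 1 n195488
theorem D221161 : act 1 n195488 = n221161 := rfl
theorem F507508 : act 1 n221161 = n219915 := d15_1 D221161 F507482 F507478
theorem F507509 : act 7 n221161 = n211243 := d15_2 (iv0 F453189) D221161 F460780
theorem F507510 : act 3 n205917 = n221161 := d19_19 (iv1 D221161) (iv5 D195488) (iv4 F179480) F179479 D115245 (iv5 F245209) (iv4 F382896) (iv3 F481664) (iv1 F481665) (iv5 D188773) (iv4 D92781) D92780 (iv1 F290191) F155622 F327590 (iv3 F213977) (iv1 F213981) (iv5 F219888) (iv4 F438410)
theorem F507511 : act 4 n211252 = n221161 := d20_6 (iv4 F358787) F358767 (iv4 F358764) F358763 (iv1 F362319) (iv3 F460816) (iv1 D221161) (iv4 F397127) F386718 (iv1 F358772)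
theorem F507512 : act 6 n205916 = n221161 := d21_3 (iv5 F467587) (iv1 F484862) F484863 (iv1 D221161) (iv6 F507362) F507359 D221158 F507494 (iv6 D216538) (iv1 F386674)
theorem F507513 : act 2 n221161 = n220067 := d3_1 F507512 (iv6 D220067) (iv2 F438402)
def n221162 : Q := act 7 n195488
theorem D221162 : act 7 n195488 = n221162 := rfl
theorem F507514 : act 2 n221162 = n219915 := d4_1 D221162 F507482 F507478
theorem F507515 : act 3 n221162 = n195495 := d8_1 D221162 (iv7 D195495) (iv3 F397126)
theorem F507516 : act 4 n221162 = n215405 := d11_1 D221162 F479826 F397127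
theorem F507517 : act 5 n221162 = n195489 := d13_1 D221162 (iv7 D195489) D195488
theorem F507518 : act 1 n220067 = n221162 := d15_1 F507480 (iv7 D221162) (iv2 F507478)
theorem F507519 : act 1 n221162 = n211243 := d15_1 F507518 (iv7 F507509) F507513
theorem F507520 : act 6 n211938 = n221162 := d21_3 D204343 F507009 F507008 (iv1 F507518) (iv6 D220067) (iv5 F467597) F484820 (iv5 D216528) F432117 (iv1 D204342)
def n221163 : Q := act 3 n195490
theorem D221163 : act 3 n195490 = n221163 := rfl
theorem F507521 : act 2 n221163 = n220330 := d0_1 D221163 (iv3 D220330) (iv2 F503210) F503211 (iv2 F401576)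
theorem F507522 : act 4 n221163 = n196627 := d5_2 F397129 D221163 (iv3 D196627) (iv4 F228443) (iv3 F340485)
theorem F507523 : act 6 n221163 = n211797 := d7_2 (iv6 F397130) D221163 (iv3 D211797)
theorem F507524 : act 0 n220088 = n221163 := d20_4 F432114 (iv1 F386610) (iv4 F473307) (iv3 F502049) (iv3 D221163) (iv4 F397129) F361842 F219350 (iv3 F396998) (iv1 F432113)
def n221164 : Q := act 5 n195490
theorem D221164 : act 5 n195490 = n221164 := rfl
theorem F507525 : act 1 n221164 = n214680 := d17_8 F353965 F119633 D84565 D177513 F397132 (iv5 D195491) D195490 D221164 (iv4 D214680)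
theorem F507526 : act 0 n221164 = n214843 := d18_0 (iv4 D214843) (iv1 F339265) (iv4 F463622) (iv5 F463625) (iv4 D198654) (iv0 D109730) (iv4 F162223) D195490 D221164
def n221165 : Q := act 0 n195491
theorem D221165 : act 0 n195491 = n221165 := rfl
theorem F507527 : act 4 n221165 = n215749 := d18_1 D221165 F481396 (iv4 F477123) F477124 F403778 F392968 (iv4 F392962) (iv0 F392963) D195491
theorem F507528 : act 6 n221165 = n205926 := d21_5 (iv5 D195459) F166097 D105625 (iv6 F397131) D221165 (iv5 F454540) (iv1 F454544) (iv5 F434686) (iv6 F472635) (iv1 F472633)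
theorem F507529 : act 1 n215742 = n221165 := d15_0 (iv0 D221165) (iv7 F477120) (iv2 F481354)
theorem F507530 : act 3 n205927 = n221165 := d19_19 (iv1 F507529) F481356 (iv4 F408527) (iv3 F477007) F477010 (iv5 D177583) (iv4 D84588) (iv3 D39068) (iv1 D18555) D18557 D39078 D84617 (iv1 F309225) (iv5 F305313) F351906 (iv3 F351920) F351918 D133592 (iv4 F438456)
theorem F507531 : act 7 n221165 = n210173 := d8_2 (iv7 F438457) F507530 F456462
def n221166 : Q := act 1 n195491
theorem D221166 : act 1 n195491 = n221166 := rfl
theorem F507532 : act 1 n221166 = n215742 := d15_1 D221166 F481358 F401583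
theorem F507533 : act 4 n221166 = n215752 := d17_9 F481411 F440277 (iv1 F430025) F406367 D215756 F481429 (iv0 F392963) D195491 D221166
theorem F507534 : act 3 n202201 = n221166 := d19_19 (iv1 D221166) (iv5 D195491) F162223 (iv3 F169710) F352907 (iv5 F455380) F455379 (iv3 F505695) (iv1 F505697) (iv5 F505369) F505368 (iv3 F422926) (iv1 D193527) D193529 F423203 F482173 (iv1 D215936) F336251 (iv4 F423224)
theorem F507535 : act 2 n221166 = n210173 := d0_1 F507534 F456462 (iv2 F396945) (iv3 F507367) F507366
theorem F507536 : act 6 n221166 = n202199 := d7_2 D202201 F507534 (iv3 D202199)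
def n221167 : Q := act 3 n195494
theorem D221167 : act 3 n195494 = n221167 := rfl
theorem F507537 : act 4 n221167 = n209869 := d5_2 (iv4 F397141) D221167 F455205 F422713 F415335
theorem F507538 : act 5 n221167 = n197286 := d6_2 (iv5 F397140) D221167 (iv3 D197286)
theorem F507539 : act 6 n221167 = n205928 := d7_2 F438374 D221167 F438459
theorem F507540 : act 0 n221113 = n221167 := d20_4 (iv4 F169223) D198372 (iv4 F472287) D221113 (iv3 D221167) F397141 (iv1 F364911) F364907 (iv3 F397000) F414459
def n221168 : Q := act 0 n195504
theorem D221168 : act 0 n195504 = n221168 := rfl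
theorem F507541 : act 5 n221168 = n202151 := d17_1 D221168 (iv1 D202151) D202152 F423068 (iv5 D196705) F165278 D195461 (iv0 F397064) D195504
theorem F507542 : act 4 n221168 = n211525 := d18_3 F397068 D195504 D221168 (iv5 D211525) F225640 (iv0 F102876) F77649 D105610 D195463
theorem F507543 : act 3 n221168 = n196838 := d20_5 F424733 (iv1 D199890) (iv4 F358492) (iv3 F397177) D221168 F401988 F355854 (iv4 F273433) (iv3 F471739) F471742
theorem F507544 : act 6 n221168 = n198124 := d21_5 F223768 F444184 F394214 F397178 D221168 (iv5 D198124) (iv1 F405611) (iv5 F504203) F504204 (iv1 D211104)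
theorem F507545 : act 1 n202250 = n221168 := d15_0 (iv0 D221168) (iv7 F401201) (iv2 F423402)
theorem F507546 : act 7 n196835 = n221168 := d14_0 F507544 F406936 (iv6 D195930) F359157 D196835
def n221169 : Q := act 1 n195504
theorem D221169 : act 1 n195504 = n221169 := rfl
theorem F507547 : act 1 n221169 = n202250 := d15_1 D221169 (iv7 F507441) F507438
theorem F507548 : act 5 n221169 = n202150 := d17_7 D115404 F359951 (iv1 F165177) D196653 (iv4 F461564) F461565 D221169 (iv0 D202150) (iv4 D115406)
theorem F507549 : act 4 n221169 = n221107 := d17_9 (iv1 F507252) F462128 (iv1 D205483) D205484 (iv4 F501066) (iv5 D219890) (iv0 F461566) F461565 D221169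
theorem F507550 : act 3 n199048 = n221169 := d19_19 (iv1 D221169) (iv5 F461565) F461564 F401358 (iv1 F360642) (iv5 D115344) D115343 (iv3 F396604) (iv1 F396606) (iv5 F360491) F162186 F111140 (iv1 F49379) (iv5 F47607) D62683 (iv3 F207772) (iv1 F410472) (iv5 D199050) (iv4 F410470)
theorem F507551 : act 6 n196834 = n221169 := d21_3 F401866 (iv1 F400931) (iv5 F401966) (iv1 D221169) (iv6 F397178) (iv5 F394214) F457522 F457228 (iv6 D196811) D196810
theorem F507552 : act 2 n221169 = n196835 := d3_1 F507551 (iv6 D196835) D196834
def n221170 : Q := act 5 n195505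
theorem D221170 : act 5 n195505 = n221170 := rfl
theorem F507553 : act 3 n221170 = n195506 := d6_1 D221170 (iv5 D195506) (iv3 F397179)
theorem F507554 : act 6 n221170 = n198395 := d12_2 D195505 D221170 (iv5 D198395) (iv6 D109277) (iv5 F162236)
theorem F507555 : act 0 n221170 = n198395 := d17_2 F482576 D221170 (iv5 D198395) F169284 D126162 (iv0 F420458) F420456 F400700 D216020
theorem F507556 : act 1 n221170 = n213445 := d17_6 (iv1 D211104) F223768 F444184 F394214 (iv4 F397180) D221170 (iv5 D213445) F407874 F460113
def n221171 : Q := act 0 n195506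
theorem D221171 : act 0 n195506 = n221171 := rfl
theorem F507557 : act 5 n221171 = n219313 := d17_1 D221171 F498257 (iv5 F467583) (iv4 F471692) F471693 (iv0 F365339) D210711 (iv0 F501105) F501104
theorem F507558 : act 4 n221171 = n219646 := d18_1 D221171 F499833 F467602 (iv5 D212809) F383081 F379151 D194321 F392821 D195506
theorem F507559 : act 2 n219320 = n221171 := d15_3 (iv0 D221171) F397183 (iv7 F498276)
theorem F507560 : act 1 n220728 = n221171 := d15_0 (iv0 D221171) (iv7 F505124) F505194
theorem F507561 : act 7 n221171 = n219946 := d15_2 D220728 F507560 F501303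
def n221172 : Q := act 6 n195510
theorem D221172 : act 6 n195510 = n221172 := rfl
theorem F507562 : act 2 n221172 = n221137 := d3_1 D221172 F507394 F438763
theorem F507563 : act 3 n221172 = n220867 := d7_1 D221172 (iv6 D220867) F438764
theorem F507564 : act 4 n221172 = n211491 := d10_1 D221172 F461801 F453180
theorem F507565 : act 5 n221172 = n204344 := d12_1 D221172 F432123 (iv5 D195435) (iv6 F394320) (iv5 F438762)
theorem F507566 : act 7 n204343 = n221172 := d13_0 F507565 (iv7 D204344) D204343
theorem F507567 : act 0 n195516 = n221172 := d17_2 (iv1 F463660) F460064 F507565 F432122 F197972 F197946 D204320 F432029 (iv4 F463658)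
theorem F507568 : act 1 n211473 = n221172 := d17_6 (iv1 F386533) F346705 (iv1 D154118) D154120 D213533 F470899 F507565 (iv0 F458024) F458022
def n221173 : Q := act 1 n195516
theorem D221173 : act 1 n195516 = n221173 := rfl
theorem F507569 : act 1 n221173 = n211473 := d15_1 D221173 (iv7 F507007) F507004
theorem F507570 : act 7 n221173 = n221137 := d15_2 (iv0 F507567) D221173 (iv2 F507562)
theorem F507571 : act 5 n221173 = n204323 := d17_7 D184245 (iv5 F384819) F346695 D211479 F461733 F460064 D221173 F432043 (iv4 D184247)
theorem F507572 : act 4 n221173 = n211490 := d17_9 (iv1 F461793) (iv5 F340025) (iv1 F347189) (iv5 F346861) (iv4 F227196) D211915 F463568 F460064 D221173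
theorem F507573 : act 3 n221140 = n221173 := d19_19 (iv1 D221173) (iv5 F460064) (iv4 F461733) F461731 F431203 (iv5 D150093) (iv4 D70625) F309488 (iv1 F309487) F52014 (iv4 F96762) (iv3 F212314) F330748 (iv5 F298815) D174136 (iv3 F438656) F438658 (iv5 F469175) (iv4 F507405)
theorem F507574 : act 2 n221173 = n204343 := d0_1 F507573 F432118 (iv2 F403783) F477127 (iv2 F507404)
def n221174 : Q := act 7 n195516
theorem D221174 : act 7 n195516 = n221174 := rfl
theorem F507575 : act 2 n221174 = n211473 := d4_1 D221174 (iv7 F507007) F507004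
theorem F507576 : act 3 n221174 = n209664 := d8_1 D221174 F454557 F401540
theorem F507577 : act 4 n221174 = n202709 := d11_1 D221174 (iv7 F434519) (iv4 F434520)
theorem F507578 : act 5 n221174 = n211937 := d13_1 D221174 (iv7 F463653) F460064
theorem F507579 : act 6 n221174 = n209663 := d14_1 D221174 F454552 F404066 F396696 D195516
theorem F507580 : act 1 n204343 = n221174 := d15_1 (iv0 F507009) (iv7 D221174) (iv2 F507004)
theorem F507581 : act 1 n221174 = n221137 := d15_1 F507580 (iv7 F507570) F507574
def n221175 : Q := act 6 n195520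
theorem D221175 : act 6 n195520 = n221175 := rfl
theorem F507582 : act 3 n221175 = n195522 := d7_1 D221175 (iv6 D195522) D195520
theorem F507583 : act 4 n221175 = n198154 := d10_1 D221175 (iv6 D198154) (iv4 F397205)
theorem F507584 : act 7 n221175 = n211085 := d14_2 F402136 D221175 (iv6 D211085) (iv7 F459377) F459376
theorem F507585 : act 5 n221175 = n211069 := d21_6 (iv5 F397074) (iv1 F401196) F401198 D196704 (iv1 F401542) D221175 (iv1 D211069) F405737 (iv6 D196593) (iv1 F169281)
def n221176 : Q := act 6 n195523
theorem D221176 : act 6 n195523 = n221176 := rfl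
theorem F507586 : act 2 n221176 = n211082 := d3_1 D221176 F507463 (iv2 F507465)
theorem F507587 : act 3 n221176 = n195525 := d7_1 D221176 (iv6 D195525) D195523
theorem F507588 : act 4 n221176 = n214075 := d10_1 D221176 (iv6 D214075) (iv4 F397212)
theorem F507589 : act 5 n221176 = n204961 := d12_1 D221176 (iv6 D204961) (iv5 F403593) F403596 F397219
theorem F507590 : act 0 n213824 = n221176 := d21_4 (iv5 F458048) (iv1 D210561) D210562 (iv6 F472249) (iv6 D221176) (iv5 F397219) (iv1 D195396) D195397 (iv6 F507255) F507258
theorem F507591 : act 1 n213826 = n221176 := d17_6 (iv1 D108285) D108286 F314103 (iv5 D155904) D155903 D213826 F507589 F434364 (iv4 D197506)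
def n221177 : Q := act 3 n195527
theorem D221177 : act 3 n195527 = n221177 := rfl
theorem F507592 : act 4 n221177 = n212174 := d5_2 F457653 D221177 (iv3 F464619) F459945 (iv3 F457652)
theorem F507593 : act 5 n221177 = n211999 := d6_2 (iv5 F397223) D221177 (iv3 D211999)
theorem F507594 : act 0 n221126 = n221177 := d20_4 F391429 D193932 D220579 (iv3 F507347) (iv3 D221177) (iv4 F457653) F478736 F478733 (iv3 F503343) F503344
def n221178 : Q := act 6 n195535
theorem D221178 : act 6 n195535 = n221178 := rfl
theorem F507595 : act 2 n221178 = n209313 := d3_1 D221178 (iv6 D209313) (iv2 F397258)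
theorem F507596 : act 3 n221178 = n195537 := d7_1 D221178 (iv6 D195537) D195535
theorem F507597 : act 4 n221178 = n211170 := d10_1 D221178 (iv6 D211170) (iv4 F397259)
theorem F507598 : act 7 n221178 = n220064 := d14_2 (iv7 F397260) D221178 (iv6 D220064) F387976 F349158
theorem F507599 : act 0 n221178 = n220070 := d21_4 (iv5 D198523) (iv1 F396726) F397262 D221178 (iv6 F501965) (iv5 D204899) F302200 (iv5 F302427) F359253 F408224
theorem F507600 : act 0 n219720 = n221178 := d21_4 (iv5 D99736) D99733 D192127 D219720 (iv6 D221178) (iv5 F397262) (iv1 F414033) (iv5 F414031) F413208 (iv1 D192137)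
def n221179 : Q := act 1 n195538
theorem D221179 : act 1 n195538 = n221179 := rfl
theorem F507601 : act 1 n221179 = n205177 := d15_1 D221179 F435315 F410930
theorem F507602 : act 7 n221179 = n205178 := d15_2 (iv0 F397274) D221179 (iv2 D205178)
theorem F507603 : act 5 n221179 = n196044 := d17_7 (iv1 F360481) (iv5 D106678) F163856 D196046 (iv4 F506431) F506432 D221179 F399168 F201937
theorem F507604 : act 4 n221179 = n200006 := d17_9 F414587 (iv5 D128566) (iv1 F172141) (iv5 F377935) (iv4 F435873) F435875 (iv0 F506433) F506432 D221179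
theorem F507605 : act 3 n200463 = n221179 := d19_19 (iv1 D221179) (iv5 F506432) F506431 F399176 (iv1 F436142) (iv5 F436939) F436938 (iv3 F395368) F230613 F82759 (iv4 F82844) (iv3 D52469) F40263 D51558 (iv4 F82025) (iv3 F105445) (iv1 F230988) F232038 D200463
theorem F507606 : act 6 n215750 = n221179 := d21_3 (iv5 F506111) F506114 (iv5 F481400) (iv1 D221179) F397272 F362255 (iv1 D128586) D128588 (iv6 F417612) F417614
theorem F507607 : act 2 n221179 = n205168 := d3_1 F507606 F435268 (iv2 F481398)
def n221180 : Q := act 6 n195541
theorem D221180 : act 6 n195541 = n221180 := rfl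
theorem F507608 : act 3 n221180 = n195543 := d7_1 D221180 (iv6 D195543) D195541
def n221181 : Q := act 6 n195553
theorem D221181 : act 6 n195553 = n221181 := rfl
theorem F507609 : act 2 n221181 = n212197 := d3_1 D221181 (iv6 D212197) F397328
theorem F507610 : act 3 n221181 = n221102 := d7_1 D221181 (iv6 D221102) F397329
theorem F507611 : act 4 n221181 = n205866 := d10_1 D221181 F462109 F462108
theorem F507612 : act 7 n221181 = n216188 := d14_2 F460833 D221181 (iv6 F483311) F477113 F460838
theorem F507613 : act 0 n221181 = n216991 := d21_4 (iv5 D139807) (iv1 F222993) (iv5 F397327) D221181 F486894 F454874 (iv1 F449005) (iv5 D205838) F425126 F425123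
theorem F507614 : act 5 n221181 = n216144 := d21_6 (iv5 F362494) D210168 F456442 (iv6 D195560) (iv1 F397326) D221181 (iv1 F489955) F503258 (iv6 D220336) (iv1 F389788)
theorem F507615 : act 0 n218134 = n221181 := d21_4 F331740 (iv1 F166098) D195459 (iv6 F492294) (iv6 D221181) F397327 (iv1 D139800) D139802 F397137 (iv1 F397136)
theorem F507616 : act 7 n221070 = n221102 := d8_2 F507612 (iv3 F507086) (iv3 F507610)
def n221182 : Q := act 5 n195556
theorem D221182 : act 5 n195556 = n221182 := rfl
theorem F507617 : act 3 n221182 = n198548 := d6_1 D221182 (iv5 D198548) (iv3 F397336)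
theorem F507618 : act 4 n221182 = n210445 := d9_1 D221182 F457569 F426061 (iv5 D202889) (iv4 D117202) D117203 D202890 F426066 (iv4 F416127) (iv5 F416447) (iv4 F426050) (iv5 D202887) (iv4 D117197) (iv5 F333612) (iv4 F397337)
theorem F507619 : act 6 n221182 = n198710 := d12_2 D195556 D221182 (iv5 D198710) (iv6 D109877) F162323
theorem F507620 : act 7 n221182 = n211771 := d13_2 (iv7 F397338) D221182 F463037
theorem F507621 : act 1 n221182 = n210088 := d17_6 (iv1 D117205) (iv5 D54017) D54015 (iv5 F333612) (iv4 F397337) D221182 F456106 (iv0 F426072) (iv4 D202892)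
def n221183 : Q := act 3 n195557
theorem D221183 : act 3 n195557 = n221183 := rfl
theorem F507622 : act 2 n221183 = n201222 := d0_1 D221183 F419505 F426287 (iv3 F460842) F460841
theorem F507623 : act 4 n221183 = n210046 := d5_2 D195557 D221183 (iv3 F455910) F449597 F397304
theorem F507624 : act 5 n221183 = n201278 := d6_2 (iv5 F397341) D221183 (iv3 F419819)
theorem F507625 : act 6 n221183 = n195852 := d7_2 (iv6 F397339) D221183 (iv3 F398461)
theorem F507626 : act 7 n221183 = n201202 := d8_2 (iv7 F397340) D221183 F419430
theorem F507627 : act 0 n221183 = n201220 := d19_4 F320126 D105702 D195557 D221183 F419497 F413182 (iv3 F456353) F456357 F350079 (iv4 D113257) D113256 (iv1 F407955) F407953 F207140 F100189 F47363 F47362 F47154 D53551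
theorem F507628 : act 0 n201207 = n221183 := d20_4 F420790 F465201 (iv4 D212296) (iv3 F419455) (iv3 D221183) (iv4 D195557) F317976 (iv4 F280365) (iv3 F360653) F420792
def n221184 : Q := act 5 n195561
theorem D221184 : act 5 n195561 = n221184 := rfl
theorem F507629 : act 6 n221184 = n205933 := d12_2 (iv6 F404334) D221184 F438485 (iv6 F423936) F423938
theorem F507630 : act 0 n221184 = n203221 := d17_2 D195561 D221184 (iv5 D203221) (iv4 D118240) F185571 (iv0 D39763) D39765 F317371 (iv4 F162329)
theorem F507631 : act 1 n221184 = n203224 := d17_6 (iv1 F241291) (iv5 F241292) F242144 (iv5 F241347) (iv4 F397351) D221184 (iv5 D203224) F241384 F241383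
theorem F507632 : act 4 n221184 = n205934 := d18_5 (iv1 F323826) F323261 D153550 (iv4 F397351) D221184 (iv0 F438489) D209705 F454685 (iv5 D142253)
def n221185 : Q := act 5 n195576
theorem D221185 : act 5 n195576 = n221185 := rfl
theorem F507633 : act 2 n221185 = n218247 := d2_1 D221185 F492946 (iv2 F430398)
theorem F507634 : act 3 n221185 = n195577 := d6_1 D221185 (iv5 D195577) D195576
theorem F507635 : act 6 n221185 = n201447 := d12_2 F398268 D221185 (iv5 D201447) (iv6 F400619) F400620
theorem F507636 : act 7 n221185 = n206140 := d13_2 (iv7 F397415) D221185 (iv5 D206140)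
theorem F507637 : act 0 n221185 = n203344 := d17_2 F397416 D221185 (iv5 D203344) F379362 F379361 F244968 F347820 (iv0 F340727) F354601
theorem F507638 : act 1 n221185 = n212796 := d17_6 D189823 (iv5 F414329) F414331 (iv5 F204811) (iv4 F397414) D221185 (iv5 D212796) (iv0 D149998) (iv4 F146949)
def n221186 : Q := act 6 n195577
theorem D221186 : act 6 n195577 = n221186 := rfl
theorem F507639 : act 2 n221186 = n212264 := d3_1 D221186 (iv6 D212264) (iv2 F397417)
theorem F507640 : act 3 n221186 = n201447 := d7_1 D221186 (iv6 F507635) F507634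
theorem F507641 : act 5 n221186 = n201446 := d12_1 D221186 (iv6 F421086) (iv5 D201596) F359582 D195577
theorem F507642 : act 0 n221186 = n218022 := d21_4 F322805 (iv1 F162419) D195577 D221186 F491745 (iv5 F398873) (iv1 F444722) (iv5 F465028) (iv6 D212263) (iv1 F322802)
theorem F507643 : act 0 n218021 = n221186 := d21_4 F374312 D189352 F421742 (iv6 F491738) (iv6 D221186) (iv5 D195577) F162418 D117350 D202951 F426352
def n221187 : Q := act 5 n195594
theorem D221187 : act 5 n195594 = n221187 := rfl
theorem F507644 : act 2 n221187 = n203367 := d2_1 D221187 F428058 (iv2 F397507)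
theorem F507645 : act 4 n221187 = n203323 := d9_1 D221187 (iv5 D203323) (iv4 D118728) (iv5 D54664) D54663 D118727 D203320 (iv5 F457747) (iv4 D210487) (iv5 D139161) F101040 F310034 (iv4 F77178) D105864 D195594
theorem F507646 : act 6 n221187 = n203329 := d12_2 F454145 D221187 F427907 F359428 (iv5 F454144)
theorem F507647 : act 7 n221187 = n203368 := d13_2 (iv7 F397508) D221187 F428063
theorem F507648 : act 0 n221187 = n203330 := d17_2 (iv1 F397510) D221187 F427911 F186825 F86496 (iv0 F42300) D34811 D76218 D159332
theorem F507649 : act 1 n221187 = n203316 := d17_6 F114953 (iv5 D60116) F77180 D105864 D195594 D221187 (iv5 D203316) (iv0 F252542) (iv4 D160044)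
def n221188 : Q := act 6 n195598
theorem D221188 : act 6 n195598 = n221188 := rfl
theorem F507650 : act 2 n221188 = n203621 := d3_1 D221188 (iv6 D203621) (iv2 F397531)
theorem F507651 : act 4 n221188 = n203413 := d10_1 D221188 F469051 F469046
theorem F507652 : act 0 n220423 = n221188 := d21_4 (iv5 D156095) (iv1 F226792) D211765 (iv6 F503707) (iv6 D221188) (iv5 D195598) F162635 D152330 (iv6 F463018) (iv1 F463016)
def n221189 : Q := act 0 n195618
theorem D221189 : act 0 n195618 = n221189 := rfl
theorem F507653 : act 5 n221189 = n206881 := d17_3 (iv1 D195620) (iv5 F397648) D221189 (iv4 F445093) F445094 F435302 (iv5 F439131) (iv0 F439135) F397650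
theorem F507654 : act 4 n221189 = n200677 := d18_3 F398003 F398002 D221189 F417439 F202225 (iv0 F435417) (iv4 F435418) F435997 F435995
theorem F507655 : act 2 n206886 = n221189 := d15_3 (iv0 D221189) (iv0 F446636) F446635
theorem F507656 : act 6 n221189 = n200676 := d3_2 (iv6 F442520) F507655 (iv2 F435477)
theorem F507657 : act 7 n221189 = n214480 := d4_2 F446635 F507655 F475370
def n221190 : Q := act 2 n195618
theorem D221190 : act 2 n195618 = n221190 := rfl
theorem F507658 : act 3 n221190 = n195621 := d0_2 D195618 D221190 (iv2 D195621) (iv3 D106099) (iv2 F163121)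
theorem F507659 : act 4 n221190 = n200845 := d1_2 F398002 D221190 F418128
theorem F507660 : act 5 n221190 = n195621 := d2_2 (iv5 F397648) D221190 (iv2 D195621)
theorem F507661 : act 1 n221190 = n214480 := d15_0 F475372 F397917 D221190
theorem F507662 : act 1 n206886 = n221190 := d15_0 F507661 (iv7 F507657) (iv2 F507655)
def n221191 : Q := act 6 n195619
theorem D221191 : act 6 n195619 = n221191 := rfl
theorem F507663 : act 2 n221191 = n207555 := d3_1 D221191 F445432 F397914
theorem F507664 : act 3 n221191 = n207903 := d7_1 D221191 F465481 (iv3 F465479)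
theorem F507665 : act 4 n221191 = n201682 := d10_1 D221191 (iv6 F421358) F419145
theorem F507666 : act 7 n221191 = n207901 := d14_2 (iv7 F397915) D221191 F451571 F451570 (iv6 F446624)
theorem F507667 : act 0 n221191 = n201129 := d21_4 D159569 D214483 F475384 D221191 F419192 (iv5 F442500) (iv1 D206883) (iv5 D129447) D129448 F365647
theorem F507668 : act 5 n201270 = n221191 := d17_1 (iv1 F419779) F507667 F419191 (iv4 D114907) D114908 F179000 (iv5 F179099) (iv0 D115015) D115017
theorem F507669 : act 1 n221191 = n201126 := d15_1 (iv0 F507667) F419182 (iv2 F419190)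
def n221192 : Q := act 5 n195622
theorem D221192 : act 5 n195622 = n221192 := rfl
theorem F507670 : act 2 n221192 = n212081 := d2_1 D221192 F464259 F441100
theorem F507671 : act 3 n221192 = n195625 := d6_1 D221192 (iv5 D195625) (iv3 F397653)
theorem F507672 : act 4 n221192 = n196910 := d9_1 D221192 (iv5 D196910) F165755 (iv5 F163729) (iv4 F206990) (iv5 F399247) (iv4 F445527) (iv5 F445529) (iv4 D196424) (iv5 D106966) F78151 D49419 D106970 F362918 (iv4 F397654)
theorem F507673 : act 7 n221192 = n212080 := d13_2 F442733 D221192 F464258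
def n221193 : Q := act 5 n195623
theorem D221193 : act 5 n195623 = n221193 := rfl
theorem F507674 : act 2 n221193 = n220296 := d2_1 D221193 F503079 F475483
theorem F507675 : act 3 n221193 = n207938 := d6_1 D221193 (iv5 D207938) F397658
theorem F507676 : act 7 n221193 = n220299 := d13_2 F443028 D221193 F503089
theorem F507677 : act 4 n221193 = n218878 := d16_2 (iv4 F397657) D221193 F496002 F397746 (iv5 F439593) F439592 F430427 F430426 F251495
def n221194 : Q := act 3 n195624
theorem D221194 : act 3 n195624 = n221194 := rfl
theorem F507678 : act 2 n221194 = n207876 := d0_1 D221194 F446840 F212762 (iv3 F443026) F443025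
theorem F507679 : act 4 n221194 = n208264 := d5_2 F430431 D221194 (iv3 F451926) F451927 (iv3 F430430)
theorem F507680 : act 6 n221194 = n207875 := d7_2 (iv6 F443024) D221194 F446835
theorem F507681 : act 0 n209135 = n221194 := d20_4 (iv4 F332591) F332589 (iv4 F336465) D209135 (iv3 D221194) (iv4 F430431) (iv1 D203925) D203926 F430433 F364215
def n221195 : Q := act 5 n195624
theorem D221195 : act 5 n195624 = n221195 := rfl
theorem F507682 : act 2 n221195 = n220299 := d2_1 D221195 F503089 F443025
theorem F507683 : act 7 n221195 = n220296 := d13_2 F475485 D221195 F503079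
theorem F507684 : act 4 n221195 = n218877 := d16_6 F397746 (iv5 F439593) F439592 F430427 F430431 D221195 F495997 (iv7 D193312) D193308
def n221196 : Q := act 0 n195625
theorem D221196 : act 0 n195625 = n221196 := rfl
theorem F507685 : act 4 n221196 = n219174 := d18_1 D221196 (iv1 D219174) D219176 F497577 (iv4 F445796) (iv0 F362725) (iv4 F397657) (iv0 D195623) D195625
theorem F507686 : act 2 n220302 = n221196 := d1_3 F507685 (iv2 F497566) D220302
theorem F507687 : act 7 n220304 = n221196 := d11_0 F507685 F497564 D220304
theorem F507688 : act 1 n211419 = n221196 := d17_8 (iv1 D219174) F381473 (iv1 F389442) (iv5 F495997) (iv4 F507684) (iv5 D221195) F478021 F478020 F507685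
def n221197 : Q := act 1 n195625
theorem D221197 : act 1 n195625 = n221197 := rfl
theorem F507689 : act 1 n221197 = n211419 := d15_1 D221197 F478017 F478014
theorem F507690 : act 7 n221197 = n220302 := d15_2 (iv0 D221196) D221197 F507686
theorem F507691 : act 4 n221197 = n219173 := d17_9 (iv1 F497561) (iv5 D193317) (iv1 F389443) (iv5 F496002) (iv4 F507677) (iv5 D221193) (iv0 D195623) D195625 D221197
theorem F507692 : act 2 n220304 = n221197 := d1_3 F507691 (iv2 F497563) D220304
def n221198 : Q := act 7 n195625
theorem D221198 : act 7 n195625 = n221198 := rfl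
theorem F507693 : act 2 n221198 = n211419 := d4_1 D221198 F478017 F478014
theorem F507694 : act 3 n221198 = n212080 := d8_1 D221198 (iv7 F507673) F507671
theorem F507695 : act 4 n221198 = n211418 := d11_1 D221198 (iv7 F498061) F498064
theorem F507696 : act 5 n221198 = n195626 := d13_1 D221198 (iv7 D195626) D195625
theorem F507697 : act 1 n220304 = n221198 := d15_1 (iv0 F503109) (iv7 D221198) (iv2 F478014)
theorem F507698 : act 1 n221198 = n220302 := d15_1 F507697 (iv7 F507690) (iv2 F507692)
def n221199 : Q := act 6 n195626
theorem D221199 : act 6 n195626 = n221199 := rfl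
theorem F507699 : act 4 n221199 = n195630 := d10_1 D221199 (iv6 D195630) (iv4 F397660)
theorem F507700 : act 7 n221199 = n195627 := d14_2 D195626 D221199 (iv6 D195627) (iv7 D106101) D106100
theorem F507701 : act 0 n221199 = n212260 := d21_4 F506761 (iv1 F507698) F507696 D221199 F465012 F446024 (iv1 F489789) (iv5 D217611) D217612 (iv1 F506762)
theorem F507702 : act 1 n221199 = n212259 := d15_1 (iv0 F507701) F465006 (iv2 F465009)
def n221200 : Q := act 0 n195627
theorem D221200 : act 0 n195627 = n221200 := rfl
theorem F507703 : act 4 n221200 = n197816 := d18_3 (iv1 D195632) (iv4 F397661) D221200 (iv5 D197816) (iv4 D108682) D108681 D197812 (iv0 F420131) F420126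
theorem F507704 : act 5 n221200 = n207051 := d19_1 D221200 F443123 F409213 (iv1 F170401) F172856 F324526 F323100 (iv1 F323119) (iv5 F324412) D109398 (iv3 F405911) (iv1 F405917) (iv5 F405918) (iv4 F435584) F435583 F361388 F201979 (iv4 F397919) F397918
theorem F507705 : act 2 n212259 = n221200 := d15_3 (iv0 D221200) (iv0 F418709) (iv7 F465006)
theorem F507706 : act 3 n221200 = n207052 := d0_2 (iv3 F465005) F507705 F443128 F438365 (iv2 F410526)
theorem F507707 : act 7 n221200 = n212260 := d4_2 (iv7 F465006) F507705 F465009
def n221201 : Q := act 5 n195627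
theorem D221201 : act 5 n195627 = n221201 := rfl
theorem F507708 : act 3 n221201 = n201158 := d6_1 D221201 F419291 F397918
theorem F507709 : act 4 n221201 = n197796 := d16_2 (iv4 F397661) D221201 (iv5 D197796) (iv4 D108669) D108670 F356735 (iv5 F418699) (iv7 D201006) F176962
theorem F507710 : act 1 n221201 = n199492 := d17_8 F402076 (iv5 D111337) (iv1 F170398) D198783 (iv4 F443123) (iv5 F507704) (iv0 D221200) D221201 (iv4 D199492)
def n221202 : Q := act 0 n195634
theorem D221202 : act 0 n195634 = n221202 := rfl
theorem F507711 : act 4 n221202 = n200753 := d18_1 D221202 (iv1 F506520) F506516 (iv5 F445765) F445764 (iv0 F445763) (iv4 F437451) (iv0 F446442) F446451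
theorem F507712 : act 3 n221202 = n205894 := d20_5 (iv4 F466909) (iv1 F466910) (iv4 F446448) (iv3 F446450) D221202 (iv4 D205894) F423601 (iv4 F442034) (iv3 F446616) (iv1 F466905)
theorem F507713 : act 1 n195637 = n221202 := d15_0 (iv0 D221202) (iv7 F397899) F397898
theorem F507714 : act 2 n210274 = n221202 := d0_5 F507712 F438313 F203966 (iv2 F221316) D210274
def n221203 : Q := act 1 n195634
theorem D221203 : act 1 n195634 = n221203 := rfl
theorem F507715 : act 1 n221203 = n195637 := d15_1 D221203 (iv7 F397902) F397901
theorem F507716 : act 7 n221203 = n210274 := d15_2 (iv0 D221202) D221203 F507714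
theorem F507717 : act 4 n221203 = n201114 := d18_7 (iv1 F418248) (iv4 F435166) F435170 (iv4 D197008) F361380 D195634 D221203 F506521 F506517
theorem F507718 : act 3 n206858 = n221203 := d20_3 F345906 F347224 (iv4 F442435) (iv1 D221203) F446450 F446448 F456631 (iv4 F466900) F466903 F438970
theorem F507719 : act 6 n221203 = n207757 := d7_2 F442437 F507718 F446274
def n221204 : Q := act 6 n195634
theorem D221204 : act 6 n195634 = n221204 := rfl
theorem F507720 : act 3 n221204 = n219518 := d7_1 D221204 F499256 (iv3 F446450)
theorem F507721 : act 4 n221204 = n195635 := d10_1 D221204 (iv6 D195635) D195634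
theorem F507722 : act 5 n221204 = n201713 := d12_1 D221204 (iv6 F441462) F441459 D207787 F446451
theorem F507723 : act 7 n221204 = n219516 := d14_2 F397899 D221204 (iv6 D219516) (iv7 F487274) (iv6 F487276)
theorem F507724 : act 0 n201141 = n221204 := d17_0 F507722 F421511 (iv5 F421634) F421635 (iv5 D195244) D195242 (iv5 F396437) (iv0 F347558) D201141
theorem F507725 : act 1 n196257 = n221204 := d17_6 D159464 F251103 (iv1 F178184) (iv5 F177629) (iv4 F179004) F400081 F507722 F421512 (iv4 D159466)
def n221205 : Q := act 4 n195636
theorem D221205 : act 4 n195636 = n221205 := rfl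
theorem F507726 : act 2 n221205 = n219534 := d1_1 D221205 F499309 (iv2 F397686)
theorem F507727 : act 6 n221205 = n219533 := d10_2 F397687 D221205 F499305
theorem F507728 : act 5 n221205 = n201828 := d16_1 D221205 (iv4 D201828) (iv5 F179202) (iv4 F259074) F377908 D218671 (iv5 F499346) (iv7 D219542) (iv2 F397686)
theorem F507729 : act 0 n221205 = n200773 := d18_2 (iv1 F439253) D221205 (iv4 D200773) (iv5 D113448) (iv4 F174309) D199958 (iv4 F414349) (iv0 F397850) D205523
theorem F507730 : act 1 n221205 = n200770 := d18_6 D52474 (iv4 F318879) D189830 (iv4 F402674) F402673 D221205 (iv4 D200770) F230612 F82759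
def n221206 : Q := act 6 n195637
theorem D221206 : act 6 n195637 = n221206 := rfl
theorem F507731 : act 2 n221206 = n217074 := d3_1 D221206 (iv6 F487276) F397898
theorem F507732 : act 3 n221206 = n207077 := d7_1 D221206 F465462 F464984
theorem F507733 : act 4 n221206 = n195638 := d10_1 D221206 (iv6 D195638) D195637
theorem F507734 : act 5 n221206 = n207076 := d12_1 D221206 F443213 (iv5 F441795) (iv6 F475499) F475495
theorem F507735 : act 7 n219515 = n221206 := d13_0 F507734 F506825 F506820
theorem F507736 : act 0 n207111 = n221206 := d19_0 F507734 F443212 F441810 (iv1 D130306) D130307 D207119 (iv3 F452286) (iv1 F452288) (iv5 D196214) (iv4 F365956) D196266 F445630 F445629 F262509 (iv3 D80060) (iv1 F122847) (iv5 F334294) (iv4 F208829) (iv3 F443377)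
theorem F507737 : act 1 n219514 = n221206 := d15_1 D219514 (iv7 F507735) (iv2 D219515)
theorem F507738 : act 2 n208956 = n219514 := d15_3 F507737 (iv0 F507736) F451550
theorem F507739 : act 5 n208953 = n219514 := d17_5 (iv1 F440869) F367789 D217056 F487163 (iv4 F451540) F507737 F507734 F506838 F506836
theorem F507740 : act 6 n219514 = n217618 := d12_2 D208953 F507739 F489802 F371462 (iv5 F217868)
def n221207 : Q := act 5 n195640
theorem D221207 : act 5 n195640 = n221207 := rfl
theorem F507741 : act 7 n221207 = n205696 := d13_2 (iv7 F397698) D221207 (iv5 D205696)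
theorem F507742 : act 4 n221207 = n215506 := d16_2 D195640 D221207 F480256 F408796 (iv5 F403032) F403031 F214663 F361693 F361694
theorem F507743 : act 0 n221207 = n217354 := d17_2 F397700 D221207 (iv5 F490057) F490056 F420863 F179439 F179303 F99352 D135855
def n221208 : Q := act 4 n195646
theorem D221208 : act 4 n195646 = n221208 := rfl
theorem F507744 : act 3 n221208 = n217810 := d5_1 D221208 F490743 F371984 (iv4 F371064) (iv3 F397715)
theorem F507745 : act 6 n221208 = n214564 := d10_2 (iv6 F397716) D221208 (iv4 D214564)
theorem F507746 : act 0 n221208 = n207660 := d18_2 F506619 D221208 F445892 F419278 F418807 F417005 (iv4 F444508) (iv0 F444511) D220980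
def n221209 : Q := act 4 n195647
theorem D221209 : act 4 n195647 = n221209 := rfl
theorem F507747 : act 2 n221209 = n215020 := d1_1 D221209 (iv4 D215020) (iv2 F397717)
theorem F507748 : act 3 n221209 = n214899 := d5_1 D221209 F477334 F379934 (iv4 F226682) (iv3 F397718)
theorem F507749 : act 5 n221209 = n207614 := d9_2 D195647 D221209 F445681 (iv5 D195027) D195026 F395480 (iv4 D114234) D114235 (iv4 F402817) F445684 F445683 (iv5 D195031) D195030 F395490 F380211
theorem F507750 : act 6 n221209 = n201235 := d10_2 (iv6 F397719) D221209 (iv4 D201235)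
theorem F507751 : act 7 n221209 = n196265 := d11_2 F399612 D221209 F400108
theorem F507752 : act 0 n221209 = n206652 := d17_0 F441745 (iv1 D197840) F399410 F399407 (iv5 F397782) (iv0 D195664) D195665 F397787 D221209
theorem F507753 : act 1 n221209 = n217502 := d18_6 (iv1 F338508) (iv4 F147991) D190584 F380211 D195647 D221209 F489194 (iv0 F448320) (iv5 D151644)
def n221210 : Q := act 4 n195649
theorem D221210 : act 4 n195649 = n221210 := rfl
theorem F507754 : act 2 n221210 = n206209 := d1_1 D221210 (iv4 D206209) (iv2 F397724)
theorem F507755 : act 6 n221210 = n201786 := d10_2 F398559 D221210 (iv4 F460301)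
def n221211 : Q := act 5 n195654
theorem D221211 : act 5 n195654 = n221211 := rfl
theorem F507756 : act 2 n221211 = n215009 := d2_1 D221211 F477870 F397739
theorem F507757 : act 3 n221211 = n199961 := d6_1 D221211 F493327 F493323
theorem F507758 : act 4 n221211 = n203916 := d9_1 D221211 F430382 (iv4 F397657) D221193 F507677 F496002 F397746 (iv5 F439593) F439592 F430427 F430431 D221195 F507684 F495997 (iv4 F397738)
theorem F507759 : act 6 n221211 = n201231 := d12_2 (iv6 F447833) D221211 F419552 F497261 F497260
theorem F507760 : act 7 n221211 = n214473 := d13_2 F397740 D221211 F475340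
theorem F507761 : act 0 n221211 = n212758 := d17_2 D195654 D221211 F467382 (iv4 F440567) D211411 F461458 (iv5 D193727) (iv0 F390770) F390767
theorem F507762 : act 1 n221211 = n206056 := d17_6 F440563 F389266 D218877 F495997 (iv4 F397738) D221211 (iv5 D206056) (iv0 F392747) (iv4 F440561)
def n221212 : Q := act 4 n195658
theorem D221212 : act 4 n195658 = n221212 := rfl
theorem F507763 : act 3 n221212 = n205561 := d5_1 D221212 (iv4 D205561) (iv3 F436992) F436994 (iv3 F398348)
theorem F507764 : act 6 n221212 = n220951 := d10_2 F448129 D221212 F506448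
theorem F507765 : act 7 n221212 = n217612 := d11_2 (iv7 F397770) D221212 F489790
theorem F507766 : act 5 n221212 = n211414 := d16_1 D221212 (iv4 D211414) (iv5 D141962) (iv4 F220701) D210093 F456124 F397767 (iv7 F398470) F398468
def n221213 : Q := act 0 n195660
theorem D221213 : act 0 n195660 = n221213 := rfl
theorem F507767 : act 4 n221213 = n217702 := d18_3 (iv1 D195659) D195660 D221213 F490206 F427979 (iv0 F390448) F378395 (iv0 F373868) F397767
theorem F507768 : act 3 n221213 = n212408 := d20_5 (iv4 D130504) F175214 (iv4 F414970) F414969 D221213 F465682 F422156 (iv4 F442014) F442013 F217849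
theorem F507769 : act 1 n195662 = n221213 := d15_0 (iv0 D221213) (iv7 F478010) F478007
theorem F507770 : act 6 n206678 = n221213 := d7_0 F507768 (iv6 D212408) (iv3 F441848)
theorem F507771 : act 7 n221213 = n217617 := d14_2 F490028 F507770 (iv6 D217617) (iv7 F466952) F490033
def n221214 : Q := act 1 n195660
theorem D221214 : act 1 n195660 = n221214 := rfl
theorem F507772 : act 1 n221214 = n195662 := d15_1 D221214 (iv7 F478006) F478005
theorem F507773 : act 4 n221214 = n212666 := d18_7 (iv1 D149662) (iv4 F147489) (iv1 F314181) F314183 D106142 D195660 D221214 (iv0 F467542) (iv5 D212793)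
theorem F507774 : act 5 n221214 = n218871 := d18_9 F495977 F461464 (iv1 D211413) D211414 (iv5 F507766) (iv4 D221212) (iv0 D195658) D195660 D221214
theorem F507775 : act 3 n218872 = n221214 := d6_3 F507774 (iv3 D218871) D218872
theorem F507776 : act 6 n212665 = n221214 := d21_5 (iv5 F421889) (iv1 F445890) (iv5 D207659) (iv6 F371110) (iv1 F466958) F507774 F495977 (iv5 D207638) (iv6 D132174) D132170
theorem F507777 : act 2 n221214 = n217617 := d3_1 F507776 (iv6 D217617) (iv2 F466955)
def n221215 : Q := act 3 n195662
theorem D221215 : act 3 n195662 = n221215 := rfl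
theorem F507778 : act 2 n221215 = n206752 := d0_1 D221215 F442057 (iv2 F409754) (iv3 F478008) F478007
theorem F507779 : act 6 n221215 = n206750 := d7_2 (iv6 F466991) D221215 F466990
def n221216 : Q := act 5 n195663
theorem D221216 : act 5 n195663 = n221216 := rfl
theorem F507780 : act 2 n221216 = n207275 := d2_1 D221216 (iv5 D207275) (iv2 F397778)
theorem F507781 : act 3 n221216 = n218480 := d6_1 D221216 F494094 (iv3 F465600)
theorem F507782 : act 4 n221216 = n219085 := d9_1 D221216 F497108 F400050 D206643 F442043 (iv5 D206748) (iv4 F399939) (iv5 F449731) (iv4 F497100) F497099 (iv4 F400061) D206644 (iv4 F453270) (iv5 F466985) F466986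
theorem F507783 : act 6 n221216 = n195665 := d12_2 D195663 D221216 (iv5 D195665) (iv6 D106148) D106147
theorem F507784 : act 7 n221216 = n214489 := d13_2 F397781 D221216 (iv5 D214489)
theorem F507785 : act 1 n221216 = n196144 := d17_6 (iv1 F445774) F445772 (iv1 F453269) (iv5 F466985) F466986 D221216 (iv5 F418659) (iv0 F418661) (iv4 F442832)
def n221217 : Q := act 4 n195667
theorem D221217 : act 4 n195667 = n221217 := rfl
theorem F507786 : act 2 n221217 = n213092 := d1_1 D221217 (iv4 D213092) F397795
theorem F507787 : act 5 n221217 = n209140 := d9_2 (iv5 F397794) D221217 (iv4 F478309) (iv5 D215093) (iv4 D166400) D166401 F340162 (iv5 F239691) (iv4 F465710) F465711 (iv4 F477805) (iv5 D214997) F258691 D164144 F339582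
theorem F507788 : act 7 n221217 = n217632 := d11_2 F397797 D221217 F489866
theorem F507789 : act 0 n221217 = n201528 := d17_0 (iv5 F506367) F506369 (iv5 D209056) (iv4 F359185) F176797 (iv0 F359178) D195860 F398504 D221217
theorem F507790 : act 1 n221217 = n213028 := d18_6 (iv1 D115227) (iv4 F179438) F340153 F339582 (iv5 F397794) D221217 (iv4 D213028) F420864 F420863
def n221218 : Q := act 0 n195668
theorem D221218 : act 0 n195668 = n221218 := rfl
theorem F507791 : act 5 n221218 = n217428 := d17_3 (iv1 F506248) F506249 D221218 F488837 F369788 (iv0 F369709) F394851 (iv0 F395279) (iv4 F452444)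
theorem F507792 : act 4 n221218 = n201870 := d18_1 D221218 F422147 (iv4 F499198) (iv5 F506223) (iv4 D220910) (iv0 D194883) D194885 D220916 F506249
theorem F507793 : act 7 n217675 = n221218 := d11_0 F507792 F422146 (iv4 F490056)
theorem F507794 : act 3 n221218 = n217429 := d8_1 F507793 F488844 (iv3 F490055)
def n221219 : Q := act 3 n195668
theorem D221219 : act 3 n195668 = n221219 := rfl
theorem F507795 : act 4 n221219 = n195671 := d5_2 D195668 D221219 (iv3 D195671) (iv4 D106170) (iv3 F163162)
theorem F507796 : act 6 n221219 = n208955 := d7_2 (iv6 F437392) D221219 (iv3 F451544)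
theorem F507797 : act 0 n206083 = n221219 := d18_2 (iv1 D206082) D206083 F507795 (iv5 F419194) (iv4 F419197) F418323 F418321 (iv0 F439344) F439345
def n221220 : Q := act 6 n195669
theorem D221220 : act 6 n195669 = n221220 := rfl
theorem F507798 : act 2 n221220 = n218600 := d3_1 D221220 (iv6 F494695) (iv2 F398347)
theorem F507799 : act 3 n221220 = n195670 := d7_1 D221220 (iv6 D195670) D195669
theorem F507800 : act 4 n221220 = n207468 := d10_1 D221220 (iv6 F484180) F484181
theorem F507801 : act 5 n221220 = n200935 := d12_1 D221220 F418432 (iv5 D114318) D114319 (iv5 F397799)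
theorem F507802 : act 7 n221220 = n206127 := d14_2 F398350 D221220 (iv6 D206127) F204775 (iv6 F398352)
theorem F507803 : act 0 n221220 = n218594 := d21_4 D195778 F398140 (iv5 F397799) D221220 F494663 F426321 (iv1 F420065) F420063 (iv6 F417343) (iv1 F398026)
theorem F507804 : act 0 n218601 = n221220 := d21_4 F358365 F335126 (iv5 F418630) (iv6 F494700) (iv6 D221220) F397799 F356668 (iv5 F366676) (iv6 F382141) F382143
def n221221 : Q := act 0 n195691
theorem D221221 : act 0 n195691 = n221221 := rfl
theorem F507805 : act 5 n221221 = n205683 := d17_1 D221221 F475498 F475495 (iv4 D195637) (iv5 F395220) F176442 (iv5 F397870) (iv0 D195690) D195691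
theorem F507806 : act 4 n221221 = n200879 := d18_3 F383737 D195691 D221221 (iv5 D200879) D200878 (iv0 F418260) (iv4 D197008) (iv0 D107528) D107531
theorem F507807 : act 3 n221221 = n205960 := d20_5 (iv4 F462193) (iv1 F462195) (iv4 F442837) F442836 D221221 (iv4 D205960) (iv1 F220095) (iv4 F347269) (iv3 F418830) F437643
theorem F507808 : act 6 n221221 = n205685 := d21_5 F489802 F371463 D206980 (iv6 F442830) D221221 (iv5 D205685) (iv1 F365589) D207945 F447100 D217618
theorem F507809 : act 2 n208952 = n221221 := d3_3 F507808 F437454 (iv6 F451536)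
theorem F507810 : act 0 n221221 = n195700 := d19_4 (iv1 F179897) D126836 D205960 (iv3 F507807) (iv5 F418129) (iv4 D200846) (iv3 D113551) (iv1 D52405) (iv5 F82642) (iv4 F176421) (iv3 F416971) (iv1 F455495) (iv5 D209949) (iv4 D137152) F177029 (iv1 F177027) F177028 D64567 (iv3 F179896)
def n221222 : Q := act 1 n195691
theorem D221222 : act 1 n195691 = n221222 := rfl
theorem F507811 : act 1 n221222 = n195700 := d15_1 D221222 F466976 F466973
theorem F507812 : act 7 n221222 = n208952 := d15_2 (iv0 D221221) D221222 F507809
theorem F507813 : act 4 n221222 = n205571 := d18_7 (iv1 F435301) F395684 F202213 (iv4 D106209) D106210 D195691 D221222 (iv0 F445095) F445094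
theorem F507814 : act 3 n206857 = n221222 := d20_3 F347280 (iv1 F219055) (iv4 F442427) (iv1 D221222) (iv3 F442836) F442837 F450468 (iv4 D207829) F212481 D132419
theorem F507815 : act 5 n221222 = n206856 := d6_2 D206857 F507814 (iv3 D206856)
theorem F507816 : act 6 n221222 = n205570 := d7_2 (iv6 F442428) F507814 F437029
def n221223 : Q := act 5 n195691
theorem D221223 : act 5 n195691 = n221223 := rfl
theorem F507817 : act 2 n221223 = n220965 := d2_1 D221223 F506537 F466973
theorem F507818 : act 4 n221223 = n220964 := d9_1 D221223 F506530 F414984 (iv5 D195698) (iv4 D106214) D106215 D195700 (iv5 F418129) (iv4 D200846) (iv5 F366365) F202325 F355902 (iv4 D106209) D106210 D195691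
theorem F507819 : act 6 n221223 = n205671 := d12_2 (iv6 F442830) D221223 F442834 (iv6 D206981) D206980
def n221224 : Q := act 7 n195691
theorem D221224 : act 7 n195691 = n221224 := rfl
theorem F507820 : act 2 n221224 = n195700 := d4_1 D221224 F466976 F466973
theorem F507821 : act 3 n221224 = n208693 := d8_1 D221224 F450473 F442836
theorem F507822 : act 4 n221224 = n195692 := d11_1 D221224 (iv7 D195692) D195691
theorem F507823 : act 0 n208952 = n221224 := d18_2 (iv1 F435290) (iv4 F451537) F507822 F397872 (iv4 F397866) (iv0 F397867) (iv4 F207163) (iv0 F362949) D205172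
def n221225 : Q := act 6 n195692
theorem D221225 : act 6 n195692 = n221225 := rfl
theorem F507824 : act 2 n221225 = n195701 := d3_1 D221225 (iv6 D195701) (iv2 F397871)
theorem F507825 : act 3 n221225 = n214099 := d7_1 D221225 F473463 F416738
theorem F507826 : act 5 n221225 = n196235 := d12_1 D221225 (iv6 D196235) (iv5 F381037) (iv6 F381043) (iv5 F397872)
theorem F507827 : act 7 n221225 = n218569 := d14_2 D195692 D221225 F494526 F487105 F383729
theorem F507828 : act 0 n221225 = n207687 := d21_4 (iv5 F77469) (iv1 F381041) (iv5 F397872) D221225 (iv6 F487164) F487163 (iv1 F487135) F487132 (iv6 D195638) (iv1 D106107)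
theorem F507829 : act 1 n221225 = n200996 := d15_1 (iv0 F507828) F418667 (iv2 F446010)
def n221226 : Q := act 4 n195696
theorem D221226 : act 4 n195696 = n221226 := rfl
theorem F507830 : act 3 n221226 = n205715 := d5_1 D221226 (iv4 F466981) F466980 (iv4 D195700) (iv3 F397882)
theorem F507831 : act 6 n221226 = n195938 := d10_2 (iv6 F397887) D221226 (iv4 D195938)
theorem F507832 : act 5 n221226 = n221210 := d16_1 D221226 (iv4 D221210) (iv5 D195649) F321185 D189828 (iv4 F416659) (iv5 F418498) F418499 F399504
theorem F507833 : act 0 n221226 = n200949 := d18_2 F397888 D221226 (iv4 D200949) (iv5 D113657) (iv4 F173636) F377914 (iv4 F402674) (iv0 F412426) F395560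
theorem F507834 : act 1 n221226 = n200947 := d18_6 D105227 F204916 (iv1 F377899) F377901 D195696 D221226 (iv4 D200947) (iv0 F176846) F94258
def n221227 : Q := act 1 n195697
theorem D221227 : act 1 n195697 = n221227 := rfl
theorem F507835 : act 1 n221227 = n215115 := d15_1 D221227 F478432 F476458
theorem F507836 : act 7 n221227 = n205529 := d15_2 (iv0 F445397) D221227 (iv2 F445393)
theorem F507837 : act 5 n221227 = n207473 := d17_7 (iv1 F395351) F376733 (iv1 F176046) (iv5 F376745) D190465 F397884 D221227 F445386 F445383
theorem F507838 : act 3 n203683 = n221227 := d19_19 (iv1 D221227) (iv5 F397884) (iv4 D190465) D190464 F379828 D207222 F443878 (iv3 F377567) (iv1 D94364) (iv5 F293691) (iv4 F193355) (iv3 D121263) F88522 (iv5 F91668) (iv4 F91669) (iv3 F198729) F429405 (iv5 D203684) D203683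
theorem F507839 : act 4 n200779 = n221227 := d20_0 (iv1 D221227) (iv4 F397885) D215117 (iv1 F495064) F495060 (iv4 F478526) F478956 (iv4 D215224) (iv3 F478363) (iv1 F478364)
theorem F507840 : act 2 n221227 = n215105 := d1_1 F507839 F478372 F474492
def n221228 : Q := act 6 n195700
theorem D221228 : act 6 n195700 = n221228 := rfl
theorem F507841 : act 3 n221228 = n205714 := d7_1 D221228 F466984 F466980
theorem F507842 : act 4 n221228 = n195701 := d10_1 D221228 (iv6 D195701) D195700
theorem F507843 : act 0 n207775 = n221228 := d18_2 D133389 (iv4 F446380) F507842 (iv5 F399100) (iv4 F399929) (iv0 F399933) (iv4 F399076) (iv0 F370128) F211428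
theorem F507844 : act 1 n207674 = n221228 := d18_6 (iv1 F399227) F399223 (iv1 F164445) F364642 (iv5 F358297) (iv4 F445961) F507842 F442491 F442490
def n221229 : Q := act 3 n195702
theorem D221229 : act 3 n195702 = n221229 := rfl
theorem F507845 : act 2 n221229 = n195710 := d0_1 D221229 F397916 F176957 (iv3 F163227) (iv2 F397892)
theorem F507846 : act 4 n221229 = n205386 := d5_2 D195702 D221229 F436191 F202379 (iv3 F163221)
theorem F507847 : act 7 n221229 = n221190 := d8_2 (iv7 F397893) D221229 F507658
theorem F507848 : act 0 n221229 = n207833 := d19_4 F381040 D106219 D195702 D221229 (iv5 D207833) F212487 (iv3 D128790) (iv1 F165243) F328812 F204592 (iv3 F174009) (iv1 F174014) (iv5 F376076) F376075 F347144 (iv1 F362990) (iv5 D113181) D113180 (iv3 F381042)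
theorem F507849 : act 5 n195702 = n221229 := d17_1 (iv1 F397895) F507848 (iv5 D207833) F212487 (iv5 F342904) D195078 D220959 F506500 F419145
theorem F507850 : act 1 n221229 = n221189 := d15_1 (iv0 F507848) F507657 F475370
theorem F507851 : act 6 n221229 = n206111 := d21_3 F475384 (iv1 F397895) F507849 F499311 (iv6 D219534) (iv5 F451574) (iv1 D208960) D208961 F451576 D214483
def n221230 : Q := act 6 n195702
theorem D221230 : act 6 n195702 = n221230 := rfl
theorem F507852 : act 2 n221230 = n195711 := d3_1 D221230 (iv6 D195711) (iv2 F397892)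
theorem F507853 : act 3 n221230 = n206111 := d7_1 D221230 (iv6 F507851) (iv3 D221229)
theorem F507854 : act 4 n221230 = n195703 := d10_1 D221230 (iv6 D195703) D195702
theorem F507855 : act 0 n221230 = n207058 := d21_4 (iv5 F507653) (iv1 F507850) (iv5 F507849) D221230 (iv6 D207058) (iv5 F442020) (iv1 F467014) F467012 (iv6 F442005) (iv1 F442498)
theorem F507856 : act 5 n221230 = n214423 := d21_6 (iv5 D201717) (iv1 F419779) F507668 (iv6 D221191) (iv1 F397895) D221230 F475113 (iv5 F362931) (iv6 F398428) (iv1 F421533)
theorem F507857 : act 0 n212331 = n221230 := d21_4 F489764 F371084 D216837 (iv6 F486142) (iv6 D221230) F507849 F507848 (iv5 D207833) (iv6 F446034) F489763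
def n221231 : Q := act 0 n195703
theorem D221231 : act 0 n195703 = n221231 := rfl
theorem F507858 : act 6 n221231 = n219390 := d21_5 F397872 F381040 D106219 D195703 D221231 (iv5 D219390) F395233 (iv5 F417065) (iv6 D200584) (iv1 F397874)
theorem F507859 : act 2 n195712 = n221231 := d15_3 (iv0 D221231) (iv0 F499057) F499056
theorem F507860 : act 1 n195714 = n221231 := d15_0 (iv0 D221231) (iv7 F436325) F436323
theorem F507861 : act 7 n221231 = n195713 := d15_2 F499058 F507860 (iv2 F499054)
def n221232 : Q := act 0 n195704
theorem D221232 : act 0 n195704 = n221232 := rfl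
theorem F507862 : act 4 n221232 = n206074 := d18_3 D106220 D195704 D221232 F439131 (iv4 F206986) (iv0 F343540) (iv4 D106209) (iv0 D49080) D49083
theorem F507863 : act 2 n221203 = n221232 := d15_3 (iv0 D221232) (iv0 F487283) (iv7 F507716)
theorem F507864 : act 1 n195706 = n221232 := d15_0 (iv0 D221232) F397899 (iv2 F397901)
theorem F507865 : act 7 n221232 = n221202 := d15_2 F487284 F507864 (iv2 F507714)
theorem F507866 : act 6 n221232 = n206485 := d3_2 (iv6 F507719) F507863 (iv2 F446270)
def n221233 : Q := act 4 n195705
theorem D221233 : act 4 n195705 = n221233 := rfl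
theorem F507867 : act 5 n221233 = n201762 := d9_2 F417047 D221233 F421718 (iv5 F366043) F225134 (iv5 F408278) (iv4 F417077) F417080 (iv4 F499309) F499310 F421721 F205550 (iv4 F366048) (iv5 F408294) (iv4 F417049)
theorem F507868 : act 6 n221233 = n207575 := d10_2 F397908 D221233 (iv4 D207575)
theorem F507869 : act 7 n221233 = n221205 := d11_2 (iv7 F397900) D221233 (iv4 D221205)
theorem F507870 : act 0 n221233 = n206111 := d18_2 (iv1 F417146) D221233 (iv4 D206111) F204921 (iv4 F169881) (iv0 F377900) F377901 (iv0 F377902) (iv5 F417145)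
theorem F507871 : act 1 n221233 = n206109 := d18_6 D105284 (iv4 F377912) (iv1 F408292) (iv4 F417049) F417047 D221233 (iv4 D206109) (iv0 D127386) F94247
def n221234 : Q := act 3 n195706
theorem D221234 : act 3 n195706 = n221234 := rfl
theorem F507872 : act 2 n221234 = n212253 := d0_1 D221234 (iv3 F464986) (iv2 F446447) (iv3 F446450) (iv2 F397901)
theorem F507873 : act 5 n221234 = n205772 := d6_2 F451532 D221234 F451530
theorem F507874 : act 7 n221234 = n212252 := d8_2 (iv7 F397902) D221234 F464984
theorem F507875 : act 0 n221234 = n212254 := d19_4 (iv1 F176441) F361400 D195706 D221234 F464988 F418374 F183414 D146180 (iv5 F405842) (iv4 D197804) F168612 D109155 F326095 F115511 (iv3 F63591) F324414 F80361 (iv4 F104367) (iv3 F165901)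
theorem F507876 : act 0 n201009 = n221234 := d20_4 (iv4 D69711) (iv1 F82919) D113735 D201009 (iv3 D221234) (iv4 D195706) (iv1 D106221) D106222 F163227 (iv1 F163128)
def n221235 : Q := act 6 n195706
theorem D221235 : act 6 n195706 = n221235 := rfl
theorem F507877 : act 2 n221235 = n221204 := d3_1 D221235 (iv6 D221204) (iv2 F397901)
theorem F507878 : act 4 n221235 = n195707 := d10_1 D221235 (iv6 D195707) D195706
theorem F507879 : act 5 n221235 = n201390 := d12_1 D221235 (iv6 F453248) (iv5 D209327) (iv6 F451533) F451532
theorem F507880 : act 0 n201733 = n221235 := d17_0 F507879 F420300 (iv5 F419216) F419217 (iv5 D114962) D114960 D201682 F421357 (iv4 F421613)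
theorem F507881 : act 1 n201730 = n221235 := d17_6 (iv1 F178036) (iv5 D114241) D114239 F178032 (iv4 F179136) D201730 F507879 F420301 (iv4 D114949)
def n221236 : Q := act 1 n195711
theorem D221236 : act 1 n195711 = n221236 := rfl
theorem F507882 : act 7 n221236 = n207058 := d15_2 (iv0 F465546) D221236 (iv2 F465544)
theorem F507883 : act 5 n221236 = n206926 := d17_7 F474966 (iv5 F504608) F504611 F418778 D201158 F419291 D221236 F474972 F474969
theorem F507884 : act 4 n221236 = n206561 := d17_9 F441339 (iv5 D205406) (iv1 F202413) D205420 (iv4 F442625) F442626 (iv0 F419292) F419291 D221236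
theorem F507885 : act 3 n205640 = n221236 := d19_19 (iv1 D221236) (iv5 F419291) (iv4 D201158) D201157 F446562 F413213 F371419 F218834 D136010 D209243 F452862 F400297 (iv1 F216244) (iv5 D134207) (iv4 D63046) (iv3 F97562) D133325 (iv5 F217896) (iv4 F437304)
theorem F507886 : act 6 n205638 = n221236 := d21_3 F446029 (iv1 F466950) F466947 (iv1 D221236) (iv6 D195711) D195710 (iv1 F475372) (iv5 D214480) D214481 F475376
theorem F507887 : act 2 n221236 = n212331 := d3_1 F507886 F486142 F486136
def n221237 : Q := act 7 n195711
theorem D221237 : act 7 n195711 = n221237 := rfl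
theorem F507888 : act 3 n221237 = n221199 := d8_1 D221237 F507700 (iv3 F397918)
theorem F507889 : act 4 n221237 = n195714 := d11_1 D221237 (iv7 D195714) (iv4 F397919)
theorem F507890 : act 5 n221237 = n214421 := d13_1 D221237 F475101 F419291
theorem F507891 : act 6 n221237 = n206954 := d14_1 D221237 F442733 (iv6 D195622) (iv7 F163228) D195711
theorem F507892 : act 1 n212331 = n221237 := d15_1 (iv0 F507857) (iv7 D221237) (iv2 F507852)
theorem F507893 : act 1 n221237 = n207058 := d15_1 F507892 (iv7 F507882) F507887
def n221238 : Q := act 4 n195712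
theorem D221238 : act 4 n195712 = n221238 := rfl
theorem F507894 : act 3 n221238 = n210200 := d5_1 D221238 (iv4 D210200) (iv3 F383835) (iv4 F383838) (iv3 F418044)
def n221239 : Q := act 4 n195713
theorem D221239 : act 4 n195713 = n221239 := rfl
theorem F507895 : act 6 n221239 = n217620 := d10_2 F419214 D221239 F489816
def n221240 : Q := act 0 n195715
theorem D221240 : act 0 n195715 = n221240 := rfl
theorem F507896 : act 5 n221240 = n200744 := d17_3 D106225 D195715 D221240 F417743 D220980 (iv0 F506620) (iv5 D195644) (iv0 D106125) (iv4 F77471)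
theorem F507897 : act 4 n221240 = n205323 := d18_1 D221240 (iv1 F506549) (iv4 D220967) (iv5 D195103) F374585 F163317 F163315 F163235 D195715
theorem F507898 : act 6 n221240 = n207616 := d21_5 (iv5 F436008) (iv1 F436011) (iv5 F436079) F436080 D221240 F445686 (iv1 F399413) (iv5 F399418) (iv6 F416888) (iv1 F416889)
theorem F507899 : act 2 n205563 = n221240 := d15_3 (iv0 D221240) (iv0 F436061) (iv7 F437006)
theorem F507900 : act 1 n195717 = n221240 := d15_0 (iv0 D221240) F397923 (iv2 F397927)
theorem F507901 : act 7 n221240 = n205320 := d15_2 F436062 F507900 (iv2 F436059)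
theorem F507902 : act 3 n205366 = n221240 := d19_19 (iv1 F507900) (iv5 D195717) F383821 F335957 F335943 D146426 F335934 F366501 (iv1 F419992) F419989 (iv4 F342076) (iv3 D175939) (iv1 D83958) D83959 D175943 F323363 (iv1 F280421) D204880 (iv4 F436094)
def n221241 : Q := act 4 n195715
theorem D221241 : act 4 n195715 = n221241 := rfl
theorem F507903 : act 2 n221241 = n205564 := d1_1 D221241 (iv4 D205564) (iv2 F397922)
theorem F507904 : act 3 n221241 = n205354 := d5_1 D221241 F436046 D205471 (iv4 F436597) (iv3 F435976)
theorem F507905 : act 6 n221241 = n207511 := d10_2 F436080 D221241 (iv4 F445217)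
theorem F507906 : act 7 n221241 = n205567 := d11_2 (iv7 F397923) D221241 (iv4 D205567)
theorem F507907 : act 0 n221241 = n205299 := d17_0 F435849 (iv1 D195713) (iv5 F201979) F398108 D125924 (iv0 F417744) (iv5 F507896) (iv0 D221240) D221241
theorem F507908 : act 1 n221241 = n205305 := d18_6 (iv1 D52405) (iv4 F76655) D105368 (iv4 F383825) D195715 D221241 F435871 F418122 (iv5 D113553)
def n221242 : Q := act 5 n195716
theorem D221242 : act 5 n195716 = n221242 := rfl
theorem F507909 : act 2 n221242 = n195749 := d2_1 D221242 (iv5 D195749) F397926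
theorem F507910 : act 3 n221242 = n195717 := d6_1 D221242 (iv5 D195717) D195716
theorem F507911 : act 7 n221242 = n195755 := d13_2 (iv7 F397925) D221242 (iv5 D195755)
def n221243 : Q := act 4 n195717
theorem D221243 : act 4 n195717 = n221243 := rfl
theorem F507912 : act 2 n221243 = n205567 := d1_1 D221243 (iv4 D205567) (iv2 F397927)
theorem F507913 : act 6 n221243 = n205300 := d10_2 F409770 D221243 F435850
theorem F507914 : act 7 n221243 = n205564 := d11_2 (iv7 F397928) D221243 (iv4 D205564)
theorem F507915 : act 0 n221243 = n205305 := d17_0 (iv5 F435872) F436327 (iv5 D205419) (iv4 D125928) D125929 F436297 F436296 F436062 D221243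
theorem F507916 : act 1 n221243 = n205299 := d18_6 (iv1 F161222) F161218 (iv1 F161585) (iv4 F383821) D195717 D221243 F435848 (iv0 F365770) (iv5 D113548)
theorem F507917 : act 3 n221243 = n205357 := d19_3 (iv1 F163231) D195717 D221243 F436061 (iv5 D195715) F383825 (iv3 F394417) (iv1 F394421) (iv5 F375181) F412222 (iv3 F471666) (iv1 F471670) (iv5 D198798) F170516 (iv3 D59289) D59287 D126378 F360455 F203034
def n221244 : Q := act 5 n195718
theorem D221244 : act 5 n195718 = n221244 := rfl
theorem F507918 : act 2 n221244 = n205221 := d2_1 D221244 F435491 (iv2 F397929)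
theorem F507919 : act 3 n221244 = n220315 := d6_1 D221244 (iv5 D220315) (iv3 F397933)
theorem F507920 : act 4 n221244 = n200880 := d9_1 D221244 F418269 F377779 (iv5 D187291) F137955 D93941 D189392 D218502 F494194 F482711 F299705 F369464 F369462 (iv5 F394402) (iv4 F397930)
theorem F507921 : act 6 n221244 = n200878 := d12_2 D195718 D221244 F418261 F409770 (iv5 D195717)
theorem F507922 : act 7 n221244 = n206637 := d13_2 F492807 D221244 (iv5 F492805)
theorem F507923 : act 0 n221244 = n200702 := d17_2 F397931 D221244 (iv5 D200702) F176549 (iv5 F138557) (iv0 F283793) (iv5 F374531) F374529 (iv4 F341623)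
theorem F507924 : act 1 n221244 = n200699 := d17_6 D52538 (iv5 F251942) F251940 (iv5 F394402) (iv4 F397930) D221244 (iv5 D200699) (iv0 D113351) F82697
def n221245 : Q := act 5 n195723
theorem D221245 : act 5 n195723 = n221245 := rfl
theorem F507925 : act 6 n221245 = n219308 := d12_2 F397953 D221245 (iv5 D219308) (iv6 D191133) D191132
theorem F507926 : act 0 n221245 = n221242 := d17_2 D195723 D221245 (iv5 D221242) F397924 (iv5 F163265) F78482 D52625 (iv0 F83135) D106233
theorem F507927 : act 1 n221245 = n205371 := d17_6 F371496 F177094 F163115 (iv5 F177031) (iv4 F397951) D221245 F436119 F417325 F417322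
def n221246 : Q := act 5 n195724
theorem D221246 : act 5 n195724 = n221246 := rfl
theorem F507928 : act 0 n221246 = n205371 := d17_2 (iv1 F397954) D221246 F436119 (iv4 D195736) (iv5 F163271) (iv0 F77960) D49679 F163250 D106237
theorem F507929 : act 1 n221246 = n221242 := d17_6 F371415 F177121 (iv1 F227632) F227634 (iv4 F397955) D221246 (iv5 D221242) (iv0 F490119) (iv4 D217687)
def n221247 : Q := act 6 n195728
theorem D221247 : act 6 n195728 = n221247 := rfl
theorem F507930 : act 2 n221247 = n200991 := d3_1 D221247 (iv6 D200991) F397966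
theorem F507931 : act 3 n221247 = n201002 := d7_1 D221247 (iv6 D201002) (iv3 F397967)
theorem F507932 : act 4 n221247 = n200888 := d10_1 D221247 (iv6 F418290) (iv4 F397965)
theorem F507933 : act 7 n221247 = n212288 := d14_2 F444485 D221247 (iv6 D212288) F426315 (iv6 F444484)
theorem F507934 : act 5 n221247 = n207197 := d21_6 (iv5 D23954) D23951 D49093 D106234 D195728 D221247 (iv1 F443756) (iv5 D195758) (iv6 D106247) (iv1 D49100)
theorem F507935 : act 0 n221247 = n218738 := d21_10 (iv5 D218738) F418569 (iv5 D200972) (iv6 F399965) (iv1 F477406) F477403 F333485 (iv1 F441264) F441261 D221247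
theorem F507936 : act 0 n195827 = n221247 := d21_4 F77516 D49137 D106318 D195827 (iv6 D221247) (iv5 F441261) F441263 F333485 F349024 (iv1 D106255)
def n221248 : Q := act 5 n195733
theorem D221248 : act 5 n195733 = n221248 := rfl
theorem F507937 : act 2 n221248 = n195769 := d2_1 D221248 (iv5 F484162) F484160
theorem F507938 : act 3 n221248 = n220997 := d6_1 D221248 F506718 F436300
theorem F507939 : act 4 n221248 = n195789 := d9_1 D221248 F398183 (iv4 F209517) F335788 D185748 F439351 F439347 (iv5 F437091) F437089 F398195 (iv4 D187495) (iv5 D90274) (iv4 F138850) (iv5 F163263) (iv4 F397980)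
theorem F507940 : act 6 n221248 = n195767 := d12_2 D195733 D221248 F398090 (iv6 F398106) F398105
theorem F507941 : act 7 n221248 = n220942 := d13_2 F490132 D221248 F506401
theorem F507942 : act 0 n221248 = n207588 := d17_2 F397981 D221248 (iv5 D207588) F354358 (iv5 D88471) F290219 D90274 F335790 D188795
theorem F507943 : act 1 n221248 = n218212 := d17_6 (iv1 D217605) (iv5 D187639) (iv1 F290207) (iv5 F163263) (iv4 F397980) D221248 (iv5 D218212) F445575 (iv4 F489757)
def n221249 : Q := act 5 n195738
theorem D221249 : act 5 n195738 = n221249 := rfl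
theorem F507944 : act 2 n221249 = n195764 := d2_1 D221249 (iv5 D195764) F398001
theorem F507945 : act 3 n221249 = n205319 := d6_1 D221249 (iv5 F484252) F484250
theorem F507946 : act 4 n221249 = n221242 := d9_1 D221249 (iv5 D221242) F397924 (iv5 F163265) D107537 (iv5 F165917) D113832 D201059 (iv4 F436118) F436119 (iv4 D195736) (iv5 F163271) (iv4 F164471) D196156 F399648
theorem F507947 : act 6 n221249 = n199734 := d12_2 (iv6 F484246) D221249 (iv5 D199734) (iv6 F377863) (iv5 F484244)
theorem F507948 : act 7 n221249 = n195761 := d13_2 (iv7 F398000) D221249 (iv5 D195761)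
theorem F507949 : act 0 n221249 = n201170 := d17_2 (iv1 F397999) D221249 (iv5 D201170) (iv4 D114022) (iv5 D52625) (iv0 F77961) F163271 F163269 (iv4 F163287)
theorem F507950 : act 1 n221249 = n197016 := d17_6 F371425 F371422 (iv1 F164474) D196156 F399648 D221249 (iv5 D197016) (iv0 F397976) (iv4 D195730)
def n221250 : Q := act 0 n195749
theorem D221250 : act 0 n195749 = n221250 := rfl
theorem F507951 : act 5 n221250 = n210096 := d17_1 D221250 F456141 F435347 (iv4 F436202) F436203 (iv0 D200983) D200984 F418625 F398076
theorem F507952 : act 4 n221250 = n221245 := d18_1 D221250 F507926 (iv4 F507946) (iv5 D221249) (iv4 F399648) F399647 (iv4 F398032) (iv0 D195746) D195749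
theorem F507953 : act 6 n221250 = n206013 := d21_5 (iv5 D205593) F203223 D197900 (iv6 F406139) D221250 (iv5 D206013) F333069 D206494 F441077 (iv1 F437144)
theorem F507954 : act 1 n195755 = n221250 := d15_0 (iv0 D221250) (iv7 F436120) F436116
theorem F507955 : act 3 n210097 = n221250 := d7_3 F507953 F438835 (iv6 F456144)
theorem F507956 : act 2 n221246 = n221250 := d2_3 F507951 F456137 D221246
theorem F507957 : act 7 n221245 = n221250 := d13_0 F507951 F456140 D221245
def n221251 : Q := act 1 n195749
theorem D221251 : act 1 n195749 = n221251 := rfl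
theorem F507958 : act 1 n221251 = n195755 := d15_1 D221251 (iv7 F507911) F507909
theorem F507959 : act 7 n221251 = n221246 := d15_2 (iv0 D221250) D221251 F507956
theorem F507960 : act 5 n221251 = n217707 := d17_7 F163249 F82902 D59803 (iv5 F115177) D106244 D195749 D221251 F490233 (iv4 D195721)
theorem F507961 : act 4 n221251 = n221246 := d18_7 F417324 F417322 F371496 F177096 D195764 F398076 D221251 F507929 (iv5 D221242)
theorem F507962 : act 2 n221245 = n221251 := d1_3 F507961 F507956 F507952
def n221252 : Q := act 7 n195753
theorem D221252 : act 7 n195753 = n221252 := rfl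
theorem F507963 : act 3 n221252 = n212914 := d8_1 D221252 (iv7 D212914) (iv3 F398048)
theorem F507964 : act 4 n221252 = n208674 := d11_1 D221252 (iv7 F502821) F502822
theorem F507965 : act 5 n221252 = n195754 := d13_1 D221252 (iv7 D195754) D195753
theorem F507966 : act 6 n221252 = n208673 := d14_1 D221252 F450410 (iv6 D206216) (iv7 F205582) (iv6 F398049)
theorem F507967 : act 1 n214464 = n221252 := d15_1 (iv0 F475289) (iv7 D221252) (iv2 F439767)
theorem F507968 : act 1 n221252 = n200935 := d15_1 F507967 (iv7 F493184) F493180
def n221253 : Q := act 7 n195758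
theorem D221253 : act 7 n195758 = n221253 := rfl
theorem F507969 : act 2 n221253 = n196162 := d4_1 D221253 (iv7 D196162) (iv2 F398057)
theorem F507970 : act 3 n221253 = n208976 := d8_1 D221253 F451654 (iv3 F398058)
theorem F507971 : act 4 n221253 = n214327 := d11_1 D221253 (iv7 F480992) F480990
theorem F507972 : act 5 n221253 = n195759 := d13_1 D221253 (iv7 D195759) D195758
theorem F507973 : act 6 n221253 = n196169 := d14_1 D221253 (iv7 D196169) (iv6 D106719) (iv7 F164454) (iv6 F398059)
theorem F507974 : act 1 n196143 = n221253 := d15_1 (iv0 F399600) (iv7 D221253) F398057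
theorem F507975 : act 1 n221253 = n196161 := d15_1 F507974 (iv7 F443754) F443753
def n221254 : Q := act 5 n195760
theorem D221254 : act 5 n195760 = n221254 := rfl
theorem F507976 : act 2 n221254 = n205323 := d2_1 D221254 F441337 F441334
theorem F507977 : act 3 n221254 = n195761 := d6_1 D221254 (iv5 D195761) D195760
theorem F507978 : act 6 n221254 = n205352 := d12_2 F441332 D221254 F436040 (iv6 F405936) (iv5 F441331)
theorem F507979 : act 7 n221254 = n205319 := d13_2 F484255 D221254 (iv5 F484252)
theorem F507980 : act 4 n221254 = n205563 := d17_4 (iv1 F202415) D205424 (iv1 F436353) D221254 F437004 (iv0 F435354) (iv5 D205191) F201983 (iv4 F202405)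
theorem F507981 : act 1 n221254 = n200844 := d17_8 F365770 (iv5 D131891) D131889 F395515 (iv4 F395516) D205422 (iv0 F436343) D221254 (iv4 D200844)
theorem F507982 : act 0 n221254 = n200847 := d21_1 D221254 F436285 F447903 (iv1 D207494) D207497 F445145 (iv1 F211945) (iv5 F399283) (iv6 F436350) (iv1 F436353)
def n221255 : Q := act 0 n195761
theorem D221255 : act 0 n195761 = n221255 := rfl
theorem F507983 : act 5 n221255 = n196189 := d17_1 D221255 F399795 D201049 (iv4 F436291) F436292 (iv0 F490232) (iv5 F507960) F507958 (iv4 F398067)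
theorem F507984 : act 4 n221255 = n200984 := d18_1 D221255 F418624 F398067 (iv5 D195755) (iv4 D106246) F163245 D195719 F397938 D195761
theorem F507985 : act 2 n197016 = n221255 := d15_3 (iv0 D221255) (iv0 F418624) F418623
theorem F507986 : act 1 n195764 = n221255 := d15_0 (iv0 D221255) (iv7 F507948) F507944
theorem F507987 : act 7 n221255 = n201170 := d15_2 F418625 F507986 F419318
theorem F507988 : act 3 n205341 = n221255 := d19_19 (iv1 F507986) (iv5 D195764) (iv4 F177096) (iv3 D113820) (iv1 D52562) (iv5 D25517) F20056 F9154 F24779 D15132 D32071 D68961 (iv1 F343354) D84164 D176525 (iv3 F356083) (iv1 F405914) (iv5 F435303) (iv4 F435988)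
def n221256 : Q := act 6 n195773
theorem D221256 : act 6 n195773 = n221256 := rfl
theorem F507989 : act 2 n221256 = n205273 := d3_1 D221256 (iv6 F435706) (iv2 F398111)
theorem F507990 : act 3 n221256 = n198748 := d7_1 D221256 F409061 (iv3 F398112)
theorem F507991 : act 4 n221256 = n205188 := d10_1 D221256 F435336 (iv4 F398113)
theorem F507992 : act 5 n221256 = n198747 := d12_1 D221256 F409056 F398129 (iv6 D195776) (iv5 F398114)
theorem F507993 : act 7 n221256 = n205416 := d14_2 D195773 D221256 (iv6 F436309) F436303 (iv6 D195772)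
theorem F507994 : act 0 n221256 = n214905 := d21_4 (iv5 D201059) F177125 (iv5 F398114) D221256 F477368 (iv5 F477366) F477365 D219302 F498210 F419320
theorem F507995 : act 0 n205152 = n221256 := d21_4 F360426 (iv1 D125531) D125533 D205152 (iv6 D221256) F398114 (iv1 F397999) D221249 F507947 F413299
def n221257 : Q := act 5 n195780
theorem D221257 : act 5 n195780 = n221257 := rfl
theorem F507996 : act 2 n221257 = n205555 := d2_1 D221257 (iv5 D205555) F398146
theorem F507997 : act 3 n221257 = n212605 := d6_1 D221257 F466657 F456343
theorem F507998 : act 4 n221257 = n203739 := d9_1 D221257 F429621 (iv4 F361988) (iv5 D113291) F82670 D52302 D113309 D200645 F429626 (iv5 F429627) (iv4 F439391) (iv5 F439392) (iv4 F338353) (iv5 F203038) (iv4 F398145)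
theorem F507999 : act 6 n221257 = n218980 := d12_2 F499407 D221257 (iv5 D218980) (iv6 F384234) D219551
theorem F508000 : act 7 n221257 = n213584 := d13_2 F417296 D221257 F471150
theorem F508001 : act 0 n221257 = n218599 := d17_2 D195780 D221257 F494690 F426313 F417886 (iv0 F478129) F478130 F419151 F398128
theorem F508002 : act 1 n221257 = n213508 := d17_6 (iv1 F231077) (iv5 D113298) (iv1 F161111) (iv5 F203038) (iv4 F398145) D221257 F470753 (iv0 D202945) F183741
def n221258 : Q := act 3 n195787
theorem D221258 : act 3 n195787 = n221258 := rfl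
theorem F508003 : act 2 n221258 = n206027 := d0_1 D221258 F438899 F360469 (iv3 F360396) (iv2 F398171)
theorem F508004 : act 4 n221258 = n207951 := d5_2 D195787 D221258 F447116 F437966 (iv3 D195786)
theorem F508005 : act 5 n221258 = n205368 := d6_2 (iv5 F398172) D221258 (iv3 D205368)
theorem F508006 : act 6 n221258 = n207571 := d7_2 F436028 D221258 F445498
theorem F508007 : act 7 n221258 = n205550 := d8_2 (iv7 F398173) D221258 (iv3 D205550)
theorem F508008 : act 0 n221258 = n205846 := d20_4 F202379 (iv1 F163299) D195787 D221258 F438120 (iv4 D135968) D135966 F418013 F418016 (iv1 F398083)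
theorem F508009 : act 0 n206026 = n221258 := d20_4 F177122 (iv1 F371497) (iv4 F417322) (iv3 F438895) (iv3 D221258) (iv4 D195787) (iv1 D106260) (iv4 F163283) (iv3 D106250) D106248
def n221259 : Q := act 4 n195800
theorem D221259 : act 4 n195800 = n221259 := rfl
theorem F508010 : act 2 n221259 = n221016 := d1_1 D221259 F506818 (iv2 F398237)
theorem F508011 : act 6 n221259 = n221013 := d10_2 F494930 D221259 F506800
theorem F508012 : act 7 n221259 = n221208 := d11_2 (iv7 F398238) D221259 (iv4 D221208)
def n221260 : Q := act 4 n195802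
theorem D221260 : act 4 n195802 = n221260 := rfl
theorem F508013 : act 2 n221260 = n212356 := d1_1 D221260 (iv4 F465458) (iv2 F398247)
theorem F508014 : act 3 n221260 = n200846 := d5_1 D221260 (iv4 D200846) (iv3 D113551) (iv4 F360472) D195802
theorem F508015 : act 6 n221260 = n218206 := d10_2 F398249 D221260 (iv4 D218206)
theorem F508016 : act 7 n221260 = n212355 := d11_2 F415799 D221260 F465454
theorem F508017 : act 5 n221260 = n212671 := d17_5 (iv1 D135558) D135559 D209000 F451778 D221260 F466983 F233567 D159655 F367914
theorem F508018 : act 0 n221260 = n200911 := d18_2 F398251 D221260 F418374 F183415 (iv4 F325485) D192695 (iv4 F451192) (iv0 F451190) F428444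
theorem F508019 : act 0 n209064 = n221260 := d20_10 (iv4 D221260) F398250 (iv4 F418348) (iv3 F475454) (iv1 D214495) (iv3 D159581) (iv4 D76347) (iv1 F104868) D146429 (iv3 F452063)
theorem F508020 : act 0 n200909 = n207948 := d21_4 (iv5 F508017) F508018 (iv5 F464988) (iv6 F464989) (iv6 D207948) (iv5 D132684) (iv1 F168006) D126512 F362859 (iv1 F466983)
theorem F508021 : act 1 n212334 = n207948 := d15_0 (iv0 F508020) F418366 D212334
def n221261 : Q := act 4 n195803
theorem D221261 : act 4 n195803 = n221261 := rfl
theorem F508022 : act 2 n221261 = n221208 := d1_1 D221261 (iv4 D221208) (iv2 F398252)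
theorem F508023 : act 6 n221261 = n214558 := d10_2 (iv6 F398254) D221261 F475781
theorem F508024 : act 7 n221261 = n221016 := d11_2 (iv7 F398253) D221261 F506818
theorem F508025 : act 3 n221020 = n221261 := d8_3 F508024 F506817 D221020
def n221262 : Q := act 4 n195808
theorem D221262 : act 4 n195808 = n221262 := rfl
theorem F508026 : act 2 n221262 = n201402 := d1_1 D221262 (iv4 D201402) (iv2 F398269)
theorem F508027 : act 3 n221262 = n208657 := d5_1 D221262 F457521 (iv3 F457518) (iv4 D201409) (iv3 F398270)
theorem F508028 : act 6 n221262 = n216579 := d10_2 (iv6 F398271) D221262 F485039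
theorem F508029 : act 7 n221262 = n201421 := d11_2 (iv7 F398272) D221262 (iv4 D201421)
theorem F508030 : act 5 n221262 = n218387 := d17_5 (iv1 F163368) (iv5 D106295) F163347 D195808 D221262 (iv0 F493635) (iv5 D218007) F372972 (iv4 D187802)
theorem F508031 : act 0 n221262 = n195834 := d17_0 F398385 (iv1 D182199) (iv5 F145048) (iv4 F371548) F371549 F139447 (iv5 F178879) (iv0 F398273) D221262
theorem F508032 : act 1 n221262 = n195836 := d18_6 (iv1 F77249) (iv4 F162624) F162626 (iv4 F163345) D195808 D221262 (iv4 D195836) F163400 (iv5 D52767)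
def n221263 : Q := act 0 n195815
theorem D221263 : act 0 n195815 = n221263 := rfl
theorem F508033 : act 5 n221263 = n201402 := d17_3 F370590 D195815 D221263 (iv4 D201402) (iv5 D114432) (iv0 F162626) (iv5 F370578) (iv0 D187496) D187498
theorem F508034 : act 4 n221263 = n213569 := d18_1 D221263 F491662 F491661 F470217 F370588 F371551 F371548 F370592 D195815
theorem F508035 : act 6 n221263 = n213568 := d21_5 F394060 (iv1 F432423) (iv5 F372985) (iv6 F398300) D221263 F471082 F458165 F410315 F241525 D153675
theorem F508036 : act 1 n213265 = n221263 := d15_0 (iv0 D221263) (iv7 F485064) F485061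
theorem F508037 : act 2 n218387 = n221263 := d3_3 F508035 F471081 D218387
theorem F508038 : act 7 n213569 = n221263 := d14_0 F508035 F471083 F432280 F432279 D213569
def n221264 : Q := act 1 n195815
theorem D221264 : act 1 n195815 = n221264 := rfl
theorem F508039 : act 1 n221264 = n213265 := d15_1 D221264 (iv7 F491660) F491658
theorem F508040 : act 7 n221264 = n218387 := d15_2 (iv0 D221263) D221264 F508037
theorem F508041 : act 5 n221264 = n201421 := d17_7 (iv1 F205579) (iv5 D106258) (iv1 F77523) D49130 D106302 D195815 D221264 (iv0 F439746) (iv4 D206215)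
theorem F508042 : act 4 n221264 = n218387 := d17_9 F493634 (iv5 D216583) (iv1 F371543) (iv5 F371544) F283644 (iv5 F145048) F370592 D195815 D221264
theorem F508043 : act 6 n204376 = n221264 := d21_3 F242415 (iv1 F198164) D204376 (iv1 D221264) F398300 F372985 (iv1 F432417) F432418 (iv6 F432304) (iv1 F432292)
theorem F508044 : act 2 n221264 = n213569 := d3_1 F508043 (iv6 D213569) (iv2 F432281)
theorem F508045 : act 3 n221264 = n204432 := d7_1 F508043 (iv6 D204432) (iv3 F432282)
def n221265 : Q := act 4 n195815
theorem D221265 : act 4 n195815 = n221265 := rfl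
theorem F508046 : act 2 n221265 = n213397 := d1_1 D221265 (iv4 F491661) F491658
theorem F508047 : act 5 n221265 = n201544 := d9_2 D195815 D221265 (iv4 D201544) (iv5 D114802) (iv4 F94483) D127796 (iv4 F377041) (iv5 F469628) (iv4 F483603) F483604 (iv4 D195814) (iv5 D106295) F77579 D49130 D106302
theorem F508048 : act 6 n221265 = n213306 := d10_2 (iv6 F398300) D221265 F469830
theorem F508049 : act 7 n221265 = n218088 := d11_2 F485064 D221265 F492101
theorem F508050 : act 0 n221265 = n213389 := d17_0 F470192 (iv1 F439771) (iv5 F483838) F483839 (iv5 F439745) F439747 (iv5 F508033) (iv0 D221263) D221265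
theorem F508051 : act 1 n221265 = n206221 := d18_6 F420904 (iv4 D159846) F114677 D106302 D195815 D221265 (iv4 F470191) (iv0 F508050) F508047
def n221266 : Q := act 1 n195827
theorem D221266 : act 1 n195827 = n221266 := rfl
theorem F508052 : act 1 n221266 = n218738 := d15_1 D221266 F495411 F451648
theorem F508053 : act 7 n221266 = n200991 := d15_2 (iv0 F507936) D221266 (iv2 F507930)
theorem F508054 : act 5 n221266 = n195989 := d17_7 F496623 F496621 F415958 F394347 F379955 (iv5 F398359) D221266 F443757 (iv4 F480990)
theorem F508055 : act 4 n221266 = n200887 := d17_9 F496949 F496944 (iv1 F418287) (iv5 F399989) F439322 (iv5 F495377) (iv0 F495379) (iv5 F398359) D221266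
theorem F508056 : act 3 n195857 = n221266 := d20_3 (iv4 F398784) (iv1 F399491) F399488 (iv1 D221266) F398357 (iv4 D186681) (iv1 F157824) (iv4 F391870) F391869 (iv1 F227672)
theorem F508057 : act 6 n202945 = n221266 := d21_3 D200645 (iv1 F470754) F470753 (iv1 D221266) (iv6 D195827) (iv5 D106318) (iv1 F163387) (iv5 F398025) F417343 (iv1 D200644)
theorem F508058 : act 2 n221266 = n212288 := d3_1 F508057 (iv6 D212288) F426319
def n221267 : Q := act 3 n195838
theorem D221267 : act 3 n195838 = n221267 := rfl
theorem F508059 : act 2 n221267 = n219996 := d0_1 D221267 (iv3 D219996) F490408 (iv3 F490411) (iv2 F439774)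
theorem F508060 : act 4 n221267 = n213100 := d5_2 (iv4 F398401) D221267 (iv3 D213100) F239718 (iv3 F371537)
theorem F508061 : act 5 n221267 = n216759 := d6_2 (iv5 F398402) D221267 (iv3 D216759)
theorem F508062 : act 7 n221267 = n217231 := d8_2 F420925 D221267 F488039
theorem F508063 : act 0 n221267 = n217748 := d20_4 (iv4 D201421) (iv1 F371539) (iv4 F398401) D221267 (iv3 D217748) (iv4 F372325) (iv1 F375282) D218293 F493146 F439746
theorem F508064 : act 0 n210537 = n221267 := d17_0 F508061 F485817 (iv5 F490653) F490652 F489991 (iv0 F390936) D193788 F457973 (iv4 F457970)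
def n221268 : Q := act 6 n195838
theorem D221268 : act 6 n195838 = n221268 := rfl
theorem F508065 : act 2 n221268 = n209505 := d3_1 D221268 F469769 (iv2 F439774)
theorem F508066 : act 4 n221268 = n217711 := d10_1 D221268 (iv6 D217711) (iv4 F398401)
theorem F508067 : act 7 n221268 = n209504 := d14_2 F420925 D221268 (iv6 F453951) (iv7 F398840) F420928
theorem F508068 : act 0 n221268 = n209501 := d21_4 F356705 D185445 (iv5 F398402) D221268 (iv6 F459900) (iv5 D211049) (iv1 F459887) (iv5 F467551) F467552 F398298
theorem F508069 : act 0 n209506 = n221268 := d21_4 D218084 F492092 F485662 (iv6 F483949) (iv6 D221268) F398402 (iv1 F356713) (iv5 F356701) (iv6 F356700) (iv1 F373585)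
def n221269 : Q := act 0 n195839
theorem D221269 : act 0 n195839 = n221269 := rfl
theorem F508070 : act 4 n221269 = n212401 := d18_3 F420562 (iv4 F398403) D221269 F490732 (iv4 D187973) (iv0 F365814) (iv4 F388571) (iv0 D193038) D193041
theorem F508071 : act 1 n212345 = n221269 := d15_0 (iv0 D221269) F467025 F467022
theorem F508072 : act 2 n217925 = n221269 := d1_3 F508070 F475085 (iv4 F491291)
theorem F508073 : act 6 n208799 = n221269 := d10_0 F508070 (iv6 F465671) (iv4 F450931)
def n221270 : Q := act 1 n195839
theorem D221270 : act 1 n195839 = n221270 := rfl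
theorem F508074 : act 7 n221270 = n217925 := d15_2 (iv0 D221269) D221270 F508072
theorem F508075 : act 4 n221270 = n212400 := d18_7 (iv1 F465674) F421838 (iv1 F387669) (iv4 F251170) F251171 (iv4 F398403) D221270 (iv0 D212400) D212402
theorem F508076 : act 5 n221270 = n217954 := d18_9 F491403 F483416 F490659 (iv4 F491419) (iv5 F491421) (iv4 F426186) (iv0 D195876) (iv4 F398403) D221270
theorem F508077 : act 3 n217928 = n221270 := d20_3 F486961 (iv1 F486956) (iv4 F491305) (iv1 D221270) (iv3 D195839) (iv4 D106331) D106329 D195834 F398384 F465501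
theorem F508078 : act 0 n212345 = n221270 := d17_0 F508076 F491403 F483417 F475809 F388573 (iv0 D193038) D193041 (iv0 F475305) (iv4 F475306)
def n221271 : Q := act 2 n195839
theorem D221271 : act 2 n195839 = n221271 := rfl
theorem F508079 : act 3 n221271 = n217750 := d0_2 D195839 D221271 (iv2 F490449) (iv3 D206220) F205588
theorem F508080 : act 4 n221271 = n195878 := d1_2 (iv4 F398403) D221271 (iv2 D195878)
theorem F508081 : act 6 n221271 = n207908 := d3_2 (iv6 F501312) D221271 (iv2 F501306)
theorem F508082 : act 7 n221271 = n212345 := d4_2 (iv7 F467025) D221271 (iv2 F467022)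
theorem F508083 : act 1 n217925 = n221271 := d15_1 (iv0 F491292) F508082 (iv2 F467022)
def n221272 : Q := act 5 n195839
theorem D221272 : act 5 n195839 = n221272 := rfl
theorem F508084 : act 3 n221272 = n195840 := d6_1 D221272 (iv5 D195840) D195839
theorem F508085 : act 4 n221272 = n216000 := d9_1 D221272 (iv5 D216000) (iv4 F371868) D192752 (iv4 F387665) D214467 (iv4 F475306) (iv5 F485800) F485799 (iv5 F290038) (iv4 F365258) F365259 (iv4 F251170) F251171 (iv4 F398403)
theorem F508086 : act 0 n218394 = n221272 := d19_0 (iv5 D221272) F398403 (iv3 D106392) (iv1 F83789) F83788 (iv4 D53086) (iv3 F83785) F138894 F68294 (iv4 F65155) (iv3 F138866) (iv1 F139434) D187801 (iv4 F398401) D221267 F508063 (iv5 F493675) (iv4 D218396) (iv3 F493665)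
def n221273 : Q := act 6 n195846
theorem D221273 : act 6 n195846 = n221273 := rfl
theorem F508087 : act 2 n221273 = n195850 := d3_1 D221273 (iv6 D195850) (iv2 F398436)
theorem F508088 : act 3 n221273 = n212451 := d7_1 D221273 (iv6 F465847) F415476
theorem F508089 : act 4 n221273 = n195847 := d10_1 D221273 (iv6 D195847) D195846
theorem F508090 : act 5 n221273 = n207145 := d12_1 D221273 (iv6 F473596) (iv5 F488425) F488423 F487652
theorem F508091 : act 7 n221273 = n215561 := d14_2 (iv7 F398437) D221273 F480508 (iv7 F457965) F457968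
theorem F508092 : act 0 n221273 = n201210 := d21_10 (iv5 F457347) (iv1 F457351) (iv5 F416247) (iv6 D193813) F347708 D187455 (iv5 F370411) (iv1 F487650) F487652 D221273
theorem F508093 : act 0 n211298 = n221273 := d21_4 D114268 D201293 (iv5 F460255) (iv6 F461020) (iv6 D221273) (iv5 F487652) (iv1 D217145) F419890 (iv6 D201292) (iv1 D114267)
def n221274 : Q := act 1 n195850
theorem D221274 : act 1 n195850 = n221274 := rfl
theorem F508094 : act 1 n221274 = n215561 := d15_1 D221274 (iv7 F508091) F508087
theorem F508095 : act 7 n221274 = n201210 := d15_2 (iv0 F457083) D221274 (iv2 F457079)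
theorem F508096 : act 5 n221274 = n200391 := d17_7 D113064 (iv5 F396283) (iv1 F396287) (iv5 F396280) D208061 F447695 D221274 (iv0 D200391) (iv4 D113067)
theorem F508097 : act 4 n221274 = n218414 := d17_9 F506743 F506740 F402800 F376374 (iv4 F396188) (iv5 F396191) (iv0 F447694) F447695 D221274
theorem F508098 : act 3 n215954 = n221274 := d20_3 F354234 F440183 (iv4 F482252) (iv1 D221274) (iv3 F421493) F421494 F364734 D201878 F422181 F354233
theorem F508099 : act 6 n220863 = n221274 := d21_3 D201276 F503414 (iv5 F505957) (iv1 D221274) (iv6 D195850) D195849 (iv1 F398451) (iv5 F467494) F467491 (iv1 D201275)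
theorem F508100 : act 2 n221274 = n211298 := d3_1 F508099 F461020 (iv2 F505955)
def n221275 : Q := act 7 n195850
theorem D221275 : act 7 n195850 = n221275 := rfl
theorem F508101 : act 2 n221275 = n215561 := d4_1 D221275 (iv7 F508091) F508087
theorem F508102 : act 3 n221275 = n214102 := d8_1 D221275 F473481 F421493
theorem F508103 : act 4 n221275 = n195853 := d11_1 D221275 (iv7 D195853) (iv4 F398452)
theorem F508104 : act 5 n221275 = n207146 := d13_1 D221275 (iv7 F447693) F447695
theorem F508105 : act 6 n221275 = n211286 := d14_1 D221275 F460964 (iv6 F392171) F163502 D195850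
theorem F508106 : act 1 n211298 = n221275 := d15_1 (iv0 F508093) (iv7 D221275) (iv2 F508087)
theorem F508107 : act 1 n221275 = n201210 := d15_1 F508106 (iv7 F508095) F508100
def n221276 : Q := act 4 n195854
theorem D221276 : act 4 n195854 = n221276 := rfl
theorem F508108 : act 2 n221276 = n221212 := d1_1 D221276 (iv4 D221212) (iv2 F398468)
theorem F508109 : act 7 n221276 = n217705 := d11_2 (iv7 F398470) D221276 F490220
theorem F508110 : act 1 n221276 = n221005 := d18_6 F376341 (iv4 F439592) F439595 F439034 (iv5 F398469) D221276 (iv4 D221005) (iv0 F466962) F466961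
def n221277 : Q := act 2 n195856
theorem D221277 : act 2 n195856 = n221277 := rfl
theorem F508111 : act 3 n221277 = n205560 := d0_2 D195856 D221277 (iv2 F436995) (iv3 D195671) (iv2 F163484)
theorem F508112 : act 4 n221277 = n206803 := d1_2 F469195 D221277 (iv2 F469194)
theorem F508113 : act 6 n221277 = n206802 := d3_2 (iv6 F441396) D221277 F442248
theorem F508114 : act 7 n221277 = n219039 := d4_2 (iv7 F398478) D221277 F496831
theorem F508115 : act 1 n221277 = n205552 := d15_0 (iv0 F436966) (iv7 F398478) D221277
theorem F508116 : act 1 n207561 = n221277 := d15_0 F508115 (iv7 F469254) F469251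
def n221278 : Q := act 4 n195860
theorem D221278 : act 4 n195860 = n221278 := rfl
theorem F508117 : act 2 n221278 = n195862 := d1_1 D221278 (iv4 D195862) (iv2 F398498)
theorem F508118 : act 3 n221278 = n206753 := d5_1 D221278 F442058 (iv3 F478155) F478156 (iv3 F398499)
theorem F508119 : act 5 n221278 = n220915 := d9_2 D195860 D221278 F506246 (iv5 D215910) (iv4 D178336) (iv5 F334714) (iv4 D106158) D106159 D195668 (iv5 F506249) F506250 (iv5 D198455) (iv4 F171175) (iv5 F398495) (iv4 D195859)
theorem F508120 : act 6 n221278 = n206751 := d10_2 F398502 D221278 F442056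
theorem F508121 : act 7 n221278 = n213073 := d11_2 (iv7 F398500) D221278 (iv4 D213073)
theorem F508122 : act 0 n221278 = n212408 := d18_2 (iv1 F398504) D221278 F465682 (iv5 D201872) D201871 (iv0 F506346) F506345 F448158 (iv5 F397794)
theorem F508123 : act 1 n221278 = n221218 := d18_6 F258997 (iv4 F239275) F398497 (iv4 D195859) D195860 D221278 F507792 F422148 (iv5 D201509)
def n221279 : Q := act 1 n195862
theorem D221279 : act 1 n195862 = n221279 := rfl
theorem F508124 : act 1 n221279 = n213073 := d15_1 D221279 (iv7 F508121) F508117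
theorem F508125 : act 7 n221279 = n212408 := d15_2 (iv0 F490058) D221279 (iv2 F490054)
theorem F508126 : act 4 n221279 = n201527 := d17_9 (iv1 D201527) (iv5 D114777) (iv1 F259172) F329785 D135657 (iv5 F395286) D220939 F506383 D221279
theorem F508127 : act 3 n217617 = n221279 := d19_19 (iv1 D221279) (iv5 F506383) F506382 F480234 (iv1 F409387) (iv5 D198818) F170554 F80240 F39510 F39508 (iv4 F49703) D67659 (iv1 F341087) (iv5 F223188) (iv4 F341044) (iv3 F421041) F475802 F475799 (iv4 F489799)
theorem F508128 : act 6 n217615 = n221279 := d21_9 (iv5 F506383) (iv1 D220939) F395286 F329784 (iv1 F176785) D200898 F418327 D207783 (iv5 F489796) (iv1 D221279)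
theorem F508129 : act 2 n221279 = n221218 := d0_1 F508127 F507794 (iv2 F495979) F507775 F507777
def n221280 : Q := act 3 n195862
theorem D221280 : act 3 n195862 = n221280 := rfl
theorem F508130 : act 4 n221280 = n195866 := d5_2 D195862 D221280 (iv3 D195866) (iv4 D106383) (iv3 F163443)
theorem F508131 : act 7 n221280 = n221219 := d8_2 (iv7 F398510) D221280 (iv3 D221219)
theorem F508132 : act 0 n221280 = n200837 := d20_4 (iv4 D213092) F362024 D195862 D221280 (iv3 F446239) F446234 F217865 F217847 (iv3 F442013) (iv1 F468975)
theorem F508133 : act 3 n219503 = n213092 := d20_5 (iv4 D200837) F417234 (iv4 F499195) F499194 D219503 (iv4 D213092) F362024 D195862 D221280 F508132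
theorem F508134 : act 6 n209331 = n221280 := d21_3 F437415 D212672 F466985 F508132 F418111 D200961 F418514 F410715 F443176 F443174
def n221281 : Q := act 6 n195862
theorem D221281 : act 6 n195862 = n221281 := rfl
theorem F508135 : act 2 n221281 = n206751 := d3_1 D221281 (iv6 F508120) F508117
theorem F508136 : act 3 n221281 = n209331 := d7_1 D221281 F508134 (iv3 D221280)
theorem F508137 : act 4 n221281 = n195863 := d10_1 D221281 (iv6 D195863) D195862
theorem F508138 : act 7 n221281 = n212385 := d14_2 (iv7 F398510) D221281 F465621 (iv7 F437389) (iv6 F437392)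
theorem F508139 : act 0 n221281 = n212393 := d21_4 D209063 (iv1 F506380) F506383 D221281 F465646 F446404 (iv1 F396550) F388444 D205803 (iv1 F437930)
theorem F508140 : act 5 n221281 = n206750 := d21_6 F418327 D207783 (iv5 F489796) F508128 (iv1 D221279) D221281 (iv1 F442052) (iv5 F437908) F437909 (iv1 F437479)
theorem F508141 : act 0 n200982 = n221281 := d21_4 F176783 D148134 F231950 D200982 (iv6 D221281) (iv5 F506383) (iv1 D220939) F395286 F329784 (iv1 F176785)
def n221282 : Q := act 4 n195879
theorem D221282 : act 4 n195879 = n221282 := rfl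
theorem F508142 : act 2 n221282 = n196415 := d1_1 D221282 (iv4 D196415) (iv2 F398581)
theorem F508143 : act 3 n221282 = n197297 := d5_1 D221282 F403877 (iv3 D108207) D108208 (iv3 F398578)
theorem F508144 : act 5 n221282 = n197346 := d9_2 (iv5 F398577) D221282 F404000 F344465 (iv4 D78876) (iv5 F92700) (iv4 F358713) (iv5 F398584) (iv4 F403867) (iv5 F404548) F404547 (iv5 F351103) (iv4 D157881) (iv5 F299557) (iv4 F326201)
theorem F508145 : act 7 n221282 = n196413 := d11_2 F398580 D221282 (iv4 D196413)
theorem F508146 : act 0 n221282 = n216057 := d18_2 D195879 D221282 F482695 (iv5 D203889) F193358 F297996 D157881 F257769 (iv5 F337383)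
theorem F508147 : act 1 n221282 = n214272 := d18_6 F407095 F407092 (iv1 D124213) (iv4 F326201) (iv5 F398577) D221282 (iv4 D214272) (iv0 F409363) (iv5 D198812)
def n221283 : Q := act 6 n195879
theorem D221283 : act 6 n195879 = n221283 := rfl
theorem F508148 : act 2 n221283 = n196416 := d3_1 D221283 (iv6 D196416) (iv2 F398581)
theorem F508149 : act 3 n221283 = n197470 := d7_1 D221283 (iv6 D197470) (iv3 F398578)
theorem F508150 : act 5 n221283 = n204674 := d12_1 D221283 (iv6 D204674) (iv5 D124210) (iv6 F326202) (iv5 F398577)
theorem F508151 : act 7 n221283 = n196623 := d14_2 F398580 D221283 (iv6 D196623) F331804 (iv6 F345395)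
theorem F508152 : act 0 n221283 = n198235 := d21_4 D106990 F330459 (iv5 F398577) D221283 (iv6 D198235) (iv5 F169075) (iv1 F172824) (iv5 F400692) (iv6 D196444) (iv1 D106988)
theorem F508153 : act 0 n211891 = n221283 := d21_4 (iv5 F401622) (iv1 F412381) F412379 (iv6 F463445) (iv6 D221283) F398577 (iv1 D110286) D110287 (iv6 F409326) F409329
def n221284 : Q := act 6 n195882
theorem D221284 : act 6 n195882 = n221284 := rfl
theorem F508154 : act 2 n221284 = n195886 := d3_1 D221284 (iv6 D195886) D195882
theorem F508155 : act 4 n221284 = n214786 := d10_1 D221284 F476841 (iv4 F398606)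
theorem F508156 : act 5 n221284 = n207963 := d12_1 D221284 F447173 (iv5 D200040) D200041 (iv5 F414746)
theorem F508157 : act 7 n221284 = n214788 := d14_2 F398593 D221284 F476849 (iv7 F440471) (iv6 D195891)
theorem F508158 : act 0 n221284 = n196438 := d21_4 (iv5 F463479) (iv1 F463481) (iv5 F414746) D221284 F400674 D196753 (iv1 F490806) F490804 F470655 (iv1 F404379)
def n221285 : Q := act 6 n195883
theorem D221285 : act 6 n195883 = n221285 := rfl
theorem F508159 : act 3 n221285 = n195886 := d7_1 D221285 (iv6 D195886) D195883
theorem F508160 : act 4 n221285 = n214143 := d10_1 D221285 (iv6 D214143) (iv4 F398594)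
theorem F508161 : act 0 n221285 = n211539 := d20_7 (iv4 D202937) F233411 D148650 F334594 F353432 (iv3 F473693) (iv4 F508160) F462036 (iv3 D210422) (iv1 F426277)
def n221286 : Q := act 0 n195885
theorem D221286 : act 0 n195885 = n221286 := rfl
theorem F508162 : act 5 n221286 = n197451 := d17_3 D106406 D195885 D221286 F404391 (iv5 F361991) (iv0 D150319) (iv5 F130684) (iv0 F318513) F82557
theorem F508163 : act 4 n221286 = n218685 := d18_1 D221286 (iv1 F495144) (iv4 F405784) (iv5 F416502) (iv4 D200456) (iv0 F345560) (iv4 F398589) (iv0 D195881) D195885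
theorem F508164 : act 3 n221286 = n196475 := d20_5 F434781 F353905 (iv4 F412029) F412034 D221286 F400784 (iv1 D192638) D192639 (iv3 F410754) (iv1 F434784)
theorem F508165 : act 6 n221286 = n204293 := d21_5 (iv5 F492499) (iv1 F492501) (iv5 F412800) (iv6 F412035) D221286 (iv5 F501385) F501388 F457540 F431237 (iv1 F482802)
theorem F508166 : act 2 n196451 = n221286 := d15_3 (iv0 D221286) (iv0 F412036) (iv7 F400725)
theorem F508167 : act 7 n221286 = n211897 := d4_2 (iv7 F400725) F508166 (iv2 D211897)
theorem F508168 : act 1 n195890 = n221286 := d15_1 (iv0 F398629) F508167 (iv2 D211897)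
def n221287 : Q := act 7 n195885
theorem D221287 : act 7 n195885 = n221287 := rfl
theorem F508169 : act 2 n221287 = n195890 := d4_1 D221287 (iv7 F414744) F414741
theorem F508170 : act 3 n221287 = n197739 := d8_1 D221287 (iv7 F412030) F412034
theorem F508171 : act 4 n221287 = n213833 := d11_1 D221287 F472297 F453096
theorem F508172 : act 5 n221287 = n195887 := d13_1 D221287 (iv7 D195887) D195885
theorem F508173 : act 6 n221287 = n197738 := d14_1 D221287 F405587 F359286 (iv7 F412026) (iv6 F412035)
theorem F508174 : act 1 n211897 = n221287 := d15_1 F463481 (iv7 D221287) (iv2 F414741)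
theorem F508175 : act 1 n221287 = n196451 := d15_1 F508174 F400725 D211897
def n221288 : Q := act 0 n195886
theorem D221288 : act 0 n195886 = n221288 := rfl
theorem F508176 : act 5 n221288 = n218303 := d17_1 D221288 (iv1 D218303) (iv5 F401007) F401005 (iv5 F466394) F466395 (iv5 F476844) (iv0 D214787) F415051
theorem F508177 : act 4 n221288 = n215972 := d18_3 F392943 F415051 D221288 F482351 F466277 F447156 F425512 (iv0 F383690) F383689
theorem F508178 : act 2 n196438 = n221288 := d15_3 (iv0 D221288) (iv0 F415052) F410706
theorem F508179 : act 3 n221288 = n196476 := d0_2 D196438 F508178 (iv2 F410695) (iv3 D199106) (iv2 F171977)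
theorem F508180 : act 6 n221288 = n195932 := d3_2 (iv6 F400674) F508178 F401952
theorem F508181 : act 0 n221288 = n214788 := d20_10 (iv4 D214788) F383691 (iv4 F479919) F479918 (iv1 F505409) F505404 F404878 D197575 (iv4 F410696) (iv3 F508179)
def n221289 : Q := act 7 n195886
theorem D221289 : act 7 n195886 = n221289 := rfl
theorem F508182 : act 2 n221289 = n214788 := d4_1 D221289 (iv7 F508157) F508154
theorem F508183 : act 4 n221289 = n207969 := d11_1 D221289 F447198 F415051
theorem F508184 : act 6 n221289 = n211882 := d14_1 D221289 F463392 F440476 (iv7 D195887) D195886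
theorem F508185 : act 0 n196438 = n221289 := d18_0 F508183 F472193 (iv4 F480416) (iv5 F505230) F505231 (iv0 F447169) (iv4 F375057) F492884 F492883
def n221290 : Q := act 2 n195888
theorem D221290 : act 2 n195888 = n221290 := rfl
theorem F508186 : act 3 n221290 = n198173 := d0_2 D195888 D221290 (iv2 F410261) F410262 F398598
theorem F508187 : act 5 n221290 = n198171 := d2_2 (iv5 F398628) D221290 F407090
theorem F508188 : act 6 n221290 = n220824 := d3_2 (iv6 F505629) D221290 F505730
theorem F508189 : act 7 n221290 = n216063 := d4_2 F414748 D221290 F482730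
theorem F508190 : act 1 n221290 = n197364 := d15_0 (iv0 F414749) F414748 D221290
theorem F508191 : act 1 n196459 = n221290 := d15_0 F508190 (iv7 F454549) F454545
theorem F508192 : act 4 n199335 = n221290 := d18_7 (iv1 D121276) F88534 D55948 D121280 (iv5 F337373) D196441 (iv0 F411752) F508190 F404059
def n221291 : Q := act 4 n195888
theorem D221291 : act 4 n195888 = n221291 := rfl
theorem F508193 : act 2 n221291 = n199335 := d1_1 D221291 F508192 (iv2 D221290)
theorem F508194 : act 3 n221291 = n199336 := d5_1 D221291 F411757 (iv3 F398600) (iv4 D195889) D195888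
theorem F508195 : act 6 n221291 = n212804 := d10_2 (iv6 F505629) D221291 (iv4 F505627)
theorem F508196 : act 7 n221291 = n215976 := d11_2 F414748 D221291 F482377
theorem F508197 : act 5 n221291 = n199335 := d16_1 D221291 F508192 F508187 F407092 F254959 D180163 D216063 (iv7 F508189) (iv2 D221290)
theorem F508198 : act 0 n221291 = n197346 := d17_0 (iv5 F508144) F508146 F482696 (iv4 D214272) (iv5 D157879) D157878 (iv5 F454547) F454550 D221291
theorem F508199 : act 1 n221291 = n197492 := d18_6 (iv1 F170406) (iv4 F325651) F297668 (iv4 F325620) (iv5 F398628) D221291 F404547 (iv0 D125483) (iv5 F330458)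
def n221292 : Q := act 3 n195899
theorem D221292 : act 3 n195899 = n221292 := rfl
theorem F508200 : act 2 n221292 = n199196 := d0_1 D221292 (iv3 F411125) F360681 D202694 F425143
theorem F508201 : act 5 n221292 = n220256 := d6_2 F424756 D221292 F502887
theorem F508202 : act 7 n221292 = n199195 := d8_2 F461200 D221292 (iv3 F461198)
theorem F508203 : act 4 n221292 = n220257 := d20_6 D196319 F400310 (iv4 F331830) D202621 F424791 D221292 (iv1 F502894) F401792 (iv3 F386490) F223765
theorem F508204 : act 1 n196338 = n221292 := d18_6 (iv1 D199196) (iv4 F400371) F400372 F180904 (iv5 F340046) (iv4 F400388) F508203 (iv0 D220257) (iv5 F411126)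
theorem F508205 : act 0 n199198 = n221292 := d20_10 F508203 (iv1 F502894) F401792 (iv3 F386490) F223765 (iv3 F400297) (iv4 F452862) F452863 (iv4 F386874) (iv3 F411128)
def n221293 : Q := act 4 n195899
theorem D221293 : act 4 n195899 = n221293 := rfl
theorem F508206 : act 5 n221293 = n205482 := d9_2 F424756 D221293 F436627 F386486 D196782 (iv5 F422435) (iv4 F424693) (iv5 F424696) (iv4 F462127) F462128 F436634 (iv5 D196805) (iv4 F220501) D201940 (iv4 F424757)
theorem F508207 : act 1 n221293 = n211525 := d18_6 F461566 F401109 (iv1 F422473) (iv4 F424757) F424756 D221293 (iv4 F507542) (iv0 D221168) (iv5 F461565)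
theorem F508208 : act 0 n221293 = n221107 := d20_1 D221293 (iv4 F507549) (iv3 F507550) (iv1 F452864) F400297 D196319 F400310 (iv4 F331830) D202621 F424791
def n221294 : Q := act 3 n195902
theorem D221294 : act 3 n195902 = n221294 := rfl
theorem F508209 : act 4 n221294 = n214890 := d5_2 (iv4 F398662) D221294 F477296 (iv4 F407892) F407891
theorem F508210 : act 5 n221294 = n196989 := d6_2 (iv5 F398661) D221294 F402577
theorem F508211 : act 6 n221294 = n220388 := d7_2 F398664 D221294 (iv3 D220388)
theorem F508212 : act 7 n221294 = n196680 := d8_2 (iv7 F398660) D221294 (iv3 D196680)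
theorem F508213 : act 0 n221294 = n198942 := d19_4 (iv1 F174030) (iv5 F390205) (iv4 F398662) D221294 (iv5 D198942) (iv4 F221112) (iv3 F456311) (iv1 F456314) F369534 F369530 F137765 (iv1 F178480) (iv5 F371658) (iv4 F450225) F450224 (iv1 F426732) F426731 (iv4 F362619) F362618
def n221295 : Q := act 5 n195906
theorem D221295 : act 5 n195906 = n221295 := rfl
theorem F508214 : act 2 n221295 = n196670 := d2_1 D221295 (iv5 D196670) (iv2 F398683)
theorem F508215 : act 3 n221295 = n197427 := d6_1 D221295 F404236 (iv3 F398685)
theorem F508216 : act 6 n221295 = n213883 := d12_2 F413626 D221295 F472564 F415110 (iv5 F413625)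
theorem F508217 : act 7 n221295 = n196667 := d13_2 (iv7 F398684) D221295 (iv5 D196667)
theorem F508218 : act 4 n221295 = n202150 := d16_2 D195906 D221295 (iv5 F507548) F507549 F507249 F396992 (iv5 F172122) F172123 F172112
theorem F508219 : act 1 n221295 = n201946 := d17_6 (iv1 D52001) (iv5 F77650) F102876 (iv5 F172093) D195906 D221295 F422482 F415013 (iv4 D112673)
def n221296 : Q := act 5 n195908
theorem D221296 : act 5 n195908 = n221296 := rfl
theorem F508220 : act 2 n221296 = n196667 := d2_1 D221296 (iv5 D196667) (iv2 F398691)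
theorem F508221 : act 3 n221296 = n201912 := d6_1 D221296 (iv5 D201912) (iv3 F398693)
theorem F508222 : act 4 n221296 = n202151 := d9_1 D221296 (iv5 F507541) F507542 (iv5 D211525) F225640 (iv5 F172093) D195906 D221295 F508218 (iv5 F507548) F507549 F507249 F396992 (iv5 F172122) D195908
theorem F508223 : act 6 n221296 = n197424 := d12_2 (iv6 F476036) D221296 F404218 (iv6 F341522) (iv5 F476030)
theorem F508224 : act 7 n221296 = n196670 := d13_2 (iv7 F398692) D221296 (iv5 D196670)
theorem F508225 : act 0 n221296 = n201946 := d17_2 F401781 D221296 F422482 F415015 (iv5 F401966) F401968 (iv5 F401345) F401346 D196782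
def n221297 : Q := act 0 n195909
theorem D221297 : act 0 n195909 = n221297 := rfl
theorem F508226 : act 5 n221297 = n208844 := d17_3 (iv1 F457254) F407295 D221297 F451086 (iv5 F476014) (iv0 F503025) F503022 F450674 (iv4 F457250)
theorem F508227 : act 4 n221297 = n202318 := d18_1 D221297 F504275 F504271 F449039 (iv4 F217229) (iv0 F407462) F407461 F407297 F407295
theorem F508228 : act 3 n221297 = n215421 := d20_5 F504356 (iv1 F456514) F401553 (iv3 F398697) D221297 F479912 F416683 F416681 F406937 F504360
theorem F508229 : act 6 n221297 = n215419 := d21_5 (iv5 F180733) (iv1 F93289) (iv5 F163674) D195909 D221297 F479902 (iv1 D200124) (iv5 D112679) (iv6 D52003) D52000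
theorem F508230 : act 2 n195910 = n221297 := d15_3 (iv0 D221297) (iv0 F432709) (iv7 F432711)
theorem F508231 : act 1 n195913 = n221297 := d15_0 (iv0 D221297) (iv7 F424798) F424794
theorem F508232 : act 7 n221297 = n195911 := d15_2 (iv0 F432710) F508231 (iv2 F432706)
def n221298 : Q := act 4 n195911
theorem D221298 : act 4 n195911 = n221298 := rfl
theorem F508233 : act 3 n221298 = n201926 := d5_1 D221298 F422394 (iv3 F428884) (iv4 F480782) (iv3 F480785)
theorem F508234 : act 6 n221298 = n215898 := d10_2 F413597 D221298 F481982
theorem F508235 : act 7 n221298 = n202318 := d11_2 F508232 D221298 (iv4 F508227)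
theorem F508236 : act 0 n221298 = n201941 := d17_0 (iv5 F469347) (iv1 D212749) (iv5 F433675) (iv4 F505352) F505353 F407411 (iv5 D195912) D195911 D221298
theorem F508237 : act 0 n201942 = n221298 := d20_10 (iv4 D221298) (iv1 D195911) F163680 F84125 D53286 D115517 F179805 D141950 D211402 F461415
def n221299 : Q := act 5 n195914
theorem D221299 : act 5 n195914 = n221299 := rfl
theorem F508238 : act 2 n221299 = n220247 := d2_1 D221299 (iv5 D220247) (iv2 F398711)
theorem F508239 : act 3 n221299 = n195915 := d6_1 D221299 (iv5 D195915) D195914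
theorem F508240 : act 6 n221299 = n201440 := d12_2 F464656 D221299 (iv5 F424068) F424069 (iv5 F464655)
theorem F508241 : act 7 n221299 = n196740 := d13_2 (iv7 F398708) D221299 (iv5 D196740)
def n221300 : Q := act 5 n195929
theorem D221300 : act 5 n195929 = n221300 := rfl
theorem F508242 : act 3 n221300 = n199214 := d6_1 D221300 (iv5 F438089) F438087
theorem F508243 : act 4 n221300 = n211076 := d16_2 D195929 D221300 F460010 F459226 F422482 F415015 (iv5 F401966) F401967 (iv2 D195928)
theorem F508244 : act 0 n221300 = n196617 := d17_2 F398755 D221300 (iv5 D196617) (iv4 D107142) F180739 F82136 (iv5 F78311) F102877 (iv4 F225640)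
theorem F508245 : act 1 n221300 = n196612 := d17_6 (iv1 D196946) (iv5 F166891) (iv1 F387844) F228395 D195929 D221300 (iv5 D196612) D196611 (iv4 F402421)
theorem F508246 : act 6 n221300 = n211075 := d21_9 (iv5 F407005) (iv1 F407006) (iv5 D140659) (iv6 F223729) D211068 (iv6 F461986) (iv5 D211525) F398755 D221300 F460006
def n221301 : Q := act 6 n195929
theorem D221301 : act 6 n195929 = n221301 := rfl
theorem F508247 : act 2 n221301 = n211069 := d3_1 D221301 F459985 F401615
theorem F508248 : act 3 n221301 = n208929 := d7_1 D221301 F451449 F438087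
theorem F508249 : act 4 n221301 = n195930 := d10_1 D221301 (iv6 D195930) D195929
theorem F508250 : act 7 n221301 = n211068 := d14_2 (iv7 F401612) D221301 (iv6 F461986) F461974 F425127
theorem F508251 : act 0 n221301 = n210936 := d21_4 D196612 (iv1 F508245) (iv5 D221300) D221301 F459370 F406995 (iv1 D198150) D198152 (iv6 F407002) (iv1 D196611)
theorem F508252 : act 1 n221301 = n211070 := d15_1 (iv0 F508251) (iv7 D211070) (iv2 F459369)
def n221302 : Q := act 5 n195932
theorem D221302 : act 5 n195932 = n221302 := rfl
theorem F508253 : act 2 n221302 = n196753 := d2_1 D221302 (iv5 D196753) (iv2 F401952)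
theorem F508254 : act 3 n221302 = n196820 := d6_1 D221302 (iv5 D196820) (iv3 F401953)
theorem F508255 : act 7 n221302 = n196356 := d13_2 (iv7 F401954) D221302 F401956
theorem F508256 : act 0 n221302 = n216075 := d17_2 (iv1 F401963) D221302 F482804 F473832 (iv5 D193339) F188542 D203561 (iv0 F428887) (iv4 F415393)
def n221303 : Q := act 0 n195942
theorem D221303 : act 0 n195942 = n221303 := rfl
theorem F508257 : act 4 n221303 = n219487 := d18_3 F487167 (iv4 F398794) D221303 (iv5 F499132) F396504 D206449 (iv4 F446188) F499303 F499301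
theorem F508258 : act 3 n221303 = n207795 := d20_5 F77682 D49189 D106463 D195942 D221303 (iv4 D207795) (iv1 D132375) (iv4 F211270) (iv3 D131860) F164036
theorem F508259 : act 6 n221303 = n205426 := d21_5 (iv5 F295378) (iv1 F358999) (iv5 F380839) (iv6 F398796) D221303 (iv5 F506547) F506548 (iv5 F484252) (iv6 D216410) (iv1 D183518)
theorem F508260 : act 2 n207494 = n221303 := d15_3 (iv0 D221303) (iv0 F447900) (iv7 F447902)
theorem F508261 : act 1 n207495 = n221303 := d15_0 (iv0 D221303) F398797 D207495
theorem F508262 : act 7 n221303 = n207474 := d15_2 (iv0 F447901) F508261 (iv2 F447898)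
def n221304 : Q := act 1 n195943
theorem D221304 : act 1 n195943 = n221304 := rfl
theorem F508263 : act 1 n221304 = n207493 := d15_1 D221304 F445135 F443401
theorem F508264 : act 7 n221304 = n207466 := d15_2 (iv0 F496655) D221304 (iv2 F496656)
theorem F508265 : act 5 n221304 = n207795 := d17_7 F438809 F438807 F436500 (iv5 F441576) (iv4 F441577) F418091 D221304 F495157 F495154
theorem F508266 : act 4 n221304 = n196188 := d17_9 F399792 (iv5 F495446) (iv1 F495448) D218961 F496405 (iv5 D207110) F418092 F418091 D221304
theorem F508267 : act 6 n196189 = n221304 := d21_3 D195761 D221255 F507983 (iv1 D221304) (iv6 F462058) F462060 (iv1 F363727) F339643 (iv6 D106252) D106248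
theorem F508268 : act 2 n221304 = n197017 := d3_1 F508267 (iv6 D197017) (iv2 F399793)
def n221305 : Q := act 6 n195947
theorem D221305 : act 6 n195947 = n221305 := rfl
theorem F508269 : act 2 n221305 = n208199 := d3_1 D221305 (iv6 D208199) (iv2 F398821)
theorem F508270 : act 3 n221305 = n211583 := d7_1 D221305 F462250 (iv3 F444714)
theorem F508271 : act 4 n221305 = n205398 := d10_1 D221305 F436244 F398819
theorem F508272 : act 5 n221305 = n208131 := d12_1 D221305 (iv6 D208131) (iv5 D133426) D133427 F398820
theorem F508273 : act 7 n221305 = n212962 := d14_2 (iv7 F398818) D221305 (iv6 F468335) F448316 (iv6 D208198)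
theorem F508274 : act 0 n221305 = n201590 := d21_4 F444114 F444115 F398820 D221305 F421061 (iv5 D114857) F161885 F161881 D107572 F398917
theorem F508275 : act 0 n196138 = n221305 := d21_4 F369397 D187957 F398944 D196138 (iv6 D221305) (iv5 F398820) F447982 F447981 F488456 (iv1 D217328)
def n221306 : Q := act 6 n195952
theorem D221306 : act 6 n195952 = n221306 := rfl
theorem F508276 : act 2 n221306 = n205514 := d3_1 D221306 F436786 F417719
theorem F508277 : act 3 n221306 = n195954 := d7_1 D221306 (iv6 D195954) D195952
theorem F508278 : act 5 n221306 = n206615 := d12_1 D221306 (iv6 F441587) F382537 (iv6 F492040) F492039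
theorem F508279 : act 7 n221306 = n205509 := d14_2 F399455 D221306 (iv6 D205509) F202951 (iv6 F399454)
theorem F508280 : act 0 n221306 = n205512 := d21_4 D201886 F492043 F492039 D221306 (iv6 F436780) F421363 F389051 F396151 F396148 (iv1 F382385)
theorem F508281 : act 0 n204859 = n221306 := d21_4 (iv5 F495015) (iv1 D218659) (iv5 F377717) (iv6 F433880) (iv6 D221306) (iv5 F492039) F492042 (iv5 D201884) (iv6 F371205) (iv1 F417349)
def n221307 : Q := act 5 n195955
theorem D221307 : act 5 n195955 = n221307 := rfl
theorem F508282 : act 2 n221307 = n195957 := d2_1 D221307 (iv5 D195957) (iv2 F398845)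
theorem F508283 : act 3 n221307 = n205301 := d6_1 D221307 (iv5 F435860) F399512
theorem F508284 : act 4 n221307 = n200532 := d9_1 D221307 (iv5 D200532) F360213 (iv5 F338382) (iv4 F360197) D189184 (iv4 F398854) F398855 (iv4 D125808) (iv5 D58915) (iv4 F82587) D113156 (iv4 F354214) D189182 (iv4 F398846)
theorem F508285 : act 6 n221307 = n219324 := d12_2 D195955 D221307 (iv5 D219324) (iv6 F382458) F211658
theorem F508286 : act 7 n221307 = n205333 := d13_2 F483774 D221307 (iv5 F483773)
theorem F508287 : act 0 n221307 = n205292 := d17_2 (iv1 F436316) D221307 F435813 F398039 F380760 F394154 (iv5 F484176) F484174 F436314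
theorem F508288 : act 1 n221307 = n205338 := d17_6 (iv1 D87132) (iv5 F294771) D93353 D189182 (iv4 F398846) D221307 F435972 (iv0 F360194) (iv4 D182524)
def n221308 : Q := act 3 n195959
theorem D221308 : act 3 n195959 = n221308 := rfl
theorem F508289 : act 2 n221308 = n205472 := d0_1 D221308 F436599 F436105 (iv3 F360402) F398857
theorem F508290 : act 4 n221308 = n219322 := d5_2 F435243 D221308 F498285 (iv4 F496728) F496725
theorem F508291 : act 5 n221308 = n204879 := d6_2 (iv5 F398856) D221308 F433992
theorem F508292 : act 6 n221308 = n204880 := d7_2 F398860 D221308 F433995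
theorem F508293 : act 7 n221308 = n200535 := d8_2 (iv7 F398859) D221308 F416920
def n221309 : Q := act 6 n195971
theorem D221309 : act 6 n195971 = n221309 := rfl
theorem F508294 : act 2 n221309 = n207492 := d3_1 D221309 (iv6 D207492) (iv2 F398904)
theorem F508295 : act 3 n221309 = n205532 := d7_1 D221309 F436870 (iv3 F398910)
theorem F508296 : act 4 n221309 = n195972 := d10_1 D221309 (iv6 D195972) D195971
theorem F508297 : act 7 n221309 = n218974 := d14_2 (iv7 F398905) D221309 F496471 F453342 F399339
theorem F508298 : act 0 n221309 = n196232 := d21_4 (iv5 D131980) (iv1 F164144) (iv5 F398906) D221309 (iv6 F399994) (iv5 D113414) F165560 D52379 (iv6 F176648) F327331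
theorem F508299 : act 0 n196208 = n221309 := d21_4 F164271 D106674 F341608 D196208 (iv6 D221309) F398906 (iv1 D106583) D106585 D196050 (iv1 F399208)
def n221310 : Q := act 6 n195976
theorem D221310 : act 6 n195976 = n221310 := rfl
theorem F508300 : act 2 n221310 = n209046 := d3_1 D221310 F468392 (iv2 F468394)
theorem F508301 : act 3 n221310 = n195977 := d7_1 D221310 (iv6 D195977) D195976
theorem F508302 : act 4 n221310 = n217329 := d10_1 D221310 F488463 F448298
theorem F508303 : act 5 n221310 = n209044 := d12_1 D221310 (iv6 D209044) F363645 F391871 (iv5 F398931)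
theorem F508304 : act 0 n221310 = n212004 := d21_4 (iv5 F447648) F447651 (iv5 F398931) D221310 F463885 (iv5 D195247) (iv1 F354842) (iv5 D151658) D151659 F402803
theorem F508305 : act 0 n212283 = n221310 := d21_4 D194184 (iv1 F488470) F488467 (iv6 F465133) (iv6 D221310) F398931 (iv1 F504574) F504576 (iv6 F468347) (iv1 D194183)
def n221311 : Q := act 7 n195977
theorem D221311 : act 7 n195977 = n221311 := rfl
theorem F508306 : act 2 n221311 = n218632 := d4_1 D221311 F494880 F399572
theorem F508307 : act 4 n221311 = n200748 := d11_1 D221311 (iv7 F417926) F417924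
theorem F508308 : act 5 n221311 = n214494 := d13_1 D221311 F475446 F418796
theorem F508309 : act 6 n221311 = n201753 := d14_1 D221311 F421682 F377479 F332831 D195977
theorem F508310 : act 1 n206654 = n221311 := d15_1 (iv0 F441755) (iv7 D221311) (iv2 F399572)
theorem F508311 : act 1 n221311 = n206651 := d15_1 F508310 F448316 F448311
def n221312 : Q := act 4 n195983
theorem D221312 : act 4 n195983 = n221312 := rfl
theorem F508312 : act 2 n221312 = n212880 := d1_1 D221312 (iv4 D212880) (iv2 F399554)
theorem F508313 : act 3 n221312 = n217763 := d5_1 D221312 F490507 F391922 D209514 F453984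
theorem F508314 : act 7 n221312 = n212878 := d11_2 F399556 D221312 (iv4 D212878)
theorem F508315 : act 0 n221312 = n196150 := d18_2 (iv1 F398954) D221312 (iv4 D196150) (iv5 D106704) (iv4 F164151) (iv0 F398950) (iv4 D195981) F164410 (iv5 F237971)
theorem F508316 : act 1 n221312 = n212886 := d18_6 (iv1 D189515) (iv4 F376777) F399341 (iv4 F399552) F399553 D221312 F467962 F399625 F399614
def n221313 : Q := act 6 n195983
theorem D221313 : act 6 n195983 = n221313 := rfl
theorem F508317 : act 2 n221313 = n212881 := d3_1 D221313 (iv6 D212881) (iv2 F399554)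
theorem F508318 : act 3 n221313 = n216364 := d7_1 D221313 (iv6 F484020) F453984
theorem F508319 : act 7 n221313 = n212891 := d14_2 F399556 D221313 (iv6 F467979) F447971 F420340
theorem F508320 : act 0 n221313 = n201433 := d21_4 (iv5 F369397) F399555 F399553 D221313 (iv6 D201433) F178549 F325417 (iv5 F325420) D157731 F345185
theorem F508321 : act 0 n201375 = n221313 := d21_4 F419084 (iv1 F420235) (iv5 D201374) D201375 (iv6 D221313) (iv5 F399553) F402854 (iv5 F474188) (iv6 F474191) F419086
def n221314 : Q := act 0 n195984
theorem D221314 : act 0 n195984 = n221314 := rfl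
theorem F508322 : act 5 n221314 = n216044 := d17_1 D221314 (iv1 F482645) F412324 F371938 (iv5 F369397) D217328 F488455 (iv0 D195982) D195984
theorem F508323 : act 4 n221314 = n196003 := d18_3 (iv1 D195983) D195984 D221314 (iv5 F447300) (iv4 D207989) (iv0 F361707) (iv4 F402852) (iv0 F402854) F399553
theorem F508324 : act 6 n221314 = n208638 := d21_5 F83366 (iv1 F107775) (iv5 F163745) (iv6 F398957) D221314 F450279 F360561 (iv5 F331542) (iv6 D114535) (iv1 F83520)
theorem F508325 : act 2 n208640 = n221314 := d15_3 (iv0 D221314) (iv0 F450961) F450960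
theorem F508326 : act 7 n221314 = n212876 := d4_2 F450960 F508325 (iv2 F467911)
theorem F508327 : act 1 n212877 = n221314 := d15_1 F467916 F508326 (iv2 F467911)
def n221315 : Q := act 7 n195984
theorem D221315 : act 7 n195984 = n221315 := rfl
theorem F508328 : act 2 n221315 = n212877 := d4_1 D221315 (iv7 D212877) (iv2 F398955)
theorem F508329 : act 3 n221315 = n197640 := d8_1 D221315 (iv7 F405148) (iv3 F398956)
theorem F508330 : act 4 n221315 = n195985 := d11_1 D221315 (iv7 D195985) D195984
theorem F508331 : act 5 n221315 = n203797 := d13_1 D221315 F429860 (iv5 F398958)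
theorem F508332 : act 6 n221315 = n201106 := d14_1 D221315 (iv7 D201106) F177206 (iv7 F163746) (iv6 F398957)
theorem F508333 : act 1 n212876 = n221315 := d15_1 D212876 (iv7 D221315) F398955
theorem F508334 : act 1 n221315 = n208640 := d15_1 F508333 (iv7 F450960) F467911
def n221316 : Q := act 7 n195992
theorem D221316 : act 7 n195992 = n221316 := rfl
theorem F508335 : act 3 n221316 = n200933 := d8_1 D221316 (iv7 F447911) F447909
theorem F508336 : act 4 n221316 = n206650 := d11_1 D221316 F441739 F436883
theorem F508337 : act 5 n221316 = n200930 := d13_1 D221316 (iv7 F437531) F437530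
theorem F508338 : act 6 n221316 = n214221 := d14_1 D221316 F474054 (iv6 D196142) (iv7 F349629) D195992
theorem F508339 : act 1 n208525 = n221316 := d15_1 (iv0 F449734) (iv7 D221316) (iv2 F399602)
theorem F508340 : act 1 n221316 = n221216 := d15_1 F508339 F507784 F475416
def n221317 : Q := act 3 n195993
theorem D221317 : act 3 n195993 = n221317 := rfl
theorem F508341 : act 2 n221317 = n218409 := d0_1 D221317 F493743 F376232 F376383 (iv2 F398993)
theorem F508342 : act 4 n221317 = n200275 := d5_2 D195993 D221317 (iv3 D200275) (iv4 D112926) (iv3 F163759)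
theorem F508343 : act 5 n221317 = n207533 := d6_2 F493988 D221317 (iv3 F493989)
theorem F508344 : act 6 n221317 = n217484 := d7_2 (iv6 F398994) D221317 (iv3 F489101)
theorem F508345 : act 7 n221317 = n218440 := d8_2 (iv7 F398995) D221317 (iv3 D218440)
def n221318 : Q := act 1 n195996
theorem D221318 : act 1 n195996 = n221318 := rfl
theorem F508346 : act 1 n221318 = n218419 := d15_1 D221318 F493800 (iv2 F399009)
theorem F508347 : act 7 n221318 = n218279 := d15_2 (iv0 F494066) D221318 (iv2 F494065)
theorem F508348 : act 5 n221318 = n196012 := d17_7 (iv1 D189309) (iv5 F370661) (iv1 F482548) F482546 D217772 (iv5 F490544) D221318 (iv0 F493942) (iv4 D218447)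
theorem F508349 : act 4 n221318 = n218174 := d17_9 F492522 (iv5 D188815) D188813 F375219 D218283 F493099 (iv0 F490542) (iv5 F490544) D221318
theorem F508350 : act 2 n218282 = n221318 := d1_3 F508349 F492519 D218282
theorem F508351 : act 6 n218413 = n221318 := d10_0 F508349 F492524 D218413
def n221319 : Q := act 7 n196012
theorem D221319 : act 7 n196012 = n221319 := rfl
theorem F508352 : act 2 n221319 = n203436 := d4_1 D221319 (iv7 F494790) F494787
theorem F508353 : act 3 n221319 = n218530 := d8_1 D221319 F494317 F445107
theorem F508354 : act 4 n221319 = n196014 := d11_1 D221319 (iv7 D196014) (iv4 F399059)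
theorem F508355 : act 5 n221319 = n218279 := d13_1 D221319 (iv7 F508347) F508348
theorem F508356 : act 6 n221319 = n220678 := d14_1 D221319 F504950 (iv6 F392378) F164524 D196012
theorem F508357 : act 1 n217766 = n221319 := d15_1 F494793 (iv7 D221319) (iv2 F494787)
theorem F508358 : act 1 n221319 = n217769 := d15_1 F508357 (iv7 F493941) F493938
def n221320 : Q := act 4 n196013
theorem D221320 : act 4 n196013 = n221320 := rfl
theorem F508359 : act 2 n221320 = n217853 := d1_1 D221320 (iv4 D217853) F399064
theorem F508360 : act 5 n221320 = n218284 := d9_2 (iv5 F399063) D221320 F493104 F375224 (iv4 F375212) F375383 F376851 (iv5 F376829) F376849 (iv5 D189374) F144748 (iv5 F142668) (iv4 F374314) (iv5 F375380) (iv4 F376852)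
theorem F508361 : act 6 n221320 = n217026 := d10_2 F494599 D221320 (iv4 F494597)
theorem F508362 : act 7 n221320 = n217857 := d11_2 (iv7 F399062) D221320 (iv4 D217857)
theorem F508363 : act 0 n221320 = n208120 := d17_0 (iv5 F447968) F492875 F492874 F376913 (iv5 F466663) (iv0 F466665) F250914 D196013 D221320
theorem F508364 : act 1 n221320 = n218446 := d18_6 (iv1 D90641) (iv4 F139553) D187888 (iv4 F376852) (iv5 F399063) D221320 F493936 F376948 (iv5 D187899)
def n221321 : Q := act 4 n196015
theorem D221321 : act 4 n196015 = n221321 := rfl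
theorem F508365 : act 2 n221321 = n206908 := d1_1 D221321 F442571 (iv2 F399070)
theorem F508366 : act 5 n221321 = n207026 := d9_2 D196015 D221321 F443021 (iv5 F218066) D135793 F356954 F150044 D190373 (iv4 F446090) F446091 (iv4 F325504) (iv5 D114000) (iv4 F177489) (iv5 F363064) F341618
theorem F508367 : act 7 n221321 = n217841 := d11_2 (iv7 F399071) D221321 (iv4 D217841)
theorem F508368 : act 0 n221321 = n218164 := d17_0 (iv5 F492469) F418662 (iv5 F421893) (iv4 D201818) D201819 F421904 (iv5 F372182) (iv0 F399072) D221321
theorem F508369 : act 1 n221321 = n201642 := d18_6 (iv1 D106484) (iv4 F96580) D132128 F341618 D196015 D221321 F421220 F396530 (iv5 F396527)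
def n221322 : Q := act 0 n196018
theorem D221322 : act 0 n196018 = n221322 := rfl
theorem F508370 : act 5 n221322 = n197048 := d17_1 D221322 F402821 (iv5 F399189) F399188 F203414 F203430 (iv5 F217868) F217870 (iv4 F399089)
theorem F508371 : act 4 n221322 = n206704 := d18_1 D221322 F441917 (iv4 D195937) (iv5 F341595) (iv4 D106542) F78005 (iv4 F164554) F164558 D196018
theorem F508372 : act 3 n221322 = n205596 := d20_5 (iv4 F211209) F212538 D129312 (iv3 F399087) D221322 (iv4 F440680) (iv1 F440678) (iv4 F211172) F211171 F211210
theorem F508373 : act 6 n221322 = n219012 := d21_5 F204917 (iv1 F161159) D113451 (iv6 F399088) D221322 F496674 F447900 F398795 (iv6 D127389) D127386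
theorem F508374 : act 2 n200790 = n221322 := d15_3 (iv0 D221322) (iv0 F477934) F477932
theorem F508375 : act 1 n196019 = n221322 := d15_0 (iv0 D221322) (iv7 F399841) F399837
theorem F508376 : act 7 n221322 = n200791 := d15_2 F477935 F508375 (iv2 F477930)
def n221323 : Q := act 6 n196032
theorem D221323 : act 6 n196032 = n221323 := rfl
theorem F508377 : act 3 n221323 = n196033 := d7_1 D221323 (iv6 D196033) D196032
theorem F508378 : act 5 n221323 = n217608 := d12_1 D221323 F489772 (iv5 D216399) (iv6 F417175) F417174
theorem F508379 : act 0 n221323 = n207551 := d21_4 (iv5 F342947) (iv1 F417177) F417174 D221323 F445416 (iv5 F417356) (iv1 F469256) F469255 (iv6 F440925) (iv1 D206459)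
theorem F508380 : act 0 n201681 = n221323 := d21_4 F436963 F348161 F418761 (iv6 F421353) (iv6 D221323) (iv5 F417174) (iv1 F417176) (iv5 F436942) F440899 (iv1 F440897)
def n221324 : Q := act 6 n196035
theorem D221324 : act 6 n196035 = n221324 := rfl
theorem F508381 : act 2 n221324 = n196039 := d3_1 D221324 (iv6 D196039) (iv2 F399137)
theorem F508382 : act 3 n221324 = n196042 := d7_1 D221324 F399158 (iv3 F399138)
theorem F508383 : act 7 n221324 = n196039 := d14_2 (iv7 F399139) D221324 (iv6 D196039) F163843 (iv6 F364672)
def n221325 : Q := act 4 n196036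
theorem D221325 : act 4 n196036 = n221325 := rfl
theorem F508384 : act 2 n221325 = n207487 := d1_1 D221325 (iv4 D207487) F399144
theorem F508385 : act 3 n221325 = n217622 := d5_1 D221325 F489823 (iv3 F496562) F496563 F450627
theorem F508386 : act 7 n221325 = n207484 := d11_2 F399145 D221325 (iv4 D207484)
theorem F508387 : act 5 n221325 = n217621 := d16_1 D221325 F489820 (iv5 F449586) F449583 (iv5 F367303) F216261 (iv5 F399148) F399147 F399144
theorem F508388 : act 1 n221325 = n219306 := d18_6 F445240 (iv4 F410175) F410177 (iv4 F216519) (iv5 F399142) D221325 (iv4 D219306) (iv0 F382347) (iv5 F445238)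
theorem F508389 : act 6 n219329 = n221325 := d12_0 F508387 F489821 (iv5 F376719) F486186 (iv5 F498313)
def n221326 : Q := act 6 n196036
theorem D221326 : act 6 n196036 = n221326 := rfl
theorem F508390 : act 2 n221326 = n207488 := d3_1 D221326 (iv6 D207488) F399144
theorem F508391 : act 3 n221326 = n207602 := d7_1 D221326 (iv6 F450628) F450627
theorem F508392 : act 4 n221326 = n219329 := d10_1 D221326 F508389 (iv4 D221325)
theorem F508393 : act 5 n221326 = n207976 := d12_1 D221326 F447232 (iv5 F352565) (iv6 F352568) (iv5 F399142)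
theorem F508394 : act 7 n221326 = n207599 := d14_2 F399145 D221326 (iv6 D207599) F445116 (iv6 D207485)
theorem F508395 : act 0 n221326 = n218975 := d21_4 (iv5 D106600) D106597 (iv5 F399142) D221326 F496478 F435618 (iv1 D166584) (iv5 F294896) (iv6 F352533) (iv1 F361769)
theorem F508396 : act 1 n221326 = n196234 := d15_1 (iv0 F508395) (iv7 F400111) (iv2 F496475)
def n221327 : Q := act 4 n196037
theorem D221327 : act 4 n196037 = n221327 := rfl
theorem F508397 : act 2 n221327 = n207484 := d1_1 D221327 (iv4 D207484) F399149
theorem F508398 : act 5 n221327 = n220692 := d9_2 (iv5 F399148) D221327 F505009 (iv5 F449575) F449576 (iv5 F367294) (iv4 F216519) (iv5 F399142) D221325 F508387 F489820 (iv5 F449586) F449583 (iv5 F367303) F216261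
theorem F508399 : act 7 n221327 = n207487 := d11_2 (iv7 F399147) D221327 (iv4 D207487)
theorem F508400 : act 0 n221327 = n219306 := d18_2 (iv1 F399146) D221327 (iv4 D219306) (iv5 F487844) F487843 (iv0 F368733) F336391 F163840 D131838
theorem F508401 : act 3 n221327 = n200409 := d19_3 (iv1 F164179) (iv5 F399148) D221327 (iv1 F493963) F493961 F395448 (iv3 F466688) F466692 (iv5 D203929) F261874 (iv3 F474798) (iv1 F474804) (iv5 F448625) F448624 F229800 (iv1 F322886) (iv5 D135585) (iv4 F164141) F164140
def n221328 : Q := act 6 n196037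
theorem D221328 : act 6 n196037 = n221328 := rfl
theorem F508402 : act 2 n221328 = n207485 := d3_1 D221328 (iv6 D207485) F399149
theorem F508403 : act 3 n221328 = n201884 := d7_1 D221328 (iv6 F498201) F498200
theorem F508404 : act 5 n221328 = n201883 := d12_1 D221328 (iv6 F487232) F487228 (iv6 D196064) (iv5 F399148)
theorem F508405 : act 7 n221328 = n207596 := d14_2 (iv7 F399147) D221328 F478405 F478403 (iv6 D207488)
theorem F508406 : act 0 n221328 = n196207 := d21_10 F399876 (iv1 F399499) (iv5 F399830) (iv6 F477396) F477398 (iv6 D207531) (iv5 D131942) (iv1 F164179) (iv5 F399148) D221328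
theorem F508407 : act 0 n207597 = n221328 := d21_4 F294896 D166583 F376771 (iv6 F445624) (iv6 D221328) F399148 (iv1 D106598) D106600 (iv6 F382600) (iv1 D191211)
def n221329 : Q := act 5 n196038
theorem D221329 : act 5 n196038 = n221329 := rfl
theorem F508408 : act 2 n221329 = n217188 := d2_1 D221329 F494320 (iv2 F494319)
theorem F508409 : act 3 n221329 = n196192 := d6_1 D221329 (iv5 D196192) (iv3 F399150)
theorem F508410 : act 7 n221329 = n207491 := d13_2 (iv7 F399151) D221329 (iv5 D207491)
theorem F508411 : act 4 n221329 = n216968 := d16_2 D196038 D221329 (iv5 D216968) F367314 (iv5 F157838) F327935 D131838 (iv7 F399139) F399137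
theorem F508412 : act 1 n221329 = n218469 := d17_6 F399271 (iv5 F362887) (iv1 D106570) D106572 D196038 D221329 F494045 (iv0 F490970) F490968
theorem F508413 : act 0 n221329 = n218676 := d21_1 D221329 F495102 (iv6 F490989) (iv1 F490987) D218528 (iv5 F494307) F494286 F494177 (iv6 F494327) (iv1 F494328)
theorem F508414 : act 6 n221329 = n219768 := d21_3 F504966 (iv1 F494328) D221329 F500526 (iv6 F456079) F392357 D194203 F413685 (iv6 F494178) F504969
theorem F508415 : act 0 n218579 = n220685 := d21_4 (iv5 F376883) F493817 F493818 D218579 F504982 D221329 F508413 F495102 (iv6 F490989) (iv1 F490987)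
def n221330 : Q := act 5 n196039
theorem D221330 : act 5 n196039 = n221330 := rfl
theorem F508416 : act 3 n221330 = n196041 := d6_1 D221330 (iv5 D196041) (iv3 F399152)
theorem F508417 : act 6 n221330 = n196040 := d12_2 D196039 D221330 (iv5 D196040) (iv6 D106573) D106572
def n221331 : Q := act 1 n196041
theorem D221331 : act 1 n196041 = n221331 := rfl
theorem F508418 : act 1 n221331 = n205298 := d15_1 D221331 F435845 (iv2 F399154)
theorem F508419 : act 7 n221331 = n207510 := d15_2 F436077 D221331 (iv2 F445214)
theorem F508420 : act 4 n221331 = n205565 := d17_9 F437012 (iv5 F436254) (iv1 D205401) (iv5 D125911) F93158 D125635 (iv0 F356965) D196041 D221331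
theorem F508421 : act 5 n212963 = n221331 := d21_6 (iv5 D24082) (iv1 F37586) D49253 D106587 (iv1 F398952) (iv6 F468338) (iv1 D221331) (iv5 D196041) (iv6 D106574) F77794
theorem F508422 : act 2 n221331 = n207511 := d2_1 F508421 (iv5 F445406) (iv2 F468336)
theorem F508423 : act 6 n205564 = n221331 := d3_0 F508422 (iv6 F507905) F507903
def n221332 : Q := act 7 n196041
theorem D221332 : act 7 n196041 = n221332 := rfl
theorem F508424 : act 2 n221332 = n205298 := d4_1 D221332 F435845 (iv2 F399154)
theorem F508425 : act 4 n221332 = n205297 := d11_1 D221332 F435840 F435453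
theorem F508426 : act 5 n221332 = n196042 := d13_1 D221332 (iv7 D196042) D196041
theorem F508427 : act 6 n221332 = n207507 := d14_1 D221332 F445197 (iv6 F418123) (iv7 D196045) (iv6 F399155)
theorem F508428 : act 1 n207511 = n221332 := d15_1 D207511 (iv7 D221332) F399154
theorem F508429 : act 1 n221332 = n207510 := d15_1 F508428 (iv7 F508419) F508422
def n221333 : Q := act 3 n196044
theorem D221333 : act 3 n196044 = n221333 := rfl
theorem F508430 : act 2 n221333 = n205169 := d0_1 D221333 F435272 F361383 F366351 (iv2 F399167)
theorem F508431 : act 5 n221333 = n200463 := d6_2 F507603 D221333 F507605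
theorem F508432 : act 6 n221333 = n205302 := d7_2 F435454 D221333 F435862
theorem F508433 : act 7 n221333 = n205304 := d8_2 F399169 D221333 (iv3 D205304)
theorem F508434 : act 0 n205336 = n221333 := d20_4 F496830 (iv1 F483696) (iv4 D205337) D205336 (iv3 D221333) (iv4 D196044) D196043 F399162 (iv3 F435681) (iv1 F496829)
def n221334 : Q := act 4 n196051
theorem D221334 : act 4 n196051 = n221334 := rfl
theorem F508435 : act 2 n221334 = n207572 := d1_1 D221334 F445504 (iv2 F399212)
theorem F508436 : act 6 n221334 = n196073 := d10_2 (iv6 F399214) D221334 (iv4 D196073)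
theorem F508437 : act 1 n221334 = n215037 := d18_6 F395856 F93403 F362884 (iv4 F164149) D196051 D221334 F478011 (iv0 D201122) (iv5 F396110)
theorem F508438 : act 3 n205622 = n221334 := d20_5 F96601 (iv1 F93749) D126619 D205812 F488824 (iv4 D221334) (iv1 F418108) (iv4 F437933) (iv3 D205805) (iv1 F203668)
def n221335 : Q := act 4 n196055
theorem D221335 : act 4 n196055 = n221335 := rfl
theorem F508439 : act 2 n221335 = n207554 := d1_1 D221335 (iv4 D207554) (iv2 F399234)
theorem F508440 : act 3 n221335 = n221276 := d5_1 D221335 (iv4 D221276) (iv3 D195854) (iv4 F179049) (iv3 F399235)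
theorem F508441 : act 6 n221335 = n201131 := d10_2 (iv6 F399236) D221335 (iv4 D201131)
theorem F508442 : act 7 n221335 = n207556 := d11_2 (iv7 F399237) D221335 (iv4 D207556)
theorem F508443 : act 5 n221335 = n212121 := d16_1 D221335 F464391 (iv5 D196878) F165674 F78359 (iv4 F165530) D196057 F399244 (iv2 F399234)
def n221336 : Q := act 5 n196056
theorem D221336 : act 5 n196056 = n221336 := rfl
theorem F508444 : act 2 n221336 = n201681 := d2_1 D221336 (iv5 F486086) F486081
theorem F508445 : act 3 n221336 = n196057 := d6_1 D221336 (iv5 D196057) D196056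
theorem F508446 : act 4 n221336 = n218659 := d9_1 D221336 F495015 (iv4 F492692) F492691 F377112 (iv5 F290245) (iv4 F399968) (iv5 F506772) F506771 F495008 (iv4 F492683) F492682 (iv4 D218132) F373981 (iv4 F399239)
theorem F508447 : act 6 n221336 = n207461 := d12_2 (iv6 F399240) D221336 F445039 (iv6 F439099) F439098
theorem F508448 : act 7 n221336 = n207551 := d13_2 (iv7 F399241) D221336 (iv5 D207551)
def n221337 : Q := act 4 n196057
theorem D221337 : act 4 n196057 = n221337 := rfl
theorem F508449 : act 2 n221337 = n207556 := d1_1 D221337 (iv4 D207556) (iv2 F399243)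
theorem F508450 : act 5 n221337 = n212120 := d9_2 D196057 D221337 F464385 F402256 (iv4 D196217) (iv5 D106770) (iv4 F165533) D196055 D221335 F508443 F464391 (iv5 D196878) F165674 F78359 (iv4 F165530)
theorem F508451 : act 6 n221337 = n217611 := d10_2 F505435 D221337 (iv4 F505434)
theorem F508452 : act 7 n221337 = n207554 := d11_2 (iv7 F399244) D221337 (iv4 D207554)
def n221338 : Q := act 1 n196059
theorem D221338 : act 1 n196059 = n221338 := rfl
theorem F508453 : act 1 n221338 = n207560 := d15_1 D221338 (iv7 D207560) (iv2 F399249)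
theorem F508454 : act 7 n221338 = n206485 := d15_2 F446273 D221338 (iv2 F446270)
theorem F508455 : act 4 n221338 = n196067 := d18_7 (iv1 F164165) (iv4 D106592) (iv1 D49256) (iv4 F77820) D106590 D196059 D221338 F399281 F211526
theorem F508456 : act 3 n206991 = n221338 := d19_19 (iv1 D221338) (iv5 F464290) F464289 (iv3 F464252) (iv1 F464255) (iv5 F463382) (iv4 F455591) F455590 (iv1 F384883) (iv5 F386949) F386948 F368395 F156485 (iv5 D101575) F155181 (iv3 F315646) F235424 (iv5 F359264) (iv4 F442880)
theorem F508457 : act 2 n221338 = n207557 := d0_1 F508456 (iv3 F445439) (iv2 F442441) F447016 (iv2 F447014)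
theorem F508458 : act 5 n221338 = n197464 := d6_2 F496204 F508456 (iv3 F496203)
def n221339 : Q := act 3 n196059
theorem D221339 : act 3 n196059 = n221339 := rfl
theorem F508459 : act 4 n221339 = n205622 := d5_2 D196059 D221339 F508438 (iv4 D221334) F399213
theorem F508460 : act 5 n221339 = n217353 := d6_2 F464290 D221339 (iv3 F488557)
theorem F508461 : act 6 n221339 = n205621 := d7_2 (iv6 F400076) D221339 F437259
theorem F508462 : act 0 n221339 = n209144 := d19_4 (iv1 D106589) D106590 D196059 D221339 F452446 (iv4 D191048) (iv3 D97182) (iv1 D45416) (iv5 D21673) F16464 F15047 D9677 D20406 D43253 D92475 (iv1 F373976) F373981 (iv4 F399239) (iv3 D196056)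
theorem F508463 : act 0 n219267 = n221339 := d20_4 F397657 F362725 F445796 (iv3 F498023) (iv3 D221339) (iv4 D196059) (iv1 F362923) (iv4 F397654) F397653 D195623
def n221340 : Q := act 4 n196061
theorem D221340 : act 4 n196061 = n221340 := rfl
theorem F508464 : act 2 n221340 = n207566 := d1_1 D221340 (iv4 D207566) (iv2 F399254)
theorem F508465 : act 3 n221340 = n214340 := d5_1 D221340 (iv4 D214340) F446490 (iv4 F483038) F483037
theorem F508466 : act 6 n221340 = n217616 := d10_2 F447874 D221340 F489798
theorem F508467 : act 7 n221340 = n207563 := d11_2 (iv7 F399255) D221340 (iv4 D207563)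
def n221341 : Q := act 5 n196080
theorem D221341 : act 5 n196080 = n221341 := rfl
theorem F508468 : act 2 n221341 = n205480 := d2_1 D221341 (iv5 F441270) F441269
theorem F508469 : act 3 n221341 = n196081 := d6_1 D221341 (iv5 D196081) D196080
theorem F508470 : act 6 n221341 = n198900 := d12_2 F414991 D221341 (iv5 F416237) F416235 (iv5 F414986)
theorem F508471 : act 7 n221341 = n220770 := d13_2 F441354 D221341 F505430
theorem F508472 : act 4 n221341 = n199884 := d16_4 (iv4 F375191) F441420 (iv4 F441418) D221341 (iv5 F489210) F489211 (iv5 F419280) F419281 F375189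
theorem F508473 : act 0 n221341 = n206517 := d17_2 (iv1 F441366) D221341 (iv5 D206517) F219384 D209327 F453247 (iv5 D206585) F212822 (iv4 F441362)
theorem F508474 : act 0 n205526 = n221341 := d19_0 (iv5 D221341) F441418 (iv3 F441419) (iv1 D132536) (iv5 F211881) D207710 F446109 (iv1 F405904) (iv5 D115784) (iv4 F168622) (iv3 F384967) (iv1 D191951) (iv5 F333015) F316130 (iv3 D138994) (iv1 F313644) F413143 F413141 (iv3 F436842)
def n221342 : Q := act 7 n196081
theorem D221342 : act 7 n196081 = n221342 := rfl
theorem F508475 : act 2 n221342 = n196090 := d4_1 D221342 (iv7 F436213) F436215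
theorem F508476 : act 3 n221342 = n220770 := d8_1 D221342 (iv7 F508471) F508469
theorem F508477 : act 4 n221342 = n196465 := d11_1 D221342 (iv7 F410679) (iv4 F410682)
theorem F508478 : act 5 n221342 = n196083 := d13_1 D221342 (iv7 D196083) D196081
theorem F508479 : act 6 n221342 = n214251 := d14_1 D221342 (iv7 F477448) (iv6 F478203) (iv7 F478252) F478251
theorem F508480 : act 1 n198243 = n221342 := d15_1 (iv0 F436214) (iv7 D221342) (iv2 F436215)
theorem F508481 : act 1 n221342 = n206506 := d15_1 F508480 (iv7 F441305) F441301
def n221343 : Q := act 0 n196103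
theorem D221343 : act 0 n196103 = n221343 := rfl
theorem F508482 : act 5 n221343 = n215020 := d17_3 (iv1 D196102) D196103 D221343 (iv4 D215020) (iv5 D164414) (iv0 F120140) F114326 D106742 (iv4 F399415)
theorem F508483 : act 4 n221343 = n205290 := d18_1 D221343 F435800 D205298 F435844 F333544 F164530 (iv4 F399407) (iv0 D196101) D196103
theorem F508484 : act 6 n221343 = n200093 := d21_5 (iv5 D128692) F95145 D106678 (iv6 F399421) D221343 (iv5 F435419) F445735 F445734 (iv6 F435335) (iv1 F360474)
theorem F508485 : act 2 n207614 = n221343 := d3_3 F508484 (iv2 F435421) F445682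
theorem F508486 : act 3 n219302 = n221343 := d7_3 F508484 F435420 (iv6 F498210)
theorem F508487 : act 7 n207615 = n221343 := d14_0 F508484 (iv7 F435990) (iv6 F506545) F506546 F445685
theorem F508488 : act 0 n221343 = n207616 := d21_4 (iv5 F441169) (iv1 F441170) F435419 (iv6 F508484) (iv6 F507898) F507896 F417744 (iv5 D125924) (iv6 F398107) F417006
def n221344 : Q := act 1 n196103
theorem D221344 : act 1 n196103 = n221344 := rfl
theorem F508489 : act 1 n221344 = n207616 := d15_1 D221344 (iv7 D207616) (iv2 F399420)
theorem F508490 : act 7 n221344 = n207614 := d15_2 (iv0 D221343) D221344 F508485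
theorem F508491 : act 4 n221344 = n205287 := d17_9 F435784 (iv5 D205208) (iv1 F413740) (iv5 F413745) F201914 F399410 (iv0 D196101) D196103 D221344
theorem F508492 : act 5 n196265 = n221344 := d21_0 (iv1 D221344) (iv5 D196103) (iv6 D106650) (iv1 D49277) D49278 (iv5 F95108) D128648 D206470 F440981 F440984
theorem F508493 : act 6 n220966 = n221344 := d21_3 D125934 D205425 (iv5 F506540) (iv1 D221344) F399421 (iv5 D106678) F163856 D196046 F399179 (iv1 D125933)
theorem F508494 : act 2 n221344 = n207615 := d3_1 F508493 (iv6 F445685) (iv2 F506538)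
theorem F508495 : act 3 n221344 = n219326 := d7_1 F508493 F498302 (iv3 F506543)
def n221345 : Q := act 4 n196103
theorem D221345 : act 4 n196103 = n221345 := rfl
theorem F508496 : act 2 n221345 = n205160 := d1_1 D221345 F435226 (iv2 F399420)
theorem F508497 : act 5 n221345 = n205263 := d9_2 D196103 D221345 (iv4 F479771) F479772 F380222 (iv5 F356101) F356100 (iv5 F445686) (iv4 F496728) (iv5 D219021) (iv4 D190596) (iv5 D96228) (iv4 F107025) F107026 (iv4 F164274)
theorem F508498 : act 6 n221345 = n196127 := d10_2 (iv6 F399421) D221345 (iv4 D196127)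
theorem F508499 : act 0 n221345 = n205359 := d17_0 (iv5 D205359) (iv1 F436010) F436008 F405977 D205399 (iv0 F477928) (iv5 F508482) (iv0 D221343) D221345
theorem F508500 : act 1 n221345 = n205362 := d18_6 (iv1 F399159) F338514 (iv1 D106672) (iv4 F164274) D196103 D221345 F445217 F508428 F508426
theorem F508501 : act 3 n221345 = n198082 := d19_3 (iv1 D196102) D196103 D221345 (iv1 D198082) (iv5 D108907) F79664 (iv3 D24530) D24528 (iv5 F79574) (iv4 F84247) F331529 D114509 F331455 (iv4 F367003) F158503 D103269 (iv5 F382479) D219304 F498216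
theorem F508502 : act 7 n205352 = n221345 := d8_0 F508501 F406726 D205352
def n221346 : Q := act 7 n196103
theorem D221346 : act 7 n196103 = n221346 := rfl
theorem F508503 : act 2 n221346 = n207616 := d4_1 D221346 (iv7 D207616) (iv2 F399420)
theorem F508504 : act 3 n221346 = n221331 := d8_1 D221346 F508419 (iv3 F445215)
theorem F508505 : act 4 n221346 = n205352 := d11_1 D221346 F508502 (iv4 D221345)
theorem F508506 : act 5 n221346 = n196104 := d13_1 D221346 (iv7 D196104) D196103
theorem F508507 : act 6 n221346 = n205563 := d14_1 D221346 F437006 (iv6 D205357) F360461 (iv6 F399421)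
theorem F508508 : act 1 n207615 = n221346 := d15_1 D207615 (iv7 D221346) F399420
theorem F508509 : act 1 n221346 = n207614 := d15_1 F508508 (iv7 F508490) F508494
def n221347 : Q := act 6 n196115
theorem D221347 : act 6 n196115 = n221347 := rfl
theorem F508510 : act 2 n221347 = n205413 := d3_1 D221347 (iv6 F436299) (iv2 F399487)
theorem F508511 : act 3 n221347 = n205586 := d7_1 D221347 (iv6 F483713) F483718
theorem F508512 : act 4 n221347 = n220981 := d10_1 D221347 F506625 (iv4 F399488)
theorem F508513 : act 5 n221347 = n205320 := d12_1 D221347 (iv6 D205320) (iv5 F349561) (iv6 F164304) (iv5 F399489)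
theorem F508514 : act 7 n221347 = n200744 := d14_2 D196115 D221347 (iv6 D200744) F343635 F343625
theorem F508515 : act 0 n221347 = n205191 := d21_4 F328766 (iv1 F164306) (iv5 F399489) D221347 F435351 F349556 F333469 (iv5 F417215) (iv6 D200613) (iv1 D113271)
theorem F508516 : act 0 n205189 = n221347 := d21_4 F396110 D201122 (iv5 F470830) F470831 (iv6 D221347) F399489 (iv1 F164305) (iv5 F329264) F203051 (iv1 F395857)
def n221348 : Q := act 6 n196117
theorem D221348 : act 6 n196117 = n221348 := rfl
theorem F508517 : act 2 n221348 = n200495 := d3_1 D221348 (iv6 F473463) F473462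
theorem F508518 : act 3 n221348 = n196119 := d7_1 D221348 (iv6 D196119) D196117
theorem F508519 : act 4 n221348 = n207459 := d10_1 D221348 (iv6 D207459) (iv4 F399498)
theorem F508520 : act 7 n221348 = n200484 := d14_2 (iv7 F399497) D221348 F416667 F367693 D191555
theorem F508521 : act 0 n221348 = n219467 := d21_4 (iv5 F508404) F508406 F399876 D221348 (iv6 F499026) F441066 (iv1 F333037) F333038 (iv6 F354754) F422209
theorem F508522 : act 5 n200486 = n221348 := d21_2 F417326 (iv1 F416679) (iv6 D221348) (iv1 F399499) (iv6 D190535) (iv5 F147839) F147841 (iv5 F136769) D186733 (iv1 F417330)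
theorem F508523 : act 0 n200734 = n221348 := d21_4 (iv5 D180672) (iv1 F248712) D157844 F417703 (iv6 D221348) (iv5 F399876) F399878 (iv5 D132093) D132094 F383855
def n221349 : Q := act 0 n196118
theorem D221349 : act 0 n196118 = n221349 := rfl
theorem F508524 : act 5 n221349 = n205600 := d17_1 D221349 F437170 (iv5 F399315) (iv4 D196073) (iv5 F399203) (iv0 F399207) F211653 F164358 D196118
theorem F508525 : act 4 n221349 = n200790 := d18_1 D221349 (iv1 F417912) F399839 F212546 (iv4 F333200) (iv0 D114032) D114034 (iv0 F326563) (iv5 F399503)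
theorem F508526 : act 3 n221349 = n201173 := d20_5 (iv4 F347313) (iv1 F380833) F380834 (iv3 F399501) D221349 F419328 (iv1 F177522) F333207 (iv3 F207512) (iv1 F207515)
theorem F508527 : act 2 n206704 = n221349 := d15_3 (iv0 D221349) (iv0 F446549) F446548
theorem F508528 : act 1 n196121 = n221349 := d15_0 (iv0 D221349) F399502 (iv2 F399507)
theorem F508529 : act 7 n221349 = n201172 := d15_2 (iv0 F446550) F508528 (iv2 F446544)
theorem F508530 : act 6 n219498 = n221349 := d21_9 F399508 (iv1 F251299) (iv5 F399852) F399851 (iv1 F445515) F487204 F487202 (iv1 F451582) (iv5 F499179) (iv1 F508528)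
def n221350 : Q := act 6 n196118
theorem D221350 : act 6 n196118 = n221350 := rfl
theorem F508531 : act 2 n221350 = n221226 := d3_1 D221350 F507831 (iv2 F399500)
theorem F508532 : act 3 n221350 = n206964 := d7_1 D221350 (iv6 D206964) (iv3 F399501)
theorem F508533 : act 4 n221350 = n196119 := d10_1 D221350 (iv6 D196119) D196118
theorem F508534 : act 5 n221350 = n206209 := d12_1 D221350 F475058 F475054 (iv6 D207816) (iv5 F399503)
theorem F508535 : act 0 n221350 = n200782 := d21_4 F399852 (iv1 F326564) (iv5 F399503) D221350 (iv6 F421758) (iv5 D201774) D201772 F421754 F396540 (iv1 F399853)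
theorem F508536 : act 1 n221350 = n200785 := d15_1 (iv0 F508535) (iv7 F418462) F418461
def n221351 : Q := act 4 n196120
theorem D221351 : act 4 n196120 = n221351 := rfl
theorem F508537 : act 2 n221351 = n208318 := d1_1 D221351 (iv4 F494529) F494524
theorem F508538 : act 3 n221351 = n205606 := d5_1 D221351 (iv4 D205606) (iv3 F399510) (iv4 D196121) D196120
theorem F508539 : act 7 n221351 = n221228 := d11_2 (iv7 F399506) D221351 F507842
theorem F508540 : act 0 n221351 = n206859 := d18_2 (iv1 F446014) D221351 F442442 (iv5 F358291) F364644 (iv0 D106702) (iv4 F164151) (iv0 F398950) (iv5 F446012)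
theorem F508541 : act 1 n221351 = n206933 := d18_6 F361707 D207989 F447301 (iv4 F399906) F399907 D221351 F442644 (iv0 D131821) D131824
def n221352 : Q := act 7 n196122
theorem D221352 : act 7 n196122 = n221352 := rfl
theorem F508542 : act 2 n221352 = n196126 := d4_1 D221352 (iv7 D196126) (iv2 F399511)
theorem F508543 : act 3 n221352 = n216310 := d8_1 D221352 F483774 (iv3 F399512)
theorem F508544 : act 5 n221352 = n205215 := d13_1 D221352 (iv7 F435858) (iv5 F435860)
theorem F508545 : act 6 n221352 = n216309 := d14_1 D221352 F483768 F383976 (iv7 F164360) D196122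
theorem F508546 : act 1 n196124 = n221352 := d15_1 D196124 (iv7 D221352) F399511
theorem F508547 : act 1 n221352 = n196123 := d15_1 F508546 (iv7 F504654) F504650
def n221353 : Q := act 4 n196131
theorem D221353 : act 4 n196131 = n221353 := rfl
theorem F508548 : act 2 n221353 = n218628 := d1_1 D221353 F494856 (iv2 F420655)
theorem F508549 : act 3 n221353 = n207604 := d5_1 D221353 F445649 F399351 (iv4 F343654) D196131
theorem F508550 : act 7 n221353 = n218627 := d11_2 (iv7 F399544) D221353 F494852
theorem F508551 : act 1 n221353 = n198961 := d18_6 (iv1 F492586) F469072 (iv1 D205093) D205094 F434952 D221353 F410072 D200285 (iv5 F492580)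
theorem F508552 : act 1 n211467 = n221353 := d15_0 F508551 F410074 (iv2 F461663)
theorem F508553 : act 6 n221353 = n217486 := d21_5 F360275 (iv1 F409929) F409931 D198961 (iv1 F508551) F489108 (iv1 F414568) D200021 (iv6 F429329) (iv1 F429327)
def n221354 : Q := act 6 n196131
theorem D221354 : act 6 n196131 = n221354 := rfl
theorem F508554 : act 3 n221354 = n196133 := d7_1 D221354 (iv6 D196133) D196131
theorem F508555 : act 4 n221354 = n217486 := d10_1 D221354 (iv6 F508553) (iv4 D221353)
theorem F508556 : act 5 n221354 = n209514 := d12_1 D221354 F484020 (iv5 F484019) (iv6 F484001) F434952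
theorem F508557 : act 7 n221354 = n218970 := d14_2 (iv7 F399544) D221354 (iv6 D218970) (iv7 F444119) F444122
theorem F508558 : act 0 n221354 = n218982 := d21_4 (iv5 F443838) F443846 F434952 D221354 F496521 (iv5 D209051) (iv1 F218131) (iv5 F452015) (iv6 F496361) (iv1 F496362)
def n221355 : Q := act 6 n196132
theorem D221355 : act 6 n196132 = n221355 := rfl
theorem F508559 : act 2 n221355 = n218020 := d3_1 D221355 F491731 (iv2 F399547)
theorem F508560 : act 3 n221355 = n216360 := d7_1 D221355 (iv6 F484001) F434951
theorem F508561 : act 4 n221355 = n207636 := d10_1 D221355 (iv6 D207636) (iv4 F399549)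
theorem F508562 : act 5 n221355 = n221313 := d12_1 D221355 (iv6 D221313) (iv5 F399553) (iv6 D196133) D196132
theorem F508563 : act 7 n221355 = n201782 := d14_2 (iv7 F399548) D221355 (iv6 D201782) F399565 (iv6 F396528)
theorem F508564 : act 0 n221355 = n201156 := d21_4 F114191 D106685 D196132 D221355 (iv6 D201156) (iv5 F418799) F504612 F504608 (iv6 D214396) (iv1 D159341)
theorem F508565 : act 0 n214246 = n221355 := d21_4 (iv5 F193561) D203919 (iv5 F492946) F492947 (iv6 D221355) (iv5 D196132) (iv1 F164393) (iv5 F179157) (iv6 F250854) (iv1 F250856)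
def n221356 : Q := act 5 n196135
theorem D221356 : act 5 n196135 = n221356 := rfl
theorem F508566 : act 2 n221356 = n207279 := d2_1 D221356 (iv5 F444114) (iv2 F399569)
theorem F508567 : act 3 n221356 = n212974 := d6_1 D221356 F468403 (iv3 F399570)
theorem F508568 : act 6 n221356 = n201778 := d12_2 D196135 D221356 (iv5 D201778) F399563 (iv5 D196134)
theorem F508569 : act 7 n221356 = n208123 := d13_2 F402834 D221356 F447981
theorem F508570 : act 0 n221356 = n200349 := d17_2 F399571 D221356 F416097 (iv4 F370267) F373480 F373483 (iv5 F367036) F359023 F358220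
theorem F508571 : act 1 n221356 = n208132 := d17_6 D207471 (iv5 F505068) F505070 (iv5 F445129) F445128 D221356 F448022 (iv0 D133663) (iv4 F211231)
def n221357 : Q := act 1 n196138
theorem D221357 : act 1 n196138 = n221357 := rfl
theorem F508572 : act 1 n221357 = n201590 := d15_1 D221357 F421062 (iv2 F399577)
theorem F508573 : act 7 n221357 = n208199 := d15_2 (iv0 F508275) D221357 (iv2 F508269)
theorem F508574 : act 5 n221357 = n212794 := d17_7 (iv1 D155973) (iv5 D74184) D74181 (iv5 F338517) (iv4 F338506) (iv5 F399578) D221357 (iv0 F467547) F398834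
theorem F508575 : act 4 n221357 = n205399 := d17_9 F440984 F508492 (iv1 D221344) (iv5 D196103) F164274 (iv5 F107026) D149995 (iv5 F399578) D221357
theorem F508576 : act 6 n214504 = n221357 := d21_3 (iv5 F114504) D159657 D214504 (iv1 D221357) (iv6 D196138) (iv5 F398944) (iv1 F474186) F474188 (iv6 D197058) (iv1 D107577)
theorem F508577 : act 2 n221357 = n212962 := d3_1 F508576 (iv6 F468335) (iv2 F475506)
theorem F508578 : act 3 n221357 = n218615 := d7_1 F508576 F494776 F492229
def n221358 : Q := act 3 n196139
theorem D221358 : act 3 n196139 = n221358 := rfl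
theorem F508579 : act 2 n221358 = n208134 := d0_1 D221358 (iv3 F505008) F505007 (iv3 D218455) (iv2 F399579)
theorem F508580 : act 4 n221358 = n197042 := d5_2 D196139 D221358 (iv3 D197042) F319146 F164429
theorem F508581 : act 6 n221358 = n218489 := d7_2 F494508 D221358 (iv3 F494505)
theorem F508582 : act 7 n221358 = n217024 := d8_2 (iv7 F399580) D221358 (iv3 D217024)
theorem F508583 : act 0 n221358 = n201286 := d19_4 D51055 (iv5 F164423) D196139 D221358 (iv5 F443521) (iv4 D207147) F209106 F95708 (iv5 D49979) (iv4 D24370) (iv3 D11490) (iv1 F8134) F7928 F3535 (iv3 F3526) (iv1 F3637) D5509 D11770 D24835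
theorem F508584 : act 0 n217776 = n221358 := d20_4 (iv4 D217773) (iv1 D187902) D187903 D217776 (iv3 D221358) (iv4 D196139) (iv1 F164425) (iv4 F164427) D189328 (iv1 F490550)
theorem F508585 : act 5 n221358 = n218450 := d17_1 F508584 (iv1 D218450) F493759 F493756 (iv5 F376868) (iv0 F398442) (iv5 F399103) F399863 (iv4 F490563)
def n221359 : Q := act 5 n196139
theorem D221359 : act 5 n196139 = n221359 := rfl
theorem F508586 : act 2 n221359 = n218445 := d2_1 D221359 F493929 (iv2 F399579)
theorem F508587 : act 3 n221359 = n218450 := d6_1 D221359 (iv5 F508585) (iv3 D221358)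
theorem F508588 : act 4 n221359 = n206412 := d9_1 D221359 (iv5 F440663) (iv4 F292218) (iv5 D90104) (iv4 F65295) D90426 D187653 D217622 F489823 (iv5 D212994) (iv4 D151974) (iv5 D71653) (iv4 F80506) (iv5 F164423) D196139
theorem F508589 : act 6 n221359 = n214316 := d12_2 F494508 D221359 F474539 (iv6 F492237) (iv5 F494507)
theorem F508590 : act 7 n221359 = n217025 := d13_2 (iv7 F399580) D221359 (iv5 D217025)
theorem F508591 : act 0 n221359 = n212922 := d17_2 (iv1 F399582) D221359 (iv5 D212922) (iv4 D151426) (iv5 D71387) F65520 (iv5 F69010) (iv0 F143174) D130607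
theorem F508592 : act 1 n221359 = n208119 := d17_6 F163761 F77749 D51055 (iv5 F164423) D196139 D221359 (iv5 D208119) (iv0 F398996) (iv4 D195993)
def n221360 : Q := act 4 n196140
theorem D221360 : act 4 n196140 = n221360 := rfl
theorem F508593 : act 2 n221360 = n218459 := d1_1 D221360 F493997 F447492
theorem F508594 : act 3 n221360 = n216812 := d5_1 D221360 F486020 F402809 (iv4 F465141) F465140
theorem F508595 : act 5 n221360 = n214908 := d9_2 F447456 D221360 (iv4 D214908) F257751 F320967 (iv5 D62543) (iv4 F97479) D133213 D208023 F447490 (iv4 D200808) (iv5 D113504) (iv4 F176688) F342146 (iv4 F447455)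
theorem F508596 : act 6 n221360 = n217775 := d10_2 (iv6 F447482) D221360 F490560
theorem F508597 : act 7 n221360 = n218407 := d11_2 (iv7 F447452) D221360 F493733
theorem F508598 : act 0 n221360 = n216841 := d18_2 D196140 D221360 (iv4 D216841) (iv5 D185906) (iv4 F333826) (iv0 F321698) F157536 (iv0 F82934) (iv5 F164431)
theorem F508599 : act 1 n221360 = n207207 := d18_6 F447610 (iv4 D133272) (iv1 F214238) (iv4 F447455) F447456 D221360 F443801 D207209 (iv5 F447609)
def n221361 : Q := act 7 n196144
theorem D221361 : act 7 n196144 = n221361 := rfl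
theorem F508600 : act 2 n221361 = n221316 := d4_1 D221361 (iv7 D221316) (iv2 F399602)
theorem F508601 : act 3 n221361 = n218731 := d8_1 D221361 F495365 (iv3 F399603)
theorem F508602 : act 5 n221361 = n209107 := d13_1 D221361 F452289 F418659
theorem F508603 : act 6 n221361 = n201819 := d14_1 D221361 F421901 (iv6 D195990) F349634 D196144
theorem F508604 : act 1 n214489 = n221361 := d15_1 (iv0 F475419) (iv7 D221361) F399602
theorem F508605 : act 1 n221361 = n207275 := d15_1 F508604 (iv7 F449733) (iv2 F475416)
def n221362 : Q := act 0 n196145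
theorem D221362 : act 0 n196145 = n221362 := rfl
theorem F508606 : act 5 n221362 = n208673 := d17_1 D221362 F450411 (iv5 F379845) F379844 F378473 F373514 D188458 (iv0 F379653) F399607
theorem F508607 : act 4 n221362 = n200260 := d18_1 D221362 (iv1 F447776) (iv4 F450431) (iv5 D208680) (iv4 D134910) D134909 D208677 (iv0 F451010) F451009
theorem F508608 : act 3 n221362 = n197177 := d20_5 (iv4 F164222) F325492 F364644 D196145 D221362 F403405 (iv1 D195963) (iv4 F398867) F398866 (iv1 D106693)
theorem F508609 : act 6 n221362 = n196162 := d21_5 (iv5 D140853) F320520 (iv5 F379650) (iv6 F399606) D221362 F439314 (iv1 F439311) (iv5 F398060) F379749 (iv1 F350234)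
theorem F508610 : act 2 n196169 = n221362 := d15_3 (iv0 D221362) (iv0 F399605) D196169
theorem F508611 : act 1 n196168 = n221362 := d15_0 (iv0 D221362) F399604 (iv2 F414520)
theorem F508612 : act 7 n221362 = n196163 := d15_2 D196168 F508611 F399669
def n221363 : Q := act 7 n196155
theorem D221363 : act 7 n196155 = n221363 := rfl
theorem F508613 : act 2 n221363 = n208893 := d4_1 D221363 F451291 F410009
theorem F508614 : act 3 n221363 = n207379 := d8_1 D221363 (iv7 D207379) (iv3 F399642)
theorem F508615 : act 4 n221363 = n218078 := d11_1 D221363 (iv7 F496317) F496318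
theorem F508616 : act 5 n221363 = n201888 := d13_1 D221363 (iv7 F486116) (iv5 F486119)
theorem F508617 : act 6 n221363 = n218077 := d14_1 D221363 F492052 (iv6 D207213) F209189 D196155
theorem F508618 : act 1 n219001 = n221363 := d15_1 (iv0 F496618) (iv7 D221363) (iv2 F410009)
theorem F508619 : act 1 n221363 = n218622 := d15_1 F508618 F494823 (iv2 F496613)
def n221364 : Q := act 2 n196157
theorem D221364 : act 2 n196157 = n221364 := rfl
theorem F508620 : act 3 n221364 = n214326 := d0_2 D196157 D221364 (iv2 F480995) F480996 F399635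
theorem F508621 : act 4 n221364 = n207242 := d1_2 (iv4 F421779) D221364 (iv2 F443937)
theorem F508622 : act 7 n221364 = n200259 := d4_2 (iv7 F416073) D221364 (iv2 F416070)
theorem F508623 : act 1 n221364 = n206597 := d15_0 (iv0 F441497) (iv7 F416073) D221364
theorem F508624 : act 1 n216883 = n221364 := d15_0 F508623 F441494 (iv2 F486371)
theorem F508625 : act 5 n206633 = n221364 := d17_5 F441378 (iv5 F441270) F441272 D207105 F443348 F508623 (iv5 D206597) (iv0 F395331) (iv4 F441374)
theorem F508626 : act 6 n221364 = n214324 := d21_3 F343930 D206633 F508625 F474580 (iv6 D208127) F381253 F429836 (iv5 F477976) (iv6 F477979) F444644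
def n221365 : Q := act 5 n196157
theorem D221365 : act 5 n196157 = n221365 := rfl
theorem F508627 : act 2 n221365 = n206633 := d2_1 D221365 F508625 (iv2 D221364)
theorem F508628 : act 3 n221365 = n196158 := d6_1 D221365 (iv5 D196158) D196157
theorem F508629 : act 7 n221365 = n206634 := d13_2 (iv7 F416073) D221365 (iv5 F441678)
theorem F508630 : act 4 n221365 = n218667 := d16_2 (iv4 F421779) D221365 F495055 F419172 F421782 (iv4 D201780) D201781 (iv7 F443938) (iv2 F443937)
theorem F508631 : act 0 n221365 = n206466 := d17_2 (iv1 F447819) D221365 (iv5 F444660) F444659 (iv5 F398555) F398558 F377589 F415843 (iv4 F447817)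
theorem F508632 : act 1 n221365 = n202853 := d17_6 (iv1 D130605) F95752 D115055 D201778 (iv4 F421779) D221365 F425882 D207169 F443628
theorem F508633 : act 6 n221365 = n215645 := d21_3 F447818 (iv1 F447819) D221365 F480938 F477182 F439088 F410940 (iv5 F395690) (iv6 F506096) (iv1 F506098)
def n221366 : Q := act 6 n196157
theorem D221366 : act 6 n196157 = n221366 := rfl
theorem F508634 : act 2 n221366 = n214324 := d3_1 D221366 (iv6 F508626) (iv2 D221364)
theorem F508635 : act 3 n221366 = n196159 := d7_1 D221366 (iv6 D196159) D196157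
theorem F508636 : act 4 n221366 = n221356 := d10_1 D221366 F508568 (iv4 F421779)
theorem F508637 : act 7 n221366 = n200262 := d14_2 (iv7 F416073) D221366 (iv6 D200262) (iv7 F365009) D200343
theorem F508638 : act 0 n221366 = n207182 := d21_4 (iv5 F425882) (iv1 F508632) (iv5 D221365) D221366 (iv6 D207182) (iv5 F340444) D215014 (iv5 F496704) F496707 (iv1 D207169)
theorem F508639 : act 0 n218976 = n221366 := d21_4 (iv5 D176719) F258689 (iv5 F415858) (iv6 F496483) (iv6 D221366) D221365 F508631 (iv5 F444660) F444661 (iv1 F443590)
def n221367 : Q := act 5 n196159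
theorem D221367 : act 5 n196159 = n221367 := rfl
theorem F508640 : act 2 n221367 = n204728 := d2_1 D221367 (iv5 F480991) F480994
theorem F508641 : act 4 n221367 = n204724 := d9_1 D221367 (iv5 D204724) (iv4 F377819) (iv5 F484227) F484226 (iv5 F507972) F507971 F476171 (iv4 D214639) (iv5 D160435) (iv4 F125357) D169919 (iv4 F397996) F397997 (iv4 F399654)
theorem F508642 : act 6 n221367 = n215129 := d12_2 D196159 D221367 F478503 (iv6 F399650) (iv5 D196158)
theorem F508643 : act 7 n221367 = n219169 := d16_8 (iv4 D214639) (iv5 D160435) (iv4 F125357) D169919 (iv4 F397996) F397997 (iv4 F399654) D221367 F497544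
theorem F508644 : act 0 n221367 = n219196 := d17_2 F474479 D221367 F497678 F481152 (iv5 F374777) (iv0 F418920) F418918 (iv0 F496618) F496615
def n221368 : Q := act 7 n196159
theorem D221368 : act 7 n196159 = n221368 := rfl
theorem F508645 : act 2 n221368 = n214327 := d4_1 D221368 (iv7 F480992) F480994
theorem F508646 : act 3 n221368 = n200262 := d8_1 D221368 (iv7 F508637) F508635
theorem F508647 : act 4 n221368 = n196162 := d11_1 D221368 (iv7 D196162) (iv4 F399654)
theorem F508648 : act 5 n221368 = n219169 := d13_1 D221368 (iv7 F508643) (iv5 D221367)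
theorem F508649 : act 6 n221368 = n200260 := d14_1 D221368 (iv7 F416068) (iv6 F416069) (iv7 D196160) D196159
theorem F508650 : act 1 n218746 = n221368 := d15_1 (iv0 F495461) (iv7 D221368) (iv2 F480994)
theorem F508651 : act 1 n221368 = n219002 := d15_1 F508650 (iv7 D219002) (iv2 F495457)
def n221369 : Q := act 7 n196164
theorem D221369 : act 7 n196164 = n221369 := rfl
theorem F508652 : act 2 n221369 = n218077 := d4_1 D221369 F492052 F443821
theorem F508653 : act 3 n221369 = n201395 := d8_1 D221369 F420323 F410018
theorem F508654 : act 4 n221369 = n218070 := d11_1 D221369 F492008 (iv4 F399671)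
theorem F508655 : act 5 n221369 = n216373 := d13_1 D221369 F484058 (iv5 F450659)
theorem F508656 : act 6 n221369 = n208893 := d14_1 D221369 F451291 (iv6 D198944) F171425 D196164
theorem F508657 : act 1 n208680 = n221369 := d15_1 (iv0 F450432) (iv7 D221369) (iv2 F443821)
theorem F508658 : act 1 n221369 = n211543 := d15_1 F508657 (iv7 F493086) F493083
def n221370 : Q := act 0 n196165
theorem D221370 : act 0 n196165 = n221370 := rfl
theorem F508659 : act 5 n221370 = n220905 := d17_1 D221370 F506195 (iv5 F407215) F377424 D194173 (iv0 F392251) D212473 F465968 F416123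
theorem F508660 : act 4 n221370 = n197049 := d18_1 D221370 (iv1 F402825) D215608 F481051 F481049 (iv0 D195893) D195895 F398640 (iv5 F399673)
theorem F508661 : act 6 n221370 = n207226 := d21_5 D189648 (iv1 F494813) F494815 F399674 D221370 F443892 (iv1 F477201) F477199 (iv6 D200355) F176057
theorem F508662 : act 2 n197050 = n221370 := d15_3 (iv0 D221370) (iv0 F399672) (iv7 F402827)
theorem F508663 : act 1 n214326 = n221370 := d15_0 (iv0 D221370) (iv7 F480998) F480995
theorem F508664 : act 7 n221370 = n217964 := d15_2 F474587 F508663 F491450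
def n221371 : Q := act 3 n196181
theorem D221371 : act 3 n196181 = n221371 := rfl
theorem F508665 : act 2 n221371 = n206526 := d0_1 D221371 (iv3 F477651) F477650 F395335 F399749
theorem F508666 : act 4 n221371 = n201128 := d5_2 (iv4 F399748) D221371 (iv3 F495054) (iv4 F508630) F508628
theorem F508667 : act 5 n221371 = n211869 := d6_2 (iv5 F399747) D221371 F463334
theorem F508668 : act 7 n221371 = n206523 := d8_2 (iv7 F399746) D221371 F441190
theorem F508669 : act 0 n221371 = n212188 := d19_4 F376127 D196158 (iv4 F399748) D221371 F464682 (iv4 F397243) D210089 (iv1 F462744) F462742 F397731 F413801 F411614 (iv5 D189420) D189419 D218515 F494244 F430965 (iv4 F430191) (iv3 F430189)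
theorem F508670 : act 0 n220931 = n221371 := d20_4 (iv4 F408153) F408156 (iv4 F413718) (iv3 F506337) (iv3 D221371) F399748 (iv1 F399652) (iv4 F477765) F477764 (iv1 F407946)
def n221372 : Q := act 5 n196186
theorem D221372 : act 5 n196186 = n221372 := rfl
theorem F508671 : act 2 n221372 = n197020 := d2_1 D221372 (iv5 F415837) F415835
theorem F508672 : act 3 n221372 = n196213 := d6_1 D221372 (iv5 D196213) (iv3 F399782)
theorem F508673 : act 4 n221372 = n207466 := d9_1 D221372 F445064 F442088 F336577 (iv4 F129387) D176875 F356894 F175887 (iv4 F402702) (iv5 F442278) (iv4 D206812) F336560 (iv4 F359859) (iv5 F379781) (iv4 F399783)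
theorem F508674 : act 6 n221372 = n201168 := d12_2 D196186 D221372 F419314 F177510 (iv5 F164517)
theorem F508675 : act 7 n221372 = n196188 := d13_2 (iv7 F399784) D221372 (iv5 D196188)
theorem F508676 : act 0 n221372 = n197019 := d17_2 F415829 D221372 (iv5 F402708) F378597 F364274 F261156 (iv5 F447763) F447766 (iv4 F415825)
theorem F508677 : act 1 n221372 = n197018 := d17_6 (iv1 F378495) F346848 (iv1 F359856) (iv5 F379781) (iv4 F399783) D221372 F402703 (iv0 F481114) (iv4 D215684)
def n221373 : Q := act 6 n196191
theorem D221373 : act 6 n196191 = n221373 := rfl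
theorem F508678 : act 2 n221373 = n218439 := d3_1 D221373 (iv6 D218439) F399805
theorem F508679 : act 3 n221373 = n214958 := d7_1 D221373 F477633 F399806
theorem F508680 : act 4 n221373 = n208114 := d10_1 D221373 (iv6 D208114) (iv4 F399804)
theorem F508681 : act 5 n221373 = n218546 := d12_1 D221373 (iv6 D218546) F494055 (iv6 D218471) F399807
theorem F508682 : act 7 n221373 = n218509 := d14_2 (iv7 F399803) D221373 (iv6 D218509) (iv7 F493740) F493739
theorem F508683 : act 0 n221373 = n196205 := d21_4 D189329 (iv1 F376421) F399807 D221373 (iv6 F494294) (iv5 F494330) F494332 F494071 F376657 (iv1 F376188)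
theorem F508684 : act 0 n218426 = n221373 := d21_4 F493787 (iv1 D217864) (iv5 F376265) D218426 (iv6 D221373) (iv5 F399807) F376420 (iv5 D189326) D189327 F493791
def n221374 : Q := act 5 n196196
theorem D221374 : act 5 n196196 = n221374 := rfl
theorem F508685 : act 2 n221374 = n207607 := d2_1 D221374 (iv5 D207607) (iv2 F399828)
theorem F508686 : act 0 n221374 = n219325 := d17_2 F498220 D221374 (iv5 D219325) (iv4 D191170) F382338 F392741 (iv5 F497095) F497098 D219304
theorem F508687 : act 1 n221374 = n219326 := d17_6 (iv1 F294704) (iv5 F355416) (iv1 D126932) D126933 (iv4 F399829) D221374 (iv5 D219326) F477348 F477345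
def n221375 : Q := act 4 n196197
theorem D221375 : act 4 n196197 = n221375 := rfl
theorem F508688 : act 7 n221375 = n207605 := d11_2 (iv7 F399831) D221375 (iv4 D207605)
theorem F508689 : act 0 n221375 = n221327 := d18_2 F494314 D221375 (iv4 D221327) F399148 (iv4 F216261) (iv0 F216262) F211605 F399300 (iv5 F494312)
theorem F508690 : act 1 n221375 = n221325 := d18_6 D106569 F380025 (iv1 D190536) (iv4 F380020) (iv5 F399830) D221375 (iv4 D221325) (iv0 D196036) (iv5 D106572)
def n221376 : Q := act 4 n196204
theorem D221376 : act 4 n196204 = n221376 := rfl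
theorem F508691 : act 2 n221376 = n196205 := d1_1 D221376 (iv4 D196205) D196204
theorem F508692 : act 3 n221376 = n218427 := d5_1 D221376 F493830 (iv3 F444101) F444102 (iv3 F399867)
theorem F508693 : act 5 n221376 = n200407 := d9_2 F411620 D221376 (iv4 D200407) (iv5 F396280) D208061 F447695 F398452 (iv5 F163789) D196024 (iv5 F447696) (iv4 D200404) F377579 D208060 (iv5 F480507) F480506
theorem F508694 : act 6 n221376 = n218586 := d10_2 F491263 D221376 F494620
theorem F508695 : act 7 n221376 = n218426 := d11_2 (iv7 F399868) D221376 F493828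
theorem F508696 : act 0 n221376 = n218509 := d17_0 F494218 F477755 (iv5 D189451) (iv4 F144878) (iv5 F290595) F290592 (iv5 F376905) F399870 D221376
theorem F508697 : act 1 n221376 = n218439 := d18_6 F506742 (iv4 F457080) F480509 F480506 F411620 D221376 F493903 (iv0 F402800) (iv5 F506740)
def n221377 : Q := act 2 n196207
theorem D221377 : act 2 n196207 = n221377 := rfl
theorem F508698 : act 3 n221377 = n196235 := d0_2 D196207 D221377 F400002 (iv3 D196022) (iv2 F164560)
theorem F508699 : act 4 n221377 = n207536 := d1_2 (iv4 F494035) D221377 (iv2 F494038)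
theorem F508700 : act 5 n221377 = n214099 := d2_2 (iv5 F399876) D221377 F473462
theorem F508701 : act 6 n221377 = n196234 := d3_2 F494299 D221377 (iv2 F494297)
theorem F508702 : act 7 n221377 = n207597 := d4_2 (iv7 F399877) D221377 (iv2 F445623)
theorem F508703 : act 1 n221377 = n207485 := d15_0 (iv0 F445115) (iv7 F399877) D221377
theorem F508704 : act 1 n207596 = n221377 := d15_0 F508703 (iv7 F445116) (iv2 F445618)
def n221378 : Q := act 4 n196241
theorem D221378 : act 4 n196241 = n221378 := rfl
theorem F508705 : act 2 n221378 = n206478 := d1_1 D221378 (iv4 D206478) F400023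
theorem F508706 : act 3 n221378 = n207836 := d5_1 D221378 F446651 F347282 D206476 F441011
theorem F508707 : act 5 n221378 = n218274 := d9_2 (iv5 F400021) D221378 F493070 (iv5 D207191) F413981 (iv5 D199886) F173977 D195096 (iv4 F445810) (iv5 F493073) F493072 F420015 D207192 (iv5 F443732) F395186
theorem F508708 : act 6 n221378 = n201175 := d10_2 F504653 D221378 (iv4 F504651)
theorem F508709 : act 7 n221378 = n206477 := d11_2 F400024 D221378 (iv4 D206477)
theorem F508710 : act 1 n221378 = n206878 := d18_6 F508474 F508472 (iv1 F413970) F395186 (iv5 F400021) D221378 (iv4 F442486) (iv0 F441806) F441805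
def n221379 : Q := act 0 n196245
theorem D221379 : act 0 n196245 = n221379 := rfl
theorem F508711 : act 5 n221379 = n205763 := d17_1 D221379 (iv1 F437769) (iv5 F437031) (iv4 D205570) (iv5 F395807) F395809 F330396 (iv0 F218486) D196245
theorem F508712 : act 4 n221379 = n200850 := d18_1 D221379 (iv1 F418144) (iv4 F349612) (iv5 F343603) (iv4 F349611) (iv0 D113561) D113563 D200857 (iv5 F418177)
theorem F508713 : act 3 n221379 = n205765 := d20_5 (iv4 F97214) (iv1 F208440) F208362 (iv3 F400035) D221379 F437780 (iv1 F212699) F208154 F203547 (iv1 F97066)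
theorem F508714 : act 2 n205763 = n221379 := d15_3 (iv0 D221379) F437354 (iv7 F437767)
theorem F508715 : act 1 n196248 = n221379 := d15_0 (iv0 D221379) F400036 (iv2 F400046)
theorem F508716 : act 7 n221379 = n205778 := d15_2 (iv0 F437355) F508715 F437840
theorem F508717 : act 6 n212089 = n221379 := d21_9 F418174 (iv1 F418183) (iv5 D200858) (iv6 F396129) (iv1 F421632) (iv6 F445460) F464282 (iv1 D212087) D212089 (iv1 F508715)
def n221380 : Q := act 6 n196248
theorem D221380 : act 6 n196248 = n221380 := rfl
theorem F508718 : act 2 n221380 = n207111 := d3_1 D221380 (iv6 D207111) (iv2 F400046)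
theorem F508719 : act 3 n221380 = n205785 := d7_1 D221380 (iv6 D205785) (iv3 F400047)
theorem F508720 : act 4 n221380 = n196249 := d10_1 D221380 (iv6 D196249) D196248
theorem F508721 : act 7 n221380 = n219514 := d14_2 (iv7 F400048) D221380 F507740 (iv7 F489806) (iv6 D205779)
theorem F508722 : act 1 n217074 = n221380 := d15_1 (iv0 F487275) F508721 (iv2 F507738)
theorem F508723 : act 1 n221380 = n219515 := d15_1 F508722 F507735 F507731
def n221381 : Q := act 1 n196249
theorem D221381 : act 1 n196249 = n221381 := rfl
theorem F508724 : act 1 n221381 = n206571 := d15_1 D221381 (iv7 F441389) (iv2 F400049)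
theorem F508725 : act 7 n221381 = n206572 := d15_2 (iv0 F435412) D221381 (iv2 D206572)
theorem F508726 : act 4 n221381 = n208960 := d17_9 (iv1 D208960) D208961 F451577 F447088 (iv4 D207496) (iv5 F439307) (iv0 F499354) F499351 D221381
theorem F508727 : act 3 n206574 = n221381 := d20_3 D206617 (iv1 F441599) (iv4 F441392) (iv1 D221381) F443355 (iv4 F449498) F449500 (iv4 F417129) (iv3 F436972) F436973
theorem F508728 : act 6 n196258 = n221381 := d21_3 (iv5 D195244) D195241 (iv5 F400082) (iv1 D221381) (iv6 D196249) F343567 F161330 D106228 F163239 (iv1 F396444)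
theorem F508729 : act 2 n221381 = n205254 := d3_1 F508728 F435622 F400083
def n221382 : Q := act 7 n196249
theorem D221382 : act 7 n196249 = n221382 := rfl
theorem F508730 : act 2 n221382 = n206571 := d4_1 D221382 (iv7 F441389) (iv2 F400049)
theorem F508731 : act 3 n221382 = n210293 := d8_1 D221382 F456889 (iv3 F443355)
theorem F508732 : act 4 n221382 = n219514 := d11_1 D221382 (iv7 F508721) F508720
theorem F508733 : act 5 n221382 = n206114 := d13_1 D221382 (iv7 F499353) F499351
theorem F508734 : act 6 n221382 = n206559 := d14_1 D221382 F441328 (iv6 D205569) (iv7 F343568) D196249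
theorem F508735 : act 1 n205254 = n221382 := d15_1 (iv0 F435624) (iv7 D221382) F400049
theorem F508736 : act 1 n221382 = n206572 := d15_1 F508735 (iv7 F508725) F508729
def n221383 : Q := act 5 n196254
theorem D221383 : act 5 n196254 = n221383 := rfl
def n221384 : Q := act 5 n196255
theorem D221384 : act 5 n196255 = n221384 := rfl
theorem F508737 : act 3 n221384 = n197672 := d6_1 D221384 F405322 (iv3 F400079)
theorem F508738 : act 4 n221384 = n204966 := d16_2 F400078 D221384 F434385 (iv4 D196150) (iv5 D106704) (iv4 F164151) D196052 (iv7 F399218) (iv2 F399337)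
def n221385 : Q := act 0 n196256
theorem D221385 : act 0 n196256 = n221385 := rfl
theorem F508739 : act 5 n221385 = n221228 := d17_1 D221385 (iv1 F507844) (iv5 F506873) F506874 F432900 (iv0 F401660) (iv5 F366892) F412326 F412320
theorem F508740 : act 4 n221385 = n212132 := d18_3 D199480 F412320 D221385 F464445 F463402 (iv0 F376780) (iv4 F405877) (iv0 D197817) (iv5 F172793)
theorem F508741 : act 6 n221385 = n212108 := d21_5 (iv5 D218263) F375112 D217568 F489539 D221385 F464352 F418534 D206594 (iv6 F475095) (iv1 F493026)
theorem F508742 : act 1 n196259 = n221385 := d15_0 (iv0 D221385) (iv7 F447291) F447289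
def n221386 : Q := act 1 n196256
theorem D221386 : act 1 n196256 = n221386 := rfl
theorem F508743 : act 1 n221386 = n196259 := d15_1 D221386 (iv7 F506871) F506869
theorem F508744 : act 5 n221386 = n208318 := d17_7 (iv1 D133390) (iv5 F211428) F370128 (iv5 D106836) D106835 D196256 D221386 F448895 F445961
theorem F508745 : act 3 n197676 = n221386 := d19_19 (iv1 D221386) (iv5 D196256) (iv4 D106835) (iv3 F213163) F213161 (iv5 F399352) (iv4 F445649) (iv3 F508549) (iv1 F508552) F461665 (iv4 F459427) F459426 (iv1 F412859) (iv5 F412863) F404409 F222767 (iv1 F222789) F372901 D197676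
theorem F508746 : act 4 n221386 = n218277 := d5_2 D197676 F508745 (iv3 F493078) F479183 (iv3 F372902)
def n221387 : Q := act 0 n196257
theorem D221387 : act 0 n196257 = n221387 := rfl
theorem F508747 : act 5 n221387 = n201715 := d17_1 D221387 F421520 (iv5 F421627) F421628 (iv5 D195249) F396429 (iv5 F400082) (iv0 D196258) (iv4 F400080)
theorem F508748 : act 4 n221387 = n201125 := d18_1 D221387 (iv1 D201125) D201126 F419183 (iv4 D114910) F83769 D115008 F179087 F400081
theorem F508749 : act 6 n221387 = n219515 := d21_5 (iv5 F508744) (iv1 D221386) (iv5 D196256) D196257 D221387 (iv5 F506820) F506826 F499343 (iv6 F499135) (iv1 F448895)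
theorem F508750 : act 2 n219516 = n221387 := d15_3 (iv0 D221387) F507725 F507723
theorem F508751 : act 1 n201141 = n221387 := d15_0 (iv0 D221387) (iv7 F421614) F421612
theorem F508752 : act 7 n221387 = n221235 := d15_2 (iv0 F507724) F508751 F507877
def n221388 : Q := act 0 n196260
theorem D221388 : act 0 n196260 = n221388 := rfl
theorem F508753 : act 5 n221388 = n205684 := d17_1 D221388 (iv1 D205684) D205685 F437455 (iv5 D189818) F328127 D125777 F359015 (iv4 F400087)
theorem F508754 : act 4 n221388 = n216109 := d18_3 (iv1 D196261) (iv4 F400087) D221388 (iv5 D216109) F281207 (iv0 F135893) F135891 D157786 F400091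
theorem F508755 : act 2 n216393 = n221388 := d15_3 (iv0 D221388) (iv0 F447101) (iv7 F484150)
theorem F508756 : act 1 n216394 = n221388 := d15_0 (iv0 D221388) (iv7 F400088) D216394
theorem F508757 : act 7 n221388 = n212676 := d15_2 F484159 F508756 F467004
theorem F508758 : act 6 n221238 = n221388 := d10_0 F508754 F482998 D221238
def n221389 : Q := act 5 n196266
theorem D221389 : act 5 n196266 = n221389 := rfl
theorem F508759 : act 2 n221389 = n215736 := d2_1 D221389 (iv5 F496477) F496475
theorem F508760 : act 3 n221389 = n196267 := d6_1 D221389 (iv5 D196267) D196266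
theorem F508761 : act 6 n221389 = n215530 := d12_2 (iv6 F400110) D221389 F480349 (iv6 F361880) (iv5 F382778)
theorem F508762 : act 7 n221389 = n200496 := d13_2 (iv7 F400111) D221389 (iv5 F416744)
theorem F508763 : act 4 n221389 = n200499 := d16_2 (iv4 F400109) D221389 (iv5 F442171) (iv4 F447608) F447609 F443803 F491000 F490997 (iv2 F490996)
theorem F508764 : act 1 n221389 = n207975 := d17_6 (iv1 D189531) F144858 D189453 F400112 (iv4 F400109) D221389 (iv5 F447229) F494580 (iv4 D218578)
theorem F508765 : act 0 n221389 = n200740 := d21_1 D221389 (iv5 F477385) (iv6 D214909) (iv1 F417986) (iv6 F417989) (iv5 D196065) (iv1 F164180) (iv5 F354693) D207488 F445122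
def n221390 : Q := act 1 n196272
theorem D221390 : act 1 n196272 = n221390 := rfl
theorem F508766 : act 1 n221390 = n214303 := d15_1 D221390 (iv7 F477615) F477612
theorem F508767 : act 7 n221390 = n215653 := d15_2 (iv0 F433319) D221390 F480974
theorem F508768 : act 4 n221390 = n214355 := d18_7 (iv1 F382769) (iv4 F498399) (iv1 F498401) (iv4 D215298) F365634 (iv4 F400147) D221390 (iv0 F474729) F474541
theorem F508769 : act 3 n214691 = n221390 := d20_3 F191540 D160616 D214691 (iv1 D221390) F400146 F164674 D106859 (iv4 F170696) D197716 F405493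
theorem F508770 : act 6 n215397 = n221390 := d21_3 (iv5 F466004) F466005 (iv5 F479778) (iv1 D221390) (iv6 D196272) F164671 (iv1 F373142) (iv5 D109037) D109038 D198203
theorem F508771 : act 2 n221390 = n214626 := d3_1 F508770 (iv6 F482262) F482257
def n221391 : Q := act 5 n196272
theorem D221391 : act 5 n196272 = n221391 := rfl
theorem F508772 : act 3 n221391 = n196273 := d6_1 D221391 (iv5 D196273) (iv3 F400146)
theorem F508773 : act 6 n221391 = n198315 := d12_2 D196272 D221391 (iv5 D198315) (iv6 D109186) (iv5 F164671)
theorem F508774 : act 0 n221391 = n219154 := d17_2 (iv1 D221390) D221391 F497461 F474502 F474499 D219344 F498385 (iv0 F495193) (iv4 F508768)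
def n221392 : Q := act 4 n196273
theorem D221392 : act 4 n196273 = n221392 := rfl
theorem F508775 : act 2 n221392 = n200867 := d1_1 D221392 (iv4 D200867) (iv2 F400148)
theorem F508776 : act 5 n221392 = n208460 := d9_2 D196273 D221392 F449455 F216353 (iv4 F164171) F164172 (iv4 F168716) D197959 (iv4 F476271) (iv5 F476272) (iv4 D208279) (iv5 D134051) F98263 F80575 (iv4 F164674)
theorem F508777 : act 6 n221392 = n198319 := d10_2 (iv6 F400149) D221392 (iv4 D198319)
theorem F508778 : act 7 n221392 = n208459 := d11_2 F413095 D221392 F449449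
theorem F508779 : act 0 n221392 = n199673 := d17_0 F413079 (iv1 F360054) (iv5 F343781) (iv4 F343765) F173241 F172750 (iv5 F343768) (iv0 F400150) D221392
theorem F508780 : act 1 n221392 = n199676 := d18_6 (iv1 F167991) (iv4 F167996) F167994 (iv4 F164674) D196273 D221392 (iv4 D199676) F173129 F168715
def n221393 : Q := act 6 n196274
theorem D221393 : act 6 n196274 = n221393 := rfl
theorem F508781 : act 2 n221393 = n215780 := d3_1 D221393 F481543 F438145
theorem F508782 : act 3 n221393 = n196275 := d7_1 D221393 (iv6 D196275) D196274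
theorem F508783 : act 4 n221393 = n210152 := d10_1 D221393 (iv6 D210152) (iv4 F400154)
theorem F508784 : act 5 n221393 = n204666 := d12_1 D221393 F433197 (iv5 F407255) F407256 (iv5 F400152)
theorem F508785 : act 7 n221393 = n215782 := d14_2 (iv7 F400153) D221393 (iv6 F481555) F459257 (iv6 D210911)
theorem F508786 : act 0 n221393 = n214237 := d21_4 (iv5 F412905) (iv1 D199626) (iv5 F400152) D221393 (iv6 D214237) (iv5 F359318) F344026 (iv5 F338941) (iv6 D137659) D137655
theorem F508787 : act 0 n218605 = n221393 := d21_4 D210156 (iv1 F456399) D214191 (iv6 F494716) (iv6 D221393) F400152 D199625 F412899 D210140 (iv1 F456325)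
def n221394 : Q := act 1 n196280
theorem D221394 : act 1 n196280 = n221394 := rfl
theorem F508788 : act 1 n221394 = n202469 := d15_1 D221394 (iv7 F462715) F462709
theorem F508789 : act 7 n221394 = n202451 := d15_2 (iv0 F400183) D221394 F424059
theorem F508790 : act 5 n221394 = n199721 := d17_7 D141234 D211229 F460712 (iv5 F457939) F457938 F457523 D221394 (iv0 D199721) F173200
theorem F508791 : act 4 n219927 = n221394 := d20_0 (iv1 D221394) F400181 (iv3 D115366) (iv1 D53219) (iv3 F84056) (iv4 F179562) D201970 F464122 D213220 (iv1 F501230)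
theorem F508792 : act 3 n218190 = n221394 := d20_3 (iv4 F352720) D193164 (iv4 F492615) (iv1 D221394) (iv3 D196280) (iv4 F167974) (iv1 D108601) (iv4 F167965) (iv3 F352723) (iv1 D128037)
theorem F508793 : act 2 n221394 = n202468 := d0_1 F508792 F424128 (iv2 F399023) F375249 F492616
theorem F508794 : act 6 n200123 = n221394 := d3_0 F508793 F424131 (iv2 F415129)
def n221395 : Q := act 4 n196293
theorem D221395 : act 4 n196293 = n221395 := rfl
theorem F508795 : act 2 n221395 = n202620 := d1_1 D221395 (iv4 D202620) (iv2 F400254)
theorem F508796 : act 3 n221395 = n197428 := d5_1 D221395 (iv4 D197428) F404246 (iv4 F407302) F407301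
theorem F508797 : act 5 n221395 = n202003 := d9_2 D196293 D221395 F422686 F331026 D136200 (iv5 F331028) (iv4 F164719) D196291 (iv4 F444562) F444563 F422771 F350326 D136195 F350328 (iv4 F204066)
theorem F508798 : act 6 n221395 = n214780 := d10_2 (iv6 F400255) D221395 (iv4 D214780)
theorem F508799 : act 7 n221395 = n202617 := d11_2 (iv7 F400256) D221395 (iv4 D202617)
theorem F508800 : act 0 n221395 = n202052 := d17_0 F422806 F180001 (iv5 F330554) F165182 D107200 F331791 F331023 (iv0 F400257) D221395
theorem F508801 : act 1 n221395 = n209279 := d18_6 (iv1 F164753) (iv4 F206702) (iv1 F206705) (iv4 F204066) D196293 D221395 F453022 F413651 (iv5 D116117)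
def n221396 : Q := act 5 n196294
theorem D221396 : act 5 n196294 = n221396 := rfl
theorem F508802 : act 2 n221396 = n213729 := d2_1 D221396 (iv5 D213729) F400261
theorem F508803 : act 3 n221396 = n196295 := d6_1 D221396 (iv5 D196295) D196294
theorem F508804 : act 7 n221396 = n202630 := d13_2 (iv7 F400260) D221396 (iv5 D202630)
theorem F508805 : act 4 n221396 = n202999 := d16_2 (iv4 F400258) D221396 (iv5 D202999) (iv4 F355560) (iv5 F330805) D198904 (iv5 F428757) (iv7 F438649) (iv2 D205969)
theorem F508806 : act 0 n214854 = n221396 := d19_0 (iv5 D221396) F400258 (iv3 D126854) (iv1 F203784) (iv5 F402869) F402868 F168505 (iv1 F168539) F354401 (iv4 F354400) F354407 (iv1 F395003) (iv5 D111610) D111609 (iv3 F174509) (iv1 F174510) D198607 (iv4 F482285) F482284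
def n221397 : Q := act 6 n196295
theorem D221397 : act 6 n196295 = n221397 := rfl
theorem F508807 : act 2 n221397 = n202626 := d3_1 D221397 (iv6 D202626) (iv2 F400264)
theorem F508808 : act 4 n221397 = n201945 := d10_1 D221397 (iv6 D201945) (iv4 F400266)
theorem F508809 : act 5 n221397 = n204202 := d12_1 D221397 F431467 (iv5 D138781) (iv6 F164730) D196295
theorem F508810 : act 7 n221397 = n204492 := d14_2 (iv7 F400265) D221397 F432702 F431786 F344435
theorem F508811 : act 0 n221397 = n196915 := d21_4 (iv5 D106891) F164732 D196295 D221397 (iv6 D196915) F180732 (iv1 F386484) F386486 F386492 F223765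
def n221398 : Q := act 2 n196297
theorem D221398 : act 2 n196297 = n221398 := rfl
theorem F508812 : act 3 n221398 = n202629 := d0_2 D196297 D221398 (iv2 D202629) (iv3 D116122) (iv2 F164739)
theorem F508813 : act 4 n221398 = n196695 := d1_2 (iv4 F400273) D221398 (iv2 D196695)
theorem F508814 : act 7 n221398 = n196341 := d4_2 (iv7 F400274) D221398 (iv2 F400401)
theorem F508815 : act 1 n221398 = n196342 := d15_0 (iv0 F410942) (iv7 F400274) D221398
theorem F508816 : act 1 n196335 = n221398 := d15_0 F508815 (iv7 D196342) (iv2 F400369)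
def n221399 : Q := act 5 n196297
theorem D221399 : act 5 n196297 = n221399 := rfl
theorem F508817 : act 3 n221399 = n196298 := d6_1 D221399 (iv5 D196298) D196297
theorem F508818 : act 7 n221399 = n202624 := d13_2 (iv7 F400274) D221399 (iv5 D202624)
theorem F508819 : act 0 n221399 = n196630 := d21_7 F502152 (iv1 F388278) F404907 (iv6 F479014) F479013 (iv6 F431929) D221399 (iv5 F401716) (iv6 F501274) (iv1 F502154)
def n221400 : Q := act 6 n196299
theorem D221400 : act 6 n196299 = n221400 := rfl
theorem F508820 : act 2 n221400 = n197582 := d3_1 D221400 F404909 F400280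
theorem F508821 : act 3 n221400 = n196302 := d7_1 D221400 (iv6 D196302) D196299
theorem F508822 : act 4 n221400 = n199037 := d10_1 D221400 (iv6 D199037) (iv4 F400279)
theorem F508823 : act 5 n221400 = n197570 := d12_1 D221400 (iv6 D197570) (iv5 F337621) D193065 F400281
theorem F508824 : act 7 n221400 = n220369 := d14_2 (iv7 F400278) D221400 (iv6 F503447) (iv7 F405235) F405234
theorem F508825 : act 0 n221400 = n219921 := d21_4 (iv5 F387684) F388646 F400281 D221400 (iv6 D219921) (iv5 F470114) F470115 (iv5 F406571) F406574 (iv1 D192948)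
theorem F508826 : act 0 n219714 = n221400 := d21_4 D192912 F388193 F385632 (iv6 F500218) (iv6 D221400) (iv5 F400281) (iv1 F388645) (iv5 F387688) (iv6 F385090) (iv1 F385091)
def n221401 : Q := act 4 n196301
theorem D221401 : act 4 n196301 = n221401 := rfl
theorem F508827 : act 2 n221401 = n212617 := d1_1 D221401 F466718 F405334
theorem F508828 : act 3 n221401 = n207044 := d5_1 D221401 F443097 F388476 (iv4 F388643) (iv3 F400282)
theorem F508829 : act 6 n221401 = n220141 := d10_2 F400284 D221401 F502329
theorem F508830 : act 7 n221401 = n220170 := d11_2 (iv7 F400283) D221401 F502460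
theorem F508831 : act 0 n221401 = n219535 := d18_2 F400285 D221401 F499315 (iv5 F424068) (iv4 F463106) (iv0 F463109) (iv4 D197845) (iv0 D108709) (iv5 F164789)
def n221402 : Q := act 4 n196307
theorem D221402 : act 4 n196307 = n221402 := rfl
theorem F508832 : act 3 n221402 = n199202 := d5_1 D221402 (iv4 D199202) (iv3 F411129) (iv4 F457894) F457893
theorem F508833 : act 5 n221402 = n210224 := d16_1 D221402 F456645 D210233 (iv4 F507490) F507491 F422540 F400471 (iv7 F406019) F406021
def n221403 : Q := act 0 n196309
theorem D221403 : act 0 n196309 = n221403 := rfl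
theorem F508834 : act 5 n221403 = n219536 := d17_3 F445969 F441884 D221403 (iv4 D219536) D219537 F499326 (iv5 F487100) (iv0 F487101) F460820
theorem F508835 : act 4 n221403 = n211022 := d18_3 (iv1 D196308) D196309 D221403 (iv5 D211022) (iv4 F223685) (iv0 D105559) (iv4 F162126) D195383 F400471
theorem F508836 : act 3 n221403 = n201812 := d20_5 (iv4 D198177) (iv1 D108998) D108999 (iv3 F400293) D221403 F421868 (iv1 F398261) (iv4 F446557) F446556 (iv1 F407118)
theorem F508837 : act 2 n211024 = n221403 := d15_3 (iv0 D221403) (iv0 F456844) (iv7 F459782)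
def n221404 : Q := act 5 n196311
theorem D221404 : act 5 n196311 = n221404 := rfl
theorem F508838 : act 2 n221404 = n210288 := d2_1 D221404 (iv5 F506977) F506975
theorem F508839 : act 3 n221404 = n200504 := d6_1 D221404 F416761 (iv3 F400295)
theorem F508840 : act 4 n221404 = n209289 := d9_1 D221404 F453056 (iv4 F437985) (iv5 F503220) F503219 (iv5 F453203) F453201 F424762 (iv4 D138115) (iv5 D64892) (iv4 F93869) D126749 F396735 (iv5 F453207) (iv4 F453208)
theorem F508841 : act 6 n221404 = n212141 := d12_2 F400296 D221404 F492973 (iv6 D218253) (iv5 F384825)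
theorem F508842 : act 7 n221404 = n209288 := d13_2 F506997 D221404 (iv5 F506995)
theorem F508843 : act 1 n221404 = n210286 := d17_6 D197408 F404170 (iv1 F396734) (iv5 F453207) (iv4 F453208) D221404 F458584 (iv0 F458585) F404169
theorem F508844 : act 1 n210287 = n221404 := d15_0 F508843 (iv7 F456856) (iv2 F456860)
def n221405 : Q := act 5 n196315
theorem D221405 : act 5 n196315 = n221405 := rfl
theorem F508845 : act 2 n221405 = n206342 := d2_1 D221405 F440337 F400304
theorem F508846 : act 3 n221405 = n220815 := d6_1 D221405 F505674 F484714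
theorem F508847 : act 6 n221405 = n196914 := d12_2 (iv6 F406926) D221405 F402268 F406949 (iv5 D198129)
theorem F508848 : act 7 n221405 = n206343 := d13_2 F449864 D221405 (iv5 F449866)
theorem F508849 : act 0 n221405 = n196923 := d17_2 D196315 D221405 F402307 (iv4 D196376) D196377 (iv0 F407139) (iv5 D198185) (iv0 D109005) (iv4 F164751)
theorem F508850 : act 1 n221405 = n206344 := d17_6 D114529 (iv5 F351119) F407379 (iv5 F407378) (iv4 F400305) D221405 F440340 (iv0 F360790) F331535
theorem F508851 : act 4 n221405 = n220750 := d18_5 (iv1 F373408) F164718 D109093 (iv4 F400305) D221405 F505311 (iv4 D196574) F365891 (iv5 F373412)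
def n221406 : Q := act 5 n196316
theorem D221406 : act 5 n196316 = n221406 := rfl
theorem F508852 : act 2 n221406 = n206343 := d2_1 D221406 (iv5 F449866) (iv2 F449867)
theorem F508853 : act 3 n221406 = n196583 := d6_1 D221406 F401146 F400302
theorem F508854 : act 6 n221406 = n212149 := d12_2 F482860 D221406 F464499 F472541 (iv5 F482859)
theorem F508855 : act 7 n221406 = n206342 := d13_2 F400303 D221406 F440337
theorem F508856 : act 0 n221406 = n206344 := d17_2 (iv1 F440367) D221406 F440340 (iv4 F343156) F343157 (iv0 F387522) F387519 (iv0 F405410) (iv4 F440365)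
theorem F508857 : act 1 n221406 = n196923 := d17_6 (iv1 F351128) D192744 F398970 F398966 (iv4 F400300) D221406 F402307 F459446 F459444
theorem F508858 : act 4 n221406 = n220749 := d18_5 F345140 (iv4 F159469) F360004 (iv4 F400300) D221406 (iv0 D220749) F393257 F351316 D107090
def n221407 : Q := act 7 n196319
theorem D221407 : act 7 n196319 = n221407 := rfl
theorem F508859 : act 2 n221407 = n196656 := d4_1 D221407 (iv7 F422776) F422774
theorem F508860 : act 3 n221407 = n202217 := d8_1 D221407 (iv7 F502595) F502590
theorem F508861 : act 4 n221407 = n196320 := d11_1 D221407 (iv7 D196320) D196319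
theorem F508862 : act 5 n221407 = n205885 := d13_1 D221407 F438265 (iv5 F400309)
theorem F508863 : act 1 n196654 = n221407 := d15_1 F422779 (iv7 D221407) (iv2 F422774)
theorem F508864 : act 1 n221407 = n196657 := d15_1 F508863 (iv7 D196657) (iv2 F401363)
def n221408 : Q := act 4 n196323
theorem D221408 : act 4 n196323 = n221408 := rfl
theorem F508865 : act 2 n221408 = n198801 := d1_1 D221408 F409312 (iv2 F400329)
theorem F508866 : act 3 n221408 = n199762 := d5_1 D221408 (iv4 F413380) F178123 (iv4 F178305) (iv3 F400330)
theorem F508867 : act 5 n221408 = n211118 := d9_2 D196323 D221408 F460174 F401312 (iv4 F455503) F455504 F220709 D196321 F400318 (iv5 F412422) F412421 (iv5 F418026) F418025 (iv5 F345439) F218893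
theorem F508868 : act 6 n221408 = n199805 := d10_2 (iv6 F400331) D221408 F413581
theorem F508869 : act 7 n221408 = n199766 := d11_2 (iv7 F400332) D221408 F413405
theorem F508870 : act 0 n221408 = n199691 := d17_0 (iv5 D199691) F355989 D111699 (iv4 F220863) (iv5 F220864) (iv0 D108842) (iv5 F164791) (iv0 F400333) D221408
theorem F508871 : act 1 n221408 = n199759 := d18_6 (iv1 F220827) (iv4 F349707) (iv1 F345444) F218893 D196323 D221408 F451094 (iv0 F451095) (iv5 D137670)
def n221409 : Q := act 6 n196324
theorem D221409 : act 6 n196324 = n221409 := rfl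
theorem F508872 : act 2 n221409 = n210146 := d3_1 D221409 (iv6 D210146) (iv2 F400337)
theorem F508873 : act 5 n221409 = n203974 := d12_1 D221409 (iv6 F503035) (iv5 D220286) F389405 F400336
theorem F508874 : act 7 n221409 = n198107 := d14_2 (iv7 F400335) D221409 (iv6 D198107) F219107 (iv6 F394332)
theorem F508875 : act 0 n221409 = n203978 := d21_4 F400488 (iv1 F220318) F400336 D221409 F432456 F432452 (iv1 F200393) D124873 F351891 (iv1 F400489)
theorem F508876 : act 0 n215264 = n221409 := d21_4 (iv5 F469680) (iv1 F469685) (iv5 F467948) (iv6 F479108) (iv6 D221409) (iv5 F400336) F220316 (iv5 F216774) D208569 F449935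
def n221410 : Q := act 6 n196326
theorem D221410 : act 6 n196326 = n221410 := rfl
theorem F508877 : act 2 n221410 = n210432 := d3_1 D221410 F457499 (iv2 F449885)
theorem F508878 : act 3 n221410 = n217540 := d7_1 D221410 F489390 F402323
theorem F508879 : act 4 n221410 = n198232 := d10_1 D221410 (iv6 D198232) (iv4 F402322)
theorem F508880 : act 5 n221410 = n199668 := d12_1 D221410 (iv6 D199668) (iv5 F406264) (iv6 F406265) F406228
theorem F508881 : act 7 n221410 = n198186 := d14_2 F402324 D221410 (iv6 D198186) (iv7 F351295) D187915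
theorem F508882 : act 0 n221410 = n203981 := d21_4 D108782 D197931 F406228 D221410 (iv6 D203981) F195620 (iv1 F296925) D78778 (iv6 F343788) (iv1 D108781)
theorem F508883 : act 1 n221410 = n215267 := d15_1 (iv0 F508882) (iv7 D215267) (iv2 F430693)
def n221411 : Q := act 4 n196328
theorem D221411 : act 4 n196328 = n221411 := rfl
theorem F508884 : act 2 n221411 = n214783 := d1_1 D221411 F476825 (iv2 F400340)
theorem F508885 : act 3 n221411 = n218821 := d5_1 D221411 F495798 F378953 (iv4 F379063) (iv3 F400341)
theorem F508886 : act 6 n221411 = n196332 := d10_2 (iv6 F400342) D221411 (iv4 D196332)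
theorem F508887 : act 7 n221411 = n214782 := d11_2 F406223 D221411 F476818
theorem F508888 : act 0 n221411 = n196419 := d18_2 F400345 D221411 (iv4 F433283) F433284 F280734 F400498 F400497 F360122 (iv5 F360121)
theorem F508889 : act 1 n221411 = n214784 := d18_6 (iv1 F224854) F406945 (iv1 D108946) (iv4 F164769) D196328 D221411 F476830 (iv0 F459971) F224995
def n221412 : Q := act 6 n196330
theorem D221412 : act 6 n196330 = n221412 := rfl
theorem F508890 : act 2 n221412 = n214096 := d3_1 D221412 (iv6 D214096) F400351
theorem F508891 : act 3 n221412 = n220114 := d7_1 D221412 (iv6 F502191) F495768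
theorem F508892 : act 4 n221412 = n211424 := d10_1 D221412 (iv6 D211424) F400353
theorem F508893 : act 5 n221412 = n220112 := d12_1 D221412 F502178 F501263 (iv6 D197546) (iv5 F400349)
theorem F508894 : act 7 n221412 = n220111 := d14_2 F400352 D221412 F502174 (iv7 F413064) (iv6 F413066)
def n221413 : Q := act 3 n196331
theorem D221413 : act 3 n196331 = n221413 := rfl
theorem F508895 : act 2 n221413 = n211981 := d0_1 D221413 (iv3 F495627) F495626 F473445 F400357
theorem F508896 : act 5 n221413 = n197544 := d6_2 (iv5 F400356) D221413 (iv3 D197544)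
theorem F508897 : act 6 n221413 = n219621 := d7_2 F406240 D221413 F499717
theorem F508898 : act 7 n221413 = n214095 := d8_2 (iv7 F400355) D221413 F473447
theorem F508899 : act 0 n221413 = n210892 := d19_4 D197688 F405369 F400358 D221413 (iv5 D210892) F442688 F442683 (iv1 F416638) (iv5 D119335) (iv4 F94553) (iv3 F108362) F184590 D154434 (iv4 F354071) F240936 (iv1 F354082) D206303 F440155 F405364
theorem F508900 : act 0 n211440 = n221413 := d20_4 (iv4 F366254) D190889 (iv4 F470119) F470118 (iv3 D221413) (iv4 F400358) (iv1 D141974) (iv4 D66553) (iv3 F102398) D141914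
theorem F508901 : act 4 n221413 = n202861 := d18_1 F508900 F425915 (iv4 F496242) (iv5 F498629) F498630 F447318 F204151 D141993 D211440
def n221414 : Q := act 5 n196338
theorem D221414 : act 5 n196338 = n221414 := rfl
theorem F508902 : act 2 n221414 = n199197 := d2_1 D221414 (iv5 D199197) (iv2 F400387)
theorem F508903 : act 3 n221414 = n204946 := d6_1 D221414 F434292 (iv3 F424734)
theorem F508904 : act 6 n221414 = n211042 := d12_2 D196338 D221414 F459861 F400386 (iv5 D196337)
theorem F508905 : act 4 n221414 = n212211 := d19_2 (iv1 F508204) D221414 F464764 F366270 F386865 F386863 (iv3 F385891) (iv1 D192180) F321296 F103050 (iv3 F103027) (iv1 F182591) (iv5 D68232) D68231 (iv3 F202847) D205482 (iv5 F508206) (iv4 D221293) D221292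
theorem F508906 : act 7 n204942 = n221414 := d11_0 F508905 (iv7 F473921) F473920
def n221415 : Q := act 7 n196338
theorem D221415 : act 7 n196338 = n221415 := rfl
theorem F508907 : act 2 n221415 = n199198 := d4_1 D221415 (iv7 D199198) (iv2 F400387)
theorem F508908 : act 3 n221415 = n204945 := d8_1 D221415 F434287 (iv3 F424734)
theorem F508909 : act 4 n221415 = n196342 := d11_1 D221415 (iv7 D196342) (iv4 F400388)
theorem F508910 : act 5 n221415 = n204942 := d13_1 D221415 F508906 (iv5 D221414)
theorem F508911 : act 6 n221415 = n211431 := d14_1 D221415 F461958 (iv6 D211520) F225601 D196338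
theorem F508912 : act 1 n199196 = n221415 := d15_1 D199196 (iv7 D221415) F400387
theorem F508913 : act 1 n221415 = n199195 := d15_1 F508912 (iv7 F508202) F508200
def n221416 : Q := act 5 n196341
theorem D221416 : act 5 n196341 = n221416 := rfl
theorem F508914 : act 2 n221416 = n202624 := d2_1 D221416 (iv5 D202624) F400401
theorem F508915 : act 3 n221416 = n213729 := d6_1 D221416 (iv5 D213729) (iv3 F400402)
theorem F508916 : act 6 n221416 = n212126 := d12_2 (iv6 F400400) D221416 (iv5 F464416) F375448 F392910
theorem F508917 : act 0 n196630 = n221416 := d21_10 (iv5 D221416) F501364 F501360 (iv6 F479422) (iv1 F500880) (iv6 D219848) (iv5 D192345) (iv1 F385630) (iv5 F385632) D196630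
def n221417 : Q := act 7 n196352
theorem D221417 : act 7 n196352 = n221417 := rfl
theorem F508918 : act 2 n221417 = n211432 := d4_1 D221417 (iv7 F503103) F503101
theorem F508919 : act 3 n221417 = n218364 := d8_1 D221417 (iv7 F501329) (iv3 F501330)
theorem F508920 : act 5 n221417 = n196353 := d13_1 D221417 (iv7 D196353) D196352
theorem F508921 : act 1 n214093 = n221417 := d15_1 (iv0 F503107) (iv7 D221417) (iv2 F503101)
theorem F508922 : act 1 n221417 = n219215 := d15_1 F508921 F497765 F495626
def n221418 : Q := act 0 n196356
theorem D221418 : act 0 n196356 = n221418 := rfl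
theorem F508923 : act 5 n221418 = n212118 := d17_1 D221418 F464383 (iv5 F411068) F411071 F387793 F374737 (iv5 F421325) (iv0 F444502) F444501
theorem F508924 : act 4 n221418 = n213504 := d18_3 (iv1 F451798) F444501 D221418 (iv5 D213504) (iv4 D153971) D153970 F369222 D188754 (iv5 F451796)
theorem F508925 : act 3 n221418 = n196369 := d20_5 F474385 F410569 (iv4 F501827) F501826 D221418 (iv4 F406220) (iv1 F405895) F405892 (iv3 F459307) (iv1 F474388)
theorem F508926 : act 6 n221418 = n197928 := d21_5 (iv5 D202431) (iv1 F180058) (iv5 F223615) D196356 D221418 (iv5 F495730) F495731 F487352 F371837 (iv1 F423970)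
theorem F508927 : act 1 n196753 = n221418 := d15_0 (iv0 D221418) (iv7 F508255) F508253
theorem F508928 : act 7 n221418 = n216075 := d15_2 F490806 F508927 (iv2 F490802)
def n221419 : Q := act 6 n196357
theorem D221419 : act 6 n196357 = n221419 := rfl
theorem F508929 : act 2 n221419 = n215241 := d3_1 D221419 F479014 (iv2 F404906)
theorem F508930 : act 3 n221419 = n213718 := d7_1 D221419 F471773 F462777
theorem F508931 : act 5 n221419 = n204292 := d12_1 D221419 F431905 D215876 F481891 (iv5 F400466)
theorem F508932 : act 7 n221419 = n215240 := d14_2 (iv7 F404903) D221419 F479010 F401289 F404900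
theorem F508933 : act 0 n210439 = n221419 := d21_4 (iv5 D188811) (iv1 F178128) (iv5 F364768) D210439 (iv6 D221419) F400466 F391231 D192936 F388273 F387013
def n221420 : Q := act 4 n196361
theorem D221420 : act 4 n196361 = n221420 := rfl
theorem F508934 : act 2 n221420 = n196362 := d1_1 D221420 (iv4 D196362) D196361
theorem F508935 : act 5 n221420 = n210278 := d9_2 (iv5 F400468) D221420 F456839 F456657 (iv4 F364299) (iv5 D105562) (iv4 F162126) (iv5 F216778) D208574 (iv5 F456834) F456836 F456663 (iv4 F396974) F396975 F396592
theorem F508936 : act 0 n221420 = n208401 := d17_0 F449203 (iv1 D206694) D206695 F441881 (iv5 D134729) D134727 F405337 F405341 D221420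
theorem F508937 : act 1 n221420 = n217810 := d18_6 F424071 (iv4 F223685) (iv1 F396594) F396592 (iv5 F400468) D221420 F490743 (iv0 F420522) (iv5 F424068)
def n221421 : Q := act 6 n196361
theorem D221421 : act 6 n196361 = n221421 := rfl
theorem F508938 : act 2 n221421 = n196363 := d3_1 D221421 (iv6 D196363) D196361
theorem F508939 : act 5 n221421 = n204558 := d12_1 D221421 (iv6 F492960) F492956 F388262 (iv5 F400468)
theorem F508940 : act 7 n221421 = n220564 := d14_2 F449958 D221421 (iv6 D220564) (iv7 F500421) (iv6 F500423)
theorem F508941 : act 0 n198017 = n221421 := d21_4 (iv5 D50326) D50323 (iv5 F362480) D198017 (iv6 D221421) F400468 (iv1 F396894) F400471 (iv6 F400292) (iv1 D108998)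
theorem F508942 : act 1 n203767 = n221421 := d15_0 (iv0 F508941) (iv7 F446770) F446768
def n221422 : Q := act 0 n196362
theorem D221422 : act 0 n196362 = n221422 := rfl
theorem F508943 : act 4 n221422 = n217812 := d18_3 F405339 D196362 D221422 F490754 F401809 (iv0 D195298) F161968 D106886 D196304
theorem F508944 : act 2 n208401 = n221422 := d15_3 (iv0 D221422) (iv0 F459885) F459884
theorem F508945 : act 3 n221422 = n221259 := d0_2 (iv3 F449201) F508944 F508010 F506817 F396505
theorem F508946 : act 6 n221422 = n208397 := d3_2 D208401 F508944 F449186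
theorem F508947 : act 7 n221422 = n217810 := d4_2 F459884 F508944 F490742
def n221423 : Q := act 6 n196362
theorem D221423 : act 6 n196362 = n221423 := rfl
theorem F508948 : act 3 n221423 = n198020 := d7_1 D221423 (iv6 D198020) (iv3 F400475)
theorem F508949 : act 4 n221423 = n196363 := d10_1 D221423 (iv6 D196363) D196362
theorem F508950 : act 5 n221423 = n205716 := d12_1 D221423 F442862 (iv5 D206987) D206988 (iv5 F442866)
theorem F508951 : act 0 n221423 = n214430 := d21_4 F459783 (iv1 F456847) (iv5 F442866) D221423 (iv6 D214430) F250915 F343921 D193012 D220146 (iv1 F502358)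
def n221424 : Q := act 7 n196363
theorem D221424 : act 7 n196363 = n221424 := rfl
theorem F508952 : act 2 n221424 = n220564 := d4_1 D221424 (iv7 F508940) F508938
theorem F508953 : act 3 n221424 = n196366 := d8_1 D221424 (iv7 D196366) (iv3 F400476)
theorem F508954 : act 5 n221424 = n204557 := d13_1 D221424 F450743 (iv5 F450732)
theorem F508955 : act 6 n221424 = n220268 := d14_1 D221424 F502952 (iv6 D208575) F216779 D196363
theorem F508956 : act 1 n198017 = n221424 := d15_1 (iv0 F508941) (iv7 D221424) (iv2 F508938)
theorem F508957 : act 1 n221424 = n203767 := d15_1 F508956 (iv7 F432798) (iv2 F432800)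
def n221425 : Q := act 5 n196369
theorem D221425 : act 5 n196369 = n221425 := rfl
theorem F508958 : act 2 n221425 = n198131 := d2_1 D221425 (iv5 F449966) (iv2 F449968)
theorem F508959 : act 3 n221425 = n212118 := d6_1 D221425 (iv5 F508923) F508925
theorem F508960 : act 4 n221425 = n213345 := d9_1 D221425 F470034 F404187 F400635 (iv4 F362692) (iv5 F363342) F363341 D214270 F474333 (iv5 F470030) F463569 (iv5 F461398) (iv4 D211396) F363351 F406220
theorem F508961 : act 6 n221425 = n212116 := d12_2 (iv6 F406219) D221425 F464381 (iv6 F461403) (iv5 D197929)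
theorem F508962 : act 7 n221425 = n198130 := d13_2 F406221 D221425 F406951
theorem F508963 : act 0 n221425 = n197745 := d17_2 D196369 D221425 (iv5 D197745) (iv4 F216761) F343789 (iv0 F406218) (iv5 D197929) (iv0 D108780) (iv4 F164792)
theorem F508964 : act 1 n221425 = n198133 := d17_6 (iv1 F224860) (iv5 F461123) (iv1 F461124) F363351 F406220 D221425 F406955 (iv0 F406932) (iv4 D141938)
def n221426 : Q := act 4 n196370
theorem D221426 : act 4 n196370 = n221426 := rfl
theorem F508965 : act 2 n221426 = n196711 := d1_1 D221426 (iv4 F449975) F449972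
theorem F508966 : act 3 n221426 = n209322 := d5_1 D221426 F453219 F391449 (iv4 F380546) (iv3 F400495)
theorem F508967 : act 6 n221426 = n197997 := d10_2 (iv6 F400496) D221426 (iv4 D197997)
theorem F508968 : act 7 n221426 = n196712 := d11_2 F505537 D221426 (iv4 F505535)
theorem F508969 : act 0 n221426 = n196714 := d18_2 F406925 D221426 F401572 (iv5 F351237) (iv4 F402322) (iv0 D196326) F164769 D108946 D198129
theorem F508970 : act 1 n221426 = n196706 := d18_6 (iv1 F223481) F359227 (iv1 D108781) (iv4 F164792) D196370 D221426 F401553 (iv0 F342496) F223730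
theorem F508971 : act 5 n196613 = n221426 := d16_1 (iv4 F401226) (iv4 D221426) (iv5 D196370) F164792 D108782 D197933 (iv5 F436693) (iv7 D205493) F202857
def n221427 : Q := act 4 n196389
theorem D221427 : act 4 n196389 = n221427 := rfl
theorem F508972 : act 2 n221427 = n202752 := d1_1 D221427 (iv4 D202752) (iv2 F400549)
theorem F508973 : act 3 n221427 = n204809 := d5_1 D221427 F433670 (iv3 F433732) F471568 F471571
theorem F508974 : act 5 n221427 = n204811 := d9_2 D196389 D221427 F433676 (iv5 D143936) (iv4 D67435) (iv5 D31339) D31338 D67431 D143929 D211693 F462720 F424697 (iv4 D196390) (iv5 D106937) D106936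
theorem F508975 : act 6 n221427 = n204615 := d10_2 (iv6 F400550) D221427 F433035
theorem F508976 : act 7 n221427 = n210903 := d11_2 (iv7 F400551) D221427 (iv4 D210903)
theorem F508977 : act 0 n221427 = n211692 := d17_0 F501240 F501238 F459222 F459200 F224910 (iv0 F182410) F226565 (iv0 F400552) D221427
theorem F508978 : act 1 n221427 = n211691 := d18_6 (iv1 D106934) F78129 D49403 D106936 D196389 D221427 (iv4 F501262) F501265 (iv5 D196383)
def n221428 : Q := act 7 n196395
theorem D221428 : act 7 n196395 = n221428 := rfl
theorem F508979 : act 2 n221428 = n211896 := d4_1 D221428 (iv7 D211896) (iv2 F400573)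
theorem F508980 : act 3 n221428 = n204889 := d8_1 D221428 F434027 (iv3 F400574)
theorem F508981 : act 5 n221428 = n211347 := d13_1 D221428 F461223 F402613
theorem F508982 : act 6 n221428 = n205052 := d14_1 D221428 F434789 (iv6 D144313) (iv7 F164827) D196395
theorem F508983 : act 1 n211895 = n221428 := d15_1 D211895 (iv7 D221428) F400573
theorem F508984 : act 1 n221428 = n205043 := d15_1 F508983 F434756 (iv2 F463471)
def n221429 : Q := act 4 n196403
theorem D221429 : act 4 n196403 = n221429 := rfl
theorem F508985 : act 2 n221429 = n204810 := d1_1 D221429 (iv4 F505352) F505350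
theorem F508986 : act 3 n221429 = n203563 := d5_1 D221429 (iv4 D203563) D203562 (iv4 F470321) F470325
theorem F508987 : act 6 n221429 = n198285 := d10_2 F400597 D221429 (iv4 D198285)
theorem F508988 : act 5 n221429 = n212750 := d16_5 (iv4 F472522) F472523 F407461 (iv5 F400598) D221429 F467349 D215860 F481832 F472513
theorem F508989 : act 0 n221429 = n219804 := d18_2 F459957 D221429 (iv4 F502928) (iv5 F502930) F429769 (iv0 D203776) F366888 F407386 D211062
def n221430 : Q := act 0 n196412
theorem D221430 : act 0 n196412 = n221430 := rfl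
theorem F508990 : act 5 n221430 = n221161 := d17_1 D221430 (iv1 D221161) (iv5 D195488) (iv4 F179480) D201907 F504333 F504330 (iv0 D213843) (iv4 F400630)
theorem F508991 : act 4 n221430 = n213885 := d18_1 D221430 (iv1 F472582) (iv4 F403906) F458133 (iv4 D210584) (iv0 D139416) (iv4 F222609) D210561 F458048
theorem F508992 : act 3 n221430 = n197308 := d20_5 F470044 (iv1 F459368) (iv4 F472619) F472618 D221430 (iv4 F438416) (iv1 F463675) (iv4 D211943) (iv3 F463664) F470046
theorem F508993 : act 2 n197418 = n221430 := d15_3 (iv0 D221430) (iv0 F507258) F507256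
theorem F508994 : act 6 n221430 = n211991 := d3_2 (iv6 F485495) F508993 F463844
theorem F508995 : act 7 n221430 = n197419 := d4_2 F507256 F508993 (iv2 F507253)
theorem F508996 : act 1 n197421 = n221430 := d15_1 F507257 F508995 (iv2 F507253)
def n221431 : Q := act 7 n196412
theorem D221431 : act 7 n196412 = n221431 := rfl
theorem F508997 : act 2 n221431 = n197421 := d4_1 D221431 (iv7 D197421) (iv2 F400629)
theorem F508998 : act 3 n221431 = n211064 := d8_1 D221431 F472620 F472618
theorem F508999 : act 4 n221431 = n213845 := d11_1 D221431 (iv7 D213845) (iv4 F400630)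
theorem F509000 : act 6 n221431 = n197417 := d14_1 D221431 (iv7 D197417) (iv6 D108148) (iv7 F164856) D196412
theorem F509001 : act 1 n197419 = n221431 := d15_1 D197419 (iv7 D221431) F400629
theorem F509002 : act 1 n221431 = n197418 := d15_1 F509001 (iv7 F507256) F507253
def n221432 : Q := act 6 n196414
theorem D221432 : act 6 n196414 = n221432 := rfl
theorem F509003 : act 2 n221432 = n214190 := d3_1 D221432 (iv6 D214190) (iv2 F400632)
theorem F509004 : act 3 n221432 = n196416 := d7_1 D221432 (iv6 D196416) D196414
def n221433 : Q := act 6 n196415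
theorem D221433 : act 6 n196415 = n221433 := rfl
theorem F509005 : act 3 n221433 = n205838 := d7_1 D221433 F438083 F403588
theorem F509006 : act 4 n221433 = n196416 := d10_1 D221433 (iv6 D196416) D196415
theorem F509007 : act 5 n221433 = n196724 := d12_1 D221433 (iv6 F425127) (iv5 D196726) (iv6 F400682) F400683
theorem F509008 : act 7 n221433 = n221300 := d14_2 F403866 D221433 F508246 F460004 F403868
theorem F509009 : act 0 n221433 = n205489 := d21_4 F508197 F411752 F400683 D221433 (iv6 F436666) (iv5 F460036) (iv1 D211081) D211083 F460040 (iv1 F508199)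
theorem F509010 : act 1 n221433 = n205484 := d15_1 (iv0 F509009) F436640 (iv2 F436662)
def n221434 : Q := act 4 n196418
theorem D221434 : act 4 n196418 = n221434 := rfl
theorem F509011 : act 3 n221434 = n211952 := d5_1 D221434 F463717 F425466 (iv4 F425490) (iv3 F425494)
theorem F509012 : act 7 n221434 = n196613 := d11_2 (iv7 F425495) D221434 F401226
theorem F509013 : act 5 n221434 = n196712 := d16_1 D221434 (iv4 F505535) F505536 F400497 (iv5 F406235) (iv4 F436681) (iv5 D205492) D205493 F436692
theorem F509014 : act 0 n221434 = n213896 := d18_2 D196418 D221434 F472623 F464381 F461405 F477517 F477513 (iv0 F400640) (iv5 D196419)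
def n221435 : Q := act 5 n196418
theorem D221435 : act 5 n196418 = n221435 := rfl
theorem F509015 : act 2 n221435 = n197933 := d2_1 D221435 (iv5 F436693) F436692
theorem F509016 : act 3 n221435 = n215552 := d6_1 D221435 F480461 (iv3 F425494)
theorem F509017 : act 4 n221435 = n197714 := d9_1 D221435 (iv5 D197714) (iv4 F216781) D208577 F449975 F436671 F436670 D205492 F436681 F406235 (iv4 F400497) (iv5 F505536) F505535 (iv5 F509013) (iv4 D221434)
theorem F509018 : act 6 n221435 = n197719 := d12_2 F436657 D221435 (iv5 F505882) F505883 (iv5 F436656)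
theorem F509019 : act 7 n221435 = n196614 := d13_2 (iv7 F425495) D221435 (iv5 D196614)
theorem F509020 : act 1 n221435 = n211087 := d17_8 (iv1 F405889) (iv5 D197820) (iv1 F363348) D211065 (iv4 F476830) F476831 F436672 D221435 (iv4 F460057)
theorem F509021 : act 0 n221435 = n198745 := d21_1 D221435 (iv5 F414536) (iv6 D199996) (iv1 F400695) (iv6 D196444) (iv5 F344466) (iv1 F337376) (iv5 D106962) D106963 D196418
def n221436 : Q := act 5 n196420
theorem D221436 : act 5 n196420 = n221436 := rfl
theorem F509022 : act 2 n221436 = n216110 := d2_1 D221436 (iv5 D216110) F400642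
theorem F509023 : act 6 n221436 = n211413 := d12_2 (iv6 F431951) D221436 (iv5 F461465) F431955 (iv5 F431952)
theorem F509024 : act 0 n221436 = n203699 := d17_2 (iv1 F400641) D221436 F429448 F253099 (iv5 F248827) (iv0 F450276) F450275 (iv0 F327449) F172915
theorem F509025 : act 1 n221436 = n211415 := d17_6 (iv1 F479049) (iv5 F479052) F479078 F479076 (iv4 F410629) D221436 F461468 (iv0 F412121) (iv4 F412311)
def n221437 : Q := act 1 n196421
theorem D221437 : act 1 n196421 = n221437 := rfl
theorem F509026 : act 1 n221437 = n197960 := d15_1 D221437 (iv7 F435105) F435102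
theorem F509027 : act 5 n221437 = n199463 := d17_7 F327467 (iv5 F363330) F360112 (iv5 D157902) (iv4 F337392) D196421 D221437 F412299 F173136
theorem F509028 : act 2 n199469 = n221437 := d2_3 F509027 F412298 D199469
def n221438 : Q := act 4 n196421
theorem D221438 : act 4 n196421 = n221438 := rfl
theorem F509029 : act 6 n221438 = n196424 := d10_2 (iv6 F400644) D221438 (iv4 D196424)
def n221439 : Q := act 4 n196422
theorem D221439 : act 4 n196422 = n221439 := rfl
theorem F509030 : act 3 n221439 = n219266 := d5_1 D221439 F498018 F488811 D218788 F495662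
theorem F509031 : act 6 n221439 = n220306 := d10_2 F461452 D221439 F503116
theorem F509032 : act 1 n221439 = n197464 := d18_6 F400722 F165446 (iv1 F100238) (iv4 F165220) (iv5 F400645) D221439 (iv4 D197464) D197463 F404443
def n221440 : Q := act 3 n196423
theorem D221440 : act 3 n196423 = n221440 := rfl
def n221441 : Q := act 4 n196423
theorem D221441 : act 4 n196423 = n221441 := rfl
theorem F509033 : act 0 n221441 = n197464 := d17_0 (iv5 F508458) (iv1 D221338) (iv5 F464290) F464289 F228343 F165535 D106966 D196423 D221441
theorem F509034 : act 0 n218830 = n221440 := d20_4 (iv4 D95670) D95668 D190152 D218830 (iv3 D221440) D221441 F509033 (iv4 D197464) (iv3 F379005) (iv1 D190158)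
def n221442 : Q := act 6 n196423
theorem D221442 : act 6 n196423 = n221442 := rfl
theorem F509035 : act 5 n221442 = n196580 := d12_1 D221442 (iv6 D196580) (iv5 F201798) F411350 F411352
theorem F509036 : act 3 n198461 = n221442 := d6_3 F509035 (iv3 F453977) F453979
theorem F509037 : act 6 n221440 = n198461 := d7_0 F509036 (iv6 D221442) D221440
theorem F509038 : act 4 n198458 = n221440 := d10_3 F509037 (iv4 D198461) (iv6 F408081)
def n221443 : Q := act 0 n196424
theorem D221443 : act 0 n196424 = n221443 := rfl
theorem F509039 : act 4 n221443 = n196699 := d18_1 D221443 F401527 D211958 F463746 (iv4 D206485) F206976 D132033 D207577 (iv5 F445529)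
theorem F509040 : act 1 n221192 = n221443 := d15_0 (iv0 D221443) (iv7 F464260) (iv2 F507670)
theorem F509041 : act 6 n221196 = n221443 := d10_0 F509039 F497568 (iv4 F507685)
def n221444 : Q := act 1 n196424
theorem D221444 : act 1 n196424 = n221444 := rfl
theorem F509042 : act 1 n221444 = n221192 := d15_1 D221444 F507673 F464257
theorem F509043 : act 4 n221444 = n205103 := d17_9 (iv1 D205103) (iv5 D125479) (iv1 F164876) D196426 (iv4 F445531) (iv5 D207578) D207577 (iv5 F445529) D221444
theorem F509044 : act 3 n220910 = n221444 := d19_19 (iv1 D221444) F445529 F445527 F440938 (iv1 F440935) (iv5 F398188) (iv4 F399958) F399957 F288021 (iv5 F290838) (iv4 F291300) F71720 F62929 D41982 D89866 D187286 F369707 (iv5 F394848) D220910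
def n221445 : Q := act 3 n196424
theorem D221445 : act 3 n196424 = n221445 := rfl
theorem F509045 : act 0 n218704 = n221445 := d20_4 (iv4 D191048) F289703 D189944 D218704 (iv3 D221445) (iv4 D196424) D196422 D221439 F509030 (iv1 F498020)
def n221446 : Q := act 0 n196425
theorem D221446 : act 0 n196425 = n221446 := rfl
theorem F509046 : act 4 n221446 = n220227 := d18_3 F457212 (iv4 F400647) D221446 F502752 (iv4 D215486) (iv0 D174660) (iv4 F197896) D204296 (iv5 F457213)
theorem F509047 : act 3 n221446 = n220222 := d20_5 F78151 D49418 D106967 D196425 D221446 F502726 F388976 F218712 F165752 F78386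
theorem F509048 : act 2 n196554 = n221446 := d15_3 (iv0 D221446) (iv0 F473848) (iv7 F473850)
theorem F509049 : act 1 n196552 = n221446 := d15_0 (iv0 D221446) F400649 (iv2 F401061)
theorem F509050 : act 7 n221446 = n196553 := d15_2 (iv0 F473849) F509049 (iv2 F473845)
theorem F509051 : act 6 n220220 = n221446 := d14_5 F509050 F404401 (iv7 F404399) F389351 (iv7 F502718)
def n221447 : Q := act 5 n196425
theorem D221447 : act 5 n196425 = n221447 := rfl
theorem F509052 : act 2 n221447 = n215466 := d2_1 D221447 F480121 (iv2 F400646)
theorem F509053 : act 3 n221447 = n196426 := d6_1 D221447 (iv5 D196426) D196425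
theorem F509054 : act 6 n221447 = n218291 := d12_2 (iv6 F400648) D221447 (iv5 D218291) (iv6 F421565) (iv5 F421567)
theorem F509055 : act 7 n221447 = n196555 := d13_2 (iv7 F400649) D221447 (iv5 D196555)
theorem F509056 : act 4 n215476 = n221447 := d16_0 (iv5 D221447) F400647 F363365 F197885 D174649 F353319 (iv5 F478949) (iv7 F478967) (iv2 F480158)
def n221448 : Q := act 6 n196426
theorem D221448 : act 6 n196426 = n221448 := rfl
theorem F509057 : act 2 n221448 = n212123 := d3_1 D221448 (iv6 D212123) (iv2 F400650)
theorem F509058 : act 3 n221448 = n218291 := d7_1 D221448 (iv6 F509054) F509053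
theorem F509059 : act 5 n221448 = n212133 := d12_1 D221448 (iv6 D212133) F228401 (iv6 F164874) D196426
theorem F509060 : act 7 n221448 = n212123 := d14_2 (iv7 F400651) D221448 (iv6 D212123) (iv7 D145343) (iv6 F165060)
def n221449 : Q := act 5 n196431
theorem D221449 : act 5 n196431 = n221449 := rfl
theorem F509061 : act 3 n221449 = n196432 := d6_1 D221449 (iv5 D196432) D196431
theorem F509062 : act 1 n221449 = n220782 := d17_6 F389172 (iv5 F494672) F494675 (iv5 D209456) (iv4 F400662) D221449 (iv5 D220782) (iv0 F393588) F228354
theorem F509063 : act 0 n221449 = n213797 := d21_1 D221449 (iv5 F472136) (iv6 F472143) (iv1 F472146) F441210 D206537 (iv1 F441228) (iv5 D205110) D205111 F435020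
def n221450 : Q := act 4 n196432
theorem D221450 : act 4 n196432 = n221450 := rfl
theorem F509064 : act 6 n221450 = n221028 := d10_2 (iv6 F432901) D221450 F506874
theorem F509065 : act 0 n221450 = n212399 := d17_0 (iv5 D212399) (iv1 F418519) F418517 (iv4 D196898) (iv5 D107432) D107431 D196897 F402207 D221450
theorem F509066 : act 3 n201647 = n221450 := d7_3 F509064 (iv3 D221028) F492378
def n221451 : Q := act 2 n196433
theorem D221451 : act 2 n196433 = n221451 := rfl
theorem F509067 : act 4 n221451 = n210405 := d1_2 (iv4 F400664) D221451 (iv2 D210405)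
theorem F509068 : act 6 n221451 = n212707 := d3_2 F464651 D221451 F467180
theorem F509069 : act 7 n221451 = n199120 := d4_2 F403280 D221451 (iv2 F410758)
theorem F509070 : act 1 n221451 = n199122 := d15_0 F410765 F403280 D221451
theorem F509071 : act 1 n199113 = n221451 := d15_0 F509070 (iv7 D199122) (iv2 F410727)
def n221452 : Q := act 5 n196433
theorem D221452 : act 5 n196433 = n221452 := rfl
theorem F509072 : act 3 n221452 = n196434 := d6_1 D221452 (iv5 D196434) D196433
theorem F509073 : act 6 n221452 = n213789 := d12_2 F464651 D221452 (iv5 F492543) F492546 (iv5 F464650)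
theorem F509074 : act 0 n213706 = n221452 := d21_7 F503427 F476780 (iv5 D212165) (iv6 F455581) (iv1 F463427) F463433 (iv5 F471716) (iv5 D221452) (iv6 F464651) (iv1 F503430)
def n221453 : Q := act 3 n196435
theorem D221453 : act 3 n196435 = n221453 := rfl
theorem F509075 : act 2 n221453 = n216906 := d0_1 D221453 F486493 (iv2 F464316) F464312 F400669
theorem F509076 : act 4 n221453 = n216900 := d5_2 F418512 D221453 F486471 (iv4 F446507) F446505
theorem F509077 : act 5 n221453 = n196893 := d6_2 (iv5 F400668) D221453 F402188
theorem F509078 : act 7 n221453 = n196892 := d8_2 (iv7 F400667) D221453 F402186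
theorem F509079 : act 0 n221453 = n199121 := d19_4 (iv1 D200960) D200961 F418512 D221453 (iv5 D199121) (iv4 F410743) F410742 (iv1 F386831) F386833 (iv4 F392079) (iv3 D194111) (iv1 F290094) (iv5 D177856) (iv4 F289802) F139190 (iv1 F135532) (iv5 F135535) (iv4 F326333) F418510
theorem F509080 : act 0 n208710 = n221453 := d20_4 (iv4 F473424) (iv1 D214088) F393925 (iv3 F450523) (iv3 D221453) (iv4 F418512) F418514 (iv4 D199110) (iv3 F410684) (iv1 F410821)
theorem F509081 : act 6 n221453 = n216899 := d21_5 F493371 F451000 F350386 D208710 F509080 (iv5 F494984) F494987 (iv5 D218347) (iv6 F450725) (iv1 F493373)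
def n221454 : Q := act 6 n196435
theorem D221454 : act 6 n196435 = n221454 := rfl
theorem F509082 : act 2 n221454 = n212110 := d3_1 D221454 (iv6 D212110) F400669
theorem F509083 : act 3 n221454 = n216899 := d7_1 D221454 (iv6 F509081) (iv3 D221453)
theorem F509084 : act 4 n221454 = n219600 := d10_1 D221454 F499627 F418512
theorem F509085 : act 5 n221454 = n212091 := d12_1 D221454 (iv6 D212091) F228343 (iv6 F165725) (iv5 F400668)
theorem F509086 : act 7 n221454 = n212110 := d14_2 (iv7 F400667) D221454 (iv6 D212110) (iv7 D145324) (iv6 F165722)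
def n221455 : Q := act 4 n196439
theorem D221455 : act 4 n196439 = n221455 := rfl
theorem F509087 : act 2 n221455 = n201726 := d1_1 D221455 F421576 F410699
theorem F509088 : act 3 n221455 = n201789 := d5_1 D221455 F421807 (iv3 F375003) (iv4 F492882) F492881
theorem F509089 : act 7 n221455 = n201785 := d11_2 F410711 D221455 F421799
theorem F509090 : act 0 n221455 = n207719 := d17_0 (iv5 F446138) F439199 F417412 (iv4 D145356) (iv5 D68150) (iv0 F104294) D145326 (iv0 F400675) D221455
theorem F509091 : act 6 n207688 = n221455 := d21_3 F433086 (iv1 F211836) D207688 F509090 F475014 (iv5 F475051) (iv1 D214410) F250877 F343650 F433088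
def n221456 : Q := act 6 n196439
theorem D221456 : act 6 n196439 = n221456 := rfl
theorem F509092 : act 2 n221456 = n209353 := d3_1 D221456 F453366 F410699
theorem F509093 : act 4 n221456 = n207688 := d10_1 D221456 F509091 (iv4 D221455)
theorem F509094 : act 5 n221456 = n196755 := d12_1 D221456 (iv6 D196755) (iv5 D107276) (iv6 F164899) D196439
theorem F509095 : act 7 n221456 = n209354 := d14_2 F410711 D221456 (iv6 F474993) F474990 (iv6 F410710)
theorem F509096 : act 0 n204966 = n221456 := d21_4 (iv5 F467927) F467928 D212885 F467957 (iv6 D221456) (iv5 D196439) (iv1 F171991) (iv5 F401028) (iv6 F484985) F484986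
def n221457 : Q := act 0 n196452
theorem D221457 : act 0 n196452 = n221457 := rfl
theorem F509097 : act 4 n221457 = n196869 := d18_3 (iv1 D206539) (iv4 F400727) D221457 (iv5 F464530) F464529 (iv0 D194346) (iv4 F392889) (iv0 F404513) F441236
theorem F509098 : act 6 n221457 = n196868 := d21_5 (iv5 D49972) D49969 (iv5 F164936) D196452 D221457 F402091 (iv1 F362032) (iv5 D174153) F332996 (iv1 F79049)
theorem F509099 : act 2 n211901 = n221457 := d15_3 (iv0 D221457) (iv0 F460200) F463496
theorem F509100 : act 3 n221457 = n215238 := d0_2 (iv3 F463493) F509099 (iv2 F503036) F503037 F482698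
theorem F509101 : act 7 n221457 = n211902 := d4_2 F463496 F509099 F463498
theorem F509102 : act 1 n211903 = n221457 := d15_1 F463501 F509101 F463498
def n221458 : Q := act 7 n196452
theorem D221458 : act 7 n196452 = n221458 := rfl
theorem F509103 : act 2 n221458 = n211903 := d4_1 D221458 (iv7 D211903) (iv2 F400726)
theorem F509104 : act 3 n221458 = n204292 := d8_1 D221458 (iv7 F431911) F431913
theorem F509105 : act 4 n221458 = n206540 := d11_1 D221458 (iv7 D206540) (iv4 F400727)
theorem F509106 : act 5 n221458 = n213718 := d13_1 D221458 F471776 F401295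
theorem F509107 : act 6 n221458 = n211899 := d14_1 D221458 (iv7 D211899) (iv6 D144324) F164940 D196452
theorem F509108 : act 1 n211902 = n221458 := d15_1 D211902 (iv7 D221458) F400726
theorem F509109 : act 1 n221458 = n211901 := d15_1 F509108 (iv7 F463496) (iv2 F463498)
def n221459 : Q := act 1 n196454
theorem D221459 : act 1 n196454 = n221459 := rfl
theorem F509110 : act 1 n221459 = n211899 := d15_1 D221459 (iv7 D211899) (iv2 F400733)
theorem F509111 : act 7 n221459 = n196859 := d15_2 (iv0 F402094) D221459 (iv2 F402093)
theorem F509112 : act 4 n221459 = n211124 := d18_7 (iv1 F464564) (iv4 F453157) F453159 F440315 F402613 (iv4 F400734) D221459 F463501 (iv5 F464562)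
theorem F509113 : act 5 n221459 = n214138 := d18_9 F473661 F471764 (iv1 F415658) F415619 F402153 (iv4 F458013) (iv0 F458015) (iv4 F400734) D221459
theorem F509114 : act 3 n204680 = n221459 := d19_19 (iv1 D221459) (iv5 F411004) F411003 D211728 F462881 F410807 (iv4 F478549) F495889 (iv1 D214817) F256910 (iv4 F253819) (iv3 F415599) (iv1 F425671) F425669 F415516 F415511 F373665 D166321 F433236
theorem F509115 : act 2 n221459 = n211898 := d0_1 F509114 (iv3 F494737) (iv2 F502871) F502872 F461634
theorem F509116 : act 6 n221459 = n204722 := d7_2 (iv6 F433237) F509114 (iv3 D204722)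
def n221460 : Q := act 7 n196454
theorem D221460 : act 7 n196454 = n221460 := rfl
theorem F509117 : act 2 n221460 = n211899 := d4_1 D221460 (iv7 D211899) (iv2 F400733)
theorem F509118 : act 4 n221460 = n221428 := d11_1 D221460 (iv7 D221428) (iv4 F400734)
theorem F509119 : act 6 n221460 = n211903 := d14_1 D221460 (iv7 D211903) (iv6 D144326) (iv7 F164942) D196454
theorem F509120 : act 1 n211898 = n221460 := d15_1 D211898 (iv7 D221460) F400733
theorem F509121 : act 1 n221460 = n196859 := d15_1 F509120 (iv7 F509111) F509115
def n221461 : Q := act 5 n196455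
theorem D221461 : act 5 n196455 = n221461 := rfl
theorem F509122 : act 2 n221461 = n197802 := d2_1 D221461 (iv5 D197802) F400736
theorem F509123 : act 7 n221461 = n197796 := d13_2 F400737 D221461 (iv5 D197796)
theorem F509124 : act 0 n221461 = n211912 := d17_2 D196455 D221461 F463548 (iv4 F405523) (iv5 F406843) F406847 F363667 F361214 F164952
theorem F509125 : act 1 n221461 = n199540 := d17_6 (iv1 D197707) (iv5 F169064) F339986 (iv5 F356733) (iv4 F400735) D221461 (iv5 D199540) (iv0 F412444) F412441
def n221462 : Q := act 5 n196456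
theorem D221462 : act 5 n196456 = n221462 := rfl
theorem F509126 : act 2 n221462 = n197796 := d2_1 D221462 (iv5 D197796) (iv2 F400740)
theorem F509127 : act 3 n221462 = n199512 := d6_1 D221462 F412472 (iv3 F400741)
theorem F509128 : act 6 n221462 = n197796 := d12_2 F476512 D221462 (iv5 D197796) D197797 (iv5 F476511)
theorem F509129 : act 7 n221462 = n197802 := d13_2 (iv7 F400738) D221462 (iv5 D197802)
theorem F509130 : act 0 n221462 = n199540 := d17_2 (iv1 F406793) D221462 (iv5 D199540) F406127 (iv5 F420076) F420077 F363668 (iv0 F172785) D198098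
theorem F509131 : act 1 n221462 = n211912 := d17_6 (iv1 F405454) F363678 (iv1 F405799) (iv5 D197788) F400739 D221462 F463548 F412583 F412581
def n221463 : Q := act 1 n196457
theorem D221463 : act 1 n196457 = n221463 := rfl
theorem F509132 : act 3 n208223 = n221463 := d19_19 (iv1 D221463) (iv5 D196457) (iv4 F164952) F361198 F176607 (iv5 F409127) F409126 F222674 F181593 (iv5 D66231) F49382 (iv3 F40984) (iv1 F40988) F103128 D66079 (iv3 F316824) D188597 (iv5 F421707) (iv4 F448452)
theorem F509133 : act 5 n197858 = n221463 := d21_6 F164936 (iv1 F79036) D51147 D110927 D199092 (iv6 F410622) (iv1 D221463) (iv5 D196457) (iv6 D107002) D107000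
def n221464 : Q := act 4 n196457
theorem D221464 : act 4 n196457 = n221464 := rfl
theorem F509134 : act 6 n221464 = n196458 := d10_2 (iv6 F400743) D221464 (iv4 D196458)
theorem F509135 : act 5 n221464 = n212353 := d16_7 F465449 (iv5 F439844) F439843 (iv5 D196466) F164952 D196457 D221464 (iv7 F465446) (iv2 F465451)
theorem F509136 : act 0 n221464 = n199475 := d17_0 (iv5 F442405) (iv1 F442407) D206931 (iv4 F493033) (iv5 F493035) (iv0 F406130) F492496 (iv0 F492495) D221464
theorem F509137 : act 1 n221464 = n199472 := d18_6 D51350 D111336 (iv1 F361197) F164952 D196457 D221464 (iv4 D199472) (iv0 D111347) (iv5 D51353)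
def n221465 : Q := act 3 n196458
theorem D221465 : act 3 n196458 = n221465 := rfl
theorem F509138 : act 4 n221465 = n219750 := d5_2 D196458 D221465 F500420 (iv4 D214147) F246745
theorem F509139 : act 5 n221465 = n217624 := d6_2 F417393 D221465 F489834
theorem F509140 : act 7 n221465 = n220563 := d8_2 F464355 D221465 F504374
theorem F509141 : act 0 n221465 = n212405 := d19_4 F164902 D107004 D196458 D221465 (iv5 D212405) (iv4 F371466) (iv3 D187779) (iv1 F233532) F233528 F135560 (iv3 F76172) (iv1 F76175) D95355 F365763 D215877 F481895 F433833 F404807 F375141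
theorem F509142 : act 1 n221465 = n212407 := d15_1 (iv0 F509141) (iv7 F490036) F490034
theorem F509143 : act 2 n218655 = n221465 := d15_3 F509142 (iv0 F504565) F504563
def n221466 : Q := act 5 n196461
theorem D221466 : act 5 n196461 = n221466 := rfl
theorem F509144 : act 2 n221466 = n203899 := d2_1 D221466 F453993 F453988
theorem F509145 : act 3 n221466 = n196462 := d6_1 D221466 (iv5 D196462) D196461
theorem F509146 : act 6 n221466 = n214844 := d12_2 F501701 D221466 F477116 (iv6 F412786) (iv5 F501700)
theorem F509147 : act 4 n221466 = n211501 := d16_4 F489513 F435033 F435027 D221466 (iv5 D211501) D211500 (iv5 F490939) (iv7 F492585) (iv2 F492583)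
theorem F509148 : act 0 n221466 = n197943 := d17_2 F400752 D221466 F453433 (iv4 D209371) D209372 (iv0 F453439) F219504 D136459 (iv4 F219571)
theorem F509149 : act 1 n221466 = n196483 := d17_6 (iv1 D220531) (iv5 F454189) F454191 F435033 F435027 D221466 F400799 D220269 (iv4 F504219)
def n221467 : Q := act 4 n196462
theorem D221467 : act 4 n196462 = n221467 := rfl
theorem F509150 : act 2 n221467 = n209072 := d1_1 D221467 F452118 F410612
theorem F509151 : act 3 n221467 = n214913 := d5_1 D221467 F477407 (iv3 F461842) (iv4 F509147) F509145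
theorem F509152 : act 5 n221467 = n206505 := d9_2 D196462 D221467 F441121 F399122 (iv4 F393884) (iv5 D194633) F357666 D196460 F400750 (iv5 F441092) F441091 F399128 (iv4 F393893) (iv5 D194634) (iv4 F393363)
theorem F509153 : act 7 n221467 = n214915 := d11_2 F410614 D221467 F477412
theorem F509154 : act 0 n221467 = n214914 := d17_0 F477409 F399345 D196090 (iv4 F409330) F409334 (iv0 D125475) (iv5 F164972) (iv0 F400753) D221467
theorem F509155 : act 1 n221467 = n206508 := d18_6 (iv1 F410721) F410718 (iv1 F393374) (iv4 F393363) D196462 D221467 (iv4 F505569) F505572 F441706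
theorem F509156 : act 6 n221467 = n215170 := d21_5 D163413 F327187 (iv5 F382700) (iv6 F441136) (iv1 F509155) F478693 F412908 D204233 F431593 (iv1 D163411)
def n221468 : Q := act 6 n196462
theorem D221468 : act 6 n196462 = n221468 := rfl
theorem F509157 : act 2 n221468 = n204270 := d3_1 D221468 F431774 F410612
theorem F509158 : act 3 n221468 = n214844 := d7_1 D221468 (iv6 F509146) F509145
theorem F509159 : act 4 n221468 = n215170 := d10_1 D221468 (iv6 F509156) (iv4 D221467)
theorem F509160 : act 7 n221468 = n215731 := d14_2 F410614 D221468 (iv6 D215731) (iv7 F361747) F410617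
theorem F509161 : act 0 n221468 = n199631 := d21_4 (iv5 D199101) (iv1 F171970) D196462 D221468 (iv6 F466471) F466469 (iv1 F424247) (iv5 F390356) F400758 (iv1 F410668)
theorem F509162 : act 0 n197884 = n221468 := d21_4 (iv5 F409127) (iv1 F409128) (iv5 D197883) D197884 (iv6 D221468) (iv5 D196462) (iv1 D107007) D107009 (iv6 F361216) F176607
def n221469 : Q := act 0 n196466
theorem D221469 : act 0 n196466 = n221469 := rfl
theorem F509163 : act 5 n221469 = n197864 := d17_1 D221469 F412293 (iv5 F406850) F406849 (iv5 F419322) F452191 F452187 (iv0 F439845) F439843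
theorem F509164 : act 4 n221469 = n197815 := d18_1 D221469 (iv1 D197815) (iv4 D108682) (iv5 D50179) (iv4 F39168) D51351 D111341 F361214 D196466
theorem F509165 : act 3 n221469 = n197865 := d20_5 (iv4 F345614) (iv1 D184595) (iv4 F286584) (iv3 F400762) D221469 F406060 (iv1 F466616) (iv4 F482900) F482899 F405697
theorem F509166 : act 6 n221469 = n201365 := d21_5 F172041 F164933 D107012 (iv6 F400763) D221469 (iv5 F443556) F443557 (iv5 F375324) (iv6 D188982) F339937
theorem F509167 : act 2 n211883 = n221469 := d3_3 F509166 F420199 (iv6 F463395)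
theorem F509168 : act 7 n211884 = n221469 := d14_0 F509166 F420196 (iv6 F506698) F506699 F463399
theorem F509169 : act 0 n221469 = n197911 := d21_10 F406184 F172785 (iv5 F363668) F339966 (iv1 F172247) D199187 F411082 (iv1 F443558) F443556 (iv6 F509166)
def n221470 : Q := act 1 n196466
theorem D221470 : act 1 n196466 = n221470 := rfl
theorem F509170 : act 1 n221470 = n197911 := d15_1 D221470 F406185 (iv2 F400761)
theorem F509171 : act 7 n221470 = n211883 := d15_2 (iv0 D221469) D221470 F509167
theorem F509172 : act 5 n221470 = n197894 := d17_7 (iv1 F412446) F509133 (iv1 D221463) (iv5 D196457) (iv4 F164952) D196466 D221470 (iv0 D197894) D197897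
theorem F509173 : act 4 n221470 = n197814 := d17_9 F464194 F464192 (iv1 D201007) F176969 (iv4 F178414) F363667 F361214 D196466 D221470
theorem F509174 : act 3 n218030 = n221470 := d19_19 (iv1 D221470) (iv5 D196466) F164952 (iv3 F348767) (iv1 D111308) D111310 D199412 F412059 F350417 (iv5 D141819) (iv4 F171781) F171780 (iv1 F84539) (iv5 F105781) D139516 (iv3 F387559) (iv1 F387565) D218397 F493685
theorem F509175 : act 2 n221470 = n211884 := d0_1 F509174 (iv3 F463398) (iv2 F450234) (iv3 F501732) F501731
theorem F509176 : act 6 n221470 = n209022 := d7_2 F501720 F509174 (iv3 F501718)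
def n221471 : Q := act 7 n196466
theorem D221471 : act 7 n196466 = n221471 := rfl
theorem F509177 : act 2 n221471 = n197911 := d4_1 D221471 F406185 (iv2 F400761)
theorem F509178 : act 3 n221471 = n198759 := d8_1 D221471 F409116 (iv3 F400762)
theorem F509179 : act 4 n221471 = n207367 := d11_1 D221471 F444536 F439843
theorem F509180 : act 5 n221471 = n196467 := d13_1 D221471 (iv7 D196467) D196466
theorem F509181 : act 6 n221471 = n216569 := d14_1 D221471 (iv7 D216569) F286555 (iv7 F345169) (iv6 F400763)
theorem F509182 : act 1 n211884 = n221471 := d15_1 D211884 (iv7 D221471) F400761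
theorem F509183 : act 1 n221471 = n211883 := d15_1 F509182 (iv7 F509171) F509175
def n221472 : Q := act 6 n196470
theorem D221472 : act 6 n196470 = n221472 := rfl
theorem F509184 : act 2 n221472 = n196472 := d3_1 D221472 (iv6 D196472) D196470
theorem F509185 : act 3 n221472 = n204485 := d7_1 D221472 F432680 F412020
theorem F509186 : act 4 n221472 = n205089 := d10_1 D221472 (iv6 D205089) F400781
theorem F509187 : act 5 n221472 = n204484 := d12_1 D221472 F432678 F215911 D199404 (iv5 F412017)
theorem F509188 : act 7 n221472 = n220565 := d14_2 F453640 D221472 F505616 F505770 (iv6 F505768)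
theorem F509189 : act 0 n221472 = n220560 := d21_4 (iv5 F506386) F506389 (iv5 F412017) D221472 (iv6 D220560) (iv5 F502953) (iv1 D220268) (iv5 D193259) D193260 F488275
theorem F509190 : act 1 n221472 = n220566 := d15_1 (iv0 F509189) (iv7 D220566) (iv2 F504361)
def n221473 : Q := act 1 n196472
theorem D221473 : act 1 n196472 = n221473 := rfl
theorem F509191 : act 1 n221473 = n220565 := d15_1 D221473 (iv7 F509188) F509184
theorem F509192 : act 7 n221473 = n220560 := d15_2 (iv0 F466434) D221473 F504361
theorem F509193 : act 4 n220562 = n221473 := d20_0 (iv1 D221473) (iv4 F453668) (iv3 F454778) (iv1 D193232) F363444 F363416 F322967 F359427 (iv3 F391362) (iv1 F504373)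
theorem F509194 : act 6 n211094 = n221473 := d21_3 (iv5 F464405) (iv1 D211092) D211094 (iv1 D221473) (iv6 D196472) D196471 (iv1 F459436) (iv5 F459441) F410607 F454717
theorem F509195 : act 3 n221473 = n211096 := d7_1 F509194 (iv6 D211096) (iv3 F460073)
theorem F509196 : act 2 n220566 = n221473 := d0_5 F509195 F505645 (iv3 D220809) (iv2 F393930) (iv3 F504384)
def n221474 : Q := act 7 n196472
theorem D221474 : act 7 n196472 = n221474 := rfl
theorem F509197 : act 2 n221474 = n220565 := d4_1 D221474 (iv7 F509188) F509184
theorem F509198 : act 3 n221474 = n196478 := d8_1 D221474 (iv7 D196478) (iv3 F400775)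
theorem F509199 : act 4 n221474 = n218606 := d11_1 D221474 F494719 F453668
theorem F509200 : act 5 n221474 = n208937 := d13_1 D221474 (iv7 F499740) F499741
theorem F509201 : act 6 n221474 = n220831 := d14_1 D221474 F505771 F490346 (iv7 D196473) D196472
theorem F509202 : act 1 n220566 = n221474 := d15_1 F509190 (iv7 D221474) (iv2 F509184)
theorem F509203 : act 1 n221474 = n220560 := d15_1 F509202 (iv7 F509192) (iv2 F509196)
def n221475 : Q := act 6 n196479
theorem D221475 : act 6 n196479 = n221475 := rfl
theorem F509204 : act 2 n221475 = n213875 := d3_1 D221475 (iv6 D213875) (iv2 F400788)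
theorem F509205 : act 3 n221475 = n219885 := d7_1 D221475 F501039 F472508
theorem F509206 : act 4 n221475 = n196480 := d10_1 D221475 (iv6 D196480) D196479
theorem F509207 : act 0 n202614 = n221475 := d21_4 F416779 (iv1 F400900) F400898 (iv6 F424755) (iv6 D221475) (iv5 F472506) F472504 (iv5 F407679) (iv6 F407680) D200508
theorem F509208 : act 1 n203654 = n221475 := d15_0 (iv0 F509207) (iv7 F491931) F491928
def n221476 : Q := act 4 n196483
theorem D221476 : act 4 n196483 = n221476 := rfl
theorem F509209 : act 2 n221476 = n205135 := d1_1 D221476 F435096 F412690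
theorem F509210 : act 3 n221476 = n213034 := d5_1 D221476 (iv4 D213034) F330879 (iv4 F342030) D196483
theorem F509211 : act 6 n221476 = n214319 := d10_2 (iv6 F400800) D221476 F474552
theorem F509212 : act 7 n221476 = n205136 := d11_2 F479655 D221476 (iv4 F479653)
theorem F509213 : act 5 n221476 = n219337 := d16_1 D221476 F498347 (iv5 F492590) F492589 (iv5 D209372) D209371 (iv5 F453433) (iv7 F412692) F412690
theorem F509214 : act 0 n221476 = n205137 := d17_0 (iv5 F494857) (iv1 F494859) (iv5 D198630) (iv4 F223521) (iv5 F453641) (iv0 F453643) D221466 F509149 D221476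
theorem F509215 : act 1 n221476 = n205132 := d18_6 (iv1 F227049) (iv4 F389361) (iv1 D193262) (iv4 F389340) (iv5 F400799) D221476 (iv4 D205132) D205131 (iv5 F435089)
def n221477 : Q := act 5 n196485
theorem D221477 : act 5 n196485 = n221477 := rfl
theorem F509216 : act 3 n221477 = n197718 := d6_1 D221477 (iv5 D197718) (iv3 F400806)
theorem F509217 : act 7 n221477 = n197937 := d13_2 (iv7 F400808) D221477 (iv5 D197937)
def n221478 : Q := act 5 n196486
theorem D221478 : act 5 n196486 = n221478 := rfl
theorem F509218 : act 3 n221478 = n209981 := d6_1 D221478 F455615 (iv3 F408824)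
theorem F509219 : act 6 n221478 = n214172 := d12_2 F400859 D221478 F473839 F460430 F386720
theorem F509220 : act 0 n221478 = n204853 := d17_2 D196486 D221478 F433854 (iv4 F476498) (iv5 F479998) (iv0 F505089) F505087 F479375 (iv4 F362029)
theorem F509221 : act 4 n221478 = n220732 := d17_4 (iv1 D107386) (iv5 F164967) D196486 D221478 F505209 (iv0 F480149) (iv5 D215471) F402022 (iv4 D196843)
theorem F509222 : act 1 n221478 = n199143 := d17_6 F345543 D124493 D204850 F433840 (iv4 F400855) D221478 F410865 (iv0 D198134) (iv4 F345547)
def n221479 : Q := act 5 n196490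
theorem D221479 : act 5 n196490 = n221479 := rfl
theorem F509223 : act 3 n221479 = n215521 := d6_1 D221479 F480311 F459450
theorem F509224 : act 1 n221479 = n212119 := d17_6 (iv1 D180781) (iv5 F248827) F474365 (iv5 D214277) (iv4 F400822) D221479 F464384 (iv0 F474509) F430959
theorem F509225 : act 0 n221479 = n219203 := d20_4 (iv4 F433364) D216911 F486509 (iv3 F509223) F497707 F381508 D190908 (iv4 F433328) F433327 (iv1 F433359)
def n221480 : Q := act 0 n196492
theorem D221480 : act 0 n196492 = n221480 := rfl
theorem F509226 : act 5 n221480 = n216090 := d17_3 (iv1 D196491) D196492 D221480 (iv4 D216090) (iv5 F402344) (iv0 F402346) (iv5 D157902) D157900 F400823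
def n221481 : Q := act 1 n196492
theorem D221481 : act 1 n196492 = n221481 := rfl
theorem F509227 : act 5 n221481 = n214596 := d17_7 F479038 F412312 F363664 (iv5 D157166) (iv4 F164973) D196492 D221481 (iv0 F475976) (iv4 F479036)
theorem F509228 : act 3 n214598 = n221481 := d6_3 F509227 (iv3 D214596) D214598
def n221482 : Q := act 4 n196492
theorem D221482 : act 4 n196492 = n221482 := rfl
theorem F509229 : act 6 n221482 = n205104 := d10_2 (iv6 F400825) D221482 (iv4 D205104)
def n221483 : Q := act 7 n196492
theorem D221483 : act 7 n196492 = n221483 := rfl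
theorem F509230 : act 3 n221483 = n214638 := d8_1 D221483 F476165 F434982
theorem F509231 : act 5 n221483 = n196493 := d13_1 D221483 (iv7 D196493) D196492
def n221484 : Q := act 6 n196502
theorem D221484 : act 6 n196502 = n221484 := rfl
theorem F509232 : act 2 n221484 = n215387 := d3_1 D221484 (iv6 D215387) (iv2 F400871)
theorem F509233 : act 3 n221484 = n212569 := d7_1 D221484 F466471 F412920
theorem F509234 : act 4 n221484 = n196503 := d10_1 D221484 (iv6 D196503) D196502
theorem F509235 : act 0 n218695 = n221484 := d21_4 D196457 F492495 (iv5 F492496) (iv6 F495202) (iv6 D221484) (iv5 F402050) F405822 (iv5 F476511) F476512 (iv1 D196456)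
theorem F509236 : act 1 n214178 = n221484 := d15_0 (iv0 F509235) F495203 F481915
def n221485 : Q := act 6 n196515
theorem D221485 : act 6 n196515 = n221485 := rfl
theorem F509237 : act 2 n221485 = n196915 := d3_1 D221485 (iv6 D196915) (iv2 F400927)
theorem F509238 : act 3 n221485 = n212139 := d7_1 D221485 (iv6 D212139) (iv3 F400928)
theorem F509239 : act 4 n221485 = n196516 := d10_1 D221485 (iv6 D196516) D196515
theorem F509240 : act 0 n221485 = n204492 := d21_4 D107349 D196810 F401866 D221485 F432702 (iv5 D204272) (iv1 F351531) (iv5 F351528) F351536 (iv1 F165402)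
theorem F509241 : act 5 n199077 = n221485 := d21_2 (iv5 D199561) F411441 (iv6 D221485) (iv1 F400931) D212134 F502062 (iv1 F502061) (iv5 F460323) (iv6 F505487) F505489
theorem F509242 : act 0 n202626 = n221485 := d21_4 (iv5 D134724) F102040 D116117 D202626 (iv6 D221485) (iv5 F401866) (iv1 F402416) F402418 (iv6 F422457) F422458
def n221486 : Q := act 0 n196516
theorem D221486 : act 0 n196516 = n221486 := rfl
theorem F509243 : act 5 n221486 = n204505 := d17_1 D221486 (iv1 F481692) F481690 (iv4 F470373) (iv5 F470376) F432685 D204492 (iv0 F509240) F509239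
theorem F509244 : act 4 n221486 = n196566 := d18_3 F509242 F509239 D221486 (iv5 F401095) (iv4 F449427) F449429 (iv4 F432681) (iv0 D204486) (iv5 F424818)
theorem F509245 : act 6 n221486 = n204790 := d21_5 D53283 (iv1 F365189) F365191 D196516 D221486 (iv5 D204790) F423379 (iv5 D202243) (iv6 D115501) (iv1 D53281)
theorem F509246 : act 2 n201991 = n221486 := d15_3 (iv0 D221486) F426969 (iv7 F422642)
theorem F509247 : act 1 n202141 = n221486 := d15_0 (iv0 D221486) (iv7 F472757) F472756
theorem F509248 : act 7 n221486 = n202139 := d15_2 (iv0 F426968) F509247 (iv2 F424774)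
theorem F509249 : act 3 n221486 = n202036 := d0_2 D201991 F509246 (iv2 F422840) (iv3 D139660) (iv2 F179583)
def n221487 : Q := act 5 n196516
theorem D221487 : act 5 n196516 = n221487 := rfl
theorem F509250 : act 2 n221487 = n202140 := d2_1 D221487 (iv5 D202140) (iv2 F400932)
theorem F509251 : act 3 n221487 = n213940 := d6_1 D221487 F472817 F423306
theorem F509252 : act 4 n221487 = n199279 := d9_1 D221487 (iv5 D199279) F172373 (iv5 F357705) D199081 (iv5 F481275) F481270 (iv5 F504078) (iv4 D220501) F391071 (iv4 F410558) (iv5 D199078) D199077 F509241 F509239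
theorem F509253 : act 6 n221487 = n199283 := d12_2 D196516 D221487 F411466 F406595 F365191
theorem F509254 : act 7 n221487 = n215804 := d13_2 F472757 D221487 (iv5 F481639)
theorem F509255 : act 0 n221487 = n204454 := d17_2 (iv1 F426969) D221487 (iv5 F472921) F472920 (iv5 D199807) (iv0 F410237) (iv5 D196567) (iv0 F400248) F228358
theorem F509256 : act 1 n221487 = n204451 := d17_6 F505489 (iv5 D199561) F411441 F509241 F509239 D221487 F432580 (iv0 F469368) (iv4 F505486)
def n221488 : Q := act 0 n196521
theorem D221488 : act 0 n196521 = n221488 := rfl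
theorem F509257 : act 4 n221488 = n196667 := d18_3 (iv1 D196520) D196521 D221488 (iv5 D196667) (iv4 D107189) (iv0 D49522) (iv4 F78273) D107176 (iv5 F400950)
theorem F509258 : act 6 n221488 = n197406 := d21_5 (iv5 D122585) D122582 F299584 F400957 D221488 (iv5 F461391) F461390 F430689 F405288 (iv1 F302317)
theorem F509259 : act 2 n202151 = n221488 := d15_3 (iv0 D221488) (iv0 F502083) F502082
theorem F509260 : act 1 n202142 = n221488 := d15_0 (iv0 D221488) F400956 (iv2 F423025)
theorem F509261 : act 7 n221488 = n202150 := d15_2 (iv0 F502084) F509260 (iv2 F502078)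
theorem F509262 : act 3 n197407 = n221488 := d19_19 (iv1 F509260) F423026 (iv4 D196709) F165281 (iv1 F162038) (iv5 D105529) (iv4 D48792) F37108 (iv1 F22627) (iv5 D6418) D6417 F18096 (iv1 D11148) D11149 D23791 D48783 D105513 F361839 (iv4 F404169)
def n221489 : Q := act 5 n196523
theorem D221489 : act 5 n196523 = n221489 := rfl
theorem F509263 : act 2 n221489 = n203620 := d2_1 D221489 F429105 F400965
theorem F509264 : act 7 n221489 = n213970 := d13_2 F502610 D221489 F502613
theorem F509265 : act 0 n221489 = n213965 := d17_2 D196523 D221489 (iv5 D213965) (iv4 F362345) (iv5 D109221) D109220 F351133 F351316 (iv4 F164999)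
theorem F509266 : act 1 n221489 = n213971 := d17_6 D206347 F440347 (iv1 F449986) (iv5 F499954) F499950 D221489 F472929 (iv0 F427002) F427000
theorem F509267 : act 4 n208852 = n221489 := d17_9 F509265 (iv5 D213965) F427004 (iv5 F469428) F469427 F367247 (iv0 F351279) D203366 F451123
def n221490 : Q := act 5 n196524
theorem D221490 : act 5 n196524 = n221490 := rfl
theorem F509268 : act 2 n221490 = n213970 := d2_1 D221490 F502613 F502607
theorem F509269 : act 3 n221490 = n203110 := d6_1 D221490 F427012 F400962
theorem F509270 : act 7 n221490 = n203620 := d13_2 (iv7 F400964) D221490 F429105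
theorem F509271 : act 0 n221490 = n213971 := d17_2 F470435 D221490 F472929 (iv4 F424752) F424748 (iv0 D180792) F345410 F365891 D213444
theorem F509272 : act 1 n221490 = n213965 := d17_6 F440355 F440352 F430682 F430680 F400963 D221490 (iv5 D213965) F429093 F429089
theorem F509273 : act 4 n221490 = n208853 := d20_8 D217522 (iv1 F503902) F503898 (iv3 F498538) F498537 (iv3 F432581) (iv4 F472912) (iv1 F509272) F492396 (iv1 D217521)
def n221491 : Q := act 3 n196529
theorem D221491 : act 3 n196529 = n221491 := rfl
theorem F509274 : act 4 n221491 = n208665 := d5_2 F400986 D221491 F450376 (iv4 F438254) F438253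
theorem F509275 : act 6 n221491 = n205885 := d7_2 (iv6 F400987) D221491 (iv3 D205885)
theorem F509276 : act 7 n221491 = n202076 := d8_2 F422758 D221491 (iv3 D202076)
def n221492 : Q := act 5 n196529
theorem D221492 : act 5 n196529 = n221492 := rfl
theorem F509277 : act 2 n221492 = n202075 := d2_1 D221492 (iv5 D202075) (iv2 F422756)
theorem F509278 : act 7 n221492 = n202078 := d13_2 F422758 D221492 (iv5 D202078)
theorem F509279 : act 4 n221492 = n220629 := d16_2 F400986 D221492 (iv5 D220629) F392017 (iv5 F367266) (iv4 F374016) (iv5 F406389) (iv7 F422836) F422834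
theorem F509280 : act 0 n221492 = n213810 := d17_2 D196529 D221492 (iv5 D213810) F244859 (iv5 F200970) F432325 F432323 (iv0 D200155) F175433
theorem F509281 : act 1 n221492 = n204598 := d17_6 (iv1 D197121) D197122 F438272 (iv5 D205886) F400986 D221492 F473783 F473782 F472186
def n221493 : Q := act 5 n196530
theorem D221493 : act 5 n196530 = n221493 := rfl
theorem F509282 : act 2 n221493 = n202078 := d2_1 D221493 (iv5 D202078) F422760
theorem F509283 : act 3 n221493 = n213978 := d6_1 D221493 (iv5 F472957) F422769
theorem F509284 : act 7 n221493 = n202075 := d13_2 (iv7 F422759) D221493 (iv5 D202075)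
theorem F509285 : act 0 n221493 = n204598 := d17_2 (iv1 F400978) D221493 F473783 F473779 (iv5 F467071) (iv0 F467074) F360260 (iv0 F350639) (iv4 F179640)
theorem F509286 : act 1 n221493 = n213810 := d17_6 D203560 F432574 F432573 (iv5 F406389) (iv4 F406388) D221493 (iv5 D213810) (iv0 F423418) F423416
def n221494 : Q := act 6 n196530
theorem D221494 : act 6 n196530 = n221494 := rfl
theorem F509287 : act 2 n221494 = n202079 := d3_1 D221494 (iv6 D202079) F422760
theorem F509288 : act 3 n221494 = n213846 := d7_1 D221494 (iv6 F472372) F422769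
theorem F509289 : act 4 n221494 = n205893 := d10_1 D221494 F438310 (iv4 F406388)
theorem F509290 : act 7 n221494 = n205891 := d14_2 (iv7 F422759) D221494 (iv6 D205891) F203958 (iv6 F422755)
theorem F509291 : act 0 n215429 = n221494 := d21_4 (iv5 F366396) (iv1 F443616) F443619 (iv6 F479954) (iv6 D221494) D221493 F509285 F473783 (iv6 D214159) F320435
theorem F509292 : act 1 n215428 = n221494 := d15_0 (iv0 F509291) F479955 (iv2 F479946)
def n221495 : Q := act 0 n196531
theorem D221495 : act 0 n196531 = n221495 := rfl
theorem F509293 : act 5 n221495 = n214160 := d17_3 (iv1 D196530) D196531 D221495 F473786 F428824 F406395 (iv5 D197985) D197984 (iv4 F406388)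
theorem F509294 : act 6 n221495 = n209897 := d21_5 F220173 F111355 D107054 (iv6 F400981) D221495 (iv5 D209897) (iv1 D137069) (iv5 F220180) (iv6 D137046) D137043
theorem F509295 : act 1 n202083 = n221495 := d15_0 (iv0 D221495) (iv7 F432991) F432994
theorem F509296 : act 2 n202080 = n221495 := d3_3 F509294 (iv2 F472946) (iv6 F472949)
theorem F509297 : act 7 n202081 = n221495 := d14_0 F509294 (iv7 F472937) F472936 (iv7 F472969) (iv6 F472971)
def n221496 : Q := act 1 n196531
theorem D221496 : act 1 n196531 = n221496 := rfl
theorem F509298 : act 1 n221496 = n202083 := d15_1 D221496 (iv7 D202083) (iv2 F400979)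
theorem F509299 : act 7 n221496 = n202080 := d15_2 (iv0 D221495) D221496 F509296
theorem F509300 : act 5 n221496 = n209891 := d17_7 D179317 (iv5 F347856) F415286 (iv5 D200156) F175433 D196531 D221496 (iv0 F455278) F320440
theorem F509301 : act 4 n221496 = n202097 := d17_9 F504707 (iv5 F504699) (iv1 D220627) D220629 (iv4 F509279) (iv5 D221492) (iv0 D196529) D196531 D221496
theorem F509302 : act 6 n202096 = n221496 := d21_3 (iv5 F455068) (iv1 F455070) (iv5 F422872) (iv1 D221496) F400981 (iv5 D107054) D107053 (iv5 F220177) (iv6 F455037) F455040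
theorem F509303 : act 2 n221496 = n202081 := d3_1 F509302 F472971 F472968
theorem F509304 : act 3 n221496 = n209893 := d7_1 F509302 F472983 F472980
def n221497 : Q := act 4 n196531
theorem D221497 : act 4 n196531 = n221497 := rfl
theorem F509305 : act 2 n221497 = n202082 := d1_1 D221497 (iv4 D202082) (iv2 F400979)
theorem F509306 : act 6 n221497 = n196534 := d10_2 (iv6 F400981) D221497 (iv4 D196534)
theorem F509307 : act 5 n221497 = n220644 := d16_1 D221497 (iv4 D220644) F488215 F488210 F415452 (iv4 F179640) (iv5 F422852) (iv7 D202083) (iv2 F400979)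
theorem F509308 : act 0 n213989 = n221497 := d19_0 F509307 (iv4 D220644) D220643 (iv1 F504771) (iv5 D203573) (iv4 F357745) (iv3 D146048) (iv1 D68478) F50171 (iv4 F98072) (iv3 F313518) (iv1 F130251) (iv5 F87019) D119572 F355104 (iv1 F241663) (iv5 F432578) (iv4 F469471) (iv3 F473002)
def n221498 : Q := act 7 n196534
theorem D221498 : act 7 n196534 = n221498 := rfl
theorem F509309 : act 2 n221498 = n202105 := d4_1 D221498 (iv7 D202105) (iv2 F400995)
theorem F509310 : act 4 n221498 = n196535 := d11_1 D221498 (iv7 D196535) D196534
theorem F509311 : act 5 n221498 = n202125 := d13_1 D221498 (iv7 F455027) F455026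
theorem F509312 : act 1 n202102 = n221498 := d15_1 D202102 (iv7 D221498) F400995
theorem F509313 : act 1 n221498 = n202101 := d15_1 F509312 (iv7 F473015) F473013
def n221499 : Q := act 6 n196535
theorem D221499 : act 6 n196535 = n221499 := rfl
theorem F509314 : act 2 n221499 = n202106 := d3_1 D221499 (iv6 D202106) (iv2 F400996)
theorem F509315 : act 5 n221499 = n202180 := d12_1 D221499 (iv6 D202180) F179715 (iv6 F165014) (iv5 F400997)
theorem F509316 : act 0 n210845 = n221499 := d21_4 F469511 F393238 D213983 F472976 (iv6 D221499) F400997 (iv1 F165015) D115367 D202093 (iv1 F469513)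
def n221500 : Q := act 5 n196536
theorem D221500 : act 5 n196536 = n221500 := rfl
theorem F509317 : act 2 n221500 = n196539 := d2_1 D221500 (iv5 D196539) (iv2 F401000)
theorem F509318 : act 3 n221500 = n212127 := d6_1 D221500 (iv5 D212127) (iv3 F401001)
theorem F509319 : act 6 n221500 = n212127 := d12_2 D196536 D221500 (iv5 D212127) (iv6 D145350) (iv5 F165019)
theorem F509320 : act 7 n221500 = n215472 := d13_2 (iv7 F401003) D221500 (iv5 D215472)
theorem F509321 : act 4 n221500 = n208165 := d16_2 (iv4 F401002) D221500 (iv5 D208165) F214815 (iv5 F319755) F195631 D170734 F346554 F346553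
theorem F509322 : act 1 n221500 = n218272 := d17_6 F361995 F279071 D212236 F464890 (iv4 F401002) D221500 F493063 (iv0 F415052) F410704
def n221501 : Q := act 3 n196537
theorem D221501 : act 3 n196537 = n221501 := rfl
theorem F509323 : act 2 n221501 = n212140 := d0_1 D221501 (iv3 F464463) F412949 F476864 F476858
theorem F509324 : act 4 n221501 = n210004 := d5_2 (iv4 F401015) D221501 (iv3 F458395) (iv4 F466028) F466026
theorem F509325 : act 7 n221501 = n212141 := d8_2 F476854 D221501 (iv3 F476852)
theorem F509326 : act 0 n221501 = n212143 := d20_4 F476882 (iv1 F366950) (iv4 F401015) D221501 F464468 (iv4 F341051) (iv1 F159160) (iv4 F341055) D212205 (iv1 F476885)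
theorem F509327 : act 0 n212139 = n221501 := d20_4 F228358 (iv1 F426969) (iv4 F509239) F509238 (iv3 D221501) F401015 (iv1 D174526) (iv4 F273405) (iv3 F415072) (iv1 F415075)
theorem F509328 : act 6 n221501 = n210003 := d21_5 (iv5 F410826) (iv1 F410830) F402439 D212139 F509327 F455703 (iv1 F462022) (iv5 D211534) (iv6 D142803) D142801
def n221502 : Q := act 6 n196537
theorem D221502 : act 6 n196537 = n221502 := rfl
theorem F509329 : act 2 n221502 = n198143 := d3_1 D221502 (iv6 F476860) F476858
theorem F509330 : act 3 n221502 = n210003 := d7_1 D221502 (iv6 F509328) (iv3 D221501)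
theorem F509331 : act 4 n221502 = n215438 := d10_1 D221502 (iv6 D215438) (iv4 F401015)
theorem F509332 : act 5 n221502 = n199511 := d12_1 D221502 (iv6 D199511) D199510 (iv6 F492878) F492876
theorem F509333 : act 7 n221502 = n221478 := d14_2 F476854 D221502 F509219 F473844 (iv6 F476853)
def n221503 : Q := act 3 n196538
theorem D221503 : act 3 n196538 = n221503 := rfl
theorem F509334 : act 5 n221503 = n199519 := d6_2 (iv5 F401007) D221503 F412495
theorem F509335 : act 6 n221503 = n219890 := d7_2 F401006 D221503 F501065
theorem F509336 : act 7 n221503 = n198145 := d8_2 F476861 D221503 F476864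
def n221504 : Q := act 0 n196539
theorem D221504 : act 0 n196539 = n221504 := rfl
theorem F509337 : act 5 n221504 = n221289 := d17_3 (iv1 D196538) D196539 D221504 F508183 (iv5 D207969) F344835 (iv5 F256825) F366953 (iv4 F401005)
theorem F509338 : act 4 n221504 = n216896 := d18_1 D221504 F486454 (iv4 F479989) (iv5 D215436) F273405 D174526 (iv4 F401015) (iv0 D196537) D196539
theorem F509339 : act 6 n221504 = n209482 := d21_5 F424808 (iv1 D145352) D145353 (iv6 F401009) D221504 (iv5 D209482) D209480 F453865 (iv6 F492491) (iv1 F492492)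
theorem F509340 : act 7 n218272 = n221504 := d14_0 F509339 F453879 F432795 (iv7 F412798) D218272
theorem F509341 : act 0 n221504 = n215472 := d21_10 (iv5 D215472) (iv1 F401004) F401007 (iv6 D188995) F143391 D188636 F453874 (iv1 D209481) D209482 (iv6 F509339)
def n221505 : Q := act 7 n196539
theorem D221505 : act 7 n196539 = n221505 := rfl
theorem F509342 : act 2 n221505 = n215472 := d4_1 D221505 (iv7 F509320) F509317
theorem F509343 : act 3 n221505 = n196547 := d8_1 D221505 (iv7 D196547) (iv3 F401008)
theorem F509344 : act 4 n221505 = n217708 := d11_1 D221505 F490237 F421156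
theorem F509345 : act 5 n221505 = n196540 := d13_1 D221505 (iv7 D196540) D196539
theorem F509346 : act 6 n221505 = n218182 := d14_1 D221505 F492564 (iv6 F421565) F421566 (iv6 F401009)
theorem F509347 : act 1 n218272 = n221505 := d15_1 F509322 (iv7 D221505) (iv2 F509317)
def n221506 : Q := act 4 n196542
theorem D221506 : act 4 n196542 = n221506 := rfl
theorem F509348 : act 2 n221506 = n211911 := d1_1 D221506 (iv4 D211911) (iv2 F401018)
theorem F509349 : act 5 n221506 = n200664 := d9_2 D196542 D221506 (iv4 D200664) (iv5 F326810) F326809 F93340 (iv4 F165026) D196544 (iv4 F465669) (iv5 D212399) (iv4 F395590) (iv5 F402215) (iv4 D196899) (iv5 D107435) (iv4 F165030)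
theorem F509350 : act 7 n221506 = n212112 := d11_2 (iv7 F401019) D221506 (iv4 D212112)
theorem F509351 : act 0 n221506 = n221450 := d18_2 F410712 D221506 (iv4 D221450) (iv5 D196432) F166502 (iv0 D51155) (iv4 F80700) D110940 D199109
theorem F509352 : act 1 n221506 = n206594 := d18_6 (iv1 D107431) F78368 D49622 (iv4 F165030) D196542 D221506 F441484 (iv0 F402206) (iv5 D196897)
theorem F509353 : act 3 n207850 = n221506 := d20_5 (iv4 D106344) D106342 (iv4 F179004) D201644 F446714 (iv4 D221506) (iv1 F410703) (iv4 F421576) (iv3 D201726) F179134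
def n221507 : Q := act 5 n196543
theorem D221507 : act 5 n196543 = n221507 := rfl
theorem F509354 : act 2 n221507 = n212144 := d2_1 D221507 (iv5 D212144) (iv2 F401022)
theorem F509355 : act 3 n221507 = n196544 := d6_1 D221507 (iv5 D196544) D196543
theorem F509356 : act 4 n221507 = n196776 := d9_1 D221507 F401753 (iv4 D190060) (iv5 D95595) (iv4 F125269) (iv5 F342457) (iv4 F402274) (iv5 F406861) F406860 D198112 F406871 F286130 (iv4 F314955) F342460 (iv4 F401020)
theorem F509357 : act 6 n221507 = n213719 := d12_2 F427094 D221507 (iv5 D213719) F389302 (iv5 F427096)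
theorem F509358 : act 7 n221507 = n210784 := d13_2 (iv7 F401021) D221507 (iv5 D210784)
theorem F509359 : act 0 n221507 = n213374 := d17_2 F401023 D221507 F470130 (iv4 D194523) (iv5 D103706) F75489 (iv5 F129568) F159160 F341051
theorem F509360 : act 1 n221507 = n211540 := d17_6 F322382 (iv5 F342454) F342449 F342460 (iv4 F401020) D221507 (iv5 D211540) (iv0 F353411) F241581
def n221508 : Q := act 4 n196545
theorem D221508 : act 4 n196545 = n221508 := rfl
theorem F509361 : act 2 n221508 = n212108 := d1_1 D221508 F464353 F401030
theorem F509362 : act 3 n221508 = n207931 := d5_1 D221508 (iv4 F502496) F505673 (iv4 D220814) F401033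
theorem F509363 : act 5 n221508 = n200098 := d9_2 (iv5 F401028) D221508 (iv4 D200098) (iv5 D112618) F82077 F39719 (iv4 F78162) D107004 D196458 (iv5 F417393) (iv4 D200662) (iv5 D113320) F82684 (iv5 F80703) (iv4 F171988)
theorem F509364 : act 7 n221508 = n199110 := d11_2 (iv7 F401031) D221508 (iv4 D199110)
theorem F509365 : act 0 n221508 = n206092 := d17_0 (iv5 D206092) F383701 D212399 F465669 (iv5 D196544) F165025 (iv5 F228401) F401032 D221508
theorem F509366 : act 1 n221508 = n196898 := d18_6 (iv1 F166511) (iv4 D107759) (iv1 F80706) (iv4 F171988) (iv5 F401028) D221508 (iv4 D196898) (iv0 F201827) (iv5 D125489)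
def n221509 : Q := act 6 n196547
theorem D221509 : act 6 n196547 = n221509 := rfl
theorem F509367 : act 2 n221509 = n212133 := d3_1 D221509 (iv6 D212133) (iv2 F401037)
theorem F509368 : act 3 n221509 = n218182 := d7_1 D221509 (iv6 F509346) F509343
theorem F509369 : act 5 n221509 = n212123 := d12_1 D221509 (iv6 D212123) F228386 (iv6 F165038) (iv5 F401038)
theorem F509370 : act 7 n221509 = n212133 := d14_2 D196547 D221509 (iv6 D212133) (iv7 D145357) (iv6 F165034)
theorem F509371 : act 0 n221509 = n218276 := d21_4 (iv5 D144406) (iv1 F165040) (iv5 F401038) D221509 (iv6 D218276) F379914 (iv1 D100983) (iv5 F293127) D188882 F375139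
theorem F509372 : act 0 n218276 = n221509 := d21_4 F474989 F379913 (iv5 F379914) D218276 (iv6 D221509) F401038 (iv1 F165039) D145326 (iv6 F401029) F474992
def n221510 : Q := act 5 n196552
theorem D221510 : act 5 n196552 = n221510 := rfl
theorem F509373 : act 2 n221510 = n196555 := d2_1 D221510 (iv5 D196555) (iv2 F401061)
theorem F509374 : act 3 n221510 = n204890 := d6_1 D221510 (iv5 D204890) (iv3 F401062)
theorem F509375 : act 6 n221510 = n204890 := d12_2 D196552 D221510 (iv5 D204890) F330948 (iv5 F165048)
theorem F509376 : act 7 n221510 = n215466 := d13_2 F401064 D221510 F480121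
theorem F509377 : act 4 n221510 = n215223 := d16_2 (iv4 F401063) D221510 F478949 (iv4 F353319) (iv5 D174649) (iv4 F197885) (iv5 F363365) F221679 (iv2 F223625)
def n221511 : Q := act 3 n196553
theorem D221511 : act 3 n196553 = n221511 := rfl
theorem F509378 : act 4 n221511 = n220224 := d5_2 F501744 D221511 F502734 (iv4 F459537) (iv3 F501743)
theorem F509379 : act 6 n221511 = n220270 := d7_2 (iv6 F404401) D221511 F502961
theorem F509380 : act 7 n221511 = n220222 := d8_2 F509050 D221511 (iv3 F509047)
def n221512 : Q := act 5 n196553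
theorem D221512 : act 5 n196553 = n221512 := rfl
theorem F509381 : act 4 n221512 = n217414 := d17_4 F459182 (iv5 D196555) D196553 D221512 (iv5 F492220) (iv0 D214747) F366948 D215516 (iv4 F480292)
def n221513 : Q := act 3 n196554
theorem D221513 : act 3 n196554 = n221513 := rfl
theorem F509382 : act 2 n221513 = n212136 := d0_1 D221513 (iv3 F504235) F504234 (iv3 F509047) (iv2 F509048)
theorem F509383 : act 7 n221513 = n212135 := d8_2 (iv7 F473850) D221513 (iv3 F473846)
theorem F509384 : act 5 n218834 = n221513 := d2_0 F509382 (iv5 F464452) F495841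
theorem F509385 : act 0 n221513 = n202133 := d17_2 D218834 F509384 (iv5 F433505) F461435 F461434 (iv0 F498079) (iv5 D219276) F495779 F495774
theorem F509386 : act 1 n221513 = n212137 := d17_6 (iv1 F431010) (iv5 F406581) F503056 F503052 F495843 F509384 F464454 F433502 (iv4 F431009)
def n221514 : Q := act 4 n196554
theorem D221514 : act 4 n196554 = n221514 := rfl
theorem F509387 : act 2 n221514 = n220227 := d1_1 D221514 (iv4 F509046) (iv2 F509048)
theorem F509388 : act 6 n221514 = n220226 := d10_2 F502951 D221514 F502746
theorem F509389 : act 7 n221514 = n210908 := d11_2 (iv7 F473850) D221514 (iv4 F473847)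
theorem F509390 : act 0 n221514 = n202463 := d18_2 (iv1 F401066) D221514 F424108 D212192 (iv4 F464705) D215516 (iv4 F480292) (iv0 F480122) F480121
theorem F509391 : act 5 n221514 = n198047 := d18_4 (iv1 F457289) F457285 (iv1 F401066) D221514 (iv4 F414075) (iv0 F414082) F406535 F459625 (iv5 D210983)
theorem F509392 : act 1 n221514 = n215893 := d18_8 D220933 F506349 (iv1 D215221) F268325 F341279 (iv4 F165054) D196554 D221514 F481961
theorem F509393 : act 3 n221514 = n198048 := d20_3 F457285 (iv1 F401066) D221514 F406586 (iv3 F424074) (iv4 F425559) F447726 (iv4 F459617) (iv3 D210981) (iv1 F457289)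
def n221515 : Q := act 5 n196554
theorem D221515 : act 5 n196554 = n221515 := rfl
theorem F509394 : act 3 n221515 = n218834 := d6_1 D221515 F509384 (iv3 D221513)
def n221516 : Q := act 0 n196555
theorem D221516 : act 0 n196555 = n221516 := rfl
theorem F509395 : act 5 n221516 = n215453 := d17_1 D221516 (iv1 D215453) D215456 (iv4 F487691) F487692 (iv0 F497555) F497554 (iv0 D215474) F401069
theorem F509396 : act 4 n221516 = n215515 := d20_2 F401069 D221516 F488998 (iv1 F488989) (iv3 F488691) (iv4 D217390) F369821 D217439 F488881 (iv1 D215475)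
theorem F509397 : act 1 n215466 = n221516 := d15_0 (iv0 D221516) (iv7 F509055) F509052
def n221517 : Q := act 5 n196556
theorem D221517 : act 5 n196556 = n221517 := rfl
theorem F509398 : act 2 n221517 = n218832 := d2_1 D221517 F495837 F401073
theorem F509399 : act 3 n221517 = n196557 := d6_1 D221517 (iv5 D196557) D196556
theorem F509400 : act 4 n221517 = n218941 := d9_1 D221517 F496292 (iv4 F476925) (iv5 F488961) (iv4 D217457) (iv5 F393676) (iv4 F407859) (iv5 F497425) F497424 F495634 F402377 D212196 (iv4 F464713) (iv5 F369858) (iv4 F401070)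
theorem F509401 : act 7 n221517 = n205102 := d13_2 (iv7 F401072) D221517 (iv5 D205102)
theorem F509402 : act 0 n221517 = n220827 := d17_2 (iv1 F410854) D221517 (iv5 D220827) F393854 F159295 D190182 (iv5 F495579) (iv0 F500279) F500280
theorem F509403 : act 6 n221517 = n218864 := d21_3 F495907 (iv1 F410854) D221517 (iv1 D218864) (iv6 D190198) (iv5 F149684) (iv1 F369856) (iv5 D187329) D187330 D217454
def n221518 : Q := act 4 n196557
theorem D221518 : act 4 n196557 = n221518 := rfl
theorem F509404 : act 2 n221518 = n211958 := d1_1 D221518 (iv4 D211958) (iv2 F401074)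
theorem F509405 : act 5 n221518 = n207757 := d9_2 D196557 D221518 (iv4 D207757) (iv5 D132271) F96700 F47068 (iv4 F79050) D108200 D197464 (iv5 F508458) F508455 F399283 F206977 F95138 (iv4 F165057)
theorem F509406 : act 7 n221518 = n205104 := d11_2 (iv7 F401075) D221518 (iv4 D205104)
theorem F509407 : act 0 n221518 = n221441 := d18_2 (iv1 F404438) D221518 (iv4 D221441) (iv5 F411352) F411349 (iv0 F201805) D131970 F211448 (iv5 F404437)
theorem F509408 : act 1 n221518 = n221439 := d18_6 (iv1 F165535) F104285 (iv1 F78387) (iv4 F165057) D196557 D221518 (iv4 D221439) (iv0 D196422) (iv5 D106966)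
def n221519 : Q := act 6 n196557
theorem D221519 : act 6 n196557 = n221519 := rfl
theorem F509409 : act 2 n221519 = n211959 := d3_1 D221519 (iv6 D211959) (iv2 F401074)
theorem F509410 : act 3 n221519 = n218864 := d7_1 D221519 (iv6 F509403) F509399
def n221520 : Q := act 4 n196558
theorem D221520 : act 4 n196558 = n221520 := rfl
theorem F509411 : act 2 n221520 = n212086 := d1_1 D221520 F464277 F401078
theorem F509412 : act 3 n221520 = n219259 := d5_1 D221520 (iv4 D219259) F381852 D191008 F401260
theorem F509413 : act 7 n221520 = n212087 := d11_2 F401079 D221520 F464281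
theorem F509414 : act 5 n221520 = n221340 := d16_1 D221520 (iv4 D221340) (iv5 D196061) (iv4 D106592) (iv5 F80845) (iv4 F165438) (iv5 F401082) F401081 F401078
theorem F509415 : act 0 n221520 = n212090 := d17_0 F464290 (iv1 F446273) (iv5 F509405) (iv4 D221518) (iv5 D196557) F165055 (iv5 F228386) F401077 D221520
theorem F509416 : act 1 n221520 = n196912 := d18_6 F211334 F204333 (iv1 F100264) D129794 (iv5 F401076) D221520 (iv4 D196912) (iv0 F402127) (iv5 D196878)
def n221521 : Q := act 4 n196559
theorem D221521 : act 4 n196559 = n221521 := rfl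
theorem F509417 : act 2 n221521 = n212087 := d1_1 D221521 F464281 F401083
theorem F509418 : act 5 n221521 = n207008 := d9_2 (iv5 F401082) D221521 (iv4 D207008) (iv5 D129793) (iv4 D60959) D60960 D129794 (iv5 F401076) D221520 F509414 (iv4 D221340) (iv5 D196061) (iv4 D106592) (iv5 F80845) (iv4 F165438)
theorem F509419 : act 7 n221521 = n212086 := d11_2 (iv7 F401081) D221521 F464277
theorem F509420 : act 0 n221521 = n196912 := d17_0 (iv5 F445448) (iv1 F508453) F508458 (iv4 D197464) (iv5 D108200) (iv0 F79051) D107076 D196559 D221521
theorem F509421 : act 1 n221521 = n212090 := d18_6 F399943 F227004 F103526 (iv4 F165438) (iv5 F401082) D221521 F464289 F402259 F402256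
def n221522 : Q := act 6 n196559
theorem D221522 : act 6 n196559 = n221522 := rfl
theorem F509422 : act 2 n221522 = n212119 := d3_1 D221522 (iv6 D212119) F401083
theorem F509423 : act 3 n221522 = n197924 := d7_1 D221522 (iv6 F496009) F496006
theorem F509424 : act 5 n221522 = n196857 := d12_1 D221522 (iv6 D196857) (iv5 D107392) D107393 (iv5 F401082)
theorem F509425 : act 7 n221522 = n219203 := d14_2 (iv7 F401081) D221522 (iv6 D219203) F381506 F401258
def n221523 : Q := act 5 n196562
theorem D221523 : act 5 n196562 = n221523 := rfl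
theorem F509426 : act 3 n221523 = n200509 := d6_1 D221523 F416785 F402270
theorem F509427 : act 7 n221523 = n201946 := d13_2 F415014 D221523 F422482
theorem F509428 : act 4 n221523 = n211073 := d16_2 (iv4 F402269) D221523 F459993 (iv4 F509006) F509007 F401609 (iv5 F401052) F401053 F402271
theorem F509429 : act 0 n221523 = n196667 := d17_2 (iv1 F401090) D221523 (iv5 D196667) (iv4 D107189) (iv5 F172110) (iv0 D49550) F37899 D49465 D107084
theorem F509430 : act 1 n221523 = n196670 := d17_6 D107346 (iv5 F397059) (iv1 F398752) (iv5 F402268) (iv4 F402269) D221523 (iv5 D196670) (iv0 F225607) (iv4 D107348)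
theorem F509431 : act 6 n221523 = n215843 := d21_3 (iv5 D196570) (iv1 F401090) D221523 (iv1 F481760) F459723 (iv5 F504265) F504268 F422426 D201934 (iv1 F422438)
def n221524 : Q := act 2 n196563
theorem D221524 : act 2 n196563 = n221524 := rfl
theorem F509432 : act 3 n221524 = n197976 := d0_2 D196563 D221524 (iv2 F406357) F203868 F182544
theorem F509433 : act 4 n221524 = n209642 := d1_2 F402381 D221524 F454446
theorem F509434 : act 7 n221524 = n205847 := d4_2 F415023 D221524 F438124
theorem F509435 : act 1 n221524 = n201993 := d15_0 (iv0 F422651) F415023 D221524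
theorem F509436 : act 1 n202790 = n221524 := d15_0 F509435 F422650 (iv2 F425594)
def n221525 : Q := act 0 n196565
theorem D221525 : act 0 n196565 = n221525 := rfl
theorem F509437 : act 5 n221525 = n204508 := d17_1 D221525 (iv1 F432754) (iv5 F481980) F481982 F413594 (iv0 F364123) F401095 (iv0 D196566) (iv4 F401092)
theorem F509438 : act 4 n221525 = n204827 := d18_3 F400248 (iv4 F401092) D221525 F433735 (iv4 D204203) F197311 (iv4 F198328) (iv0 F424152) F424150
theorem F509439 : act 6 n221525 = n204809 := d21_5 D201940 F422472 (iv5 D196564) D196565 D221525 F433669 F346597 (iv5 F476030) (iv6 F476036) F398694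
theorem F509440 : act 3 n204615 = n221525 := d7_3 F509439 (iv3 F508973) F508975
def n221526 : Q := act 0 n196571
theorem D221526 : act 0 n196571 = n221526 := rfl
theorem F509441 : act 3 n221526 = n215925 := d20_5 F428908 F341161 D215327 F479417 D221526 (iv4 F502994) (iv1 F502996) D220283 F503014 F428909
theorem F509442 : act 6 n221526 = n215924 := d21_5 (iv5 F422435) (iv1 F422438) (iv5 D196570) D196571 D221526 F482110 F472549 (iv5 F413625) F413626 F401782
def n221527 : Q := act 1 n196571
theorem D221527 : act 1 n196571 = n221527 := rfl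
theorem F509443 : act 4 n221527 = n221513 := d18_7 (iv1 D204765) F198792 D124311 (iv4 F436682) (iv5 D196573) (iv4 F401111) D221527 F509386 F464454
def n221528 : Q := act 5 n196571
theorem D221528 : act 5 n196571 = n221528 := rfl
theorem F509444 : act 3 n221528 = n219887 := d6_1 D221528 F501045 F479417
theorem F509445 : act 6 n221528 = n219886 := d12_2 D196571 D221528 (iv5 D219886) F401110 (iv5 D196570)
def n221529 : Q := act 5 n196574
theorem D221529 : act 5 n196574 = n221529 := rfl
theorem F509446 : act 3 n221529 = n203587 := d6_1 D221529 F429006 F423858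
theorem F509447 : act 6 n221529 = n203585 := d12_2 (iv6 F401113) D221529 (iv5 D203585) D203586 (iv5 F429001)
theorem F509448 : act 4 n221529 = n216721 := d16_2 D196574 D221529 F485619 F429729 (iv5 D192744) (iv4 F351130) F351133 D194470 F393344
def n221530 : Q := act 6 n196576
theorem D221530 : act 6 n196576 = n221530 := rfl
theorem F509449 : act 2 n221530 = n216516 := d3_1 D221530 (iv6 D216516) (iv2 F401119)
theorem F509450 : act 3 n221530 = n196577 := d7_1 D221530 (iv6 D196577) (iv3 F401120)
theorem F509451 : act 4 n221530 = n220165 := d10_1 D221530 (iv6 D220165) (iv4 F401122)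
theorem F509452 : act 5 n221530 = n215663 := d12_1 D221530 F481017 (iv5 D209993) F364416 D196576
theorem F509453 : act 7 n221530 = n201346 := d14_2 (iv7 F401121) D221530 (iv6 D201346) (iv7 F178589) F362356
def n221531 : Q := act 4 n196578
theorem D221531 : act 4 n196578 = n221531 := rfl
theorem F509454 : act 3 n221531 = n203997 := d5_1 D221531 F430770 (iv3 F365883) (iv4 F455667) F455666
theorem F509455 : act 6 n221531 = n204066 := d10_2 (iv6 F401130) D221531 F430959
theorem F509456 : act 7 n221531 = n197797 := d11_2 (iv7 F401131) D221531 F405820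
theorem F509457 : act 0 n221531 = n196868 := d17_0 F402091 (iv1 F362032) (iv5 D174153) (iv4 F332999) F80710 D51244 D111119 (iv0 F401132) D221531
theorem F509458 : act 1 n221531 = n196864 := d18_6 F247342 (iv4 D111125) (iv1 F100275) (iv4 F165070) D196578 D221531 (iv4 D196864) D196863 F402067
def n221532 : Q := act 0 n196585
theorem D221532 : act 0 n196585 = n221532 := rfl
theorem F509459 : act 5 n221532 = n196848 := d17_1 D221532 (iv1 F433726) (iv5 F433724) (iv4 F404869) (iv5 F508823) (iv0 F508826) (iv5 F501270) (iv0 D219938) (iv4 F401155)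
theorem F509460 : act 4 n221532 = n213287 := d18_1 D221532 (iv1 F469737) (iv4 D198229) (iv5 D109057) (iv4 F169052) D198213 (iv4 F479061) (iv0 D215255) (iv5 F401156)
theorem F509461 : act 3 n221532 = n213284 := d20_5 (iv4 D107425) F164848 (iv4 F165078) (iv3 F401154) D221532 (iv4 D213284) (iv1 F351827) (iv4 F473914) F473913 F247364
theorem F509462 : act 7 n212130 = n221532 := d8_0 F509461 F469720 (iv3 F464434)
def n221533 : Q := act 6 n196588
theorem D221533 : act 6 n196588 = n221533 := rfl
theorem F509463 : act 3 n221533 = n196589 := d7_1 D221533 (iv6 D196589) D196588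
theorem F509464 : act 4 n221533 = n209865 := d10_1 D221533 (iv6 D209865) (iv4 F401168)
theorem F509465 : act 5 n221533 = n208096 := d12_1 D221533 F447852 (iv5 D190041) D190042 (iv5 F401169)
theorem F509466 : act 7 n221533 = n221180 := d14_2 (iv7 F401170) D221533 (iv6 D221180) (iv7 F408044) (iv6 F408046)
theorem F509467 : act 0 n221533 = n198475 := d21_4 F425602 F381267 (iv5 F401169) D221533 F461692 (iv5 F463368) (iv1 D211878) (iv5 F463364) (iv6 D211877) (iv1 F425605)
def n221534 : Q := act 6 n196591
theorem D221534 : act 6 n196591 = n221534 := rfl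
theorem F509468 : act 2 n221534 = n221184 := d3_1 D221534 F507629 F438484
theorem F509469 : act 3 n221534 = n196593 := d7_1 D221534 (iv6 D196593) D196591
theorem F509470 : act 4 n221534 = n210189 := d10_1 D221534 (iv6 D210189) (iv4 F401183)
theorem F509471 : act 5 n221534 = n203210 := d12_1 D221534 F427420 F405734 (iv6 F227563) F401184
theorem F509472 : act 0 n221534 = n213343 := d21_4 (iv5 D132433) D132430 F401184 D221534 F470017 F434673 F404160 (iv5 F352946) F352947 (iv1 F347211)
theorem F509473 : act 0 n213344 = n221534 := d21_4 D193929 F391428 D197299 (iv6 F470023) (iv6 D221534) (iv5 F401184) F228662 (iv5 F347220) (iv6 F391423) (iv1 D193927)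
theorem F509474 : act 7 n211548 = n221534 := d13_0 F509471 (iv7 F427422) D211548
def n221535 : Q := act 6 n196592
theorem D221535 : act 6 n196592 = n221535 := rfl
theorem F509475 : act 2 n221535 = n196947 := d3_1 D221535 (iv6 D196947) (iv2 F401188)
theorem F509476 : act 4 n221535 = n196593 := d10_1 D221535 (iv6 D196593) D196592
theorem F509477 : act 5 n221535 = n215520 := d12_1 D221535 (iv6 F480310) F433505 (iv6 D202133) (iv5 F401189)
theorem F509478 : act 0 n221535 = n203897 := d21_4 (iv5 F401052) (iv1 F401055) (iv5 F401189) D221535 F430288 (iv5 D121277) D121275 F400746 F400744 (iv1 F397061)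
theorem F509479 : act 0 n212116 = n221535 := d21_4 (iv5 D196370) D196369 D221425 F508961 (iv6 D221535) F401189 (iv1 F402266) F402268 F406949 F406925
def n221536 : Q := act 5 n196595
theorem D221536 : act 5 n196595 = n221536 := rfl
def n221537 : Q := act 7 n196595
theorem D221537 : act 7 n196595 = n221537 := rfl
theorem F509480 : act 3 n221537 = n221061 := d8_1 D221537 F507045 (iv3 F415502)
theorem F509481 : act 1 n221063 = n221537 := d15_1 F507056 (iv7 D221537) (iv2 F407852)
theorem F509482 : act 1 n221537 = n211113 := d15_1 F509481 (iv7 F507423) F507421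
def n221538 : Q := act 6 n196596
theorem D221538 : act 6 n196596 = n221538 := rfl
theorem F509483 : act 2 n221538 = n196599 := d3_1 D221538 (iv6 D196599) (iv2 F401191)
theorem F509484 : act 3 n221538 = n213352 := d7_1 D221538 F470058 (iv3 F401192)
theorem F509485 : act 5 n221538 = n213349 := d12_1 D221538 (iv6 F470045) F405742 F364955 D196596
theorem F509486 : act 7 n221538 = n213348 := d14_2 (iv7 F401193) D221538 (iv6 F470041) (iv7 F507449) (iv6 D221147)
theorem F509487 : act 0 n221175 = n221538 := d21_4 D198152 F407000 F401236 D221175 (iv6 D221538) (iv5 D196596) (iv1 F169278) (iv5 F401561) (iv6 F406996) (iv1 D198150)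
def n221539 : Q := act 1 n196598
theorem D221539 : act 1 n196598 = n221539 := rfl
theorem F509488 : act 1 n221539 = n221146 := d15_1 D221539 F507441 F423402
theorem F509489 : act 7 n221539 = n221169 := d15_2 (iv0 F425128) D221539 F507552
theorem F509490 : act 5 n221539 = n221488 := d17_7 D196519 F400943 (iv1 F165170) D115502 D202244 F423381 D221539 (iv0 D221488) (iv4 D196521)
theorem F509491 : act 4 n196728 = n221539 := d20_6 (iv4 F81508) (iv1 F99667) (iv4 F161954) (iv3 F396596) (iv1 F460774) (iv3 F460778) (iv1 D221539) (iv4 D196598) F165110 F78242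
theorem F509492 : act 6 n211392 = n221539 := d21_3 (iv5 D197745) (iv1 F406933) D211392 (iv1 D221539) (iv6 F479431) F479429 (iv1 F461401) (iv5 F464381) (iv6 F508961) F508963
theorem F509493 : act 2 n221539 = n221168 := d3_1 F509492 F507544 (iv2 F461384)
def n221540 : Q := act 1 n196599
theorem D221540 : act 1 n196599 = n221540 := rfl
theorem F509494 : act 1 n221540 = n213348 := d15_1 D221540 (iv7 F509486) F509483
theorem F509495 : act 5 n221540 = n221301 := d17_7 F342496 (iv5 F331096) (iv1 D109066) D109067 D198234 (iv5 F407300) D221540 F508252 F459989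
theorem F509496 : act 4 n221540 = n199996 := d17_9 (iv1 F460050) (iv5 F476817) F476821 F461398 (iv4 F463569) F470030 F470029 (iv5 F407300) D221540
theorem F509497 : act 6 n199995 = n221540 := d21_3 F405629 (iv1 F460007) F460005 (iv1 D221540) (iv6 D196599) (iv5 D107128) D107125 F401187 F405736 F405730
theorem F509498 : act 2 n221540 = n221175 := d3_1 F509497 (iv6 D221175) (iv2 F414532)
def n221541 : Q := act 7 n196599
theorem D221541 : act 7 n196599 = n221541 := rfl
theorem F509499 : act 2 n221541 = n213348 := d4_1 D221541 (iv7 F509486) F509483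
theorem F509500 : act 3 n221541 = n196605 := d8_1 D221541 (iv7 D196605) (iv3 F401202)
theorem F509501 : act 4 n221541 = n220826 := d11_1 D221541 F505743 (iv4 F479430)
theorem F509502 : act 5 n221541 = n213347 := d13_1 D221541 (iv7 F470028) (iv5 F407300)
theorem F509503 : act 6 n221541 = n220712 := d14_1 D221541 F505120 (iv6 D195505) (iv7 F165111) D196599
theorem F509504 : act 1 n221175 = n221541 := d15_1 (iv0 F509487) (iv7 D221541) (iv2 F509483)
def n221542 : Q := act 5 n196600
theorem D221542 : act 5 n196600 = n221542 := rfl
theorem F509505 : act 2 n221542 = n198135 := d2_1 D221542 F406960 F401564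
theorem F509506 : act 4 n221542 = n197748 := d9_1 D221542 (iv5 D197748) (iv4 F169057) D198231 F407287 (iv5 F246298) (iv4 F401204) (iv5 F460060) F460059 F402014 F168515 D125985 (iv4 F223447) (iv5 F223761) (iv4 F401203)
theorem F509507 : act 7 n221542 = n198141 := d13_2 F460021 D221542 (iv5 F460025)
theorem F509508 : act 0 n221542 = n211083 := d17_2 D196600 D221542 (iv5 D211083) (iv4 D140649) D140650 F223744 (iv5 F331803) (iv0 D107146) (iv4 F165113)
theorem F509509 : act 1 n221542 = n196729 := d17_6 (iv1 F406452) (iv5 D141991) F223448 (iv5 F223761) (iv4 F401203) D221542 (iv5 F401620) F460031 F460030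
def n221543 : Q := act 6 n196602
theorem D221543 : act 6 n196602 = n221543 := rfl
theorem F509510 : act 2 n221543 = n213140 := d3_1 D221543 F469168 F438767
theorem F509511 : act 3 n221543 = n212175 := d7_1 D221543 (iv6 F500671) F500669
theorem F509512 : act 4 n221543 = n212177 := d10_1 D221543 F464632 F453110
theorem F509513 : act 0 n221543 = n220576 := d21_4 (iv5 D221138) F497643 F497641 D221543 (iv6 D220576) (iv5 F463709) F463708 (iv5 F392756) (iv6 F438752) (iv1 F507399)
theorem F509514 : act 5 n221543 = n221166 := d21_6 (iv5 D52059) F39890 D49491 D107130 D196602 D221543 (iv1 D221166) (iv5 D195491) (iv6 D105622) (iv1 F82280)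
def n221544 : Q := act 4 n196604
theorem D221544 : act 4 n196604 = n221544 := rfl
theorem F509515 : act 2 n221544 = n213686 := d1_1 D221544 F471625 (iv2 F401207)
theorem F509516 : act 3 n221544 = n220225 := d5_1 D221544 F502740 F407260 D198234 (iv3 F407299)
theorem F509517 : act 6 n221544 = n196608 := d10_2 (iv6 F401208) D221544 (iv4 D196608)
theorem F509518 : act 7 n221544 = n213679 := d11_2 F438760 D221544 F471597
theorem F509519 : act 1 n221544 = n213683 := d18_6 (iv1 F505109) (iv4 F472282) (iv1 D198373) F169223 D196604 D221544 F507314 F507310 (iv5 F505107)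
theorem F509520 : act 0 n221544 = n213684 := d20_1 D221544 (iv4 F482676) (iv3 F482679) F482682 (iv3 D197286) (iv4 D108070) (iv1 F93995) (iv4 F204176) (iv3 F438755) (iv1 F438759)
def n221545 : Q := act 6 n196606
theorem D221545 : act 6 n196606 = n221545 := rfl
theorem F509521 : act 2 n221545 = n221065 := d3_1 D221545 F507062 F463597
theorem F509522 : act 3 n221545 = n221086 := d7_1 D221545 F507155 F498968
theorem F509523 : act 4 n221545 = n204687 := d10_1 D221545 (iv6 F502689) F502687
theorem F509524 : act 0 n221545 = n221104 := d21_4 (iv5 F402140) (iv1 F409594) F409593 D221545 F507235 F463695 (iv1 F464838) (iv5 D212227) (iv6 D145655) D145652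
theorem F509525 : act 0 n221033 = n221545 := d21_4 D105594 D195436 F403886 D221033 (iv6 D221545) (iv5 F409593) (iv1 F414458) F414456 F404006 (iv1 D105592)
theorem F509526 : act 7 n221545 = n221103 := d15_2 F507236 (iv0 F509524) (iv2 F507234)
def n221546 : Q := act 5 n196610
theorem D221546 : act 5 n196610 = n221546 := rfl
theorem F509527 : act 2 n221546 = n211558 := d2_1 D221546 F462128 (iv2 F436635)
theorem F509528 : act 3 n221546 = n221042 := d6_1 D221546 F506949 F454390
theorem F509529 : act 7 n221546 = n221293 := d13_2 (iv7 F436631) D221546 F508206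
theorem F509530 : act 4 n221546 = n211341 := d16_2 (iv4 F401222) D221546 (iv5 D211341) (iv4 F461192) F461193 F401706 (iv5 F402418) F402417 F401856
theorem F509531 : act 0 n221546 = n196728 := d17_2 D196610 D221546 (iv5 D196728) (iv4 D107248) F172113 F163678 F163674 F93289 D107137
theorem F509532 : act 1 n221546 = n196726 := d17_6 (iv1 F398753) F172096 (iv1 F165402) D107349 (iv4 F401222) D221546 (iv5 D196726) D196725 (iv4 F401614)
theorem F509533 : act 6 n212806 = n221546 := d10_0 F509530 F461199 (iv4 F467585)
def n221547 : Q := act 5 n196611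
theorem D221547 : act 5 n196611 = n221547 := rfl
theorem F509534 : act 2 n221547 = n221293 := d2_1 D221547 F508206 (iv2 F436629)
theorem F509535 : act 3 n221547 = n202693 := d6_1 D221547 F425137 (iv3 F402422)
theorem F509536 : act 4 n221547 = n202694 := d9_1 D221547 (iv5 F498087) F498086 (iv5 D196808) (iv4 D107348) D107349 (iv4 F401222) D221546 F509530 (iv5 D211341) (iv4 F461192) F461193 F401706 (iv5 F402418) F402421
theorem F509537 : act 7 n221547 = n211558 := d13_2 F436633 D221547 F462128
theorem F509538 : act 0 n221547 = n196726 := d17_2 (iv1 F401224) D221547 (iv5 D196726) (iv4 D107244) F172110 (iv0 D49522) F37885 D49498 D107142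
theorem F509539 : act 1 n221547 = n196728 := d17_6 F397060 F397059 (iv1 F401703) (iv5 F402418) F402421 D221547 (iv5 D196728) F401611 F401609
def n221548 : Q := act 1 n196612
theorem D221548 : act 1 n196612 = n221548 := rfl
theorem F509540 : act 1 n221548 = n196617 := d15_1 D221548 (iv7 F436664) F436662
theorem F509541 : act 5 n221548 = n211524 := d17_7 (iv1 D106413) F77650 D52000 (iv5 F180733) D107137 D196612 D221548 F461967 F396992
theorem F509542 : act 4 n221548 = n221283 := d17_9 F508152 F407303 F400253 D211341 (iv4 F509530) (iv5 D221546) (iv0 D196610) D196612 D221548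
theorem F509543 : act 3 n210559 = n221548 := d19_19 (iv1 D221548) (iv5 D196612) (iv4 D107137) F84887 (iv1 F172277) (iv5 D111082) D111081 (iv3 F222472) F222474 (iv5 F355630) (iv4 D103009) D103008 F355824 F324996 (iv4 D67099) (iv3 F103029) D143058 (iv5 F404463) (iv4 F458039)
theorem F509544 : act 6 n221282 = n221548 := d21_3 (iv5 F508197) F508198 (iv5 F508144) (iv1 D221548) F436667 (iv5 F407310) (iv1 F459378) (iv5 F464812) F464813 (iv1 F411753)
theorem F509545 : act 2 n221548 = n221433 := d3_1 F509544 (iv6 D221433) (iv2 F508142)
def n221549 : Q := act 0 n196613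
theorem D221549 : act 0 n196613 = n221549 := rfl
theorem F509546 : act 5 n221549 = n213897 := d17_3 (iv1 F508970) (iv5 F508971) D221549 F472627 (iv5 D210934) (iv0 D140374) D140376 (iv0 F342494) (iv4 F401553)
theorem F509547 : act 4 n221549 = n214796 := d18_3 F340815 (iv4 F401226) D221549 (iv5 F476896) F258445 D163975 (iv4 F476825) F476822 F461398
theorem F509548 : act 3 n221549 = n213898 := d20_5 (iv4 F348295) F340780 (iv4 F425459) F425458 D221549 F472631 F360151 F403829 (iv3 F463612) (iv1 F463616)
theorem F509549 : act 6 n221549 = n216057 := d21_5 (iv5 F509541) (iv1 D221548) (iv5 D196612) D196613 D221549 F482696 (iv1 F508147) F508144 F404001 (iv1 F461967)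
theorem F509550 : act 7 n213896 = n221549 := d8_0 F509548 (iv7 D213898) (iv3 F472621)
def n221550 : Q := act 1 n196613
theorem D221550 : act 1 n196613 = n221550 := rfl
theorem F509551 : act 5 n221550 = n213894 := d17_7 (iv1 F474335) (iv5 D214270) F363357 D196370 D221426 (iv5 F508971) D221550 (iv0 F500666) F500663
theorem F509552 : act 6 n211941 = n221550 := d21_3 (iv5 F459373) F407855 D211941 (iv1 D221550) (iv6 D196613) D196612 (iv1 F508245) (iv5 D221300) D221301 F508251
theorem F509553 : act 2 n221550 = n213896 := d3_1 F509552 F472622 (iv2 F470033)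
theorem F509554 : act 3 n221550 = n210561 := d7_1 F509552 (iv6 F458046) (iv3 F463664)
def n221551 : Q := act 4 n196614
theorem D221551 : act 4 n196614 = n221551 := rfl
theorem F509555 : act 2 n221551 = n197934 := d1_1 D221551 (iv4 F436681) F436677
theorem F509556 : act 6 n221551 = n204079 := d10_2 F415038 D221551 F436683
theorem F509557 : act 7 n221551 = n197714 := d11_2 F509019 D221551 (iv4 F509017)
theorem F509558 : act 5 n221551 = n197715 := d16_5 D221426 (iv5 F508971) F401226 D196614 D221551 (iv4 F449978) (iv5 F504357) F504358 F449972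
theorem F509559 : act 1 n221551 = n197931 := d18_8 (iv1 F449893) F449890 (iv1 F405610) (iv4 F406945) (iv5 F407578) F407583 (iv0 F459387) D221551 F406228
theorem F509560 : act 0 n221551 = n197932 := d20_1 D221551 F406233 (iv3 F348942) (iv1 F434043) F434044 (iv4 F464395) (iv1 F464397) (iv4 D212085) (iv3 F413112) F413115
def n221552 : Q := act 5 n196616
theorem D221552 : act 5 n196616 = n221552 := rfl
theorem F509561 : act 3 n221552 = n196620 := d6_1 D221552 (iv5 D196620) (iv3 F401227)
theorem F509562 : act 6 n221552 = n199808 := d12_2 D196616 D221552 F415057 (iv6 D200110) F180740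
theorem F509563 : act 7 n221552 = n218287 := d13_2 F481958 D221552 (iv5 F493121)
theorem F509564 : act 4 n221552 = n215603 := d16_2 F459805 D221552 (iv5 D215603) (iv4 F301481) F301482 (iv4 F272933) (iv5 F459822) (iv7 D211034) (iv2 F459804)
theorem F509565 : act 0 n221552 = n218278 := d17_2 F493044 D221552 F493080 F490377 F404889 (iv0 D178317) (iv5 F353305) D202434 (iv4 F493043)
def n221553 : Q := act 6 n196617
theorem D221553 : act 6 n196617 = n221553 := rfl
theorem F509566 : act 3 n221553 = n221071 := d7_1 D221553 (iv6 F507087) (iv3 F403889)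
theorem F509567 : act 0 n221553 = n205485 := d21_4 (iv5 D221546) (iv1 F401223) D196617 D221553 (iv6 D205485) D205484 (iv1 F509010) F509007 (iv6 F425127) (iv1 F509532)
def n221554 : Q := act 0 n196618
theorem D221554 : act 0 n196618 = n221554 := rfl
theorem F509568 : act 4 n221554 = n199641 := d18_3 (iv1 D196619) (iv4 F401228) D221554 (iv5 D199641) (iv4 F180504) D202520 F424355 F375415 F401230
theorem F509569 : act 6 n221554 = n198236 := d21_5 D221300 F508244 (iv5 D196617) D196618 D221554 (iv5 F460075) F460077 F461979 (iv6 D211526) F398755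
theorem F509570 : act 7 n221553 = n221554 := d14_0 F509569 (iv7 F407306) F436666 F436664 D221553
def n221555 : Q := act 1 n196618
theorem D221555 : act 1 n196618 = n221555 := rfl
theorem F509571 : act 4 n221503 = n221555 := d20_6 F493039 (iv1 F423983) (iv4 F464423) F464422 (iv1 F401004) D221503 (iv1 D221555) F401228 (iv3 F401227) (iv1 F493038)
theorem F509572 : act 3 n212197 = n221555 := d20_9 F401228 F360135 (iv4 F415493) (iv3 D200199) (iv1 F396759) F458857 F458859 F479995 (iv4 F479996) (iv1 D221555)
theorem F509573 : act 6 n205484 = n221555 := d21_3 F462128 (iv1 D205483) D205484 (iv1 D221555) (iv6 D196618) D196617 (iv1 F509540) F509541 (iv6 F507250) (iv1 F507252)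
theorem F509574 : act 2 n221555 = n221553 := d3_1 F509573 (iv6 D221553) (iv2 F436638)
def n221556 : Q := act 5 n196618
theorem D221556 : act 5 n196618 = n221556 := rfl
theorem F509575 : act 4 n221556 = n216039 := d16_2 (iv4 F401228) D221556 F482632 F478892 (iv5 D204543) (iv4 F436651) (iv5 F436656) (iv7 D205487) F202849
def n221557 : Q := act 7 n196618
theorem D221557 : act 7 n196618 = n221557 := rfl
theorem F509576 : act 4 n221557 = n196621 := d11_1 D221557 (iv7 D196621) (iv4 F401228)
theorem F509577 : act 1 n221553 = n221557 := d15_1 (iv0 F509567) (iv7 D221557) (iv2 F436641)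
def n221558 : Q := act 6 n196622
theorem D221558 : act 6 n196622 = n221558 := rfl
theorem F509578 : act 2 n221558 = n221300 := d3_1 D221558 F508246 F460003
theorem F509579 : act 3 n221558 = n208244 := d7_1 D221558 F448557 (iv3 F401235)
theorem F509580 : act 4 n221558 = n196623 := d10_1 D221558 (iv6 D196623) D196622
theorem F509581 : act 5 n221558 = n196725 := d12_1 D221558 (iv6 F459985) (iv5 F507585) (iv6 D221175) (iv5 F401236)
theorem F509582 : act 7 n221558 = n221548 := d14_2 F460017 D221558 (iv6 F509544) F508145 (iv6 F460016)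
theorem F509583 : act 0 n205489 = n221558 := d21_4 (iv5 F401620) (iv1 F460034) F460036 F436666 (iv6 D221558) F401236 F404063 (iv5 F405738) D211088 (iv1 F460063)
theorem F509584 : act 1 n205484 = n221558 := d15_0 (iv0 F509583) F436664 (iv2 F436638)
def n221559 : Q := act 3 n196644
theorem D221559 : act 3 n196644 = n221559 := rfl
theorem F509585 : act 2 n221559 = n199924 := d0_1 D221559 (iv3 F414175) (iv2 F202913) (iv3 F415191) F415190
theorem F509586 : act 4 n221559 = n203955 := d5_2 D196644 D221559 (iv3 F430572) F389507 (iv3 F357905)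
theorem F509587 : act 5 n221559 = n202852 := d6_2 F415159 D221559 F425873
theorem F509588 : act 6 n221559 = n204984 := d7_2 F441184 D221559 (iv3 F441182)
theorem F509589 : act 7 n221559 = n199925 := d8_2 (iv7 F415156) D221559 (iv3 F415152)
theorem F509590 : act 0 n221559 = n199927 := d19_4 F104337 D107166 D196644 D221559 (iv5 F414449) (iv4 F473244) F473242 F469226 F469223 (iv4 D199916) F174055 F99576 F48906 D50621 D109755 (iv1 F365913) F349714 (iv4 F228470) (iv3 D145439)
theorem F509591 : act 0 n199923 = n221559 := d20_4 (iv4 F431768) F459472 F459469 (iv3 F414170) (iv3 D221559) (iv4 D196644) F202239 (iv4 F435903) F476999 (iv1 D214822)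
def n221560 : Q := act 6 n196656
theorem D221560 : act 6 n196656 = n221560 := rfl
theorem F509592 : act 3 n221560 = n202205 := d7_1 D221560 (iv6 D202205) F422274
theorem F509593 : act 4 n221560 = n214622 := d10_1 D221560 F476090 F449032
def n221561 : Q := act 6 n196660
theorem D221561 : act 6 n196660 = n221561 := rfl
theorem F509594 : act 2 n221561 = n202720 := d3_1 D221561 (iv6 D202720) (iv2 F401386)
theorem F509595 : act 3 n221561 = n196662 := d7_1 D221561 (iv6 D196662) D196660
theorem F509596 : act 4 n221561 = n221180 := d10_1 D221561 (iv6 D221180) (iv4 F401387)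
theorem F509597 : act 5 n221561 = n219790 := d12_1 D221561 F500637 F469379 F422812 F401390
theorem F509598 : act 7 n221561 = n209865 := d14_2 (iv7 F401388) D221561 (iv6 D209865) (iv7 F245407) F245406
def n221562 : Q := act 6 n196661
theorem D221562 : act 6 n196661 = n221562 := rfl
theorem F509599 : act 2 n221562 = n202223 := d3_1 D221562 (iv6 D202223) (iv2 F401392)
theorem F509600 : act 3 n221562 = n202054 := d7_1 D221562 F422812 (iv3 F401393)
theorem F509601 : act 4 n221562 = n202578 := d10_1 D221562 (iv6 D202578) (iv4 F401395)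
theorem F509602 : act 5 n221562 = n203623 := d12_1 D221562 F463019 (iv5 F401399) (iv6 D196662) D196661
def n221563 : Q := act 1 n196664
theorem D221563 : act 1 n196664 = n221563 := rfl
theorem F509603 : act 1 n221563 = n211523 := d15_1 D221563 (iv7 D211523) (iv2 F401406)
theorem F509604 : act 7 n221563 = n211522 := d15_2 F503455 D221563 (iv2 F503450)
theorem F509605 : act 5 n221563 = n220818 := d17_7 F406811 (iv5 D126210) D126208 F406812 (iv4 F441618) F441619 D221563 (iv0 D220818) (iv4 F393784)
theorem F509606 : act 4 n221563 = n211701 := d17_9 F462755 F410949 F385602 (iv5 F393834) (iv4 F452934) (iv5 F478740) (iv0 F478742) F441619 D221563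
theorem F509607 : act 2 n199255 = n221563 := d1_3 F509606 (iv2 F500238) F500240
def n221564 : Q := act 5 n196672
theorem D221564 : act 5 n196672 = n221564 := rfl
theorem F509608 : act 2 n221564 = n196673 := d2_1 D221564 (iv5 D196673) D196672
theorem F509609 : act 3 n221564 = n199212 := d6_1 D221564 (iv5 D199212) (iv3 F401433)
theorem F509610 : act 4 n221564 = n208551 := d9_1 D221564 F449852 F402892 F205186 (iv4 F183877) (iv5 F365529) F218930 D206036 (iv4 F480482) F480481 F453105 (iv5 D147371) (iv4 F184081) (iv5 F365528) (iv4 F401434)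
theorem F509611 : act 7 n221564 = n213798 := d13_2 F411291 D221564 F472138
theorem F509612 : act 1 n221564 = n213800 := d17_6 F429661 (iv5 D203744) F355612 (iv5 F365528) (iv4 F401434) D221564 (iv5 F472150) (iv0 D206531) (iv4 F219491)
theorem F509613 : act 0 n221564 = n210155 := d18_0 F456393 (iv1 F359356) D200476 F416616 (iv4 F401805) F391508 (iv4 F411298) F411301 D221564
theorem F509614 : act 6 n221564 = n208550 := d21_3 (iv5 D198942) (iv1 F401803) D221564 F449847 (iv6 F436443) F436445 F461227 (iv5 F503534) (iv6 F508211) F508213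
def n221565 : Q := act 5 n196677
theorem D221565 : act 5 n196677 = n221565 := rfl
theorem F509615 : act 2 n221565 = n196678 := d2_1 D221565 (iv5 D196678) D196677
theorem F509616 : act 3 n221565 = n213798 := d6_1 D221565 F472138 F411294
theorem F509617 : act 4 n221565 = n209320 := d9_1 D221565 F453212 F224386 F203824 (iv4 F360526) F360527 F224118 (iv5 F396683) (iv4 D195318) (iv5 D105516) F76823 D59431 D126673 (iv5 F357364) (iv4 F401455)
theorem F509618 : act 7 n221565 = n199212 := d13_2 (iv7 F401456) D221565 (iv5 D199212)
theorem F509619 : act 0 n221565 = n213707 := d17_2 (iv1 F401457) D221565 F471720 (iv4 D209247) (iv5 D136012) D136011 D209244 (iv0 F452873) (iv4 F386874)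
theorem F509620 : act 1 n221565 = n213702 := d17_6 F442718 F221327 (iv1 F360531) (iv5 F357364) (iv4 F401455) D221565 F471702 (iv0 F455587) (iv4 F442717)
def n221566 : Q := act 6 n196677
theorem D221566 : act 6 n196677 = n221566 := rfl
theorem F509621 : act 2 n221566 = n196679 := d3_1 D221566 (iv6 D196679) D196677
theorem F509622 : act 4 n221566 = n211236 := d10_1 D221566 (iv6 D211236) (iv4 F401455)
theorem F509623 : act 7 n221566 = n220134 := d14_2 (iv7 F401456) D221566 (iv6 D220134) (iv7 F410772) (iv6 F410775)
theorem F509624 : act 5 n221566 = n219220 := d21_6 (iv5 F401661) F505905 F505901 F401624 (iv1 F401457) D221566 F497784 F483138 D212076 F464244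
theorem F509625 : act 0 n199254 = n221566 := d21_4 F452922 (iv1 F411334) (iv5 D199253) D199254 (iv6 D221566) D221565 F509619 F471720 F452888 D209256
theorem F509626 : act 1 n219250 = n221566 := d15_0 (iv0 F509625) (iv7 F501381) F501380
def n221567 : Q := act 1 n196679
theorem D221567 : act 1 n196679 = n221567 := rfl
theorem F509627 : act 1 n221567 = n220134 := d15_1 D221567 (iv7 F509623) F509621
theorem F509628 : act 7 n221567 = n219250 := d15_2 F501383 D221567 (iv2 F501380)
theorem F509629 : act 5 n221567 = n212078 := d17_7 (iv1 D190087) (iv5 D95614) D95611 D190083 D218788 F495661 D221567 (iv0 F495681) (iv4 D218793)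
theorem F509630 : act 3 n215447 = n221567 := d20_3 F393854 D194622 F480038 (iv1 D221567) F401463 F165220 F96703 D131970 D207564 (iv1 F445466)
theorem F509631 : act 6 n199127 = n221567 := d21_3 D209991 F455660 F410787 (iv1 D221567) (iv6 D196679) D196678 (iv1 F455585) (iv5 D209972) F220352 D137227
theorem F509632 : act 2 n221567 = n199254 := d3_1 F509631 (iv6 D199254) F410786
def n221568 : Q := act 2 n196680
theorem D221568 : act 2 n196680 = n221568 := rfl
theorem F509633 : act 3 n221568 = n199213 := d0_2 D196680 D221568 (iv2 F463435) F463436 F227038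
theorem F509634 : act 5 n221568 = n206533 := d2_2 (iv5 F401465) D221568 (iv2 D206533)
theorem F509635 : act 1 n221568 = n198942 := d15_0 (iv0 F508213) F508212 D221568
def n221569 : Q := act 6 n196680
theorem D221569 : act 6 n196680 = n221569 := rfl
theorem F509636 : act 3 n221569 = n196682 := d7_1 D221569 (iv6 D196682) D196680
theorem F509637 : act 4 n221569 = n205877 := d10_1 D221569 (iv6 F482279) F482277
theorem F509638 : act 5 n221569 = n206538 := d12_1 D221569 (iv6 D206538) (iv5 D128808) (iv6 F207060) (iv5 F401465)
theorem F509639 : act 7 n221569 = n211015 := d14_2 F508212 D221569 F477147 (iv7 F503535) (iv6 F508211)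
theorem F509640 : act 0 n221569 = n210915 := d21_10 (iv5 F459272) D218697 (iv5 F501367) (iv6 D219957) (iv1 F386915) (iv6 F456394) (iv5 F456401) (iv1 D206532) (iv5 F401465) D221569
def n221570 : Q := act 6 n196681
theorem D221570 : act 6 n196681 = n221570 := rfl
theorem F509641 : act 2 n221570 = n198419 := d3_1 D221570 (iv6 D198419) (iv2 F401466)
theorem F509642 : act 3 n221570 = n220731 := d7_1 D221570 (iv6 F505207) F414049
theorem F509643 : act 4 n221570 = n196682 := d10_1 D221570 (iv6 D196682) D196681
theorem F509644 : act 7 n221570 = n211016 := d14_2 (iv7 F401468) D221570 (iv6 F459763) (iv7 F357178) D193543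
theorem F509645 : act 0 n221570 = n220375 := d21_4 F413957 (iv1 F174027) (iv5 F401467) D221570 F503482 F392994 (iv1 F396222) F396219 F347200 D199882
theorem F509646 : act 1 n221570 = n220386 := d15_1 (iv0 F509645) (iv7 F503528) (iv2 F503481)
def n221571 : Q := act 2 n196683
theorem D221571 : act 2 n196683 = n221571 := rfl
theorem F509647 : act 4 n221571 = n197408 := d1_2 (iv4 F401475) D221571 (iv2 F404171)
theorem F509648 : act 5 n221571 = n209970 := d2_2 (iv5 F401476) D221571 (iv2 F455580)
theorem F509649 : act 7 n221571 = n199213 := d4_2 F463438 D221571 (iv2 F463435)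
theorem F509650 : act 1 n221571 = n199215 := d15_0 (iv0 F463440) F463438 D221571
theorem F509651 : act 1 n199192 = n221571 := d15_0 F509650 (iv7 D199215) (iv2 F411105)
def n221572 : Q := act 6 n196692
theorem D221572 : act 6 n196692 = n221572 := rfl
theorem F509652 : act 3 n221572 = n196693 := d7_1 D221572 (iv6 D196693) D196692
theorem F509653 : act 7 n221572 = n206661 := d14_2 (iv7 F445712) D221572 (iv6 D206661) (iv7 F211665) D207620
theorem F509654 : act 0 n221572 = n219092 := d21_4 (iv5 D195696) D195694 (iv5 F401499) D221572 (iv6 D219092) (iv5 D190791) (iv1 D96677) D96679 D190796 F397888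
theorem F509655 : act 0 n200677 = n221572 := d21_4 F204693 (iv1 F94236) D113331 D200677 (iv6 D221572) F401499 F416661 (iv5 F418498) (iv6 D200957) (iv1 F204695)
def n221573 : Q := act 5 n196696
theorem D221573 : act 5 n196696 = n221573 := rfl
theorem F509656 : act 3 n221573 = n196699 := d6_1 D221573 (iv5 D196699) (iv3 F401516)
theorem F509657 : act 6 n221573 = n211432 := d12_2 D196696 D221573 (iv5 D211432) (iv6 F400453) F400405
def n221574 : Q := act 0 n196700
theorem D221574 : act 0 n196700 = n221574 := rfl
theorem F509658 : act 5 n221574 = n205171 := d17_1 D221574 F435283 (iv5 F439285) F439287 (iv5 F420063) F420065 (iv5 F426321) F426323 F409941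
theorem F509659 : act 4 n221574 = n209023 := d18_1 D221574 F451892 (iv4 D200626) (iv5 D113298) D113297 (iv0 F353620) (iv4 F418456) F418455 (iv5 F409940)
theorem F509660 : act 3 n221574 = n205172 := d20_5 D126257 (iv1 F436907) F436909 F409945 D221574 F435288 (iv1 F442514) F442516 F397869 (iv1 F203027)
theorem F509661 : act 2 n196703 = n221574 := d15_3 (iv0 D221574) (iv0 D196700) D196703
theorem F509662 : act 1 n196701 = n221574 := d15_0 (iv0 D221574) (iv7 F437105) F437103
theorem F509663 : act 7 n221574 = n196702 := d15_2 D196701 F509662 (iv2 D196702)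
def n221575 : Q := act 6 n196701
theorem D221575 : act 6 n196701 = n221575 := rfl
theorem F509664 : act 2 n221575 = n200887 := d3_1 D221575 (iv6 F474225) F437103
theorem F509665 : act 3 n221575 = n200948 := d7_1 D221575 (iv6 D200948) (iv3 F401532)
theorem F509666 : act 4 n221575 = n212288 := d10_1 D221575 (iv6 D212288) (iv4 F401530)
theorem F509667 : act 5 n221575 = n214634 := d12_1 D221575 (iv6 F478294) (iv5 D215090) (iv6 F356013) F401531
theorem F509668 : act 7 n221575 = n200888 := d14_2 F417887 D221575 (iv6 F418290) (iv7 F436624) F436625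
theorem F509669 : act 0 n221575 = n200616 := d21_4 F506524 (iv1 D200946) F401531 D221575 (iv6 F420851) (iv5 F432231) F432232 (iv5 F398124) (iv6 F419150) (iv1 F506527)
theorem F509670 : act 0 n200885 = n221575 := d21_4 (iv5 D207110) F418070 (iv5 F445133) F445134 (iv6 D221575) (iv5 F401531) (iv1 F415213) F415206 D201118 (iv1 F443376)
def n221576 : Q := act 5 n196706
theorem D221576 : act 5 n196706 = n221576 := rfl
theorem F509671 : act 2 n221576 = n196713 := d2_1 D221576 (iv5 D196713) (iv2 F401551)
theorem F509672 : act 3 n221576 = n221154 := d6_1 D221576 (iv5 D221154) (iv3 F401552)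
theorem F509673 : act 6 n221576 = n221542 := d12_2 D196706 D221576 (iv5 D221542) F401549 (iv5 D196705)
theorem F509674 : act 7 n221576 = n211090 := d13_2 F459978 D221576 F460065
def n221577 : Q := act 6 n196712
theorem D221577 : act 6 n196712 = n221577 := rfl
theorem F509675 : act 2 n221577 = n197368 := d3_1 D221577 (iv6 F456517) F456511
theorem F509676 : act 3 n221577 = n220842 := d7_1 D221577 F505838 F401569
theorem F509677 : act 4 n221577 = n220843 := d10_1 D221577 F505840 F505535
theorem F509678 : act 7 n221577 = n197369 := d14_2 F508968 D221577 (iv6 F460033) (iv7 F460032) (iv6 F508967)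
theorem F509679 : act 0 n197367 = n221577 := d21_4 F344467 (iv1 D108119) F167203 D197367 (iv6 D221577) (iv5 F509013) F509014 (iv5 D213896) (iv6 D156041) D156038
theorem F509680 : act 0 n221577 = n197371 := d20_7 F164891 (iv1 D51156) (iv4 F80700) (iv3 F171973) (iv1 F393951) D220843 (iv4 F509677) (iv4 F417431) (iv3 D200674) F176533
def n221578 : Q := act 0 n196713
theorem D221578 : act 0 n196713 = n221578 := rfl
theorem F509681 : act 5 n221578 = n219796 := d17_3 (iv1 D196712) D196713 D221578 F500663 (iv5 D197745) (iv0 F405619) F398757 (iv0 F505538) F505535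
theorem F509682 : act 4 n221578 = n211086 := d18_1 D221578 (iv1 D211086) (iv4 F460049) (iv5 F463676) (iv4 F463679) F461386 F449975 (iv0 D196711) D196713
theorem F509683 : act 3 n221578 = n212225 := d20_5 F397038 (iv1 F331745) (iv4 F344890) (iv3 F401570) D221578 F464826 F394647 (iv4 F456489) F456488 (iv1 F397036)
theorem F509684 : act 6 n221578 = n221293 := d21_5 F405742 F401567 (iv5 F406960) (iv6 F406961) D221578 F508206 (iv1 F436628) D205489 (iv6 F436666) F406982
theorem F509685 : act 1 n211090 = n221578 := d15_0 (iv0 D221578) (iv7 F479408) (iv2 F479409)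
def n221579 : Q := act 1 n196713
theorem D221579 : act 1 n196713 = n221579 := rfl
theorem F509686 : act 1 n221579 = n211090 := d15_1 D221579 (iv7 F509674) F509671
theorem F509687 : act 4 n221579 = n206363 := d17_9 F440427 F414536 (iv1 F436679) (iv5 D205492) (iv4 F436670) (iv5 F436671) (iv0 D196711) D196713 D221579
theorem F509688 : act 3 n203173 = n221579 := d19_19 (iv1 D221579) (iv5 D196713) F165284 F78312 D49554 D107258 (iv4 F339929) F375794 (iv1 F440093) (iv5 D206289) (iv4 D128125) (iv3 F191169) F191167 (iv5 D70111) D70110 F302274 F310645 (iv5 F236049) (iv4 F427302)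
theorem F509689 : act 6 n221579 = n203171 := d7_2 D203173 F509688 (iv3 D203171)
def n221580 : Q := act 3 n196715
theorem D221580 : act 3 n196715 = n221580 := rfl
theorem F509690 : act 4 n221580 = n200127 := d5_2 (iv4 F401579) D221580 (iv3 D200127) (iv4 F402526) F402525
theorem F509691 : act 6 n221580 = n213676 := d7_2 (iv6 F401580) D221580 F471592
theorem F509692 : act 7 n221580 = n221163 := d8_2 (iv7 F401581) D221580 (iv3 D221163)
theorem F509693 : act 0 n221580 = n197410 := d20_4 F396640 F392955 (iv4 F401579) D221580 F404178 F167245 D156031 (iv4 F472243) F472242 (iv1 F408732)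
theorem F509694 : act 0 n219866 = n221580 := d20_4 F458022 (iv1 F386533) D192377 D219866 (iv3 D221580) F401579 F443541 F443538 (iv3 F432044) F458025
def n221581 : Q := act 5 n196715
theorem D221581 : act 5 n196715 = n221581 := rfl
theorem F509695 : act 2 n221581 = n215756 := d2_1 D221581 F481429 F401578
theorem F509696 : act 7 n221581 = n221164 := d13_2 (iv7 F401581) D221581 (iv5 D221164)
theorem F509697 : act 4 n221581 = n215755 := d16_2 (iv4 F401579) D221581 F481425 F438657 D215385 F479712 (iv5 F392966) (iv7 D194373) (iv2 F392953)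
theorem F509698 : act 0 n221581 = n205076 := d17_2 D196715 D221581 (iv5 F504439) F504438 (iv5 F414302) (iv0 F496871) F496869 (iv0 D198609) F169682
theorem F509699 : act 1 n221581 = n213828 := d17_8 (iv1 D155918) (iv5 F311449) D124474 (iv5 F341244) D214845 F477121 F401582 D221581 (iv4 D213828)
theorem F509700 : act 6 n221581 = n209648 := d21_3 (iv5 D196717) D196715 D221581 (iv1 D209648) (iv6 F438172) (iv5 F471687) (iv1 F471689) (iv5 D210172) D210173 F456464
def n221582 : Q := act 5 n196716
theorem D221582 : act 5 n196716 = n221582 := rfl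
theorem F509701 : act 2 n221582 = n221164 := d2_1 D221582 (iv5 D221164) F401576
theorem F509702 : act 3 n221582 = n220061 := d6_1 D221582 (iv5 F503213) F503211
theorem F509703 : act 4 n221582 = n215615 := d9_1 D221582 F480772 (iv4 F480371) F480366 F431820 F395194 (iv4 F401579) D221581 F509697 F481425 F438657 D215385 F479712 (iv5 F392966) (iv4 F401575)
theorem F509704 : act 7 n221582 = n215756 := d13_2 F401577 D221582 F481429
theorem F509705 : act 1 n221582 = n205076 := d17_6 F464627 F453127 F362560 (iv5 F392966) (iv4 F401575) D221582 (iv5 F504439) (iv0 F509513) F509512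
theorem F509706 : act 0 n221582 = n213828 := d18_0 (iv4 D213828) (iv1 D155918) (iv4 F244884) (iv5 F397003) (iv4 F408512) (iv0 D198609) F169682 D196716 D221582
theorem F509707 : act 6 n215614 = n221582 := d21_5 F401598 F204158 D156037 (iv6 F472608) (iv1 F480770) (iv5 D221582) (iv1 D196716) D196717 F401584 D196722
def n221583 : Q := act 0 n196717
theorem D221583 : act 0 n196717 = n221583 := rfl
theorem F509708 : act 3 n221583 = n197329 := d20_5 F401541 F223769 D198135 F406959 D221583 F403979 D209885 F507461 (iv3 F507462) F407013
theorem F509709 : act 6 n221583 = n197328 := d21_5 (iv5 D127128) F104362 D107239 (iv6 F401584) D221583 F403973 D209659 F454527 F439060 (iv1 D206060)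
theorem F509710 : act 2 n221165 = n221583 := d15_3 (iv0 D221583) (iv0 F456464) (iv7 F507531)
theorem F509711 : act 1 n214845 = n221583 := d15_0 (iv0 D221583) (iv7 F481358) F481354
theorem F509712 : act 7 n221583 = n221166 := d15_2 (iv0 F477122) F509711 F507535
def n221584 : Q := act 3 n196722
theorem D221584 : act 3 n196722 = n221584 := rfl
theorem F509713 : act 4 n221584 = n202010 := d5_2 F415317 D221584 F422704 F179617 (iv3 F415316)
theorem F509714 : act 5 n221584 = n205990 := d6_2 (iv5 F401598) D221584 (iv3 D205990)
theorem F509715 : act 6 n221584 = n202009 := d7_2 (iv6 F401602) D221584 F422700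
theorem F509716 : act 7 n221584 = n221167 := d8_2 (iv7 F401601) D221584 (iv3 D221167)
theorem F509717 : act 0 n221584 = n211263 := d19_4 D205987 F438707 F415317 D221584 (iv5 D211263) F428544 F428541 F392472 (iv5 F429128) F429127 (iv3 D119689) F305700 D175455 (iv4 F440048) F440047 F261795 (iv5 F448442) F448441 (iv3 F428246)
theorem F509718 : act 0 n221047 = n221584 := d20_4 F401210 (iv1 F393849) D198476 (iv3 F506974) (iv3 D221584) (iv4 F415317) F415319 (iv4 F397042) F438768 (iv1 F401214)
def n221585 : Q := act 5 n196731
theorem D221585 : act 5 n196731 = n221585 := rfl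
theorem F509719 : act 2 n221585 = n211940 := d2_1 D221585 F463661 F459987
theorem F509720 : act 7 n221585 = n198391 := d13_2 F459371 D221585 F459373
theorem F509721 : act 0 n221585 = n211916 := d17_2 (iv1 F459982) D221585 F470030 (iv4 F474333) (iv5 D214270) F449980 (iv5 F504357) (iv0 F504360) (iv4 F459981)
theorem F509722 : act 1 n221585 = n197413 := d17_6 (iv1 F363350) (iv5 D140620) (iv1 F223487) (iv5 F363143) D196731 D221585 (iv5 F470034) (iv0 D213345) F241381
theorem F509723 : act 6 n221537 = n221585 := d21_5 (iv5 F405738) (iv1 F459406) F459404 D211113 (iv1 F509482) (iv5 D221585) (iv1 F459983) (iv5 F507585) (iv6 D221175) F404063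
def n221586 : Q := act 6 n196731
theorem D221586 : act 6 n196731 = n221586 := rfl
theorem F509724 : act 4 n221586 = n196732 := d10_1 D221586 (iv6 D196732) D196731
def n221587 : Q := act 5 n196734
theorem D221587 : act 5 n196734 = n221587 := rfl
theorem F509725 : act 2 n221587 = n196736 := d2_1 D221587 (iv5 D196736) D196734
theorem F509726 : act 3 n221587 = n220247 := d6_1 D221587 (iv5 D220247) (iv3 F401629)
theorem F509727 : act 7 n221587 = n199231 := d13_2 (iv7 F401630) D221587 (iv5 D199231)
theorem F509728 : act 4 n221587 = n216335 := d16_2 F401633 D221587 F483894 (iv4 F462014) F462016 (iv4 F424967) (iv5 D202657) (iv7 F401636) F401634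
theorem F509729 : act 1 n221587 = n217983 := d17_8 F411241 (iv5 D199227) D199225 (iv5 F411234) F411260 F411258 F401632 D221587 F491550
theorem F509730 : act 0 n221587 = n218362 := d21_1 D221587 (iv5 F493503) (iv6 D212076) (iv1 D145299) (iv6 D68121) (iv5 F78382) D107438 F180609 D111078 (iv1 F401631)
def n221588 : Q := act 0 n196735
theorem D221588 : act 0 n196735 = n221588 := rfl
theorem F509731 : act 5 n221588 = n208812 := d17_1 D221588 F483863 F483860 (iv4 F473902) F473903 (iv0 F505904) F505901 (iv0 D196733) D196735
theorem F509732 : act 3 n221588 = n211945 := d20_5 F80646 D51127 D110872 (iv3 F401635) D221588 (iv4 D211945) (iv1 F397027) F397020 (iv3 D116279) F171721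
theorem F509733 : act 6 n221588 = n199051 := d21_5 (iv5 D101053) (iv1 F232804) D148968 F401637 D221588 F410477 (iv1 F438181) F438179 F427280 (iv1 D192975)
theorem F509734 : act 2 n199060 = n221588 := d15_3 (iv0 D221588) (iv0 F401638) D199060
theorem F509735 : act 1 n199058 = n221588 := d15_0 (iv0 D221588) F401636 (iv2 F410500)
theorem F509736 : act 7 n221588 = n199052 := d15_2 D199058 F509735 F410479
def n221589 : Q := act 0 n196736
theorem D221589 : act 0 n196736 = n221589 := rfl
theorem F509737 : act 5 n221589 = n214186 := d17_3 (iv1 F393619) D196736 D221589 F473896 (iv5 F503173) (iv0 D220319) F411234 (iv0 D199225) F172286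
theorem F509738 : act 4 n221589 = n209463 := d18_1 D221589 F453789 (iv4 F451035) (iv5 F451037) F411237 F411236 F401628 (iv0 D196733) D196736
theorem F509739 : act 2 n218362 = n221589 := d15_3 (iv0 D221589) (iv0 F505564) F505562
theorem F509740 : act 1 n199231 = n221589 := d15_0 (iv0 D221589) (iv7 F451025) F451027
theorem F509741 : act 7 n221589 = n217983 := d15_2 (iv0 F505565) F509740 (iv2 F505559)
theorem F509742 : act 6 n209462 = n221589 := d10_0 F509738 (iv6 D209463) D209462
def n221590 : Q := act 1 n196737
theorem D221590 : act 1 n196737 = n221590 := rfl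
theorem F509743 : act 1 n221590 = n212707 := d15_1 D221590 (iv7 F467622) F467620
theorem F509744 : act 7 n221590 = n199257 := d15_2 F401642 D221590 F411345
theorem F509745 : act 5 n221590 = n212166 := d17_7 (iv1 F337073) F337074 (iv1 F350939) (iv5 F454442) F454441 F415141 D221590 F464580 (iv4 D175112)
theorem F509746 : act 4 n221590 = n212699 := d17_9 (iv1 D212699) (iv5 D149012) (iv1 F107097) (iv5 F236192) (iv4 F402172) (iv5 F402175) (iv0 F415144) F415141 D221590
theorem F509747 : act 3 n214826 = n221590 := d19_19 (iv1 D221590) (iv5 F415141) (iv4 F454441) (iv3 F476653) F476657 F303671 F300894 F113616 D75760 (iv5 F127711) (iv4 F128638) D174895 F405468 D215741 F481352 F430057 (iv1 D162757) D162759 D214826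
theorem F509748 : act 6 n219250 = n221590 := d21_3 D212069 (iv1 F464227) D219250 (iv1 D221590) (iv6 D196737) D196736 D221589 F509737 F473900 (iv1 D212068)
theorem F509749 : act 2 n221590 = n220366 := d3_1 F509748 F503428 F501380
def n221591 : Q := act 5 n196738
theorem D221591 : act 5 n196738 = n221591 := rfl
theorem F509750 : act 2 n221591 = n220527 := d2_1 D221591 (iv5 D220527) (iv2 F401645)
theorem F509751 : act 3 n221591 = n213316 := d6_1 D221591 F469878 (iv3 F434359)
theorem F509752 : act 4 n221591 = n217677 := d9_1 D221591 (iv5 F504559) F504558 F422109 F288306 D187712 F371283 D199241 (iv4 F421834) (iv5 F437915) F437914 F422096 F370572 D187711 F401644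
theorem F509753 : act 7 n221591 = n198943 := d13_2 (iv7 F401643) D221591 (iv5 D198943)
theorem F509754 : act 0 n221591 = n196744 := d17_2 (iv1 F401646) D221591 F401663 (iv4 D193222) (iv5 D101369) (iv0 D47183) D47186 D101378 D193224
theorem F509755 : act 1 n221591 = n220190 := d17_6 F365660 (iv5 D90488) D90486 D187711 F401644 D221591 (iv5 D220190) F470318 F470315
theorem F509756 : act 6 n221591 = n221023 := d21_9 (iv5 D208635) F366592 D205008 (iv6 F490755) (iv1 F490756) (iv6 F502848) (iv5 D220247) (iv1 F401646) D221591 F506857
def n221592 : Q := act 5 n196739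
theorem D221592 : act 5 n196739 = n221592 := rfl
theorem F509757 : act 2 n221592 = n196740 := d2_1 D221592 (iv5 D196740) D196739
theorem F509758 : act 3 n221592 = n199231 := d6_1 D221592 (iv5 D199231) (iv3 F401647)
theorem F509759 : act 7 n221592 = n220247 := d13_2 (iv7 F401649) D221592 (iv5 D220247)
theorem F509760 : act 4 n221592 = n207904 := d16_2 (iv4 F401648) D221592 (iv5 D207904) (iv4 F422064) (iv5 F493885) F493884 F377058 F218995 D137601
def n221593 : Q := act 4 n196740
theorem D221593 : act 4 n196740 = n221593 := rfl
theorem F509761 : act 2 n221593 = n207904 := d1_1 D221593 (iv4 F509760) F509757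
theorem F509762 : act 3 n221593 = n201270 := d5_1 D221593 (iv4 D201270) F401657 (iv4 D196741) (iv3 F401652)
theorem F509763 : act 6 n221593 = n206830 := d10_2 F484668 D221593 (iv4 F484666)
theorem F509764 : act 5 n221593 = n207903 := d16_1 D221593 (iv4 F465485) (iv5 F483320) (iv4 D216192) F283609 D193224 D220247 (iv7 F509759) F509757
theorem F509765 : act 0 n221593 = n217631 := d17_0 (iv5 D217631) (iv1 F418915) (iv5 F446950) (iv4 F501822) F501823 (iv0 F470313) D220530 F504216 D221593
theorem F509766 : act 1 n221593 = n217667 := d18_6 (iv1 D193226) (iv4 D101379) F339537 (iv4 F165308) D196740 D221593 (iv4 F502723) F502725 F449965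
def n221594 : Q := act 2 n196743
theorem D221594 : act 2 n196743 = n221594 := rfl
theorem F509767 : act 3 n221594 = n220190 := d0_2 D196743 D221594 F502556 F473907 F247358
theorem F509768 : act 5 n221594 = n209992 := d2_2 (iv5 F401661) D221594 F455663
theorem F509769 : act 7 n221594 = n199233 := d4_2 F439810 D221594 (iv2 F439807)
theorem F509770 : act 1 n221594 = n199216 := d15_0 (iv0 F439812) F439810 D221594
theorem F509771 : act 1 n199235 = n221594 := d15_0 F509770 (iv7 F505903) F505899
def n221595 : Q := act 4 n196743
theorem D221595 : act 4 n196743 = n221595 := rfl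
theorem F509772 : act 3 n221595 = n213495 := d5_1 D221595 F470670 F439790 (iv4 F350591) D196743
theorem F509773 : act 6 n221595 = n215953 := d10_2 (iv6 F405814) D221595 F482248
theorem F509774 : act 5 n221595 = n213494 := d17_5 F509730 (iv5 F493503) F464244 (iv5 F401661) D221595 F470668 F457110 F483896 (iv4 F509728)
theorem F509775 : act 0 n221595 = n203785 := d17_0 F429802 D221588 F509731 (iv4 F451028) (iv5 D199231) F401626 (iv5 F505901) (iv0 F505905) D221595
def n221596 : Q := act 0 n196747
theorem D221596 : act 0 n196747 = n221596 := rfl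
theorem F509776 : act 5 n221596 = n220220 := d17_1 D221596 F502719 F473882 F387597 (iv5 F369045) F391613 D220598 F504540 F457934
theorem F509777 : act 4 n221596 = n217169 := d18_1 D221596 F487763 (iv4 F459308) F459309 (iv4 F401621) (iv0 D193239) (iv4 F389239) (iv0 F389241) D196747
theorem F509778 : act 3 n221596 = n220221 := d20_5 (iv4 F430438) F430440 (iv4 F339970) (iv3 F401672) D221596 F502723 (iv1 F509766) (iv4 D221593) F401652 (iv1 F360115)
theorem F509779 : act 1 n196820 = n221596 := d15_0 (iv0 D221596) (iv7 F411061) F411059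
theorem F509780 : act 7 n221596 = n216088 := d15_2 (iv0 F487777) F509779 F482875
theorem F509781 : act 6 n220175 = n221596 := d14_5 F509780 (iv6 D216088) F280855 D214288 (iv7 F502482)
def n221597 : Q := act 4 n196753
theorem D221597 : act 4 n196753 = n221597 := rfl
theorem F509782 : act 3 n221597 = n212608 := d5_1 D221597 F466666 F401693 (iv4 D196754) (iv3 F401690)
theorem F509783 : act 5 n221597 = n209002 := d9_2 D196753 D221597 F451793 (iv5 D153962) F331866 D173352 (iv4 F401947) (iv5 F401956) (iv4 F444501) (iv5 D207356) (iv4 F358068) (iv5 D153967) F331860 (iv5 F273570) F364906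
theorem F509784 : act 6 n221597 = n212607 := d10_2 F490351 D221597 (iv4 F490349)
theorem F509785 : act 7 n221597 = n220056 := d11_2 F411050 D221597 F501890
theorem F509786 : act 0 n221597 = n209003 := d17_0 F451796 (iv1 D188754) F143019 (iv4 F372225) (iv5 F473878) F473880 (iv5 F490804) F490806 D221597
theorem F509787 : act 1 n221597 = n201671 := d18_6 F389518 (iv4 D176162) (iv1 F347447) F364906 D196753 D221597 (iv4 F480767) (iv0 F490691) F490690
def n221598 : Q := act 0 n196755
theorem D221598 : act 0 n196755 = n221598 := rfl
theorem F509788 : act 4 n221598 = n201326 := d18_3 F398941 (iv4 F401696) D221598 F420030 (iv4 F400003) (iv0 F453329) F453327 (iv0 F398903) (iv5 F371934)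
theorem F509789 : act 6 n221598 = n197911 := d21_5 F172245 (iv1 F104357) D107276 D196755 D221598 F406184 F172785 (iv5 F363668) F339966 (iv1 F172247)
theorem F509790 : act 2 n216569 = n221598 := d15_3 (iv0 D221598) (iv0 F401697) D216569
theorem F509791 : act 1 n201330 = n221598 := d15_0 (iv0 D221598) (iv7 F439742) F439739
theorem F509792 : act 7 n221598 = n211885 := d15_2 F420044 F509791 F463400
theorem F509793 : act 3 n197913 = n221598 := d8_3 F509792 F463401 F427613
def n221599 : Q := act 1 n196763
theorem D221599 : act 1 n196763 = n221599 := rfl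
theorem F509794 : act 5 n221599 = n215387 := d17_7 (iv1 F431944) F464635 (iv1 D212179) F228458 (iv4 F227055) (iv5 F401715) D221599 (iv0 F482045) F482041
def n221600 : Q := act 4 n196764
theorem D221600 : act 4 n196764 = n221600 := rfl
theorem F509795 : act 2 n221600 = n209971 := d1_1 D221600 F460083 F460085
theorem F509796 : act 3 n221600 = n202608 := d5_1 D221600 F424726 (iv3 F408510) F401486 D196764
theorem F509797 : act 6 n221600 = n209995 := d10_2 F501274 D221600 (iv4 F501271)
theorem F509798 : act 5 n221600 = n196799 := d16_3 (iv4 F401246) (iv5 F401716) D221600 F411124 F411126 F389290 (iv5 F401853) (iv7 D196804) (iv2 F386489)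
theorem F509799 : act 0 n221600 = n212211 := d18_2 F401717 D221600 (iv4 F508905) (iv5 D221414) F400388 (iv0 F400275) F400273 D196694 F401509
theorem F509800 : act 0 n221432 = n221600 := d20_10 (iv4 D221600) (iv1 F401718) D196803 (iv3 F464507) F464510 (iv3 F501065) F501066 (iv1 F509010) F509006 (iv3 F509004)
def n221601 : Q := act 6 n196769
theorem D221601 : act 6 n196769 = n221601 := rfl
theorem F509801 : act 2 n221601 = n196867 := d3_1 D221601 (iv6 D196867) (iv2 F401741)
theorem F509802 : act 3 n221601 = n211529 := d7_1 D221601 (iv6 D211529) F401740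
theorem F509803 : act 4 n221601 = n198403 := d10_1 D221601 F407898 (iv4 F402087)
theorem F509804 : act 0 n221601 = n220840 := d21_4 F393820 (iv1 F406806) F406810 D221601 (iv6 D220840) (iv5 F471798) (iv1 F471799) F412898 F406837 F393819
theorem F509805 : act 0 n196773 = n221601 := d21_4 D194548 (iv1 F400494) (iv5 F400492) D196773 (iv6 D221601) (iv5 F406810) (iv1 D198103) D198104 F406816 F390577
def n221602 : Q := act 1 n196780
theorem D221602 : act 1 n196780 = n221602 := rfl
theorem F509806 : act 1 n221602 = n199147 := d15_1 D221602 (iv7 F411083) F411080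
theorem F509807 : act 7 n221602 = n200238 := d15_2 F410884 D221602 F415664
theorem F509808 : act 5 n221602 = n200240 := d17_7 F425834 (iv5 F379757) F457578 F457575 F247441 (iv5 F401773) D221602 F415673 (iv4 F425831)
theorem F509809 : act 4 n221602 = n208122 := d17_9 F447977 F420223 F443819 F443818 (iv4 F388623) (iv5 F447721) F447722 (iv5 F401773) D221602
theorem F509810 : act 3 n216952 = n221602 := d19_19 (iv1 D221602) F401773 (iv4 F247441) (iv3 D157227) (iv1 D74764) D74766 D157231 F247448 (iv1 F356896) (iv5 D104849) D104848 D194992 F395331 D206597 (iv4 F441496) F377590 F291642 D186437 D216952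
theorem F509811 : act 6 n217852 = n221602 := d21_3 (iv5 F493077) (iv1 D218277) (iv5 F490931) (iv1 D221602) (iv6 D196780) F165376 (iv1 F80803) D111047 D199184 (iv1 F484991)
theorem F509812 : act 2 n221602 = n200248 := d3_1 F509811 (iv6 F467918) (iv2 F490929)
def n221603 : Q := act 6 n196789
theorem D221603 : act 6 n196789 = n221603 := rfl
theorem F509813 : act 2 n221603 = n220589 := d3_1 D221603 (iv6 D220589) (iv2 F401806)
theorem F509814 : act 4 n221603 = n220588 := d10_1 D221603 (iv6 D220588) F401805
theorem F509815 : act 0 n214620 = n221603 := d18_0 F509814 F504487 F479481 D215348 F479501 (iv0 F488604) (iv4 F488605) (iv0 D214653) (iv5 F476088)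
def n221604 : Q := act 6 n196791
theorem D221604 : act 6 n196791 = n221604 := rfl
theorem F509816 : act 2 n221604 = n202607 := d3_1 D221604 (iv6 D202607) (iv2 F401808)
theorem F509817 : act 3 n221604 = n196792 := d7_1 D221604 (iv6 D196792) D196791
theorem F509818 : act 4 n221604 = n202871 := d10_1 D221604 (iv6 F425967) (iv4 F401809)
theorem F509819 : act 5 n221604 = n205009 := d12_1 D221604 (iv6 D205009) D205008 (iv6 F490755) F490754
theorem F509820 : act 7 n221604 = n212223 := d14_2 (iv7 F401810) D221604 F464820 F434367 F387485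
theorem F509821 : act 0 n221604 = n221121 := d21_4 (iv5 F420016) (iv1 F490757) F490754 D221604 F507330 F456483 (iv1 F394756) F394755 (iv6 D140546) (iv1 F340492)
theorem F509822 : act 0 n211348 = n221604 := d21_4 F402236 F402237 D196988 (iv6 F461226) (iv6 D221604) (iv5 F490754) (iv1 F490756) (iv5 D211020) D211021 F490758
def n221605 : Q := act 6 n196794
theorem D221605 : act 6 n196794 = n221605 := rfl
theorem F509823 : act 2 n221605 = n211361 := d3_1 D221605 (iv6 D211361) F401818
theorem F509824 : act 3 n221605 = n220903 := d7_1 D221605 F506181 F459778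
theorem F509825 : act 4 n221605 = n217858 := d10_1 D221605 (iv6 F490959) F444515
theorem F509826 : act 5 n221605 = n217821 := d12_1 D221605 (iv6 F490795) D220901 F506172 F424103
theorem F509827 : act 7 n221605 = n219383 := d14_2 F459800 D221605 (iv6 F498600) (iv7 F482906) (iv6 F482910)
theorem F509828 : act 0 n221605 = n197554 := d21_4 F371910 (iv1 F424105) F424103 D221605 (iv6 D197554) (iv5 D108445) D108442 (iv5 F372020) F372021 (iv1 F371911)
theorem F509829 : act 0 n217768 = n221605 := d21_4 (iv5 F394205) (iv1 F413459) (iv5 F413458) D217768 (iv6 D221605) (iv5 F424103) (iv1 F424106) (iv5 F371899) (iv6 F371903) F371691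
def n221606 : Q := act 5 n196798
theorem D221606 : act 5 n196798 = n221606 := rfl
theorem F509830 : act 3 n221606 = n209973 := d6_1 D221606 (iv5 F471702) F471699
theorem F509831 : act 6 n221606 = n218268 := d12_2 (iv6 F419951) D221606 (iv5 D218268) F375135 (iv5 F419945)
theorem F509832 : act 7 n221606 = n209971 := d13_2 F502895 D221606 (iv5 F502892)
theorem F509833 : act 4 n221606 = n196802 := d19_2 D196798 D221606 (iv3 F500970) (iv1 F502091) F502088 F401988 (iv3 F416646) F416649 (iv5 D198874) F170787 (iv3 D109607) F324536 D164087 (iv4 F344530) (iv3 F368235) (iv1 F389317) F389314 F357295 (iv3 F357297)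
theorem F509834 : act 0 n212211 = n221606 := d19_0 (iv5 D221606) (iv4 F419952) (iv3 F461198) F461201 (iv5 F423055) (iv4 D202148) D202147 (iv1 F423051) (iv5 D139669) (iv4 D65554) (iv3 F320095) F320094 D67742 (iv4 F321563) (iv3 F181622) F228622 (iv5 D145576) (iv4 F228612) (iv3 F464764)
theorem F509835 : act 1 n221432 = n221606 := d15_0 (iv0 F509834) (iv7 F473921) (iv2 F509003)
def n221607 : Q := act 5 n196802
theorem D221607 : act 5 n196802 = n221607 := rfl
theorem F509836 : act 2 n221607 = n197455 := d2_1 D221607 (iv5 F410990) F410992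
theorem F509837 : act 3 n221607 = n214171 := d6_1 D221607 (iv5 F500966) F500970
theorem F509838 : act 4 n221607 = n196804 := d9_1 D221607 F401853 (iv4 F389290) (iv5 F411126) (iv4 F411124) (iv5 F509798) (iv4 D221600) F401716 F401246 (iv5 F386488) (iv4 F401792) F411122 F419952 D221606 F509833
theorem F509839 : act 6 n221607 = n197454 := d12_2 (iv6 F481896) D221607 F412863 (iv6 F481893) (iv5 F481894)
theorem F509840 : act 7 n221607 = n196803 := d13_2 F460081 D221607 F460084
theorem F509841 : act 0 n221607 = n221399 := d17_2 D196802 D221607 (iv5 D221399) F400273 (iv5 F400405) (iv0 F410942) D202624 (iv0 F424809) (iv4 D196803)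
theorem F509842 : act 1 n221607 = n221416 := d17_6 F424737 F357300 D196798 D221606 F509833 D221607 (iv5 D221416) (iv0 D196341) (iv4 F400388)
def n221608 : Q := act 1 n196803
theorem D221608 : act 1 n196803 = n221608 := rfl
theorem F509843 : act 1 n221608 = n197455 := d15_1 D221608 F404415 (iv2 F401850)
theorem F509844 : act 7 n221608 = n221416 := d15_2 (iv0 F424809) D221608 F508914
theorem F509845 : act 5 n221608 = n221398 := d17_7 (iv1 F508912) F411126 D220257 F502892 F460083 (iv5 F460084) D221608 F508815 (iv4 F508909)
theorem F509846 : act 6 n221532 = n221608 := d21_3 D107390 D196848 (iv5 F509459) (iv1 D221608) F401851 (iv5 D193498) (iv1 F384795) (iv5 F388210) F390081 (iv1 D107389)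
theorem F509847 : act 2 n221399 = n221608 := d2_3 F509845 (iv2 D221398) D221399
def n221609 : Q := act 1 n196806
theorem D221609 : act 1 n196806 = n221609 := rfl
theorem F509848 : act 1 n221609 = n196815 := d15_1 D221609 (iv7 D196815) (iv2 F401860)
theorem F509849 : act 7 n221609 = n196812 := d15_2 (iv0 F423385) D221609 (iv2 F401875)
theorem F509850 : act 4 n221609 = n202246 := d17_9 (iv1 D202246) D202247 F456295 (iv5 D210131) (iv4 F409156) (iv5 D198769) D198768 F409153 D221609
theorem F509851 : act 5 n205021 = n221609 := d21_6 (iv5 F393851) D220823 F505721 (iv6 D215218) F268237 D205021 (iv1 D221609) (iv5 F409153) (iv6 F458617) (iv1 F458618)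
theorem F509852 : act 2 n221609 = n196813 := d2_1 F509851 F432959 (iv2 F434647)
theorem F509853 : act 3 n221609 = n211538 := d6_1 F509851 F462034 (iv3 F434648)
def n221610 : Q := act 1 n196809
theorem D221610 : act 1 n196809 = n221610 := rfl
theorem F509854 : act 1 n221610 = n220541 := d15_1 D221610 F504274 F422474
theorem F509855 : act 7 n221610 = n220586 := d15_2 (iv0 F502918) D221610 F504476
theorem F509856 : act 4 n221610 = n204498 := d18_7 D210373 F457250 (iv1 F450674) F450379 (iv5 D196814) (iv4 F401865) D221610 (iv0 F432710) F398705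
theorem F509857 : act 3 n219766 = n221610 := d20_3 F391302 (iv1 F385997) D219766 (iv1 D221610) (iv3 F502914) F502915 (iv1 F389331) (iv4 F423408) (iv3 F500487) (iv1 F500489)
theorem F509858 : act 2 n221610 = n221298 := d0_1 F509857 F508233 (iv2 F422396) (iv3 F391490) (iv2 F500512)
theorem F509859 : act 6 n221610 = n204497 := d7_2 (iv6 F500514) F509857 (iv3 F473142)
def n221611 : Q := act 5 n196809
theorem D221611 : act 5 n196809 = n221611 := rfl
theorem F509860 : act 2 n221611 = n212749 := d2_1 D221611 F469347 F422474
theorem F509861 : act 7 n221611 = n212748 := d13_2 F422478 D221611 F467346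
theorem F509862 : act 0 n221611 = n212750 := d17_2 (iv1 D221610) D221611 (iv5 F508988) (iv4 D221429) F400598 F407297 F407295 (iv0 F432709) (iv4 F509856)
theorem F509863 : act 1 n221611 = n212751 := d17_6 F502929 F473852 (iv1 F409157) (iv5 D196814) (iv4 F401865) D221611 (iv5 F505270) (iv0 F505273) (iv4 F502928)
def n221612 : Q := act 6 n196810
theorem D221612 : act 6 n196810 = n221612 := rfl
theorem F509864 : act 2 n221612 = n199128 := d3_1 D221612 (iv6 D199128) F401868
theorem F509865 : act 4 n221612 = n198390 := d10_1 D221612 (iv6 D198390) (iv4 F401867)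
theorem F509866 : act 5 n221612 = n204539 := d12_1 D221612 (iv6 F443984) F509241 (iv6 D221485) (iv5 F401866)
theorem F509867 : act 0 n221612 = n199641 := d21_4 (iv5 F228395) (iv1 F400930) (iv5 F401866) D221612 F412950 F405618 (iv1 F172834) D140681 (iv6 F358698) (iv1 F398750)
theorem F509868 : act 0 n221503 = n221612 := d21_4 (iv5 F461565) F461566 D219890 (iv6 F509335) (iv6 D221612) F401866 (iv1 F400931) (iv5 F401966) F507551 (iv1 D221169)
def n221613 : Q := act 3 n196812
theorem D221613 : act 3 n196812 = n221613 := rfl
theorem F509869 : act 2 n221613 = n211530 := d0_1 D221613 (iv3 D211530) F353394 D142809 F401875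
theorem F509870 : act 4 n221613 = n199225 := d5_2 F423389 D221613 (iv3 F502567) F502568 (iv3 D202254)
theorem F509871 : act 7 n221613 = n211538 := d8_2 F509849 D221613 (iv3 F509853)
theorem F509872 : act 0 n221613 = n211537 := d20_4 F163680 D115508 F423389 D221613 (iv3 F462032) F415393 F428887 (iv4 F480782) (iv3 F480785) (iv1 D195911)
theorem F509873 : act 0 n211533 = n221613 := d20_4 D196731 (iv1 F459983) (iv4 F459984) (iv3 F462013) (iv3 D221613) (iv4 F423389) (iv1 F423397) (iv4 F424796) F424795 (iv1 F363141)
theorem F509874 : act 5 n221613 = n198325 := d19_1 F509873 F407615 (iv3 D188697) (iv1 F142805) (iv5 F143588) (iv4 F375626) (iv3 F484550) (iv1 F505920) F505922 F497474 F463814 (iv1 F408135) (iv5 F393847) (iv4 F401210) (iv3 F509500) (iv1 F509504) F507585 (iv4 F459984) (iv3 F462013)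
theorem F509875 : act 6 n221613 = n210992 := d21_5 (iv5 F180717) D199135 F410826 D211533 F509873 (iv5 D210992) (iv1 F444929) F444925 (iv6 D196787) F220059
def n221614 : Q := act 5 n196812
theorem D221614 : act 5 n196812 = n221614 := rfl
theorem F509876 : act 2 n221614 = n208848 := d2_1 D221614 F451106 F401875
theorem F509877 : act 3 n221614 = n198325 := d6_1 D221614 (iv5 F509874) (iv3 D221613)
theorem F509878 : act 7 n221614 = n205021 := d13_2 F509849 D221614 F509851
theorem F509879 : act 4 n221614 = n205022 := d16_2 F423389 D221614 F434653 D209673 (iv5 F469443) (iv4 F469444) (iv5 D202257) F423383 F423388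
theorem F509880 : act 1 n221614 = n216011 := d17_8 F429687 (iv5 F476014) F476016 F448991 F217229 (iv5 F449039) F449043 D221614 F482523
theorem F509881 : act 0 n221614 = n216012 := d18_0 (iv4 F482528) F450545 F429513 (iv5 F432708) (iv4 F509856) F509854 F504271 F449043 D221614
theorem F509882 : act 6 n221614 = n197602 := d21_3 (iv5 D196814) D196812 D221614 (iv1 F405421) (iv6 D197699) (iv5 F216785) (iv1 F216788) D196377 (iv6 F409159) (iv1 F409157)
def n221615 : Q := act 6 n196812
theorem D221615 : act 6 n196812 = n221615 := rfl
theorem F509883 : act 2 n221615 = n211535 := d3_1 D221615 (iv6 D211535) F401875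
theorem F509884 : act 3 n221615 = n210992 := d7_1 D221615 (iv6 F509875) (iv3 D221613)
theorem F509885 : act 4 n221615 = n202256 := d10_1 D221615 (iv6 D202256) F423389
theorem F509886 : act 5 n221615 = n210991 := d12_1 D221615 (iv6 D210991) F404984 (iv6 F509882) (iv5 D221614)
theorem F509887 : act 0 n219846 = n221615 := d21_1 D219846 F509886 (iv6 D210991) F407157 (iv6 F406017) (iv5 F405569) (iv1 F406562) (iv5 F406560) (iv6 F500861) (iv1 D219844)
theorem F509888 : act 0 n221615 = n204830 := d21_1 (iv5 F509886) F433749 (iv6 D204655) F304739 (iv6 F405288) (iv5 F430689) (iv1 F482863) F482859 (iv6 F472541) F459659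
def n221616 : Q := act 3 n196816
theorem D221616 : act 3 n196816 = n221616 := rfl
theorem F509889 : act 2 n221616 = n216361 := d0_1 D221616 F484004 F413214 F375134 (iv2 F401881)
theorem F509890 : act 4 n221616 = n213583 := d5_2 D196816 D221616 F471144 F411657 (iv3 F349730)
theorem F509891 : act 5 n221616 = n205507 := d6_2 (iv5 F401882) D221616 F436758
theorem F509892 : act 6 n221616 = n211453 := d7_2 (iv6 F401883) D221616 F461599
theorem F509893 : act 7 n221616 = n201422 := d8_2 (iv7 F401884) D221616 F420451
theorem F509894 : act 0 n221616 = n207255 := d19_4 (iv1 F165394) D107352 D196816 D221616 (iv5 D207255) F209227 (iv3 D107226) F96511 (iv5 F328854) F82173 (iv3 D51645) (iv1 F81527) (iv5 F99668) (iv4 F161954) (iv3 F396596) (iv1 F460774) F460776 (iv4 F401809) (iv3 D196791)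
theorem F509895 : act 0 n212871 = n221616 := d20_4 (iv4 F428442) (iv1 F467893) (iv4 D212872) D212871 (iv3 D221616) (iv4 D196816) (iv1 F401789) (iv4 F444050) F444048 (iv1 D203471)
def n221617 : Q := act 6 n196817
theorem D221617 : act 6 n196817 = n221617 := rfl
theorem F509896 : act 2 n221617 = n199143 := d3_1 D221617 (iv6 D199143) (iv2 F401891)
theorem F509897 : act 3 n221617 = n220105 := d7_1 D221617 F502148 F401890
theorem F509898 : act 4 n221617 = n200168 := d10_1 D221617 F415355 (iv4 F401888)
theorem F509899 : act 5 n221617 = n204847 := d12_1 D221617 (iv6 F433829) (iv5 F387624) (iv6 F388704) (iv5 F401889)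
theorem F509900 : act 7 n221617 = n204853 := d14_2 (iv7 F401887) D221617 (iv6 F498722) F498723 F473879
theorem F509901 : act 0 n221502 = n221617 := d21_4 (iv5 F410707) D218235 F492876 D221502 (iv6 D221617) F401889 (iv1 F388705) (iv5 F440468) (iv6 F476849) F476850
def n221618 : Q := act 5 n196826
theorem D221618 : act 5 n196826 = n221618 := rfl
theorem F509902 : act 2 n221618 = n198127 := d2_1 D221618 (iv5 F462016) F462012
theorem F509903 : act 3 n221618 = n196832 := d6_1 D221618 (iv5 D196832) (iv3 F401922)
theorem F509904 : act 6 n221618 = n217534 := d12_2 D196826 D221618 F489352 (iv6 D209718) F220040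
theorem F509905 : act 0 n217761 = n221618 := d19_0 (iv5 D221618) F401923 (iv3 F410493) F410495 (iv5 F462635) (iv4 D211674) F420596 (iv1 D201460) (iv5 D114541) (iv4 F178602) F178601 F332526 (iv5 D139125) (iv4 F359422) (iv3 F385972) F500407 F500403 (iv4 F458577) (iv3 F490497)
def n221619 : Q := act 4 n196839
theorem D221619 : act 4 n196839 = n221619 := rfl
theorem F509906 : act 2 n221619 = n204833 := d1_1 D221619 F433760 (iv2 F401996)
theorem F509907 : act 3 n221619 = n199237 := d5_1 D221619 (iv4 F486928) F486924 F456317 (iv3 F401997)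
theorem F509908 : act 5 n221619 = n198278 := d9_2 F401994 D221619 (iv4 F407446) (iv5 F423639) (iv4 F474854) (iv5 D214375) F250664 (iv5 F320976) (iv4 F273950) (iv5 F407443) (iv4 F480147) (iv5 D215471) (iv4 F461960) (iv5 F476065) F476060
theorem F509909 : act 6 n221619 = n215345 := d10_2 F401995 D221619 F479494
theorem F509910 : act 7 n221619 = n199245 := d11_2 (iv7 F401993) D221619 F411303
theorem F509911 : act 0 n221619 = n214616 := d17_0 (iv5 D214616) (iv1 F433865) (iv5 D204855) (iv4 D124496) (iv5 D58101) D58099 (iv5 F336028) D196839 D221619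
theorem F509912 : act 1 n221619 = n215540 := d18_6 D174159 F393025 (iv1 F476063) F476060 F401994 D221619 F480405 (iv0 D215332) F271732
def n221620 : Q := act 5 n196846
theorem D221620 : act 5 n196846 = n221620 := rfl
theorem F509913 : act 2 n221620 = n204763 := d2_1 D221620 (iv5 F480062) (iv2 F480065)
theorem F509914 : act 3 n221620 = n214646 := d6_1 D221620 (iv5 F502770) F502768
theorem F509915 : act 6 n221620 = n204762 := d12_2 D196846 D221620 F433495 F402032 (iv5 D196845)
theorem F509916 : act 7 n221620 = n221516 := d13_2 F480066 D221620 F509395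
theorem F509917 : act 4 n221620 = n214817 := d16_2 (iv4 F471662) D221620 (iv5 F495963) (iv4 F495965) (iv5 D215479) F413609 F471663 (iv7 F497116) F497118
theorem F509918 : act 0 n221620 = n221510 := d17_2 F482030 D221620 (iv5 D221510) F401063 (iv5 F363354) F431902 (iv5 F508931) (iv0 F508933) F480072
theorem F509919 : act 1 n221620 = n221447 := d17_6 F482709 F482706 F480164 (iv5 F480163) (iv4 F471662) D221620 (iv5 D221447) (iv0 F473848) F473847
theorem F509920 : act 0 n219281 = n215476 := d20_10 F509056 (iv1 F509919) F509917 (iv3 F495889) (iv1 F478548) (iv3 F488668) F488669 (iv1 F369887) D191036 D219281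
theorem F509921 : act 1 n219281 = n215223 := d15_1 (iv0 F509920) (iv7 F478967) (iv2 F480158)
def n221621 : Q := act 0 n196856
theorem D221621 : act 0 n196856 = n221621 := rfl
theorem F509922 : act 5 n221621 = n221531 := d17_1 D221621 F509457 F402091 F362033 (iv5 F204574) F204575 D196587 F401167 D196856
theorem F509923 : act 4 n221621 = n196877 := d18_1 D221621 (iv1 F402123) D196883 F402148 F402111 (iv0 D111121) D111123 (iv0 F400882) (iv5 F402049)
theorem F509924 : act 3 n221621 = n199644 := d20_5 F172761 D125724 F433414 (iv3 F433413) D221621 F412965 F249252 D173231 F412174 (iv1 D199433)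
theorem F509925 : act 2 n221531 = n221621 := d15_3 (iv0 D221621) F405821 (iv7 F509456)
theorem F509926 : act 1 n196858 = n221621 := d15_0 (iv0 D221621) (iv7 F402092) F402090
theorem F509927 : act 7 n221621 = n214716 := d15_2 (iv0 F405822) F509926 F476509
theorem F509928 : act 6 n216090 = n221621 := d21_3 D196492 D221480 F509226 (iv1 F509926) (iv6 F463494) (iv5 F463495) F457319 (iv5 F481952) F481951 (iv1 D196491)
def n221622 : Q := act 7 n196857
theorem D221622 : act 7 n196857 = n221622 := rfl
theorem F509929 : act 2 n221622 = n204722 := d4_1 D221622 F433397 F402082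
theorem F509930 : act 3 n221622 = n204738 := d8_1 D221622 F433441 F412076
theorem F509931 : act 5 n221622 = n219203 := d13_1 D221622 (iv7 F509425) F509424
theorem F509932 : act 6 n221622 = n211898 := d14_1 D221622 F463482 (iv6 D196869) F165449 D196857
theorem F509933 : act 1 n204066 = n221622 := d15_1 (iv0 F474509) (iv7 D221622) (iv2 F402082)
theorem F509934 : act 1 n221622 = n197803 := d15_1 F509933 (iv7 F482888) F482887
def n221623 : Q := act 6 n196864
theorem D221623 : act 6 n196864 = n221623 := rfl
theorem F509935 : act 2 n221623 = n215248 := d3_1 D221623 F479037 (iv2 F402079)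
theorem F509936 : act 3 n221623 = n197758 := d7_1 D221623 (iv6 F412875) (iv3 F412884)
theorem F509937 : act 4 n221623 = n196865 := d10_1 D221623 (iv6 D196865) D196864
theorem F509938 : act 5 n221623 = n212887 := d12_1 D221623 (iv6 D212887) (iv5 F418225) (iv6 F418229) (iv5 F402081)
theorem F509939 : act 7 n221623 = n215252 := d14_2 (iv7 F402080) D221623 F479053 F463496 F463494
theorem F509940 : act 0 n221623 = n206235 := d21_4 D174153 (iv1 F346366) (iv5 F402081) D221623 F439848 F363666 D151247 (iv5 F418225) (iv6 F418229) (iv1 D174151)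
theorem F509941 : act 0 n214675 = n221623 := d21_4 (iv5 F172338) (iv1 F204580) (iv5 F402061) (iv6 F476346) (iv6 D221623) F402081 (iv1 D174151) D174153 (iv6 F346361) (iv1 F164981)
def n221624 : Q := act 0 n196871
theorem D221624 : act 0 n196871 = n221624 := rfl
theorem F509942 : act 5 n221624 = n211123 := d17_1 D221624 (iv1 D211123) D211124 (iv4 F509112) F509113 (iv0 F473662) (iv5 F481917) (iv0 F481919) F479723
theorem F509943 : act 4 n221624 = n199609 := d18_1 D221624 (iv1 D199609) F173024 D198053 (iv4 F493017) (iv0 F493020) F464554 D212161 (iv5 F464557)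
theorem F509944 : act 3 n221624 = n210975 := d20_5 F101596 D127364 D206079 (iv3 F439162) D221624 F459578 F451373 (iv4 D204305) (iv3 F431977) (iv1 D140414)
theorem F509945 : act 2 n215890 = n221624 := d0_5 F509944 (iv2 F459579) (iv3 F459636) F459629 (iv3 F481950)
theorem F509946 : act 6 n197459 = n221624 := d7_0 F509944 (iv6 F459582) F406238
theorem F509947 : act 7 n215888 = n221624 := d8_0 F509944 F459581 (iv3 F481942)
theorem F509948 : act 0 n221624 = n199541 := d19_4 F357878 D208911 (iv4 F459578) (iv3 F509944) F412589 (iv4 F392880) F392879 F344483 D211676 F462642 (iv3 F470118) F470121 F389463 (iv4 D127928) (iv3 F178709) (iv1 F385521) F385523 (iv4 F278301) F344886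
def n221625 : Q := act 1 n196871
theorem D221625 : act 1 n196871 = n221625 := rfl
theorem F509949 : act 1 n221625 = n199541 := d15_1 D221625 F412590 (iv2 F402099)
theorem F509950 : act 7 n221625 = n215890 := d15_2 (iv0 D221624) D221625 F509945
theorem F509951 : act 4 n221625 = n199488 := d17_9 F412353 (iv5 F459758) (iv1 F459759) F401442 (iv4 F227057) (iv5 F228435) D212161 (iv5 F464557) D221625
theorem F509952 : act 3 n210983 = n221625 := d20_3 F393426 D194495 (iv4 F459624) (iv1 D221625) F439162 (iv4 D206079) (iv1 F435500) (iv4 F459544) (iv3 F480192) F480196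
theorem F509953 : act 5 n210981 = n221625 := d21_0 (iv1 D221625) F464557 (iv6 F464556) (iv1 D196691) F340041 (iv5 F340035) (iv1 F340037) (iv5 D140731) D140732 F459618
theorem F509954 : act 6 n199487 = n221625 := d21_3 (iv5 F227013) D211883 F463393 (iv1 D221625) (iv6 D196871) (iv5 F204574) (iv1 F402134) F402132 (iv6 F402078) (iv1 D144328)
theorem F509955 : act 2 n221625 = n215888 := d3_1 F509954 F481943 (iv2 F412346)
def n221626 : Q := act 7 n196871
theorem D221626 : act 7 n196871 = n221626 := rfl
theorem F509956 : act 2 n221626 = n199541 := d4_1 D221626 F412590 (iv2 F402099)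
theorem F509957 : act 3 n221626 = n220294 := d8_1 D221626 F503070 (iv3 F439162)
theorem F509958 : act 4 n221626 = n197899 := d11_1 D221626 (iv7 F479724) F479723
theorem F509959 : act 5 n221626 = n213716 := d13_1 D221626 F471768 (iv5 F464557)
theorem F509960 : act 6 n221626 = n197897 := d14_1 D221626 F406129 (iv6 D196506) (iv7 F204577) D196871
theorem F509961 : act 1 n215888 = n221626 := d15_1 (iv0 F481944) (iv7 D221626) F402099
theorem F509962 : act 1 n221626 = n215890 := d15_1 F509961 (iv7 F509950) F509955
def n221627 : Q := act 3 n196879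
theorem D221627 : act 3 n196879 = n221627 := rfl
theorem F509963 : act 4 n221627 = n204850 := d5_2 D196879 D221627 (iv3 F433844) F403041 F219445
theorem F509964 : act 5 n221627 = n204846 := d6_2 (iv5 F402132) D221627 F433820
theorem F509965 : act 6 n221627 = n199097 := d7_2 (iv6 F402130) D221627 (iv3 D199097)
theorem F509966 : act 7 n221627 = n199143 := d8_2 (iv7 F402131) D221627 F410863
theorem F509967 : act 0 n221627 = n221502 := d19_4 (iv1 F164851) (iv5 F165675) D196879 D221627 F509332 F412468 (iv3 F409531) F409534 (iv5 D197146) (iv4 D107751) D107750 (iv1 F168108) F82191 (iv4 F84104) (iv3 F179755) D202193 F423190 (iv4 D115728) (iv3 F165551)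
theorem F509968 : act 2 n204853 = n221627 := d4_3 F509966 (iv2 F509896) F509900
def n221628 : Q := act 0 n196889
theorem D221628 : act 0 n196889 = n221628 := rfl
theorem F509969 : act 6 n221628 = n209259 := d21_5 (iv5 F180609) (iv1 F165745) (iv5 F165704) D196889 D221628 F452941 (iv1 F361571) (iv5 D111114) (iv6 D51242) (iv1 F181246)
theorem F509970 : act 2 n196890 = n221628 := d3_3 F509969 F452938 (iv6 F411091)
theorem F509971 : act 3 n212201 = n221628 := d7_3 F509969 F452939 (iv6 F464726)
theorem F509972 : act 4 n209260 = n221628 := d10_3 F509969 F452940 D209260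
theorem F509973 : act 7 n196891 = n221628 := d14_0 F509969 (iv7 D209259) (iv6 F452888) (iv7 F463428) F463433
theorem F509974 : act 0 n221628 = n196893 := d21_4 (iv5 F408542) F408543 (iv5 F452941) (iv6 F509969) F402189 (iv5 F464254) (iv1 F464255) (iv5 F463382) (iv6 D199254) (iv1 F361563)
def n221629 : Q := act 1 n196889
theorem D221629 : act 1 n196889 = n221629 := rfl
theorem F509975 : act 1 n221629 = n196893 := d15_1 D221629 (iv7 D196893) (iv2 F402184)
theorem F509976 : act 7 n221629 = n196890 := d15_2 (iv0 D221628) D221629 F509970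
theorem F509977 : act 3 n218268 = n221629 := d20_3 F464423 (iv1 F423977) (iv4 F493043) (iv1 D221629) F402185 F228354 F389172 (iv4 F464428) (iv3 D212129) (iv1 F464426)
theorem F509978 : act 6 n209973 = n221629 := d21_3 (iv5 F396683) F471701 F471702 (iv1 D221629) (iv6 D196889) F165704 (iv1 F165750) F180606 D111058 (iv1 F401453)
theorem F509979 : act 2 n221629 = n196891 := d3_1 F509978 (iv6 F463433) (iv2 F463434)
theorem F509980 : act 4 n221629 = n209974 := d10_1 F509978 (iv6 D209974) (iv4 F455586)
theorem F509981 : act 5 n221629 = n218267 := d12_1 F509978 F493042 F420377 D213702 F471702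
def n221630 : Q := act 5 n196889
theorem D221630 : act 5 n196889 = n221630 := rfl
theorem F509982 : act 2 n221630 = n196892 := d2_1 D221630 (iv5 D196892) (iv2 F402184)
theorem F509983 : act 3 n221630 = n212093 := d6_1 D221630 (iv5 D212093) (iv3 F402185)
theorem F509984 : act 6 n221630 = n212093 := d12_2 D196889 D221630 (iv5 D212093) (iv6 D145313) (iv5 F165704)
theorem F509985 : act 0 n221630 = n208710 := d17_2 (iv1 D221629) D221630 F450525 (iv4 F493283) (iv5 F498490) (iv0 F498492) (iv5 D210826) (iv0 F455589) (iv4 F509980)
theorem F509986 : act 0 n199121 = n221630 := d21_1 D199121 (iv5 D221630) (iv6 D196889) (iv1 F165708) D145296 (iv5 F444912) F444913 (iv5 F464650) F464651 (iv1 F410730)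
theorem F509987 : act 4 n221630 = n216909 := d20_2 (iv4 F410760) F509986 F486500 (iv1 F359445) (iv3 F384410) (iv4 F458479) (iv1 F491326) F491323 F450529 (iv1 F450528)
theorem F509988 : act 7 n216906 = n221630 := d11_0 F509987 (iv7 D216909) (iv4 F486494)
def n221631 : Q := act 7 n196889
theorem D221631 : act 7 n196889 = n221631 := rfl
theorem F509989 : act 2 n221631 = n196893 := d4_1 D221631 (iv7 D196893) (iv2 F402184)
theorem F509990 : act 3 n221631 = n212094 := d8_1 D221631 (iv7 D212094) (iv3 F402185)
theorem F509991 : act 5 n221631 = n216906 := d13_1 D221631 F509988 (iv5 D221630)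
theorem F509992 : act 6 n221631 = n212070 := d14_1 D221631 (iv7 D212070) (iv6 D145297) (iv7 F165705) D196889
theorem F509993 : act 1 n196891 = n221631 := d15_1 D196891 (iv7 D221631) F402184
theorem F509994 : act 1 n221631 = n196890 := d15_1 F509993 (iv7 F509976) F509979
def n221632 : Q := act 3 n196890
theorem D221632 : act 3 n196890 = n221632 := rfl
theorem F509995 : act 6 n221632 = n209997 := d7_2 (iv6 F411091) D221632 F455685
theorem F509996 : act 7 n221632 = n218268 := d8_2 F509976 D221632 F509977
theorem F509997 : act 0 n221632 = n215892 := d20_10 (iv4 D215892) (iv1 F459815) F459819 (iv3 F424817) F509242 F509238 F464461 (iv1 D209999) F411092 D221632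
theorem F509998 : act 0 n202757 = n221632 := d20_4 F401020 F342461 (iv4 F182483) (iv3 F425447) (iv3 D221632) (iv4 F411092) D209998 F464471 F464468 F401023
theorem F509999 : act 5 n221632 = n199713 := d17_1 F509998 F413223 (iv5 F493245) F493244 F481962 F475957 (iv5 F459809) (iv0 D211032) (iv4 F425448)
theorem F510000 : act 2 n218266 = n221632 := d2_3 F509999 F413218 D218266
def n221633 : Q := act 5 n196890
theorem D221633 : act 5 n196890 = n221633 := rfl
theorem F510001 : act 3 n221633 = n199713 := d6_1 D221633 (iv5 F509999) (iv3 D221632)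
theorem F510002 : act 6 n221633 = n199711 := d12_2 (iv6 F411091) D221633 (iv5 F460163) F460164 (iv5 F408828)
theorem F510003 : act 7 n221633 = n218267 := d13_2 F509976 D221633 (iv5 F509981)
theorem F510004 : act 1 n221633 = n221452 := d17_6 F493285 (iv5 F471351) F471355 F452814 F411092 D221633 (iv5 D221452) (iv0 F400665) (iv4 F493283)
theorem F510005 : act 0 n221633 = n219596 := d21_1 D221633 F499618 F410759 (iv1 D111089) (iv6 D51235) D51234 F172281 (iv5 F78365) D107429 D196890
def n221634 : Q := act 4 n196891
theorem D221634 : act 4 n196891 = n221634 := rfl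
theorem F510006 : act 2 n221634 = n209974 := d1_1 D221634 (iv4 F509980) F509979
theorem F510007 : act 3 n221634 = n210533 := d5_1 D221634 (iv4 F463758) (iv3 F488926) F488928 F471728
theorem F510008 : act 6 n221634 = n209248 := d10_2 F463433 D221634 (iv4 F463429)
theorem F510009 : act 7 n221634 = n209260 := d11_2 (iv7 F509973) D221634 F509972
theorem F510010 : act 5 n221634 = n209802 := d17_5 D199120 (iv5 F499618) F499619 F471716 D221634 F504023 F504021 (iv0 F462037) F410743
theorem F510011 : act 0 n221634 = n209999 := d20_1 D221634 (iv4 F464461) (iv3 F509238) F509240 F454771 (iv4 D209726) (iv1 F454752) (iv4 F464297) (iv3 F509990) (iv1 F509993)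
theorem F510012 : act 0 n209998 = n221634 := d20_10 (iv4 D221634) (iv1 D196891) (iv4 F180536) F180535 F168882 (iv3 F227158) (iv4 D144394) (iv1 F341087) (iv4 F223177) (iv3 F464470)
def n221635 : Q := act 0 n196892
theorem D221635 : act 0 n196892 = n221635 := rfl
theorem F510013 : act 5 n221635 = n199122 := d17_3 (iv1 D196891) D196892 D221635 F410762 (iv5 F382930) D219367 (iv5 F498507) (iv0 F510011) (iv4 D221634)
theorem F510014 : act 1 n216906 = n221635 := d15_0 (iv0 D221635) (iv7 F509078) F509075
theorem F510015 : act 4 n208702 = n221635 := d20_6 F359438 (iv1 F143883) F143874 (iv3 F143864) F295357 (iv3 F450493) (iv1 F510014) F486494 F289054 D186292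
theorem F510016 : act 2 n221635 = n208710 := d1_1 F510015 F450524 (iv2 F450492)
theorem F510017 : act 6 n221635 = n208701 := d10_2 D208702 F510015 (iv4 D208701)
theorem F510018 : act 7 n221635 = n199121 := d11_2 F450495 F510015 F410760
def n221636 : Q := act 1 n196892
theorem D221636 : act 1 n196892 = n221636 := rfl
theorem F510019 : act 1 n221636 = n216906 := d15_1 D221636 F509988 F509982
theorem F510020 : act 7 n221636 = n208710 := d15_2 (iv0 D221635) D221636 (iv2 F510016)
theorem F510021 : act 5 n221636 = n199113 := d17_7 F473696 F473694 F457996 (iv5 D202540) F180536 D196892 D221636 F509071 F509067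
theorem F510022 : act 2 n199121 = n221636 := d2_3 F510021 F410727 D199121
theorem F510023 : act 3 n220839 = n221636 := d6_3 F510021 F410728 (iv5 F505823)
theorem F510024 : act 4 n199029 = n221636 := d9_15 F510021 (iv4 F411561) F411562 F423619 (iv5 D202317) (iv4 F423613) (iv5 F450494) F510015 F510013 F410762 (iv5 F382930) F422388 (iv5 D201924) F179523 D199029
def n221637 : Q := act 4 n196892
theorem D221637 : act 4 n196892 = n221637 := rfl
theorem F510025 : act 2 n221637 = n216909 := d1_1 D221637 (iv4 F509987) F509982
theorem F510026 : act 3 n221637 = n219604 := d5_1 D221637 F499644 F441865 (iv4 D196898) (iv3 F402186)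
theorem F510027 : act 6 n221637 = n212103 := d10_2 (iv6 F402187) D221637 (iv4 D212103)
theorem F510028 : act 7 n221637 = n216900 := d11_2 F509078 D221637 (iv4 F509076)
theorem F510029 : act 1 n221637 = n216907 := d18_8 F500803 F500804 (iv1 F422393) (iv4 F423613) (iv5 F450494) F510015 (iv0 D221635) D221637 F486496
theorem F510030 : act 0 n221637 = n216908 := d20_7 (iv4 F443976) (iv1 F431565) (iv4 F409220) F409219 F201827 (iv3 F402186) D221637 F486498 F432821 D204538
def n221638 : Q := act 4 n196895
theorem D221638 : act 4 n196895 = n221638 := rfl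
theorem F510031 : act 2 n221638 = n212105 := d1_1 D221638 (iv4 D212105) (iv2 F402194)
theorem F510032 : act 5 n221638 = n206090 := d9_2 D196895 D221638 (iv4 D206090) (iv5 F204685) F176600 F82733 (iv4 F165719) D196897 (iv4 F446137) (iv5 F446138) (iv4 D206088) (iv5 F414489) F414487 F174359 (iv4 F165710)
theorem F510033 : act 7 n221638 = n212106 := d11_2 (iv7 F402196) D221638 (iv4 D212106)
theorem F510034 : act 0 n221638 = n221455 := d18_2 (iv1 F402198) D221638 (iv4 D221455) (iv5 D196439) (iv4 D106983) (iv0 D49425) (iv4 F78158) D106979 D196434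
theorem F510035 : act 1 n221638 = n201638 := d18_6 F104294 F50033 D51997 (iv4 F165710) D196895 D221638 F421203 F375142 (iv5 D145326)
theorem F510036 : act 3 n221638 = n219470 := d19_3 D107430 D196895 D221638 F499040 (iv5 F499070) F499071 (iv3 F486149) (iv1 D216838) D216839 F486152 F384733 F307365 (iv5 D154584) (iv4 F308729) D184979 F457996 (iv5 D202540) F180536 F165709
def n221639 : Q := act 5 n196901
theorem D221639 : act 5 n196901 = n221639 := rfl
theorem F510037 : act 2 n221639 = n199230 := d2_1 D221639 (iv5 D199230) (iv2 F402220)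
theorem F510038 : act 3 n221639 = n213442 := d6_1 D221639 (iv5 D213442) (iv3 F402221)
theorem F510039 : act 6 n221639 = n199216 := d12_2 D196901 D221639 (iv5 D199216) (iv6 D111078) (iv5 F180609)
theorem F510040 : act 7 n221639 = n213439 := d13_2 F402222 D221639 (iv5 D213439)
theorem F510041 : act 4 n221639 = n218032 := d16_6 (iv4 F503702) F503704 (iv4 F504239) (iv5 D220535) (iv4 F402225) D221639 (iv5 F491792) (iv7 F502228) F502231
theorem F510042 : act 1 n221639 = n205499 := d17_6 F467861 (iv5 F504775) F504776 (iv5 D220535) (iv4 F402225) D221639 F436717 F435079 (iv4 F467858)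
theorem F510043 : act 0 n221639 = n213440 := d18_0 F470410 F454616 F404588 D217720 (iv4 F490311) (iv0 F389477) F385262 (iv0 F402224) D221639
def n221640 : Q := act 5 n196904
theorem D221640 : act 5 n196904 = n221640 := rfl
theorem F510044 : act 2 n221640 = n196907 := d2_1 D221640 (iv5 D196907) (iv2 F402238)
theorem F510045 : act 3 n221640 = n212069 := d6_1 D221640 (iv5 D212069) (iv3 F402239)
theorem F510046 : act 6 n221640 = n212069 := d12_2 D196904 D221640 (iv5 D212069) (iv6 D145297) (iv5 F165747)
theorem F510047 : act 4 n221640 = n219223 := d19_2 F476908 D221640 F497796 (iv1 F463779) (iv5 F425930) F425929 F322273 F104975 (iv5 D68785) F310816 F87144 F317983 (iv5 F317987) (iv4 F186977) F186976 (iv1 F301152) F301154 (iv4 F303391) D214798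
theorem F510048 : act 0 n211815 = n221640 := d21_10 (iv5 D221640) F463465 (iv5 F496213) F496214 (iv1 F478463) (iv6 D214678) (iv5 D160584) (iv1 F253652) D214668 F476308
theorem F510049 : act 1 n218825 = n221640 := d15_0 (iv0 F510048) (iv7 F479500) (iv2 F495807)
theorem F510050 : act 7 n219624 = n221640 := d14_0 F510046 (iv7 F495679) F495678 F486491 D219624
def n221641 : Q := act 7 n196904
theorem D221641 : act 7 n196904 = n221641 := rfl
theorem F510051 : act 2 n221641 = n196908 := d4_1 D221641 (iv7 D196908) (iv2 F402238)
theorem F510052 : act 3 n221641 = n212070 := d8_1 D221641 (iv7 D212070) (iv3 F402239)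
theorem F510053 : act 4 n221641 = n220223 := d11_1 D221641 F502729 F452723
theorem F510054 : act 5 n221641 = n219624 := d13_1 D221641 F510050 (iv5 D221640)
theorem F510055 : act 6 n221641 = n212094 := d14_1 D221641 (iv7 D212094) (iv6 D145313) (iv7 F165748) D196904
theorem F510056 : act 1 n196906 = n221641 := d15_1 D196906 (iv7 D221641) F402238
theorem F510057 : act 1 n221641 = n196905 := d15_1 F510056 (iv7 F476907) F476905
def n221642 : Q := act 4 n196905
theorem D221642 : act 4 n196905 = n221642 := rfl
theorem F510058 : act 2 n221642 = n209692 := d1_1 D221642 (iv4 F463463) F463461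
theorem F510059 : act 3 n221642 = n215618 := d5_1 D221642 F480779 (iv3 F353797) (iv4 F273402) (iv3 F402240)
theorem F510060 : act 6 n221642 = n206534 := d10_2 F402241 D221642 (iv4 D206534)
theorem F510061 : act 7 n221642 = n215616 := d11_2 F476907 D221642 F480777
theorem F510062 : act 0 n220529 = n221642 := d20_10 (iv4 D221642) (iv1 F510057) F510053 (iv3 F502731) (iv1 F453601) D209752 (iv4 F470022) F509473 F509470 (iv3 F504211)
theorem F510063 : act 1 n217293 = n221642 := d15_1 (iv0 F488312) F510061 F480775
def n221643 : Q := act 5 n196905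
theorem D221643 : act 5 n196905 = n221643 := rfl
theorem F510064 : act 2 n221643 = n218923 := d2_1 D221643 F496213 F463461
theorem F510065 : act 3 n221643 = n215433 := d6_1 D221643 (iv5 D215433) (iv3 F402240)
theorem F510066 : act 0 n221440 = n221643 := d21_10 (iv5 D221643) (iv1 F510057) F510054 (iv6 D219624) D219623 (iv6 F499733) (iv5 D209735) (iv1 F453982) F453979 (iv6 F509037)
def n221644 : Q := act 7 n196907
theorem D221644 : act 7 n196907 = n221644 := rfl
theorem F510067 : act 2 n221644 = n219624 := d4_1 D221644 F510050 F510044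
theorem F510068 : act 3 n221644 = n196913 := d8_1 D221644 (iv7 D196913) (iv3 F402242)
theorem F510069 : act 4 n221644 = n216938 := d11_1 D221644 (iv7 F495676) F495674
theorem F510070 : act 5 n221644 = n196908 := d13_1 D221644 (iv7 D196908) D196907
theorem F510071 : act 6 n221644 = n216937 := d14_1 D221644 (iv7 F494986) F494985 (iv7 D212079) (iv6 F402243)
theorem F510072 : act 1 n211815 = n221644 := d15_1 (iv0 F510048) (iv7 D221644) (iv2 F510044)
theorem F510073 : act 1 n221644 = n218825 := d15_1 F510072 (iv7 F497398) F497395
def n221645 : Q := act 6 n196910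
theorem D221645 : act 6 n196910 = n221645 := rfl
theorem F510074 : act 2 n221645 = n211395 := d3_1 D221645 (iv6 F461396) (iv2 F402252)
theorem F510075 : act 3 n221645 = n211331 := d7_1 D221645 (iv6 F498067) (iv3 F498072)
theorem F510076 : act 5 n221645 = n214090 := d12_1 D221645 F473431 F400622 F165757 D196910
theorem F510077 : act 7 n221645 = n211421 := d14_2 (iv7 F402253) D221645 F461477 (iv7 F435105) F435104
theorem F510078 : act 0 n221442 = n221645 := d21_4 (iv5 F400065) (iv1 F411347) F411352 D221442 (iv6 D221645) (iv5 D196910) (iv1 D107442) D107443 F165759 D145307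
def n221646 : Q := act 3 n196912
theorem D221646 : act 3 n196912 = n221646 := rfl
theorem F510079 : act 5 n221646 = n205766 := d6_2 F445448 D221646 (iv3 F445446)
theorem F510080 : act 6 n221646 = n212088 := d7_2 (iv6 F402261) D221646 (iv3 D212088)
def n221647 : Q := act 6 n196913
theorem D221647 : act 6 n196913 = n221647 := rfl
theorem F510081 : act 2 n221647 = n212091 := d3_1 D221647 (iv6 D212091) (iv2 F402262)
theorem F510082 : act 3 n221647 = n216937 := d7_1 D221647 (iv6 F510071) F510068
theorem F510083 : act 5 n221647 = n212110 := d12_1 D221647 (iv6 D212110) F228361 (iv6 F165762) (iv5 F402263)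
theorem F510084 : act 7 n221647 = n212091 := d14_2 D196913 D221647 (iv6 D212091) (iv7 D145310) (iv6 F165759)
def n221648 : Q := act 6 n196918
theorem D221648 : act 6 n196918 = n221648 := rfl
theorem F510085 : act 2 n221648 = n196919 := d3_1 D221648 (iv6 D196919) D196918
theorem F510086 : act 3 n221648 = n202133 := d7_1 D221648 (iv6 D202133) (iv3 F402283)
theorem F510087 : act 0 n221648 = n212114 := d21_4 (iv5 F220038) (iv1 F410835) F410833 D221648 F464370 F457068 F430266 F338230 F361558 F171804
theorem F510088 : act 5 n221648 = n215464 := d21_6 F460337 F342399 D210946 F459415 (iv1 F402285) D221648 (iv1 D215464) (iv5 D174586) (iv6 F273381) F460339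
theorem F510089 : act 7 n220876 = n221648 := d13_0 F510088 F480110 D220876
theorem F510090 : act 0 n219255 = n221648 := d17_0 F510088 (iv1 D215464) (iv5 D174586) (iv4 F273333) D215413 (iv0 F479870) (iv5 D210645) D210644 (iv4 F497961)
def n221649 : Q := act 7 n196919
theorem D221649 : act 7 n196919 = n221649 := rfl
theorem F510091 : act 2 n221649 = n220876 := d4_1 D221649 F510089 F510085
theorem F510092 : act 3 n221649 = n196922 := d8_1 D221649 (iv7 D196922) (iv3 F402287)
theorem F510093 : act 4 n221649 = n214128 := d11_1 D221649 F473608 F424547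
theorem F510094 : act 5 n221649 = n215463 := d13_1 D221649 (iv7 F495688) F495683
theorem F510095 : act 6 n221649 = n212143 := d14_1 D221649 (iv7 D212143) (iv6 D145368) (iv7 F180682) D196919
theorem F510096 : act 1 n219255 = n221649 := d15_1 (iv0 F510090) (iv7 D221649) (iv2 F510085)
theorem F510097 : act 1 n221649 = n212114 := d15_1 F510096 F464371 (iv2 F497960)
def n221650 : Q := act 6 n196925
theorem D221650 : act 6 n196925 = n221650 := rfl
theorem F510098 : act 2 n221650 = n203976 := d3_1 D221650 F430674 (iv2 F402316)
theorem F510099 : act 3 n221650 = n215243 := d7_1 D221650 (iv6 F499945) F499944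
theorem F510100 : act 4 n221650 = n206252 := d10_1 D221650 (iv6 D206252) (iv4 F402317)
theorem F510101 : act 5 n221650 = n203975 := d12_1 D221650 (iv6 F462650) F462646 F330109 D196925
theorem F510102 : act 7 n221650 = n215249 := d14_2 (iv7 F402318) D221650 F479041 F420140 (iv6 F363661)
theorem F510103 : act 0 n221650 = n215251 := d21_4 F237667 (iv1 F322059) D196925 D221650 F479109 (iv5 F497653) (iv1 F497656) F477548 (iv6 D206352) F237669
theorem F510104 : act 0 n215250 = n221650 := d21_4 D198112 (iv1 F406874) D213421 (iv6 F479045) (iv6 D221650) (iv5 D196925) (iv1 D107456) D107457 F165771 (iv1 F402321)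
def n221651 : Q := act 5 n196927
theorem D221651 : act 5 n196927 = n221651 := rfl
theorem F510105 : act 6 n221651 = n205103 := d12_2 D196927 D221651 F434987 (iv6 D144302) (iv5 F165775)
theorem F510106 : act 0 n221651 = n211959 := d17_2 (iv1 F506601) D221651 (iv5 F473895) (iv4 F475231) F475232 (iv0 F418648) F176999 F395874 (iv4 F506599)
def n221652 : Q := act 3 n196932
theorem D221652 : act 3 n196932 = n221652 := rfl
theorem F510107 : act 2 n221652 = n218493 := d0_1 D221652 F494152 F377660 F376737 F402348
theorem F510108 : act 4 n221652 = n218492 := d5_2 (iv4 F402347) D221652 F494150 (iv4 D189488) (iv3 F376675)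
theorem F510109 : act 7 n221652 = n208196 := d8_2 F402349 D221652 (iv3 D208196)
theorem F510110 : act 0 n221652 = n218712 := d20_4 F170572 D110335 (iv4 F402347) D221652 F495274 (iv4 F495297) (iv1 F495299) F474562 F463022 (iv1 D198822)
theorem F510111 : act 5 n214888 = n221652 := d13_3 F510109 (iv5 F497740) (iv7 F497742)
def n221653 : Q := act 5 n196932
theorem D221653 : act 5 n196932 = n221653 := rfl
theorem F510112 : act 2 n221653 = n208193 := d2_1 D221653 (iv5 D208193) F402348
theorem F510113 : act 3 n221653 = n214888 := d6_1 D221653 F510111 (iv3 D221652)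
theorem F510114 : act 6 n221653 = n217444 := d12_2 F463911 D221653 F488906 F488879 (iv5 F473972)
theorem F510115 : act 7 n221653 = n208197 := d13_2 F402349 D221653 (iv5 D208197)
theorem F510116 : act 4 n221653 = n200780 := d16_2 (iv4 F402347) D221653 (iv5 D200780) F176642 D113463 F358220 F171481 (iv7 F171483) F171485
theorem F510117 : act 0 n221653 = n218723 := d17_2 D196932 D221653 (iv5 D218723) F378382 (iv5 F147656) F379819 F379816 (iv0 D107479) (iv4 F165811)
theorem F510118 : act 1 n221653 = n214863 := d17_6 (iv1 F508571) (iv5 D221356) F402840 F402839 (iv4 F402347) D221653 (iv5 F489232) (iv0 F489234) F486550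
def n221654 : Q := act 5 n196933
theorem D221654 : act 5 n196933 = n221654 := rfl
theorem F510119 : act 2 n221654 = n208197 := d2_1 D221654 (iv5 D208197) F402354
theorem F510120 : act 3 n221654 = n211855 := d6_1 D221654 (iv5 D211855) F402352
theorem F510121 : act 6 n221654 = n211854 := d12_2 F402353 D221654 (iv5 D211854) (iv6 D144171) D144170
theorem F510122 : act 7 n221654 = n208193 := d13_2 (iv7 F402350) D221654 (iv5 D208193)
theorem F510123 : act 0 n221654 = n214863 := d17_2 (iv1 F404480) D221654 (iv5 F489232) F489231 (iv5 D190466) F359040 F165812 F176052 (iv4 F404478)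
theorem F510124 : act 1 n221654 = n218723 := d17_6 F420344 F420343 (iv1 D198973) F171481 (iv4 F402351) D221654 (iv5 D218723) D218722 (iv4 F495318)
def n221655 : Q := act 0 n196934
theorem D221655 : act 0 n196934 = n221655 := rfl
theorem F510125 : act 5 n221655 = n218977 := d17_1 D221655 (iv1 D218977) D218978 F496495 (iv5 D214862) F430145 (iv5 F476477) (iv0 D214710) (iv4 F402358)
theorem F510126 : act 4 n221655 = n214210 := d18_1 D221655 (iv1 F488665) F488661 F448293 F215067 F170576 (iv4 F402347) (iv0 D196932) D196934
theorem F510127 : act 6 n221655 = n214209 := d21_5 (iv5 D200222) (iv1 D112856) D112857 (iv6 F402356) D221655 F474005 (iv1 F394553) (iv5 F462978) (iv6 D211757) (iv1 F415591)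
theorem F510128 : act 2 n217395 = n221655 := d15_3 (iv0 D221655) (iv0 F477956) (iv7 F488717)
theorem F510129 : act 1 n217391 = n221655 := d15_0 (iv0 D221655) F402357 (iv2 F488696)
theorem F510130 : act 7 n221655 = n217394 := d15_2 (iv0 F488700) F510129 (iv2 F488715)
def n221656 : Q := act 1 n196947
theorem D221656 : act 1 n196947 = n221656 := rfl
theorem F510131 : act 7 n221656 = n203897 := d15_2 (iv0 F476897) D221656 (iv2 F476893)
theorem F510132 : act 5 n221656 = n203898 := d17_7 F459971 (iv5 D211065) (iv1 F363338) (iv5 F407589) (iv4 F461536) (iv5 F461537) D221656 F461411 F461410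
theorem F510133 : act 4 n221656 = n221550 := d17_9 (iv1 D221550) F508971 F508969 (iv5 F479406) F479405 (iv5 F348947) D211438 (iv5 F461537) D221656
theorem F510134 : act 3 n219255 = n221656 := d19_19 (iv1 D221656) F461537 F461536 (iv3 F501737) F501740 (iv5 D217816) F372044 (iv3 F362785) (iv1 D139477) D139478 D210659 F458364 (iv1 F482631) F482628 (iv4 D211241) (iv3 F460760) F460764 F458317 (iv4 F497961)
theorem F510135 : act 6 n198131 = n221656 := d21_3 (iv5 D208577) D208576 F449966 (iv1 D221656) (iv6 D196947) (iv5 F166891) (iv1 F387844) F228395 D195930 F449976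
theorem F510136 : act 2 n221656 = n212116 := d3_1 F510135 (iv6 F508961) F508958
def n221657 : Q := act 7 n196947
theorem D221657 : act 7 n196947 = n221657 := rfl
theorem F510137 : act 3 n221657 = n196954 := d8_1 D221657 (iv7 D196954) (iv3 F402424)
theorem F510138 : act 4 n221657 = n221585 := d11_1 D221657 F509720 F407854
theorem F510139 : act 5 n221657 = n198319 := d13_1 D221657 (iv7 F461535) (iv5 F461537)
theorem F510140 : act 1 n212116 = n221657 := d15_1 (iv0 F509479) (iv7 D221657) (iv2 F509475)
theorem F510141 : act 1 n221657 = n203897 := d15_1 F510140 (iv7 F510131) F510136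
def n221658 : Q := act 6 n196948
theorem D221658 : act 6 n196948 = n221658 := rfl
theorem F510142 : act 2 n221658 = n219724 := d3_1 D221658 F500274 F452671
theorem F510143 : act 3 n221658 = n196950 := d7_1 D221658 (iv6 D196950) D196948
theorem F510144 : act 4 n221658 = n221138 := d10_1 D221658 F507397 F404262
theorem F510145 : act 7 n221658 = n220442 := d14_2 F410799 D221658 F503803 F455321 F440651
theorem F510146 : act 0 n221658 = n211777 := d21_4 D198467 F497008 F497007 D221658 F463055 (iv5 F415846) (iv1 F447988) F447984 F415628 F391908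
theorem F510147 : act 0 n211977 = n221658 := d21_4 (iv5 F368504) F414379 F414380 (iv6 F463810) (iv6 D221658) (iv5 F497007) (iv1 F497009) F425545 F414209 (iv1 D193935)
def n221659 : Q := act 5 n196950
theorem D221659 : act 5 n196950 = n221659 := rfl
theorem F510148 : act 2 n221659 = n219210 := d2_1 D221659 F497743 (iv2 F402431)
theorem F510149 : act 6 n221659 = n218992 := d12_2 D196950 D221659 (iv5 D218992) F402430 (iv5 D196949)
theorem F510150 : act 7 n221659 = n218870 := d16_8 (iv4 F497951) F497952 (iv4 F484813) F484814 F402434 (iv5 D196953) (iv4 F402432) D221659 (iv2 F497681)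
theorem F510151 : act 0 n221659 = n215496 := d17_2 F495580 D221659 F480226 (iv4 F480439) (iv5 F480446) (iv0 F496018) F496015 (iv0 F464701) (iv4 F495578)
def n221660 : Q := act 7 n196950
theorem D221660 : act 7 n196950 = n221660 := rfl
theorem F510152 : act 2 n221660 = n219725 := d4_1 D221660 F500278 (iv2 F402431)
theorem F510153 : act 3 n221660 = n220442 := d8_1 D221660 (iv7 F510145) F510143
theorem F510154 : act 4 n221660 = n196954 := d11_1 D221660 (iv7 D196954) (iv4 F402432)
theorem F510155 : act 5 n221660 = n218870 := d13_1 D221660 (iv7 F510150) (iv5 D221659)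
theorem F510156 : act 6 n221660 = n220923 := d14_1 D221660 F506290 (iv6 D199131) F180729 D196950
theorem F510157 : act 1 n216526 = n221660 := d15_1 (iv0 F484815) (iv7 D221660) F402431
theorem F510158 : act 1 n221660 = n219160 := d15_1 F510157 F497493 F495576
def n221661 : Q := act 6 n196955
theorem D221661 : act 6 n196955 = n221661 := rfl
theorem F510159 : act 2 n221661 = n196957 := d3_1 D221661 (iv6 D196957) D196955
theorem F510160 : act 3 n221661 = n221612 := d7_1 D221661 (iv6 D221612) (iv3 F402438)
theorem F510161 : act 0 n221661 = n212129 := d21_4 (iv5 F222653) (iv1 F228410) (iv5 F402439) D221661 (iv6 F464432) F389169 (iv1 F433695) F433701 (iv6 D196768) (iv1 F220493)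
def n221662 : Q := act 6 n196956
theorem D221662 : act 6 n196956 = n221662 := rfl
theorem F510162 : act 3 n221662 = n217931 := d7_1 D221662 F491312 F452665
theorem F510163 : act 4 n221662 = n196957 := d10_1 D221662 (iv6 D196957) D196956
theorem F510164 : act 5 n221662 = n217930 := d12_1 D221662 (iv6 D217930) (iv5 F451508) F451506 F402443
theorem F510165 : act 0 n221662 = n208938 := d21_4 D199240 F411282 F402443 D221662 F451479 (iv5 D135424) D135422 F371284 (iv6 D137782) F219212
def n221663 : Q := act 5 n196957
theorem D221663 : act 5 n196957 = n221663 := rfl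
theorem F510166 : act 3 n221663 = n196962 := d6_1 D221663 (iv5 D196962) (iv3 F402444)
theorem F510167 : act 6 n221663 = n212142 := d12_2 D196957 D221663 (iv5 D212142) (iv6 D145368) (iv5 F166901)
theorem F510168 : act 0 n221663 = n219626 := d17_2 (iv1 F464431) D221663 (iv5 F504382) (iv4 F504383) F505365 (iv0 D209729) (iv5 D136861) D136860 D209728
theorem F510169 : act 1 n221663 = n219625 := d17_6 (iv1 F504372) D220570 F504408 (iv5 F510164) F510163 D221663 F499741 D221473 (iv4 F509193)
theorem F510170 : act 4 n218602 = n221663 := d18_5 D193908 D220567 F504390 (iv4 F452482) F494704 F510169 (iv4 D219625) (iv0 D191859) (iv5 F157420)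
def n221664 : Q := act 7 n196957
theorem D221664 : act 7 n196957 = n221664 := rfl
theorem F510171 : act 3 n221664 = n196963 := d8_1 D221664 (iv7 D196963) (iv3 F402444)
def n221665 : Q := act 4 n196962
theorem D221665 : act 4 n196962 = n221665 := rfl
theorem F510172 : act 2 n221665 = n214088 := d1_1 D221665 F473424 F410819
theorem F510173 : act 6 n221665 = n212145 := d10_2 (iv6 F402457) D221665 (iv4 D212145)
theorem F510174 : act 5 n221665 = n218939 := d16_1 D221665 F496286 (iv5 F488988) F488990 D220923 F506292 (iv5 F505664) F505666 F410819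
theorem F510175 : act 0 n221665 = n214086 := d18_2 F410676 D221665 F505401 (iv5 D220765) F393377 (iv0 F391375) F393743 (iv0 F410675) F410673
theorem F510176 : act 1 n221665 = n214089 := d18_6 F471730 (iv4 F488928) F488929 F402451 D196962 D221665 (iv4 F505822) (iv0 F505825) (iv5 F464735)
theorem F510177 : act 7 n214087 = n221665 := d13_0 F510174 F496285 (iv5 F496224)
def n221666 : Q := act 7 n196962
theorem D221666 : act 7 n196962 = n221666 := rfl
theorem F510178 : act 2 n221666 = n220813 := d4_1 D221666 F505666 F410819
theorem F510179 : act 4 n221666 = n214087 := d11_1 D221666 F510177 (iv4 D221665)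
theorem F510180 : act 5 n221666 = n196963 := d13_1 D221666 (iv7 D196963) D196962
theorem F510181 : act 6 n221666 = n206274 := d14_1 D221666 F506039 (iv6 F506037) (iv7 D212146) (iv6 F402457)
theorem F510182 : act 1 n199104 = n221666 := d15_1 F410821 (iv7 D221666) (iv2 F410819)
theorem F510183 : act 1 n221666 = n213429 := d15_1 F510182 F470359 (iv2 F410683)
def n221667 : Q := act 3 n196964
theorem D221667 : act 3 n196964 = n221667 := rfl
theorem F510184 : act 2 n221667 = n211098 := d0_1 D221667 (iv3 D211098) (iv2 F402469) (iv3 D196968) (iv2 F402478)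
theorem F510185 : act 6 n221667 = n214854 := d7_2 F482289 D221667 (iv3 F482284)
theorem F510186 : act 7 n221667 = n196972 := d8_2 (iv7 F402479) D221667 (iv3 D196972)
theorem F510187 : act 0 n212124 = n221667 := d20_4 (iv4 D211059) F459797 F459796 (iv3 F464400) (iv3 D221667) (iv4 F455361) (iv1 F455363) F373255 F386616 (iv1 F459937)
theorem F510188 : act 5 n221667 = n214853 := d17_3 F396899 (iv5 F464403) F510187 (iv4 F507348) F507349 F507264 (iv5 D221109) (iv0 D195395) (iv4 F396897)
def n221668 : Q := act 5 n196964
theorem D221668 : act 5 n196964 = n221668 := rfl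
theorem F510189 : act 2 n221668 = n196970 := d2_1 D221668 (iv5 D196970) (iv2 F402478)
theorem F510190 : act 3 n221668 = n214853 := d6_1 D221668 (iv5 F510188) (iv3 D221667)
theorem F510191 : act 4 n221668 = n213537 := d9_1 D221668 (iv5 D213537) (iv4 F470907) F470908 F433785 D214824 F477011 (iv5 F461540) F497718 F497716 F460496 (iv5 F466216) F466215 (iv5 F455358) F455361
theorem F510192 : act 6 n221668 = n211449 := d12_2 F482289 D221668 F461575 (iv6 F366771) D215959
theorem F510193 : act 7 n221668 = n196974 := d13_2 (iv7 F402479) D221668 (iv5 D196974)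
theorem F510194 : act 0 n221668 = n212153 := d17_2 D196964 D221668 F464516 (iv4 F505517) F505516 (iv0 F430082) F430081 F393333 F359488
theorem F510195 : act 1 n221668 = n217453 := d17_8 F381528 D193199 F410350 F410348 (iv4 F402505) F402506 F402459 D221668 F488949
def n221669 : Q := act 0 n196970
theorem D221669 : act 0 n196970 = n221669 := rfl
theorem F510196 : act 5 n221669 = n221601 := d17_1 D221669 F509804 F505828 (iv4 F455699) F455700 F394167 (iv5 F497723) F497726 F402486
theorem F510197 : act 4 n221669 = n219204 := d18_1 D221669 (iv1 F497712) (iv4 F502807) F502808 (iv4 D194588) (iv0 D103821) (iv4 F159242) F359501 D196970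
theorem F510198 : act 3 n221669 = n212150 := d20_5 (iv4 F224999) F225001 (iv4 F400535) (iv3 F402483) D221669 F464501 (iv1 F350109) F350123 F350124 F223494
theorem F510199 : act 2 n212153 = n221669 := d15_3 (iv0 D221669) (iv0 F402485) (iv7 F464517)
theorem F510200 : act 1 n196974 = n221669 := d15_0 (iv0 D221669) (iv7 F461541) (iv2 F461542)
theorem F510201 : act 7 n221669 = n217453 := d15_2 (iv0 F445468) F510200 F488947
theorem F510202 : act 6 n214139 = n221669 := d14_5 F510201 (iv6 D217453) F369854 D193230 (iv7 F473665)
def n221670 : Q := act 2 n196972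
theorem D221670 : act 2 n196972 = n221670 := rfl
theorem F510203 : act 3 n221670 = n198158 := d0_2 D196972 D221670 (iv2 F407027) (iv3 F402461) (iv2 F402477)
theorem F510204 : act 6 n221670 = n220269 := d3_2 F410607 D221670 F502959
theorem F510205 : act 7 n221670 = n211098 := d4_2 F510186 D221670 (iv2 F510184)
theorem F510206 : act 1 n212124 = n221670 := d15_1 (iv0 F510187) F510205 (iv2 F510184)
def n221671 : Q := act 5 n196986
theorem D221671 : act 5 n196986 = n221671 := rfl
theorem F510207 : act 2 n221671 = n204958 := d2_1 D221671 F434346 F402566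
theorem F510208 : act 3 n221671 = n211058 := d6_1 D221671 F459931 (iv3 F402564)
theorem F510209 : act 4 n221671 = n197294 := d9_1 D221671 (iv5 F507464) (iv4 F507461) F455254 F431074 D219933 F501255 (iv5 F402236) D211056 (iv5 F459925) F404316 D202423 (iv4 F423942) F390049 (iv4 F402565)
theorem F510210 : act 6 n221671 = n197293 := d12_2 (iv6 F402568) D221671 F403870 (iv6 F470407) (iv5 D213439)
theorem F510211 : act 7 n221671 = n199211 := d13_2 (iv7 F402569) D221671 (iv5 D199211)
theorem F510212 : act 0 n221671 = n211021 := d18_0 (iv4 F503236) F503238 F500947 (iv5 F464403) F464401 (iv0 F452720) (iv4 F228455) F402567 D221671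
theorem F510213 : act 0 n200127 = n221671 := d19_0 (iv5 D221671) F402565 (iv3 D193428) (iv1 F389804) D220338 F503269 (iv3 F440524) F440528 F393823 (iv4 F505387) (iv3 F505388) (iv1 F455677) F455676 (iv4 F474417) F474418 F437065 F402531 F402526 D200127
def n221672 : Q := act 5 n196987
theorem D221672 : act 5 n196987 = n221672 := rfl
theorem F510214 : act 2 n221672 = n196988 := d2_1 D221672 (iv5 D196988) D196987
theorem F510215 : act 3 n221672 = n212165 := d6_1 D221672 (iv5 D212165) (iv3 F402571)
theorem F510216 : act 4 n221672 = n220332 := d9_1 D221672 F503246 F403782 D209884 F455249 (iv5 D137218) (iv4 F104330) D145433 D212175 F464621 F423224 (iv5 F336251) (iv4 F411808) (iv5 F452900) F452899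
theorem F510217 : act 7 n221672 = n212172 := d13_2 (iv7 F402572) D221672 (iv5 D212172)
theorem F510218 : act 1 n221672 = n212173 := d17_8 F507350 F507349 F423080 (iv5 F397219) (iv4 F434345) F434346 F402574 D221672 (iv4 F464616)
theorem F510219 : act 0 n221672 = n212174 := d21_1 D221672 (iv5 F464620) (iv6 D199251) (iv1 D111110) (iv6 D51241) (iv5 D24920) D24917 D51229 D111072 (iv1 F402573)
def n221673 : Q := act 6 n196987
theorem D221673 : act 6 n196987 = n221673 := rfl
theorem F510220 : act 2 n221673 = n196989 := d3_1 D221673 (iv6 D196989) D196987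
theorem F510221 : act 3 n221673 = n209970 := d7_1 D221673 F455581 (iv3 F402571)
theorem F510222 : act 4 n221673 = n211619 := d10_1 D221673 F462405 F452899
theorem F510223 : act 7 n221673 = n206533 := d14_2 (iv7 F402572) D221673 F441210 (iv7 F227048) (iv6 F228456)
theorem F510224 : act 0 n221673 = n206532 := d21_10 F456401 F456395 (iv5 D206036) D206037 F438951 (iv6 F479492) F479491 (iv1 F510218) (iv5 D221672) D221673
theorem F510225 : act 0 n206531 = n221673 := d21_4 F333001 D173983 D215372 F479635 (iv6 D221673) D221672 F510219 (iv5 F464620) (iv6 D199251) (iv1 D111110)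
def n221674 : Q := act 1 n196989
theorem D221674 : act 1 n196989 = n221674 := rfl
theorem F510226 : act 1 n221674 = n206533 := d15_1 D221674 (iv7 F510223) F510220
theorem F510227 : act 7 n221674 = n206532 := d15_2 F472145 D221674 (iv2 F472141)
theorem F510228 : act 5 n221674 = n215919 := d17_7 (iv1 F438644) F428757 F409823 D214890 (iv4 F508209) F508210 D221674 (iv0 F482098) F472139
theorem F510229 : act 4 n221674 = n212489 := d18_7 (iv1 F456560) F456556 (iv1 D147137) (iv4 F120260) D164575 (iv4 F402578) D221674 (iv0 F504690) (iv5 D220625)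
theorem F510230 : act 3 n212212 = n221674 := d19_19 (iv1 D221674) (iv5 F508210) F508209 F477296 F361263 (iv5 F322507) (iv4 F174580) (iv3 D112241) (iv1 D51771) D51773 D112245 D200012 (iv1 F469748) (iv5 D213289) (iv4 F397463) F397462 (iv1 F243365) F330083 (iv4 F464767)
theorem F510231 : act 6 n213460 = n221674 := d21_9 (iv5 F508210) F508213 (iv5 D198942) (iv6 D110742) (iv1 F80828) D111101 F351814 F353090 (iv5 F470501) (iv1 D221674)
theorem F510232 : act 2 n221674 = n206531 := d3_1 F510231 (iv6 F479635) F479632
def n221675 : Q := act 3 n196991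
theorem D221675 : act 3 n196991 = n221675 := rfl
theorem F510233 : act 5 n221675 = n205313 := d6_2 (iv5 F402585) D221675 (iv3 D205313)
theorem F510234 : act 6 n221675 = n200448 := d7_2 (iv6 F416483) D221675 F416485
theorem F510235 : act 7 n221675 = n212177 := d8_2 (iv7 F402584) D221675 (iv3 D212177)
theorem F510236 : act 0 n221675 = n214350 := d19_4 (iv1 F83907) D107513 D196991 D221675 (iv5 D214350) F298038 F253446 F120874 D84576 (iv4 F341299) (iv3 F176836) (iv1 F176840) (iv5 F410365) F410364 (iv3 F461441) (iv1 D202162) (iv5 D115410) F84089 F82138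
theorem F510237 : act 0 n206053 = n221675 := d20_4 (iv4 D113364) F165153 (iv4 F204366) (iv3 F439021) (iv3 D221675) (iv4 D196991) (iv1 F402159) (iv4 F464540) (iv3 F464542) F409786
def n221676 : Q := act 3 n197000
theorem D221676 : act 3 n197000 = n221676 := rfl
theorem F510238 : act 5 n221676 = n200127 := d6_2 (iv5 F402629) D221676 (iv3 D200127)
theorem F510239 : act 6 n221676 = n197153 := d7_2 (iv6 F402627) D221676 (iv3 D197153)
theorem F510240 : act 7 n221676 = n212183 := d8_2 (iv7 F402628) D221676 (iv3 D212183)
theorem F510241 : act 0 n221676 = n215344 := d19_4 D49669 D107521 D197000 D221676 F479491 (iv4 F464616) (iv3 D210943) D210941 F459389 F454556 F412416 (iv1 F402036) (iv5 F406810) (iv4 F406807) F202970 (iv1 F202037) (iv5 D125594) F92972 F45216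
theorem F510242 : act 0 n199251 = n221676 := d20_4 F350102 F350103 F440004 (iv3 F440006) (iv3 D221676) (iv4 D197000) F165889 D126345 D205577 (iv1 F437070)
def n221677 : Q := act 6 n197004
theorem D221677 : act 6 n197004 = n221677 := rfl
theorem F510243 : act 2 n221677 = n212188 := d3_1 D221677 (iv6 D212188) (iv2 F402650)
theorem F510244 : act 3 n221677 = n198409 := d7_1 D221677 (iv6 D198409) (iv3 F402651)
theorem F510245 : act 4 n221677 = n197005 := d10_1 D221677 (iv6 D197005) D197004
theorem F510246 : act 5 n221677 = n199155 := d12_1 D221677 (iv6 F413666) (iv5 F404371) F404367 (iv5 F402652)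
theorem F510247 : act 7 n221677 = n220931 := d14_2 (iv7 F402655) D221677 (iv6 D220931) F395135 F349715
theorem F510248 : act 0 n221677 = n206523 := d21_10 F441189 F462812 F462811 (iv6 D194937) (iv1 F160590) D194862 F402531 (iv1 F402529) (iv5 F402652) D221677
theorem F510249 : act 0 n206526 = n221677 := d21_4 (iv5 F377869) D207148 (iv5 F455815) F455817 (iv6 D221677) F402652 (iv1 F402532) F402538 (iv6 F395237) (iv1 F395238)
def n221678 : Q := act 5 n197015
theorem D221678 : act 5 n197015 = n221678 := rfl
theorem F510250 : act 2 n221678 = n198890 := d2_1 D221678 (iv5 F436899) F436898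
theorem F510251 : act 3 n221678 = n197016 := d6_1 D221678 (iv5 D197016) D197015
theorem F510252 : act 4 n221678 = n198889 := d9_1 D221678 (iv5 D198889) F170853 F80361 (iv4 F104367) D145457 D212190 F464693 (iv4 D198517) (iv5 D109402) (iv4 D50476) (iv5 F38790) (iv4 F80392) (iv5 F165919) (iv4 F402700)
theorem F510253 : act 6 n221678 = n205478 := d12_2 F402716 D221678 (iv5 F483731) (iv6 D216303) (iv5 F380127)
theorem F510254 : act 7 n221678 = n205364 := d13_2 (iv7 F402701) D221678 F436086
theorem F510255 : act 0 n221678 = n205468 := d17_2 F417942 D221678 F436577 (iv4 F380733) (iv5 D190709) F347422 (iv5 F417890) F417894 D200797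
theorem F510256 : act 1 n221678 = n205335 := d17_6 (iv1 F163300) F170924 (iv1 D110497) (iv5 F165919) (iv4 F402700) D221678 F435963 F398089 F398086
def n221679 : Q := act 6 n197016
theorem D221679 : act 6 n197016 = n221679 := rfl
theorem F510257 : act 3 n221679 = n205478 := d7_1 D221679 (iv6 F510253) F510251
theorem F510258 : act 4 n221679 = n219302 := d10_1 D221679 F498210 F419319
theorem F510259 : act 5 n221679 = n207855 := d12_1 D221679 F446737 F442278 (iv6 D197017) D197016
theorem F510260 : act 0 n205365 = n221679 := d21_4 F202370 (iv1 F170852) (iv5 F202355) D205365 (iv6 D221679) (iv5 D197016) (iv1 F397947) (iv5 F397949) (iv6 D125892) (iv1 F202368)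
def n221680 : Q := act 6 n197054
theorem D221680 : act 6 n197054 = n221680 := rfl
theorem F510261 : act 3 n221680 = n221311 := d7_1 D221680 F508309 F421680
theorem F510262 : act 4 n221680 = n197055 := d10_1 D221680 (iv6 D197055) D197054
theorem F510263 : act 5 n221680 = n201092 := d12_1 D221680 (iv6 D201092) D201091 (iv6 F421671) F421673
theorem F510264 : act 7 n221680 = n221310 := d14_2 F410107 D221680 (iv6 D221310) F398932 F410109
theorem F510265 : act 0 n221680 = n208192 := d21_4 D197035 F421672 F421673 D221680 (iv6 D208192) D208191 F448299 (iv5 D189686) D189687 (iv1 F398891)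
theorem F510266 : act 0 n212961 = n221680 := d21_4 (iv5 F238182) (iv1 F259142) (iv5 F238501) D212961 (iv6 D221680) (iv5 F421673) F421674 F351264 (iv6 D151670) (iv1 F238181)
def n221681 : Q := act 4 n197057
theorem D221681 : act 4 n197057 = n221681 := rfl
theorem F510267 : act 3 n221681 = n208416 := d5_1 D221681 (iv4 D208416) D208415 (iv4 F451937) F451939
theorem F510268 : act 6 n221681 = n212259 := d10_2 F402850 D221681 (iv4 D212259)
def n221682 : Q := act 5 n197067
theorem D221682 : act 5 n197067 = n221682 := rfl
theorem F510269 : act 2 n221682 = n206811 := d2_1 D221682 F442274 (iv2 F402895)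
theorem F510270 : act 3 n221682 = n203880 := d6_1 D221682 (iv5 D203880) (iv3 F402896)
theorem F510271 : act 6 n221682 = n218220 := d12_2 D197067 D221682 F492786 (iv6 F449842) F397157
theorem F510272 : act 7 n221682 = n207308 := d13_2 F476678 D221682 (iv5 F476677)
theorem F510273 : act 4 n221682 = n207320 := d17_4 F362715 (iv5 F433837) F433838 D221682 F444323 (iv0 D135933) F99414 (iv0 F359623) (iv4 F208747)
theorem F510274 : act 1 n221682 = n205967 := d17_6 (iv1 D188483) D188484 F439514 (iv5 D206156) (iv4 F402897) D221682 F438640 (iv0 F359634) F373648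
theorem F510275 : act 0 n221682 = n207314 := d18_0 (iv4 F456199) (iv1 F456202) (iv4 F380047) (iv5 F359071) D210291 (iv0 F456882) F408923 (iv0 F402898) D221682
def n221683 : Q := act 3 n197068
theorem D221683 : act 3 n197068 = n221683 := rfl
theorem F510276 : act 2 n221683 = n215958 := d0_1 D221683 (iv3 D215958) (iv2 F414054) F414055 F402900
theorem F510277 : act 4 n221683 = n221568 := d5_2 (iv4 F402899) D221683 F509633 (iv4 F458819) F458816
theorem F510278 : act 5 n221683 = n200159 := d6_2 F402901 D221683 (iv3 D200159)
theorem F510279 : act 0 n209941 = n221683 := d20_4 F336488 (iv1 F209082) (iv4 F220292) (iv3 F455460) (iv3 D221683) F402899 F223009 D143034 F353522 F336492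
def n221684 : Q := act 4 n197087
theorem D221684 : act 4 n197087 = n221684 := rfl
theorem F510280 : act 2 n221684 = n210371 := d1_1 D221684 F457241 F402997
theorem F510281 : act 3 n221684 = n197401 := d5_1 D221684 (iv4 D197401) D197400 (iv4 F482264) F482263
theorem F510282 : act 6 n221684 = n213747 := d10_2 (iv6 F409559) D221684 (iv4 D213747)
theorem F510283 : act 0 n221684 = n214372 := d18_2 D197087 D221684 (iv4 D214372) (iv5 D159053) D159052 (iv0 F361287) (iv4 F405015) (iv0 F405017) (iv5 D197089)
theorem F510284 : act 1 n221684 = n197631 := d18_6 (iv1 F434560) F350811 (iv1 F350814) (iv4 F341468) (iv5 F402998) D221684 F405107 (iv0 F428963) (iv5 F434558)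
def n221685 : Q := act 6 n197088
theorem D221685 : act 6 n197088 = n221685 := rfl
theorem F510285 : act 2 n221685 = n197090 := d3_1 D221685 (iv6 D197090) D197088
theorem F510286 : act 3 n221685 = n215541 := d7_1 D221685 F480411 (iv3 F402999)
theorem F510287 : act 4 n221685 = n208347 := d10_1 D221685 F449013 (iv4 F403000)
theorem F510288 : act 5 n221685 = n205578 := d12_1 D221685 F437073 (iv5 F354816) (iv6 F474814) F474813
theorem F510289 : act 7 n221685 = n207440 := d14_2 F443495 D221685 F444921 (iv7 F428722) (iv6 F443494)
theorem F510290 : act 0 n221685 = n214890 := d21_4 (iv5 F466015) (iv1 F474817) F474813 D221685 F477297 F415375 F338337 F403113 (iv6 D197114) D197111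
theorem F510291 : act 0 n221683 = n221685 := d17_2 (iv1 F415302) (iv5 F510278) F510288 (iv4 D205578) F348486 F348482 F328010 D110588 D198905
def n221686 : Q := act 0 n197090
theorem D221686 : act 0 n197090 = n221686 := rfl
theorem F510292 : act 5 n221686 = n198843 := d17_3 (iv1 F444919) F403007 D221686 F409527 F231393 (iv0 F354813) F354816 (iv0 F403556) (iv4 F444915)
theorem F510293 : act 3 n221686 = n198831 := d20_5 (iv4 F214326) (iv1 D133326) (iv4 F166245) (iv3 F403005) D221686 F409464 F227224 D195498 (iv3 F402984) (iv1 F402988)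
theorem F510294 : act 6 n221686 = n198850 := d21_5 F360548 (iv1 F403003) (iv5 D197089) D197090 D221686 F409560 (iv1 F202661) D125988 F403108 (iv1 F403106)
theorem F510295 : act 2 n214890 = n221686 := d15_3 (iv0 D221686) (iv0 F482281) F482280
theorem F510296 : act 1 n207440 = n221686 := d15_0 (iv0 D221686) (iv7 F455463) F455459
theorem F510297 : act 7 n221686 = n221683 := d15_2 (iv0 F482282) F510296 F510276
def n221687 : Q := act 6 n197096
theorem D221687 : act 6 n197096 = n221687 := rfl
theorem F510298 : act 3 n221687 = n207104 := d7_1 D221687 F443340 (iv3 F403117)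
theorem F510299 : act 4 n221687 = n218678 := d10_1 D221687 F496748 F496746
theorem F510300 : act 5 n221687 = n205898 := d12_1 D221687 (iv6 D205898) F347037 (iv6 F351557) (iv5 F403024)
def n221688 : Q := act 4 n197097
theorem D221688 : act 4 n197097 = n221688 := rfl
theorem F510301 : act 2 n221688 = n212948 := d1_1 D221688 F468267 (iv2 F403025)
theorem F510302 : act 3 n221688 = n201283 := d5_1 D221688 (iv4 D201283) F332255 (iv4 F166252) D197097
theorem F510303 : act 5 n221688 = n214370 := d9_2 (iv5 F403026) D221688 F474819 F443010 F388469 F332988 (iv4 F167751) D197613 (iv4 F448758) (iv5 D208288) F443018 (iv5 F443020) F405333 F167914 (iv4 F166294)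
theorem F510304 : act 7 n221688 = n197615 := d11_2 (iv7 F403027) D221688 (iv4 D197615)
theorem F510305 : act 0 n221688 = n214169 := d17_0 F473828 (iv1 F473460) F448813 (iv4 F466007) (iv5 F466009) F443496 F402998 (iv0 F403028) D221688
theorem F510306 : act 1 n221688 = n212923 := d18_6 F352304 F317013 F246648 (iv4 F166294) (iv5 F403026) D221688 F468140 (iv0 F342711) (iv5 F352306)
theorem F510307 : act 6 n221688 = n200190 := d21_5 F193433 (iv1 F126889) (iv5 F238158) D212923 (iv1 F510306) (iv5 F419908) F500766 F500764 (iv6 D214329) F249092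
def n221689 : Q := act 6 n197097
theorem D221689 : act 6 n197097 = n221689 := rfl
theorem F510308 : act 2 n221689 = n197986 := d3_1 D221689 (iv6 F406399) (iv2 F403025)
theorem F510309 : act 3 n221689 = n197098 := d7_1 D221689 (iv6 D197098) D197097
theorem F510310 : act 4 n221689 = n200190 := d10_1 D221689 (iv6 F510307) (iv4 D221688)
theorem F510311 : act 5 n221689 = n200196 := d12_1 D221689 F415484 F403113 (iv6 D197114) (iv5 F403026)
theorem F510312 : act 0 n221689 = n197989 := d21_4 F465864 (iv1 D197112) (iv5 F403026) D221689 F406411 (iv5 F403553) F403556 (iv5 F354816) (iv6 F474814) F474816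
theorem F510313 : act 0 n197975 = n221689 := d21_4 (iv5 F422846) F422847 (iv5 F402919) (iv6 F406352) (iv6 D221689) F403026 D197111 (iv5 F466015) (iv6 F470517) F470519
theorem F510314 : act 7 n221689 = n197987 := d15_2 (iv0 F407056) (iv0 F510312) (iv2 F406404)
def n221690 : Q := act 4 n197103
theorem D221690 : act 4 n197103 = n221690 := rfl
theorem F510315 : act 2 n221690 = n208336 := d1_1 D221690 (iv4 D208336) (iv2 F403051)
theorem F510316 : act 3 n221690 = n220638 := d5_1 D221690 F504746 F411933 D213566 F471077
theorem F510317 : act 6 n221690 = n220638 := d10_2 F411934 D221690 F504746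
theorem F510318 : act 7 n221690 = n210598 := d11_2 (iv7 F403052) D221690 (iv4 D210598)
theorem F510319 : act 5 n221690 = n208387 := d16_1 D221690 (iv4 D208387) (iv5 F328200) F328199 F216212 F180508 D202524 F424374 (iv2 F403051)
theorem F510320 : act 0 n221690 = n214115 := d17_0 F473550 (iv1 F478885) F478883 (iv4 D210601) (iv5 F342830) F342829 D141316 (iv0 F403053) D221690
theorem F510321 : act 1 n221690 = n214117 := d18_6 (iv1 F101155) (iv4 F50021) F78604 (iv4 F166265) D197103 D221690 (iv4 D214117) F246038 (iv5 D139431)
def n221691 : Q := act 1 n197130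
theorem D221691 : act 1 n197130 = n221691 := rfl
theorem F510322 : act 1 n221691 = n201183 := d15_1 D221691 (iv7 F492289) F492286
theorem F510323 : act 7 n221691 = n213138 := d15_2 (iv0 F403191) D221691 F469160
theorem F510324 : act 5 n221691 = n212492 := d17_7 (iv1 F429885) F429883 F386176 F386174 F179382 D197130 D221691 (iv0 F466069) (iv4 F420674)
theorem F510325 : act 3 n203504 = n221691 := d19_19 (iv1 D221691) (iv5 D197130) (iv4 F179382) F335481 (iv1 D76404) F55257 (iv4 F64177) F64176 F63120 D40407 D87014 D182251 D216261 F485948 F484503 F458775 (iv1 F509298) F509300 (iv4 F455277)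
theorem F510326 : act 6 n203496 = n221691 := d21_3 (iv5 D172021) (iv1 F187751) (iv5 F428556) (iv1 D221691) F403180 (iv5 D107696) D107694 D197131 (iv6 F476373) (iv1 F476376)
theorem F510327 : act 2 n221691 = n215288 := d3_1 F510326 (iv6 D215288) (iv2 F428554)
def n221692 : Q := act 4 n197130
theorem D221692 : act 4 n197130 = n221692 := rfl
theorem F510328 : act 2 n221692 = n213780 := d1_1 D221692 (iv4 F492287) F492286
theorem F510329 : act 3 n221692 = n219896 := d5_1 D221692 F501090 F386694 (iv4 F392485) (iv3 F403179)
theorem F510330 : act 6 n221692 = n197133 := d10_2 (iv6 F403180) D221692 (iv4 D197133)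
theorem F510331 : act 7 n221692 = n197235 := d11_2 F475632 D221692 F475634
theorem F510332 : act 1 n221692 = n197342 := d18_6 (iv1 F403206) F403208 F363827 F179382 D197130 D221692 F403990 (iv0 F434530) F434528
theorem F510333 : act 0 n221692 = n212644 := d20_1 D221692 (iv4 D212644) (iv3 D148659) (iv1 F106016) (iv3 F130726) (iv4 F320440) F455278 (iv4 F455277) F510325 (iv1 D221691)
def n221693 : Q := act 4 n197137
theorem D221693 : act 4 n197137 = n221693 := rfl
theorem F510334 : act 2 n221693 = n213779 := d1_1 D221693 F472059 (iv2 F403211)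
theorem F510335 : act 5 n221693 = n216207 := d9_2 D197137 D221693 (iv4 D216207) (iv5 F287416) F287415 F143228 D188567 (iv5 F434528) (iv4 F485205) (iv5 D216620) (iv4 D185056) (iv5 D88205) (iv4 F135138) F321885 (iv4 F166356)
theorem F510336 : act 6 n221693 = n197138 := d10_2 (iv6 F403213) D221693 (iv4 D197138)
theorem F510337 : act 7 n221693 = n215977 := d11_2 (iv7 F403214) D221693 F482380
def n221694 : Q := act 3 n197138
theorem D221694 : act 3 n197138 = n221694 := rfl
theorem F510338 : act 2 n221694 = n212805 := d0_1 D221694 (iv3 F499698) F499694 F386695 (iv2 F403217)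
theorem F510339 : act 4 n221694 = n220823 := d5_2 D197138 D221694 F505722 F440469 (iv3 F353016)
theorem F510340 : act 7 n221694 = n212804 := d8_2 (iv7 F403218) D221694 F467584
theorem F510341 : act 0 n221694 = n212806 := d20_4 (iv4 D155787) (iv1 F325006) D197138 D221694 (iv3 F471677) F471678 (iv1 F466520) (iv4 F501120) (iv3 F501121) (iv1 F403693)
theorem F510342 : act 0 n203171 = n221694 := d20_4 (iv4 D70590) D70589 (iv4 F185676) D203171 (iv3 D221694) (iv4 D197138) F325005 D120063 F189649 (iv1 F107059)
def n221695 : Q := act 5 n197138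
theorem D221695 : act 5 n197138 = n221695 := rfl
theorem F510343 : act 2 n221695 = n211994 := d2_1 D221695 F463854 (iv2 F403217)
theorem F510344 : act 4 n221695 = n198399 := d9_1 D221695 F407882 F169286 (iv5 F169301) (iv4 F336643) (iv5 F338748) D203651 F429245 (iv4 D201973) (iv5 D115297) F84016 (iv5 F79314) F79313 D107717 D197138
theorem F510345 : act 7 n221695 = n198398 := d13_2 (iv7 F403218) D221695 F407880
theorem F510346 : act 0 n221695 = n221096 := d17_2 F454495 D221695 F507196 (iv4 D205910) (iv5 F396868) (iv0 D195379) D195380 F396878 D209650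
theorem F510347 : act 1 n221695 = n220729 := d17_6 (iv1 F331308) F110867 F321637 D107717 D197138 D221695 F505196 F438389 F286185
def n221696 : Q := act 5 n197150
theorem D221696 : act 5 n197150 = n221696 := rfl
theorem F510348 : act 2 n221696 = n219596 := d2_1 D221696 F499618 (iv2 F410758)
theorem F510349 : act 3 n221696 = n197151 := d6_1 D221696 (iv5 D197151) D197150
theorem F510350 : act 6 n221696 = n208826 := d12_2 (iv6 F403279) D221696 (iv5 D208826) D208827 (iv5 F451026)
theorem F510351 : act 7 n221696 = n221452 := d13_2 (iv7 F403280) D221696 (iv5 D221452)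
theorem F510352 : act 0 n221696 = n218267 := d17_2 F410731 D221696 (iv5 F509981) F509980 F501898 F501900 F493296 F493294 F411561
theorem F510353 : act 4 n221696 = n208933 := d17_4 (iv1 F510019) F510021 F410731 D221696 (iv5 F500802) (iv0 F500803) (iv5 F486496) (iv0 D216907) (iv4 F486494)
def n221697 : Q := act 4 n197151
theorem D221697 : act 4 n197151 = n221697 := rfl
theorem F510354 : act 2 n221697 = n221450 := d1_1 D221697 (iv4 D221450) (iv2 F403281)
theorem F510355 : act 7 n221697 = n206594 := d11_2 (iv7 F403282) D221697 F441484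
theorem F510356 : act 5 n221697 = n206595 := d16_1 D221697 F441486 (iv5 F352192) F176710 F93418 D107762 D197154 F403298 (iv2 F403281)
theorem F510357 : act 0 n221697 = n212112 := d17_0 F464364 (iv1 F439223) F439221 (iv4 D145323) (iv5 D68135) D68134 D145321 (iv0 F403283) D221697
theorem F510358 : act 1 n221697 = n211911 := d18_6 F164902 F78162 D49775 D107759 D197151 D221697 (iv4 D211911) (iv0 F375139) (iv5 F375140)
theorem F510359 : act 3 n221697 = n207805 := d20_3 (iv4 D212105) (iv1 F403284) D221697 (iv1 F446524) F441868 (iv4 D201794) (iv1 D115061) (iv4 F179169) (iv3 F421798) (iv1 F464339)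
def n221698 : Q := act 3 n197152
theorem D221698 : act 3 n197152 = n221698 := rfl
theorem F510360 : act 2 n221698 = n206438 := d0_1 D221698 F440801 F206890 (iv3 F207155) (iv2 F403285)
theorem F510361 : act 5 n221698 = n206434 := d6_2 (iv5 F403287) D221698 F440777
theorem F510362 : act 6 n221698 = n215092 := d7_2 F404515 D221698 (iv3 F478306)
theorem F510363 : act 7 n221698 = n205427 := d8_2 (iv7 F403286) D221698 F436361
theorem F510364 : act 0 n221698 = n220957 := d19_4 D49775 D107760 D197152 D221698 F506487 (iv4 F492818) (iv3 F492823) (iv1 F490169) (iv5 F468046) (iv4 D212903) (iv3 F468021) (iv1 F470197) (iv5 F470196) (iv4 D202964) F316827 (iv1 F101340) (iv5 D34199) F26209 (iv3 F38038)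
theorem F510365 : act 0 n200691 = n221698 := d20_4 (iv4 F206889) (iv1 F417560) (iv4 D200703) (iv3 F417511) (iv3 D221698) (iv4 D197152) F166505 (iv4 F176595) (iv3 F417761) (iv1 F417765)
def n221699 : Q := act 2 n197153
theorem D221699 : act 2 n197153 = n221699 := rfl
theorem F510366 : act 3 n221699 = n221451 := d0_2 D197153 D221699 (iv2 D221451) (iv3 D196433) (iv2 F166507)
theorem F510367 : act 7 n221699 = n205121 := d4_2 (iv7 F403296) D221699 (iv2 F473672)
theorem F510368 : act 1 n221699 = n205124 := d15_0 (iv0 F494677) (iv7 F403296) D221699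
theorem F510369 : act 1 n205111 = n221699 := d15_0 F510368 (iv7 D205124) (iv2 F435018)
def n221700 : Q := act 5 n197153
theorem D221700 : act 5 n197153 = n221700 := rfl
theorem F510370 : act 3 n221700 = n197154 := d6_1 D221700 (iv5 D197154) D197153
theorem F510371 : act 6 n221700 = n213677 := d12_2 F510239 D221700 (iv5 D213677) (iv6 F415140) (iv5 F510238)
theorem F510372 : act 7 n221700 = n221449 := d13_2 (iv7 F403296) D221700 (iv5 D221449)
theorem F510373 : act 0 n221700 = n212097 := d17_2 F504390 D221700 (iv5 D212097) D212096 (iv5 F464303) F464320 (iv5 F504370) F504373 D220567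
theorem F510374 : act 1 n221700 = n212100 := d17_6 (iv1 F454751) F389175 D218602 (iv5 F494704) F452482 D221700 (iv5 D212100) F464298 F464297
def n221701 : Q := act 4 n197154
theorem D221701 : act 4 n197154 = n221701 := rfl
theorem F510375 : act 2 n221701 = n206594 := d1_1 D221701 F441484 (iv2 F403297)
theorem F510376 : act 5 n221701 = n206586 := d9_2 D197154 D221701 F441441 (iv5 F403287) (iv4 D197152) (iv5 D107760) D107759 D197151 D221697 F510356 F441486 (iv5 F352192) F176710 F93418 D107762
theorem F510377 : act 7 n221701 = n221450 := d11_2 (iv7 F403298) D221701 (iv4 D221450)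
theorem F510378 : act 0 n221701 = n211911 := d17_0 F463542 (iv1 D200960) D200961 F418512 F400668 F165727 D145319 (iv0 F403299) D221701
theorem F510379 : act 1 n221701 = n212112 := d18_6 (iv1 F171991) F171988 (iv1 F80705) D107762 D197154 D221701 (iv4 D212112) (iv0 F400675) (iv5 D196439)
theorem F510380 : act 6 n221701 = n218644 := d21_5 (iv5 D188038) D188035 D217836 F490854 (iv1 F510379) (iv5 D218644) F377597 (iv5 F471868) (iv6 F490189) F490191
def n221702 : Q := act 6 n197154
theorem D221702 : act 6 n197154 = n221702 := rfl
theorem F510381 : act 2 n221702 = n220700 := d3_1 D221702 F505041 (iv2 F403297)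
theorem F510382 : act 3 n221702 = n213677 := d7_1 D221702 (iv6 F510371) F510370
theorem F510383 : act 4 n221702 = n218644 := d10_1 D221702 (iv6 F510380) (iv4 D221701)
theorem F510384 : act 5 n221702 = n200128 := d12_1 D221702 (iv6 D200128) (iv5 F402629) F402627 D197154
theorem F510385 : act 7 n221702 = n211012 := d14_2 (iv7 F403298) D221702 F459748 F453376 (iv6 F432901)
theorem F510386 : act 0 n221702 = n202472 := d21_4 F400671 (iv1 F166510) D197154 D221702 (iv6 F424146) (iv5 D145321) (iv1 D68134) D68135 (iv6 F165722) (iv1 F400673)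
theorem F510387 : act 0 n199720 = n221702 := d21_4 F411953 (iv1 D199391) (iv5 F173197) D199720 (iv6 D221702) (iv5 D197154) F166509 D125489 (iv6 F409214) (iv1 F409216)
def n221703 : Q := act 0 n197176
theorem D221703 : act 0 n197176 = n221703 := rfl
theorem F510388 : act 5 n221703 = n216950 := d17_1 D221703 (iv1 F486680) F468180 F465221 F350242 D207400 F444701 (iv0 F468258) F468257
theorem F510389 : act 4 n221703 = n218243 := d18_1 D221703 (iv1 F492924) (iv4 F468251) F468252 F444700 F448379 F448376 (iv0 D197174) D197176
theorem F510390 : act 3 n221703 = n213098 := d20_5 F375774 (iv1 F349717) (iv4 F439756) F439755 D221703 F468998 (iv1 F479619) F479615 F450655 (iv1 F450653)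
theorem F510391 : act 6 n221703 = n217851 := d21_5 (iv5 D76650) F78826 D107918 (iv6 F403403) D221703 F490926 (iv1 D208209) (iv5 F237313) (iv6 D150752) (iv1 F114976)
theorem F510392 : act 2 n212911 = n221703 := d15_3 (iv0 D221703) (iv0 F468184) F468089
theorem F510393 : act 7 n221703 = n212912 := d4_2 F468089 F510392 F468083
theorem F510394 : act 1 n212913 = n221703 := d15_1 F468185 F510393 F468083
def n221704 : Q := act 7 n197176
theorem D221704 : act 7 n197176 = n221704 := rfl
theorem F510395 : act 2 n221704 = n212913 := d4_1 D221704 (iv7 D212913) (iv2 F403402)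
theorem F510396 : act 3 n221704 = n208673 := d8_1 D221704 F450410 F439755
theorem F510397 : act 5 n221704 = n197177 := d13_1 D221704 (iv7 D197177) D197176
theorem F510398 : act 6 n221704 = n212914 := d14_1 D221704 (iv7 D212914) (iv6 D151348) (iv7 F166776) (iv6 F403403)
theorem F510399 : act 1 n212912 = n221704 := d15_1 D212912 (iv7 D221704) F403402
theorem F510400 : act 1 n221704 = n212911 := d15_1 F510399 (iv7 F468089) (iv2 F468083)
def n221705 : Q := act 6 n197179
theorem D221705 : act 6 n197179 = n221705 := rfl
theorem F510401 : act 2 n221705 = n221029 := d3_1 D221705 F506877 F499456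
theorem F510402 : act 3 n221705 = n197181 := d7_1 D221705 (iv6 D197181) (iv3 F403412)
theorem F510403 : act 4 n221705 = n221031 := d10_1 D221705 F506890 F484946
theorem F510404 : act 5 n221705 = n208284 := d12_1 D221705 F448735 F403420 (iv6 D197180) D197179
theorem F510405 : act 7 n221705 = n217590 := d14_2 (iv7 F403413) D221705 (iv6 D217590) (iv7 F373077) (iv6 F385399)
theorem F510406 : act 0 n221705 = n208694 := d21_10 (iv5 D208694) (iv1 F450337) (iv5 F453499) F453498 (iv1 F424464) F424460 F387187 F354641 D197179 D221705
theorem F510407 : act 0 n217901 = n221705 := d21_4 D219980 F501497 (iv5 D217900) D217901 (iv6 D221705) (iv5 D197179) F217607 (iv5 F387096) F387095 D192570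
def n221706 : Q := act 5 n197183
theorem D221706 : act 5 n197183 = n221706 := rfl
theorem F510408 : act 2 n221706 = n212852 := d2_1 D221706 (iv5 D212852) (iv2 F403431)
theorem F510409 : act 3 n221706 = n220198 := d6_1 D221706 (iv5 D220198) F403436
theorem F510410 : act 4 n221706 = n210261 := d9_1 D221706 (iv5 D210261) (iv4 F357352) (iv5 D99595) (iv4 F153349) (iv5 F321257) (iv4 F460958) (iv5 F460960) F383488 (iv5 F336948) F403428 (iv5 D197182) F166779 D107924 D197183
theorem F510411 : act 6 n221706 = n220197 := d12_2 (iv6 F403432) D221706 (iv5 D220197) (iv6 D193120) (iv5 F335920)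
theorem F510412 : act 7 n221706 = n211301 := d13_2 (iv7 F403433) D221706 (iv5 D211301)
theorem F510413 : act 0 n221706 = n210859 := d17_2 (iv1 F403434) D221706 (iv5 D210859) F348290 F307714 F305868 F96076 D74064 D155692
theorem F510414 : act 1 n221706 = n210861 := d17_6 (iv1 F341098) (iv5 F341104) F311022 D107924 D197183 D221706 (iv5 D210861) F361509 (iv4 D156541)
def n221707 : Q := act 6 n197186
theorem D221707 : act 6 n197186 = n221707 := rfl
theorem F510415 : act 2 n221707 = n218995 := d3_1 D221707 (iv6 F496586) F451398
theorem F510416 : act 3 n221707 = n197187 := d7_1 D221707 (iv6 D197187) (iv3 F403446)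
theorem F510417 : act 4 n221707 = n209389 := d10_1 D221707 (iv6 D209389) (iv4 F403447)
theorem F510418 : act 5 n221707 = n215611 := d12_1 D221707 F480761 (iv5 F348211) F351924 D197186
theorem F510419 : act 7 n221707 = n218994 := d14_2 (iv7 F403448) D221707 F496583 F448514 F396198
theorem F510420 : act 0 n221707 = n215089 := d21_4 (iv5 F366768) (iv1 F361347) D197186 D221707 F478286 (iv5 D188165) F294845 D182917 (iv6 F453538) F453540
theorem F510421 : act 0 n218996 = n221707 := d21_4 (iv5 D220449) (iv1 F484910) F484908 (iv6 F496590) (iv6 D221707) (iv5 D197186) (iv1 F361336) (iv5 F454208) (iv6 F504583) F504585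
def n221708 : Q := act 6 n197189
theorem D221708 : act 6 n197189 = n221708 := rfl
theorem F510422 : act 2 n221708 = n211391 := d3_1 D221708 (iv6 F461383) (iv2 F403458)
theorem F510423 : act 3 n221708 = n217843 := d7_1 D221708 (iv6 F490884) F490312
theorem F510424 : act 4 n221708 = n197190 := d10_1 D221708 (iv6 D197190) D197189
theorem F510425 : act 5 n221708 = n211537 := d12_1 D221708 F462033 F460739 (iv6 D208630) (iv5 F403460)
theorem F510426 : act 7 n221708 = n221618 := d14_2 (iv7 F403459) D221708 F509904 F489353 F389658
theorem F510427 : act 0 n221708 = n211541 := d21_4 F167718 D134825 (iv5 F403460) D221708 F462043 (iv5 D193089) D193086 F388715 (iv6 D179747) (iv1 F351245)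
def n221709 : Q := act 0 n197190
theorem D221709 : act 0 n197190 = n221709 := rfl
theorem F510428 : act 3 n221709 = n206222 := d20_5 F501443 (iv1 F419072) F403471 (iv3 F403463) D221709 F439780 D206223 (iv4 F478276) F478275 (iv1 F501445)
theorem F510429 : act 4 n221709 = n206227 := d20_8 (iv4 F352667) (iv1 F205660) (iv4 F352668) D199185 (iv1 F490880) (iv3 F510423) F510424 D221709 F439808 F339916
theorem F510430 : act 5 n221709 = n210341 := d21_2 (iv5 F403464) D221709 (iv6 F458348) (iv1 D139473) (iv6 D65455) D65454 D139468 (iv5 F359136) D199052 F410480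
theorem F510431 : act 6 n221709 = n206220 := d21_5 (iv5 F312682) (iv1 D107952) D107954 D197190 D221709 (iv5 F482489) (iv1 D216002) (iv5 D179750) (iv6 D85858) D85855
theorem F510432 : act 7 n221595 = n221709 := d14_0 F510431 F439776 F449549 (iv7 F482247) (iv6 F509773)
theorem F510433 : act 0 n221709 = n202657 := d21_4 D217793 F490658 F482489 (iv6 F510431) F503714 (iv5 D220425) (iv1 F503698) F503695 F471881 (iv1 F371867)
def n221710 : Q := act 1 n197190
theorem D221710 : act 1 n197190 = n221710 := rfl
theorem F510434 : act 1 n221710 = n202657 := d15_1 D221710 F429803 F429800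
theorem F510435 : act 5 n221710 = n210332 := d17_7 F493352 (iv5 F493351) (iv1 F509729) (iv5 D221587) (iv4 F401633) (iv5 F403464) D221710 F457066 (iv4 F400609)
theorem F510436 : act 4 n221710 = n221594 := d17_9 (iv1 F509771) F411258 (iv1 F400446) F451026 F451024 (iv5 F410505) F410504 (iv5 F403464) D221710
theorem F510437 : act 3 n207814 = n221710 := d20_3 (iv4 F398423) F212722 D207814 (iv1 D221710) F403463 (iv4 F403471) (iv1 F419062) (iv4 F501448) F501447 (iv1 F465514)
theorem F510438 : act 6 n208478 = n221710 := d21_3 F98828 D134397 D208478 (iv1 D221710) (iv6 D197190) (iv5 D107954) (iv1 F312685) (iv5 F306515) (iv6 F337789) (iv1 D135156)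
theorem F510439 : act 2 n221710 = n221595 := d3_1 F510438 F509773 F482246
def n221711 : Q := act 7 n197190
theorem D221711 : act 7 n197190 = n221711 := rfl
theorem F510440 : act 2 n221711 = n202657 := d4_1 D221711 F429803 F429800
theorem F510441 : act 3 n221711 = n197195 := d8_1 D221711 (iv7 D197195) (iv3 F403463)
theorem F510442 : act 4 n221711 = n221618 := d11_1 D221711 (iv7 F510426) F510424
theorem F510443 : act 5 n221711 = n199058 := d13_1 D221711 F410498 (iv5 F403464)
theorem F510444 : act 6 n221711 = n214386 := d14_1 D221711 F474913 (iv6 D197502) F167420 D197190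
theorem F510445 : act 1 n221595 = n221711 := d15_1 (iv0 F509775) (iv7 D221711) (iv2 F429800)
def n221712 : Q := act 6 n197194
theorem D221712 : act 6 n197194 = n221712 := rfl
theorem F510446 : act 3 n221712 = n216357 := d7_1 D221712 F500289 F500287
theorem F510447 : act 4 n221712 = n203463 := d10_1 D221712 (iv6 F490099) F490098
theorem F510448 : act 5 n221712 = n208294 := d12_1 D221712 (iv6 F473485) (iv5 D214102) D214103 F473490
theorem F510449 : act 0 n221712 = n203334 := d21_10 (iv5 D203334) (iv1 F427812) F427809 D213020 (iv1 F468625) (iv6 F424979) F424971 (iv1 F473491) F473490 D221712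
theorem F510450 : act 0 n203336 = n221712 := d21_4 F486474 (iv1 F370468) (iv5 F375637) (iv6 F427934) (iv6 D221712) (iv5 F473490) F473489 (iv5 F500368) F500370 (iv1 F486478)
def n221713 : Q := act 7 n197197
theorem D221713 : act 7 n197197 = n221713 := rfl
theorem F510451 : act 2 n221713 = n209461 := d4_1 D221713 F453784 (iv2 F403486)
theorem F510452 : act 3 n221713 = n220250 := d8_1 D221713 (iv7 D220250) F403489
theorem F510453 : act 4 n221713 = n197198 := d11_1 D221713 (iv7 D197198) D197197
theorem F510454 : act 5 n221713 = n209979 := d13_1 D221713 F455607 (iv5 F403488)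
theorem F510455 : act 1 n210112 = n221713 := d15_1 D210112 (iv7 D221713) F403486
theorem F510456 : act 1 n221713 = n210111 := d15_1 F510455 (iv7 F460912) F460911
theorem F510457 : act 6 n209459 = n221713 := d21_5 D136988 (iv1 F428122) (iv5 D203389) D203390 (iv1 F453780) F510454 (iv1 F467768) F467770 F385234 F365069
theorem F510458 : act 0 n204821 = n220250 := d20_4 (iv4 F391288) F433714 F433712 (iv3 F433710) (iv3 F510452) F510453 (iv1 F431661) F431659 F226491 (iv1 F343870)
def n221714 : Q := act 6 n197198
theorem D221714 : act 6 n197198 = n221714 := rfl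
theorem F510459 : act 2 n221714 = n199282 := d3_1 D221714 F411462 (iv2 F403490)
theorem F510460 : act 3 n221714 = n210405 := d7_1 D221714 F457413 (iv3 F403491)
theorem F510461 : act 4 n221714 = n209459 := d10_1 D221714 F510457 F510453
theorem F510462 : act 7 n221714 = n210400 := d14_2 D197198 D221714 F457403 F385877 F366724
theorem F510463 : act 0 n221714 = n210388 := d21_4 F364468 F335238 (iv5 F403492) D221714 (iv6 D210388) F352974 (iv1 D123228) F329209 F328881 D123241
theorem F510464 : act 0 n210399 = n221714 := d21_4 D209815 (iv1 F484086) F484084 (iv6 F458262) (iv6 D221714) F403492 (iv1 F314400) (iv5 F366685) (iv6 F382820) F382822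
def n221715 : Q := act 5 n197208
theorem D221715 : act 5 n197208 = n221715 := rfl
theorem F510465 : act 2 n221715 = n215744 := d2_1 D221715 (iv5 D215744) (iv2 F403539)
theorem F510466 : act 3 n221715 = n197210 := d6_1 D221715 (iv5 D197210) (iv3 F403540)
theorem F510467 : act 6 n221715 = n213080 := d12_2 D197208 D221715 (iv5 D213080) (iv6 D152476) (iv5 F347796)
theorem F510468 : act 7 n221715 = n215751 := d13_2 (iv7 F403542) D221715 (iv5 D215751)
theorem F510469 : act 0 n221715 = n215755 := d17_2 (iv1 F403544) D221715 F481425 F438657 D215385 (iv0 F479713) F430089 F434879 F434878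
theorem F510470 : act 1 n221715 = n215615 := d17_6 (iv1 D177499) (iv5 F341340) F365845 F363323 (iv4 F403541) D221715 F480772 (iv0 F474635) F276949
theorem F510471 : act 4 n221715 = n214857 := d18_5 F339259 D78409 (iv1 F353988) (iv4 F403541) D221715 (iv0 D214857) (iv4 D163200) (iv0 F353965) (iv5 D160588)
def n221716 : Q := act 7 n197209
theorem D221716 : act 7 n197209 = n221716 := rfl
theorem F510472 : act 2 n221716 = n212531 := d4_1 D221716 F466288 (iv2 F403546)
theorem F510473 : act 3 n221716 = n213081 := d8_1 D221716 (iv7 D213081) (iv3 F403547)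
theorem F510474 : act 4 n221716 = n205504 := d11_1 D221716 (iv7 D205504) (iv4 F403548)
theorem F510475 : act 6 n221716 = n199655 := d14_1 D221716 (iv7 D199655) (iv6 D111552) (iv7 F166886) D197209
theorem F510476 : act 1 n212532 = n221716 := d15_1 F466298 (iv7 D221716) F403546
theorem F510477 : act 1 n221716 = n203672 := d15_1 F510476 F429350 D212532
def n221717 : Q := act 4 n197210
theorem D221717 : act 4 n197210 = n221717 := rfl
theorem F510478 : act 2 n221717 = n214851 := d1_1 D221717 F477144 (iv2 F403549)
theorem F510479 : act 3 n221717 = n221123 := d5_1 D221717 (iv4 D221123) F506937 (iv4 F510471) F510466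
theorem F510480 : act 5 n221717 = n221121 := d9_2 D197210 D221717 (iv4 D221121) (iv5 D195403) (iv4 F162149) F162151 F338333 (iv5 F415375) (iv4 F503533) F503534 F461225 (iv5 D195404) (iv4 F162143) (iv5 F81004) (iv4 F166905)
theorem F510481 : act 7 n221717 = n214852 := d11_2 (iv7 F409561) D221717 F477149
theorem F510482 : act 0 n221717 = n198870 := d17_0 F466489 (iv1 F507345) F507341 F464585 (iv5 D200170) (iv0 D112733) D112735 (iv0 F403550) D221717
theorem F510483 : act 1 n221717 = n205443 := d18_6 F325125 (iv4 F172665) (iv1 D111292) (iv4 F166905) D197210 D221717 (iv4 D205443) F325667 (iv5 D78435)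
def n221718 : Q := act 7 n197220
theorem D221718 : act 7 n197220 = n221718 := rfl
theorem F510484 : act 2 n221718 = n197279 := d4_1 D221718 (iv7 D197279) (iv2 F403606)
theorem F510485 : act 3 n221718 = n203222 := d8_1 D221718 F427462 (iv3 F403607)
theorem F510486 : act 4 n221718 = n213890 := d11_1 D221718 (iv7 D213890) (iv4 F403608)
theorem F510487 : act 5 n221718 = n215285 := d13_1 D221718 F479214 F438778
theorem F510488 : act 6 n221718 = n197303 := d14_1 D221718 (iv7 D197303) (iv6 D108081) (iv7 F166943) D197220
theorem F510489 : act 1 n197277 = n221718 := d15_1 D197277 (iv7 D221718) F403606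
theorem F510490 : act 1 n221718 = n197276 := d15_1 F510489 (iv7 F472786) F472783
def n221719 : Q := act 7 n197224
theorem D221719 : act 7 n197224 = n221719 := rfl
theorem F510491 : act 2 n221719 = n197303 := d4_1 D221719 (iv7 D197303) (iv2 F403627)
theorem F510492 : act 3 n221719 = n211933 := d8_1 D221719 (iv7 F503724) F503721
theorem F510493 : act 4 n221719 = n213888 := d11_1 D221719 (iv7 D213888) (iv4 F403628)
theorem F510494 : act 5 n221719 = n211932 := d13_1 D221719 F463635 (iv5 F458140)
theorem F510495 : act 6 n221719 = n197279 := d14_1 D221719 (iv7 D197279) (iv6 D108065) (iv7 F166949) D197224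
theorem F510496 : act 1 n197301 = n221719 := d15_1 D197301 (iv7 D221719) F403627
theorem F510497 : act 1 n221719 = n197300 := d15_1 F510496 (iv7 F472691) F472690
def n221720 : Q := act 6 n197227
theorem D221720 : act 6 n197227 = n221720 := rfl
theorem F510498 : act 2 n221720 = n197228 := d3_1 D221720 (iv6 D197228) D197227
theorem F510499 : act 3 n221720 = n197322 := d7_1 D221720 (iv6 D197322) (iv3 F403643)
theorem F510500 : act 4 n221720 = n197562 := d10_1 D221720 (iv6 D197562) (iv4 F403644)
theorem F510501 : act 0 n221720 = n221139 := d21_4 F403587 F246692 (iv5 F403645) D221720 (iv6 D221139) F503809 F503807 (iv5 D205997) F204173 D197217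
def n221721 : Q := act 0 n197228
theorem D221721 : act 0 n197228 = n221721 := rfl
theorem F510502 : act 5 n221721 = n216046 := d17_1 D221721 (iv1 F500740) (iv5 F507232) F507233 F459715 (iv0 F433144) (iv5 F404849) (iv0 D197563) (iv4 F403650)
theorem F510503 : act 3 n221721 = n221586 := d20_5 F245282 (iv1 D108028) (iv4 F166957) (iv3 F403649) D221721 F509724 F417436 F417431 F404072 (iv1 F245280)
theorem F510504 : act 6 n220865 = n221721 := d7_0 F510503 (iv6 D221586) F505969
theorem F510505 : act 2 n221721 = n221139 := d3_1 F510504 (iv6 D221139) (iv2 F505970)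
def n221722 : Q := act 1 n197228
theorem D221722 : act 1 n197228 = n221722 := rfl
theorem F510506 : act 7 n221722 = n221139 := d15_2 (iv0 D221721) D221722 (iv2 F510505)
theorem F510507 : act 4 n212853 = n221722 := d20_0 (iv1 D221722) F403650 F167691 (iv1 F167689) (iv3 F225021) (iv4 F403170) F505173 F505170 F501366 F503525
theorem F510508 : act 3 n197495 = n221722 := d20_3 F404127 (iv1 F334986) F404558 (iv1 D221722) F403649 F166957 F166080 D107763 (iv3 F221862) F404129
theorem F510509 : act 6 n221177 = n221722 := d21_3 D221105 (iv1 F507241) (iv5 F507593) (iv1 D221722) (iv6 D197228) F167058 D108240 (iv5 F167382) D197294 (iv1 F403874)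
theorem F510510 : act 5 n221722 = n216169 := d21_6 (iv5 D145646) F162159 D195410 D221126 F507594 F510509 (iv1 F500761) (iv5 F507065) F507062 (iv1 F463595)
def n221723 : Q := act 5 n197228
theorem D221723 : act 5 n197228 = n221723 := rfl
theorem F510511 : act 3 n221723 = n197231 := d6_1 D221723 (iv5 D197231) (iv3 F403649)
theorem F510512 : act 6 n221723 = n197496 := d12_2 D197228 D221723 (iv5 D197496) (iv6 D108242) (iv5 F167058)
theorem F510513 : act 7 n221723 = n219587 := d13_2 F412824 D221723 F499579
theorem F510514 : act 4 n221723 = n215354 := d16_2 (iv4 F403650) D221723 (iv5 D215354) F271968 D173520 F361594 D199593 F412792 F404846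
def n221724 : Q := act 5 n197229
theorem D221724 : act 5 n197229 = n221724 := rfl
theorem F510515 : act 2 n221724 = n197332 := d2_1 D221724 (iv5 D197332) (iv2 F403651)
theorem F510516 : act 3 n221724 = n197496 := d6_1 D221724 (iv5 D197496) (iv3 F403652)
theorem F510517 : act 6 n221724 = n197231 := d12_2 D197229 D221724 (iv5 D197231) (iv6 D108027) D108026
def n221725 : Q := act 7 n197229
theorem D221725 : act 7 n197229 = n221725 := rfl
theorem F510518 : act 2 n221725 = n197333 := d4_1 D221725 (iv7 D197333) (iv2 F403651)
theorem F510519 : act 3 n221725 = n197497 := d8_1 D221725 (iv7 D197497) (iv3 F403652)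
theorem F510520 : act 4 n221725 = n213868 := d11_1 D221725 (iv7 D213868) (iv4 F403653)
theorem F510521 : act 6 n221725 = n197355 := d14_1 D221725 (iv7 D197355) (iv6 D108112) (iv7 F166955) D197229
theorem F510522 : act 1 n197331 = n221725 := d15_1 D197331 (iv7 D221725) F403651
theorem F510523 : act 1 n221725 = n197330 := d15_1 F510522 (iv7 F472941) F472940
def n221726 : Q := act 3 n197230
theorem D221726 : act 3 n197230 = n221726 := rfl
theorem F510524 : act 4 n221726 = n197473 := d5_2 (iv4 F403654) D221726 (iv3 D197473) F175748 F172461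
theorem F510525 : act 6 n221726 = n209303 := d7_2 (iv6 F403656) D221726 F453114
theorem F510526 : act 7 n221726 = n197336 := d8_2 (iv7 F403657) D221726 (iv3 D197336)
theorem F510527 : act 0 n221726 = n203235 := d20_4 (iv4 F80905) D111201 (iv4 F403654) D221726 F427498 F185795 F317357 D156662 F246390 F167179
theorem F510528 : act 0 n197323 = n221726 := d20_4 (iv4 F472458) (iv1 D156207) (iv4 F167169) (iv3 F403970) (iv3 D221726) F403654 (iv1 F172459) (iv4 F245287) (iv3 F455262) (iv1 F455266)
def n221727 : Q := act 5 n197230
theorem D221727 : act 5 n197230 = n221727 := rfl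
theorem F510529 : act 2 n221727 = n197335 := d2_1 D221727 (iv5 D197335) F403655
theorem F510530 : act 4 n221727 = n216618 := d9_1 D221727 F485192 F431353 (iv5 F407726) F407725 (iv5 F169194) D138645 D210418 F457450 (iv5 D204443) (iv4 F414864) F414863 (iv4 F411740) (iv5 D199331) (iv4 F403654)
theorem F510531 : act 7 n221727 = n197337 := d13_2 (iv7 F403657) D221727 (iv5 D197337)
theorem F510532 : act 0 n221727 = n221068 := d17_2 D197230 D221727 (iv5 D221068) (iv4 D195342) (iv5 F162045) (iv0 F166517) (iv5 D107764) (iv0 F166080) (iv4 F166957)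
theorem F510533 : act 1 n221727 = n221066 := d17_6 (iv1 F168330) (iv5 F332172) (iv1 F411739) (iv5 D199331) (iv4 F403654) D221727 (iv5 D221066) (iv0 F396763) F162060
theorem F510534 : act 6 n216617 = n221727 := d10_0 F510530 (iv6 D216618) D216617
def n221728 : Q := act 4 n197231
theorem D221728 : act 4 n197231 = n221728 := rfl
theorem F510535 : act 2 n221728 = n197340 := d1_1 D221728 (iv4 D197340) (iv2 F403659)
theorem F510536 : act 3 n221728 = n217145 := d5_1 D221728 F487653 (iv3 F479526) (iv4 F510514) F510511
theorem F510537 : act 7 n221728 = n219591 := d11_2 F507099 D221728 (iv4 F507100)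
theorem F510538 : act 5 n221728 = n200193 := d16_1 D221728 (iv4 D200193) (iv5 D112777) (iv4 D52054) F82016 (iv4 F167172) (iv5 F403989) (iv7 D197341) (iv2 F403659)
theorem F510539 : act 0 n221728 = n200202 := d18_2 (iv1 F507110) D221728 (iv4 D200202) (iv5 D112788) (iv4 D52057) D52056 D112784 F396797 (iv5 F507109)
theorem F510540 : act 1 n221728 = n200192 := d18_6 (iv1 F245280) F245282 (iv1 D108028) (iv4 F166957) D197231 D221728 F472868 F472864 F404087
def n221729 : Q := act 6 n197233
theorem D221729 : act 6 n197233 = n221729 := rfl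
theorem F510541 : act 2 n221729 = n197235 := d3_1 D221729 (iv6 D197235) D197233
theorem F510542 : act 3 n221729 = n197392 := d7_1 D221729 (iv6 D197392) F403667
theorem F510543 : act 4 n221729 = n201183 := d10_1 D221729 F419359 F405009
theorem F510544 : act 7 n221729 = n213780 := d14_2 F403666 D221729 (iv6 D213780) F403691 (iv6 D197239)
theorem F510545 : act 0 n221729 = n197342 := d21_4 (iv5 F404114) (iv1 D197389) (iv5 F403665) D221729 F403991 (iv5 F429270) (iv1 F510490) F510487 F479213 (iv1 D205028)
theorem F510546 : act 5 n221729 = n219786 := d21_6 (iv5 F453203) (iv1 F453202) (iv5 D195315) (iv6 F166970) F403668 D221729 F500616 F485182 (iv6 D195336) D195333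
theorem F510547 : act 0 n212644 = n221729 := d17_0 F510546 F500616 F485182 F396745 (iv5 F403210) F403206 (iv5 F434528) (iv0 F434531) D212644
def n221730 : Q := act 6 n197234
theorem D221730 : act 6 n197234 = n221730 := rfl
theorem F510548 : act 2 n221730 = n200432 := d3_1 D221730 (iv6 D200432) (iv2 F403670)
theorem F510549 : act 3 n221730 = n197235 := d7_1 D221730 (iv6 D197235) D197234
theorem F510550 : act 4 n221730 = n200427 := d10_1 D221730 (iv6 D200427) (iv4 F403671)
theorem F510551 : act 7 n221730 = n219896 := d14_2 F403672 D221730 (iv6 D219896) F386692 (iv6 F355181)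
theorem F510552 : act 0 n221730 = n220842 := d21_4 (iv5 F352946) F411892 F411889 D221730 F505838 (iv5 F463720) (iv1 F463718) (iv5 F390760) (iv6 F404158) F404160
def n221731 : Q := act 6 n197240
theorem D221731 : act 6 n197240 = n221731 := rfl
theorem F510553 : act 2 n221731 = n197243 := d3_1 D221731 (iv6 D197243) (iv2 F403694)
theorem F510554 : act 3 n221731 = n197399 := d7_1 D221731 (iv6 D197399) (iv3 F403695)
theorem F510555 : act 4 n221731 = n219869 := d10_1 D221731 F500958 F411774
theorem F510556 : act 5 n221731 = n221044 := d12_1 D221731 F506962 (iv5 D195315) (iv6 F166970) D197240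
theorem F510557 : act 7 n221731 = n219868 := d14_2 (iv7 F403696) D221731 (iv6 D219868) F473309 (iv6 D214065)
theorem F510558 : act 0 n221156 = n221731 := d17_0 F510556 F506964 (iv5 F460805) (iv4 D211248) F366348 F450562 (iv5 F450573) (iv0 F456676) (iv4 F507490)
def n221732 : Q := act 0 n197243
theorem D221732 : act 0 n197243 = n221732 := rfl
theorem F510559 : act 5 n221732 = n197849 := d17_1 D221732 F507034 F507030 (iv4 D219540) (iv5 D191661) F365380 D138101 D210284 F457025
theorem F510560 : act 4 n221732 = n208720 := d18_1 D221732 (iv1 F450571) (iv4 D195438) (iv5 D105594) (iv4 F98540) D134727 (iv4 F423153) (iv0 F423156) (iv5 F403708)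
theorem F510561 : act 6 n221732 = n220334 := d21_5 (iv5 F366667) (iv1 D108031) D108033 D197243 D221732 (iv5 D220334) F456965 (iv5 F482686) (iv6 D216054) F343129
theorem F510562 : act 3 n200013 = n221732 := d7_3 F510561 F503250 (iv6 F414627)
theorem F510563 : act 0 n221732 = n219868 := d21_10 F500952 F434693 F434690 (iv6 D195497) F397111 D221149 F507458 (iv1 D220333) D220334 (iv6 F510561)
theorem F510564 : act 7 n221732 = n221156 := d8_2 (iv7 F422545) F510562 (iv3 D221156)
def n221733 : Q := act 1 n197243
theorem D221733 : act 1 n197243 = n221733 := rfl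
theorem F510565 : act 1 n221733 = n219868 := d15_1 D221733 (iv7 F510557) F510553
theorem F510566 : act 5 n221733 = n197845 := d17_7 (iv1 D202457) (iv5 F224932) F420001 F419999 (iv4 F396686) (iv5 F403708) D221733 (iv0 F507033) F507029
theorem F510567 : act 3 n205031 = n221733 := d19_19 (iv1 D221733) F403708 F396686 (iv3 D141860) (iv1 D66509) (iv5 F101672) (iv4 F331527) (iv3 F178529) (iv1 F371654) F371655 (iv4 F420374) (iv3 F426481) F426483 (iv5 D147326) F105307 (iv3 F105292) (iv1 F316465) D201494 (iv4 F434700)
theorem F510568 : act 2 n221733 = n221156 := d0_1 F510567 (iv3 D221156) (iv2 F422549) (iv3 F446688) F446687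
theorem F510569 : act 4 n221733 = n208721 := d5_2 (iv4 F434700) F510567 (iv3 F457165) F457162 (iv3 F420712)
def n221734 : Q := act 7 n197243
theorem D221734 : act 7 n197243 = n221734 := rfl
theorem F510570 : act 2 n221734 = n219868 := d4_1 D221734 (iv7 F510557) F510553
theorem F510571 : act 3 n221734 = n197247 := d8_1 D221734 (iv7 D197247) (iv3 F403707)
theorem F510572 : act 4 n221734 = n219865 := d11_1 D221734 F500944 F457025
theorem F510573 : act 5 n221734 = n221045 := d13_1 D221734 F506968 (iv5 F403708)
theorem F510574 : act 6 n221734 = n214066 := d14_1 D221734 (iv7 D214066) (iv6 D156271) F166972 D197243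
theorem F510575 : act 1 n221156 = n221734 := d15_1 (iv0 F510558) (iv7 D221734) (iv2 F510553)
theorem F510576 : act 0 n215882 = n221124 := d21_4 (iv5 F510573) (iv1 F510575) F507491 (iv6 F481914) (iv6 D221124) F403985 (iv1 F403987) D205449 (iv6 F436480) (iv1 F506969)
def n221735 : Q := act 5 n197244
theorem D221735 : act 5 n197244 = n221735 := rfl
theorem F510577 : act 2 n221735 = n214847 := d2_1 D221735 (iv5 D214847) (iv2 F403709)
theorem F510578 : act 3 n221735 = n197248 := d6_1 D221735 (iv5 D197248) (iv3 F403710)
theorem F510579 : act 4 n221735 = n198437 := d9_1 D221735 (iv5 D198437) (iv4 F223550) F341307 (iv4 F304242) D121082 D203847 (iv5 F507295) F507294 (iv5 F504461) F408753 F351056 (iv4 D163069) D163070 (iv4 F403711)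
theorem F510580 : act 6 n221735 = n211274 := d12_2 D197244 D221735 F460900 (iv6 D156271) (iv5 F166975)
theorem F510581 : act 7 n221735 = n221052 := d13_2 (iv7 F403712) D221735 (iv5 D221052)
theorem F510582 : act 1 n221735 = n221141 := d17_6 (iv1 F351011) (iv5 D125441) F341250 D163070 (iv4 F403711) D221735 F507413 (iv0 F463610) F244884
def n221736 : Q := act 6 n197246
theorem D221736 : act 6 n197246 = n221736 := rfl
theorem F510583 : act 2 n221736 = n197433 := d3_1 D221736 (iv6 D197433) F404244
theorem F510584 : act 3 n221736 = n221143 := d7_1 D221736 (iv6 D221143) (iv3 F404248)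
theorem F510585 : act 0 n221736 = n211920 := d21_4 F423165 F404250 F404249 D221736 (iv6 D211920) (iv5 F414628) (iv1 D200014) F174596 D115434 D202187
def n221737 : Q := act 1 n197253
theorem D221737 : act 1 n197253 = n221737 := rfl
theorem F510586 : act 1 n221737 = n203554 := d15_1 D221737 F428858 (iv2 F403743)
theorem F510587 : act 7 n221737 = n214038 := d15_2 (iv0 F502640) D221737 (iv2 F502637)
theorem F510588 : act 4 n219653 = n221737 := d20_0 (iv1 D221737) (iv4 F448621) F448620 F215958 D138331 F221530 (iv1 F365461) D193700 D220448 F503832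
theorem F510589 : act 3 n220278 = n221737 := d20_3 (iv4 F470123) F502179 (iv4 F502998) (iv1 D221737) F403744 F167011 D108046 F167014 D137640 D210118
theorem F510590 : act 6 n202393 = n221737 := d21_3 (iv5 F473332) F507274 F507272 (iv1 D221737) (iv6 D197253) F167006 F167082 (iv5 F111497) D156167 D213995
theorem F510591 : act 2 n214039 = n221737 := d4_3 F510587 (iv2 F502637) (iv7 F502642)
def n221738 : Q := act 0 n197263
theorem D221738 : act 0 n197263 = n221738 := rfl
theorem F510592 : act 4 n221738 = n202408 := d18_1 D221738 F423892 F423484 D221151 F507467 (iv0 D219862) (iv4 F500909) (iv0 F503249) F503246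
theorem F510593 : act 5 n221738 = n220088 := d19_1 D221738 (iv4 D220088) (iv3 D192908) (iv1 F385092) (iv5 F479929) F479928 F476803 (iv1 D214778) F460104 F460102 (iv3 F342380) (iv1 F362448) (iv5 F374817) F374816 F235086 F351914 D152622 (iv4 F403954) F403953
theorem F510594 : act 6 n221738 = n202407 := d21_5 (iv5 D49920) (iv1 F78946) D108057 D197263 D221738 F423888 F404109 F403813 (iv6 D197275) (iv1 F167080)
theorem F510595 : act 1 n202201 = n221738 := d15_0 (iv0 D221738) (iv7 F507370) F507366
def n221739 : Q := act 4 n197264
theorem D221739 : act 4 n197264 = n221739 := rfl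
theorem F510596 : act 2 n221739 = n211348 := d1_1 D221739 F461225 (iv2 F403783)
theorem F510597 : act 6 n221739 = n221672 := d10_2 F503247 D221739 F510216
theorem F510598 : act 7 n221739 = n221121 := d11_2 (iv7 F403784) D221739 (iv4 D221121)
theorem F510599 : act 5 n221739 = n214852 := d16_1 D221739 F477149 F409560 F202660 F172670 (iv4 F396613) (iv5 F505978) F505981 (iv2 F403783)
theorem F510600 : act 0 n221739 = n202607 := d17_0 (iv5 F424725) F464587 (iv5 F507341) (iv4 D221125) (iv5 F436469) (iv0 D205447) D205449 F436479 D221739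
theorem F510601 : act 1 n221739 = n212223 := d18_6 D68273 F104425 (iv1 F95718) (iv4 F167066) D197264 D221739 (iv4 D212223) (iv0 D145652) (iv5 D68275)
def n221740 : Q := act 0 n197266
theorem D221740 : act 0 n197266 = n221740 := rfl
theorem F510602 : act 5 n221740 = n201894 := d17_1 D221740 F422267 (iv5 F455930) (iv4 D210049) (iv5 F349478) (iv0 F349475) D204324 F432049 F427069
theorem F510603 : act 4 n221740 = n213289 := d18_1 D221740 F469747 F425292 (iv5 D195480) (iv4 F179472) F179474 D115451 F397315 (iv5 F403788)
theorem F510604 : act 6 n221740 = n213290 := d21_5 (iv5 F176183) (iv1 D113090) (iv5 F167073) D197266 D221740 (iv5 F471908) F471909 F469171 (iv6 D205927) (iv1 D126770)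
theorem F510605 : act 2 n202043 = n221740 := d15_3 (iv0 D221740) (iv0 F426661) F426659
theorem F510606 : act 7 n221740 = n202033 := d4_2 F426659 F510605 (iv2 F426657)
theorem F510607 : act 1 n202341 = n221740 := d15_1 F426662 F510606 (iv2 F426657)
def n221741 : Q := act 7 n197266
theorem D221741 : act 7 n197266 = n221741 := rfl
theorem F510608 : act 2 n221741 = n202341 := d4_1 D221741 F423696 (iv2 F403786)
theorem F510609 : act 3 n221741 = n200422 := d8_1 D221741 (iv7 D200422) (iv3 F403787)
theorem F510610 : act 4 n221741 = n208491 := d11_1 D221741 F449605 F427069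
theorem F510611 : act 5 n221741 = n202339 := d13_1 D221741 F423691 (iv5 F403788)
theorem F510612 : act 6 n221741 = n221036 := d14_1 D221741 F506918 (iv6 F464782) (iv7 F403612) D197266
theorem F510613 : act 1 n202033 = n221741 := d15_1 F426656 (iv7 D221741) F403786
theorem F510614 : act 1 n221741 = n202043 := d15_1 F510613 (iv7 F426659) F426657
def n221742 : Q := act 5 n197269
theorem D221742 : act 5 n197269 = n221742 := rfl
theorem F510615 : act 3 n221742 = n210169 := d6_1 D221742 (iv5 F478056) F478059
theorem F510616 : act 6 n221742 = n219854 := d12_2 D197269 D221742 (iv5 F500908) F461803 (iv5 D197268)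
theorem F510617 : act 4 n221742 = n199381 := d17_4 F501213 (iv5 F484845) (iv1 F464794) D221742 (iv5 F503324) (iv0 F503327) (iv5 F389824) D210717 (iv4 F472232)
def n221743 : Q := act 5 n197271
theorem D221743 : act 5 n197271 = n221743 := rfl
theorem F510618 : act 2 n221743 = n221118 := d2_1 D221743 F507312 (iv2 F507123)
theorem F510619 : act 3 n221743 = n197278 := d6_1 D221743 (iv5 D197278) (iv3 F403801)
theorem F510620 : act 6 n221743 = n197273 := d12_2 D197271 D221743 (iv5 D197273) (iv6 D108063) D108062
theorem F510621 : act 7 n221743 = n216052 := d13_2 F507125 D221743 (iv5 F507126)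
theorem F510622 : act 0 n221743 = n221038 := d17_2 F507115 D221743 (iv5 D221038) F396612 D209302 (iv0 F453113) F443534 (iv0 F443533) (iv4 F507114)
theorem F510623 : act 1 n221743 = n221119 := d17_6 (iv1 F393850) F393847 (iv1 F408129) F463056 F463054 D221743 F507319 (iv0 F462117) (iv4 D198471)
def n221744 : Q := act 6 n197276
theorem D221744 : act 6 n197276 = n221744 := rfl
theorem F510624 : act 3 n221744 = n218134 := d7_1 D221744 F492294 F429271
theorem F510625 : act 4 n221744 = n202039 := d10_1 D221744 F472372 F472368
theorem F510626 : act 7 n221744 = n202034 := d14_2 F472786 D221744 (iv6 D202034) (iv7 F422266) (iv6 F472785)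
def n221745 : Q := act 2 n197281
theorem D221745 : act 2 n197281 = n221745 := rfl
theorem F510627 : act 3 n221745 = n213916 := d0_2 D197281 D221745 (iv2 F472724) (iv3 D205993) (iv2 F204172)
theorem F510628 : act 4 n221745 = n207189 := d1_2 (iv4 F403822) D221745 (iv2 D207189)
theorem F510629 : act 5 n221745 = n202639 := d2_2 F462115 D221745 (iv2 F462111)
theorem F510630 : act 6 n221745 = n210564 := d3_2 F507139 D221745 (iv2 F507143)
theorem F510631 : act 7 n221745 = n212059 := d4_2 F438733 D221745 F464169
theorem F510632 : act 1 n221745 = n213342 := d15_0 (iv0 F470012) F438733 D221745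
theorem F510633 : act 1 n220427 = n221745 := d15_0 F510632 F470011 (iv2 F503720)
def n221746 : Q := act 6 n197283
theorem D221746 : act 6 n197283 = n221746 := rfl
theorem F510634 : act 2 n221746 = n210803 := d3_1 D221746 (iv6 F458858) F403828
theorem F510635 : act 3 n221746 = n210799 := d7_1 D221746 (iv6 F463615) F463612
theorem F510636 : act 4 n221746 = n213072 := d10_1 D221746 F468860 F403829
theorem F510637 : act 5 n221746 = n216617 := d12_1 D221746 F510534 (iv5 D221727) F403656 (iv5 F403827)
theorem F510638 : act 7 n221746 = n210794 := d14_2 (iv7 F403826) D221746 (iv6 D210794) (iv7 F323667) F397018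
theorem F510639 : act 0 n221746 = n210795 := d21_4 F397043 (iv1 F396648) (iv5 F403827) D221746 (iv6 D210795) (iv5 D139814) (iv1 F103711) F162345 D195501 (iv1 F397164)
theorem F510640 : act 1 n221746 = n210805 := d15_1 (iv0 F510639) (iv7 D210805) (iv2 F458825)
def n221747 : Q := act 6 n197290
theorem D221747 : act 6 n197290 = n221747 := rfl
theorem F510641 : act 2 n221747 = n197291 := d3_1 D221747 (iv6 D197291) D197290
theorem F510642 : act 3 n221747 = n211307 := d7_1 D221747 F461058 (iv3 F403855)
theorem F510643 : act 4 n221747 = n203558 := d10_1 D221747 F428876 (iv4 F403856)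
theorem F510644 : act 7 n221747 = n203555 := d14_2 (iv7 F403858) D221747 (iv6 D203555) F423897 (iv6 D202409)
theorem F510645 : act 0 n221747 = n202382 := d21_4 F423629 F423628 (iv5 F403857) D221747 (iv6 D202382) D202381 F458733 F458732 (iv6 D156002) D155998
theorem F510646 : act 5 n221747 = n210756 := d21_6 (iv5 D25841) (iv1 F40766) (iv5 F82605) D113192 (iv1 F403859) D221747 (iv1 D210756) (iv5 D139647) (iv6 D65540) F49188
theorem F510647 : act 0 n215327 = n221747 := d21_4 D115253 (iv1 F386647) (iv5 F401106) (iv6 F479418) (iv6 D221747) F403857 (iv1 F423818) F423815 (iv6 F359972) (iv1 D115251)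
def n221748 : Q := act 1 n197295
theorem D221748 : act 1 n197295 = n221748 := rfl
theorem F510648 : act 1 n221748 = n199214 := d15_1 D221748 F438085 F438082
theorem F510649 : act 5 n221748 = n202032 := d17_7 (iv1 F219842) F321998 D129591 (iv5 F359086) D205836 F438074 D221748 (iv0 F454393) (iv4 D209631)
theorem F510650 : act 3 n202033 = n221748 := d19_19 (iv1 D221748) (iv5 F438074) (iv4 D205836) D205835 (iv1 F438066) (iv5 F418060) (iv4 D200823) (iv3 F204714) (iv1 F230614) (iv5 D113448) (iv4 F174309) (iv3 D112108) (iv1 F81633) (iv5 F349486) F349485 (iv3 F349449) (iv1 F349450) D203018 F426653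
theorem F510651 : act 6 n221103 = n221748 := d21_3 F510502 (iv1 F500740) (iv5 F507232) (iv1 D221748) (iv6 D197295) F167384 (iv1 D108241) (iv5 F167058) D197228 D221721
theorem F510652 : act 2 n221748 = n207842 := d3_1 F510651 F446672 F507234
def n221749 : Q := act 3 n197298
theorem D221749 : act 3 n197298 = n221749 := rfl
theorem F510653 : act 2 n221749 = n221434 := d0_1 D221749 F509011 (iv2 F483030) F483031 F463694
theorem F510654 : act 5 n221749 = n210193 := d6_2 (iv5 F403897) D221749 (iv3 D210193)
theorem F510655 : act 7 n221749 = n205490 := d8_2 F403902 D221749 F436669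
theorem F510656 : act 4 n221749 = n205493 := d20_6 F103691 F49722 (iv4 F78967) (iv3 F167108) D197298 D221749 (iv1 F436695) (iv4 F463569) (iv3 D211916) (iv1 D144413)
theorem F510657 : act 0 n221749 = n221550 := d20_10 (iv4 F510133) (iv1 D221656) (iv4 F407854) (iv3 F507396) F507398 F503057 F482672 (iv1 F459788) F403901 D221749
theorem F510658 : act 0 n221549 = n221749 := d20_4 F227194 F359090 (iv4 F472631) (iv3 F509548) (iv3 D221749) (iv4 F403901) (iv1 F459789) F459791 F403802 F396645
theorem F510659 : act 6 n221557 = n221749 := d10_0 F510656 F436694 (iv4 F509576)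
def n221750 : Q := act 6 n197298
theorem D221750 : act 6 n197298 = n221750 := rfl
theorem F510660 : act 2 n221750 = n221104 := d3_1 D221750 F507235 F463694
theorem F510661 : act 3 n221750 = n221557 := d7_1 D221750 F510659 (iv3 D221749)
theorem F510662 : act 4 n221750 = n215891 := d10_1 D221750 F481955 F403901
theorem F510663 : act 7 n221750 = n221033 := d14_2 F403902 D221750 (iv6 D221033) F396589 D195388
theorem F510664 : act 0 n221750 = n221103 := d21_4 F464841 (iv1 F391415) (iv5 F403897) D221750 F510651 F510649 (iv1 F454405) (iv5 F462131) F462132 F464842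
theorem F510665 : act 5 n204043 = n221750 := d21_2 (iv5 F499579) F499580 (iv6 D221750) (iv1 F463702) F463700 D220291 (iv1 F503808) (iv5 F503809) D221139 F507403
theorem F510666 : act 0 n221065 = n221750 := d21_4 F404004 (iv1 F397221) (iv5 F463592) (iv6 F507062) (iv6 D221750) F403897 (iv1 F391419) (iv5 F464807) (iv6 D212220) F404008
def n221751 : Q := act 3 n197301
theorem D221751 : act 3 n197301 = n221751 := rfl
theorem F510667 : act 2 n221751 = n215614 := d0_1 D221751 F480769 (iv2 F500034) F500035 F472690
theorem F510668 : act 4 n221751 = n203550 := d5_2 F472361 D221751 (iv3 D203550) D203551 (iv3 F472355)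
theorem F510669 : act 0 n221751 = n206296 := d20_4 F404198 (iv1 F472352) F472361 D221751 (iv3 F440125) (iv4 F440141) F440143 F438416 (iv3 F508992) (iv1 F508996)
theorem F510670 : act 6 n221164 = n221751 := d21_3 F481356 (iv1 F401589) D221164 F510669 F440123 F403809 (iv1 F454543) F454540 (iv6 F507528) (iv1 F507529)
theorem F510671 : act 0 n197416 = n221751 := d21_4 F397134 F167091 D156042 (iv6 F404191) (iv6 F510670) (iv5 D221164) (iv1 D195490) D195491 F397131 D195493
def n221752 : Q := act 5 n197301
theorem D221752 : act 5 n197301 = n221752 := rfl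
theorem F510672 : act 2 n221752 = n219912 := d2_1 D221752 F501157 F472690
theorem F510673 : act 7 n221752 = n219892 := d13_2 F472684 D221752 F501075
theorem F510674 : act 0 n221752 = n219911 := d17_2 (iv1 F510496) D221752 (iv5 F501152) F482691 F467345 F503590 (iv5 D214050) F472583 (iv4 F510493)
theorem F510675 : act 4 n221752 = n219894 := d18_5 (iv1 F508996) F404198 (iv1 F472352) F472361 D221752 F501085 F397127 D221161 (iv5 F508990)
theorem F510676 : act 0 n219910 = n221752 := d19_0 (iv5 D221752) (iv4 F472361) F472355 F428846 (iv5 F426874) F426875 (iv3 F428949) F485953 F485952 F426472 F426468 F248118 (iv5 D157469) D157468 (iv3 F468524) F469711 F469708 (iv4 F460871) (iv3 F501149)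
def n221753 : Q := act 6 n197301
theorem D221753 : act 6 n197301 = n221753 := rfl
theorem F510677 : act 3 n221753 = n221164 := d7_1 D221753 F510670 (iv3 D221751)
theorem F510678 : act 5 n221163 = n221753 := d21_2 F510593 F507524 (iv6 D221753) (iv1 D197301) (iv6 D108081) (iv5 D49920) (iv1 F78946) D108057 D197263 D221738
theorem F510679 : act 0 n221079 = n221753 := d21_4 F423251 (iv1 D195351) D195353 D221079 (iv6 D221753) D221752 F510674 (iv5 F501152) F482692 F461035
def n221754 : Q := act 0 n197302
theorem D221754 : act 0 n197302 = n221754 := rfl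
theorem F510680 : act 5 n221754 = n210175 := d17_3 (iv1 D197301) D197302 D221754 (iv4 F500461) (iv5 F500465) (iv0 F428877) (iv5 F245043) D213844 F472361
theorem F510681 : act 4 n221754 = n210518 := d20_2 F458104 D221754 F457892 F411792 F172473 F80916 (iv1 F53594) (iv4 F101153) (iv3 F222628) (iv1 F458099)
theorem F510682 : act 3 n221754 = n210176 := d20_5 D211462 F469986 (iv4 F470022) F470021 D221754 (iv4 F507219) F507222 F459648 F461644 (iv1 D211461)
theorem F510683 : act 6 n221754 = n210516 := d21_5 (iv5 D139401) F101148 D108083 (iv6 F403904) D221754 (iv5 F457886) (iv1 F446680) F434704 D208252 (iv1 F448593)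
theorem F510684 : act 1 n211932 = n221754 := d15_0 (iv0 D221754) (iv7 F458132) F463636
def n221755 : Q := act 1 n197302
theorem D221755 : act 1 n197302 = n221755 := rfl
theorem F510685 : act 1 n221755 = n211932 := d15_1 D221755 F463635 F458137
theorem F510686 : act 3 n197414 = n221755 := d20_3 F167083 D156264 F462999 (iv1 D221755) (iv3 F470021) F470022 F503012 F503007 F482662 (iv1 D197277)
def n221756 : Q := act 2 n197304
theorem D221756 : act 2 n197304 = n221756 := rfl
theorem F510687 : act 4 n221756 = n214205 := d1_2 (iv4 F403907) D221756 (iv2 D214205)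
theorem F510688 : act 6 n221756 = n221133 := d3_2 F463144 D221756 F507380
theorem F510689 : act 7 n221756 = n221078 := d4_2 (iv7 F403908) D221756 F507112
theorem F510690 : act 1 n221756 = n221080 := d15_0 (iv0 D221080) (iv7 F403908) D221756
theorem F510691 : act 1 n221081 = n221756 := d15_0 F510690 (iv7 F507124) (iv2 F507130)
def n221757 : Q := act 4 n197305
theorem D221757 : act 4 n197305 = n221757 := rfl
theorem F510692 : act 3 n221757 = n199039 := d5_1 D221757 (iv4 F505991) (iv3 D220870) D220871 F505995
theorem F510693 : act 7 n221757 = n219639 := d11_2 (iv7 F403909) D221757 F499800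
theorem F510694 : act 5 n221757 = n221012 := d16_1 D221757 (iv4 D221012) (iv5 D195256) F161916 F83826 (iv4 F101147) D139401 D210571 F458077
theorem F510695 : act 0 n221757 = n211946 := d17_0 F463685 (iv1 F499646) (iv5 F501288) F501287 (iv5 D211245) F397236 (iv5 F448590) (iv0 F448592) D221757
theorem F510696 : act 1 n221757 = n211945 := d18_6 D67682 F111121 D106957 (iv4 F167110) D197305 D221757 (iv4 D211945) (iv0 D144442) (iv5 D67684)
theorem F510697 : act 6 n219860 = n221757 := d12_0 F510694 F506793 F499616 D220664 F504867
def n221758 : Q := act 6 n197305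
theorem D221758 : act 6 n197305 = n221758 := rfl
theorem F510698 : act 4 n221758 = n219860 := d10_1 D221758 F510697 (iv4 D221757)
theorem F510699 : act 7 n221758 = n219857 := d14_2 (iv7 F403909) D221758 (iv6 D219857) (iv7 F499793) (iv6 F499797)
theorem F510700 : act 0 n221758 = n219901 := d21_4 (iv5 D108083) D108082 D197305 D221758 (iv6 D219901) (iv5 F467603) (iv1 F501285) (iv5 D219940) F438417 (iv1 D197308)
theorem F510701 : act 0 n199372 = n221758 := d21_4 (iv5 D108033) D108030 F356564 D199372 (iv6 D221758) (iv5 D197305) (iv1 F222611) D210568 F458066 F356552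
def n221759 : Q := act 3 n197314
theorem D221759 : act 3 n197314 = n221759 := rfl
theorem F510702 : act 2 n221759 = n215976 := d0_1 D221759 (iv3 D215976) F411744 (iv3 D199332) (iv2 F410254)
theorem F510703 : act 4 n221759 = n216063 := d5_2 F410251 D221759 F482731 (iv4 D198999) D198998
theorem F510704 : act 5 n221759 = n215976 := d6_2 F403940 D221759 (iv3 D215976)
theorem F510705 : act 7 n221759 = n199335 := d8_2 (iv7 F410252) D221759 (iv3 D199335)
theorem F510706 : act 0 n221759 = n197492 := d19_4 F426925 (iv5 F426924) F410251 D221759 F404548 F403867 (iv3 F476771) F476774 F457200 (iv4 F262463) (iv3 F441680) (iv1 F441682) (iv5 F343512) F343511 F191015 (iv1 F313591) D157035 F316072 D175389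
theorem F510707 : act 0 n197346 = n221759 := d20_4 F343128 (iv1 F387488) F387486 D197346 (iv3 D221759) (iv4 F410251) F411799 F411796 F280196 (iv1 F315168)
def n221760 : Q := act 6 n197314
theorem D221760 : act 6 n197314 = n221760 := rfl
theorem F510708 : act 2 n221760 = n199334 := d3_1 D221760 (iv6 D199334) (iv2 F410254)
theorem F510709 : act 0 n221760 = n197334 := d21_4 (iv5 F403959) F403966 F403940 D221760 F403982 (iv5 F397023) (iv1 F227204) D144440 F454530 (iv1 F454529)
def n221761 : Q := act 6 n197315
theorem D221761 : act 6 n197315 = n221761 := rfl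
theorem F510710 : act 2 n221761 = n197316 := d3_1 D221761 (iv6 D197316) D197315
theorem F510711 : act 3 n221761 = n211492 := d7_1 D221761 F461803 (iv3 F403934)
theorem F510712 : act 4 n221761 = n199365 := d10_1 D221761 (iv6 D199365) (iv4 F403935)
theorem F510713 : act 5 n221761 = n220350 := d12_1 D221761 F503330 (iv5 F478056) (iv6 F478060) (iv5 F403936)
theorem F510714 : act 7 n221761 = n221128 := d14_2 (iv7 F403937) D221761 (iv6 D221128) F396934 F215917
theorem F510715 : act 0 n221761 = n221130 := d21_4 F454527 (iv1 F411760) (iv5 F403936) D221761 F507365 (iv5 F507578) (iv1 F507580) (iv5 D204343) (iv6 F365422) D209659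
theorem F510716 : act 0 n221129 = n221761 := d19_0 F510713 (iv4 D220350) (iv3 F460926) F460930 (iv5 F453785) F360988 F106256 (iv1 F297846) (iv5 D18491) F13614 F5853 D3898 D8701 D18527 D39025 D84565 D177513 F397132 (iv3 F507361)
def n221762 : Q := act 0 n197316
theorem D221762 : act 0 n197316 = n221762 := rfl
theorem F510717 : act 4 n221762 = n213534 := d18_3 (iv1 D199382) (iv4 F403943) D221762 F470905 D220579 (iv0 F504449) F456472 F503335 F503334
theorem F510718 : act 3 n221762 = n214845 := d20_5 (iv4 F167248) (iv1 F168329) (iv4 F167124) (iv3 F403942) D221762 (iv4 D214845) (iv1 F353961) (iv4 F396688) F396687 (iv1 F167246)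
theorem F510719 : act 6 n221762 = n213533 := d21_5 (iv5 F434686) F403811 F403805 D197316 D221762 F470899 (iv1 F507569) F507571 (iv6 F454541) (iv1 F454544)
theorem F510720 : act 1 n221128 = n221762 := d15_0 (iv0 D221762) F403944 (iv2 F507357)
theorem F510721 : act 5 n221762 = n221159 := d18_9 (iv1 F507501) F507391 F454811 (iv4 F506915) F506913 F460866 F424316 (iv4 F507358) F510720
theorem F510722 : act 7 n221129 = n221762 := d13_0 F510721 (iv7 D221159) (iv5 F507359)
theorem F510723 : act 2 n221762 = n221130 := d15_3 (iv0 F510715) (iv0 F510716) F510722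
def n221763 : Q := act 1 n197316
theorem D221763 : act 1 n197316 = n221763 := rfl
theorem F510724 : act 1 n221763 = n221128 := d15_1 D221763 (iv7 F510714) F510710
theorem F510725 : act 7 n221763 = n221130 := d15_2 (iv0 D221762) D221763 (iv2 F510723)
theorem F510726 : act 5 n221763 = n221152 := d18_9 F507472 F460366 F503266 F503261 D221742 F510617 (iv0 D199381) (iv4 F403943) D221763
theorem F510727 : act 3 n221542 = n221763 := d20_3 (iv4 F412401) F412402 (iv4 F509506) (iv1 D221763) F403942 F167124 F168328 D107419 D196880 F402137
theorem F510728 : act 4 n210009 = n221763 := d20_6 (iv4 F170585) (iv1 D51145) (iv4 F80678) F338257 (iv1 F220385) D210009 (iv1 D221763) F403943 F172558 (iv1 F101079)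
theorem F510729 : act 2 n221763 = n221129 := d1_1 F510728 F507360 F501163
theorem F510730 : act 6 n221763 = n221154 := d10_2 F501076 F510728 F507479
def n221764 : Q := act 5 n197316
theorem D221764 : act 5 n197316 = n221764 := rfl
theorem F510731 : act 2 n221764 = n220350 := d2_1 D221764 (iv5 F510713) F510710
theorem F510732 : act 3 n221764 = n197317 := d6_1 D221764 (iv5 D197317) (iv3 F403942)
theorem F510733 : act 6 n221764 = n211268 := d12_2 D197316 D221764 (iv5 F469154) F469152 F403805
theorem F510734 : act 7 n221764 = n220353 := d13_2 (iv7 F403944) D221764 (iv5 F503345)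
theorem F510735 : act 4 n221764 = n220349 := d16_2 (iv4 F403943) D221764 F503324 (iv4 F510617) (iv5 D221742) (iv4 F503261) F503262 F424315 F411867
theorem F510736 : act 1 n221764 = n220573 := d17_6 F472013 F472010 F454811 (iv5 D199383) (iv4 F403943) D221764 (iv5 F507227) (iv0 F507228) F484852
theorem F510737 : act 1 n220578 = n221764 := d18_6 D210716 (iv4 F503252) (iv1 F506922) F506924 F499847 (iv4 F504444) F510735 (iv0 F503327) (iv5 F389824)
def n221765 : Q := act 1 n197322
theorem D221765 : act 1 n197322 = n221765 := rfl
theorem F510738 : act 1 n221765 = n197327 := d15_1 D221765 (iv7 D197327) (iv2 F403969)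
theorem F510739 : act 7 n221765 = n197324 := d15_2 (iv0 F456479) D221765 (iv2 F503367)
theorem F510740 : act 3 n197331 = n221765 := d20_3 F404082 (iv1 F245395) (iv4 F472240) (iv1 D221765) (iv3 F510499) F510500 (iv1 F404848) D204688 (iv3 F455255) (iv1 F455265)
theorem F510741 : act 4 n221765 = n210472 := d20_6 (iv4 D138712) (iv1 F317367) (iv4 F404561) (iv3 F510519) (iv1 F510522) F510740 (iv1 D210472) (iv4 F457641) F457640 F363423
theorem F510742 : act 2 n197325 = n221765 := d1_3 F510741 (iv2 F503359) F503363
def n221766 : Q := act 5 n197322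
theorem D221766 : act 5 n197322 = n221766 := rfl
theorem F510743 : act 2 n221766 = n197326 := d2_1 D221766 (iv5 D197326) (iv2 F403969)
theorem F510744 : act 0 n221766 = n216990 := d17_2 (iv1 D221765) D221766 (iv5 F486892) F454879 D209769 (iv0 F457683) (iv5 D210473) D210472 (iv4 F510741)
theorem F510745 : act 4 n210059 = n221766 := d20_0 F510744 F486890 (iv3 D186616) (iv1 F137142) D187022 (iv4 F488019) F488024 (iv4 F395421) (iv3 F506409) F506410
def n221767 : Q := act 7 n197322
theorem D221767 : act 7 n197322 = n221767 := rfl
theorem F510746 : act 2 n221767 = n197327 := d4_1 D221767 (iv7 D197327) (iv2 F403969)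
theorem F510747 : act 4 n221767 = n219745 := d11_1 D221767 F500394 F452526
theorem F510748 : act 1 n197325 = n221767 := d15_1 D197325 (iv7 D221767) F403969
theorem F510749 : act 1 n221767 = n197324 := d15_1 F510748 (iv7 F510739) (iv2 F510742)
def n221768 : Q := act 1 n197323
theorem D221768 : act 1 n197323 = n221768 := rfl
theorem F510750 : act 1 n221768 = n203235 := d15_1 D221768 F427499 F416350
theorem F510751 : act 2 n197336 = n221768 := d15_3 F510750 (iv0 F510527) F510526
def n221769 : Q := act 5 n197323
theorem D221769 : act 5 n197323 = n221769 := rfl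
theorem F510752 : act 3 n221769 = n197332 := d6_1 D221769 (iv5 D197332) (iv3 F403970)
theorem F510753 : act 6 n221769 = n197326 := d12_2 D197323 D221769 (iv5 D197326) (iv6 D108093) D108092
theorem F510754 : act 0 n221769 = n211805 := d21_7 F422702 F422701 F397321 F219377 (iv1 F176187) D197323 D221769 (iv5 D211805) (iv6 D144121) D144118
def n221770 : Q := act 4 n197324
theorem D221770 : act 4 n197324 = n221770 := rfl
theorem F510755 : act 2 n221770 = n209439 := d1_1 D221770 (iv4 F456478) F503367
theorem F510756 : act 3 n221770 = n220215 := d5_1 D221770 F502694 (iv3 F455283) D213972 (iv3 F472934)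
theorem F510757 : act 6 n221770 = n211565 := d10_2 (iv6 F503368) D221770 (iv4 F462166)
theorem F510758 : act 7 n221770 = n210472 := d11_2 F510739 D221770 (iv4 F510741)
theorem F510759 : act 0 n221770 = n210474 := d20_1 D221770 (iv4 F464134) F464133 F357855 F246390 (iv4 D108103) (iv1 D49929) (iv4 F78973) (iv3 F167129) D197324
theorem F510760 : act 0 n210469 = n221770 := d21_4 D209386 (iv1 F457669) (iv5 D210468) D210469 F510757 (iv5 F480931) (iv1 F480935) F384668 D192085 F385483
def n221771 : Q := act 5 n197324
theorem D221771 : act 5 n197324 = n221771 := rfl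
def n221772 : Q := act 5 n197325
theorem D221772 : act 5 n197325 = n221772 := rfl
theorem F510761 : act 3 n221772 = n217653 := d6_1 D221772 F503258 (iv3 F503364)
theorem F510762 : act 4 n217213 = n221772 := d5_0 F510761 (iv4 D217653) F371243 (iv4 F368815) D217213
def n221773 : Q := act 1 n197326
theorem D221773 : act 1 n197326 = n221773 := rfl
theorem F510763 : act 7 n221773 = n216990 := d15_2 (iv0 F507161) D221773 (iv2 F507158)
theorem F510764 : act 5 n211463 = n221773 := d21_0 (iv1 D221773) (iv5 D197326) (iv6 D108093) D108089 D197319 (iv5 F403956) (iv1 F469163) (iv5 F498965) (iv6 F507155) F507157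
theorem F510765 : act 3 n221773 = n216209 := d6_1 F510764 F483383 (iv3 F461651)
theorem F510766 : act 6 n221773 = n210428 := d12_2 D211463 F510764 (iv5 D210428) F221863 D142253
theorem F510767 : act 4 n221773 = n216996 := d19_2 F507157 F510764 F486903 (iv1 F367452) (iv5 D92810) (iv4 D43421) (iv3 F40334) D52538 (iv5 F251942) (iv4 F288024) D191181 F382496 (iv5 F394581) (iv4 F394585) (iv3 F433146) (iv1 F433152) D204687 (iv4 F509523) F509522
def n221774 : Q := act 4 n197326
theorem D221774 : act 4 n197326 = n221774 := rfl
theorem F510768 : act 2 n221774 = n210059 := d1_1 D221774 F510745 F510743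
theorem F510769 : act 5 n208342 = n221774 := d19_1 (iv1 F450328) (iv4 D221774) F403971 (iv1 F396794) (iv5 D195349) F162060 F78237 D50278 F81223 (iv4 F173071) F323823 (iv1 D86083) D86085 (iv4 F344460) (iv3 F168216) F101084 (iv5 F98694) D134880 D208649
def n221775 : Q := act 7 n197326
theorem D221775 : act 7 n197326 = n221775 := rfl
theorem F510770 : act 3 n221775 = n197341 := d8_1 D221775 (iv7 D197341) (iv3 F403971)
theorem F510771 : act 5 n221775 = n197327 := d13_1 D221775 (iv7 D197327) D197326
theorem F510772 : act 0 n216990 = n221775 := d19_0 F510771 (iv4 F452552) F452551 (iv1 F218609) D136506 D209475 (iv3 F495735) (iv1 F501881) F501879 F487696 F390745 (iv1 F476574) F476571 (iv4 D182927) (iv3 F283528) (iv1 D88915) D88916 D186614 D216990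
def n221776 : Q := act 0 n197329
theorem D221776 : act 0 n197329 = n221776 := rfl
theorem F510773 : act 4 n221776 = n202377 := d18_3 (iv1 F433595) (iv4 F403979) D221776 F423825 (iv4 F423855) (iv0 F455645) (iv4 F469402) (iv0 F469404) (iv5 D202423)
theorem F510774 : act 6 n221776 = n197412 := d21_5 (iv5 D108024) (iv1 F100141) (iv5 F167130) D197329 D221776 (iv5 D197412) D197411 F416368 (iv6 D200423) (iv1 F176196)
theorem F510775 : act 5 n221776 = n197410 := d21_8 (iv5 D179908) (iv1 D85967) D85969 D179918 F404339 D221122 F507334 D221776 (iv6 D197410) F364525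
theorem F510776 : act 1 n221131 = n221776 := d15_0 (iv0 D221776) (iv7 F423225) (iv2 F507366)
theorem F510777 : act 3 n197437 = n221776 := d19_19 (iv1 F510776) F507369 F478068 F464612 (iv1 F464580) (iv5 F509745) F509746 (iv3 F467140) (iv1 F387939) (iv5 D192830) (iv4 F312371) (iv3 D61215) (iv1 D28982) (iv5 F23406) F23405 (iv3 F46925) D61748 (iv5 F333705) (iv4 F404314)
theorem F510778 : act 7 n221776 = n211271 := d8_2 (iv7 F404313) F510777 (iv3 D211271)
theorem F510779 : act 2 n221776 = n221738 := d15_3 (iv0 D221738) (iv0 F460887) (iv7 F510778)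
def n221777 : Q := act 1 n197329
theorem D221777 : act 1 n197329 = n221777 := rfl
theorem F510780 : act 1 n221777 = n221131 := d15_1 D221777 F507370 (iv2 F403978)
theorem F510781 : act 7 n221777 = n221738 := d15_2 (iv0 D221776) D221777 (iv2 F510779)
theorem F510782 : act 5 n221777 = n219866 := d17_7 F490758 F402236 F402237 D196988 (iv4 F507333) F507334 D221777 (iv0 F503238) F503236
theorem F510783 : act 4 n221777 = n207375 := d18_7 (iv1 F423808) F245585 F423526 F423524 F423309 (iv4 F403979) D221777 F452226 F452224
theorem F510784 : act 3 n219867 = n221777 := d20_9 F403979 D209885 F507461 (iv3 F507462) F407013 F401540 F434520 F461694 F500950 (iv1 D221777)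
theorem F510785 : act 6 n221047 = n221777 := d21_3 F472768 (iv1 F460857) D221047 (iv1 D221777) (iv6 D197329) F167130 F100140 D108022 D197220 F472769
theorem F510786 : act 2 n221777 = n211271 := d0_1 F510784 (iv3 D211271) (iv2 F404608) (iv3 F507304) F507303
def n221778 : Q := act 3 n197330
theorem D221778 : act 3 n197330 = n221778 := rfl
theorem F510787 : act 4 n221778 = n221691 := d5_2 (iv4 F472459) D221778 (iv3 F510325) F455277 (iv3 D209891)
theorem F510788 : act 0 n221778 = n213779 := d19_4 F472698 (iv5 D209893) (iv4 F472459) D221778 (iv5 F472060) (iv4 D182193) (iv3 D86991) (iv1 F133353) F133351 F61382 F30592 (iv1 F30595) D19094 D40425 D87033 (iv1 F151982) (iv5 F285724) (iv4 F359518) (iv3 F458743)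
theorem F510789 : act 1 n221778 = n215977 := d15_1 (iv0 F510788) (iv7 F510337) F510334
def n221779 : Q := act 5 n197330
theorem D221779 : act 5 n197330 = n221779 := rfl
def n221780 : Q := act 6 n197330
theorem D221780 : act 6 n197330 = n221780 := rfl
theorem F510790 : act 2 n221780 = n220549 := d3_1 D221780 F504311 F472931
theorem F510791 : act 4 n221780 = n209894 := d10_1 D221780 (iv6 D209894) (iv4 F472459)
theorem F510792 : act 5 n221780 = n221755 := d21_6 (iv5 D52198) F45691 D49926 D108096 D197330 D221780 (iv1 D221755) (iv5 D197302) (iv6 D108081) (iv1 F82526)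
theorem F510793 : act 1 n202342 = n221780 := d18_8 (iv1 D221755) (iv4 F458104) (iv1 D210576) (iv4 F458028) (iv5 F473161) F473256 (iv0 D202343) (iv4 F423698) F510792
def n221781 : Q := act 5 n197331
theorem D221781 : act 5 n197331 = n221781 := rfl
theorem F510794 : act 6 n221781 = n210807 := d12_2 F472239 D221781 (iv5 D210807) (iv6 F381025) D213822
theorem F510795 : act 4 n221781 = n210852 := d16_2 (iv4 F472240) D221781 (iv5 D210852) (iv4 F423305) (iv5 F472987) F472986 (iv5 D209893) F455287 (iv2 F455286)
def n221782 : Q := act 0 n197332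
theorem D221782 : act 0 n197332 = n221782 := rfl
theorem F510796 : act 5 n221782 = n202034 := d17_3 (iv1 D197331) D197332 D221782 F422764 D202038 (iv0 F422768) F220180 D137069 (iv4 F472240)
def n221783 : Q := act 1 n197332
theorem D221783 : act 1 n197332 = n221783 := rfl
theorem F510797 : act 6 n220199 = n221783 := d21_3 F486887 (iv1 F475636) (iv5 F502606) (iv1 D221783) F403980 (iv5 D108099) D108097 D197335 F483292 (iv1 F486889)
theorem F510798 : act 4 n221783 = n220198 := d10_1 F510797 F502602 D220199
def n221784 : Q := act 4 n197332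
theorem D221784 : act 4 n197332 = n221784 := rfl
theorem F510799 : act 6 n221784 = n197340 := d10_2 (iv6 F403980) D221784 (iv4 D197340)
theorem F510800 : act 5 n214043 = n221784 := d12_5 F510799 F468028 (iv6 F468027) (iv5 F332250) D214043
theorem F510801 : act 0 n217299 = n221784 := d21_4 (iv5 F372295) (iv1 D188087) (iv5 F369215) D217299 F510799 F468028 (iv1 F478224) (iv5 F500780) (iv6 F500782) (iv1 F486872)
theorem F510802 : act 4 n221782 = n219416 := d20_2 (iv4 D221784) D221782 (iv3 D219416) D219414 F498783 D219963 F501400 F483788 (iv3 F488331) F510801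
theorem F510803 : act 3 n216210 = n221782 := d5_5 F510802 (iv3 D219416) (iv4 D191420) (iv3 F367435) (iv4 F483386)
def n221785 : Q := act 7 n197332
theorem D221785 : act 7 n197332 = n221785 := rfl
theorem F510804 : act 5 n221785 = n197333 := d13_1 D221785 (iv7 D197333) D197332
def n221786 : Q := act 5 n197334
theorem D221786 : act 5 n197334 = n221786 := rfl
theorem F510805 : act 3 n221786 = n197335 := d6_1 D221786 (iv5 D197335) D197334
theorem F510806 : act 6 n221786 = n213952 := d12_2 (iv6 F403982) D221786 F472866 F396757 F397023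
def n221787 : Q := act 5 n197336
theorem D221787 : act 5 n197336 = n221787 := rfl
theorem F510807 : act 3 n221787 = n197337 := d6_1 D221787 (iv5 D197337) D197336
theorem F510808 : act 4 n216985 = n221787 := d19_2 F488312 (iv5 F486876) F510807 (iv1 F415481) (iv5 D200195) (iv4 D112780) D112779 (iv1 F203880) F104288 F169322 F380409 (iv1 D190636) (iv5 F369747) (iv4 F425571) (iv3 F425572) D217409 F488774 F385936 D217293
theorem F510809 : act 6 n221787 = n216984 := d10_2 D216985 F510808 (iv4 D216984)
def n221788 : Q := act 6 n197336
theorem D221788 : act 6 n197336 = n221788 := rfl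
theorem F510810 : act 3 n221788 = n197338 := d7_1 D221788 (iv6 D197338) D197336
theorem F510811 : act 7 n221788 = n221141 := d14_2 F510526 D221788 (iv6 D221141) (iv7 F453115) (iv6 F510525)
theorem F510812 : act 5 n221788 = n214857 := d21_6 (iv5 F467593) (iv1 F507190) (iv5 D221094) D221095 (iv1 F507195) D221788 (iv1 F477164) (iv5 F463625) F408721 D212045
theorem F510813 : act 0 n214847 = n221788 := d17_2 (iv1 F403713) D214847 F510812 (iv4 F510471) (iv5 D221715) F403544 D215749 (iv0 F481397) F440276
theorem F510814 : act 1 n221052 = n221788 := d17_6 (iv1 F339266) (iv5 D163062) (iv1 F193108) F353959 (iv4 F396688) D221052 F510812 (iv0 D214857) (iv4 D163200)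
theorem F510815 : act 0 n221134 = n221787 := d21_7 (iv5 D221052) (iv1 F397008) (iv5 D195446) (iv6 D105596) (iv1 F162181) D195423 D221134 (iv5 D221787) D221788 (iv1 F510814)
def n221789 : Q := act 6 n197337
theorem D221789 : act 6 n197337 = n221789 := rfl
theorem F510816 : act 3 n221789 = n216984 := d7_1 D221789 (iv6 F510809) F510807
theorem F510817 : act 4 n221789 = n214595 := d10_1 D221789 F475968 F431351
theorem F510818 : act 5 n221789 = n221124 := d12_1 D221789 (iv6 D221124) F403985 (iv6 D197338) D197337
theorem F510819 : act 7 n221789 = n216559 := d14_2 F510531 D221789 F484943 (iv7 F485189) F510534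
def n221790 : Q := act 3 n197339
theorem D221790 : act 3 n197339 = n221790 := rfl
theorem F510820 : act 5 n221790 = n211806 := d6_2 (iv5 F403988) D221790 F463142
theorem F510821 : act 7 n221790 = n211805 := d8_2 F407844 D221790 F463141
def n221791 : Q := act 4 n197339
theorem D221791 : act 4 n197339 = n221791 := rfl
theorem F510822 : act 5 n221791 = n197988 := d9_2 (iv5 F403988) D221791 (iv4 D197988) (iv5 D108836) F79629 (iv5 F78238) (iv4 F162060) D195349 D221076 F507105 F426386 (iv5 F353503) (iv4 F171179) (iv5 F169272) (iv4 F403911)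
theorem F510823 : act 7 n221791 = n211600 := d11_2 F407844 D221791 F462328
theorem F510824 : act 0 n221791 = n213953 := d17_0 F472870 (iv1 F432569) (iv5 F483294) F483293 (iv5 D197335) (iv0 D108097) D108099 D197339 D221791
theorem F510825 : act 3 n221791 = n211608 := d19_3 (iv1 F403914) (iv5 F403988) D221791 (iv1 F462361) (iv5 F349350) (iv4 D117983) (iv3 D54350) (iv1 F41769) F24967 F11579 (iv3 F13635) (iv1 F297775) D27624 D57868 D124168 D204652 F433133 (iv4 F507061) (iv3 D221065)
theorem F510826 : act 6 n216669 = n221791 := d7_0 F510825 F501993 F501996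
def n221792 : Q := act 6 n197339
theorem D221792 : act 6 n197339 = n221792 := rfl
theorem F510827 : act 4 n221792 = n216669 := d10_1 D221792 F510826 (iv4 D221791)
theorem F510828 : act 5 n221792 = n221758 := d12_1 D221792 (iv6 D221758) (iv5 D197305) D197306 (iv5 F403988)
def n221793 : Q := act 1 n197340
theorem D221793 : act 1 n197340 = n221793 := rfl
theorem F510829 : act 1 n221793 = n219591 := d15_1 D221793 (iv7 F510537) F510535
theorem F510830 : act 7 n221793 = n200202 := d15_2 (iv0 F430602) D221793 (iv2 F430598)
theorem F510831 : act 5 n221793 = n200158 := d17_7 (iv1 D197987) (iv5 D108836) D108835 (iv5 F353495) (iv4 F468025) (iv5 F468028) D221793 F430591 F430590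
theorem F510832 : act 4 n221793 = n197378 := d17_9 (iv1 D197378) (iv5 D108124) (iv1 F167180) D197343 (iv4 F500779) F500780 F478224 (iv5 F468028) D221793
theorem F510833 : act 6 n220646 = n221793 := d21_9 F468028 (iv1 F478224) (iv5 F500780) (iv6 F500782) (iv1 F486872) F483443 (iv5 F500572) F500573 D220646 (iv1 D221793)
theorem F510834 : act 3 n221793 = n220648 := d7_1 F510833 (iv6 D220648) (iv3 F504778)
theorem F510835 : act 2 n200192 = n221793 := d0_5 F510834 F504783 F488240 (iv2 F485795) F465328
def n221794 : Q := act 7 n197340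
theorem D221794 : act 7 n197340 = n221794 := rfl
theorem F510836 : act 2 n221794 = n219591 := d4_1 D221794 (iv7 F510537) F510535
theorem F510837 : act 3 n221794 = n204100 := d8_1 D221794 (iv7 F468031) F468030
theorem F510838 : act 4 n221794 = n197341 := d11_1 D221794 (iv7 D197341) D197340
theorem F510839 : act 5 n221794 = n200065 := d13_1 D221794 (iv7 F468026) (iv5 F468028)
theorem F510840 : act 1 n200192 = n221794 := d15_1 F510540 (iv7 D221794) (iv2 F510535)
theorem F510841 : act 1 n221794 = n200202 := d15_1 F510840 (iv7 F510830) (iv2 F510835)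
def n221795 : Q := act 6 n197341
theorem D221795 : act 6 n197341 = n221795 := rfl
def n221796 : Q := act 3 n197349
theorem D221796 : act 3 n197349 = n221796 := rfl
theorem F510842 : act 2 n221796 = n203171 := d0_1 D221796 (iv3 D203171) (iv2 F185677) D150036 F404012
theorem F510843 : act 4 n221796 = n206362 := d5_2 F466522 D221796 (iv3 F467846) F467847 (iv3 F466521)
theorem F510844 : act 7 n221796 = n212806 := d8_2 F471679 D221796 (iv3 F471677)
theorem F510845 : act 0 n221796 = n212805 := d20_4 F404139 (iv1 F466524) F466522 D221796 (iv3 F499698) (iv4 D219616) F384578 D191915 D219644 F499824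
theorem F510846 : act 0 n212804 = n221796 := d20_4 F404049 (iv1 F189648) D155784 (iv3 F467584) (iv3 D221796) (iv4 F466522) (iv1 F466525) D213700 F471697 (iv1 F404055)
theorem F510847 : act 5 n212805 = n213360 := d17_1 F510845 (iv1 D213360) (iv5 D153579) F109142 D72747 D153776 (iv5 F400710) F440425 (iv4 F510843)
def n221797 : Q := act 5 n197349
theorem D221797 : act 5 n197349 = n221797 := rfl
theorem F510848 : act 2 n221797 = n212802 := d2_1 D221797 (iv5 D212802) F404012
theorem F510849 : act 1 n221797 = n221034 := d17_6 F459745 (iv5 F471703) (iv1 F492864) F492861 F466522 D221797 (iv5 D221034) (iv0 F464079) F464077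
def n221798 : Q := act 0 n197350
theorem D221798 : act 0 n197350 = n221798 := rfl
theorem F510850 : act 5 n221798 = n211984 := d17_3 F366397 D197350 D221798 (iv4 F466480) F466481 F471599 F471609 (iv0 D154728) (iv4 F242902)
theorem F510851 : act 6 n221798 = n198399 := d21_5 (iv5 D154724) F110080 D118168 (iv6 F404015) D221798 F407882 (iv1 F169288) D144711 F351851 (iv1 F242908)
theorem F510852 : act 2 n211995 = n221798 := d15_3 (iv0 D221798) (iv0 F469927) F469926
theorem F510853 : act 7 n221798 = n212816 := d4_2 F469926 F510852 (iv2 F469924)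
theorem F510854 : act 1 n212817 = n221798 := d15_1 F469928 F510853 (iv2 F469924)
def n221799 : Q := act 7 n197350
theorem D221799 : act 7 n197350 = n221799 := rfl
theorem F510855 : act 2 n221799 = n212817 := d4_1 D221799 (iv7 D212817) (iv2 F404013)
theorem F510856 : act 3 n221799 = n197361 := d8_1 D221799 (iv7 D197361) (iv3 F404014)
theorem F510857 : act 5 n221799 = n197351 := d13_1 D221799 (iv7 D197351) D197350
theorem F510858 : act 1 n212816 = n221799 := d15_1 D212816 (iv7 D221799) F404013
theorem F510859 : act 1 n221799 = n211995 := d15_1 F510858 (iv7 F469926) F469924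
def n221800 : Q := act 6 n197352
theorem D221800 : act 6 n197352 = n221800 := rfl
theorem F510860 : act 2 n221800 = n221167 := d3_1 D221800 F507539 F438463
theorem F510861 : act 3 n221800 = n203181 := d7_1 D221800 F438420 F454498
theorem F510862 : act 5 n221800 = n203180 := d12_1 D221800 F427337 D203187 F472218 (iv5 F472217)
theorem F510863 : act 0 n221800 = n221047 := d21_10 (iv5 D221047) (iv1 F447323) (iv5 F472787) F472785 F422267 (iv6 F366262) D212044 (iv1 F472214) (iv5 F472217) D221800
theorem F510864 : act 0 n211263 = n221800 := d21_4 (iv5 F403813) (iv1 D141359) D141360 (iv6 F460859) (iv6 D221800) F472217 (iv1 D213817) (iv5 F427502) (iv6 F427501) F403815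
def n221801 : Q := act 0 n197354
theorem D221801 : act 0 n197354 = n221801 := rfl
theorem F510865 : act 5 n221801 = n202064 := d17_3 (iv1 D197353) D197354 D221801 (iv4 D202064) D202065 (iv0 F455212) (iv5 D209871) F423248 F423246
theorem F510866 : act 7 n219909 = n221801 := d13_0 F510865 F464096 (iv5 F501145)
theorem F510867 : act 4 n221801 = n203252 := d19_2 F422821 (iv5 F510865) (iv3 D203252) (iv1 D118282) (iv5 D54476) (iv4 D26343) F20921 D12573 F20943 F20521 F12604 (iv1 D3235) D3236 (iv4 F11337) (iv3 F24529) (iv1 F49941) F50602 D54468 D118259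
def n221802 : Q := act 1 n197354
theorem D221802 : act 1 n197354 = n221802 := rfl
theorem F510868 : act 5 n221802 = n202059 := d17_7 (iv1 F468812) F473092 (iv1 D214008) (iv5 D156180) (iv4 F167195) D197354 D221802 F464107 F464103
theorem F510869 : act 3 n221096 = n221802 := d19_19 (iv1 D221802) (iv5 D197354) F167195 (iv3 F167161) (iv1 F320452) (iv5 F240055) (iv4 F469099) F469103 F391139 (iv5 F479171) F479170 F424163 F439996 (iv5 F405258) F405257 F404016 (iv1 F203993) (iv5 F396851) D221096
theorem F510870 : act 6 n219891 = n221802 := d21_3 F427532 (iv1 F386683) D219891 (iv1 D221802) F404019 (iv5 D108115) D108113 D197356 (iv6 F404026) F427533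
theorem F510871 : act 2 n221802 = n219909 := d3_1 F510870 (iv6 D219909) (iv2 F501068)
theorem F510872 : act 4 n221802 = n220715 := d10_1 F510870 (iv6 D220715) (iv4 F501070)
def n221803 : Q := act 4 n197354
theorem D221803 : act 4 n197354 = n221803 := rfl
theorem F510873 : act 2 n221803 = n221092 := d1_1 D221803 F507181 F438441
theorem F510874 : act 3 n221803 = n221801 := d5_1 D221803 F510867 (iv3 D203252) (iv4 F185826) (iv3 F404018)
theorem F510875 : act 6 n221803 = n197360 := d10_2 (iv6 F404019) D221803 (iv4 D197360)
theorem F510876 : act 7 n221803 = n221091 := d11_2 F470100 D221803 F507178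
theorem F510877 : act 5 n221803 = n221089 := d16_3 (iv4 F167195) D197354 D221803 F507167 F475875 (iv4 F469527) (iv5 F472476) (iv7 D213864) F245091
theorem F510878 : act 0 n205921 = n221803 := d20_10 (iv4 D221803) D221801 F510867 (iv3 D203252) (iv1 D118282) (iv3 F322397) D202768 (iv1 F438439) (iv4 D205923) (iv3 F438431)
def n221804 : Q := act 4 n197356
theorem D221804 : act 4 n197356 = n221804 := rfl
theorem F510879 : act 2 n221804 = n220729 := d1_1 D221804 F505195 (iv2 F404022)
theorem F510880 : act 6 n221804 = n219946 := d10_2 F404026 D221804 (iv4 D219946)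
theorem F510881 : act 7 n221804 = n221096 := d11_2 (iv7 F404023) D221804 (iv4 D221096)
theorem F510882 : act 5 n221804 = n209648 := d16_1 D221804 F454484 (iv5 D197132) F167749 F100493 (iv4 F167196) D197359 F404041 (iv2 F404022)
theorem F510883 : act 0 n221804 = n211994 := d17_0 F463854 (iv1 F438379) (iv5 F458536) (iv4 D210713) (iv5 D139597) F162088 (iv5 F396857) (iv0 F404024) D221804
theorem F510884 : act 1 n221804 = n198398 := d18_6 (iv1 F323286) (iv4 D64305) D64303 (iv4 F175796) D197356 D221804 (iv4 D198398) F361833 (iv5 D145119)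
def n221805 : Q := act 5 n197358
theorem D221805 : act 5 n197358 = n221805 := rfl
theorem F510885 : act 2 n221805 = n216540 := d2_1 D221805 F484858 F468112
theorem F510886 : act 3 n221805 = n197359 := d6_1 D221805 (iv5 D197359) D197358
theorem F510887 : act 4 n221805 = n221094 := d9_1 D221805 (iv5 D221094) (iv4 F396835) (iv5 F358515) (iv4 D100861) D100862 D192863 (iv5 F467597) (iv4 D212812) (iv5 D150045) (iv4 F358507) F358508 (iv4 F159264) (iv5 F329911) (iv4 F404038)
theorem F510888 : act 7 n221805 = n216541 := d13_2 F438404 D221805 F484863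
theorem F510889 : act 0 n221805 = n213699 := d17_2 F499696 D221805 F471693 F286186 F134897 (iv0 F73298) D99316 (iv0 F384578) D219616
theorem F510890 : act 1 n221805 = n216528 := d17_6 (iv1 F365063) (iv5 F365340) F157771 (iv5 F329911) (iv4 F404038) D221805 (iv5 D216528) (iv0 F388095) (iv4 D192880)
def n221806 : Q := act 4 n197359
theorem D221806 : act 4 n197359 = n221806 := rfl
theorem F510891 : act 2 n221806 = n221096 := d1_1 D221806 (iv4 D221096) (iv2 F404040)
theorem F510892 : act 5 n221806 = n209647 := d9_2 D197359 D221806 F454478 (iv5 D197131) (iv4 F175797) F169295 (iv4 F175796) D197356 D221804 F510882 F454484 (iv5 D197132) F167749 F100493 (iv4 F167196)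
theorem F510893 : act 7 n221806 = n220729 := d11_2 (iv7 F404041) D221806 F505195
theorem F510894 : act 0 n221806 = n198398 := d17_0 F407880 (iv1 F438376) (iv5 F507207) F507206 (iv5 D198400) (iv0 F169293) D195292 (iv0 F404042) D221806
theorem F510895 : act 1 n221806 = n211994 := d18_6 F203983 F167215 (iv1 F100129) (iv4 F167196) D197359 D221806 (iv4 D211994) F407879 F407875
def n221807 : Q := act 3 n197360
theorem D221807 : act 3 n197360 = n221807 := rfl
theorem F510896 : act 5 n221807 = n220101 := d6_2 F427353 D221807 (iv3 F502128)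
theorem F510897 : act 6 n221807 = n221801 := d7_2 F510875 D221807 (iv3 F510874)
def n221808 : Q := act 6 n197361
theorem D221808 : act 6 n197361 = n221808 := rfl
def n221809 : Q := act 1 n197367
theorem D221809 : act 1 n197367 = n221809 := rfl
theorem F510898 : act 1 n221809 = n197371 := d15_1 D221809 (iv7 D197371) (iv2 F404069)
theorem F510899 : act 7 n221809 = n197368 := d15_2 (iv0 F509679) D221809 (iv2 F509675)
theorem F510900 : act 6 n211095 = n221809 := d21_3 F364958 D198236 (iv5 F460075) (iv1 D221809) (iv6 D197367) (iv5 F167203) D108118 F358807 F401205 (iv1 D196601)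
theorem F510901 : act 2 n221809 = n197369 := d3_1 F510900 (iv6 F460033) (iv2 F460074)
theorem F510902 : act 4 n221809 = n211096 := d10_1 F510900 (iv6 D211096) D211095
def n221810 : Q := act 5 n197367
theorem D221810 : act 5 n197367 = n221810 := rfl
theorem F510903 : act 2 n221810 = n197370 := d2_1 D221810 (iv5 D197370) (iv2 F404069)
theorem F510904 : act 3 n221810 = n197376 := d6_1 D221810 (iv5 D197376) (iv3 F404070)
theorem F510905 : act 6 n221810 = n197370 := d12_2 D197367 D221810 (iv5 D197370) (iv6 D108121) F167203
theorem F510906 : act 0 n221810 = n221536 := d21_1 D221810 (iv5 D221536) (iv6 D196595) (iv1 D107126) D107129 F364958 D198236 (iv5 F460075) F510900 (iv1 D221809)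
def n221811 : Q := act 7 n197367
theorem D221811 : act 7 n197367 = n221811 := rfl
theorem F510907 : act 2 n221811 = n197371 := d4_1 D221811 (iv7 D197371) (iv2 F404069)
theorem F510908 : act 3 n221811 = n197377 := d8_1 D221811 (iv7 D197377) (iv3 F404070)
theorem F510909 : act 4 n221811 = n216019 := d11_1 D221811 F482570 (iv4 F409328)
theorem F510910 : act 6 n221811 = n216020 := d14_1 D221811 F482575 F454515 F220002 D197367
theorem F510911 : act 1 n197369 = n221811 := d15_1 D197369 (iv7 D221811) F404069
theorem F510912 : act 1 n221811 = n197368 := d15_1 F510911 (iv7 F510899) F510901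
def n221812 : Q := act 4 n197368
theorem D221812 : act 4 n197368 = n221812 := rfl
theorem F510913 : act 2 n221812 = n220843 := d1_1 D221812 (iv4 F509677) F509675
theorem F510914 : act 3 n221812 = n220560 := d5_1 D221812 F504362 F391354 (iv4 F456515) (iv3 F456516)
theorem F510915 : act 6 n221812 = n220559 := d10_2 F456517 D221812 F504356
theorem F510916 : act 7 n221812 = n211096 := d11_2 F510899 D221812 (iv4 F510902)
theorem F510917 : act 5 n221812 = n199517 := d18_4 (iv1 D205107) F201823 D197368 D221812 F412958 (iv0 D139476) (iv4 F172819) (iv0 F375414) (iv5 F435002)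
theorem F510918 : act 1 n204540 = n221812 := d17_6 D139420 F432832 (iv1 D204545) (iv5 D123980) (iv4 F198392) D204540 F510917 (iv0 D199517) F172868
def n221813 : Q := act 5 n197368
theorem D221813 : act 5 n197368 = n221813 := rfl
def n221814 : Q := act 3 n197369
theorem D221814 : act 3 n197369 = n221814 := rfl
theorem F510919 : act 4 n221814 = n220767 := d5_2 F505641 D221814 (iv3 D220767) (iv4 F393931) D220809
theorem F510920 : act 7 n221814 = n220842 := d8_2 F509678 D221814 (iv3 F509676)
theorem F510921 : act 1 n200432 = n221814 := d15_1 (iv0 F503660) F510920 F505837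
theorem F510922 : act 1 n221814 = n219896 := d15_1 F510921 (iv7 F510551) F510548
def n221815 : Q := act 5 n197369
theorem D221815 : act 5 n197369 = n221815 := rfl
def n221816 : Q := act 0 n197370
theorem D221816 : act 0 n197370 = n221816 := rfl
theorem F510923 : act 5 n221816 = n198390 := d19_1 D221816 (iv4 F509865) (iv3 F510160) F510161 F464429 F454127 F454125 F450870 F450868 F408420 F169661 D139681 F349390 (iv4 F432558) F432557 F357302 (iv5 F404085) (iv4 D197379) (iv3 F404071)
theorem F510924 : act 2 n221536 = n221816 := d2_3 F510923 F407852 D221536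
def n221817 : Q := act 1 n197370
theorem D221817 : act 1 n197370 = n221817 := rfl
theorem F510925 : act 7 n221817 = n221536 := d15_2 (iv0 D221816) D221817 F510924
theorem F510926 : act 5 n221817 = n221537 := d17_7 (iv1 F402203) (iv5 F482561) (iv1 F482564) F409221 F201823 D197370 D221817 F509482 F460148
def n221818 : Q := act 4 n197370
theorem D221818 : act 4 n197370 = n221818 := rfl
theorem F510927 : act 3 n221818 = n204430 := d5_1 D221818 (iv4 D204430) F404086 (iv4 D197379) (iv3 F404071)
theorem F510928 : act 5 n221818 = n215201 := d16_3 F201823 D197370 D221818 F478856 (iv5 D204229) F366921 D216019 F482570 F409324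
theorem F510929 : act 0 n204046 = n221818 := d19_0 F510928 F478856 (iv3 F487052) (iv1 F491349) F491352 (iv4 F475647) F475645 F471964 F467529 F424654 F225273 (iv1 F319987) F315551 (iv4 F299059) F90023 (iv1 F298884) D56772 D122462 D204046
def n221819 : Q := act 7 n197370
theorem D221819 : act 7 n197370 = n221819 := rfl
theorem F510930 : act 3 n221819 = n197380 := d8_1 D221819 (iv7 D197380) (iv3 F404071)
theorem F510931 : act 5 n221819 = n197371 := d13_1 D221819 (iv7 D197371) D197370
theorem F510932 : act 0 n221536 = n221819 := d17_2 F507424 D221536 F510931 (iv4 F417431) F417432 F401233 (iv5 D196620) D196619 (iv4 F507422)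
def n221820 : Q := act 6 n197372
theorem D221820 : act 6 n197372 = n221820 := rfl
theorem F510933 : act 2 n221820 = n216054 := d3_1 D221820 (iv6 D216054) (iv2 F404073)
theorem F510934 : act 3 n221820 = n197373 := d7_1 D221820 (iv6 D197373) D197372
theorem F510935 : act 4 n221820 = n212452 := d10_1 D221820 (iv6 D212452) (iv4 F404074)
theorem F510936 : act 5 n221820 = n220579 := d12_1 D221820 F504446 F456454 F396921 (iv5 F404075)
theorem F510937 : act 7 n221820 = n221149 := d14_2 (iv7 F404076) D221820 (iv6 D221149) F397110 (iv6 F403746)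
theorem F510938 : act 0 n221820 = n221742 := d21_10 (iv5 D221742) F403795 D221037 F506920 (iv1 F458070) F458066 (iv5 F404145) (iv1 F404150) (iv5 F404075) D221820
theorem F510939 : act 0 n211265 = n221820 := d19_0 F510936 (iv4 D220579) (iv3 F470916) F470918 F394285 (iv4 D162825) F119465 (iv1 F60083) F60081 F29793 (iv3 F29685) (iv1 F59941) (iv5 F59942) F296399 (iv3 F132399) (iv1 F339004) F339013 (iv4 F342366) D211265
def n221821 : Q := act 3 n197374
theorem D221821 : act 3 n197374 = n221821 := rfl
theorem F510940 : act 6 n221821 = n210571 := d7_2 F473156 D221821 F473158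
theorem F510941 : act 0 n197390 = n221821 := d20_4 (iv4 D213354) F360664 F222264 (iv3 F404118) (iv3 D221821) (iv4 F472399) (iv1 F472500) (iv4 F510520) F510519 (iv1 F470072)
theorem F510942 : act 2 n221758 = n221821 := d15_3 (iv0 F510941) (iv0 F500917) (iv7 F510699)
def n221822 : Q := act 5 n197374
theorem D221822 : act 5 n197374 = n221822 := rfl
def n221823 : Q := act 3 n197375
theorem D221823 : act 3 n197375 = n221823 := rfl
theorem F510943 : act 4 n221823 = n197564 := d5_2 F472458 D221823 (iv3 F404852) (iv4 F430925) (iv3 F472451)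
theorem F510944 : act 7 n221823 = n204688 := d8_2 (iv7 F472456) D221823 (iv3 F455255)
theorem F510945 : act 0 n221823 = n197392 := d20_4 F510520 (iv1 F472499) F472458 D221823 (iv3 F510542) F510543 (iv1 F510322) (iv4 F510787) (iv3 D221778) (iv1 F510523)
def n221824 : Q := act 5 n197375
theorem D221824 : act 5 n197375 = n221824 := rfl
theorem F510946 : act 6 n221824 = n210817 := d12_2 F472254 D221824 (iv5 D210817) F364630 D213826
def n221825 : Q := act 0 n197376
theorem D221825 : act 0 n197376 = n221825 := rfl
theorem F510947 : act 5 n221825 = n211920 := d21_2 D197376 D221825 (iv6 D211920) (iv1 D144417) D144419 D211921 F463591 D213826 F472254 (iv1 D197375)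
def n221826 : Q := act 1 n197376
theorem D221826 : act 1 n197376 = n221826 := rfl
theorem F510948 : act 3 n219817 = n221826 := d19_19 (iv1 D221826) (iv5 D197376) F167211 (iv3 F245387) F424801 (iv5 F481690) F481689 (iv3 F475909) F501350 F501347 F427111 (iv3 F439638) F466287 F466283 F267772 (iv3 F386361) (iv1 F386364) D192303 D219817
theorem F510949 : act 4 n217299 = n221826 := d20_6 (iv4 F473560) (iv1 F473563) (iv4 D210608) (iv3 F458193) F458196 (iv3 F488331) (iv1 D221826) F448952 F448950 D208334
theorem F510950 : act 6 n221826 = n216185 := d10_2 D217299 F510949 F483308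
def n221827 : Q := act 7 n197376
theorem D221827 : act 7 n197376 = n221827 := rfl
theorem F510951 : act 5 n221827 = n197377 := d13_1 D221827 (iv7 D197377) D197376
def n221828 : Q := act 6 n197378
theorem D221828 : act 6 n197378 = n221828 := rfl
theorem F510952 : act 2 n221828 = n221786 := d3_1 D221828 F510806 (iv2 F472867)
theorem F510953 : act 4 n221828 = n220646 := d10_1 D221828 F510833 F510832
theorem F510954 : act 5 n221828 = n211947 := d12_1 D221828 (iv6 D211947) F227242 (iv6 F175592) (iv5 F404084)
theorem F510955 : act 0 n216187 = n221828 := d19_0 F510954 F463689 (iv3 F425014) (iv1 F411576) F386820 (iv4 F368558) F368557 (iv1 F152856) F358617 (iv4 D92510) D92509 F354957 F107819 (iv4 F152155) F152154 (iv1 F333362) D86978 D182155 D216187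
def n221829 : Q := act 1 n197379
theorem D221829 : act 1 n197379 = n221829 := rfl
theorem F510956 : act 1 n221829 = n213567 := d15_1 D221829 F472872 F472869
theorem F510957 : act 7 n221829 = n221076 := d15_2 F462329 D221829 F507103
theorem F510958 : act 4 n221829 = n221077 := d17_9 (iv1 F507110) (iv5 D197231) D197230 D221727 F510530 F485192 F431356 (iv5 F404085) D221829
theorem F510959 : act 6 n216197 = n221829 := d21_9 F404085 (iv1 F431356) (iv5 F485192) (iv6 D216618) (iv1 D185055) (iv6 F287435) (iv5 D185043) D185041 (iv5 F483338) (iv1 D221829)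
theorem F510960 : act 2 n221829 = n221791 := d3_1 F510959 (iv6 F510826) F485387
def n221830 : Q := act 7 n197379
theorem D221830 : act 7 n197379 = n221830 := rfl
theorem F510961 : act 2 n221830 = n213567 := d4_1 D221830 F472872 F472869
theorem F510962 : act 3 n221830 = n203728 := d8_1 D221830 F429566 F404086
theorem F510963 : act 4 n221830 = n197380 := d11_1 D221830 (iv7 D197380) D197379
theorem F510964 : act 5 n221830 = n200073 := d13_1 D221830 F414911 (iv5 F404085)
theorem F510965 : act 1 n221791 = n221830 := d15_1 (iv0 F510824) (iv7 D221830) (iv2 F472869)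
theorem F510966 : act 1 n221830 = n221076 := d15_1 F510965 (iv7 F510957) F510960
def n221831 : Q := act 6 n197380
theorem D221831 : act 6 n197380 = n221831 := rfl
theorem F510967 : act 5 n221831 = n211997 := d12_1 D221831 (iv6 D211997) F227560 F219994 (iv5 F404087)
def n221832 : Q := act 5 n197381
theorem D221832 : act 5 n197381 = n221832 := rfl
theorem F510968 : act 2 n221832 = n221093 := d2_1 D221832 (iv5 F507186) F472466
theorem F510969 : act 4 n221832 = n203255 := d16_6 F396822 D209846 (iv4 F469489) (iv5 F469490) F455198 D221832 F438449 D221090 F507170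
theorem F510970 : act 1 n221832 = n201972 := d17_6 (iv1 D152840) D152842 D213225 (iv5 F469490) F455198 D221832 (iv5 D201972) D201971 F422562
theorem F510971 : act 0 n221832 = n213367 := d21_1 D221832 F470105 F463848 (iv1 D156273) (iv6 D74335) (iv5 F78903) (iv1 F78904) (iv5 F96860) D108126 D197381
theorem F510972 : act 6 n221832 = n221806 := d21_9 F407880 (iv1 F438376) (iv5 F507207) (iv6 D221098) F396866 (iv6 F404090) (iv5 D197383) D197381 D221832 F510894
def n221833 : Q := act 6 n197381
theorem D221833 : act 6 n197381 = n221833 := rfl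
theorem F510973 : act 3 n221833 = n210182 := d7_1 D221833 (iv6 F501129) F501125
theorem F510974 : act 4 n221833 = n214007 := d10_1 D221833 (iv6 D214007) F455198
def n221834 : Q := act 5 n197382
theorem D221834 : act 5 n197382 = n221834 := rfl
theorem F510975 : act 3 n221834 = n212055 := d6_1 D221834 F464155 F438406
theorem F510976 : act 7 n221834 = n221093 := d13_2 F472463 D221834 (iv5 F507186)
theorem F510977 : act 4 n221834 = n203254 := d16_2 (iv4 F438407) D221834 F464784 F396822 D209846 (iv4 F469489) (iv5 F469490) (iv7 F472470) F472473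
theorem F510978 : act 0 n221834 = n201972 := d17_2 (iv1 F454564) D221834 (iv5 D201972) F179562 D115354 D202068 (iv5 F423234) F455195 F455193
theorem F510979 : act 1 n221834 = n213367 := d17_6 (iv1 F404297) D214069 (iv1 F473330) (iv5 F469491) (iv4 F438407) D221834 F470105 F463850 F464122
theorem F510980 : act 6 n221171 = n221834 := d21_5 (iv5 D67820) (iv1 F111447) D109278 (iv6 F397182) D221171 (iv5 D221834) (iv1 D197382) D197383 F404090 F167214
def n221835 : Q := act 6 n197382
theorem D221835 : act 6 n197382 = n221835 := rfl
theorem F510981 : act 2 n221835 = n202187 := d3_1 D221835 F463104 (iv2 F472465)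
theorem F510982 : act 3 n221835 = n216530 := d7_1 D221835 (iv6 D216530) F438406
theorem F510983 : act 4 n221835 = n202299 := d10_1 D221835 (iv6 F429075) (iv4 F438407)
theorem F510984 : act 5 n221835 = n202810 := d12_1 D221835 (iv6 F498255) (iv5 F507557) F510980 (iv5 D221834)
theorem F510985 : act 0 n221835 = n202189 := d21_4 (iv5 F470105) (iv1 F510979) (iv5 D221834) D221835 F423172 (iv5 F507517) (iv1 F507518) (iv5 F501950) F485495 (iv1 F463850)
theorem F510986 : act 0 n202186 = n221835 := d21_4 F397124 (iv1 F414632) F414630 D202186 (iv6 D221835) D221834 F510978 (iv5 D201972) (iv6 D115296) D115293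
theorem F510987 : act 7 n202188 = n221835 := d13_0 F510984 F425685 F423167
def n221836 : Q := act 0 n197383
theorem D221836 : act 0 n197383 = n221836 := rfl
theorem F510988 : act 5 n221836 = n211990 := d17_3 (iv1 D197382) D197383 D221836 (iv4 F468808) F468807 (iv0 F455030) (iv5 D156180) D156179 (iv4 F438407)
theorem F510989 : act 6 n221836 = n211986 := d21_5 (iv5 D197363) F167201 D108127 (iv6 F404090) D221836 (iv5 D211986) D211984 (iv5 F510850) F510851 (iv1 F407883)
theorem F510990 : act 3 n211988 = n221836 := d7_3 F510989 F463833 D211988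
def n221837 : Q := act 1 n197383
theorem D221837 : act 1 n197383 = n221837 := rfl
theorem F510991 : act 5 n221837 = n211991 := d17_7 D202047 F455223 (iv1 D209873) (iv5 D137041) (iv4 F167213) D197383 D221837 (iv0 F463842) F422560
theorem F510992 : act 4 n221837 = n205921 := d17_9 F510878 F510877 (iv1 D221089) (iv5 F438449) (iv4 F510969) (iv5 D221832) (iv0 D197381) D197383 D221837
theorem F510993 : act 3 n219940 = n221837 := d20_3 (iv4 F505191) (iv1 D220728) (iv4 F501283) (iv1 D221837) F404089 D197385 (iv1 F458538) (iv4 D210713) (iv3 F458530) (iv1 F501093)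
theorem F510994 : act 6 n216541 = n221837 := d21_3 (iv5 D219900) F438408 (iv5 F484863) (iv1 D221837) F404090 (iv5 D108127) F103855 D144754 D212002 (iv1 F501106)
def n221838 : Q := act 4 n197383
theorem D221838 : act 4 n197383 = n221838 := rfl
theorem F510995 : act 3 n221838 = n216542 := d5_1 D221838 (iv4 D216542) F404094 (iv4 D197385) (iv3 F404089)
theorem F510996 : act 6 n221838 = n197385 := d10_2 (iv6 F404090) D221838 (iv4 D197385)
theorem F510997 : act 1 n221838 = n212800 := d18_6 (iv1 F438464) F438467 (iv1 D137039) (iv4 F167213) D197383 D221838 (iv4 F501144) F501147 F470099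
def n221839 : Q := act 7 n197383
theorem D221839 : act 7 n197383 = n221839 := rfl
theorem F510998 : act 3 n221839 = n197386 := d8_1 D221839 (iv7 D197386) (iv3 F404089)
theorem F510999 : act 5 n221839 = n197384 := d13_1 D221839 (iv7 D197384) D197383
def n221840 : Q := act 6 n197386
theorem D221840 : act 6 n197386 = n221840 := rfl
theorem F511000 : act 2 n221840 = n211997 := d3_1 D221840 (iv6 D211997) (iv2 F404095)
theorem F511001 : act 4 n221840 = n213697 := d10_1 D221840 (iv6 F471684) F454488
def n221841 : Q := act 5 n197390
theorem D221841 : act 5 n197390 = n221841 := rfl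
theorem F511002 : act 3 n221841 = n197394 := d6_1 D221841 (iv5 D197394) (iv3 F404118)
theorem F511003 : act 6 n221841 = n219786 := d12_2 D197390 D221841 (iv5 F510546) (iv6 D221729) F403665
theorem F511004 : act 4 n219784 = n221841 := d10_3 F511003 (iv4 D219786) (iv6 F500611)
def n221842 : Q := act 6 n197391
theorem D221842 : act 6 n197391 = n221842 := rfl
theorem F511005 : act 4 n221842 = n197392 := d10_1 D221842 (iv6 D197392) D197391
theorem F511006 : act 5 n221842 = n214953 := d12_1 D221842 (iv6 D214953) F348605 F284615 (iv5 F404119)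
theorem F511007 : act 7 n221842 = n213701 := d14_2 F450285 D221842 (iv6 D213701) (iv7 F466516) F466519
theorem F511008 : act 0 n221842 = n212567 := d21_10 F474260 F474258 (iv5 F459769) (iv6 F463437) F463440 F473404 F473400 (iv1 D212723) (iv5 F404119) D221842
theorem F511009 : act 0 n215895 = n221842 := d17_2 (iv1 F498738) (iv5 F498740) F511006 F477608 F339510 (iv0 F348590) F184558 D125274 D205041
def n221843 : Q := act 0 n197392
theorem D221843 : act 0 n197392 = n221843 := rfl
theorem F511010 : act 4 n221843 = n197563 := d18_3 F511009 F511005 D221843 F404849 F198707 F201455 D205039 (iv0 F498737) (iv5 F498740)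
theorem F511011 : act 3 n221843 = n221758 := d20_5 F503256 F463796 (iv4 F510543) F510542 D221843 F510698 (iv1 F500928) (iv4 F501095) F501094 (iv1 F503259)
theorem F511012 : act 6 n221843 = n220871 := d21_5 (iv5 D49947) D49944 D108133 D197392 D221843 F505994 F463723 F463722 (iv6 D197405) (iv1 D108142)
theorem F511013 : act 2 n204688 = n221843 := d15_3 (iv0 D221843) (iv0 F510945) F510944
def n221844 : Q := act 5 n197392
theorem D221844 : act 5 n197392 = n221844 := rfl
theorem F511014 : act 3 n221844 = n219786 := d6_1 D221844 (iv5 F510546) F510542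
theorem F511015 : act 6 n221844 = n197394 := d12_2 D197392 D221844 (iv5 D197394) (iv6 D108134) D108133
theorem F511016 : act 4 n221844 = n204041 := d16_4 (iv4 F477608) (iv5 F511006) F511005 D221844 F430875 (iv4 F389095) F348593 F348594 (iv2 F339509)
theorem F511017 : act 0 n219817 = n221844 := d18_2 F499561 D219817 F511016 F430875 (iv4 F389095) F348592 D205054 F434795 D219583
theorem F511018 : act 1 n219815 = n221844 := d18_6 (iv1 F195921) (iv4 F330649) F339280 (iv4 F344419) D192301 D219815 F511016 (iv0 D204041) (iv5 D122460)
def n221845 : Q := act 7 n197392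
theorem D221845 : act 7 n197392 = n221845 := rfl
theorem F511019 : act 3 n221845 = n213780 := d8_1 D221845 (iv7 F510544) F510542
theorem F511020 : act 4 n221845 = n213701 := d11_1 D221845 (iv7 F511007) F511005
theorem F511021 : act 6 n221845 = n213700 := d14_1 D221845 (iv7 F501119) F501123 F403681 D197392
theorem F511022 : act 0 n204688 = n221845 := d18_0 F511020 F503525 F510507 F510510 (iv4 D216169) (iv0 F389109) D216559 (iv0 F500750) F500749
def n221846 : Q := act 5 n197393
theorem D221846 : act 5 n197393 = n221846 := rfl
theorem F511023 : act 2 n221846 = n210428 := d2_1 D221846 (iv5 D210428) F404123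
theorem F511024 : act 3 n221846 = n220199 := d6_1 D221846 F502606 F472202
theorem F511025 : act 0 n221846 = n210809 := d17_2 D197393 D221846 (iv5 D210809) (iv4 F364530) (iv5 F393649) (iv0 F393650) (iv5 F357845) F357844 F222264
theorem F511026 : act 1 n221846 = n210807 := d17_6 D65643 (iv5 F333634) F333626 (iv5 F315152) (iv4 F404122) D221846 (iv5 D210807) (iv0 D139829) F101374
def n221847 : Q := act 4 n197394
theorem D221847 : act 4 n197394 = n221847 := rfl
theorem F511027 : act 6 n221847 = n204041 := d10_2 F511015 D221847 (iv4 F511016)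
theorem F511028 : act 5 n221847 = n212031 := d16_1 D221847 (iv4 D212031) (iv5 D145010) (iv4 F104573) (iv5 F109141) (iv4 F228090) D212051 F464138 F457650
theorem F511029 : act 0 n221847 = n213420 := d21_1 (iv5 F511028) F470303 (iv6 D188370) (iv1 F362361) D193011 (iv5 F487604) F487606 F449251 F448605 F475610
def n221848 : Q := act 1 n197407
theorem D221848 : act 1 n197407 = n221848 := rfl
theorem F511030 : act 1 n221848 = n219870 := d15_1 D221848 F500964 F450248
theorem F511031 : act 7 n221848 = n220244 := d15_2 (iv0 F458585) D221848 F502832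
theorem F511032 : act 4 n221848 = n221748 := d18_7 (iv1 F438594) (iv4 D205958) (iv1 F396668) (iv4 D195309) F361839 (iv4 F404169) D221848 F510648 (iv5 F438089)
theorem F511033 : act 5 n221848 = n210287 := d18_9 (iv1 D210287) (iv4 D138115) D138113 (iv4 F455579) (iv5 F509648) F509647 (iv0 D197408) (iv4 F404169) D221848
theorem F511034 : act 3 n220245 = n221848 := d20_3 F466181 (iv1 F466249) (iv4 F502837) (iv1 D221848) F509262 F509257 (iv1 F462728) F462725 (iv3 F366308) (iv1 F466182)
theorem F511035 : act 6 n211003 = n221848 := d21_3 F404849 F433144 (iv5 F459715) (iv1 D221848) (iv6 D197407) F389661 (iv1 D193386) F343123 D108456 D197563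
theorem F511036 : act 2 n221848 = n208345 := d3_1 F511035 F449003 D211003
def n221849 : Q := act 5 n197407
theorem D221849 : act 5 n197407 = n221849 := rfl
theorem F511037 : act 2 n221849 = n211235 := d2_1 D221849 F460739 F450248
theorem F511038 : act 3 n221849 = n221539 := d6_1 D221849 F509490 (iv3 F509262)
theorem F511039 : act 4 n221849 = n199051 := d9_1 D221849 F410477 (iv4 F447620) F447621 (iv4 D195312) D195313 (iv4 F500962) F500963 (iv4 F410451) F410452 (iv4 F446733) F446730 (iv4 D195309) F361839 (iv4 F404169)
theorem F511040 : act 7 n221849 = n199048 := d16_8 (iv4 F410451) F410452 (iv4 F446733) F446730 (iv4 D195309) F361839 (iv4 F404169) D221849 F410469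
theorem F511041 : act 0 n221849 = n209966 := d17_2 (iv1 D221848) D221849 (iv5 F455567) (iv4 F456460) (iv5 D210172) (iv0 F438071) F438074 D221748 (iv4 F511032)
theorem F511042 : act 1 n221849 = n206360 := d17_6 (iv1 D195317) (iv5 D105516) D105513 F361839 (iv4 F404169) D221849 F440413 (iv0 F506998) (iv4 D221051)
def n221850 : Q := act 7 n197407
theorem D221850 : act 7 n197407 = n221850 := rfl
theorem F511043 : act 2 n221850 = n219870 := d4_1 D221850 F500964 F450248
theorem F511044 : act 3 n221850 = n202150 := d8_1 D221850 (iv7 F509261) (iv3 F509262)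
theorem F511045 : act 4 n221850 = n197409 := d11_1 D221850 (iv7 D197409) (iv4 F404169)
theorem F511046 : act 5 n221850 = n199048 := d13_1 D221850 (iv7 F511040) (iv5 D221849)
theorem F511047 : act 6 n221850 = n211092 := d14_1 D221850 F460067 (iv6 D208631) F216973 D197407
theorem F511048 : act 1 n208345 = n221850 := d15_1 (iv0 F450250) (iv7 D221850) (iv2 F450248)
theorem F511049 : act 1 n221850 = n220244 := d15_1 F511048 (iv7 F511031) F511036
def n221851 : Q := act 6 n197409
theorem D221851 : act 6 n197409 = n221851 := rfl
theorem F511050 : act 2 n221851 = n219866 := d3_1 D221851 F500954 (iv2 F404173)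
theorem F511051 : act 3 n221851 = n197434 := d7_1 D221851 (iv6 D197434) (iv3 F404174)
theorem F511052 : act 4 n221851 = n211092 := d10_1 D221851 (iv6 F511047) F511045
theorem F511053 : act 7 n221851 = n197410 := d14_2 D197409 D221851 (iv6 D197410) (iv7 D108145) D108144
theorem F511054 : act 5 n221851 = n211271 := d21_6 (iv5 D205449) D205447 F436469 F436474 (iv1 F404177) D221851 F460887 (iv5 F503246) F503247 (iv1 F436479)
theorem F511055 : act 0 n221163 = n221851 := d17_0 F511054 F460887 (iv5 F503246) (iv4 F510216) (iv5 D221672) F402573 D199211 (iv0 F424722) (iv4 F507522)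
theorem F511056 : act 1 n213825 = n221753 := d18_8 F511055 F511052 (iv1 D211092) (iv4 F396910) (iv5 F507278) F507277 (iv0 F501251) (iv4 F472251) (iv5 F510678)
def n221852 : Q := act 3 n197411
theorem D221852 : act 3 n197411 = n221852 := rfl
theorem F511057 : act 2 n221852 = n221742 := d0_1 D221852 F510615 (iv2 F460878) (iv3 D211268) F404180
theorem F511058 : act 4 n221852 = n202508 := d5_2 (iv4 F404179) D221852 (iv3 F424323) F361578 D179168
theorem F511059 : act 5 n221852 = n212215 := d6_2 (iv5 F416368) D221852 F464779
theorem F511060 : act 6 n221852 = n204338 := d7_2 F416370 D221852 F432103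
theorem F511061 : act 7 n221852 = n211265 := d8_2 (iv7 F404182) D221852 (iv3 D211265)
theorem F511062 : act 0 n221852 = n221149 := d19_4 F308521 F361580 (iv4 F404179) D221852 F507458 (iv4 F504430) F504429 (iv1 D194732) F159846 F328900 F110784 F309216 (iv5 D18557) (iv4 D8710) (iv3 F13615) D18503 D38987 F308523 (iv3 F209793)
theorem F511063 : act 0 n216054 = n221852 := d20_4 D145654 (iv1 F404841) F404834 (iv3 F482685) (iv3 D221852) F404179 F361579 (iv4 F460828) F460827 (iv1 D145653)
def n221853 : Q := act 7 n197413
theorem D221853 : act 7 n197413 = n221853 := rfl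
theorem F511064 : act 2 n221853 = n211916 := d4_1 D221853 F463570 (iv2 F404185)
theorem F511065 : act 3 n221853 = n197417 := d8_1 D221853 (iv7 D197417) (iv3 F404186)
theorem F511066 : act 4 n221853 = n205491 := d11_1 D221853 F436673 (iv4 F404187)
theorem F511067 : act 6 n221853 = n211064 := d14_1 D221853 F472620 (iv6 D213894) F245165 D197413
theorem F511068 : act 1 n198391 = n221853 := d15_1 (iv0 F407855) (iv7 D221853) F404185
theorem F511069 : act 1 n221853 = n211940 := d15_1 F511068 (iv7 F463663) (iv2 F407853)
def n221854 : Q := act 5 n197414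
theorem D221854 : act 5 n197414 = n221854 := rfl
theorem F511070 : act 2 n221854 = n210178 := d2_1 D221854 (iv5 F472601) (iv2 F472603)
theorem F511071 : act 3 n221854 = n221780 := d6_1 D221854 F510792 (iv3 F510686)
theorem F511072 : act 4 n221854 = n203496 := d9_1 D221854 F428556 F187747 (iv5 F241672) (iv4 F469467) F469468 F423687 F404190 (iv4 D172030) (iv5 D82392) (iv4 F89929) D122559 D204053 (iv5 F463002) F462999
theorem F511073 : act 7 n221854 = n203495 := d13_2 (iv7 F422557) D221854 (iv5 F428553)
theorem F511074 : act 1 n221854 = n211527 := d17_8 (iv1 F451455) F438105 (iv1 D128169) D128170 D206296 F440124 F404194 D221854 F461982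
theorem F511075 : act 0 n221854 = n205842 := d18_0 F438100 F438039 F438034 (iv5 F472787) (iv4 D213933) (iv0 F462998) F462995 F404194 D221854
theorem F511076 : act 6 n221854 = n221778 := d21_9 (iv5 F472060) D216209 F483383 F419363 (iv1 F245169) (iv6 F404191) (iv5 D197416) D197414 D221854 F510788
def n221855 : Q := act 6 n197414
theorem D221855 : act 6 n197414 = n221855 := rfl
theorem F511077 : act 4 n221855 = n214061 := d10_1 D221855 (iv6 D214061) F462999
theorem F511078 : act 7 n221855 = n211920 := d14_2 (iv7 F422557) D221855 (iv6 D211920) F422547 D201968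
theorem F511079 : act 1 n197433 = n221855 := d15_1 F481780 F511078 F463587
def n221856 : Q := act 1 n197416
theorem D221856 : act 1 n197416 = n221856 := rfl
theorem F511080 : act 1 n221856 = n206296 := d15_1 D221856 (iv7 F472609) F472606
theorem F511081 : act 7 n221856 = n215614 := d15_2 (iv0 F510671) D221856 (iv2 F510667)
theorem F511082 : act 4 n221856 = n214682 := d17_9 (iv1 F476376) (iv5 D172021) (iv1 F187751) (iv5 F428556) (iv4 F511072) (iv5 D221854) (iv0 D197414) D197416 D221856
theorem F511083 : act 3 n219706 = n221856 := d20_3 (iv4 D192084) F385431 D219706 (iv1 D221856) F470035 (iv4 F508960) F508963 (iv4 F500663) (iv3 D219796) F386238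
theorem F511084 : act 6 n209647 = n221856 := d21_3 (iv5 F463854) (iv1 F510895) F510892 (iv1 D221856) F404191 (iv5 D156042) (iv1 F167092) (iv5 F397140) (iv6 F438374) F438375
theorem F511085 : act 5 n221833 = n221856 := d21_6 (iv5 F78903) (iv1 F78904) (iv5 F96860) D108126 D197381 D221833 (iv1 D221856) (iv5 D197416) (iv6 D108148) (iv1 F78990)
def n221857 : Q := act 7 n197416
theorem D221857 : act 7 n197416 = n221857 := rfl
theorem F511086 : act 2 n221857 = n206296 := d4_1 D221857 (iv7 F472609) F472606
theorem F511087 : act 4 n221857 = n203657 := d11_1 D221857 (iv7 F477172) (iv4 F477174)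
theorem F511088 : act 5 n221857 = n197417 := d13_1 D221857 (iv7 D197417) D197416
theorem F511089 : act 6 n221857 = n199338 := d14_1 D221857 F411765 (iv6 F472635) (iv7 D213898) (iv6 F404191)
theorem F511090 : act 0 n215614 = n221857 := d21_4 F477121 (iv1 F401574) D221582 (iv6 F509707) F511089 (iv5 F454534) (iv1 D209660) (iv5 F403973) (iv6 F509709) (iv1 F509711)
def n221858 : Q := act 3 n197423
theorem D221858 : act 3 n197423 = n221858 := rfl
theorem F511091 : act 2 n221858 = n209092 := d0_1 D221858 (iv3 D209092) (iv2 F404209) F366517 (iv2 F404215)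
theorem F511092 : act 4 n221858 = n199819 := d5_2 F404214 D221858 F413637 (iv4 F404404) F387455
theorem F511093 : act 5 n221858 = n209092 := d6_2 (iv5 F404213) D221858 (iv3 D209092)
theorem F511094 : act 7 n221858 = n213880 := d8_2 (iv7 F404212) D221858 (iv3 D213880)
theorem F511095 : act 0 n221858 = n198341 := d19_4 F351198 (iv5 F364771) F404214 D221858 F407679 (iv4 D196428) D196427 (iv1 F400657) (iv5 F405693) (iv4 F441302) (iv3 D206553) (iv1 D128839) (iv5 D60590) (iv4 F95195) (iv3 D60579) F46409 (iv5 F48189) (iv4 F98573) (iv3 F351199)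
theorem F511096 : act 0 n198345 = n221858 := d20_4 F443618 (iv1 F443511) F415908 (iv3 F407696) (iv3 D221858) (iv4 F404214) (iv1 F245628) (iv4 F423061) F423060 (iv1 F443616)
def n221859 : Q := act 6 n197423
theorem D221859 : act 6 n197423 = n221859 := rfl
theorem F511097 : act 2 n221859 = n213879 := d3_1 D221859 (iv6 D213879) (iv2 F404215)
theorem F511098 : act 4 n221859 = n210369 := d10_1 D221859 (iv6 D210369) F404214
theorem F511099 : act 7 n220279 = n221859 := d11_0 F511098 F457232 (iv4 F503001)
theorem F511100 : act 0 n220278 = n221859 := d18_2 F502179 (iv4 F502998) F511098 (iv5 F476267) (iv4 D214661) (iv0 D160466) (iv4 F196335) (iv0 F406277) (iv5 F470124)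
theorem F511101 : act 0 n221859 = n214047 := d20_1 (iv4 F511098) (iv4 F502157) F502156 F497606 F389417 F216978 (iv1 F171758) (iv4 F171763) (iv3 F389399) F457233
def n221860 : Q := act 6 n197428
theorem D221860 : act 6 n197428 = n221860 := rfl
theorem F511102 : act 2 n221860 = n202429 := d3_1 D221860 (iv6 F440612) (iv2 F440613)
theorem F511103 : act 3 n221860 = n214780 := d7_1 D221860 (iv6 F508798) F508796
theorem F511104 : act 4 n221860 = n197430 := d10_1 D221860 (iv6 D197430) D197428
theorem F511105 : act 5 n221860 = n215935 := d12_1 D221860 (iv6 F500807) F500809 (iv6 D202005) F404258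
theorem F511106 : act 0 n221860 = n213910 := d21_4 (iv5 D115323) D115320 F404258 D221860 (iv6 D213910) D213909 F485493 (iv5 F422320) F422321 F355425
theorem F511107 : act 0 n202167 = n221860 := d21_4 D137041 D209872 F455216 F423111 (iv6 D221860) (iv5 F404258) (iv1 F226787) (iv5 F423228) F423233 (iv1 D137039)
def n221861 : Q := act 5 n197433
theorem D221861 : act 5 n197433 = n221861 := rfl
theorem F511108 : act 3 n221861 = n200201 := d6_1 D221861 (iv5 D200201) (iv3 F404267)
theorem F511109 : act 1 n221861 = n221822 := d17_6 D156150 D213973 F485863 F485860 F422644 D221861 (iv5 D221822) (iv0 D197374) F167211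
theorem F511110 : act 0 n221861 = n221824 := d21_7 (iv5 D211528) (iv1 F404611) F404609 (iv6 F403718) (iv1 F403720) D197433 D221861 (iv5 D221824) (iv6 F472254) F472253
theorem F511111 : act 4 n218382 = n221861 := d5_0 F511108 F471092 (iv3 D213571) (iv4 F376022) (iv3 F493610)
def n221862 : Q := act 6 n197438
theorem D221862 : act 6 n197438 = n221862 := rfl
theorem F511112 : act 3 n221862 = n197440 := d7_1 D221862 (iv6 D197440) D197438
theorem F511113 : act 4 n221862 = n202424 := d10_1 D221862 (iv6 D202424) (iv4 F404316)
theorem F511114 : act 5 n221862 = n205842 := d12_1 D221862 (iv6 D205842) D205841 (iv6 F459922) (iv5 F459925)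
def n221863 : Q := act 3 n197442
theorem D221863 : act 3 n197442 = n221863 := rfl
theorem F511115 : act 2 n221863 = n210943 := d0_1 D221863 (iv3 D210943) F223496 D140658 F405733
theorem F511116 : act 4 n221863 = n211377 := d5_2 (iv4 F404333) D221863 F461327 F351590 (iv3 F228624)
theorem F511117 : act 5 n221863 = n221110 := d6_2 F423938 D221863 (iv3 F507266)
theorem F511118 : act 6 n221863 = n211375 := d7_2 F404334 D221863 F461317
theorem F511119 : act 7 n221863 = n221177 := d8_2 (iv7 F404331) D221863 (iv3 D221177)
theorem F511120 : act 0 n221863 = n202872 := d19_4 F351592 D145583 (iv4 F404333) D221863 F425969 F403749 (iv3 F364778) D210898 (iv5 F459222) (iv4 D210903) (iv3 F459214) (iv1 F471578) F471575 F375258 (iv3 F388248) (iv1 F431061) (iv5 D203400) F186939 (iv3 F186937)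
theorem F511121 : act 0 n221151 = n221863 := d20_4 F504444 (iv1 F504425) F504430 (iv3 F507466) (iv3 D221863) F404333 F457758 F457757 (iv3 F510732) (iv1 F510737)
def n221864 : Q := act 3 n197444
theorem D221864 : act 3 n197444 = n221864 := rfl
theorem F511122 : act 2 n221864 = n219457 := d0_1 D221864 F498968 (iv2 F463597) F463594 (iv2 F404342)
theorem F511123 : act 4 n221864 = n203169 := d5_2 D197444 D221864 (iv3 D203169) F322836 F221393
theorem F511124 : act 5 n221864 = n203641 := d6_2 (iv5 F404345) D221864 F429203
theorem F511125 : act 6 n221864 = n200194 := d7_2 (iv6 F404343) D221864 (iv3 D200194)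
theorem F511126 : act 7 n221864 = n212000 := d8_2 (iv7 F404344) D221864 (iv3 D212000)
theorem F511127 : act 0 n220061 = n221864 := d20_4 (iv4 F463619) F480774 (iv4 F509703) F509702 (iv3 D221864) (iv4 D197444) (iv1 F167255) (iv4 F227546) F463624 (iv1 D211929)
def n221865 : Q := act 5 n197458
theorem D221865 : act 5 n197458 = n221865 := rfl
theorem F511128 : act 2 n221865 = n221479 := d2_1 D221865 (iv5 D221479) F404424
theorem F511129 : act 3 n221865 = n204760 := d6_1 D221865 F433486 F430241
theorem F511130 : act 7 n221865 = n220300 := d13_2 F404425 D221865 F503093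
theorem F511131 : act 1 n221865 = n221522 := d17_6 (iv1 F327468) D198195 (iv1 F461372) (iv5 F461374) (iv4 F404423) D221865 F509424 (iv0 F482890) (iv4 D216090)
def n221866 : Q := act 5 n197459
theorem D221866 : act 5 n197459 = n221866 := rfl
theorem F511132 : act 2 n221866 = n220300 := d2_1 D221866 F503093 F404428
theorem F511133 : act 6 n221866 = n218877 := d12_2 (iv6 F509946) D221866 F495997 (iv6 F460198) (iv5 F509942)
theorem F511134 : act 7 n221866 = n221479 := d13_2 (iv7 F404427) D221866 (iv5 D221479)
theorem F511135 : act 0 n221866 = n221522 := d17_2 (iv1 F404426) D221866 F509424 (iv4 F479036) (iv5 F484040) F484041 F479076 F410627 (iv4 F400827)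
def n221867 : Q := act 0 n197460
theorem D221867 : act 0 n197460 = n221867 := rfl
theorem F511136 : act 5 n221867 = n204066 := d17_3 (iv1 D197459) D197460 D221867 F430959 (iv5 F401127) (iv0 F401128) (iv5 D196406) F337386 F404429
theorem F511137 : act 6 n221867 = n221480 := d21_5 (iv5 D107076) F79051 D108200 (iv6 F404432) D221867 F509226 F482890 (iv5 F509424) (iv6 D221522) (iv1 D196559)
theorem F511138 : act 2 n221480 = n221867 := d2_3 F511136 (iv2 F482887) (iv5 F509226)
theorem F511139 : act 3 n204068 = n221867 := d6_3 F511136 (iv3 D204066) D204068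
theorem F511140 : act 7 n221481 = n221867 := d13_0 F511136 (iv7 F475974) (iv5 F509227)
theorem F511141 : act 0 n221867 = n221483 := d21_1 (iv5 F511136) F509231 (iv6 F410638) (iv1 F410639) D214178 F473871 F494735 F494736 (iv6 F509932) (iv1 F509933)
def n221868 : Q := act 1 n197460
theorem D221868 : act 1 n197460 = n221868 := rfl
theorem F511142 : act 1 n221868 = n221483 := d15_1 D221868 (iv7 D221483) (iv2 F404431)
theorem F511143 : act 7 n221868 = n221480 := d15_2 (iv0 D221867) D221868 F511138
theorem F511144 : act 5 n221868 = n197803 := d17_7 F509940 (iv5 D206235) F410635 (iv5 D199094) F171941 D197460 D221868 (iv0 F412895) (iv4 F509937)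
theorem F511145 : act 2 n221481 = n221868 := d2_3 F511144 (iv2 F475972) (iv5 F509227)
def n221869 : Q := act 4 n197460
theorem D221869 : act 4 n197460 = n221869 := rfl
theorem F511146 : act 2 n221869 = n221482 := d1_1 D221869 (iv4 D221482) (iv2 F404431)
theorem F511147 : act 3 n221869 = n209625 := d5_1 D221869 (iv4 F478151) (iv3 F478148) (iv4 F406205) F406203
theorem F511148 : act 6 n221869 = n197464 := d10_2 (iv6 F404432) D221869 (iv4 D197464)
theorem F511149 : act 5 n221869 = n209624 := d16_1 D221869 F454366 (iv5 D206233) D206232 F439830 (iv4 F400827) (iv5 F509231) (iv7 D221483) (iv2 F404431)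
def n221870 : Q := act 7 n197460
theorem D221870 : act 7 n197460 = n221870 := rfl
theorem F511150 : act 2 n221870 = n221483 := d4_1 D221870 (iv7 D221483) (iv2 F404431)
theorem F511151 : act 5 n221870 = n197461 := d13_1 D221870 (iv7 D197461) D197460
theorem F511152 : act 1 n221481 = n221870 := d15_1 D221481 (iv7 D221870) F404431
theorem F511153 : act 1 n221870 = n221480 := d15_1 F511152 (iv7 F511143) (iv2 F511145)
def n221871 : Q := act 4 n197462
theorem D221871 : act 4 n197462 = n221871 := rfl
theorem F511154 : act 2 n221871 = n221443 := d1_1 D221871 F509039 F404439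
theorem F511155 : act 3 n221871 = n215095 := d5_1 D221871 (iv4 D215095) F261983 (iv4 F273437) F404440
theorem F511156 : act 6 n221871 = n220302 := d10_2 (iv6 F410989) D221871 (iv4 D220302)
theorem F511157 : act 7 n221871 = n221444 := d11_2 F434986 D221871 F509043
theorem F511158 : act 0 n221871 = n212081 := d17_0 F464259 F441102 (iv5 F401086) (iv4 D196560) (iv5 D107076) D107075 D196557 F404438 D221871
theorem F511159 : act 1 n221871 = n212080 := d18_6 (iv1 F227006) F165674 F164850 (iv4 F172192) (iv5 F404437) D221871 (iv4 D212080) (iv0 F463385) (iv5 D211881)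
theorem F511160 : act 3 n207132 = n221443 := d0_4 F511155 (iv2 F506237) F506241 F443464 (iv2 F511154)
def n221872 : Q := act 3 n197463
theorem D221872 : act 3 n197463 = n221872 := rfl
theorem F511161 : act 2 n221872 = n215456 := d0_1 D221872 F480079 (iv2 F434062) F434988 (iv2 F434989)
theorem F511162 : act 5 n221872 = n215454 := d6_2 (iv5 F404443) D221872 F480069
theorem F511163 : act 7 n221872 = n221573 := d8_2 (iv7 F404442) D221872 F509656
theorem F511164 : act 6 n217897 = n221872 := d14_5 F511163 F509657 (iv7 F503103) (iv6 F503105) (iv7 F491146)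
theorem F511165 : act 0 n221872 = n221512 := d21_10 (iv5 D221512) (iv1 F401065) (iv5 F480121) (iv6 F480123) F495788 (iv6 D218816) F378942 (iv1 F372362) D217897 F511164
theorem F511166 : act 0 n221515 = n221872 := d17_2 (iv1 F401066) D221515 F511162 (iv4 F480072) F457540 (iv0 F459631) (iv5 D210986) F457290 F457285
def n221873 : Q := act 4 n197463
theorem D221873 : act 4 n197463 = n221873 := rfl
theorem F511167 : act 2 n221873 = n221444 := d1_1 D221873 F509043 (iv2 F434989)
theorem F511168 : act 7 n221873 = n221443 := d11_2 (iv7 F404442) D221873 F509039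
theorem F511169 : act 0 n221873 = n212080 := d17_0 F464258 (iv1 F442732) (iv5 F464396) F464395 F228386 F164008 D108200 D197463 D221873
theorem F511170 : act 1 n221873 = n212081 := d18_6 (iv1 F399944) (iv4 D196217) F165328 (iv4 F400720) (iv5 F404443) D221873 (iv4 D212081) (iv0 F438954) (iv5 D206038)
theorem F511171 : act 3 n221873 = n208010 := d20_3 (iv4 D221518) (iv1 F404441) D221873 (iv1 F447425) F496981 F496977 (iv1 F495216) (iv4 F498018) (iv3 F509030) (iv1 F509408)
def n221874 : Q := act 6 n197463
theorem D221874 : act 6 n197463 = n221874 := rfl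
theorem F511172 : act 2 n221874 = n221651 := d3_1 D221874 F510105 (iv2 F434989)
theorem F511173 : act 3 n221874 = n217897 := d7_1 D221874 F511164 (iv3 D221872)
theorem F511174 : act 5 n221874 = n199145 := d12_1 D221874 (iv6 D199145) F172035 D196450 (iv5 F404443)
theorem F511175 : act 7 n221874 = n220305 := d14_2 (iv7 F404442) D221874 (iv6 D220305) (iv7 F497564) (iv6 F497568)
theorem F511176 : act 0 n221874 = n221519 := d21_4 F228384 (iv1 F400723) (iv5 F404443) D221874 (iv6 D221519) (iv5 D196557) (iv1 D107075) D107076 F165060 D145340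
def n221875 : Q := act 2 n197485
theorem D221875 : act 2 n197485 = n221875 := rfl
theorem F511177 : act 4 n221875 = n215933 := d1_2 F472397 D221875 F482153
theorem F511178 : act 7 n221875 = n200326 := d4_2 F415605 D221875 (iv2 F439045)
theorem F511179 : act 1 n221875 = n200329 := d15_0 (iv0 F439053) F415605 D221875
theorem F511180 : act 1 n200320 = n221875 := d15_0 F511179 (iv7 D200329) (iv2 F415982)
def n221876 : Q := act 5 n197485
theorem D221876 : act 5 n197485 = n221876 := rfl
theorem F511181 : act 3 n221876 = n197486 := d6_1 D221876 (iv5 D197486) D197485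
def n221877 : Q := act 6 n197486
theorem D221877 : act 6 n197486 = n221877 := rfl
theorem F511182 : act 4 n221877 = n208084 := d10_1 D221877 F488593 F488591
theorem F511183 : act 5 n221877 = n209933 := d12_1 D221877 (iv6 D209933) F404525 (iv6 D197487) D197486
theorem F511184 : act 7 n221877 = n218916 := d14_2 F415608 D221877 (iv6 D218916) (iv7 F379268) (iv6 F415607)
def n221878 : Q := act 5 n197489
theorem D221878 : act 5 n197489 = n221878 := rfl
theorem F511185 : act 2 n221878 = n197496 := d2_1 D221878 (iv5 D197496) (iv2 F404532)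
theorem F511186 : act 7 n221878 = n203237 := d13_2 (iv7 F404534) D221878 (iv5 D203237)
def n221879 : Q := act 3 n197494
theorem D221879 : act 3 n197494 = n221879 := rfl
theorem F511187 : act 2 n221879 = n221586 := d0_1 D221879 (iv3 F510503) F510505 F507400 F466453
theorem F511188 : act 4 n221879 = n205106 := d5_2 (iv4 F404554) D221879 F434995 F225783 (iv3 F363425)
theorem F511189 : act 6 n221879 = n211070 := d7_2 F404555 D221879 F459988
theorem F511190 : act 7 n221879 = n211091 := d8_2 F470070 D221879 (iv3 F470069)
def n221880 : Q := act 5 n197494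
theorem D221880 : act 5 n197494 = n221880 := rfl
theorem F511191 : act 0 n221880 = n210820 := d17_2 D197494 D221880 (iv5 D210820) (iv4 D139848) D139849 F333638 (iv5 F315152) (iv0 D108247) (iv4 F167385)
theorem F511192 : act 1 n221880 = n210817 := d17_6 F408469 F408465 F393273 F393269 (iv4 F404554) D221880 (iv5 D210817) F458804 F458802
def n221881 : Q := act 5 n197495
theorem D221881 : act 5 n197495 = n221881 := rfl
theorem F511193 : act 3 n221881 = n216169 := d6_1 D221881 (iv5 F510510) (iv3 F510508)
theorem F511194 : act 6 n221881 = n210772 := d12_2 (iv6 F404559) D221881 (iv5 D210772) (iv6 F227565) (iv5 F397223)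
theorem F511195 : act 0 n221881 = n210817 := d17_2 (iv1 F404557) D221881 (iv5 D210817) (iv4 D139843) (iv5 F333634) (iv0 F333644) F333647 (iv0 F317357) (iv4 F185795)
theorem F511196 : act 1 n221881 = n210820 := d17_6 (iv1 F420840) (iv5 D201519) (iv1 F393653) F393651 F404558 D221881 (iv5 D210820) F458888 F458887
theorem F511197 : act 4 n221881 = n213412 := d19_2 (iv1 F404557) D221881 (iv3 D213412) (iv1 D153676) D153678 (iv4 F469609) F469608 (iv1 F394091) (iv5 F462066) F462068 F400457 (iv1 F493492) (iv5 F493496) (iv4 F474762) (iv3 F476230) F497798 F497797 F472050 F427498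
def n221882 : Q := act 1 n197496
theorem D221882 : act 1 n197496 = n221882 := rfl
theorem F511198 : act 1 n221882 = n203237 := d15_1 D221882 (iv7 F511186) F511185
def n221883 : Q := act 7 n197496
theorem D221883 : act 7 n197496 = n221883 := rfl
theorem F511199 : act 2 n221883 = n203237 := d4_1 D221883 (iv7 F511186) F511185
theorem F511200 : act 5 n221883 = n197497 := d13_1 D221883 (iv7 D197497) D197496
def n221884 : Q := act 0 n197502
theorem D221884 : act 0 n197502 = n221884 := rfl
theorem F511201 : act 4 n221884 = n205499 := d18_1 D221884 (iv1 F510042) F510041 (iv5 F491792) (iv4 F504005) (iv0 D220421) F390544 D193643 (iv5 F404589)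
theorem F511202 : act 3 n221884 = n218156 := d20_5 (iv4 D118763) (iv1 F139474) D187810 (iv3 F404587) D221884 F492417 F439693 (iv4 F471310) F471309 (iv1 D203351)
theorem F511203 : act 6 n221884 = n209507 := d21_5 (iv5 F311688) (iv1 D108278) D108279 D197502 D221884 F453956 F358545 (iv5 F337490) F337491 D125121
theorem F511204 : act 1 n220425 = n221884 := d15_0 (iv0 D221884) (iv7 F474913) (iv2 F503709)
theorem F511205 : act 7 n221884 = n209513 := d15_2 (iv0 F503712) F511204 (iv2 F454614)
def n221885 : Q := act 6 n197527
theorem D221885 : act 6 n197527 = n221885 := rfl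
theorem F511206 : act 2 n221885 = n210699 := d3_1 D221885 F458482 F442294
theorem F511207 : act 3 n221885 = n212996 := d7_1 D221885 (iv6 F503190) F503189
theorem F511208 : act 0 n221885 = n207034 := d21_4 F217226 D207671 F445941 D221885 (iv6 D207034) F208187 D133677 (iv5 F442575) (iv6 F442580) F396573
def n221886 : Q := act 0 n197529
theorem D221886 : act 0 n197529 = n221886 := rfl
theorem F511209 : act 4 n221886 = n208815 := d18_1 D221886 (iv1 F467065) F467061 (iv5 D195278) (iv4 F217331) (iv0 F441257) (iv4 F441972) (iv0 F450586) F450585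
theorem F511210 : act 2 n208816 = n221886 := d15_3 (iv0 D221886) (iv0 F446948) (iv7 F450985)
theorem F511211 : act 1 n212826 = n221886 := d15_0 (iv0 D221886) F405328 (iv2 F467644)
theorem F511212 : act 6 n207036 = n221886 := d10_0 F511209 (iv6 F501750) F501754
def n221887 : Q := act 3 n197530
theorem D221887 : act 3 n197530 = n221887 := rfl
theorem F511213 : act 2 n221887 = n218604 := d0_1 D221887 F494710 (iv2 F429630) F429631 F404708
theorem F511214 : act 5 n221887 = n203000 := d6_2 (iv5 F404707) D221887 F426590
theorem F511215 : act 7 n221887 = n203703 := d8_2 (iv7 F404710) D221887 F429463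
theorem F511216 : act 0 n221887 = n210875 := d19_4 (iv1 F180104) D140496 (iv4 F404706) D221887 F459108 F425073 (iv3 D142511) D142509 (iv5 F419657) F419656 (iv3 F343302) (iv1 D144970) D144972 (iv4 F448486) F448484 (iv1 F331460) (iv5 D144045) F103353 (iv3 F180100)
theorem F511217 : act 6 n218603 = n221887 := d14_5 F511215 F429464 D203705 (iv6 F454774) (iv7 F494708)
def n221888 : Q := act 6 n197530
theorem D221888 : act 6 n197530 = n221888 := rfl
theorem F511218 : act 2 n221888 = n203751 := d3_1 D221888 (iv6 D203751) F404708
theorem F511219 : act 3 n221888 = n218603 := d7_1 D221888 F511217 (iv3 D221887)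
theorem F511220 : act 4 n221888 = n204586 := d10_1 D221888 F432956 (iv4 F404706)
theorem F511221 : act 7 n221888 = n203713 := d14_2 (iv7 F404710) D221888 (iv6 D203713) (iv7 D120318) (iv6 F191566)
theorem F511222 : act 0 n221888 = n203777 := d21_4 (iv5 D120462) (iv1 F191571) (iv5 F404707) D221888 (iv6 F429771) F410400 F172365 D134089 (iv6 F411655) F411656
theorem F511223 : act 0 n203776 = n221888 := d21_4 F295198 D94104 F362817 (iv6 F429767) (iv6 D221888) F404707 (iv1 F191570) D120467 (iv6 F367969) (iv1 F367967)
def n221889 : Q := act 0 n197535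
theorem D221889 : act 0 n197535 = n221889 := rfl
theorem F511224 : act 5 n221889 = n215998 := d17_1 D221889 F482484 F449199 F434554 (iv5 F415466) (iv0 F415468) F250316 D204980 (iv4 F434431)
theorem F511225 : act 4 n221889 = n207140 := d18_3 (iv1 F434428) (iv4 F434431) D221889 F443488 F405031 (iv0 D134277) D134279 (iv0 F352310) F361291
theorem F511226 : act 3 n221889 = n214081 := d20_5 (iv4 F487890) F487891 (iv4 F385064) D197535 D221889 F473393 (iv1 F315146) (iv4 F216975) (iv3 F411776) F457206
theorem F511227 : act 6 n221889 = n220857 := d21_5 (iv5 D145424) D145421 (iv5 F459329) F459326 D221889 F505922 (iv1 D219157) F383157 (iv6 F464583) (iv1 D212166)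
theorem F511228 : act 2 n214078 = n221889 := d15_3 (iv0 D221889) (iv0 F457242) (iv7 F473376)
theorem F511229 : act 7 n221889 = n221684 := d4_2 (iv7 F473376) F511228 F510280
def n221890 : Q := act 3 n197539
theorem D221890 : act 3 n197539 = n221890 := rfl
theorem F511230 : act 2 n221890 = n216078 := d0_1 D221890 F482817 (iv2 F363339) F363340 F404730
theorem F511231 : act 4 n221890 = n201098 := d5_2 (iv4 F404729) D221890 (iv3 F501410) F501412 F391816
theorem F511232 : act 5 n221890 = n211421 := d6_2 (iv5 F404728) D221890 (iv3 D211421)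
theorem F511233 : act 6 n221890 = n198264 := d7_2 (iv6 F404726) D221890 (iv3 D198264)
theorem F511234 : act 7 n221890 = n214090 := d8_2 F404731 D221890 (iv3 D214090)
theorem F511235 : act 0 n221890 = n220970 := d20_10 (iv4 D220970) (iv1 F475235) F475231 F473894 F469651 F405364 (iv4 F343167) (iv1 F221521) (iv4 F404729) D221890
theorem F511236 : act 1 n221890 = n220973 := d15_1 (iv0 F511235) F506582 (iv2 F506564)
def n221891 : Q := act 2 n197544
theorem D221891 : act 2 n197544 = n221891 := rfl
theorem F511237 : act 3 n221891 = n214092 := d0_2 D197544 D221891 (iv2 D214092) (iv3 D156338) (iv2 F167662)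
theorem F511238 : act 4 n221891 = n215612 := d1_2 (iv4 F404758) D221891 F480763
theorem F511239 : act 5 n221891 = n211981 := d2_2 F508896 D221891 (iv2 F508895)
theorem F511240 : act 6 n221891 = n206265 := d3_2 (iv6 F404759) D221891 F439986
theorem F511241 : act 7 n221891 = n214094 := d4_2 (iv7 F404760) D221891 (iv2 D214094)
theorem F511242 : act 1 n221891 = n203575 := d15_0 (iv0 F428957) (iv7 F404760) D221891
theorem F511243 : act 1 n206262 = n221891 := d15_0 F511242 (iv7 F498618) F498615
def n221892 : Q := act 6 n197550
theorem D221892 : act 6 n197550 = n221892 := rfl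
theorem F511244 : act 2 n221892 = n197554 := d3_1 D221892 (iv6 D197554) (iv2 F404781)
theorem F511245 : act 3 n221892 = n214130 := d7_1 D221892 (iv6 D214130) (iv3 F404782)
theorem F511246 : act 4 n221892 = n215260 := d10_1 D221892 F479092 (iv4 F404783)
theorem F511247 : act 5 n221892 = n218696 := d12_1 D221892 (iv6 D218696) (iv5 F404790) (iv6 D197551) D197550
theorem F511248 : act 7 n221892 = n217768 := d14_2 F405139 D221892 (iv6 D217768) (iv7 F489396) F489395
theorem F511249 : act 0 n221892 = n219383 := d21_4 F350373 (iv1 F167821) D197550 D221892 (iv6 F498600) (iv5 F407438) F413918 F413914 (iv6 D197635) F371972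
theorem F511250 : act 0 n211361 = n221892 := d21_4 F451079 F401058 (iv5 F224937) D211361 (iv6 D221892) (iv5 D197550) (iv1 F167825) (iv5 F405119) (iv6 F405120) F451084
def n221893 : Q := act 3 n197553
theorem D221893 : act 3 n197553 = n221893 := rfl
theorem F511251 : act 2 n221893 = n221023 := d0_1 D221893 F506855 (iv2 F470331) F470332 F404799
theorem F511252 : act 4 n221893 = n221022 := d5_2 F494939 D221893 F506849 F453250 F494940
theorem F511253 : act 5 n221893 = n197631 := d6_2 (iv5 F404798) D221893 (iv3 D197631)
theorem F511254 : act 6 n221893 = n220527 := d7_2 F480787 D221893 F504196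
theorem F511255 : act 7 n221893 = n219671 := d8_2 (iv7 F404797) D221893 F499967
theorem F511256 : act 0 n221893 = n212724 := d19_4 (iv1 F447931) (iv5 F494938) F494939 D221893 F467273 (iv4 D197609) D197608 F473120 F473121 F425394 F234559 (iv1 F310973) F310976 (iv4 F331605) (iv3 F420783) (iv1 F420801) F360268 F227970 (iv3 F387828)
def n221894 : Q := act 0 n197554
theorem D221894 : act 0 n197554 = n221894 := rfl
theorem F511257 : act 5 n221894 = n199718 := d17_1 D221894 F413238 (iv5 D187997) F139625 (iv5 F68332) D92932 D188969 F375272 (iv4 F404801)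
theorem F511258 : act 4 n221894 = n217842 := d18_1 D221894 F490878 F431916 (iv5 F431914) (iv4 F430168) (iv0 F479789) F479786 (iv0 F479016) F408233
theorem F511259 : act 3 n221894 = n210964 := d20_5 (iv4 F367965) (iv1 F367967) F336666 (iv3 F404800) D221894 F459518 (iv1 F454337) F384304 F172891 D111421
theorem F511260 : act 6 n221894 = n210961 := d21_5 F370795 (iv1 D108443) D108445 D197554 D221894 (iv5 D210961) (iv1 F413920) (iv5 F420435) F420432 F405115
theorem F511261 : act 2 n219383 = n221894 := d15_3 (iv0 D221894) (iv0 F509828) F509827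
theorem F511262 : act 1 n217768 = n221894 := d15_0 (iv0 D221894) F404802 (iv2 F490523)
theorem F511263 : act 7 n221894 = n211361 := d15_2 (iv0 F509829) F511262 (iv2 F509823)
def n221895 : Q := act 2 n197556
theorem D221895 : act 2 n197556 = n221895 := rfl
theorem F511264 : act 3 n221895 = n214136 := d0_2 D197556 D221895 (iv2 D214136) (iv3 D156602) (iv2 F167686)
theorem F511265 : act 4 n221895 = n215896 := d1_2 (iv4 F404807) D221895 F481972
theorem F511266 : act 5 n221895 = n215900 := d2_2 F433833 D221895 F481991
theorem F511267 : act 6 n221895 = n212152 := d3_2 (iv6 F404808) D221895 (iv2 F464513)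
theorem F511268 : act 7 n221895 = n197575 := d4_2 (iv7 F404809) D221895 (iv2 F404886)
theorem F511269 : act 1 n221895 = n197578 := d15_0 (iv0 F404890) (iv7 F404809) D221895
theorem F511270 : act 1 n197572 = n221895 := d15_0 F511269 (iv7 D197578) (iv2 F404875)
def n221896 : Q := act 5 n197574
theorem D221896 : act 5 n197574 = n221896 := rfl
theorem F511271 : act 3 n221896 = n199732 := d6_1 D221896 (iv5 F505406) F505404
theorem F511272 : act 6 n221896 = n199728 := d12_2 D197574 D221896 (iv5 D199728) (iv6 F387404) F387399
theorem F511273 : act 7 n221896 = n218278 := d13_2 F490378 D221896 F493080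
theorem F511274 : act 4 n221896 = n201721 := d16_2 (iv4 F404878) D221896 F421554 (iv4 F480805) F480806 (iv4 F481920) (iv5 F492894) F492895 F404875
theorem F511275 : act 1 n221896 = n218287 := d17_8 (iv1 F482059) F419916 (iv1 F375457) (iv5 F375439) (iv4 F492610) F492611 (iv0 F470398) D221896 F493120
def n221897 : Q := act 4 n197580
theorem D221897 : act 4 n197580 = n221897 := rfl
theorem F511276 : act 2 n221897 = n198225 := d1_1 D221897 F407273 (iv2 F404901)
theorem F511277 : act 3 n221897 = n221563 := d5_1 D221897 F509606 (iv3 D211701) (iv4 F401269) (iv3 F404898)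
theorem F511278 : act 5 n221897 = n198209 := d9_2 F404902 D221897 (iv4 F455379) F455380 F220256 (iv5 F220349) F390036 F404907 (iv4 F411327) (iv5 F411337) (iv4 F455336) (iv5 D209911) F220252 D137156 (iv4 F390045)
theorem F511279 : act 6 n221897 = n210930 := d10_2 F404900 D221897 (iv4 F459341)
theorem F511280 : act 7 n221897 = n198220 := d11_2 F404903 D221897 F407264
theorem F511281 : act 0 n221897 = n202689 := d17_0 (iv5 F460141) (iv1 F460143) (iv5 D209996) (iv4 F455549) F455550 D220369 F503446 F404899 D221897
theorem F511282 : act 1 n221897 = n215732 := d18_6 F471590 F374340 (iv1 F361950) (iv4 F390045) F404902 D221897 F481298 F461074 (iv5 F471588)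
def n221898 : Q := act 6 n197583
theorem D221898 : act 6 n197583 = n221898 := rfl
theorem F511283 : act 2 n221898 = n197584 := d3_1 D221898 (iv6 D197584) D197583
theorem F511284 : act 4 n221898 = n198580 := d10_1 D221898 F408380 (iv4 F404913)
theorem F511285 : act 5 n221898 = n198575 := d12_1 D221898 F488649 F488646 (iv6 F388994) (iv5 F404914)
theorem F511286 : act 7 n221898 = n209687 := d14_2 (iv7 F404915) D221898 F454633 F426734 (iv6 F406077)
theorem F511287 : act 0 n221898 = n197930 := d21_4 (iv5 F403836) (iv1 F403839) (iv5 F404914) D221898 F406226 (iv5 D163970) D163968 F301261 F295442 D193385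
theorem F511288 : act 1 n221898 = n209475 := d15_1 (iv0 F511287) (iv7 F473682) F473680
def n221899 : Q := act 3 n197585
theorem D221899 : act 3 n197585 = n221899 := rfl
theorem F511289 : act 5 n221899 = n219243 := d6_2 F461166 D221899 (iv3 F497905)
theorem F511290 : act 6 n221899 = n218388 := d7_2 (iv6 F404921) D221899 (iv3 D218388)
theorem F511291 : act 0 n221899 = n197713 := d19_4 (iv1 F172366) (iv5 F383083) (iv4 F404920) D221899 (iv5 F476210) F496187 (iv3 D218917) (iv1 F379288) (iv5 D95815) (iv4 F324997) F103947 (iv1 F50172) (iv5 F98020) (iv4 F305146) (iv3 F308984) (iv1 D60206) D60207 D128118 F356743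
theorem F511292 : act 0 n220178 = n221899 := d20_4 (iv4 D221665) F402458 D220814 (iv3 F505673) (iv3 D221899) F404920 F383084 F343811 (iv3 F473427) (iv1 F510176)
def n221900 : Q := act 6 n197586
theorem D221900 : act 6 n197586 = n221900 := rfl
theorem F511293 : act 2 n221900 = n216012 := d3_1 D221900 (iv6 F482529) (iv2 F405377)
theorem F511294 : act 4 n221900 = n203777 := d10_1 D221900 (iv6 F429771) F410401
theorem F511295 : act 7 n221900 = n216011 := d14_2 (iv7 F405372) D221900 F482524 F376100 (iv6 F405367)
theorem F511296 : act 0 n221900 = n205021 := d21_4 F457132 D211332 F461159 D221900 (iv6 D205021) (iv5 F301733) F197507 F304266 D215789 (iv1 F481592)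
theorem F511297 : act 0 n208848 = n221900 := d21_4 F429678 (iv1 F424208) (iv5 F424207) D208848 (iv6 D221900) (iv5 F461159) (iv1 F461161) (iv5 F411402) F459162 F459161
def n221901 : Q := act 0 n197598
theorem D221901 : act 0 n197598 = n221901 := rfl
theorem F511298 : act 5 n221901 = n216095 := d17_3 (iv1 D197597) D197598 D221901 (iv4 D216095) (iv5 D180499) (iv0 F351111) (iv5 F216808) F349734 (iv4 F404964)
theorem F511299 : act 3 n221901 = n213581 := d20_5 F498516 F480675 F480672 (iv3 F404968) D221901 F471130 F485515 (iv4 F485992) F485990 D219369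
theorem F511300 : act 6 n221901 = n210542 := d21_5 (iv5 D135217) (iv1 F167785) D197628 F405095 D221901 F457982 F491052 F491053 F451155 (iv1 F451153)
theorem F511301 : act 1 n204502 = n221901 := d15_0 (iv0 D221901) (iv7 F432583) (iv2 F432731)
theorem F511302 : act 7 n216721 = n221901 := d14_0 F511300 (iv7 F469551) (iv6 F469555) F455171 D216721
def n221902 : Q := act 1 n197598
theorem D221902 : act 1 n197598 = n221902 := rfl
theorem F511303 : act 1 n221902 = n204502 := d15_1 D221902 F432734 F405400
theorem F511304 : act 2 n216721 = n221902 := d15_3 F511303 F511301 (iv7 F511302)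
theorem F511305 : act 6 n221902 = n204601 := d3_2 D216721 F511304 (iv2 F455172)
def n221903 : Q := act 4 n197598
theorem D221903 : act 4 n197598 = n221903 := rfl
theorem F511306 : act 2 n221903 = n213971 := d1_1 D221903 F472928 F405400
theorem F511307 : act 5 n221903 = n203610 := d9_2 D197598 D221903 F429085 (iv5 D198332) (iv4 F216784) F216785 (iv4 F405404) (iv5 F432733) F432732 (iv5 D156148) (iv4 F201838) (iv5 F362343) F164796 (iv5 F79289) (iv4 F167722)
theorem F511308 : act 7 n221903 = n213965 := d11_2 F432583 D221903 F472912
theorem F511309 : act 0 n221903 = n203620 := d17_0 F429105 F400971 (iv5 F485365) (iv4 D216663) (iv5 F425021) (iv0 F482922) (iv5 F511298) (iv0 D221901) D221903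
theorem F511310 : act 1 n221903 = n213970 := d18_6 (iv1 F370503) F370499 (iv1 D108496) (iv4 F167722) D197598 D221903 F502615 (iv0 F481857) F432638
def n221904 : Q := act 6 n197609
theorem D221904 : act 6 n197609 = n221904 := rfl
theorem F511311 : act 2 n221904 = n208636 := d3_1 D221904 (iv6 D208636) (iv2 F405011)
theorem F511312 : act 3 n221904 = n221842 := d7_1 D221904 (iv6 D221842) (iv3 F405012)
theorem F511313 : act 4 n221904 = n197611 := d10_1 D221904 (iv6 D197611) D197609
theorem F511314 : act 5 n221904 = n220925 := d12_1 D221904 (iv6 F506304) (iv5 F483869) F483870 F467273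
theorem F511315 : act 7 n221904 = n219957 := d14_2 F434533 D221904 (iv6 D219957) (iv7 F386922) (iv6 F434536)
theorem F511316 : act 0 n221904 = n220859 := d21_4 (iv5 F511253) F511256 F467273 D221904 (iv6 D220859) F394274 D218838 F495860 (iv6 F484543) F473377
theorem F511317 : act 0 n220085 = n221904 := d21_4 F415141 (iv1 F401642) F390020 D220085 (iv6 D221904) (iv5 F467273) F467274 (iv5 F474836) F474835 F467179
def n221905 : Q := act 5 n197612
theorem D221905 : act 5 n197612 = n221905 := rfl
theorem F511318 : act 3 n221905 = n208638 := d6_1 D221905 F450279 (iv3 F405018)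
theorem F511319 : act 4 n221905 = n208406 := d9_1 D221905 (iv5 D208406) (iv4 D134269) (iv5 F361288) (iv4 F405015) (iv5 D197610) D197609 (iv5 F467273) F467272 F446088 F212755 (iv5 F352309) F348522 (iv5 F360548) D197612
theorem F511320 : act 7 n221905 = n208635 := d13_2 (iv7 F405020) D221905 (iv5 D208635)
theorem F511321 : act 0 n221905 = n221893 := d17_2 (iv1 F434555) D221905 F511253 F405107 (iv5 D159058) F200963 (iv5 D125094) (iv0 F352302) (iv4 F434554)
theorem F511322 : act 1 n221905 = n208323 := d17_6 (iv1 F443496) F466009 (iv1 D212481) (iv5 F360548) D197612 D221905 (iv5 F474836) (iv0 F510283) (iv4 D221684)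
def n221906 : Q := act 7 n197616
theorem D221906 : act 7 n197616 = n221906 := rfl
theorem F511323 : act 2 n221906 = n207079 := d4_1 D221906 (iv7 F483636) F483633
theorem F511324 : act 3 n221906 = n197619 := d8_1 D221906 (iv7 D197619) (iv3 F405035)
theorem F511325 : act 5 n221906 = n205466 := d13_1 D221906 (iv7 F447248) F447246
theorem F511326 : act 6 n221906 = n197987 := d14_1 D221906 (iv7 F510314) (iv6 D221689) F403027 D197616
theorem F511327 : act 1 n211476 = n221906 := d15_1 (iv0 F483638) (iv7 D221906) (iv2 F483633)
theorem F511328 : act 1 n221906 = n215559 := d15_1 F511327 (iv7 F490247) F490245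
def n221907 : Q := act 6 n197625
theorem D221907 : act 6 n197625 = n221907 := rfl
theorem F511329 : act 2 n221907 = n215602 := d3_1 D221907 (iv6 F480724) (iv2 F405081)
theorem F511330 : act 3 n221907 = n198327 := d7_1 D221907 F444222 F444218
theorem F511331 : act 4 n221907 = n204937 := d10_1 D221907 (iv6 D204937) (iv4 F405078)
theorem F511332 : act 5 n221907 = n217106 := d12_1 D221907 (iv6 D217106) F450352 (iv6 D208659) (iv5 F405077)
theorem F511333 : act 7 n221907 = n215601 := d14_2 F405080 D221907 (iv6 F480721) (iv7 F491471) (iv6 F491474)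
theorem F511334 : act 0 n221907 = n209436 := d21_4 (iv5 D134892) D134889 (iv5 F405077) D221907 (iv6 D209436) F310380 (iv1 F155434) (iv5 F367951) (iv6 F375716) (iv1 F375717)
theorem F511335 : act 1 n221907 = n208681 := d15_1 (iv0 F511334) F450433 (iv2 F453703)
def n221908 : Q := act 4 n197628
theorem D221908 : act 4 n197628 = n221908 := rfl
theorem F511336 : act 2 n221908 = n208731 := d1_1 D221908 (iv4 D208731) (iv2 F405093)
theorem F511337 : act 6 n221908 = n221903 := d10_2 (iv6 F405095) D221908 (iv4 D221903)
theorem F511338 : act 7 n221908 = n215828 := d11_2 F406334 D221908 F481714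
theorem F511339 : act 5 n221908 = n208362 := d16_1 D221908 (iv4 D208362) (iv5 D134217) F98369 F80562 (iv4 F98369) D134217 (iv7 F217210) (iv2 F405093)
theorem F511340 : act 0 n221908 = n208501 := d17_0 F449636 F485330 (iv5 F504139) F504138 (iv5 F407193) (iv0 F407194) D204357 F432196 D221908
theorem F511341 : act 1 n221908 = n208499 := d18_6 D63147 F167789 (iv1 D108523) (iv4 F167783) D197628 D221908 (iv4 D208499) (iv0 D134450) (iv5 D63149)
def n221909 : Q := act 2 n197631
theorem D221909 : act 2 n197631 = n221909 := rfl
theorem F511342 : act 3 n221909 = n220219 := d0_2 D197631 D221909 (iv2 F502714) F407605 (iv2 F385068)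
theorem F511343 : act 4 n221909 = n204979 := d1_2 (iv4 F405107) D221909 F434425
theorem F511344 : act 5 n221909 = n221023 := d2_2 F511253 D221909 (iv2 F511251)
theorem F511345 : act 7 n221909 = n214372 := d4_2 (iv7 F405106) D221909 F474833
theorem F511346 : act 1 n221909 = n221889 := d15_0 (iv0 D221889) (iv7 F405106) D221909
theorem F511347 : act 1 n210371 = n221909 := d15_0 F511346 F511229 F510280
def n221910 : Q := act 2 n197637
theorem D221910 : act 2 n197637 = n221910 := rfl
theorem F511348 : act 3 n221910 = n210377 := d0_2 D197637 D221910 (iv2 D210377) (iv3 D138486) F167804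
theorem F511349 : act 4 n221910 = n208090 := d1_2 (iv4 F405127) D221910 (iv2 D208090)
theorem F511350 : act 5 n221910 = n210553 := d2_2 F434754 D221910 F458012
theorem F511351 : act 6 n221910 = n211014 := d3_2 (iv6 F405128) D221910 F459756
theorem F511352 : act 7 n221910 = n202454 := d4_2 (iv7 F405129) D221910 F424073
theorem F511353 : act 1 n221910 = n202455 := d15_0 (iv0 D202455) (iv7 F405129) D221910
theorem F511354 : act 1 n202456 = n221910 := d15_0 F511353 (iv7 F424078) (iv2 F431953)
def n221911 : Q := act 0 n197651
theorem D221911 : act 0 n197651 = n221911 := rfl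
theorem F511355 : act 5 n221911 = n199629 := d17_1 D221911 (iv1 F412916) (iv5 F485006) F485005 F394242 F378152 F407347 (iv0 F453943) F453940
theorem F511356 : act 4 n221911 = n199020 := d18_1 D221911 F410355 F362330 F248832 (iv4 F148453) (iv0 F358299) F412605 F412603 F405215
theorem F511357 : act 3 n221911 = n197889 := d20_5 F326225 (iv1 F295294) F325748 (iv3 F405212) D221911 F406123 D199745 F435365 F435361 F201994
theorem F511358 : act 6 n221911 = n197883 := d21_5 (iv5 D197647) (iv1 D108548) D108550 D197651 D221911 (iv5 D197883) (iv1 F406108) (iv5 F484778) F484777 (iv1 F405187)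
theorem F511359 : act 2 n199558 = n221911 := d15_3 (iv0 D221911) (iv0 F405214) (iv7 F412663)
theorem F511360 : act 1 n199545 = n221911 := d15_0 (iv0 D221911) F405213 (iv2 F412609)
theorem F511361 : act 7 n221911 = n199557 := d15_2 (iv0 F412613) F511360 (iv2 F412662)
def n221912 : Q := act 4 n197667
theorem D221912 : act 4 n197667 = n221912 := rfl
theorem F511362 : act 2 n221912 = n210727 := d1_1 D221912 (iv4 D210727) F405304
theorem F511363 : act 3 n221912 = n201839 := d5_1 D221912 F422000 (iv3 F366710) (iv4 F387338) (iv3 F405305)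
theorem F511364 : act 5 n221912 = n207696 := d9_2 (iv5 F405306) D221912 (iv4 F456541) (iv5 F456543) F434590 (iv5 D197089) F166241 D134212 D208354 F449055 (iv4 F448815) F448813 (iv4 F466007) (iv5 F466009) F443493
theorem F511365 : act 6 n221912 = n220132 := d10_2 F405307 D221912 F502292
theorem F511366 : act 7 n221912 = n209357 := d11_2 F449052 D221912 F453379
theorem F511367 : act 0 n221912 = n208406 := d17_0 (iv5 D208406) (iv1 F405386) (iv5 D197680) (iv4 D108579) (iv5 D50133) D50131 D108572 (iv0 F405309) D221912
theorem F511368 : act 1 n221912 = n207705 := d18_6 (iv1 F510284) (iv4 D221684) (iv1 F443496) F443493 (iv5 F405306) D221912 (iv4 F467272) (iv0 F511256) F511253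
def n221913 : Q := act 3 n197668
theorem D221913 : act 3 n197668 = n221913 := rfl
theorem F511369 : act 5 n221913 = n205734 := d6_2 (iv5 F405310) D221913 F437626
theorem F511370 : act 0 n221913 = n217839 := d19_4 D50130 D108567 D197668 D221913 (iv5 F490865) (iv4 D205769) F203617 (iv1 F96819) (iv5 D62113) (iv4 D29407) F46939 (iv1 F46938) (iv5 D24852) F19510 F19493 (iv1 D5377) D5378 D11549 D24450
theorem F511371 : act 0 n221025 = n221913 := d20_4 (iv4 F179230) D136695 (iv4 F396549) D221025 (iv3 D221913) (iv4 D197668) D197667 D221912 F511363 (iv1 D201839)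
def n221914 : Q := act 6 n197669
theorem D221914 : act 6 n197669 = n221914 := rfl
theorem F511372 : act 2 n221914 = n197673 := d3_1 D221914 (iv6 D197673) (iv2 F405311)
theorem F511373 : act 5 n221914 = n213731 := d12_1 D221914 (iv6 D213731) (iv5 D154771) (iv6 F319267) (iv5 F405312)
theorem F511374 : act 0 n221914 = n207648 := d21_10 (iv5 F492976) F492978 (iv5 F508939) (iv6 D221421) (iv1 F405341) (iv6 D197682) F167914 (iv1 F246659) (iv5 F405312) D221914
theorem F511375 : act 0 n203761 = n221914 := d21_4 D193089 (iv1 F420155) (iv5 F429732) F429733 (iv6 D221914) F405312 F246658 (iv5 F332988) F155849 D101172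
def n221915 : Q := act 6 n197672
theorem D221915 : act 6 n197672 = n221915 := rfl
theorem F511376 : act 4 n221915 = n197673 := d10_1 D221915 (iv6 D197673) D197672
theorem F511377 : act 5 n221915 = n205733 := d12_1 D221915 F437621 (iv5 D205656) (iv6 F396471) (iv5 F405322)
theorem F511378 : act 0 n217839 = n221915 := d21_4 (iv5 F490741) F490862 (iv5 D217838) D217839 (iv6 D221915) F405322 (iv1 D195251) D195253 D221011 F506790
theorem F511379 : act 1 n221025 = n221915 := d18_8 F437623 (iv4 F437432) F437781 F437780 (iv5 F445827) (iv4 F490897) F490896 (iv4 F506862) F511377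
def n221916 : Q := act 7 n197673
theorem D221916 : act 7 n197673 = n221916 := rfl
theorem F511380 : act 3 n221916 = n204411 := d8_1 D221916 F467949 (iv3 F405323)
theorem F511381 : act 5 n221916 = n213738 := d13_1 D221916 (iv7 D213738) (iv5 F405324)
theorem F511382 : act 1 n203761 = n221916 := d15_1 (iv0 F511375) (iv7 D221916) (iv2 F511372)
theorem F511383 : act 1 n221916 = n207648 := d15_1 F511382 F445840 F442359
def n221917 : Q := act 3 n197674
theorem D221917 : act 3 n197674 = n221917 := rfl
theorem F511384 : act 4 n221917 = n221424 := d5_2 D197674 D221917 F508953 F400486 (iv3 F388636)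
theorem F511385 : act 5 n221917 = n205608 := d6_2 F405325 D221917 F437203
theorem F511386 : act 7 n221917 = n221423 := d8_2 (iv7 F406532) D221917 F508948
theorem F511387 : act 0 n221917 = n221021 := d19_4 D139623 (iv5 F388637) D197674 D221917 (iv5 D221021) F396518 (iv3 D126609) (iv1 D59398) (iv5 D28207) (iv4 D13466) (iv3 F19137) D24847 (iv5 F78071) F78070 F37752 (iv1 F24188) D14557 D30717 D65531
theorem F511388 : act 0 n212827 = n221917 := d20_4 F355282 (iv1 D150129) D150130 D212827 (iv3 D221917) (iv4 D197674) (iv1 F388642) (iv4 F502329) F502328 (iv1 F388474)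
theorem F511389 : act 6 n221917 = n220602 := d21_5 F421817 (iv1 F393974) F393971 (iv6 F467652) F511388 (iv5 D220602) F437917 F437915 (iv6 D201799) D201796
def n221918 : Q := act 6 n197674
theorem D221918 : act 6 n197674 = n221918 := rfl
theorem F511390 : act 2 n221918 = n207931 := d3_1 D221918 F449204 (iv2 F449195)
theorem F511391 : act 3 n221918 = n220602 := d7_1 D221918 (iv6 F511389) (iv3 D221917)
theorem F511392 : act 4 n221918 = n197675 := d10_1 D221918 (iv6 D197675) D197674
theorem F511393 : act 5 n221918 = n207927 := d12_1 D221918 (iv6 F482395) F482397 (iv6 D208317) F405325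
theorem F511394 : act 7 n221918 = n207929 := d14_2 (iv7 F406532) D221918 F447035 F405479 D198020
theorem F511395 : act 0 n221918 = n214457 := d19_4 (iv1 F391352) (iv5 F502953) (iv4 F504564) (iv3 F511391) F475258 F446329 (iv3 F446328) F446299 (iv5 F213317) (iv4 F342783) (iv3 D119604) (iv1 F188564) D203572 F428946 (iv3 F467348) F502925 (iv5 F504272) F504271 F449038
def n221919 : Q := act 0 n197675
theorem D221919 : act 0 n197675 = n221919 := rfl
theorem F511396 : act 5 n221919 = n219217 := d19_1 D221919 (iv4 D219217) (iv3 D190936) (iv1 D97066) (iv5 D45371) F315993 (iv3 F94847) D128273 F206395 (iv4 F187667) (iv3 F428471) (iv1 F451432) F451429 F416681 F406937 F504360 F504357 F449978 F405485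
theorem F511397 : act 3 n221919 = n214288 := d20_5 F406220 (iv1 F449981) F449978 F405485 D221919 (iv4 F496663) F496665 F388613 F169161 D109187
theorem F511398 : act 6 n221919 = n214287 := d21_5 (iv5 D139626) D139623 (iv5 F388637) D197675 D221919 (iv5 D214287) (iv1 F392192) (iv5 F479097) F479098 F405273
theorem F511399 : act 2 n221899 = n221919 := d3_3 F511398 (iv2 F493636) (iv6 F511290)
def n221920 : Q := act 1 n197675
theorem D221920 : act 1 n197675 = n221920 := rfl
theorem F511400 : act 7 n221920 = n221899 := d15_2 (iv0 D221919) D221920 F511399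
theorem F511401 : act 3 n197689 = n221920 := d20_3 (iv4 F343827) (iv1 F343815) (iv4 F405376) (iv1 D221920) (iv3 F405485) (iv4 F449978) (iv1 F449980) (iv4 F363341) F363340 (iv1 F343831)
theorem F511402 : act 6 n220533 = n221920 := d21_3 (iv5 D193858) D193857 D220533 (iv1 D221920) (iv6 D197675) F388637 (iv1 F222785) D208353 F449051 (iv1 F391221)
theorem F511403 : act 5 n221920 = n211423 := d21_6 (iv5 D197846) (iv1 F396893) (iv5 F449957) F500423 (iv1 F504233) F511402 F477562 F477559 (iv6 D208555) (iv1 F405995)
def n221921 : Q := act 5 n197675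
theorem D221921 : act 5 n197675 = n221921 := rfl
theorem F511404 : act 3 n221921 = n221551 := d6_1 D221921 F509558 F405485
theorem F511405 : act 6 n221921 = n211442 := d12_2 D197675 D221921 F461547 F428958 (iv5 F388637)
theorem F511406 : act 7 n221921 = n214648 := d13_2 F405481 D221921 F476210
theorem F511407 : act 4 n221921 = n219238 := d16_4 D207927 (iv5 F511393) F511392 D221921 (iv5 F497888) F497075 (iv5 D207926) F348904 (iv2 F348901)
theorem F511408 : act 0 n221921 = n218776 := d21_1 D221921 (iv5 F501779) (iv6 D220036) D220034 (iv6 F501768) (iv5 D193858) D193857 D220533 F511402 (iv1 D221920)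
def n221922 : Q := act 6 n197677
theorem D221922 : act 6 n197677 = n221922 := rfl
theorem F511409 : act 2 n221922 = n207892 := d3_1 D221922 (iv6 F448976) F448974
theorem F511410 : act 3 n221922 = n206901 := d7_1 D221922 (iv6 D206901) (iv3 F405384)
theorem F511411 : act 5 n221922 = n207882 := d12_1 D221922 (iv6 F446866) F438339 F418832 F405385
theorem F511412 : act 7 n221922 = n206929 := d14_2 F443039 D221922 (iv6 D206929) F442388 F443042
def n221923 : Q := act 4 n197678
theorem D221923 : act 4 n197678 = n221923 := rfl
theorem F511413 : act 3 n221923 = n197813 := d5_1 D221923 F405853 (iv3 F399597) D201821 (iv3 F445978)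
theorem F511414 : act 5 n221923 = n210371 := d9_2 F446057 D221923 F457241 (iv5 D175373) (iv4 F365399) F365400 (iv4 F215979) F405385 (iv4 F482483) (iv5 F511224) F511225 F443488 F405031 (iv5 F365396) (iv4 F446056)
theorem F511415 : act 6 n221923 = n197811 := d10_2 (iv6 F445979) D221923 (iv4 F405849)
theorem F511416 : act 7 n221923 = n208642 := d11_2 F448977 D221923 F450295
theorem F511417 : act 0 n221923 = n217554 := d17_0 F489463 F405013 (iv5 F467273) F467272 F446088 (iv0 F405331) (iv5 D197680) D197678 D221923
theorem F511418 : act 1 n221923 = n208400 := d18_6 (iv1 D201830) F179204 D134022 (iv4 F446056) F446057 D221923 (iv4 D208400) D208399 F449193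
def n221924 : Q := act 0 n197679
theorem D221924 : act 0 n197679 = n221924 := rfl
theorem F511419 : act 5 n221924 = n207836 := d17_3 (iv1 F446597) F405329 D221924 F446651 (iv5 F375653) (iv0 F375655) (iv5 D135115) D135113 (iv4 F446594)
theorem F511420 : act 4 n221924 = n212685 := d18_1 D221924 (iv1 D212685) F442289 (iv5 D206815) (iv4 F363946) F363948 (iv4 F441421) (iv0 F441425) F405329
theorem F511421 : act 3 n221924 = n218274 := d20_5 (iv4 D197676) (iv1 D108578) D108579 D197679 D221924 F493070 (iv1 F494932) (iv4 F506800) F506799 F449188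
theorem F511422 : act 2 n207906 = n221924 := d15_3 (iv0 D221924) (iv0 F450987) F450985
theorem F511423 : act 1 n212383 = n221924 := d15_0 (iv0 D221924) (iv7 F405328) (iv2 F465607)
theorem F511424 : act 7 n221924 = n221886 := d15_2 F465611 F511423 (iv2 F511210)
theorem F511425 : act 6 n207866 = n221924 := d21_3 F212783 (iv1 F212717) D207866 (iv1 F511423) (iv6 D212383) (iv5 D146861) (iv1 F327586) D206707 F441924 F212784
def n221925 : Q := act 6 n197680
theorem D221925 : act 6 n197680 = n221925 := rfl
theorem F511426 : act 2 n221925 = n218207 := d3_1 D221925 F492723 F443009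
theorem F511427 : act 3 n221925 = n219477 := d7_1 D221925 (iv6 F499079) (iv3 F405330)
theorem F511428 : act 4 n221925 = n218209 := d10_1 D221925 F492732 F448719
theorem F511429 : act 7 n221925 = n219519 := d14_2 F443017 D221925 F499259 (iv7 F499299) F499298
theorem F511430 : act 0 n221925 = n207889 := d21_4 F446057 (iv1 D197678) D197680 D221925 F450776 F450772 (iv1 F499130) (iv5 D219486) (iv6 F442536) (iv1 F446060)
theorem F511431 : act 0 n212656 = n221925 := d21_4 (iv5 F446083) (iv1 D207704) F325510 D212656 (iv6 D221925) (iv5 D197680) D197677 (iv5 F405385) (iv6 F418832) F437643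
def n221926 : Q := act 6 n197686
theorem D221926 : act 6 n197686 = n221926 := rfl
theorem F511432 : act 2 n221926 = n197687 := d3_1 D221926 (iv6 D197687) D197686
theorem F511433 : act 3 n221926 = n221898 := d7_1 D221926 (iv6 D221898) (iv3 F405358)
theorem F511434 : act 5 n221926 = n217379 := d12_1 D221926 (iv6 D217379) F369623 D193163 (iv5 F405359)
theorem F511435 : act 0 n221926 = n220850 := d21_4 F373207 (iv1 F388999) (iv5 F405359) D221926 (iv6 D220850) (iv5 F412595) F412601 F405215 (iv6 D197651) F402501
def n221927 : Q := act 0 n197687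
theorem D221927 : act 0 n197687 = n221927 := rfl
theorem F511436 : act 5 n221927 = n220727 := d17_1 D221927 (iv1 F505220) (iv5 D220733) F393075 (iv5 F369434) (iv0 F380688) D213512 F470779 F440155
theorem F511437 : act 4 n221927 = n208257 := d20_8 (iv4 F172894) F411441 (iv4 D199077) D199076 (iv1 F471974) F471969 F440155 D221927 (iv3 D208257) (iv1 D134015)
theorem F511438 : act 6 n221927 = n199555 := d21_5 (iv5 F389378) F389379 F352692 D197687 D221927 (iv5 D199555) (iv1 F412621) (iv5 F493427) F493428 F405193
theorem F511439 : act 2 n220850 = n221927 := d15_3 (iv0 D221927) (iv0 F469651) (iv7 F505878)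
def n221928 : Q := act 6 n197691
theorem D221928 : act 6 n197691 = n221928 := rfl
theorem F511440 : act 2 n221928 = n207919 := d3_1 D221928 F446990 F442293
theorem F511441 : act 3 n221928 = n216376 := d7_1 D221928 (iv6 F484078) F456603
theorem F511442 : act 4 n221928 = n207870 := d10_1 D221928 F446818 F445974
theorem F511443 : act 0 n221928 = n217967 := d21_4 (iv5 D134885) D134882 F405382 D221928 (iv6 D217967) F372721 F295337 D191140 (iv6 F404698) F404700
theorem F511444 : act 1 n221928 = n208714 := d15_1 (iv0 F511443) F498597 F498591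
theorem F511445 : act 7 n221928 = n207914 := d15_2 (iv0 F491469) (iv0 F511443) (iv2 F448601)
def n221929 : Q := act 5 n197694
theorem D221929 : act 5 n197694 = n221929 := rfl
theorem F511446 : act 3 n221929 = n197696 := d6_1 D221929 (iv5 D197696) (iv3 F405393)
theorem F511447 : act 6 n221929 = n208730 := d12_2 D197694 D221929 (iv5 D208730) (iv6 D134982) (iv5 F167922)
theorem F511448 : act 7 n221929 = n212440 := d13_2 (iv7 F405394) D221929 (iv5 D212440)
theorem F511449 : act 4 n209836 = n221929 := d11_3 F511448 (iv4 F472989) F472992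
def n221930 : Q := act 0 n197696
theorem D221930 : act 0 n197696 = n221930 := rfl
theorem F511450 : act 5 n221930 = n198294 := d17_3 (iv1 F362822) D197696 D221930 F407511 F351119 (iv0 D114529) (iv5 F331536) D134866 (iv4 F362811)
theorem F511451 : act 4 n221930 = n220751 := d18_3 F509271 F472928 D221930 (iv5 D220751) F393257 F351316 (iv4 F164999) D196524 D221490
theorem F511452 : act 6 n221930 = n213049 := d21_5 (iv5 D134454) F101901 D134983 (iv6 F405401) D221930 (iv5 D213049) F449317 F449316 F449654 (iv1 D208506)
theorem F511453 : act 2 n221901 = n221930 := d15_3 (iv0 D221930) (iv0 F485620) F511302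
theorem F511454 : act 1 n204452 = n221930 := d15_0 (iv0 D221930) (iv7 F432734) F432731
theorem F511455 : act 7 n221930 = n221902 := d15_2 (iv0 F485621) F511454 (iv2 F511304)
theorem F511456 : act 3 n213050 = n221930 := d19_19 (iv1 F511454) F432582 F404970 F351189 F294244 (iv5 F291390) (iv4 D90757) D90756 F360971 F335915 (iv4 F155910) (iv3 D101199) (iv1 D47131) D47132 D101204 D193127 F388834 (iv5 F359978) (iv4 F468780)
def n221931 : Q := act 6 n197710
theorem D221931 : act 6 n197710 = n221931 := rfl
theorem F511457 : act 2 n221931 = n197713 := d3_1 D221931 (iv6 D197713) (iv2 F405469)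
theorem F511458 : act 3 n221931 = n197907 := d7_1 D221931 (iv6 D197907) (iv3 F405470)
theorem F511459 : act 5 n221931 = n204746 := d12_1 D221931 (iv6 D204746) F250820 (iv6 F341850) D197710
theorem F511460 : act 7 n221931 = n220178 := d14_2 (iv7 F405471) D221931 (iv6 D220178) (iv7 F388632) (iv6 F372898)
theorem F511461 : act 0 n221931 = n221920 := d21_4 (iv5 D108857) (iv1 F167984) D197710 D221931 (iv6 F511402) (iv5 D220533) (iv1 F391218) F406879 (iv6 D197741) (iv1 F362469)
theorem F511462 : act 0 n221919 = n221931 := d21_4 F430690 F256260 D214287 (iv6 F511398) (iv6 D221931) (iv5 D197710) (iv1 F167986) D108862 D198010 F430692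
def n221932 : Q := act 0 n197713
theorem D221932 : act 0 n197713 = n221932 := rfl
theorem F511463 : act 5 n221932 = n218778 := d17_3 F477534 F476210 D221932 (iv4 D218778) (iv5 F495116) F495119 (iv5 F427674) (iv0 D198555) D198557
theorem F511464 : act 3 n221932 = n220175 := d20_5 F280734 F363355 F216781 (iv3 F405480) D221932 (iv4 D220175) (iv1 D193056) (iv4 F387457) F387456 (iv1 F363337)
theorem F511465 : act 6 n221932 = n220221 := d21_5 (iv5 F352236) (iv1 D108605) D108607 D197713 D221932 (iv5 D220221) F388973 D217659 F489973 F405599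
theorem F511466 : act 2 n221920 = n221932 := d15_3 (iv0 D221932) (iv0 F511291) (iv7 F511400)
theorem F511467 : act 1 n220178 = n221932 := d15_0 (iv0 D221932) F405481 (iv2 F502495)
theorem F511468 : act 7 n221932 = n221919 := d15_2 (iv0 F511292) F511467 (iv2 F511399)
def n221933 : Q := act 6 n197718
theorem D221933 : act 6 n197718 = n221933 := rfl
theorem F511469 : act 2 n221933 = n197945 := d3_1 D221933 (iv6 D197945) (iv2 F405499)
theorem F511470 : act 4 n221933 = n219181 := d10_1 D221933 F497613 F413059
theorem F511471 : act 5 n221933 = n212135 := d12_1 D221933 F464451 F407707 F400805 D197718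
theorem F511472 : act 7 n221933 = n218834 := d14_2 (iv7 F405500) D221933 F495840 (iv7 F461163) (iv6 F405370)
theorem F511473 : act 0 n221933 = n211430 := d21_4 F168715 (iv1 F167991) D197718 D221933 (iv6 D211430) (iv5 D141980) (iv1 F102424) D66580 (iv6 F343793) F173122
theorem F511474 : act 0 n214940 = n221933 := d21_4 F480273 (iv1 F449888) F406224 D214940 (iv6 D221933) (iv5 D197718) (iv1 D108611) D108612 (iv6 F405483) F480277
def n221934 : Q := act 7 n197719
theorem D221934 : act 7 n197719 = n221934 := rfl
theorem F511475 : act 2 n221934 = n197956 := d4_1 D221934 (iv7 D197956) (iv2 F405503)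
theorem F511476 : act 4 n221934 = n197720 := d11_1 D221934 (iv7 D197720) D197719
theorem F511477 : act 5 n221934 = n197969 := d13_1 D221934 (iv7 F505884) F505882
theorem F511478 : act 6 n221934 = n204771 := d14_1 D221934 (iv7 F436689) F415038 (iv7 F509019) F509018
theorem F511479 : act 1 n197953 = n221934 := d15_1 D197953 (iv7 D221934) F405503
theorem F511480 : act 1 n221934 = n197952 := d15_1 F511479 (iv7 F413107) F413105
def n221935 : Q := act 5 n197722
theorem D221935 : act 5 n197722 = n221935 := rfl
theorem F511481 : act 2 n221935 = n197900 := d2_1 D221935 (iv5 D197900) (iv2 F405514)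
theorem F511482 : act 3 n221935 = n198892 := d6_1 D221935 (iv5 F418261) F418257
theorem F511483 : act 4 n221935 = n199734 := d9_1 D221935 (iv5 D199734) (iv4 D111649) D111650 (iv4 F219110) (iv5 F219108) (iv4 F202065) F202218 (iv4 D125722) (iv5 D58868) (iv4 F81039) D111321 (iv4 F219103) (iv5 F219105) D197722
theorem F511484 : act 6 n221935 = n221242 := d12_2 F503157 D221935 (iv5 D221242) (iv6 F397934) D220315
theorem F511485 : act 7 n221935 = n197887 := d13_2 (iv7 F405515) D221935 (iv5 D197887)
theorem F511486 : act 0 n221935 = n198288 := d17_2 (iv1 F405518) D221935 (iv5 D198288) (iv4 D109135) D109136 (iv0 F407257) F407255 (iv0 F482721) F482718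
theorem F511487 : act 1 n221935 = n205293 := d17_6 (iv1 D50293) D50295 D108933 (iv5 F219105) D197722 D221935 F435816 F202743 (iv4 D108928)
def n221936 : Q := act 1 n197725
theorem D221936 : act 1 n197725 = n221936 := rfl
theorem F511488 : act 1 n221936 = n197893 := d15_1 D221936 (iv7 D197893) (iv2 F405526)
theorem F511489 : act 7 n221936 = n197890 := d15_2 (iv0 F413930) D221936 (iv2 F413931)
theorem F511490 : act 5 n221936 = n221468 := d17_7 F412412 (iv5 F406044) (iv1 F417500) F417501 F433414 (iv5 F433416) D221936 (iv0 F509162) F406113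
theorem F511491 : act 4 n221936 = n215747 := d17_9 F481385 F435668 (iv1 F417545) F417543 F176548 (iv5 F363322) D204730 (iv5 F433416) D221936
theorem F511492 : act 3 n198011 = n221936 := d19_19 (iv1 D221936) F433416 (iv4 F433414) D205294 (iv1 F435826) (iv5 F477074) F477075 F474611 (iv1 D162790) D162792 (iv4 F425397) (iv3 D202747) (iv1 F351521) (iv5 F423213) (iv4 F423603) (iv3 F481409) F481411 F440277 F430024
theorem F511493 : act 6 n215746 = n221936 := d21_3 F402075 (iv1 F402042) (iv5 F481377) (iv1 D221936) (iv6 D197725) F219108 (iv1 D108934) (iv5 D50295) D50296 D108937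
theorem F511494 : act 2 n221936 = n197861 := d3_1 F511493 (iv6 F412406) (iv2 F481375)
def n221937 : Q := act 6 n197748
theorem D221937 : act 6 n197748 = n221937 := rfl
theorem F511495 : act 2 n221937 = n198136 := d3_1 D221937 (iv6 D198136) (iv2 F405616)
theorem F511496 : act 3 n221937 = n215459 := d7_1 D221937 F480085 F455742
theorem F511497 : act 4 n221937 = n221576 := d10_1 D221937 F509673 F509506
theorem F511498 : act 5 n221937 = n197951 := d12_1 D221937 (iv6 D197951) F172731 (iv6 F172732) D197748
theorem F511499 : act 7 n221937 = n215331 := d14_2 (iv7 F405617) D221937 F479435 F406975 (iv6 D198142)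
theorem F511500 : act 0 n221937 = n215330 := d21_4 (iv5 D108634) D108632 D197748 D221937 F479431 (iv5 F423381) F459600 (iv5 F507426) (iv6 F507429) (iv1 D197750)
theorem F511501 : act 0 n211399 = n221937 := d21_4 (iv5 F457228) (iv1 F458609) (iv5 F505734) F505738 (iv6 D221937) (iv5 D197748) (iv1 F168520) (iv5 F168961) F393815 F401871
def n221938 : Q := act 3 n197750
theorem D221938 : act 3 n197750 = n221938 := rfl
theorem F511502 : act 2 n221938 = n221478 := d0_1 D221938 F509218 (iv2 F455616) (iv3 D198146) F405627
theorem F511503 : act 4 n221938 = n200502 := d5_2 F407308 D221938 F416756 D214680 F476367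
theorem F511504 : act 5 n221938 = n199516 := d6_2 (iv5 F405626) D221938 F412488
theorem F511505 : act 6 n221938 = n200501 := d7_2 (iv6 F507429) D221938 (iv3 F507427)
theorem F511506 : act 7 n221938 = n198143 := d8_2 (iv7 F405625) D221938 (iv3 D198143)
theorem F511507 : act 0 n221938 = n221627 := d20_4 (iv4 F470094) (iv1 F470098) F407308 D221938 (iv3 D221627) (iv4 D196879) (iv1 F165677) D107425 (iv3 F360134) (iv1 F331125)
theorem F511508 : act 0 n221617 = n221938 := d20_4 (iv4 F502143) (iv1 D220104) D220105 (iv3 F509897) (iv3 D221938) (iv4 F407308) (iv1 D198237) (iv4 D109071) (iv3 F169055) D198227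
def n221939 : Q := act 7 n197751
theorem D221939 : act 7 n197751 = n221939 := rfl
theorem F511509 : act 2 n221939 = n198153 := d4_1 D221939 (iv7 D198153) (iv2 F405628)
theorem F511510 : act 4 n221939 = n197752 := d11_1 D221939 (iv7 D197752) D197751
theorem F511511 : act 5 n221939 = n198159 := d13_1 D221939 F407031 (iv5 F405629)
theorem F511512 : act 1 n198150 = n221939 := d15_1 D198150 (iv7 D221939) F405628
theorem F511513 : act 1 n221939 = n198149 := d15_1 F511512 (iv7 F406990) F406994
def n221940 : Q := act 4 n197753
theorem D221940 : act 4 n197753 = n221940 := rfl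
theorem F511514 : act 2 n221940 = n197755 := d1_1 D221940 (iv4 D197755) (iv2 F405635)
theorem F511515 : act 3 n221940 = n218265 := d5_1 D221940 F493033 F442639 F330984 (iv3 F405636)
theorem F511516 : act 5 n221940 = n205147 := d9_2 D197753 D221940 (iv4 D205147) F360423 F360418 (iv5 D108907) F79664 D50295 D108935 (iv5 F172885) F201904 (iv5 F360426) F360425 (iv5 D125831) (iv4 F168536)
theorem F511517 : act 6 n221940 = n218264 := d10_2 (iv6 F506607) D221940 (iv4 F506605)
theorem F511518 : act 7 n221940 = n198100 := d11_2 (iv7 F405637) D221940 (iv4 D198100)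
theorem F511519 : act 0 n221940 = n198109 := d17_0 F406858 F202212 (iv5 F405547) (iv4 D197729) (iv5 D108619) D108617 F219108 F405638 D221940
theorem F511520 : act 1 n221940 = n198108 := d18_8 (iv1 F204655) (iv4 D125710) (iv1 F173212) (iv4 D111649) D111650 (iv4 F219110) F405638 D221940 F406854
def n221941 : Q := act 0 n197755
theorem D221941 : act 0 n197755 = n221941 := rfl
theorem F511521 : act 5 n221941 = n198785 := d17_1 D221941 (iv1 F409228) D200044 F414752 (iv5 D197726) F168482 D108759 F386119 D197755
theorem F511522 : act 4 n221941 = n198289 := d18_1 D221941 F505585 F505581 F412165 (iv4 F435380) (iv0 F483062) F483060 F435485 (iv5 F405645)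
theorem F511523 : act 2 n198109 = n221941 := d15_3 (iv0 D221941) F405646 (iv7 F406857)
theorem F511524 : act 1 n198100 = n221941 := d15_0 (iv0 D221941) F405644 (iv2 F406797)
theorem F511525 : act 7 n221941 = n198108 := d15_2 (iv0 F406799) F511524 (iv2 F406855)
theorem F511526 : act 3 n199617 = n221941 := d8_3 F511525 F412521 (iv7 F412869)
def n221942 : Q := act 5 n197780
theorem D221942 : act 5 n197780 = n221942 := rfl
theorem F511527 : act 2 n221942 = n211506 := d2_1 D221942 (iv5 D211506) F405774
theorem F511528 : act 3 n221942 = n197782 := d6_1 D221942 (iv5 D197782) D197780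
theorem F511529 : act 6 n221942 = n213450 := d12_2 F405775 D221942 F470455 (iv6 D205125) F395309
theorem F511530 : act 7 n221942 = n198205 := d13_2 (iv7 F405766) D221942 (iv5 D198205)
theorem F511531 : act 4 n221942 = n211293 := d16_2 (iv4 F405773) D221942 (iv5 D211293) F366073 F102676 (iv4 F102663) (iv5 F225405) (iv7 D142507) (iv2 F225349)
theorem F511532 : act 0 n197807 = n221942 := d19_0 (iv5 D221942) F405773 F356966 F378725 (iv5 F415941) (iv4 F464177) F464175 F400584 (iv5 D196293) F204066 (iv3 D126818) (iv1 D59512) D59513 (iv4 F95796) (iv3 F209240) D207263 F444036 (iv4 D197808) D197807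
def n221943 : Q := act 5 n197790
theorem D221943 : act 5 n197790 = n221943 := rfl
theorem F511533 : act 2 n221943 = n198205 := d2_1 D221943 (iv5 D198205) (iv2 F405808)
theorem F511534 : act 3 n221943 = n198286 := d6_1 D221943 (iv5 D198286) F405807
theorem F511535 : act 4 n221943 = n208899 := d9_1 D221943 F451315 (iv4 D142460) (iv5 D66795) (iv4 F102647) D142440 (iv4 F405773) D221942 F511531 (iv5 D211293) F366073 F102676 (iv4 F102663) (iv5 F225405) (iv4 F405809)
theorem F511536 : act 7 n221943 = n211506 := d13_2 (iv7 F405806) D221943 (iv5 D211506)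
theorem F511537 : act 0 n221943 = n197807 := d17_2 F408584 D221943 F407993 (iv4 D198431) F347155 F361871 F361869 F174562 D198622
theorem F511538 : act 6 n208898 = n221943 := d21_5 F505901 (iv1 F401626) D199231 F451029 (iv1 F451309) (iv5 D221943) (iv1 D197790) D197792 (iv6 F405814) F505905
def n221944 : Q := act 5 n197791
theorem D221944 : act 5 n197791 = n221944 := rfl
theorem F511539 : act 2 n221944 = n197792 := d2_1 D221944 (iv5 D197792) D197791
theorem F511540 : act 3 n221944 = n206709 := d6_1 D221944 F441932 F438870
theorem F511541 : act 4 n221944 = n208478 := d9_1 D221944 (iv5 D208478) F363092 (iv5 F320608) (iv4 F278693) (iv5 F361857) (iv4 F405817) F420070 (iv4 F449547) (iv5 D208480) F363097 (iv5 F320505) (iv4 F278747) F361862 (iv4 F405810)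
theorem F511542 : act 6 n221944 = n221594 := d12_2 F455662 D221944 F509768 (iv6 D209992) D209991
theorem F511543 : act 1 n221944 = n198216 := d17_6 (iv1 D109307) D109309 F347167 F361862 (iv4 F405810) D221944 (iv5 F459229) (iv0 F459231) (iv4 D198431)
def n221945 : Q := act 5 n197795
theorem D221945 : act 5 n197795 = n221945 := rfl
theorem F511544 : act 3 n221945 = n197796 := d6_1 D221945 (iv5 D197796) D197795
theorem F511545 : act 6 n221945 = n199512 := d12_2 (iv6 F431793) D221945 F412472 F360745 (iv5 F431789)
theorem F511546 : act 0 n221945 = n199584 := d17_2 F408879 D221945 (iv5 D199584) F396724 (iv5 F423770) F423773 (iv5 D199702) F173161 (iv4 F408876)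
theorem F511547 : act 4 n221945 = n201157 := d17_4 D188899 F412280 F408879 D221945 (iv5 F493064) (iv0 D218273) (iv5 D188905) (iv0 D92899) (iv4 F143275)
theorem F511548 : act 1 n221945 = n218312 := d17_6 (iv1 F496884) (iv5 F500205) F500207 F477005 F408588 D221945 F493259 F414263 (iv4 F496882)
def n221946 : Q := act 5 n197799
theorem D221946 : act 5 n197799 = n221946 := rfl
theorem F511549 : act 2 n221946 = n198239 := d2_1 D221946 (iv5 D198239) F405831
theorem F511550 : act 3 n221946 = n198271 := d6_1 D221946 (iv5 D198271) (iv3 F405832)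
theorem F511551 : act 4 n221946 = n198019 := d9_1 D221946 F406529 F204111 (iv5 F175357) (iv4 F204057) (iv5 F330501) (iv4 F405684) (iv5 F448928) (iv4 D208327) (iv5 D134161) F98336 (iv5 F97563) (iv4 F166245) (iv5 F330500) (iv4 F405830)
theorem F511552 : act 7 n221946 = n217732 := d13_2 F438861 D221946 F490374
theorem F511553 : act 0 n221946 = n206928 := d17_2 D197799 D221946 F442633 F281187 (iv5 F338764) (iv0 D129494) (iv5 F323991) F323990 (iv4 F330495)
theorem F511554 : act 1 n221946 = n197811 := d17_6 (iv1 D108830) D108832 F344734 (iv5 F330500) (iv4 F405830) D221946 (iv5 F477492) F477496 (iv4 D197979)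
def n221947 : Q := act 0 n197800
theorem D221947 : act 0 n197800 = n221947 := rfl
theorem F511555 : act 5 n221947 = n205970 := d17_3 (iv1 F405686) D197800 D221947 (iv4 D205970) (iv5 D126855) (iv0 D59525) F330502 D108972 (iv4 F405684)
theorem F511556 : act 4 n221947 = n198178 := d18_1 D221947 (iv1 F407120) (iv4 F405597) (iv5 D197740) (iv4 F402868) F402871 (iv4 F405830) (iv0 D197799) D197800
theorem F511557 : act 3 n221947 = n198275 := d20_5 F406849 (iv1 D127809) (iv4 F356726) (iv3 F405833) D221947 F407439 (iv1 F387766) (iv4 F406069) (iv3 F411074) (iv1 F411078)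
theorem F511558 : act 6 n221947 = n215664 := d21_5 F420561 (iv1 F387658) F365259 F405835 D221947 (iv5 D215664) D215662 (iv5 F490725) (iv6 D217806) (iv1 F420557)
theorem F511559 : act 2 n198248 = n221947 := d15_3 (iv0 D221947) (iv0 F459487) F459485
theorem F511560 : act 1 n206709 = n221947 := d15_0 (iv0 D221947) (iv7 F446567) F446564
def n221948 : Q := act 4 n197802
theorem D221948 : act 4 n197802 = n221948 := rfl
theorem F511561 : act 0 n221948 = n199492 := d18_2 F493036 D221948 (iv4 D199492) (iv5 D111363) F81070 D108719 D197858 F412446 F493035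
def n221949 : Q := act 6 n197802
theorem D221949 : act 6 n197802 = n221949 := rfl
theorem F511562 : act 3 n221949 = n217827 := d7_1 D221949 F490812 F412839
def n221950 : Q := act 5 n197809
theorem D221950 : act 5 n197809 = n221950 := rfl
theorem F511563 : act 3 n221950 = n215507 := d6_1 D221950 F480259 F454603
theorem F511564 : act 7 n221950 = n220461 := d13_2 F506582 D221950 F506584
theorem F511565 : act 0 n221950 = n211416 := d17_2 F482820 D221950 F461470 F419103 F177207 F362883 D135591 (iv0 F420544) (iv4 F482818)
theorem F511566 : act 1 n221950 = n211394 := d17_6 (iv1 D113638) (iv5 D52462) D52460 D113630 (iv4 F420130) D221950 (iv5 D211394) (iv0 F418440) (iv4 D200937)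
def n221951 : Q := act 2 n197811
theorem D221951 : act 2 n197811 = n221951 := rfl
theorem F511567 : act 4 n221951 = n206846 := d1_2 F405849 D221951 (iv2 F442387)
theorem F511568 : act 5 n221951 = n210957 := d2_2 F477492 D221951 (iv2 F477490)
theorem F511569 : act 7 n221951 = n206928 := d4_2 F477595 D221951 (iv2 F477593)
theorem F511570 : act 1 n221951 = n217732 := d15_0 (iv0 F490375) F477595 D221951
theorem F511571 : act 1 n198239 = n221951 := d15_0 F511570 (iv7 F511552) F511549
def n221952 : Q := act 1 n197819
theorem D221952 : act 1 n197819 = n221952 := rfl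
theorem F511572 : act 1 n221952 = n220272 := d15_1 D221952 F502973 F432376
theorem F511573 : act 5 n221952 = n218061 := d18_9 (iv1 D218061) D218062 (iv1 F491964) (iv4 F497421) F497422 F491981 F491980 (iv4 F432254) D221952
theorem F511574 : act 3 n217820 = n221952 := d20_3 F490704 (iv1 F421317) (iv4 F490787) (iv1 D221952) F405886 F168618 D140374 (iv4 F360124) D197928 F490705
theorem F511575 : act 6 n214265 = n221952 := d21_3 F461296 (iv1 F268413) D214265 (iv1 D221952) (iv6 D197819) F168615 D113573 (iv5 F358906) D198250 (iv1 F461294)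
theorem F511576 : act 2 n221952 = n220848 := d3_1 F511575 (iv6 D220848) (iv2 F474302)
theorem F511577 : act 4 n221952 = n212540 := d10_1 F511575 F466338 (iv4 F474304)
def n221953 : Q := act 5 n197819
theorem D221953 : act 5 n197819 = n221953 := rfl
theorem F511578 : act 2 n221953 = n220273 := d2_1 D221953 F502976 F432376
theorem F511579 : act 3 n221953 = n197820 := d6_1 D221953 (iv5 D197820) (iv3 F405886)
theorem F511580 : act 4 n221953 = n217374 := d9_1 D221953 F488625 F392494 (iv5 F432245) (iv4 D204367) D204368 (iv4 F502972) (iv5 D220272) F389367 (iv5 D103248) (iv4 F158493) D194356 (iv4 F392922) D204369 (iv4 F432254)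
theorem F511581 : act 6 n221953 = n200866 := d12_2 D197819 D221953 (iv5 D200866) (iv6 D113576) (iv5 F168615)
theorem F511582 : act 7 n221953 = n217371 := d13_2 F432358 D221953 F488612
theorem F511583 : act 0 n221953 = n211367 := d17_2 (iv1 D221952) D221953 (iv5 D211367) (iv4 F393091) (iv5 F393089) (iv0 F432330) (iv5 F484790) (iv0 F484792) (iv4 F511577)
theorem F511584 : act 1 n221953 = n211368 := d17_6 (iv1 F366879) F198209 (iv1 F198116) D204369 (iv4 F432254) D221953 (iv5 D211368) F373301 F373299
def n221954 : Q := act 7 n197820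
theorem D221954 : act 7 n197820 = n221954 := rfl
theorem F511585 : act 2 n221954 = n198320 := d4_1 D221954 (iv7 D198320) (iv2 F405887)
theorem F511586 : act 3 n221954 = n217371 := d8_1 D221954 (iv7 F511582) F511579
theorem F511587 : act 4 n221954 = n215520 := d11_1 D221954 F480309 F461530
theorem F511588 : act 5 n221954 = n197821 := d13_1 D221954 (iv7 D197821) D197820
theorem F511589 : act 6 n221954 = n211406 := d14_1 D221954 F461432 (iv6 F406284) F406285 (iv6 F405888)
theorem F511590 : act 1 n198318 = n221954 := d15_1 D198318 (iv7 D221954) F405887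
theorem F511591 : act 1 n221954 = n198317 := d15_1 F511590 F407586 F407580
def n221955 : Q := act 3 n197828
theorem D221955 : act 3 n197828 = n221955 := rfl
theorem F511592 : act 2 n221955 = n210905 := d0_1 D221955 (iv3 D210905) F400136 (iv3 F435666) F435663
theorem F511593 : act 4 n221955 = n205258 := d5_2 D197828 D221955 (iv3 D205258) F360470 (iv3 F360476)
theorem F511594 : act 5 n221955 = n217979 := d6_2 F407488 D221955 F491530
theorem F511595 : act 6 n221955 = n215537 := d7_2 (iv6 F407489) D221955 (iv3 D215537)
theorem F511596 : act 0 n221955 = n197855 := d19_4 (iv1 F360459) F360431 D197828 D221955 (iv5 F451050) (iv4 D208834) (iv3 F337790) (iv1 F466239) F466240 F275807 F129194 F343353 (iv5 F105258) F82571 (iv3 D25386) F36869 D27991 (iv4 F45274) (iv3 F93139)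
theorem F511597 : act 0 n199917 = n221955 := d20_4 F325297 (iv1 F338757) (iv4 F281187) (iv3 F414140) (iv3 D221955) (iv4 D197828) (iv1 F202151) F202149 F168480 (iv1 F167985)
def n221956 : Q := act 6 n197835
theorem D221956 : act 6 n197835 = n221956 := rfl
theorem F511598 : act 2 n221956 = n205233 := d3_1 D221956 (iv6 D205233) (iv2 F405957)
theorem F511599 : act 4 n221956 = n197836 := d10_1 D221956 (iv6 D197836) D197835
theorem F511600 : act 5 n221956 = n206073 := d12_1 D221956 (iv6 D206073) (iv5 F204616) F343545 (iv5 F405959)
theorem F511601 : act 7 n221956 = n205377 := d14_2 (iv7 F405958) D221956 (iv6 D205377) F360435 (iv6 F360432)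
theorem F511602 : act 0 n221956 = n205394 := d21_4 (iv5 D111654) D111652 (iv5 F405959) D221956 (iv6 D205394) D205393 F436229 F435499 (iv6 D205223) (iv1 F360419)
theorem F511603 : act 0 n220947 = n221956 := d21_4 (iv5 D108907) D108904 (iv5 F405950) (iv6 F506428) (iv6 D221956) F405959 (iv1 F173216) D125718 F406729 (iv1 D198082)
def n221957 : Q := act 3 n197837
theorem D221957 : act 3 n197837 = n221957 := rfl
theorem F511604 : act 2 n221957 = n216119 := d0_1 D221957 (iv3 D216119) (iv2 F367214) (iv3 F433320) F433314
theorem F511605 : act 4 n221957 = n214693 := d5_2 (iv4 F405964) D221957 (iv3 D214693) (iv4 F476103) (iv3 D214625)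
theorem F511606 : act 5 n221957 = n218974 := d6_2 F494867 D221957 (iv3 F496474)
theorem F511607 : act 6 n221957 = n200607 := d7_2 (iv6 F431247) D221957 (iv3 D200607)
theorem F511608 : act 0 n221957 = n220704 := d19_4 D203690 (iv5 F429434) (iv4 F405964) D221957 F505068 F445081 F444813 (iv1 F444811) (iv5 F377644) (iv4 F392399) (iv3 D194220) (iv1 D103000) (iv5 F112838) (iv4 F115364) (iv3 D76827) (iv1 F55817) D57941 F91662 (iv3 F191506)
def n221958 : Q := act 6 n197845
theorem D221958 : act 6 n197845 = n221958 := rfl
theorem F511609 : act 2 n221958 = n215882 := d3_1 D221958 F481914 (iv2 F422541)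
theorem F511610 : act 4 n221958 = n197847 := d10_1 D221958 (iv6 D197847) D197845
theorem F511611 : act 5 n219815 = n221958 := d16_1 D219815 F511610 F406014 (iv4 F406490) F406492 F354006 D192303 (iv7 F479343) F479341
def n221959 : Q := act 4 n197846
theorem D221959 : act 4 n197846 = n221959 := rfl
theorem F511612 : act 2 n221959 = n212378 := d1_1 D221959 (iv4 F465585) (iv2 F405996)
theorem F511613 : act 3 n221959 = n210649 := d5_1 D221959 F458333 F411151 (iv4 F491256) F491255
theorem F511614 : act 6 n221959 = n198008 := d10_2 F405994 D221959 (iv4 D198008)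
theorem F511615 : act 7 n221959 = n221402 := d11_2 F406023 D221959 (iv4 D221402)
theorem F511616 : act 5 n221959 = n212377 := d16_1 D221959 F465578 F456632 (iv4 F510560) F510559 (iv4 D197849) D197850 F406019 (iv2 F405996)
theorem F511617 : act 0 n221959 = n220173 := d18_2 (iv1 F405995) D221959 F502473 F419999 (iv4 F396686) (iv0 F434691) F434689 (iv0 D134726) D134729
def n221960 : Q := act 4 n197850
theorem D221960 : act 4 n197850 = n221960 := rfl
theorem F511618 : act 2 n221960 = n221402 := d1_1 D221960 (iv4 D221402) (iv2 F406021)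
theorem F511619 : act 3 n221960 = n200908 := d5_1 D221960 F418363 (iv3 F383094) (iv4 F407154) F407153
theorem F511620 : act 5 n221960 = n200907 := d9_2 D197850 D221960 (iv4 F456666) (iv5 F456668) (iv4 F510569) F510566 (iv4 D197845) D197846 D221959 F511616 F465578 F456632 (iv4 F510560) F510559 (iv4 D197849)
theorem F511621 : act 7 n221960 = n212378 := d11_2 (iv7 F406019) D221960 (iv4 F465585)
theorem F511622 : act 1 n221960 = n220173 := d18_6 F424072 (iv4 F463106) F463108 (iv4 D197849) D197850 D221960 F502473 (iv0 F420001) F224932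
def n221961 : Q := act 5 n197866
theorem D221961 : act 5 n197866 = n221961 := rfl
theorem F511623 : act 4 n221961 = n218329 := d9_1 D221961 F493344 F470224 F470216 F434222 (iv5 F467724) F467723 F459637 (iv4 F492620) F492621 D219963 F501399 F481563 (iv5 F478102) F478105
theorem F511624 : act 6 n221961 = n220055 := d12_2 D197866 D221961 (iv5 D220055) (iv6 F406061) (iv5 D197865)
theorem F511625 : act 7 n221961 = n218327 := d13_2 F459581 D221961 F493335
theorem F511626 : act 0 n221961 = n216066 := d17_2 (iv1 F450230) D221961 (iv5 D216066) (iv4 D180183) (iv5 F344931) F344928 (iv5 F323360) F201501 (iv4 F345515)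
theorem F511627 : act 1 n221961 = n198039 := d17_6 (iv1 F358720) F355392 (iv1 F430036) (iv5 F478102) F478105 D221961 F406571 (iv0 F470115) (iv4 D213371)
def n221962 : Q := act 6 n197868
theorem D221962 : act 6 n197868 = n221962 := rfl
theorem F511628 : act 3 n221962 = n220177 := d7_1 D221962 F502492 F501732
theorem F511629 : act 4 n221962 = n201669 := d10_1 D221962 F421922 F421920
theorem F511630 : act 7 n221962 = n220054 := d14_2 F450237 D221962 (iv6 D220054) F387826 (iv6 F450241)
theorem F511631 : act 0 n221962 = n197928 := d21_4 F406912 (iv1 F223531) D197868 D221962 (iv6 F508926) F508923 F464383 (iv5 F411068) F411072 (iv1 F406914)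
theorem F511632 : act 5 n221962 = n218799 := d21_6 (iv5 F375383) F468612 F468609 F450982 F450228 D221962 (iv1 F495708) F378942 (iv6 F489390) (iv1 F489391)
theorem F511633 : act 0 n219224 = n221962 := d21_4 (iv5 F474289) (iv1 F280706) D214276 (iv6 F497802) (iv6 D221962) (iv5 D197868) (iv1 D108740) D108742 F353303 D214261
def n221963 : Q := act 5 n197869
theorem D221963 : act 5 n197869 = n221963 := rfl
theorem F511634 : act 2 n221963 = n215521 := d2_1 D221963 F480311 F459449
theorem F511635 : act 3 n221963 = n204076 := d6_1 D221963 F431002 (iv3 F433500)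
theorem F511636 : act 6 n221963 = n218799 := d12_2 D197869 D221963 (iv5 F511632) (iv6 D221962) (iv5 D197868)
theorem F511637 : act 7 n221963 = n215522 := d13_2 F474413 D221963 F480312
theorem F511638 : act 4 n221963 = n215708 := d16_2 F466151 D221963 F481191 F463233 (iv5 D208909) F217594 D135352 F363809 (iv2 F466149)
theorem F511639 : act 0 n221963 = n197947 := d17_2 (iv1 F444322) D221963 (iv5 F412112) F412111 F334634 F331840 F324233 F330896 D207319
theorem F511640 : act 0 n215339 = n221963 := d19_0 (iv5 D221963) (iv4 F466151) F466150 F430608 (iv5 F438839) (iv4 F445149) (iv3 D207498) (iv1 F391982) F391979 F163820 (iv3 F163802) (iv1 F203316) (iv5 F203319) (iv4 D109352) D109351 F380650 F380648 (iv4 F476175) (iv3 F479469)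
def n221964 : Q := act 6 n197877
theorem D221964 : act 6 n197877 = n221964 := rfl
theorem F511641 : act 3 n221964 = n211531 := d7_1 D221964 F462000 F409119
theorem F511642 : act 4 n221964 = n220320 := d10_1 D221964 (iv6 F503177) F461921
theorem F511643 : act 5 n221964 = n209983 := d12_1 D221964 (iv6 D209983) D209982 F455623 F406779
theorem F511644 : act 7 n221964 = n211541 := d14_2 (iv7 F406777) D221964 F462043 F420153 (iv6 F420159)
theorem F511645 : act 0 n221964 = n211391 := d21_4 F406213 F223508 F406779 D221964 (iv6 F461383) (iv5 F389661) F167225 (iv5 F167919) D197690 (iv1 F406215)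
theorem F511646 : act 0 n221618 = n221964 := d21_4 (iv5 F505682) (iv1 F505686) (iv5 F489352) (iv6 F509904) (iv6 D221964) (iv5 F406779) (iv1 D140386) D140388 D210949 F482598
def n221965 : Q := act 7 n197884
theorem D221965 : act 7 n197884 = n221965 := rfl
theorem F511647 : act 2 n221965 = n199631 := d4_1 D221965 F418234 F418230
theorem F511648 : act 3 n221965 = n197893 := d8_1 D221965 (iv7 D197893) (iv3 F406112)
theorem F511649 : act 4 n221965 = n206070 := d11_1 D221965 (iv7 D206070) (iv4 F406113)
theorem F511650 : act 5 n221965 = n199620 := d13_1 D221965 (iv7 F412888) F412910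
theorem F511651 : act 6 n221965 = n211136 := d14_1 D221965 (iv7 D211136) F350092 F203756 D197884
theorem F511652 : act 1 n215731 = n221965 := d15_1 (iv0 F481296) (iv7 D221965) (iv2 F418230)
theorem F511653 : act 1 n221965 = n204270 := d15_1 F511652 F431775 (iv2 F481292)
def n221966 : Q := act 5 n197885
theorem D221966 : act 5 n197885 = n221966 := rfl
theorem F511654 : act 2 n221966 = n205234 := d2_1 D221966 F435546 F406116
theorem F511655 : act 3 n221966 = n200546 := d6_1 D221966 F416946 F414895
theorem F511656 : act 4 n221966 = n199727 := d9_1 D221966 (iv5 D199727) (iv4 D111641) D111642 F173205 (iv5 F406052) F406051 D205593 F437142 (iv5 D199729) (iv4 D111646) D111647 D199731 (iv5 F476116) F476115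
theorem F511657 : act 6 n221966 = n205395 := d12_2 F406117 D221966 (iv5 F477346) F477347 F382714
theorem F511658 : act 7 n221966 = n200552 := d13_2 (iv7 F406115) D221966 F416959
theorem F511659 : act 0 n221966 = n198097 := d17_2 (iv1 F406114) D221966 (iv5 D198097) (iv4 D108923) (iv5 F354397) (iv0 D108768) (iv5 D50219) D50217 D108763
theorem F511660 : act 1 n221966 = n198099 := d17_6 D109132 D198286 (iv1 F413290) (iv5 F476116) F476115 D221966 (iv5 D198099) (iv0 F169125) (iv4 D109135)
def n221967 : Q := act 6 n197887
theorem D221967 : act 6 n197887 = n221967 := rfl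
theorem F511661 : act 2 n221967 = n200039 := d3_1 D221967 (iv6 F414734) (iv2 F406119)
theorem F511662 : act 3 n221967 = n205359 := d7_1 D221967 F436071 (iv3 F435435)
theorem F511663 : act 4 n221967 = n198082 := d10_1 D221967 (iv6 F406729) (iv4 F406120)
theorem F511664 : act 5 n221967 = n199725 := d12_1 D221967 (iv6 F478429) F478428 (iv6 D197888) D197887
theorem F511665 : act 7 n221967 = n205353 := d14_2 F511485 D221967 F436043 (iv7 F507911) (iv6 F511484)
theorem F511666 : act 0 n221967 = n205334 := d21_10 F435957 F416817 (iv5 F436122) (iv6 F498281) F498283 (iv6 F511657) (iv5 D221966) (iv1 D197885) D197887 D221967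
theorem F511667 : act 0 n205370 = n221967 := d21_4 (iv5 D198748) F170141 D126023 (iv6 F436114) (iv6 D221967) (iv5 D197887) (iv1 F405517) D205593 F437140 (iv1 F409065)
def n221968 : Q := act 6 n197896
theorem D221968 : act 6 n197896 = n221968 := rfl
theorem F511668 : act 2 n221968 = n197899 := d3_1 D221968 (iv6 D197899) D197896
theorem F511669 : act 3 n221968 = n202492 := d7_1 D221968 F424241 (iv3 F406126)
theorem F511670 : act 4 n221968 = n199541 := d10_1 D221968 (iv6 D199541) F406127
theorem F511671 : act 5 n221968 = n202488 := d12_1 D221968 (iv6 D202488) D202487 F424221 F420076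
theorem F511672 : act 7 n221968 = n221484 := d14_2 F418226 D221968 (iv6 D221484) F400872 F418229
theorem F511673 : act 0 n221968 = n215909 := d21_10 F482042 F471766 F464530 (iv6 D196869) (iv1 F402065) (iv6 F402068) (iv5 F363668) (iv1 F420077) F420076 D221968
theorem F511674 : act 0 n215883 = n221968 := d21_4 (iv5 F479052) F479078 F479076 (iv6 F481918) (iv6 D221968) (iv5 F420076) (iv1 F420079) F363667 D199466 (iv1 F479049)
def n221969 : Q := act 5 n197899
theorem D221969 : act 5 n197899 = n221969 := rfl
theorem F511675 : act 2 n221969 = n202488 := d2_1 D221969 (iv5 F511671) F511668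
theorem F511676 : act 3 n221969 = n197904 := d6_1 D221969 (iv5 D197904) (iv3 F406134)
theorem F511677 : act 6 n221969 = n197994 := d12_2 D197899 D221969 (iv5 F419994) F419995 F406850
theorem F511678 : act 7 n221969 = n221599 := d13_2 F479724 D221969 F509794
theorem F511679 : act 0 n221969 = n211726 := d17_2 (iv1 F495205) D221969 (iv5 F463485) F463484 (iv5 F464640) F464643 (iv5 D198053) D198052 (iv4 F473870)
theorem F511680 : act 1 n221969 = n199172 := d17_6 F460200 (iv5 F401295) F471769 (iv5 F509959) F509958 D221969 F411004 D221459 F509112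
theorem F511681 : act 4 n221969 = n220375 := d18_5 (iv1 F412010) D215890 (iv1 F509962) F509958 D221969 (iv0 F509645) F509643 F401474 (iv5 F412007)
def n221970 : Q := act 0 n197901
theorem D221970 : act 0 n197901 = n221970 := rfl
theorem F511682 : act 5 n221970 = n205512 := d17_3 (iv1 F406145) (iv5 F406141) D221970 (iv4 F448069) (iv5 F460293) (iv0 F460295) (iv5 D201062) D201061 (iv4 F418946)
theorem F511683 : act 4 n221970 = n204667 := d18_1 D221970 (iv1 F433207) D215781 F481549 F441316 (iv0 D135824) (iv4 F218464) (iv0 F406142) (iv5 F406141)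
theorem F511684 : act 3 n221970 = n200576 := d20_5 F389427 D220294 F503067 F435161 D221970 F417024 (iv1 F199405) D124656 F347461 D177462
theorem F511685 : act 6 n221970 = n200575 := d21_5 D126042 (iv1 F406138) (iv5 D197900) D197901 D221970 F417019 (iv1 F417978) (iv5 D200804) F348807 (iv1 D126040)
theorem F511686 : act 2 n204657 = n221970 := d15_3 (iv0 D221970) (iv0 F406144) (iv7 F433159)
theorem F511687 : act 1 n204857 = n221970 := d15_0 (iv0 D221970) (iv7 F439155) (iv2 F439157)
theorem F511688 : act 7 n221970 = n204858 := d15_2 D204857 F511687 (iv2 D204858)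
def n221971 : Q := act 1 n197904
theorem D221971 : act 1 n197904 = n221971 := rfl
theorem F511689 : act 1 n221971 = n210999 := d15_1 D221971 (iv7 F459698) (iv2 F406159)
theorem F511690 : act 7 n221971 = n211000 := d15_2 F407420 D221971 (iv2 D211000)
theorem F511691 : act 5 n221971 = n214146 := d17_7 F478387 F433215 (iv1 F406145) (iv5 F406141) F406140 D197904 D221971 F502876 F502873
theorem F511692 : act 4 n221971 = n209679 := d17_9 F466250 (iv5 F484065) F484067 F453953 (iv4 F405223) F405224 (iv0 F406146) D197904 D221971
theorem F511693 : act 3 n211003 = n221971 := d20_3 (iv4 F510662) F510664 F507233 (iv1 D221971) (iv3 F511676) F511681 F503483 F459753 (iv3 F459755) (iv1 F481957)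
theorem F511694 : act 6 n220245 = n221971 := d21_3 (iv5 F357258) F404422 (iv5 F502838) (iv1 D221971) F406160 F394331 (iv1 D137691) (iv5 D64724) D64725 D137693
theorem F511695 : act 2 n221971 = n202438 := d3_1 F511694 F423993 (iv2 F502836)
def n221972 : Q := act 7 n197904
theorem D221972 : act 7 n197904 = n221972 := rfl
theorem F511696 : act 2 n221972 = n210999 := d4_1 D221972 (iv7 F459698) (iv2 F406159)
theorem F511697 : act 3 n221972 = n221599 := d8_1 D221972 (iv7 F511678) F511676
theorem F511698 : act 4 n221972 = n214238 := d11_1 D221972 F474150 (iv4 F406164)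
theorem F511699 : act 5 n221972 = n197905 := d13_1 D221972 (iv7 D197905) D197904
theorem F511700 : act 6 n221972 = n210990 := d14_1 D221972 F459654 F389405 F220315 (iv6 F406160)
theorem F511701 : act 1 n202438 = n221972 := d15_1 (iv0 F423995) (iv7 D221972) F406159
theorem F511702 : act 1 n221972 = n211000 := d15_1 F511701 (iv7 F511690) F511695
def n221973 : Q := act 0 n197907
theorem D221973 : act 0 n197907 = n221973 := rfl
theorem F511703 : act 5 n221973 = n218864 := d17_1 D221973 (iv1 D218864) (iv5 F400339) (iv4 F412574) F412575 (iv0 D199132) D199133 F410821 (iv4 F410687)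
theorem F511704 : act 6 n221973 = n220754 := d21_5 (iv5 F219105) (iv1 F168479) D108766 D197907 D221973 (iv5 D220754) (iv1 F406873) (iv5 D198112) (iv6 D108936) D108933
theorem F511705 : act 1 n197920 = n221973 := d15_0 (iv0 D221973) (iv7 F505670) F505668
theorem F511706 : act 2 n197917 = n221973 := d3_3 F511704 F505327 (iv6 F406804)
theorem F511707 : act 7 n197918 = n221973 := d14_0 F511704 F505330 D220789 (iv7 F505546) F479109
def n221974 : Q := act 1 n197907
theorem D221974 : act 1 n197907 = n221974 := rfl
theorem F511708 : act 1 n221974 = n197920 := d15_1 D221974 (iv7 D197920) (iv2 F406169)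
theorem F511709 : act 7 n221974 = n197917 := d15_2 (iv0 D221973) D221974 F511706
theorem F511710 : act 4 n221974 = n199809 := d18_7 (iv1 F505378) (iv4 D220761) (iv1 F393321) F362350 D199104 (iv4 F410687) D221974 (iv0 F505400) (iv5 D220765)
theorem F511711 : act 5 n221974 = n218863 := d18_9 F497432 F497429 (iv1 F381366) D218869 F495974 F473424 F410821 (iv4 F410687) D221974
theorem F511712 : act 3 n221927 = n221974 := d20_9 F410687 (iv1 F410821) (iv4 F473424) F473426 F499928 (iv3 F502970) F502972 (iv1 F448612) (iv4 F511437) (iv1 D221974)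
theorem F511713 : act 2 n197918 = n221974 := d2_3 F511711 F497657 F497653
def n221975 : Q := act 5 n197907
theorem D221975 : act 5 n197907 = n221975 := rfl
theorem F511714 : act 2 n221975 = n197919 := d2_1 D221975 (iv5 D197919) (iv2 F406169)
theorem F511715 : act 3 n221975 = n204746 := d6_1 D221975 (iv5 F511459) F511458
theorem F511716 : act 6 n221975 = n197909 := d12_2 D197907 D221975 (iv5 D197909) (iv6 D108767) D108766
theorem F511717 : act 4 n221975 = n217384 := d16_2 (iv4 F410687) D221975 (iv5 D217384) F369649 (iv5 F158977) (iv4 F362352) D213429 F470359 (iv2 F410683)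
def n221976 : Q := act 5 n197908
theorem D221976 : act 5 n197908 = n221976 := rfl
theorem F511718 : act 2 n221976 = n197922 := d2_1 D221976 (iv5 D197922) F406171
theorem F511719 : act 3 n221976 = n221870 := d6_1 D221976 F511151 F406173
theorem F511720 : act 4 n221976 = n218922 := d9_1 D221976 F496209 F394837 F363590 F211646 F96575 (iv4 F207277) D206626 F441642 F381875 F254192 D176887 (iv4 F382584) F382583 (iv4 F406170)
theorem F511721 : act 7 n221976 = n197923 := d13_2 (iv7 F406172) D221976 (iv5 D197923)
theorem F511722 : act 0 n221976 = n199416 := d17_2 D197908 D221976 (iv5 D199416) F172727 D126233 (iv0 F377464) (iv5 F433317) (iv0 F433321) (iv4 F341840)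
theorem F511723 : act 1 n221976 = n214644 := d17_6 (iv1 D166592) (iv5 F294903) D191208 F382583 (iv4 F406170) D221976 (iv5 D214644) F412083 F412069
def n221977 : Q := act 4 n197911
theorem D221977 : act 4 n197911 = n221977 := rfl
theorem F511724 : act 2 n221977 = n207367 := d1_1 D221977 (iv4 F509179) F509177
theorem F511725 : act 3 n221977 = n199777 := d5_1 D221977 (iv4 D199777) F406192 (iv4 D197912) D197911
theorem F511726 : act 6 n221977 = n201326 := d10_2 F509789 D221977 (iv4 F509788)
theorem F511727 : act 7 n221977 = n201356 := d11_2 (iv7 F406185) D221977 F420125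
theorem F511728 : act 5 n221977 = n201004 := d16_1 D221977 (iv4 F465444) (iv5 F509135) (iv4 D221464) (iv5 D196457) (iv4 F164952) D196466 D221471 F509177
theorem F511729 : act 0 n221977 = n220971 := d17_0 F506571 F418703 F354429 (iv4 F400769) (iv5 F418225) F418228 (iv5 F509172) F509170 D221977
theorem F511730 : act 1 n221977 = n201366 := d18_6 (iv1 F356732) (iv4 F400735) F406792 (iv4 D198098) (iv5 F406184) D221977 F420201 (iv0 D196372) F164793
def n221978 : Q := act 6 n197912
theorem D221978 : act 6 n197912 = n221978 := rfl
theorem F511731 : act 2 n221978 = n199482 := d3_1 D221978 (iv6 D199482) (iv2 F406186)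
theorem F511732 : act 3 n221978 = n199778 := d7_1 D221978 (iv6 D199778) F406192
theorem F511733 : act 4 n221978 = n197913 := d10_1 D221978 (iv6 D197913) D197912
theorem F511734 : act 7 n221978 = n213674 := d14_2 (iv7 F406187) D221978 (iv6 D213674) (iv7 F339952) F354406
theorem F511735 : act 5 n221978 = n217767 := d21_6 (iv5 D198330) (iv1 F364770) (iv5 F350383) F363305 (iv1 F406189) D221978 F490521 (iv5 D204577) D204578 (iv1 F432935)
theorem F511736 : act 0 n204582 = n221978 := d21_4 (iv5 D211549) (iv1 F439373) (iv5 F464741) (iv6 F464743) (iv6 D221978) (iv5 F406190) (iv1 F410322) (iv5 F412165) (iv6 F412167) (iv1 F462080)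
def n221979 : Q := act 3 n197917
theorem D221979 : act 3 n197917 = n221979 := rfl
theorem F511737 : act 4 n221979 = n204390 := d5_2 (iv4 F464731) D221979 F438230 (iv4 F401099) (iv3 F464727)
theorem F511738 : act 5 n221979 = n218833 := d6_2 F497664 D221979 (iv3 F497663)
theorem F511739 : act 6 n221979 = n211536 := d7_2 (iv6 F406804) D221979 (iv3 F462029)
theorem F511740 : act 7 n221979 = n221927 := d8_2 F511709 D221979 F511712
theorem F511741 : act 0 n202662 = n221979 := d20_4 (iv4 F343818) (iv1 D116272) D116273 D202662 (iv3 D221979) F464731 F464729 (iv4 F393925) F245665 D156330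
theorem F511742 : act 2 n213270 = n221979 := d15_3 (iv0 F511741) (iv0 F505879) F505878
theorem F511743 : act 1 n221926 = n221979 := d15_0 (iv0 F511741) F424981 (iv2 F511432)
def n221980 : Q := act 3 n197918
theorem D221980 : act 3 n197918 = n221980 := rfl
theorem F511744 : act 4 n221980 = n201352 := d5_2 F505816 D221980 (iv3 F492711) F492712 (iv3 F505818)
theorem F511745 : act 6 n221980 = n201350 := d7_2 F479109 D221980 F479048
theorem F511746 : act 0 n221980 = n209022 := d20_4 F393925 D220838 F505816 D221980 (iv3 F501718) F501719 F451815 (iv4 F436653) (iv3 F473426) (iv1 D214088)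
theorem F511747 : act 1 n221980 = n220994 := d15_1 (iv0 F511746) F506699 (iv2 F451888)
def n221981 : Q := act 0 n197919
theorem D221981 : act 0 n197919 = n221981 := rfl
theorem F511748 : act 5 n221981 = n204398 := d17_1 D221981 F469658 (iv5 F497430) F497429 F381364 F369754 D217415 (iv0 F489011) F489010
theorem F511749 : act 4 n221981 = n217450 := d18_1 D221981 F488939 F488741 F467754 F393925 (iv0 F464729) (iv4 F464731) (iv0 D197917) D197919
theorem F511750 : act 3 n221981 = n204399 := d20_5 F407583 (iv1 F413117) (iv4 D197933) (iv3 F406194) D221981 (iv4 F488622) (iv1 D217373) (iv4 F488611) (iv3 F511586) (iv1 F511590)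
def n221982 : Q := act 1 n197919
theorem D221982 : act 1 n197919 = n221982 := rfl
theorem F511751 : act 5 n221982 = n220975 := d17_7 F505652 (iv5 D220810) F410677 F410673 F406193 D197919 D221982 F506594 F469657
theorem F511752 : act 4 n221982 = n217452 := d17_9 F488945 F488666 F489019 F489015 (iv4 F497661) F497664 (iv0 D197917) D197919 D221982
theorem F511753 : act 6 n218063 = n221982 := d21_3 (iv5 D220733) (iv1 F426492) D218063 (iv1 D221982) F406195 (iv5 D108774) D108772 D197922 (iv6 F505187) (iv1 F505220)
theorem F511754 : act 3 n221982 = n220976 := d7_1 F511753 F506596 (iv3 F491965)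
def n221983 : Q := act 7 n197919
theorem D221983 : act 7 n197919 = n221983 := rfl
theorem F511755 : act 3 n221983 = n197934 := d8_1 D221983 (iv7 D197934) (iv3 F406194)
theorem F511756 : act 4 n221983 = n214814 := d11_1 D221983 (iv7 F489009) F489010
theorem F511757 : act 5 n221983 = n197920 := d13_1 D221983 (iv7 D197920) D197919
theorem F511758 : act 6 n221983 = n204768 := d14_1 D221983 (iv7 F461622) F461618 (iv7 D197925) (iv6 F406195)
def n221984 : Q := act 3 n197933
theorem D221984 : act 3 n197933 = n221984 := rfl
theorem F511759 : act 2 n221984 = n219297 := d0_1 D221984 (iv3 D219297) F480463 (iv3 F509016) F509015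
theorem F511760 : act 4 n221984 = n214818 := d5_2 D197933 D221984 (iv3 F489007) F489010 F406194
theorem F511761 : act 6 n221984 = n197954 := d7_2 (iv6 F406234) D221984 (iv3 D197954)
theorem F511762 : act 7 n221984 = n214815 := d8_2 (iv7 F436680) D221984 F476978
def n221985 : Q := act 5 n197935
theorem D221985 : act 5 n197935 = n221985 := rfl
theorem F511763 : act 2 n221985 = n215522 := d2_1 D221985 F480312 (iv2 F474411)
theorem F511764 : act 3 n221985 = n221866 := d6_1 D221985 (iv5 D221866) (iv3 F406238)
theorem F511765 : act 4 n221985 = n215709 := d9_1 D221985 F481194 F463231 F392312 (iv4 F451353) (iv5 F466152) F466151 D221963 F511638 F481191 F463233 (iv5 D208909) F217594 D135352 (iv4 F406237)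
theorem F511766 : act 6 n221985 = n218326 := d12_2 (iv6 F459582) D221985 (iv5 D218326) D218327 F493335
theorem F511767 : act 7 n221985 = n215521 := d13_2 (iv7 F459454) D221985 F480311
theorem F511768 : act 0 n221985 = n215339 := d17_2 D197935 D221985 F479471 F413081 F336025 (iv0 D130128) D130130 (iv0 F330894) (iv4 F327948)
theorem F511769 : act 1 n221985 = n197947 := d17_6 (iv1 F474698) (iv5 F366463) (iv1 D135351) D135352 (iv4 F406237) D221985 (iv5 F412112) F433423 (iv4 F474695)
def n221986 : Q := act 0 n197937
theorem D221986 : act 0 n197937 = n221986 := rfl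
theorem F511770 : act 5 n221986 = n199611 := d17_3 F444321 D197937 D221986 (iv4 F429969) F429970 F365899 F362642 (iv0 F466153) F466151
theorem F511771 : act 3 n221868 = n221986 := d6_3 F511770 F412844 (iv5 F511144)
theorem F511772 : act 4 n216918 = n221986 := d16_0 F511770 (iv4 F429969) F429970 (iv4 F371499) F371500 (iv4 F369372) D216920 F486542 (iv2 F486534)
def n221987 : Q := act 1 n197937
theorem D221987 : act 1 n197937 = n221987 := rfl
theorem F511773 : act 5 n221987 = n199674 := d17_7 F345531 (iv5 D61366) D61364 (iv5 F330889) (iv4 F327948) D197937 D221987 (iv0 F433421) F433420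
theorem F511774 : act 4 n221987 = n216920 := d17_9 F486543 (iv5 D211834) D211832 (iv5 F481194) (iv4 F511765) (iv5 D221985) (iv0 D197935) D197937 D221987
theorem F511775 : act 3 n214600 = n221987 := d20_5 D214674 F476341 (iv4 F413054) (iv3 F477542) (iv1 F477547) F511774 F486543 F463237 F476336 (iv1 D214673)
theorem F511776 : act 6 n214600 = n221987 := d12_0 F511773 (iv6 F430992) (iv5 F431798) F431801 D214600
def n221988 : Q := act 4 n197937
theorem D221988 : act 4 n197937 = n221988 := rfl
theorem F511777 : act 3 n221988 = n218651 := d5_1 D221988 (iv4 F499718) F499717 (iv4 D197938) (iv3 F406239)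
theorem F511778 : act 5 n221988 = n208181 := d16_3 (iv4 F327948) D197937 D221988 (iv4 F448270) (iv5 D207318) (iv4 D130819) D130820 F330886 (iv2 F261310)
theorem F511779 : act 0 n221988 = n214325 := d18_2 (iv1 D221987) D221988 F474583 (iv5 D204718) (iv4 F261042) (iv0 F345535) F202716 D199674 (iv5 F511773)
theorem F511780 : act 1 n221988 = n214328 := d18_6 (iv1 D124243) F299011 F330895 (iv4 F327948) D197937 D221988 F474590 (iv0 F433350) (iv5 D204710)
def n221989 : Q := act 6 n197941
theorem D221989 : act 6 n197941 = n221989 := rfl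
theorem F511781 : act 2 n221989 = n205136 := d3_1 D221989 F496898 (iv2 F496895)
theorem F511782 : act 3 n221989 = n198376 := d7_1 D221989 (iv6 D198376) (iv3 F406251)
theorem F511783 : act 4 n221989 = n197943 := d10_1 D221989 (iv6 D197943) D197941
theorem F511784 : act 7 n221989 = n205135 := d14_2 (iv7 F406252) D221989 (iv6 F435097) (iv7 F327737) F173705
theorem F511785 : act 5 n221989 = n219338 := d21_6 (iv5 F472053) (iv1 F472057) (iv5 F380638) D219048 F496891 D221989 (iv1 D219338) F382667 (iv6 D190688) D190685
theorem F511786 : act 0 n205137 = n221989 := d21_4 F496869 (iv1 F408523) (iv5 F408763) (iv6 F435101) (iv6 D221989) (iv5 F409008) F476607 (iv5 D214739) F414413 (iv1 F496872)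
theorem F511787 : act 1 n205132 = n221989 := d15_0 (iv0 F511786) (iv7 D205137) (iv2 F435092)
def n221990 : Q := act 4 n197942
theorem D221990 : act 4 n197942 = n221990 := rfl
theorem F511788 : act 2 n221990 = n214739 := d1_1 D221990 F476606 (iv2 F433429)
theorem F511789 : act 3 n221990 = n215253 := d5_1 D221990 (iv4 F493047) F493045 (iv4 D197944) (iv3 F406254)
theorem F511790 : act 5 n221990 = n214738 := d16_7 F262404 D214671 F476327 F409008 (iv4 D197941) D197942 D221990 F476602 F408942
theorem F511791 : act 0 n221990 = n198485 := d17_0 (iv5 D198485) F380650 F380648 (iv4 F476175) (iv5 D214640) (iv0 D160441) D160444 (iv0 F412109) D221990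
def n221991 : Q := act 6 n197942
theorem D221991 : act 6 n197942 = n221991 := rfl
theorem F511792 : act 3 n221991 = n197945 := d7_1 D221991 (iv6 D197945) (iv3 F406254)
def n221992 : Q := act 5 n197945
theorem D221992 : act 5 n197945 = n221992 := rfl
theorem F511793 : act 2 n221992 = n212135 := d2_1 D221992 (iv5 F511471) F511469
theorem F511794 : act 6 n221992 = n197946 := d12_2 D197945 D221992 (iv5 D197946) (iv6 D108791) D108790
theorem F511795 : act 7 n221992 = n212136 := d13_2 F461483 D221992 (iv5 F464452)
theorem F511796 : act 0 n221992 = n212137 := d17_2 (iv1 F461509) D221992 F464454 (iv4 F461424) F461425 F389403 (iv5 F381918) (iv0 D191025) (iv4 F381841)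
theorem F511797 : act 1 n221992 = n202133 := d17_6 D124311 D204770 F469674 D220111 F502175 D221992 (iv5 F433505) (iv0 D204764) F198792
theorem F511798 : act 4 n221992 = n221526 := d18_5 (iv1 F480023) (iv4 F503119) F503121 F502175 D221992 (iv0 D221526) F401111 D196572 (iv5 F461474)
def n221993 : Q := act 2 n197947
theorem D221993 : act 2 n197947 = n221993 := rfl
theorem F511799 : act 3 n221993 = n204732 := d0_2 D197947 D221993 F433424 F413068 F202537
theorem F511800 : act 4 n221993 = n215340 := d1_2 F406261 D221993 F479472
theorem F511801 : act 5 n221993 = n204731 := d2_2 F412112 D221993 F433418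
theorem F511802 : act 6 n221993 = n215470 := d3_2 (iv6 F461182) D221993 F480137
theorem F511803 : act 7 n221993 = n215339 := d4_2 (iv7 F406260) D221993 F479468
theorem F511804 : act 1 n221993 = n215521 := d15_0 (iv0 D215521) (iv7 F406260) D221993
theorem F511805 : act 1 n215522 = n221993 := d15_0 F511804 (iv7 F511767) F511763
def n221994 : Q := act 3 n197952
theorem D221994 : act 3 n197952 = n221994 := rfl
theorem F511806 : act 6 n221994 = n211416 := d7_2 F406269 D221994 (iv3 D211416)
theorem F511807 : act 0 n221994 = n221647 := d20_4 (iv4 D221392) F400150 (iv4 F406268) D221994 F510082 (iv4 D216937) F376739 (iv4 F480279) F480278 (iv1 F508780)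
theorem F511808 : act 1 n221994 = n221647 := d15_1 (iv0 F511807) F510084 (iv2 F510081)
def n221995 : Q := act 0 n197954
theorem D221995 : act 0 n197954 = n221995 := rfl
theorem F511809 : act 4 n221995 = n215481 := d18_1 D221995 (iv1 D215481) (iv4 F480125) (iv5 F480127) (iv4 D188965) (iv0 D92931) (iv4 F143298) D188961 F449324
theorem F511810 : act 1 n214804 = n221995 := d15_0 (iv0 D221995) (iv7 F479984) F479980
theorem F511811 : act 6 n217895 = n221995 := d21_3 D190135 (iv1 F420450) (iv5 F491136) (iv1 F511810) (iv6 D214804) (iv5 D162613) D162610 D214799 F476913 (iv1 D190133)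
def n221996 : Q := act 1 n197954
theorem D221996 : act 1 n197954 = n221996 := rfl
theorem F511812 : act 4 n221996 = n215480 := d17_9 (iv1 F480170) (iv5 D215226) (iv1 F472316) (iv5 F493126) (iv4 D218289) (iv5 D188962) D188961 F449324 D221996
theorem F511813 : act 5 n221996 = n217131 := d18_9 F487580 (iv4 F490833) (iv1 F490962) F490964 F495787 F495786 F480305 F480302 D221996
theorem F511814 : act 3 n217132 = n221996 := d19_19 (iv1 D221996) (iv5 F449324) (iv4 F471643) F471642 (iv1 F468754) (iv5 F489502) F499508 (iv3 F499507) (iv1 D217096) F374782 F374781 (iv3 F374776) (iv1 F422229) (iv5 F508616) F508615 F492053 (iv1 D216922) D216924 (iv4 F487581)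
theorem F511815 : act 0 n214804 = n221996 := d17_2 D188960 (iv5 F476934) F511813 F487578 (iv5 F373001) (iv0 F377003) (iv5 D188966) (iv0 D92931) (iv4 F143298)
def n221997 : Q := act 2 n197954
theorem D221997 : act 2 n197954 = n221997 := rfl
theorem F511816 : act 3 n221997 = n219296 := d0_2 D197954 D221997 F498174 F486075 F405503
theorem F511817 : act 4 n221997 = n217160 := d1_2 F480302 D221997 F487714
theorem F511818 : act 5 n221997 = n218180 := d2_2 F449324 D221997 (iv2 F492557)
theorem F511819 : act 6 n221997 = n219297 := d3_2 F511761 D221997 (iv2 F511759)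
theorem F511820 : act 7 n221997 = n214804 := d4_2 F479984 D221997 (iv2 F479980)
def n221998 : Q := act 1 n197955
theorem D221998 : act 1 n197955 = n221998 := rfl
theorem F511821 : act 1 n221998 = n197969 := d15_1 D221998 (iv7 F505884) F505880
theorem F511822 : act 7 n221998 = n199785 := d15_2 F444338 D221998 (iv2 F444334)
theorem F511823 : act 5 n221998 = n197962 := d17_7 (iv1 F172741) (iv5 D108790) (iv1 D50225) D50226 D108794 D197955 D221998 F406295 (iv4 D111590)
theorem F511824 : act 4 n221998 = n197961 := d17_9 F406292 F216353 F168434 (iv5 F350356) (iv4 F412241) F412244 (iv0 D197952) D197955 D221998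
theorem F511825 : act 3 n199785 = n221998 := d19_19 (iv1 D221998) (iv5 D197955) (iv4 D108794) (iv3 F168707) F381514 (iv5 F412068) F412069 F445696 (iv1 D207618) (iv5 D132144) (iv4 F341789) (iv3 F376437) (iv1 F384229) (iv5 F402961) F402960 F384453 F171520 (iv5 F216351) (iv4 F413503)
theorem F511826 : act 6 n199768 = n221998 := d21_3 (iv5 F424061) F424062 (iv5 F413412) (iv1 D221998) (iv6 F482562) F482561 (iv1 F402201) (iv5 F412379) (iv6 F413251) (iv1 F413253)
theorem F511827 : act 2 n208053 = n221998 := d1_3 F511824 F406290 D208053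
def n221999 : Q := act 2 n197958
theorem D221999 : act 2 n197958 = n221999 := rfl
theorem F511828 : act 3 n221999 = n214303 := d0_2 D197958 D221999 F474471 (iv3 D199878) (iv2 F173933)
theorem F511829 : act 4 n221999 = n200886 := d1_2 (iv4 F406279) D221999 F418285
theorem F511830 : act 5 n221999 = n217375 := d2_2 F406282 D221999 F488629
theorem F511831 : act 6 n221999 = n210968 := d3_2 (iv6 F406280) D221999 F459543
theorem F511832 : act 7 n221999 = n200863 := d4_2 (iv7 F406281) D221999 F418200
theorem F511833 : act 1 n221999 = n200864 := d15_0 (iv0 D200864) (iv7 F406281) D221999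
theorem F511834 : act 1 n200865 = n221999 := d15_0 F511833 (iv7 F477566) F477563
def n222000 : Q := act 4 n197960
theorem D222000 : act 4 n197960 = n222000 := rfl
def n222001 : Q := act 0 n197964
theorem D222001 : act 0 n197964 = n222001 := rfl
theorem F511835 : act 5 n222001 = n219573 := d19_1 D222001 F499512 (iv3 F496598) (iv1 F496603) (iv5 D201444) (iv4 F385010) F385009 (iv1 F354720) (iv5 D134347) (iv4 F164184) F164183 D106603 F332764 F92921 (iv3 F81275) D111663 F173227 (iv4 F168748) D197964
theorem F511836 : act 3 n222001 = n210252 := d20_5 (iv4 F77828) D106594 (iv4 F168748) D197964 D222001 (iv4 D210252) (iv1 F356316) F217290 (iv3 D134300) F168279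
theorem F511837 : act 6 n222001 = n208380 := d21_5 F437609 (iv1 F220529) D143080 (iv6 F406305) D222001 (iv5 F453598) F454297 F368879 (iv6 F220570) (iv1 F437613)
theorem F511838 : act 2 n208424 = n222001 := d15_3 (iv0 D222001) (iv0 F437687) (iv7 F449302)
theorem F511839 : act 1 n207335 = n222001 := d15_0 (iv0 D222001) F406297 (iv2 F444395)
theorem F511840 : act 7 n222001 = n208356 := d15_2 (iv0 F444398) F511839 F449060
def n222002 : Q := act 2 n197964
theorem D222002 : act 2 n197964 = n222002 := rfl
theorem F511841 : act 3 n222002 = n208422 := d0_2 D197964 D222002 (iv2 D208422) (iv3 D134289) (iv2 F202513)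
theorem F511842 : act 4 n222002 = n207841 := d1_2 F437685 D222002 F446667
theorem F511843 : act 5 n222002 = n207336 := d2_2 F432839 D222002 F444402
theorem F511844 : act 6 n222002 = n207840 := d3_2 (iv6 F406305) D222002 F446663
theorem F511845 : act 7 n222002 = n207335 := d4_2 (iv7 F406297) D222002 F444395
theorem F511846 : act 1 n222002 = n208356 := d15_0 (iv0 F449062) (iv7 F406297) D222002
theorem F511847 : act 1 n208424 = n222002 := d15_0 F511846 (iv7 F511840) (iv2 F511838)
def n222003 : Q := act 4 n197975
theorem D222003 : act 4 n197975 = n222003 := rfl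
theorem F511848 : act 2 n222003 = n197988 := d1_1 D222003 (iv4 D197988) (iv2 F406350)
theorem F511849 : act 3 n222003 = n202963 := d5_1 D222003 F426403 F183883 (iv4 F230533) (iv3 F406351)
theorem F511850 : act 5 n222003 = n221829 := d9_2 D197975 D222003 F510958 F507109 F396795 F165107 (iv4 F168816) (iv5 F406410) F406409 D211600 F462328 (iv5 D198388) F169262 F79798 (iv4 F168777)
theorem F511851 : act 6 n222003 = n203005 := d10_2 (iv6 F406352) D222003 F426603
theorem F511852 : act 7 n222003 = n202959 := d11_2 (iv7 F406353) D222003 F426386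
theorem F511853 : act 0 n222003 = n203958 := d18_2 F407057 D222003 (iv4 D203958) (iv5 F325665) F222831 (iv0 F245298) (iv4 F409472) (iv0 F409473) (iv5 F407055)
theorem F511854 : act 1 n222003 = n203957 := d18_6 (iv1 F326506) (iv4 F81144) F81146 (iv4 F168777) D197975 D222003 (iv4 D203957) (iv0 D121741) (iv5 D56254)
def n222004 : Q := act 5 n197978
theorem D222004 : act 5 n197978 = n222004 := rfl
theorem F511855 : act 2 n222004 = n210958 := d2_1 D222004 (iv5 D210958) (iv2 F406361)
theorem F511856 : act 3 n222004 = n216093 := d6_1 D222004 F482907 (iv3 F433378)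
theorem F511857 : act 4 n222004 = n206700 := d9_1 D222004 F441899 (iv4 D196687) (iv5 D107212) D107211 (iv5 F344746) D197979 (iv5 F407341) (iv4 F441906) F441905 (iv4 D202627) (iv5 D116120) D116119 F344738 D197978
theorem F511858 : act 7 n222004 = n221947 := d13_2 F438652 D222004 F511555
theorem F511859 : act 0 n222004 = n206019 := d17_2 F477495 D222004 (iv5 D206019) (iv4 D126951) (iv5 D59580) (iv0 F98731) (iv5 F320720) D163871 D214930
theorem F511860 : act 1 n222004 = n207813 := d17_6 (iv1 D197060) F330504 F180909 F344738 D197978 D222004 F446566 (iv0 F405792) F402862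
theorem F511861 : act 6 n222004 = n211359 := d21_3 (iv5 F477492) F477495 D222004 (iv1 F461274) F491848 F491846 (iv1 D199124) F368595 (iv6 F448926) F448929
def n222005 : Q := act 3 n197997
theorem D222005 : act 3 n197997 = n222005 := rfl
theorem F511862 : act 2 n222005 = n220576 := d0_1 D222005 F504437 (iv2 F504422) F504423 (iv2 F460037)
theorem F511863 : act 4 n222005 = n220581 := d5_2 D197997 D222005 F504457 F481390 F401748
theorem F511864 : act 5 n222005 = n214680 := d6_2 (iv5 F407310) D222005 F476367
theorem F511865 : act 6 n222005 = n209322 := d7_2 F508967 D222005 (iv3 F508966)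
theorem F511866 : act 0 n213140 = n222005 := d20_4 (iv4 D213137) (iv1 D152611) D152612 D213140 (iv3 D222005) (iv4 D197997) D197995 (iv4 F406443) (iv3 F406445) (iv1 F469158)
def n222006 : Q := act 3 n198009
theorem D222006 : act 3 n198009 = n222006 := rfl
theorem F511867 : act 4 n222006 = n212445 := d5_2 D198009 D222006 F465822 (iv4 D198765) F170974
theorem F511868 : act 7 n222006 = n212379 := d8_2 F407117 D222006 F465586
theorem F511869 : act 6 n216153 = n222006 := d14_5 F511868 (iv6 D212379) (iv7 F418364) F494639 F494636
def n222007 : Q := act 6 n198009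
theorem D222007 : act 6 n198009 = n222007 := rfl
theorem F511870 : act 2 n222007 = n209608 := d3_1 D222007 (iv6 F454323) F407107
theorem F511871 : act 3 n222007 = n216153 := d7_1 D222007 F511869 (iv3 D222006)
theorem F511872 : act 4 n222007 = n198010 := d10_1 D222007 (iv6 D198010) D198009
def n222008 : Q := act 3 n198013
theorem D222008 : act 3 n198013 = n222008 := rfl
theorem F511873 : act 5 n222008 = n212354 := d6_2 F437342 D222008 (iv3 F465450)
theorem F511874 : act 6 n222008 = n221386 := d7_2 (iv6 F406512) D222008 (iv3 F508745)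
theorem F511875 : act 0 n222008 = n199472 := d19_4 (iv1 F167981) D108864 D198013 D222008 (iv5 F418611) (iv4 F426296) (iv3 D202942) (iv1 F229655) (iv5 F439435) (iv4 D206141) (iv3 F439430) F439432 F375115 (iv4 F259549) D190317 F379368 (iv5 F351020) (iv4 F405457) (iv3 D197708)
theorem F511876 : act 0 n199475 = n222008 := d17_0 F511873 (iv1 D212354) (iv5 F412288) (iv4 D199460) (iv5 D111337) (iv0 D51350) D51353 D111348 D199475
def n222009 : Q := act 7 n198018
theorem D222009 : act 7 n198018 = n222009 := rfl
theorem F511877 : act 2 n222009 = n220181 := d4_1 D222009 F502511 F442616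
theorem F511878 : act 3 n222009 = n203768 := d8_1 D222009 (iv7 F484748) (iv3 F484750)
theorem F511879 : act 4 n222009 = n220163 := d11_1 D222009 F502436 F442384
theorem F511880 : act 6 n222009 = n203767 := d14_1 D222009 (iv7 F432798) F432797 F405475 D198018
theorem F511881 : act 1 n219669 = n222009 := d15_1 (iv0 F499960) (iv7 D222009) (iv2 F442616)
theorem F511882 : act 1 n222009 = n219667 := d15_1 F511881 F499946 (iv2 F499956)
def n222010 : Q := act 5 n198021
theorem D222010 : act 5 n198021 = n222010 := rfl
theorem F511883 : act 2 n222010 = n204297 := d2_1 D222010 (iv5 D204297) (iv2 F406534)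
theorem F511884 : act 3 n222010 = n198022 := d6_1 D222010 (iv5 D198022) D198021
theorem F511885 : act 6 n222010 = n221398 := d12_2 (iv6 F406545) D222010 (iv5 F509845) (iv6 F509846) F509459
theorem F511886 : act 7 n222010 = n215455 := d13_2 (iv7 F412770) D222010 (iv5 F480077)
theorem F511887 : act 0 n222010 = n219961 := d17_2 (iv1 F459625) D222010 F501385 (iv4 F431907) F488914 F488916 (iv5 F394658) F394660 (iv4 F459624)
theorem F511888 : act 1 n222010 = n221419 := d17_6 D174646 D215478 F480200 (iv5 D215487) F406535 D222010 F508931 (iv0 D204292) F197885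
theorem F511889 : act 4 n222010 = n215328 := d18_5 F460158 F459234 (iv1 F455766) F406535 D222010 F482031 F471662 (iv0 D213692) (iv5 F460157)
def n222011 : Q := act 6 n198026
theorem D222011 : act 6 n198026 = n222011 := rfl
theorem F511890 : act 2 n222011 = n204770 := d3_1 D222011 (iv6 F457299) F457296
theorem F511891 : act 3 n222011 = n203575 := d7_1 D222011 F428958 (iv3 F406550)
theorem F511892 : act 4 n222011 = n203577 := d10_1 D222011 (iv6 F472348) F472345
theorem F511893 : act 5 n222011 = n204079 := d12_1 D222011 (iv6 F509556) F509558 F405486 (iv5 F406551)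
theorem F511894 : act 7 n222011 = n198046 := d14_2 D198026 D222011 (iv6 D198046) (iv7 D108886) (iv6 F168871)
theorem F511895 : act 0 n222011 = n220107 := d21_4 F405282 (iv1 F371955) (iv5 F406551) D222011 (iv6 D220107) (iv5 F469676) (iv1 D213277) (iv5 D153178) (iv6 F200388) F405285
theorem F511896 : act 0 n220112 = n222011 := d21_4 (iv5 F424167) (iv1 F424169) (iv5 F501263) (iv6 F502178) (iv6 D222011) F406551 F364228 D109206 F169168 D140341
def n222012 : Q := act 4 n198030
theorem D222012 : act 4 n198030 = n222012 := rfl
theorem F511897 : act 2 n222012 = n215914 := d1_1 D222012 F482067 (iv2 F406564)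
theorem F511898 : act 3 n222012 = n202180 := d5_1 D222012 F423141 (iv3 F308545) (iv4 F276466) F406563
theorem F511899 : act 6 n222012 = n202164 := d10_2 F500861 D222012 F500857
theorem F511900 : act 0 n222012 = n198054 := d17_0 (iv5 F457436) (iv1 F457437) (iv5 D198044) (iv4 D108885) (iv5 D50274) D50273 D108882 F406561 D222012
theorem F511901 : act 1 n222012 = n198051 := d18_6 (iv1 D198194) F169015 F81293 (iv4 F173459) (iv5 F406560) D222012 (iv4 D198051) D198050 (iv5 F407181)
def n222013 : Q := act 4 n198031
theorem D222013 : act 4 n198031 = n222013 := rfl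
theorem F511902 : act 3 n222013 = n202213 := d5_1 D222013 F423265 F273384 (iv4 F278209) F406567
theorem F511903 : act 6 n222013 = n209883 := d10_2 F407164 D222013 F455245
theorem F511904 : act 7 n222013 = n215914 := d11_2 (iv7 F406566) D222013 F482067
theorem F511905 : act 5 n222013 = n215815 := d16_1 D222013 F481685 (iv5 D199287) (iv4 D111149) (iv5 F81292) (iv4 F173459) (iv5 F406560) (iv7 F412558) (iv2 F412556)
theorem F511906 : act 0 n222013 = n198051 := d17_0 (iv5 F411466) F411467 (iv5 F472796) F472797 F405578 F168494 D108879 D198031 D222013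
theorem F511907 : act 1 n222013 = n198054 := d18_6 (iv1 F223584) (iv4 D139391) (iv1 F169016) (iv4 F407159) (iv5 F407162) D222013 (iv4 D198054) F406593 F406592
def n222014 : Q := act 0 n198032
theorem D222014 : act 0 n198032 = n222014 := rfl
theorem F511908 : act 5 n222014 = n210402 := d17_1 D222014 (iv1 F457991) (iv5 F459568) F459569 (iv5 F412049) (iv0 F412052) (iv5 F406560) (iv0 D198030) D198032
theorem F511909 : act 4 n222014 = n198347 := d18_1 D222014 F407703 D199504 F458001 F457997 (iv0 D139456) D139457 (iv0 F411509) F411508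
theorem F511910 : act 1 n198036 = n222014 := d15_0 (iv0 D222014) (iv7 F412561) F412560
def n222015 : Q := act 1 n198032
theorem D222015 : act 1 n198032 = n222015 := rfl
theorem F511911 : act 1 n222015 = n198036 := d15_1 D222015 (iv7 F459592) F459590
theorem F511912 : act 5 n222015 = n210407 := d17_7 (iv1 F411488) (iv5 D199287) F172395 D111157 D199292 F411508 D222015 (iv0 F457990) (iv4 D210547)
theorem F511913 : act 4 n222015 = n199503 := d17_9 (iv1 F412433) (iv5 D197737) F168497 (iv5 F223572) (iv4 F458293) (iv5 D210641) (iv0 F411509) F411508 D222015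
theorem F511914 : act 6 n210899 = n222015 := d10_0 F511913 (iv6 F412435) (iv4 F459205)
def n222016 : Q := act 5 n198040
theorem D222016 : act 5 n198040 = n222016 := rfl
theorem F511915 : act 2 n222016 = n210544 := d2_1 D222016 (iv5 F459574) (iv2 F459576)
theorem F511916 : act 3 n222016 = n213993 := d6_1 D222016 F473019 F423323
theorem F511917 : act 4 n222016 = n198060 := d9_1 D222016 (iv5 D198060) (iv4 F171670) (iv5 F202185) F202184 (iv5 F173056) D198038 F470569 F470565 F349416 F168890 D144359 (iv4 F405670) F405671 D198040
theorem F511918 : act 6 n222016 = n213991 := d12_2 (iv6 F423320) D222016 (iv5 D213991) F245431 D202228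
theorem F511919 : act 7 n222016 = n210547 := d13_2 (iv7 F459572) D222016 (iv5 F459568)
theorem F511920 : act 1 n222016 = n204616 := d17_8 F343247 (iv5 D139389) (iv1 F180543) (iv5 F221804) D210409 (iv5 F459242) F459245 D222016 F433036
def n222017 : Q := act 5 n198042
theorem D222017 : act 5 n198042 = n222017 := rfl
theorem F511921 : act 2 n222017 = n202026 := d2_1 D222017 (iv5 D202026) (iv2 F406589)
theorem F511922 : act 4 n222017 = n198056 := d9_1 D222017 (iv5 D198056) (iv4 D108892) F81223 (iv4 F173071) (iv5 F351212) (iv4 F245256) D213938 F472812 (iv5 D198058) (iv4 D108893) (iv5 F168563) (iv4 F405679) F405680 F406588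
theorem F511923 : act 7 n222017 = n210555 := d13_2 F472804 D222017 F472807
theorem F511924 : act 0 n222017 = n210415 := d17_2 (iv1 F472800) D222017 F482071 F482067 F341264 (iv0 F405672) F405671 F405579 (iv4 F472797)
theorem F511925 : act 1 n222017 = n204608 := d17_8 (iv1 F406625) (iv5 D198060) (iv1 F168896) (iv5 F222596) (iv4 F406575) (iv5 D198044) D198042 D222017 F433004
def n222018 : Q := act 5 n198043
theorem D222018 : act 5 n198043 = n222018 := rfl
theorem F511926 : act 3 n222018 = n198044 := d6_1 D222018 (iv5 D198044) D198043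
theorem F511927 : act 4 n222018 = n217279 := d9_1 D222018 F488243 F426160 (iv5 F237478) (iv4 F237481) F341160 (iv4 F428908) (iv5 F465788) (iv4 D212435) (iv5 D146907) F105055 (iv5 F86277) (iv4 F186458) (iv5 F416812) F416811
theorem F511928 : act 7 n222018 = n210550 := d13_2 F479949 D222018 (iv5 F479950)
theorem F511929 : act 0 n222018 = n202214 := d17_2 (iv1 F438298) D222018 (iv5 D202214) F179775 D198860 (iv0 F409606) (iv5 F402926) (iv0 F409608) (iv4 F438297)
theorem F511930 : act 1 n222018 = n219794 := d17_6 F337060 D174557 F337053 (iv5 F416812) F416811 D222018 F500654 F423262 F423258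
def n222019 : Q := act 4 n198048
theorem D222019 : act 4 n198048 = n222019 := rfl
theorem F511931 : act 2 n222019 = n210641 := d1_1 D222019 F458293 (iv2 F406584)
theorem F511932 : act 3 n222019 = n221527 := d5_1 D222019 F509443 (iv3 D221513) D221514 F509393
theorem F511933 : act 5 n222019 = n202542 := d9_2 D198048 D222019 (iv4 D202542) (iv5 D115942) F84353 (iv5 D30845) (iv4 F49301) D65908 D140419 (iv5 F458305) F458304 F222649 (iv4 F171672) F171673 F168878
theorem F511934 : act 6 n222019 = n220279 := d10_2 F406591 D222019 F503001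
theorem F511935 : act 7 n222019 = n210909 := d11_2 (iv7 F406585) D222019 (iv4 D210909)
theorem F511936 : act 0 n222019 = n210974 := d17_0 F459574 F457984 (iv5 F511908) F511909 (iv5 D198347) (iv0 F405682) F405680 (iv0 F406586) D222019
theorem F511937 : act 1 n222019 = n210973 := d18_6 F101601 (iv4 D65910) (iv1 F101544) F168878 D198048 D222019 F459569 (iv0 F405565) (iv5 D108622)
def n222020 : Q := act 4 n198049
theorem D222020 : act 4 n198049 = n222020 := rfl
theorem F511938 : act 2 n222020 = n222014 := d1_1 D222020 F511909 F407701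
theorem F511939 : act 7 n222020 = n222015 := d11_2 F412434 D222020 F511913
theorem F511940 : act 0 n222020 = n199533 := d17_0 (iv5 F457994) (iv1 F458307) F458305 (iv4 D140419) (iv5 D65908) (iv0 F81267) D108891 F406593 D222020
theorem F511941 : act 1 n222020 = n210977 := d18_6 F405673 F405670 F227105 F222469 (iv5 F406592) D222020 (iv4 D210977) F412557 F412554
def n222021 : Q := act 4 n198050
theorem D222021 : act 4 n198050 = n222021 := rfl
theorem F511942 : act 2 n222021 = n222015 := d1_1 D222021 F511913 (iv2 F412432)
theorem F511943 : act 3 n222021 = n204812 := d5_1 D222021 F433679 (iv3 F388881) (iv4 F502670) F502669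
theorem F511944 : act 6 n222021 = n204811 := d10_2 F407182 D222021 F433676
theorem F511945 : act 7 n222021 = n222014 := d11_2 F407702 D222021 F511909
theorem F511946 : act 5 n222021 = n204616 := d16_1 D222021 F433036 (iv5 F343244) (iv4 F223576) F223577 F222469 (iv5 F406592) (iv7 F412434) (iv2 F412432)
theorem F511947 : act 0 n222021 = n210977 := d17_0 F459591 (iv1 F424420) (iv5 F511933) (iv4 D222019) (iv5 D198048) (iv0 D108887) D108889 D198050 D222021
theorem F511948 : act 1 n222021 = n199533 := d18_6 F202186 (iv4 F202184) F403278 (iv4 F407179) F407181 D222021 (iv4 D199533) (iv0 F341267) F341264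
def n222022 : Q := act 3 n198054
theorem D222022 : act 3 n198054 = n222022 := rfl
theorem F511949 : act 2 n222022 = n209865 := d0_1 D222022 F455191 (iv2 F245403) F412439 F412436
theorem F511950 : act 6 n222022 = n209864 := d7_2 (iv6 F428253) D222022 F455188
theorem F511951 : act 7 n222022 = n202720 := d8_2 (iv7 F423020) D222022 F425277
def n222023 : Q := act 6 n198059
theorem D222023 : act 6 n198059 = n222023 := rfl
theorem F511952 : act 2 n222023 = n209977 := d3_1 D222023 (iv6 F466100) F466097
theorem F511953 : act 3 n222023 = n198061 := d7_1 D222023 (iv6 D198061) D198059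
theorem F511954 : act 4 n222023 = n210762 := d10_1 D222023 (iv6 D210762) (iv4 F406620)
theorem F511955 : act 5 n222023 = n209249 := d12_1 D222023 (iv6 F452897) D209805 (iv6 F471339) F471342
theorem F511956 : act 7 n222023 = n209716 := d14_2 (iv7 F406621) D222023 F454731 (iv7 F457021) F457020
theorem F511957 : act 0 n222023 = n209987 := d21_4 (iv5 F450538) D213623 F471342 D222023 F455644 (iv5 F387797) (iv1 F387803) F293946 (iv6 F287517) (iv1 F411816)
theorem F511958 : act 1 n222023 = n209252 := d15_1 (iv0 F511957) F452907 D209987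
def n222024 : Q := act 6 n198060
theorem D222024 : act 6 n198060 = n222024 := rfl
theorem F511959 : act 2 n222024 = n210545 := d3_1 D222024 (iv6 D210545) (iv2 F406622)
theorem F511960 : act 3 n222024 = n209805 := d7_1 D222024 (iv6 F471339) F471341
theorem F511961 : act 4 n222024 = n213991 := d10_1 D222024 (iv6 F511918) F511917
theorem F511962 : act 5 n222024 = n209784 := d12_1 D222024 F455012 (iv5 F406631) (iv6 D198061) D198060
theorem F511963 : act 7 n222024 = n208511 := d14_2 (iv7 F406623) D222024 (iv6 D208511) (iv7 F217403) (iv6 F349422)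
theorem F511964 : act 0 n222024 = n204507 := d21_4 (iv5 D108897) D108894 D198060 D222024 (iv6 D204507) (iv5 F374105) (iv1 F374111) F353707 F352340 F172405
def n222025 : Q := act 0 n198062
theorem D222025 : act 0 n198062 = n222025 := rfl
theorem F511965 : act 2 n198066 = n222025 := d15_3 (iv0 D222025) (iv0 D198062) D198066
theorem F511966 : act 3 n222025 = n210534 := d0_2 (iv3 F406637) F511965 F457957 F222588 (iv2 F168893)
theorem F511967 : act 6 n222025 = n210578 := d3_2 (iv6 F406638) F511965 F458106
theorem F511968 : act 7 n222025 = n198064 := d4_2 D198066 F511965 (iv2 D198064)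
theorem F511969 : act 1 n198063 = n222025 := d15_1 D198063 F511968 (iv2 D198064)
def n222026 : Q := act 3 n198062
theorem D222026 : act 3 n198062 = n222026 := rfl
theorem F511970 : act 2 n222026 = n210835 := d0_1 D222026 (iv3 D210835) (iv2 F396338) D221004 F506759
theorem F511971 : act 6 n222026 = n203400 := d7_2 (iv6 F503358) D222026 F503355
theorem F511972 : act 4 n222026 = n211623 := d20_6 (iv4 D108893) (iv1 D50279) D50280 D108896 D198062 D222026 (iv1 F462431) F452702 F222642 (iv1 F168887)
theorem F511973 : act 7 n210236 = n222026 := d11_0 F511972 (iv7 D211623) (iv4 F456690)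
theorem F511974 : act 1 n216683 = n222026 := d17_8 (iv1 F462431) (iv5 F453791) F459036 F459034 (iv4 F482298) (iv5 F484337) (iv0 F484339) D216683 F511972
theorem F511975 : act 0 n220116 = n222026 := d18_0 F511972 (iv1 F462431) F452702 (iv5 F458267) F481746 (iv0 F498462) F498460 F484342 (iv5 F502202)
theorem F511976 : act 5 n222026 = n203398 := d17_1 F511975 F471293 (iv5 F493586) F493585 F385867 (iv0 F482517) F482515 F462396 (iv4 F502201)
def n222027 : Q := act 4 n198062
theorem D222027 : act 4 n198062 = n222027 := rfl
theorem F511977 : act 2 n222027 = n210806 := d1_1 D222027 (iv4 F506755) F506759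
def n222028 : Q := act 5 n198062
theorem D222028 : act 5 n198062 = n222028 := rfl
theorem F511978 : act 3 n222028 = n203398 := d6_1 D222028 (iv5 F511976) (iv3 D222026)
theorem F511979 : act 6 n222028 = n203394 := d12_2 (iv6 F503358) D222028 (iv5 D203394) D203395 F503356
theorem F511980 : act 0 n204605 = n222028 := d21_1 (iv5 F432990) (iv5 D222028) F503358 (iv1 D220355) (iv6 F389827) D210714 (iv1 F465061) (iv5 D212269) (iv6 F457458) (iv1 D210420)
def n222029 : Q := act 7 n198062
theorem D222029 : act 7 n198062 = n222029 := rfl
theorem F511981 : act 2 n222029 = n198063 := d4_1 D222029 (iv7 F506757) F506759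
theorem F511982 : act 3 n222029 = n210236 := d8_1 D222029 F511973 (iv3 D222026)
theorem F511983 : act 6 n222029 = n210233 := d14_1 D222029 F456674 F462701 (iv7 F503354) (iv6 F503358)
theorem F511984 : act 1 n198064 = n222029 := d15_1 (iv0 F506760) (iv7 D222029) (iv2 F506759)
theorem F511985 : act 1 n222029 = n198066 := d15_1 F511984 (iv7 D198066) D198064
def n222030 : Q := act 4 n198063
theorem D222030 : act 4 n198063 = n222030 := rfl
theorem F511986 : act 3 n222030 = n210797 := d5_1 D222030 F458835 F420836 F334971 F406633
theorem F511987 : act 6 n222030 = n221733 := d10_2 F457166 D222030 F510569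
theorem F511988 : act 7 n222030 = n210806 := d11_2 F506757 D222030 (iv4 F506755)
def n222031 : Q := act 5 n198063
theorem D222031 : act 5 n198063 = n222031 := rfl
theorem F511989 : act 3 n222031 = n210837 := d6_1 D222031 (iv5 D210837) F406633
theorem F511990 : act 0 n222031 = n204605 := d21_7 (iv5 D123542) (iv1 F197948) (iv5 F388037) F396997 (iv1 F450576) F457166 D222031 F432990 (iv6 F430767) F430765
def n222032 : Q := act 1 n198065
theorem D222032 : act 1 n198065 = n222032 := rfl
theorem F511991 : act 3 n210839 = n222032 := d19_19 (iv1 D222032) (iv5 D198065) (iv4 F396791) F396790 F396763 D221066 F507070 F500788 (iv1 F386423) D193481 (iv4 F396370) F396369 (iv1 F161840) D114979 D201687 (iv3 F421379) F485593 (iv5 D216713) (iv4 F458965)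
theorem F511992 : act 5 n199366 = n222032 := d21_0 (iv1 D222032) (iv5 D198065) F168891 D108899 (iv6 F366484) F366483 F309756 D192852 (iv6 F457463) (iv1 F457466)
theorem F511993 : act 6 n216712 = n222032 := d21_9 (iv5 D198065) D198062 D222028 F511979 F503964 (iv6 D220478) F390959 F432070 (iv5 F485584) (iv1 D222032)
theorem F511994 : act 2 n222032 = n199378 := d3_1 F511993 F411909 (iv2 F485583)
def n222033 : Q := act 4 n198065
theorem D222033 : act 4 n198065 = n222033 := rfl
theorem F511995 : act 6 n222033 = n219931 := d10_2 F491094 D222033 F501243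
theorem F511996 : act 0 n222033 = n210770 := d18_2 (iv1 D222032) D222033 F458737 (iv5 F386697) (iv4 F501095) (iv0 F501097) (iv4 F411469) (iv0 F411871) F511992
theorem F511997 : act 5 n213243 = n222033 := d19_1 F481631 (iv4 D222033) F406636 D198067 F406639 (iv4 F223467) F223463 (iv1 F175903) (iv5 F392583) (iv4 D194268) (iv3 F387869) F387872 (iv5 F479259) F479258 (iv3 F368436) (iv1 D185223) (iv5 D88263) D88262 D185219
theorem F511998 : act 7 n222033 = n213242 := d13_2 D213243 F511997 (iv5 D213242)
theorem F511999 : act 0 n216658 = n222033 := d21_7 (iv5 F469517) (iv1 F458706) (iv5 F457392) (iv6 F457389) F438141 (iv6 F429260) D216658 (iv5 F511997) F469541 (iv1 F469516)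
def n222034 : Q := act 7 n198065
theorem D222034 : act 7 n198065 = n222034 := rfl
theorem F512000 : act 3 n222034 = n198070 := d8_1 D222034 (iv7 D198070) (iv3 F406636)
theorem F512001 : act 4 n222034 = n213242 := d11_1 D222034 (iv7 F511998) (iv4 D222033)
theorem F512002 : act 5 n222034 = n198066 := d13_1 D222034 (iv7 D198066) D198065
theorem F512003 : act 1 n199378 = n222034 := d15_1 (iv0 F504039) (iv7 D222034) (iv2 F504036)
def n222035 : Q := act 3 n198068
theorem D222035 : act 3 n198068 = n222035 := rfl
theorem F512004 : act 2 n222035 = n213164 := d0_1 D222035 F469290 F465787 (iv3 D210550) (iv2 F406645)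
theorem F512005 : act 5 n222035 = n202481 := d6_2 F472796 D222035 (iv3 F472798)
theorem F512006 : act 7 n222035 = n215921 := d8_2 F457430 D222035 F482101
def n222036 : Q := act 6 n198068
theorem D222036 : act 6 n198068 = n222036 := rfl
theorem F512007 : act 2 n222036 = n210543 := d3_1 D222036 F457983 (iv2 F406645)
theorem F512008 : act 4 n222036 = n198069 := d10_1 D222036 (iv6 D198069) D198068
def n222037 : Q := act 0 n198083
theorem D222037 : act 0 n198083 = n222037 := rfl
theorem F512009 : act 5 n222037 = n205289 := d17_1 D222037 (iv1 F435795) (iv5 F436308) (iv4 D205416) D205417 (iv0 F436315) F398855 F435814 F435811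
theorem F512010 : act 4 n222037 = n205478 := d18_1 D222037 (iv1 D205478) F416918 F416916 F363243 D214929 (iv4 F482036) (iv0 F482040) F435115
theorem F512011 : act 3 n222037 = n205290 := d20_5 (iv4 F399171) (iv1 F399173) F201946 (iv3 F406730) D222037 (iv4 F508483) F508488 (iv4 F496728) F496725 (iv1 F435245)
theorem F512012 : act 6 n222037 = n198889 := d21_5 F405955 (iv1 D108905) D108907 D198083 D222037 (iv5 D198889) (iv1 F170857) (iv5 F170864) D125882 (iv1 F405953)
theorem F512013 : act 1 n205471 = n222037 := d15_0 (iv0 D222037) (iv7 F435682) (iv2 F436595)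
theorem F512014 : act 2 n198891 = n222037 := d3_3 F512012 F409761 D198891
theorem F512015 : act 7 n219038 = n222037 := d14_0 F512012 F409762 D205365 (iv7 F436093) (iv6 F496827)
def n222038 : Q := act 1 n198083
theorem D222038 : act 1 n198083 = n222038 := rfl
theorem F512016 : act 1 n222038 = n205471 := d15_1 D222038 (iv7 F477072) F477068
theorem F512017 : act 7 n222038 = n198891 := d15_2 (iv0 D222037) D222038 F512014
theorem F512018 : act 5 n222038 = n200492 := d17_7 (iv1 F360215) (iv5 F338382) F394149 F394147 (iv4 F435114) F435115 D222038 (iv0 F416715) F202737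
theorem F512019 : act 4 n222038 = n205477 := d18_7 D205060 F434827 (iv1 F380763) (iv4 F398039) (iv5 F435813) F435811 D222038 (iv0 D205477) F366132
theorem F512020 : act 3 n198894 = n222038 := d19_19 (iv1 D222038) (iv5 F435115) F435114 (iv3 F280868) (iv1 F352001) F352003 (iv4 F414050) F414049 F401469 (iv5 D136297) (iv4 F341783) F341782 (iv1 F93273) D59191 (iv4 F202379) (iv3 F436191) F436195 (iv5 F435995) F435994
theorem F512021 : act 2 n222038 = n219038 := d0_1 F512020 F496826 (iv2 F435781) F435782 (iv2 F409772)
def n222039 : Q := act 3 n198084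
theorem D222039 : act 3 n198084 = n222039 := rfl
theorem F512022 : act 2 n222039 = n220961 := d0_1 D222039 F506509 F455305 (iv3 F436861) F436860
theorem F512023 : act 4 n222039 = n198680 := d5_2 (iv4 F429410) D222039 F408852 D198682 (iv3 F429407)
theorem F512024 : act 5 n222039 = n215108 := d6_2 (iv5 F429412) D222039 F478390
theorem F512025 : act 6 n222039 = n221227 := d7_2 F429411 D222039 (iv3 F507838)
theorem F512026 : act 7 n222039 = n220958 := d8_2 F477063 D222039 F506490
theorem F512027 : act 0 n222039 = n215735 := d19_4 (iv1 F503455) F503454 (iv4 F429410) D222039 F481318 F435463 F220405 (iv1 F173551) F354539 F365849 (iv3 D160389) (iv1 D76888) D76890 D160399 (iv3 F433534) F433536 (iv5 F401422) F401421 (iv3 F401407)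
theorem F512028 : act 0 n215750 = n222039 := d20_4 F341718 (iv1 F351046) (iv4 F277078) D215750 (iv3 D222039) F429410 F429409 (iv4 F393784) F276419 (iv1 F341717)
def n222040 : Q := act 6 n198085
theorem D222040 : act 6 n198085 = n222040 := rfl
theorem F512029 : act 2 n222040 = n207113 := d3_1 D222040 F477066 (iv2 F477067)
theorem F512030 : act 3 n222040 = n214919 := d7_1 D222040 F477435 F455426
theorem F512031 : act 7 n222040 = n207114 := d14_2 (iv7 F436867) D222040 F452103 F429417 D205531
theorem F512032 : act 0 n222040 = n207116 := d21_4 (iv5 D177560) D177558 (iv5 F406731) D222040 F443399 (iv5 D166080) (iv1 F299390) F299391 (iv6 F417120) (iv1 F417121)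
theorem F512033 : act 0 n207109 = n222040 := d21_4 F441192 F208711 (iv5 F208757) D207109 (iv6 D222040) F406731 (iv1 F277004) (iv5 F401298) (iv6 F446291) F446293
def n222041 : Q := act 3 n198087
theorem D222041 : act 3 n198087 = n222041 := rfl
theorem F512034 : act 2 n222041 = n210938 := d0_1 D222041 (iv3 D210938) F223748 D140652 (iv2 F406734)
theorem F512035 : act 5 n222041 = n211404 := d6_2 (iv5 F406737) D222041 F461422
theorem F512036 : act 6 n222041 = n215550 := d7_2 (iv6 F406735) D222041 F480453
theorem F512037 : act 7 n222041 = n199259 := d8_2 (iv7 F406736) D222041 F411354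
theorem F512038 : act 0 n222041 = n211009 := d19_4 D50287 D108912 D198087 D222041 (iv5 D211009) (iv4 F459735) F459734 F423151 (iv5 D202183) F179726 (iv3 D64504) (iv1 F99507) D126785 F406985 (iv3 D198146) (iv1 D108959) (iv5 D50302) F38516 (iv3 F38512)
theorem F512039 : act 0 n211072 = n222041 := d20_4 F273382 (iv1 F271116) (iv4 F273900) (iv3 F459990) (iv3 D222041) (iv4 D198087) F168931 (iv4 F172223) (iv3 F411053) (iv1 F411058)
def n222042 : Q := act 6 n198092
theorem D222042 : act 6 n198092 = n222042 := rfl
theorem F512040 : act 2 n222042 = n221964 := d3_1 D222042 (iv6 D221964) F406778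
theorem F512041 : act 3 n222042 = n198752 := d7_1 D222042 (iv6 D198752) (iv3 F406756)
theorem F512042 : act 4 n222042 = n218023 := d10_1 D222042 (iv6 D218023) (iv4 F406758)
theorem F512043 : act 7 n222042 = n217761 := d14_2 (iv7 F406757) D222042 (iv6 D217761) F420151 (iv6 F388724)
theorem F512044 : act 0 n222042 = n221708 := d21_4 F168710 D108918 D198092 D222042 (iv6 D221708) F403460 (iv1 F403846) F403844 F406077 F406076
theorem F512045 : act 0 n198127 = n222042 := d21_4 (iv5 F393762) D220815 F505674 (iv6 F484715) (iv6 D222042) (iv5 D198092) (iv1 F223516) D210947 (iv6 F459424) F371641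
def n222043 : Q := act 5 n198098
theorem D222043 : act 5 n198098 = n222043 := rfl
theorem F512046 : act 2 n222043 = n199548 := d2_1 D222043 F412628 (iv2 F406788)
theorem F512047 : act 3 n222043 = n200044 := d6_1 D222043 (iv5 D200044) (iv3 F406789)
theorem F512048 : act 4 n222043 = n222008 := d9_1 D222043 F511873 F465449 (iv5 F439844) F439843 (iv5 D196466) F164952 D196457 D221464 F509135 F465444 (iv5 F511728) (iv4 D221977) F406184 D198098
theorem F512049 : act 6 n222043 = n218277 := d12_2 (iv6 F406790) D222043 F493077 (iv6 F509181) F509180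
theorem F512050 : act 7 n222043 = n199105 := d13_2 (iv7 F406791) D222043 (iv5 D199105)
theorem F512051 : act 0 n222043 = n221463 := d17_2 F406792 D222043 (iv5 F509133) (iv4 D197858) F400502 F400508 (iv5 D108679) (iv0 F356731) (iv4 F400735)
theorem F512052 : act 1 n222043 = n218169 := d17_6 F418227 (iv5 F509163) F509169 F406184 D198098 D222043 (iv5 F492496) F406131 (iv4 F418224)
def n222044 : Q := act 6 n198099
theorem D222044 : act 6 n198099 = n222044 := rfl
theorem F512053 : act 2 n222044 = n205421 := d3_1 D222044 (iv6 F436585) F436582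
theorem F512054 : act 3 n222044 = n221956 := d7_1 D222044 (iv6 D221956) (iv3 F406794)
theorem F512055 : act 4 n222044 = n205152 := d10_1 D222044 (iv6 D205152) (iv4 F406795)
theorem F512056 : act 5 n222044 = n205061 := d12_1 D222044 (iv6 F434834) F219255 (iv6 F348806) D198099
theorem F512057 : act 7 n222044 = n216293 := d14_2 (iv7 F406796) D222044 F483685 F436144 (iv6 D205235)
theorem F512058 : act 0 n222044 = n205331 := d21_10 F456152 F499386 F499384 (iv6 F483690) F409766 (iv6 F407484) (iv5 D198288) F169125 D198099 D222044
theorem F512059 : act 0 n205327 = n222044 := d21_4 (iv5 D58915) D58912 D125797 (iv6 F436177) (iv6 D222044) (iv5 D198099) (iv1 F202743) (iv5 F435816) F435819 (iv1 D125807)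
def n222045 : Q := act 6 n198103
theorem D222045 : act 6 n198103 = n222045 := rfl
theorem F512060 : act 2 n222045 = n198116 := d3_1 D222045 (iv6 D198116) (iv2 F406808)
theorem F512061 : act 3 n222045 = n204679 := d7_1 D222045 F433234 F417830
theorem F512062 : act 4 n222045 = n205513 := d10_1 D222045 F436782 F406807
theorem F512063 : act 5 n222045 = n214139 := d12_1 D222045 F510202 F510196 (iv6 D221601) (iv5 F406810)
theorem F512064 : act 7 n222045 = n220253 := d14_2 (iv7 F406809) D222045 F502874 (iv7 F412081) (iv6 D198115)
theorem F512065 : act 0 n222045 = n204686 := d21_4 F412409 (iv1 F402036) (iv5 F406810) D222045 F460210 F460208 (iv1 D177057) D177059 F402107 F412408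
theorem F512066 : act 0 n198348 = n222045 := d21_4 (iv5 D74721) D74718 (iv5 F343563) D198348 (iv6 D222045) F406810 (iv1 D196769) D196770 F401738 (iv1 F207282)
def n222046 : Q := act 4 n198108
theorem D222046 : act 4 n198108 = n222046 := rfl
theorem F512067 : act 2 n222046 = n198215 := d1_1 D222046 F407254 F406855
theorem F512068 : act 5 n222046 = n205261 := d9_2 (iv5 F406854) D222046 (iv4 D205261) (iv5 F406718) F406715 (iv5 D125865) (iv4 F170465) (iv5 F406858) (iv4 F491230) F491231 (iv4 D205264) (iv5 F406727) (iv4 F511663) F511664 F413264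
theorem F512069 : act 6 n222046 = n199618 := d10_2 (iv6 F406856) D222046 (iv4 D199618)
theorem F512070 : act 7 n222046 = n198289 := d11_2 F511525 D222046 (iv4 F511522)
theorem F512071 : act 0 n222046 = n198287 := d17_0 (iv5 D198287) F405748 (iv5 F440433) F440432 (iv5 F409184) (iv0 F435158) (iv5 F511516) F511520 D222046
theorem F512072 : act 1 n222046 = n198266 := d18_6 D51488 D111641 D199725 F413264 (iv5 F406854) D222046 F407401 (iv0 D111656) (iv5 D51492)
def n222047 : Q := act 4 n198130
theorem D222047 : act 4 n198130 = n222047 := rfl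
theorem F512073 : act 2 n222047 = n213346 := d1_1 D222047 (iv4 F474333) F474330
theorem F512074 : act 3 n222047 = n221857 := d5_1 D222047 F511087 F429268 (iv4 F473832) F473831
theorem F512075 : act 5 n222047 = n221853 := d9_2 (iv5 F406951) D222047 F511066 (iv5 F476831) F476830 (iv5 D211065) (iv4 F449969) F449966 (iv4 F463665) (iv5 D211941) F227236 D196419 (iv4 F433283) F433284 F280734
theorem F512076 : act 6 n222047 = n216076 := d10_2 (iv6 F406950) D222047 (iv4 D216076)
theorem F512077 : act 7 n222047 = n213345 := d11_2 F508962 D222047 (iv4 F508960)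
theorem F512078 : act 0 n222047 = n213347 := d17_0 (iv5 F509502) (iv1 F509504) F507585 (iv4 F459984) (iv5 D198129) F405610 (iv5 F504203) (iv0 F504207) D222047
theorem F512079 : act 1 n222047 = n213349 := d18_6 (iv1 F223485) (iv4 F169162) (iv1 F363337) F280734 (iv5 F406951) D222047 F470044 (iv0 F459361) (iv5 D210934)
def n222048 : Q := act 3 n198131
theorem D222048 : act 3 n198131 = n222048 := rfl
theorem F512080 : act 5 n222048 = n218363 := d6_2 F449966 D222048 (iv3 F493507)
theorem F512081 : act 6 n222048 = n219255 := d7_2 (iv6 F510135) D222048 F510134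
theorem F512082 : act 0 n206256 = n222048 := d20_4 (iv4 F241566) (iv1 D127979) D127980 D206256 (iv3 D222048) (iv4 F463665) F470046 F470044 F241572 (iv1 F241040)
def n222049 : Q := act 5 n198132
theorem D222049 : act 5 n198132 = n222049 := rfl
theorem F512083 : act 2 n222049 = n221578 := d2_1 D222049 F509681 F500662
theorem F512084 : act 3 n222049 = n215175 := d6_1 D222049 F478726 F463640
theorem F512085 : act 6 n222049 = n221547 := d12_2 (iv6 F406952) D222049 (iv5 D221547) F407002 (iv5 D198152)
theorem F512086 : act 4 n222049 = n219264 := d16_2 D198132 D222049 (iv5 D219264) (iv4 F477513) F477514 F449890 (iv5 F504203) F504205 F405605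
theorem F512087 : act 0 n222049 = n215325 := d17_2 F459966 D222049 F479406 F401572 (iv5 F351237) (iv0 D109065) D109067 (iv0 F363349) D211064
theorem F512088 : act 1 n222049 = n221576 := d17_6 F504359 (iv5 D198129) (iv1 D108946) D108947 D198132 D222049 (iv5 D221576) F456514 (iv4 F504356)
theorem F512089 : act 7 n221579 = n222049 := d11_0 F512086 F498007 (iv4 F509687)
def n222050 : Q := act 7 n198132
theorem D222050 : act 7 n198132 = n222050 := rfl
theorem F512090 : act 2 n222050 = n213895 := d4_1 D222050 (iv7 F500665) F500662
theorem F512091 : act 3 n222050 = n216523 := d8_1 D222050 F484804 F463640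
theorem F512092 : act 4 n222050 = n198133 := d11_1 D222050 (iv7 D198133) D198132
theorem F512093 : act 5 n222050 = n221579 := d13_1 D222050 F512089 (iv5 D222049)
theorem F512094 : act 6 n222050 = n216524 := d14_1 D222050 F484806 F407868 (iv7 D198153) (iv6 F406952)
theorem F512095 : act 1 n213897 = n222050 := d15_1 (iv0 F500667) (iv7 D222050) (iv2 F500662)
theorem F512096 : act 1 n222050 = n213894 := d15_1 F512095 (iv7 F472620) (iv2 F472625)
def n222051 : Q := act 0 n198136
theorem D222051 : act 0 n198136 = n222051 := rfl
theorem F512097 : act 5 n222051 = n211400 := d17_1 D222051 (iv1 F461411) (iv5 F510132) F510133 F509551 (iv0 F500666) (iv5 F509681) (iv0 D221578) (iv4 F406963)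
theorem F512098 : act 4 n222051 = n221538 := d18_3 (iv1 D221579) (iv4 F406963) D222051 F509485 F470044 (iv0 F459361) (iv4 F472627) F512095 F512093
theorem F512099 : act 3 n222051 = n221603 := d20_5 (iv4 D83420) (iv1 F127813) (iv4 F271727) (iv3 F406962) D222051 F509814 F504487 F479481 (iv3 D173379) (iv1 F128666)
theorem F512100 : act 6 n222051 = n202250 := d21_5 (iv5 D50302) D50300 D108951 D198136 D222051 (iv5 D202250) (iv1 F423027) (iv5 F406983) (iv6 D198148) (iv1 D108959)
theorem F512101 : act 2 n215330 = n222051 := d15_3 (iv0 D222051) (iv0 F505744) F505743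
theorem F512102 : act 1 n215331 = n222051 := d15_0 (iv0 D222051) F406965 D215331
theorem F512103 : act 7 n222051 = n211399 := d15_2 (iv0 F505745) F512102 (iv2 F505740)
def n222052 : Q := act 6 n198138
theorem D222052 : act 6 n198138 = n222052 := rfl
theorem F512104 : act 2 n222052 = n198140 := d3_1 D222052 (iv6 D198140) D198138
theorem F512105 : act 3 n222052 = n215900 := d7_1 D222052 F481992 F433814
theorem F512106 : act 5 n222052 = n214136 := d12_1 D222052 (iv6 F478597) (iv5 F479942) F479943 F455732
theorem F512107 : act 7 n222052 = n204683 := d14_2 F408806 D222052 F433250 (iv7 F365920) F408810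
theorem F512108 : act 0 n222052 = n204684 := d21_4 F453132 (iv1 F455734) F455732 D222052 F433252 (iv5 F501182) (iv1 F501186) (iv5 D198028) D198029 (iv1 F453134)
theorem F512109 : act 1 n222052 = n204058 := d15_1 (iv0 F512108) F430930 D204684
def n222053 : Q := act 6 n198139
theorem D222053 : act 6 n198139 = n222053 := rfl
theorem F512110 : act 2 n222053 = n215427 := d3_1 D222053 F479943 F455730
theorem F512111 : act 3 n222053 = n198142 := d7_1 D222053 (iv6 D198142) (iv3 F406967)
theorem F512112 : act 4 n222053 = n210314 := d10_1 D222053 F456971 (iv4 F406968)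
theorem F512113 : act 5 n222053 = n214137 := d12_1 D222053 (iv6 D214137) F406972 (iv6 D198140) D198139
theorem F512114 : act 7 n222053 = n215426 := d14_2 F455739 D222053 F479937 (iv7 F480086) F480085
theorem F512115 : act 0 n222053 = n212818 := d21_10 F467608 (iv1 F459409) F388409 F388407 (iv1 F385033) (iv6 F452919) F452918 (iv1 D198137) D198139 D222053
theorem F512116 : act 1 n222053 = n211150 := d15_1 (iv0 F512115) F460338 (iv2 F467607)
def n222054 : Q := act 6 n198144
theorem D222054 : act 6 n198144 = n222054 := rfl
theorem F512117 : act 2 n222054 = n221554 := d3_1 D222054 F509569 (iv2 F407305)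
theorem F512118 : act 4 n222054 = n198145 := d10_1 D222054 (iv6 D198145) D198144
theorem F512119 : act 7 n222054 = n221555 := d14_2 F407307 D222054 (iv6 F509573) F436640 F436667
theorem F512120 : act 0 n222054 = n221557 := d21_4 (iv5 D211083) D211080 F460029 D222054 F510659 F510654 (iv1 F456514) D221576 F509673 F509508
theorem F512121 : act 0 n205485 = n222054 := d21_4 (iv5 F509581) (iv1 F509584) (iv5 D205484) D205485 (iv6 D222054) (iv5 F460029) (iv1 F460031) F401620 (iv6 D196729) (iv1 F401613)
def n222055 : Q := act 0 n198145
theorem D222055 : act 0 n198145 = n222055 := rfl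
theorem F512122 : act 5 n222055 = n204642 := d17_3 (iv1 D199518) (iv5 F406980) D222055 (iv4 D204642) D204643 (iv0 F433109) (iv5 D139478) D139477 (iv4 F412494)
theorem F512123 : act 7 n221612 = n222055 := d13_0 F512122 F443980 (iv5 F509866)
def n222056 : Q := act 1 n198154
theorem D222056 : act 1 n198154 = n222056 := rfl
theorem F512124 : act 1 n222056 = n210940 := d15_1 D222056 F459386 F414535
theorem F512125 : act 7 n222056 = n211086 := d15_2 F498009 D222056 (iv2 F498005)
theorem F512126 : act 5 n222056 = n221411 := d17_7 F459970 (iv5 D141831) D141829 (iv5 F407585) (iv4 F413113) F413114 D222056 F508889 F476830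
theorem F512127 : act 6 n206362 = n222056 := d21_3 (iv5 F424743) (iv1 F457516) (iv5 F457519) (iv1 D222056) (iv6 D198154) (iv5 D108963) (iv1 F168586) F331121 (iv6 D153780) (iv1 F331118)
theorem F512128 : act 2 n222056 = n206363 := d3_1 F512127 (iv6 D206363) D206362
def n222057 : Q := act 4 n198168
theorem D222057 : act 4 n198168 = n222057 := rfl
theorem F512129 : act 2 n222057 = n209337 := d1_1 D222057 (iv4 D209337) (iv2 F407079)
theorem F512130 : act 3 n222057 = n205686 := d5_1 D222057 F437456 F418977 (iv4 F439268) F439270
theorem F512131 : act 5 n222057 = n205781 := d9_2 D198168 D222057 F437848 F414958 F363222 F168971 (iv4 F219394) (iv5 F453306) F453305 F437893 (iv4 D198165) (iv5 D108979) F79703 D50321 D108983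
theorem F512132 : act 6 n222057 = n205783 := d10_2 F506860 D222057 F506861
theorem F512133 : act 7 n222057 = n205682 := d11_2 F446210 D222057 (iv4 F446211)
theorem F512134 : act 0 n222057 = n207736 := d18_2 F437710 D222057 (iv4 D207736) F211895 F168170 (iv0 D63459) (iv4 F93719) (iv0 F203584) D205752
theorem F512135 : act 1 n222057 = n207737 := d18_6 (iv1 F211755) (iv4 F168991) (iv1 D108982) D108983 D198168 D222057 (iv4 D207737) (iv0 F442972) F442971
def n222058 : Q := act 0 n198176
theorem D222058 : act 0 n198176 = n222058 := rfl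
theorem F512136 : act 5 n222058 = n214781 := d17_3 D170849 (iv5 F407113) D222058 F476812 (iv5 F289213) (iv0 F382065) (iv5 D176822) (iv0 D84299) (iv4 F126254)
theorem F512137 : act 6 n222058 = n221916 := d21_5 (iv5 D108607) D108604 (iv5 F359825) D198176 D222058 F511381 (iv1 F471860) (iv5 F432796) F432797 (iv1 D197711)
theorem F512138 : act 2 n203980 = n222058 := d15_3 (iv0 D222058) (iv0 F407114) (iv7 F430691)
theorem F512139 : act 1 n198187 = n222058 := d15_0 (iv0 D222058) (iv7 F483011) F483009
theorem F512140 : act 7 n222058 = n215261 := d15_2 (iv0 F407145) F512139 (iv2 D215261)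
theorem F512141 : act 3 n215264 = n222058 := d8_3 F512140 F479096 (iv7 F479106)
def n222059 : Q := act 6 n198178
theorem D222059 : act 6 n198178 = n222059 := rfl
theorem F512142 : act 2 n222059 = n209615 := d3_1 D222059 F454343 (iv2 F441907)
theorem F512143 : act 4 n222059 = n215664 := d10_1 D222059 (iv6 F511558) F511556
theorem F512144 : act 0 n215262 = n222059 := d21_4 (iv5 D195253) D195250 (iv5 F405310) (iv6 F479100) (iv6 D222059) F407119 F437344 F437342 F406512 F405326
def n222060 : Q := act 0 n198186
theorem D222060 : act 0 n198186 = n222060 := rfl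
theorem F512145 : act 5 n222060 = n208224 := d17_1 D222060 (iv1 F448457) F412689 F400477 F351200 D134753 (iv5 F413571) F413575 (iv4 F407141)
theorem F512146 : act 4 n222060 = n215263 := d18_1 D222060 (iv1 F479104) F461389 F363279 (iv4 F363276) (iv0 F359225) D214374 F474851 F431529
theorem F512147 : act 6 n222060 = n215263 := d21_5 D196377 F400515 F387519 D198186 D222060 F479103 (iv1 F405295) F404843 F343112 (iv1 F216788)
theorem F512148 : act 2 n215267 = n222060 := d15_3 (iv0 D222060) (iv0 F407142) D215267
theorem F512149 : act 1 n210432 = n222060 := d15_0 (iv0 D222060) (iv7 F508881) F508877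
theorem F512150 : act 7 n222060 = n203981 := d15_2 (iv0 F457501) F512149 F430693
theorem F512151 : act 3 n222060 = n221914 := d0_2 (iv3 F479120) F512148 F511372 F405323 (iv2 F467952)
def n222061 : Q := act 4 n198187
theorem D222061 : act 4 n198187 = n222061 := rfl
theorem F512152 : act 3 n222061 = n218589 := d5_1 D222061 F494637 (iv3 D191334) F343094 (iv3 F407143)
theorem F512153 : act 6 n222061 = n221960 := d10_2 F407146 D222061 (iv4 D221960)
theorem F512154 : act 7 n222061 = n222007 := d11_2 (iv7 F407144) D222061 F511872
theorem F512155 : act 0 n222061 = n219411 := d18_2 (iv1 F512139) D222061 F498769 F483869 F477605 (iv0 D199853) F392189 F476816 (iv5 F512136)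
def n222062 : Q := act 4 n198192
theorem D222062 : act 4 n198192 = n222062 := rfl
theorem F512156 : act 3 n222062 = n218085 := d5_1 D222062 F492096 (iv3 D216664) F362812 D198192
theorem F512157 : act 6 n222062 = n217631 := d10_2 F502938 D222062 (iv4 F502935)
def n222063 : Q := act 3 n198194
theorem D222063 : act 3 n198194 = n222063 := rfl
theorem F512158 : act 2 n222063 = n220234 := d0_1 D222063 F502779 F506353 F506350 (iv2 F412993)
theorem F512159 : act 4 n222063 = n221698 := d5_2 (iv4 F407179) D222063 (iv3 D221698) (iv4 D197152) (iv3 F403275)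
theorem F512160 : act 5 n222063 = n220211 := d6_2 (iv5 F407181) D222063 F502669
theorem F512161 : act 6 n222063 = n210785 := d7_2 F407180 D222063 F458782
theorem F512162 : act 7 n222063 = n198344 := d8_2 (iv7 F407178) D222063 F407692
theorem F512163 : act 0 n222063 = n198257 := d20_4 (iv4 F202184) F403278 (iv4 F407179) D222063 F482018 F482014 (iv1 F428704) F428701 (iv3 F341263) F202186
theorem F512164 : act 0 n220285 = n222063 := d20_4 F463487 (iv1 F434741) (iv4 F434759) (iv3 F503026) (iv3 D222063) F407179 F403277 (iv4 F405670) F405669 (iv1 F463490)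
def n222064 : Q := act 6 n198196
theorem D222064 : act 6 n198196 = n222064 := rfl
theorem F512165 : act 3 n222064 = n198197 := d7_1 D222064 (iv6 D198197) D198196
theorem F512166 : act 4 n222064 = n206752 := d10_1 D222064 (iv6 D206752) (iv4 F407188)
theorem F512167 : act 5 n222064 = n220512 := d12_1 D222064 (iv6 D220512) (iv5 F478981) (iv6 D215233) (iv5 F407189)
theorem F512168 : act 0 n222064 = n217648 := d21_4 (iv5 D190376) F268362 (iv5 F407189) D222064 (iv6 D217648) D217647 F489926 F486311 (iv6 F450785) (iv1 F450787)
def n222065 : Q := act 6 n198201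
theorem D222065 : act 6 n198201 = n222065 := rfl
theorem F512169 : act 2 n222065 = n199849 := d3_1 D222065 F439401 (iv2 F439398)
theorem F512170 : act 3 n222065 = n215014 := d7_1 D222065 (iv6 F504880) F504878
theorem F512171 : act 4 n222065 = n218038 := d10_1 D222065 (iv6 D218038) (iv4 F407211)
theorem F512172 : act 5 n222065 = n218625 := d12_1 D222065 (iv6 F494843) F407215 (iv6 D198202) D198201
theorem F512173 : act 7 n222065 = n199848 := d14_2 (iv7 F407210) D222065 (iv6 F413798) F378924 D192842
theorem F512174 : act 0 n222065 = n199847 := d21_4 (iv5 F407203) (iv1 D198199) D198201 D222065 (iv6 D199847) (iv5 D111835) (iv1 F81394) F105469 F320054 F368508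
theorem F512175 : act 0 n199850 = n222065 := d21_4 (iv5 F497373) F497375 F480323 (iv6 F413817) (iv6 D222065) (iv5 D198201) (iv1 F380525) (iv5 D190673) D190674 (iv1 F488188)
def n222066 : Q := act 6 n198220
theorem D222066 : act 6 n198220 = n222066 := rfl
theorem F512176 : act 3 n222066 = n215546 := d7_1 D222066 F480436 F461964
theorem F512177 : act 4 n222066 = n221419 := d10_1 D222066 (iv6 D221419) (iv4 F407264)
theorem F512178 : act 7 n222066 = n219875 := d14_2 F511280 D222066 (iv6 D219875) F459340 (iv6 F511279)
theorem F512179 : act 0 n222066 = n215551 := d21_4 (iv5 D109057) D109055 D198220 D222066 F480459 F411126 D220257 F502892 F455582 F455552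
def n222067 : Q := act 5 n198221
theorem D222067 : act 5 n198221 = n222067 := rfl
theorem F512180 : act 3 n222067 = n214629 := d6_1 D222067 F476121 (iv3 F412238)
theorem F512181 : act 7 n222067 = n219154 := d13_2 F429420 D222067 F497461
def n222068 : Q := act 3 n198236
theorem D222068 : act 3 n198236 = n222068 := rfl
theorem F512182 : act 4 n222068 = n219648 := d5_2 (iv4 F407304) D222068 (iv3 F499841) (iv4 F455609) (iv3 F455611)
theorem F512183 : act 7 n222068 = n221101 := d8_2 F407306 D222068 F507225
theorem F512184 : act 0 n222068 = n210712 := d19_4 (iv1 F168856) (iv5 F405618) (iv4 F407304) D222068 (iv5 F460367) F460366 F428135 F316911 D211149 F460335 (iv3 F455833) F455835 (iv5 D174813) (iv4 D83512) D83511 F272356 (iv5 F409868) F409867 (iv3 D140683)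
def n222069 : Q := act 6 n198244
theorem D222069 : act 6 n198244 = n222069 := rfl
theorem F512185 : act 2 n222069 = n198344 := d3_1 D222069 (iv6 D198344) (iv2 F407330)
theorem F512186 : act 3 n222069 = n220934 := d7_1 D222069 (iv6 F506358) F413156
theorem F512187 : act 4 n222069 = n206458 := d10_1 D222069 (iv6 D206458) F407329
theorem F512188 : act 5 n222069 = n220235 := d12_1 D222069 F502784 F502025 F479888 F415933
theorem F512189 : act 0 n222069 = n220285 := d21_4 (iv5 F505575) (iv1 F505577) F415933 D222069 F503027 F412175 (iv1 F345582) (iv5 F406043) (iv6 F440927) F440929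
theorem F512190 : act 0 n198257 = n222069 := d21_4 D205194 F435366 (iv5 D198256) D198257 (iv6 D222069) (iv5 F415933) F505342 F505341 (iv6 D214281) F364551
theorem F512191 : act 7 n222069 = n220234 := d15_2 (iv0 F512164) (iv0 F512189) (iv2 F512158)
def n222070 : Q := act 6 n198248
theorem D222070 : act 6 n198248 = n222070 := rfl
theorem F512192 : act 2 n222070 = n215664 := d3_1 D222070 (iv6 F511558) (iv2 F511559)
theorem F512193 : act 3 n222070 = n198250 := d7_1 D222070 (iv6 D198250) D198248
theorem F512194 : act 4 n222070 = n209615 := d10_1 D222070 F454343 F441906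
theorem F512195 : act 7 n222070 = n211025 := d14_2 F459485 D222070 (iv6 D211025) (iv7 F224933) (iv6 F459484)
theorem F512196 : act 5 n222070 = n214356 := d21_6 F370790 (iv1 F387674) F387672 F438868 F438867 D222070 F482897 F482893 (iv6 D201346) F370792
theorem F512197 : act 0 n216330 = n222070 := d21_4 F489463 F405013 (iv5 F467273) (iv6 F483870) (iv6 D222070) F407341 (iv1 F477496) F477492 (iv6 F511415) F511417
def n222071 : Q := act 3 n198252
theorem D222071 : act 3 n198252 = n222071 := rfl
theorem F512198 : act 2 n222071 = n210647 := d0_1 D222071 (iv3 D210647) F359138 (iv3 F410488) F410487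
theorem F512199 : act 4 n222071 = n210580 := d5_2 D198252 D222071 F458112 (iv4 F407353) (iv3 D198251)
theorem F512200 : act 5 n222071 = n221127 := d6_2 (iv5 F410486) D222071 F507352
theorem F512201 : act 6 n222071 = n211035 := d7_2 (iv6 F407356) D222071 (iv3 D211035)
theorem F512202 : act 0 n222071 = n212274 := d19_4 (iv1 F176731) F203751 D198252 D222071 (iv5 F484870) F484871 (iv3 D211919) (iv1 D144417) (iv5 F162237) (iv4 F385944) (iv3 D192194) (iv1 F153713) (iv5 F157442) F324390 (iv3 F407238) (iv1 F455760) (iv5 D210015) (iv4 F223458) F223457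
theorem F512203 : act 0 n210517 = n222071 := d20_4 (iv4 F482926) F482929 (iv4 D210521) (iv3 F457888) (iv3 D222071) (iv4 D198252) (iv1 D109086) D109087 (iv3 F400212) (iv1 F457778)
def n222072 : Q := act 6 n198256
theorem D222072 : act 6 n198256 = n222072 := rfl
theorem F512204 : act 2 n222072 = n199412 := d3_1 D222072 F473635 (iv2 F473638)
theorem F512205 : act 3 n222072 = n216339 := d7_1 D222072 (iv6 D216339) (iv3 F407367)
theorem F512206 : act 4 n222072 = n199411 := d10_1 D222072 (iv6 F506026) F506027
theorem F512207 : act 5 n222072 = n210149 := d12_1 D222072 F458298 (iv5 F459541) (iv6 D198257) D198256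
theorem F512208 : act 7 n222072 = n199618 := d14_2 (iv7 F473631) D222072 (iv6 F512069) F512070 F473632
theorem F512209 : act 0 n222072 = n199626 := d21_10 F412905 (iv1 F220825) D137670 (iv6 F350372) (iv1 F241647) (iv6 F365129) (iv5 D109091) D109089 D198256 D222072
theorem F512210 : act 0 n199625 = n222072 := d21_4 F109232 (iv1 F107744) D151167 F412903 (iv6 D222072) (iv5 D198256) (iv1 F407340) F467831 (iv6 D212859) F237832
def n222073 : Q := act 7 n198257
theorem D222073 : act 7 n198257 = n222073 := rfl
theorem F512211 : act 2 n222073 = n220285 := d4_1 D222073 F503028 F482734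
theorem F512212 : act 3 n222073 = n215557 := d8_1 D222073 (iv7 F482017) (iv3 F482018)
theorem F512213 : act 4 n222073 = n219481 := d11_1 D222073 F499103 F477309
theorem F512214 : act 5 n222073 = n210972 := d13_1 D222073 F459566 (iv5 F459541)
theorem F512215 : act 6 n222073 = n204281 := d14_1 D222073 F431842 (iv6 F412171) F407335 D198257
theorem F512216 : act 1 n220234 = n222073 := d15_1 (iv0 F502781) (iv7 D222073) (iv2 F482734)
theorem F512217 : act 1 n222073 = n198344 := d15_1 F512216 (iv7 F512162) F512158
def n222074 : Q := act 6 n198260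
theorem D222074 : act 6 n198260 = n222074 := rfl
theorem F512218 : act 2 n222074 = n214087 := d3_1 D222074 F474374 (iv2 F470492)
theorem F512219 : act 3 n222074 = n216079 := d7_1 D222074 (iv6 D216079) F407370
theorem F512220 : act 4 n222074 = n220813 := d10_1 D222074 F506044 F506042
theorem F512221 : act 5 n222074 = n218938 := d12_1 D222074 F496282 (iv5 F433336) F433331 (iv5 F407371)
theorem F512222 : act 7 n222074 = n214088 := d14_2 F470495 D222074 (iv6 F473425) (iv7 F505336) F505337
theorem F512223 : act 0 n214086 = n222074 := d21_4 (iv5 D124828) (iv1 F310664) D156320 D214086 (iv6 D222074) F407371 F412701 F412698 (iv6 D156582) (iv1 F312820)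
theorem F512224 : act 1 n214089 = n222074 := d15_1 F510176 F512222 (iv2 F510172)
def n222075 : Q := act 3 n198278
theorem D222075 : act 3 n198278 = n222075 := rfl
theorem F512225 : act 2 n222075 = n199250 := d0_1 D222075 (iv3 F470505) (iv2 F470506) (iv3 F405716) (iv2 F411309)
theorem F512226 : act 4 n222075 = n203854 := d5_2 F407446 D222075 (iv3 D203854) (iv4 D121089) D121088
theorem F512227 : act 5 n222075 = n199237 := d6_2 F509908 D222075 (iv3 F509907)
theorem F512228 : act 6 n222075 = n219405 := d7_2 (iv6 F433227) D222075 F498735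
theorem F512229 : act 7 n222075 = n199247 := d8_2 (iv7 F411307) D222075 F411315
theorem F512230 : act 0 n222075 = n214667 := d19_4 D174592 F423639 F407446 D222075 F476303 (iv4 F455656) (iv3 F462410) (iv1 F462414) F455059 (iv4 F458906) F458905 F335222 D191975 (iv4 F472004) F472003 (iv1 F497714) F497716 F460496 F273335
theorem F512231 : act 0 n214664 = n222075 := d20_4 D196856 D221621 F509923 (iv3 F476286) (iv3 D222075) (iv4 F407446) (iv1 F433822) (iv4 F433819) F433820 (iv1 D196855)
def n222076 : Q := act 0 n198285
theorem D222076 : act 0 n198285 = n222076 := rfl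
theorem F512232 : act 5 n222076 = n204775 := d17_1 D222076 F433536 (iv5 F401422) F401421 (iv5 F345403) (iv0 F325841) (iv5 F407467) (iv0 D198284) D198285
theorem F512233 : act 4 n222076 = n204272 := d18_1 D222076 F431787 (iv4 F476025) (iv5 D214607) (iv4 D160331) F253145 (iv4 F433529) (iv0 D204774) (iv5 F407476)
theorem F512234 : act 3 n222076 = n204774 := d20_5 F170808 D110431 D198882 F409728 D222076 F433529 (iv1 F253145) D160331 F409713 (iv1 D198879)
theorem F512235 : act 2 n204809 = n222076 := d15_3 (iv0 D222076) (iv0 F422484) (iv7 F433672)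
theorem F512236 : act 1 n204779 = n222076 := d15_0 (iv0 D222076) F407475 (iv2 F433543)
theorem F512237 : act 7 n222076 = n204806 := d15_2 (iv0 F433547) F512236 (iv2 F433655)
def n222077 : Q := act 7 n198294
theorem D222077 : act 7 n198294 = n222077 := rfl
theorem F512238 : act 2 n222077 = n203763 := d4_1 D222077 (iv7 F482921) F482918
theorem F512239 : act 4 n222077 = n198295 := d11_1 D222077 (iv7 D198295) (iv4 F407511)
theorem F512240 : act 5 n222077 = n221902 := d13_1 D222077 (iv7 F511455) F511450
theorem F512241 : act 6 n222077 = n208744 := d14_1 D222077 F450676 (iv6 F450373) F407408 D198294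
theorem F512242 : act 1 n203709 = n222077 := d15_1 F482923 (iv7 D222077) (iv2 F482918)
theorem F512243 : act 1 n222077 = n202672 := d15_1 F512242 F425022 (iv2 F429488)
def n222078 : Q := act 6 n198300
theorem D222078 : act 6 n198300 = n222078 := rfl
theorem F512244 : act 2 n222078 = n198301 := d3_1 D222078 (iv6 D198301) D198300
theorem F512245 : act 4 n222078 = n217161 := d10_1 D222078 F487717 (iv4 F407536)
theorem F512246 : act 5 n222078 = n217155 := d12_1 D222078 F487694 (iv5 D204711) (iv6 F414845) (iv5 F414849)
theorem F512247 : act 7 n222078 = n217803 := d14_2 F420433 D222078 (iv6 D217803) (iv7 F405113) (iv6 F420432)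
theorem F512248 : act 0 n222078 = n201670 := d21_4 F407351 (iv1 F414848) (iv5 F414849) D222078 (iv6 F480768) (iv5 D215613) (iv1 F470319) (iv5 F470324) (iv6 D198276) F407354
theorem F512249 : act 0 n217820 = n222078 := d21_4 (iv5 F410297) F474300 F474301 D217820 (iv6 D222078) F414849 F414847 F407438 F498600 (iv1 D219383)
def n222079 : Q := act 0 n198301
theorem D222079 : act 0 n198301 = n222079 := rfl
theorem F512250 : act 5 n222079 = n218810 := d17_1 D222079 (iv1 D218810) F378919 (iv4 D187921) F368679 (iv0 D186962) D186964 (iv0 F420464) F420444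
theorem F512251 : act 4 n222079 = n201667 := d18_1 D222079 F421315 (iv4 F501878) F501879 F487696 (iv0 F487344) (iv4 F491135) (iv0 F491137) F433374
theorem F512252 : act 2 n201670 = n222079 := d15_3 (iv0 D222079) (iv0 F475257) F475256
theorem F512253 : act 1 n217803 = n222079 := d15_0 (iv0 D222079) F407539 (iv2 F490706)
theorem F512254 : act 7 n222079 = n217820 := d15_2 F490709 F512253 F490786
def n222080 : Q := act 3 n198302
theorem D222080 : act 3 n198302 = n222080 := rfl
theorem F512255 : act 4 n222080 = n206842 := d5_2 (iv4 F407541) D222080 F442370 (iv4 F402874) F404954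
theorem F512256 : act 5 n222080 = n204519 := d6_2 (iv5 F407540) D222080 F432790
theorem F512257 : act 7 n222080 = n204518 := d8_2 (iv7 F407544) D222080 F432788
theorem F512258 : act 0 n222080 = n221885 := d20_4 F407526 (iv1 F404950) (iv4 F407541) D222080 F511207 F468512 (iv1 F490651) F490647 (iv3 D198299) D198298
def n222081 : Q := act 4 n198308
theorem D222081 : act 4 n198308 = n222081 := rfl
theorem F512259 : act 2 n222081 = n201328 := d1_1 D222081 F449928 (iv2 F449932)
theorem F512260 : act 6 n222081 = n221587 := d10_2 (iv6 F483898) D222081 F509728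
theorem F512261 : act 7 n222081 = n208822 := d11_2 (iv7 F449911) D222081 F451006
theorem F512262 : act 5 n222081 = n205869 := d17_5 F358543 (iv5 F424952) (iv1 F454380) F454377 D222081 (iv0 F438202) D210914 F459269 F420009
theorem F512263 : act 0 n222081 = n220042 := d17_0 F501810 (iv1 F434551) (iv5 F439712) (iv4 F453955) F453956 F452558 F452554 F449910 D222081
theorem F512264 : act 1 n222081 = n210919 := d18_6 F489580 F388504 D212446 (iv4 F465825) F454377 D222081 F459289 (iv0 F449916) (iv5 F489577)
theorem F512265 : act 3 n222081 = n211020 := d19_3 (iv1 F454380) F454377 D222081 F459775 F223710 D141873 F224912 F179964 D105692 D195554 (iv3 F397333) (iv1 D177674) F129778 (iv4 F132135) F132134 (iv1 F325628) D140707 (iv4 F363316) D202654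
def n222082 : Q := act 5 n198312
theorem D222082 : act 5 n198312 = n222082 := rfl
theorem F512266 : act 2 n222082 = n198315 := d2_1 D222082 (iv5 D198315) (iv2 F407575)
theorem F512267 : act 3 n222082 = n220273 := d6_1 D222082 F502976 (iv3 F432378)
theorem F512268 : act 7 n222082 = n220271 := d13_2 F499926 D222082 F502968
theorem F512269 : act 1 n222082 = n217816 := d17_6 (iv1 D188145) F293924 D216863 (iv5 F491779) F491778 D222082 (iv5 D217816) F461098 F461097
def n222083 : Q := act 5 n198313
theorem D222083 : act 5 n198313 = n222083 := rfl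
theorem F512270 : act 3 n222083 = n218869 := d6_1 D222083 F495974 F473426
theorem F512271 : act 4 n222083 = n220456 := d17_4 F505891 (iv5 D198315) D198313 D222083 (iv5 D220456) F390727 D211838 (iv0 F501935) (iv4 F505890)
theorem F512272 : act 0 n215444 = n222083 := d19_0 (iv5 D222083) F436653 (iv3 D204645) (iv1 D124157) D124158 D204648 (iv3 F449377) (iv1 D208442) D208444 F449380 (iv3 F458356) (iv1 F458358) (iv5 F455743) (iv4 F480084) (iv3 F511496) F511500 F479429 F461126 (iv3 F480025)
def n222084 : Q := act 3 n198314
theorem D222084 : act 3 n198314 = n222084 := rfl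
theorem F512273 : act 2 n222084 = n209457 := d0_1 D222084 F474375 (iv2 F512218) F512219 F482822
theorem F512274 : act 4 n222084 = n209152 := d5_2 F499911 D222084 (iv3 F499398) F499399 (iv3 F499915)
theorem F512275 : act 6 n222084 = n214283 := d7_2 F407576 D222084 F474391
theorem F512276 : act 7 n222084 = n209462 := d8_2 F501728 D222084 (iv3 F501727)
def n222085 : Q := act 0 n198315
theorem D222085 : act 0 n198315 = n222085 := rfl
theorem F512277 : act 5 n222085 = n211316 := d17_3 (iv1 D198314) D198315 D222085 F461092 (iv5 F486323) F486326 (iv5 F387449) F499918 F499911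
theorem F512278 : act 4 n222085 = n220457 := d18_1 D222085 (iv1 D220457) (iv4 F502488) (iv5 D220176) F388621 F451816 (iv4 F436653) (iv0 D198313) D198315
theorem F512279 : act 1 n220271 = n222085 := d15_0 (iv0 D222085) (iv7 F501739) (iv2 F502965)
theorem F512280 : act 7 n222085 = n217816 := d15_2 F505892 F512279 (iv2 F505887)
def n222086 : Q := act 3 n198317
theorem D222086 : act 3 n198317 = n222086 := rfl
theorem F512281 : act 2 n222086 = n211416 := d0_1 D222086 (iv3 D211416) (iv2 F461146) F461147 F407584
theorem F512282 : act 5 n222086 = n211323 := d6_2 (iv5 F407585) D222086 (iv3 D211323)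
theorem F512283 : act 7 n222086 = n211394 := d8_2 (iv7 F407586) D222086 F461393
theorem F512284 : act 0 n222086 = n220461 := d20_4 D197933 F413116 F413113 D222086 F503884 (iv4 D198571) (iv1 D109575) D109576 F406230 (iv1 D197932)
def n222087 : Q := act 0 n198325
theorem D222087 : act 0 n198325 = n222087 := rfl
theorem F512285 : act 4 n222087 = n208828 := d18_1 D222087 (iv1 D208828) (iv4 F451024) (iv5 F451026) F398717 F410503 F462031 (iv0 F509872) F509874
theorem F512286 : act 6 n222087 = n209475 := d21_5 (iv5 D65929) D65926 (iv5 F404829) D198325 D222087 (iv5 F461485) (iv1 F461488) (iv5 D209469) F361157 F354216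
theorem F512287 : act 2 n218363 = n222087 := d15_3 (iv0 D222087) (iv0 F474328) (iv7 F493505)
theorem F512288 : act 1 n208830 = n222087 := d15_0 (iv0 D222087) (iv7 F407616) (iv2 F451033)
theorem F512289 : act 7 n222087 = n217985 := d15_2 F474329 F512288 F491557
def n222088 : Q := act 1 n198343
theorem D222088 : act 1 n198343 = n222088 := rfl
theorem F512290 : act 1 n222088 = n200212 := d15_1 D222088 (iv7 F415932) F415931
theorem F512291 : act 7 n222088 = n220756 := d15_2 F463418 D222088 F505338
theorem F512292 : act 5 n222088 = n215374 := d17_7 (iv1 D129062) F95271 (iv1 F358332) F358328 F202430 D198343 D222088 F479651 (iv4 D206642)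
theorem F512293 : act 4 n222088 = n208064 := d17_9 (iv1 F447718) F434972 (iv1 D187381) (iv5 F294901) F368599 (iv5 F405693) (iv0 F405694) D198343 D222088
theorem F512294 : act 3 n210719 = n222088 := d19_19 (iv1 D222088) (iv5 D198343) (iv4 F202430) (iv3 D125940) F161314 D105268 D195107 F437796 (iv1 D205768) (iv5 D126586) F93713 (iv3 D29978) (iv1 F38331) D50110 F79338 (iv3 F167713) (iv1 F333008) (iv5 F357933) D210719
theorem F512295 : act 2 n222088 = n220794 := d0_1 F512294 F505573 (iv2 F400837) (iv3 F457210) (iv2 F458556)
theorem F512296 : act 6 n222088 = n212194 := d7_2 F459619 F512294 F464709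
def n222089 : Q := act 5 n198344
theorem D222089 : act 5 n198344 = n222089 := rfl
theorem F512297 : act 2 n222089 = n220235 := d2_1 D222089 (iv5 F512188) F512185
theorem F512298 : act 3 n222089 = n198347 := d6_1 D222089 (iv5 D198347) (iv3 F407692)
theorem F512299 : act 4 n222089 = n220212 := d9_1 D222089 F502675 (iv4 D208376) (iv5 D134236) (iv4 F206887) D206438 (iv4 F502780) (iv5 D220234) F389123 D193192 (iv4 F395421) (iv5 D195014) D195013 F436363 F436362
theorem F512300 : act 6 n222089 = n220240 := d12_2 D198344 D222089 F502808 F407691 (iv5 D198343)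
theorem F512301 : act 7 n222089 = n220211 := d13_2 F512162 D222089 (iv5 F512160)
theorem F512302 : act 0 n222089 = n213788 := d17_2 F482738 D222089 F472094 (iv4 F459533) F276876 (iv0 F395410) (iv5 F477424) (iv0 F478381) (iv4 F482735)
theorem F512303 : act 1 n222089 = n210159 := d17_6 (iv1 F435513) F435510 F418137 F436363 F436362 D222089 F459526 (iv0 D210965) F223567
def n222090 : Q := act 6 n198345
theorem D222090 : act 6 n198345 = n222090 := rfl
theorem F512304 : act 2 n222090 = n200121 := d3_1 D222090 F415110 (iv2 F407693)
theorem F512305 : act 3 n222090 = n202355 := d7_1 D222090 F423745 (iv3 F407696)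
theorem F512306 : act 4 n222090 = n198346 := d10_1 D222090 (iv6 D198346) D198345
theorem F512307 : act 5 n222090 = n220091 := d12_1 D222090 F502070 (iv5 D196670) F351320 (iv5 F407694)
theorem F512308 : act 7 n222090 = n200118 := d14_2 (iv7 F407695) D222090 (iv6 F415097) (iv7 F416793) F416792
theorem F512309 : act 0 n222090 = n201949 := d21_4 F472506 F400790 (iv5 F407694) D222090 (iv6 F462729) F462727 F462726 (iv5 D196670) F351320 F472505
theorem F512310 : act 0 n201948 = n222090 := d21_4 (iv5 F429256) D216660 (iv5 F485358) F468830 (iv6 D222090) F407694 F472505 F472506 D221475 (iv1 F509208)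
def n222091 : Q := act 4 n198361
theorem D222091 : act 4 n198361 = n222091 := rfl
theorem F512311 : act 2 n222091 = n216104 := d1_1 D222091 F482975 F413652
theorem F512312 : act 6 n222091 = n214381 := d10_2 (iv6 F473940) D222091 F474884
theorem F512313 : act 7 n222091 = n219315 := d11_2 (iv7 F407760) D222091 F498262
theorem F512314 : act 5 n222091 = n200337 := d16_1 D222091 F416047 (iv5 F413898) (iv4 F414797) (iv5 D200052) F174997 D198363 (iv7 F413653) F413652
def n222092 : Q := act 4 n198363
theorem D222092 : act 4 n198363 = n222092 := rfl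
theorem F512315 : act 2 n222092 = n219315 := d1_1 D222092 F498262 (iv2 F407766)
theorem F512316 : act 3 n222092 = n219331 := d5_1 D222092 F498318 F444741 (iv4 F479303) F479302
theorem F512317 : act 5 n222092 = n200338 := d9_2 D198363 D222092 F416050 (iv5 F413719) F413718 (iv5 D126315) (iv4 F169205) D198361 D222091 F512314 F416047 (iv5 F413898) (iv4 F414797) (iv5 D200052) F174997
theorem F512318 : act 6 n222092 = n217496 := d10_2 (iv6 F407767) D222092 (iv4 D217496)
theorem F512319 : act 7 n222092 = n216104 := d11_2 F413653 D222092 F482975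
def n222093 : Q := act 3 n198372
theorem D222093 : act 3 n198372 = n222093 := rfl
theorem F512320 : act 6 n222093 = n215532 := d7_2 F504463 D222093 F504460
theorem F512321 : act 7 n222093 = n198475 := d8_2 (iv7 F461689) D222093 (iv3 D198475)
theorem F512322 : act 4 n222093 = n210742 := d20_6 (iv4 F402046) (iv1 F505757) F505753 F393857 D198372 D222093 F505597 F505594 F393696 D194563
theorem F512323 : act 0 n221180 = n222093 := d20_4 F226656 F162266 (iv4 F397294) (iv3 F507608) (iv3 D222093) (iv4 F472287) (iv1 F505110) F505106 (iv3 F393730) F393733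
theorem F512324 : act 5 n211781 = n222093 := d21_2 D144091 D211781 F512320 F480363 F474869 (iv5 F462101) F462102 (iv5 F428502) F443608 (iv1 D144090)
theorem F512325 : act 6 n211781 = n215910 := d12_2 (iv6 F512320) (iv5 F512324) (iv5 D215910) F334712 D215532
def n222094 : Q := act 5 n198372
theorem D222094 : act 5 n198372 = n222094 := rfl
theorem F512326 : act 2 n222094 = n198472 := d2_1 D222094 (iv5 D198472) (iv2 F461688)
theorem F512327 : act 3 n222094 = n211781 := d6_1 D222094 F512324 (iv3 D222093)
theorem F512328 : act 6 n222094 = n218861 := d12_2 F504463 D222094 F495951 (iv6 F408754) F504461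
theorem F512329 : act 7 n222094 = n198477 := d13_2 (iv7 F461689) D222094 (iv5 D198477)
theorem F512330 : act 0 n222094 = n219211 := d17_2 D198372 D222094 F497746 D220443 (iv5 F503809) (iv0 F497642) F497641 (iv0 D196602) (iv4 F169223)
def n222095 : Q := act 5 n198373
theorem D222095 : act 5 n198373 = n222095 := rfl
theorem F512331 : act 2 n222095 = n198477 := d2_1 D222095 (iv5 D198477) (iv2 F461685)
theorem F512332 : act 3 n222095 = n211980 := d6_1 D222095 F463821 F461682
theorem F512333 : act 6 n222095 = n211967 := d12_2 (iv6 F461680) D222095 (iv5 D211967) (iv6 F428535) (iv5 F461677)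
theorem F512334 : act 7 n222095 = n198472 := d13_2 (iv7 F461686) D222095 (iv5 D198472)
theorem F512335 : act 1 n222095 = n219211 := d17_6 F423688 (iv5 F505994) (iv1 F507301) (iv5 D221116) (iv4 F472282) D222095 F497746 (iv0 F500298) F463054
theorem F512336 : act 4 n218840 = n222095 := d18_7 F463812 F463809 F507116 F507114 (iv5 F495640) (iv4 F497672) (iv0 F497674) F512335 F497746
def n222096 : Q := act 0 n198374
theorem D222096 : act 0 n198374 = n222096 := rfl
theorem F512337 : act 5 n222096 = n219800 := d17_3 (iv1 D198373) D198374 D222096 F507128 F507126 (iv0 F482677) (iv5 D195401) D195400 (iv4 F472282)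
theorem F512338 : act 6 n222096 = n198721 := d21_5 F170702 (iv1 D109261) D109262 (iv6 F407799) D222096 (iv5 D198721) (iv1 D109899) D109900 F169911 D109909
theorem F512339 : act 1 n198482 = n222096 := d15_0 (iv0 D222096) F407800 (iv2 F408132)
theorem F512340 : act 2 n198479 = n222096 := d3_3 F512338 F497362 (iv6 F497364)
theorem F512341 : act 7 n198480 = n222096 := d15_2 (iv0 D198479) D198480 (iv2 F512340)
def n222097 : Q := act 1 n198374
theorem D222097 : act 1 n198374 = n222097 := rfl
theorem F512342 : act 1 n222097 = n198482 := d15_1 D222097 (iv7 D198482) (iv2 F407797)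
theorem F512343 : act 7 n222097 = n198479 := d15_2 (iv0 D222096) D222097 F512340
theorem F512344 : act 5 n200020 = n222097 := d21_0 (iv1 D222097) (iv5 D198374) (iv6 D109259) (iv1 F81572) D112019 F336220 D206407 (iv5 F452672) (iv6 F500274) F500276
theorem F512345 : act 2 n222097 = n198480 := d2_1 F512344 F463056 F463053
theorem F512346 : act 6 n222097 = n198499 := d12_2 D200020 F512344 (iv5 F447523) F447524 (iv5 D200019)
theorem F512347 : act 4 n198500 = n222097 := d10_3 F512346 (iv4 D198499) D198500
def n222098 : Q := act 4 n198374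
theorem D222098 : act 4 n198374 = n222098 := rfl
theorem F512348 : act 2 n222098 = n198481 := d1_1 D222098 (iv4 D198481) (iv2 F407797)
theorem F512349 : act 6 n222098 = n198379 := d10_2 (iv6 F407799) D222098 (iv4 D198379)
theorem F512350 : act 7 n222098 = n218843 := d11_2 (iv7 F407800) D222098 F495873
theorem F512351 : act 5 n222098 = n219129 := d16_1 D222098 F497326 (iv5 D213685) (iv4 F469888) F469892 F397189 (iv5 F408133) (iv7 D198482) (iv2 F407797)
theorem F512352 : act 1 n222098 = n217475 := d18_6 (iv1 F453196) F440305 F414459 (iv4 F169223) D198374 D222098 (iv4 D217475) (iv0 F453199) F453198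
theorem F512353 : act 1 n217399 = n222098 := d18_8 F497917 F497913 (iv1 F449882) (iv4 F488802) (iv5 F496066) F496065 D218892 F496073 F512351
def n222099 : Q := act 3 n198377
theorem D222099 : act 3 n198377 = n222099 := rfl
theorem F512354 : act 5 n222099 = n198698 := d6_2 (iv5 F407812) D222099 (iv3 D198698)
theorem F512355 : act 7 n222099 = n198501 := d8_2 F407815 D222099 (iv3 D198501)
theorem F512356 : act 4 n222099 = n206827 := d20_6 (iv4 F433328) (iv1 F476119) F476122 F381407 D198377 D222099 F497694 F497691 F381503 D190908
theorem F512357 : act 6 n206829 = n222099 := d10_0 F512356 F442334 D206829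
theorem F512358 : act 0 n218101 = n222099 := d18_0 F512356 F497694 F497691 F381504 (iv4 F302179) F359628 (iv4 F407801) (iv0 F407804) D218101
theorem F512359 : act 1 n218100 = n222099 := d15_0 (iv0 F512358) F492150 (iv2 F492145)
def n222100 : Q := act 4 n198377
theorem D222100 : act 4 n198377 = n222100 := rfl
theorem F512360 : act 2 n222100 = n198499 := d1_1 D222100 (iv4 D198499) F407814
theorem F512361 : act 3 n222100 = n219229 := d5_1 D222100 F499684 (iv3 F499682) (iv4 F512356) (iv3 D222099)
theorem F512362 : act 7 n222100 = n198502 := d11_2 F407815 D222100 (iv4 D198502)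
theorem F512363 : act 5 n222100 = n208984 := d16_1 D222100 (iv4 D208984) F217941 F203297 F203293 F202917 (iv5 F407818) F407817 F407814
theorem F512364 : act 0 n222100 = n211965 := d17_0 (iv5 D211965) (iv1 F447522) F447519 (iv4 D198731) F170702 F169224 (iv5 F169365) F407813 D222100
theorem F512365 : act 1 n222100 = n221057 := d18_6 (iv1 F169929) F110936 F168984 F169867 (iv5 F407812) D222100 (iv4 D221057) F396730 (iv5 D109921)
theorem F512366 : act 6 n198480 = n222100 := d12_0 F512363 F451704 F415846 (iv6 F463055) (iv5 F463056)
def n222101 : Q := act 6 n198377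
theorem D222101 : act 6 n198377 = n222101 := rfl
theorem F512367 : act 2 n222101 = n198500 := d3_1 D222101 (iv6 D198500) F407814
theorem F512368 : act 3 n222101 = n206829 := d7_1 D222101 F512357 (iv3 D222099)
theorem F512369 : act 4 n222101 = n198480 := d10_1 D222101 F512366 (iv4 D222100)
theorem F512370 : act 5 n222101 = n198573 := d12_1 D222101 (iv6 D198573) D198572 F408364 (iv5 F407812)
theorem F512371 : act 0 n218891 = n222101 := d21_4 (iv5 D211967) (iv1 F425938) F425930 D218891 (iv6 D222101) F407812 (iv1 F169863) (iv5 F169917) (iv6 F379154) (iv1 F463772)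
theorem F512372 : act 1 n215141 = n222101 := d17_6 F488650 F488646 (iv1 F497605) (iv5 D219183) D219182 (iv5 F497601) F512370 (iv0 F481158) F481157
def n222102 : Q := act 4 n198378
theorem D222102 : act 4 n198378 = n222102 := rfl
theorem F512373 : act 2 n222102 = n198502 := d1_1 D222102 (iv4 D198502) F407819
theorem F512374 : act 3 n222102 = n214650 := d5_1 D222102 F476219 (iv3 F482982) F482984 F408775
theorem F512375 : act 5 n222102 = n208056 := d9_2 (iv5 F407818) D222102 F447667 F328276 F179346 F97075 F169867 (iv5 F407812) D222100 F512363 (iv4 D208984) F217941 F203297 F203293 F202917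
theorem F512376 : act 6 n222102 = n198720 := d10_2 (iv6 F408776) D222102 (iv4 F434033)
theorem F512377 : act 7 n222102 = n198499 := d11_2 (iv7 F407817) D222102 (iv4 D198499)
theorem F512378 : act 0 n222102 = n221057 := d17_0 F507027 (iv1 F494982) F414699 (iv4 D198734) F169916 (iv0 D109260) D109262 D198378 D222102
theorem F512379 : act 1 n222102 = n211965 := d18_6 D109915 F169926 (iv1 F202915) F202917 (iv5 F407818) D222102 F463765 F379139 (iv5 D109917)
def n222103 : Q := act 3 n198379
theorem D222103 : act 3 n198379 = n222103 := rfl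
theorem F512380 : act 4 n222103 = n222067 := d5_2 D198379 D222103 F512180 F476122 F381407
theorem F512381 : act 5 n222103 = n218108 := d6_2 F451286 D222103 (iv3 F492178)
def n222104 : Q := act 6 n198383
theorem D222104 : act 6 n198383 = n222104 := rfl
theorem F512382 : act 2 n222104 = n198385 := d3_1 D222104 (iv6 D198385) D198383
theorem F512383 : act 3 n222104 = n221128 := d7_1 D222104 (iv6 D221128) (iv3 F407829)
theorem F512384 : act 4 n222104 = n210444 := d10_1 D222104 F457564 (iv4 F407830)
theorem F512385 : act 5 n222104 = n204334 := d12_1 D222104 (iv6 F501154) (iv5 F501152) F482692 F461033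
theorem F512386 : act 7 n222104 = n211492 := d14_2 (iv7 F407831) D222104 F461803 F403791 (iv6 F219377)
theorem F512387 : act 0 n222104 = n219867 := d21_4 (iv5 F423241) F461036 F461033 D222104 F500949 (iv5 F506973) (iv1 F507135) (iv5 D221082) (iv6 D195354) F223001
theorem F512388 : act 0 n211274 = n222104 := d21_4 D221043 F506959 D221735 F510580 (iv6 D222104) (iv5 F461033) F461035 F423251 F408738 (iv1 F408732)
def n222105 : Q := act 6 n198384
theorem D222105 : act 6 n198384 = n222105 := rfl
theorem F512389 : act 2 n222105 = n216056 := d3_1 D222105 F482692 F461032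
theorem F512390 : act 3 n222105 = n198386 := d7_1 D222105 (iv6 D198386) (iv3 F407834)
theorem F512391 : act 0 n222105 = n221780 := d21_10 F510792 (iv1 D221755) (iv5 D197302) (iv6 D108081) (iv1 F82526) D113093 (iv5 F219383) F336228 D198384 D222105
theorem F512392 : act 0 n210175 = n222105 := d21_4 F427510 D203257 (iv5 F460879) (iv6 F460883) (iv6 D222105) (iv5 D198384) F169248 D195558 F462545 F462544
def n222106 : Q := act 1 n198385
theorem D222106 : act 1 n198385 = n222106 := rfl
theorem F512393 : act 1 n222106 = n211492 := d15_1 D222106 (iv7 F512386) F512382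
theorem F512394 : act 7 n222106 = n219867 := d15_2 (iv0 F507308) D222106 (iv2 F507303)
theorem F512395 : act 5 n222106 = n214065 := d17_7 F385213 (iv5 D123524) D123522 D204320 (iv4 F500898) (iv5 F500901) D222106 (iv0 F500044) (iv4 D219685)
theorem F512396 : act 3 n221738 = n222106 := d19_19 (iv1 D222106) F500901 F500898 (iv3 F460376) F460374 F425093 (iv4 F308573) F308572 (iv1 F240484) (iv5 F242668) (iv4 F366816) (iv3 F407419) (iv1 F226614) (iv5 F386750) (iv4 F501237) F501236 (iv1 F431076) (iv5 F423891) (iv4 F510592)
theorem F512397 : act 6 n214847 = n222106 := d21_3 D195446 (iv1 F403713) D214847 (iv1 D222106) (iv6 D198385) D198384 F422703 (iv5 F422702) (iv6 F397006) (iv1 D195445)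
theorem F512398 : act 2 n222106 = n211274 := d3_1 F512397 (iv6 F510580) F510577
def n222107 : Q := act 6 n198389
theorem D222107 : act 6 n198389 = n222107 := rfl
theorem F512399 : act 3 n222107 = n198390 := d7_1 D222107 (iv6 D198390) D198389
theorem F512400 : act 4 n222107 = n205935 := d10_1 D222107 (iv6 D205935) (iv4 F407850)
theorem F512401 : act 0 n221157 = n222107 := d21_4 F174125 D115293 F397124 D221157 (iv6 D222107) F407847 (iv1 F228678) F347240 D143033 (iv1 F349446)
def n222108 : Q := act 7 n198390
theorem D222108 : act 7 n198390 = n222108 := rfl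
theorem F512402 : act 2 n222108 = n221537 := d4_1 D222108 (iv7 D221537) (iv2 F407852)
theorem F512403 : act 4 n222108 = n222055 := d11_1 D222108 (iv7 F512123) F509865
theorem F512404 : act 6 n222108 = n211940 := d14_1 D222108 (iv7 F463663) (iv6 D196593) F180744 D198390
theorem F512405 : act 1 n221143 = n222108 := d15_1 (iv0 F507424) (iv7 D222108) F407852
theorem F512406 : act 1 n222108 = n200199 := d15_1 F512405 (iv7 F507055) (iv2 F507421)
def n222109 : Q := act 1 n198392
theorem D222109 : act 1 n198392 = n222109 := rfl
theorem F512407 : act 1 n222109 = n198396 := d15_1 D222109 (iv7 D198396) (iv2 F407862)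
theorem F512408 : act 7 n222109 = n198393 := d15_2 (iv0 F484808) D222109 (iv2 F484809)
theorem F512409 : act 4 n222109 = n216026 := d18_7 D210367 F457225 F449615 F444192 F424743 (iv4 F407863) D222109 F482602 F407036
theorem F512410 : act 3 n203247 = n222109 := d20_3 F507172 (iv1 F507016) (iv4 F507018) (iv1 D222109) (iv3 F422559) F422560 D202047 (iv4 F464093) F464092 (iv1 F507175)
theorem F512411 : act 6 n221939 = n222109 := d21_3 (iv5 F401236) (iv1 F407033) (iv5 F511511) (iv1 D222109) (iv6 D198392) (iv5 F397074) (iv1 F401196) F401198 D196704 (iv1 F401542)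
theorem F512412 : act 2 n222109 = n198394 := d3_1 F512411 F407868 (iv2 F511509)
def n222110 : Q := act 5 n198392
theorem D222110 : act 5 n198392 = n222110 := rfl
theorem F512413 : act 2 n222110 = n198395 := d2_1 D222110 (iv5 D198395) (iv2 F407862)
theorem F512414 : act 7 n222110 = n213445 := d13_2 F407864 D222110 (iv5 D213445)
def n222111 : Q := act 3 n198393
theorem D222111 : act 3 n198393 = n222111 := rfl
theorem F512415 : act 2 n222111 = n203246 := d0_1 D222111 F427525 F392959 D216524 F484809
theorem F512416 : act 4 n222111 = n209844 := d5_2 (iv4 F460113) D222111 F473102 (iv4 F496696) F496695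
theorem F512417 : act 6 n222111 = n219732 := d7_2 (iv6 F504208) D222111 F500320
theorem F512418 : act 7 n222111 = n203247 := d8_2 F512408 D222111 F512410
theorem F512419 : act 0 n222111 = n203183 := d20_4 F454426 (iv1 F460112) (iv4 F460113) D222111 (iv3 D203183) F185717 F95992 (iv4 F109144) (iv3 F241392) F454430
theorem F512420 : act 0 n203248 = n222111 := d20_4 F222742 (iv1 F365348) (iv4 F386766) (iv3 F427528) (iv3 D222111) F460113 (iv1 D211104) (iv4 F460108) F460107 F365566
def n222112 : Q := act 5 n198393
theorem D222112 : act 5 n198393 = n222112 := rfl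
theorem F512421 : act 1 n222112 = n211996 := d17_6 D220823 F505721 F478928 F460114 (iv4 F460113) D222112 F463857 (iv0 F505121) F505119
def n222113 : Q := act 5 n198394
theorem D222113 : act 5 n198394 = n222113 := rfl
theorem F512422 : act 3 n222113 = n220714 := d6_1 D222113 F505127 F407867
theorem F512423 : act 0 n222113 = n211996 := d17_2 (iv1 F407865) D222113 F463857 F454518 F400710 F407572 F407570 F326608 D153764
def n222114 : Q := act 4 n198395
theorem D222114 : act 4 n198395 = n222114 := rfl
def n222115 : Q := act 7 n198395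
theorem D222115 : act 7 n198395 = n222115 := rfl
theorem F512424 : act 2 n222115 = n213445 := d4_1 D222115 (iv7 F512414) F512413
theorem F512425 : act 3 n222115 = n198399 := d8_1 D222115 (iv7 D198399) (iv3 F407869)
theorem F512426 : act 5 n222115 = n198396 := d13_1 D222115 (iv7 D198396) D198395
def n222116 : Q := act 1 n198419
theorem D222116 : act 1 n198419 = n222116 := rfl
theorem F512427 : act 1 n222116 = n211016 := d15_1 D222116 (iv7 F509644) F509641
theorem F512428 : act 7 n222116 = n220375 := d15_2 (iv0 F425790) D222116 F503481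
theorem F512429 : act 3 n219716 = n222116 := d20_3 (iv4 F327146) D192119 D219716 (iv1 D222116) F407969 (iv4 F396747) D221060 F507039 (iv3 F455320) F389959
theorem F512430 : act 6 n219726 = n222116 := d21_3 F440316 D219218 (iv5 F500283) (iv1 D222116) (iv6 D198419) (iv5 D109299) D109296 F362623 D209310 F453159
theorem F512431 : act 2 n222116 = n220386 := d3_1 F512430 (iv6 F503527) (iv2 F500282)
theorem F512432 : act 5 n222116 = n219282 := d12_1 F512430 (iv6 D219282) (iv5 F497341) F497776 (iv5 F500283)
theorem F512433 : act 4 n221599 = n222116 := d16_2 (iv4 F479723) (iv5 F509794) F512432 F498105 (iv5 F392881) F392880 (iv5 F412589) F412590 (iv2 F402099)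
def n222117 : Q := act 5 n198419
theorem D222117 : act 5 n198419 = n222117 := rfl
theorem F512434 : act 3 n222117 = n198422 := d6_1 D222117 (iv5 D198422) (iv3 F407969)
theorem F512435 : act 6 n222117 = n198420 := d12_2 D198419 D222117 (iv5 D198420) (iv6 D109300) D109299
theorem F512436 : act 7 n222117 = n220387 := d13_2 (iv7 F407971) D222117 (iv5 D220387)
theorem F512437 : act 1 n222117 = n218905 := d17_6 (iv1 F402162) F429390 (iv1 F429389) (iv5 F401442) (iv4 F407970) D222117 F496127 (iv0 F493536) F392894
def n222118 : Q := act 4 n198422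
theorem D222118 : act 4 n198422 = n222118 := rfl
theorem F512438 : act 2 n222118 = n211398 := d1_1 D222118 F461406 F414069
theorem F512439 : act 6 n222118 = n198427 := d10_2 (iv6 F407977) D222118 (iv4 D198427)
theorem F512440 : act 5 n222118 = n220803 := d16_5 F507051 (iv5 D221062) F396747 D198422 D222118 F505620 F504509 F504507 F504502
theorem F512441 : act 3 n222118 = n220804 := d19_3 (iv1 F397195) D198422 D222118 F505624 (iv5 D205102) F201794 F175924 F101156 D133385 F381683 F414090 (iv1 F414088) F407986 F169324 (iv3 F93056) (iv1 F93059) (iv5 F175993) F175992 (iv3 F226844)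
theorem F512442 : act 0 n222118 = n221991 := d21_4 F480238 (iv1 F453823) F453820 (iv6 F512439) (iv6 D221991) (iv5 D197942) F365874 (iv5 F198787) (iv6 F455791) (iv1 F480241)
def n222119 : Q := act 4 n198424
theorem D222119 : act 4 n198424 = n222119 := rfl
theorem F512443 : act 2 n222119 = n209735 := d1_1 D222119 F454790 F414083
theorem F512444 : act 5 n222119 = n209204 := d9_2 D198424 D222119 (iv4 D209204) (iv5 D135950) F99435 F93832 (iv4 F100446) D137274 D210023 F455799 F453971 F220055 (iv4 F104287) F104288 F169322
theorem F512445 : act 6 n222119 = n217132 := d10_2 F486553 D222119 F487581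
theorem F512446 : act 7 n222119 = n200945 := d11_2 (iv7 F407980) D222119 (iv4 D200945)
theorem F512447 : act 0 n222119 = n215504 := d18_2 (iv1 F455784) D222119 (iv4 D215504) F365860 (iv4 F202927) (iv0 F403919) (iv4 F403920) (iv0 F408388) (iv5 F455783)
theorem F512448 : act 1 n222119 = n215507 := d18_6 (iv1 F326040) (iv4 F326926) (iv1 F93033) F169322 D198424 D222119 (iv4 D215507) (iv0 F365445) (iv5 D109525)
def n222120 : Q := act 4 n198426
theorem D222120 : act 4 n198426 = n222120 := rfl
theorem F512449 : act 3 n222120 = n211841 := d5_1 D222120 (iv4 D211841) F226858 D144160 F407983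
theorem F512450 : act 6 n222120 = n214673 := d10_2 F497948 D222120 (iv4 F497946)
theorem F512451 : act 5 n222120 = n222084 := d16_1 D222120 F512274 (iv5 D209152) F218578 D205087 F434932 (iv5 F408861) (iv7 F414094) (iv2 F414096)
theorem F512452 : act 0 n222120 = n199921 := d17_0 (iv5 F454610) F454612 (iv5 F455799) (iv4 D210023) (iv5 D137274) (iv0 F100447) D109303 D198426 D222120
theorem F512453 : act 1 n222120 = n209511 := d18_6 (iv1 F408363) F408362 F203112 (iv4 F407762) (iv5 F407982) D222120 F453975 F378872 F378869
def n222121 : Q := act 0 n198429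
theorem D222121 : act 0 n198429 = n222121 := rfl
theorem F512454 : act 4 n222121 = n212614 := d18_3 D109306 D198429 D222121 (iv5 D212614) (iv4 D148053) (iv0 F230118) (iv4 F278747) (iv0 F347167) (iv5 D109309)
theorem F512455 : act 3 n222121 = n205261 := d20_5 D108861 F336489 (iv4 F459480) (iv3 F459481) D222121 (iv4 D205261) (iv1 F202147) F168631 (iv3 F167982) (iv1 F167986)
theorem F512456 : act 2 n218694 = n222121 := d15_3 (iv0 D222121) (iv0 F459230) (iv7 F495197)
theorem F512457 : act 1 n198431 = n222121 := d15_0 (iv0 D222121) (iv7 F414142) F414139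
theorem F512458 : act 7 n222121 = n221955 := d15_2 (iv0 F459231) F512457 F511592
theorem F512459 : act 6 n222121 = n215779 := d3_2 (iv6 F495196) F512456 F481539
def n222122 : Q := act 5 n198429
theorem D222122 : act 5 n198429 = n222122 := rfl
theorem F512460 : act 2 n222122 = n208834 := d2_1 D222122 F451050 (iv2 F407988)
theorem F512461 : act 3 n222122 = n221951 := d6_1 D222122 F511568 (iv3 F459481)
theorem F512462 : act 4 n222122 = n203026 := d9_1 D222122 F426686 F184146 F321228 D142455 (iv5 F347155) D198431 (iv5 F407993) (iv4 F426562) (iv5 D202993) F184032 F85455 (iv4 F110830) (iv5 F347158) D198429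
theorem F512463 : act 6 n222122 = n205018 := d12_2 (iv6 F407989) D222122 F434631 (iv6 F495152) (iv5 D218686)
theorem F512464 : act 7 n222122 = n203025 := d13_2 F414142 D222122 F426682
theorem F512465 : act 0 n222122 = n221943 := d17_2 F459230 D222122 (iv5 D221943) F405809 F225405 (iv0 F225347) (iv5 F393418) F476549 F476546
theorem F512466 : act 1 n222122 = n221942 := d17_6 (iv1 D109703) (iv5 F169357) F347149 (iv5 F347158) D198429 D222122 (iv5 D221942) (iv0 F405772) F169699
def n222123 : Q := act 5 n198432
theorem D222123 : act 5 n198432 = n222123 := rfl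
theorem F512467 : act 2 n222123 = n214876 := d2_1 D222123 (iv5 D214876) (iv2 F407994)
theorem F512468 : act 3 n222123 = n215518 := d6_1 D222123 (iv5 F482792) F482793
theorem F512469 : act 6 n222123 = n211444 := d12_2 D198432 D222123 F461780 (iv6 D211487) (iv5 F347155)
theorem F512470 : act 7 n222123 = n218791 := d13_2 F496890 D222123 (iv5 F496889)
theorem F512471 : act 4 n222123 = n199671 := d16_2 F482977 D222123 (iv5 D199671) F173121 (iv5 F408159) (iv4 F477576) (iv5 D214944) (iv7 F281183) D216105
theorem F512472 : act 0 n222123 = n198498 := d17_2 (iv1 F496896) D222123 F408159 (iv4 F173121) D199671 (iv0 F459675) F433471 F406250 (iv4 F496893)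
theorem F512473 : act 0 n215508 = n222123 := d21_10 (iv5 D222123) F474550 D198485 (iv6 F434873) (iv1 F477525) (iv6 F477526) F379223 (iv1 F365443) (iv5 F365444) D215508
def n222124 : Q := act 5 n198433
theorem D222124 : act 5 n198433 = n222124 := rfl
theorem F512474 : act 2 n222124 = n198437 := d2_1 D222124 (iv5 D198437) (iv2 F407995)
theorem F512475 : act 4 n222124 = n214847 := d9_1 D222124 (iv5 D214847) (iv4 D163076) (iv5 D78410) D78409 D163073 (iv4 F408000) (iv5 F408607) (iv4 F507002) (iv5 D221052) F396688 (iv5 F353959) (iv4 F353963) (iv5 F459470) F459469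
theorem F512476 : act 7 n222124 = n220582 := d13_2 F408751 D222124 (iv5 F504461)
theorem F512477 : act 1 n222124 = n220581 := d17_6 F365845 F363323 (iv1 F353991) (iv5 F459470) F459469 D222124 F504458 (iv0 F408937) (iv4 F408728)
theorem F512478 : act 1 n220583 = n222124 := d15_1 F504466 F512476 F504462
def n222125 : Q := act 6 n198435
theorem D222125 : act 6 n198435 = n222125 := rfl
theorem F512479 : act 2 n222125 = n205137 := d3_1 D222125 F435101 F408760
theorem F512480 : act 3 n222125 = n203870 := d7_1 D222125 (iv6 F445013) (iv3 F430057)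
theorem F512481 : act 4 n222125 = n205109 := d10_1 D222125 (iv6 F481350) F481352
theorem F512482 : act 5 n222125 = n221353 := d12_1 D222125 F508553 F489108 F414567 (iv5 F408742)
theorem F512483 : act 7 n222125 = n205132 := d14_2 F408743 D222125 F435093 (iv7 D198616) (iv6 F408525)
theorem F512484 : act 0 n222125 = n205136 := d21_10 (iv5 F486335) F498346 F498345 (iv6 F408622) (iv1 F380582) (iv6 F408726) (iv5 D198655) (iv1 F408529) (iv5 F408742) D222125
theorem F512485 : act 0 n205135 = n222125 := d21_4 (iv5 F482204) (iv1 F482206) F414675 F435097 (iv6 D222125) F408742 (iv1 F408528) D198658 (iv6 F408744) F414583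
def n222126 : Q := act 0 n198437
theorem D222126 : act 0 n198437 = n222126 := rfl
theorem F512486 : act 5 n222126 = n199971 := d17_3 F408272 D198437 D222126 (iv4 F434862) F434877 D205075 (iv5 F480395) (iv0 F480398) (iv4 D198661)
theorem F512487 : act 2 n220583 = n222126 := d15_3 (iv0 D222126) (iv0 F414303) D220583
theorem F512488 : act 1 n220582 = n222126 := d15_0 (iv0 D222126) F408610 (iv2 F504462)
theorem F512489 : act 7 n222126 = n220581 := d15_2 D220582 F512488 F504456
theorem F512490 : act 3 n214742 = n222126 := d19_19 (iv1 F512488) (iv5 F504461) F408753 (iv3 D174144) (iv1 F271578) F271576 (iv4 D83297) (iv3 F128370) (iv1 F358101) F147000 (iv4 F160251) (iv3 F394562) F402542 (iv5 D196982) (iv4 D107507) (iv3 F165848) D196975 (iv5 F505655) F505654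
theorem F512491 : act 6 n222126 = n220767 := d7_2 (iv6 F476617) F512490 (iv3 D220767)
def n222127 : Q := act 6 n198446
theorem D222127 : act 6 n198446 = n222127 := rfl
theorem F512492 : act 2 n222127 = n221180 := d3_1 D222127 (iv6 D221180) (iv2 F408033)
theorem F512493 : act 4 n222127 = n202720 := d10_1 D222127 (iv6 D202720) (iv4 F408034)
theorem F512494 : act 0 n198475 = n222127 := d20_1 F473341 F512493 F425277 (iv1 F482070) (iv3 D215914) (iv4 D178481) (iv1 F347886) F350655 (iv3 F458672) (iv1 F473344)
def n222128 : Q := act 5 n198451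
theorem D222128 : act 5 n198451 = n222128 := rfl
theorem F512495 : act 2 n222128 = n198455 := d2_1 D222128 (iv5 D198455) (iv2 F408062)
theorem F512496 : act 4 n222128 = n220938 := d9_1 D222128 F506376 (iv4 D213073) (iv5 D152365) (iv4 F340920) (iv5 F353489) (iv4 F340639) D215500 (iv4 F506382) F506383 (iv4 D195862) (iv5 D106378) D106377 F346412 (iv4 F408063)
theorem F512497 : act 7 n222128 = n215910 := d13_2 F408065 D222128 (iv5 D215910)
theorem F512498 : act 0 n222128 = n215904 := d17_2 F408064 D222128 (iv5 D215904) (iv4 D178186) F335987 (iv0 F336455) F321799 (iv0 F336468) (iv4 F373679)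
theorem F512499 : act 1 n222128 = n215903 := d17_6 (iv1 D194958) (iv5 F352028) F352030 F346412 (iv4 F408063) D222128 (iv5 D215903) D215902 F482000
def n222129 : Q := act 5 n198454
theorem D222129 : act 5 n198454 = n222129 := rfl
theorem F512500 : act 3 n222129 = n198458 := d6_1 D222129 (iv5 D198458) (iv3 F408078)
theorem F512501 : act 6 n222129 = n198455 := d12_2 D198454 D222129 (iv5 D198455) (iv6 D109319) D109318
def n222130 : Q := act 0 n198458
theorem D222130 : act 0 n198458 = n222130 := rfl
theorem F512502 : act 4 n222130 = n221991 := d20_2 (iv4 F509038) D222130 F511792 F406257 (iv3 D190159) (iv4 D95670) D95668 D190152 D218830 F509034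
theorem F512503 : act 6 n222130 = n221990 := d21_5 (iv5 D174698) F326035 D109321 (iv6 F408081) D222130 F511790 (iv1 F476604) F408773 (iv6 D198569) (iv1 F365988)
theorem F512504 : act 5 n222130 = n220414 := d21_8 F408607 (iv1 F408606) (iv5 D198611) (iv6 D109695) (iv1 F79987) D109320 D198458 D222130 (iv6 F504465) (iv1 F504466)
theorem F512505 : act 3 n220113 = n222130 := d6_3 F512504 F503665 (iv5 F502181)
theorem F512506 : act 7 n220413 = n222130 := d13_0 F512504 (iv7 D220414) D220413
def n222131 : Q := act 7 n198458
theorem D222131 : act 7 n198458 = n222131 := rfl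
theorem F512507 : act 5 n222131 = n198459 := d13_1 D222131 (iv7 D198459) D198458
theorem F512508 : act 1 n220413 = n222131 := d15_1 (iv0 F503664) (iv7 D222131) (iv2 F408699)
def n222132 : Q := act 0 n198461
theorem D222132 : act 0 n198461 = n222132 := rfl
theorem F512509 : act 5 n222132 = n209462 := d17_1 D222132 (iv1 F454601) (iv5 F480251) (iv4 D215504) F365860 (iv0 F246408) (iv5 F408082) (iv0 D198460) D198461
theorem F512510 : act 4 n222132 = n199907 := d18_1 D222132 (iv1 F414088) (iv4 F453815) (iv5 D209469) (iv4 D136500) D136499 D209465 F453981 F453979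
theorem F512511 : act 1 n198563 = n222132 := d15_0 (iv0 D222132) (iv7 F453976) F453974
theorem F512512 : act 6 n219236 = n222132 := d21_3 F464254 (iv1 F464219) (iv5 F497876) (iv1 F512511) F496244 (iv5 F498629) (iv1 D219388) (iv5 F383157) F381829 (iv1 F464256)
theorem F512513 : act 2 n222132 = n219254 := d3_1 F512512 (iv6 D219254) (iv2 F497873)
theorem F512514 : act 7 n222132 = n222120 := d14_2 (iv7 F497875) F512512 F512450 F476333 (iv6 F434869)
def n222133 : Q := act 1 n198461
theorem D222133 : act 1 n198461 = n222133 := rfl
theorem F512515 : act 1 n222133 = n198563 := d15_1 D222133 (iv7 F414161) F414160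
theorem F512516 : act 7 n222133 = n219254 := d15_2 (iv0 D222132) D222133 (iv2 F512513)
theorem F512517 : act 5 n222133 = n209457 := d17_7 (iv1 F246403) (iv5 D156668) F176832 (iv5 F219659) (iv4 F453978) F453979 D222133 (iv0 F454600) (iv4 D209677)
theorem F512518 : act 4 n222133 = n199908 := d17_9 (iv1 D199908) (iv5 D111977) F82848 D113649 D200945 (iv5 F453794) F453981 F453979 D222133
theorem F512519 : act 3 n218866 = n222133 := d20_9 (iv4 D198461) D198460 (iv4 F477537) F477536 F400345 F400341 F379063 D190199 D218866 (iv1 D222133)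
theorem F512520 : act 6 n205071 = n222133 := d21_9 (iv5 F453979) (iv1 F453981) F453794 (iv6 F497891) F497893 (iv6 D216107) (iv5 D180648) (iv1 F280701) (iv5 F434864) (iv1 D222133)
theorem F512521 : act 2 n222133 = n222120 := d3_1 F512520 F512450 (iv2 F476335)
def n222134 : Q := act 0 n198472
theorem D222134 : act 0 n198472 = n222134 := rfl
theorem F512522 : act 4 n222134 = n217363 := d18_1 D222134 (iv1 D217363) (iv4 F488582) F488583 F453180 F401213 F401210 F393850 D198472
theorem F512523 : act 3 n222134 = n218870 := d20_5 D211858 F496246 F496242 (iv3 F408611) D222134 F505558 F505556 F491935 F491865 (iv1 D211857)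
theorem F512524 : act 5 n222134 = n220442 := d21_2 D198472 D222134 F503803 (iv1 D198457) (iv6 D109320) (iv5 D50447) (iv1 D24588) D24590 D50456 D109346
theorem F512525 : act 1 n198477 = n222134 := d15_0 (iv0 D222134) (iv7 F512334) F512331
theorem F512526 : act 2 n219211 = n222134 := d2_3 F512524 (iv2 D220442) (iv5 F497746)
theorem F512527 : act 6 n218868 = n222134 := d7_0 F512523 (iv6 D218870) D218868
theorem F512528 : act 0 n218868 = n219150 := d21_4 (iv5 F512344) (iv1 F503804) (iv5 F512524) (iv6 F512527) (iv6 D219150) (iv5 D190863) (iv1 F149588) D190172 (iv6 F408134) (iv1 F512342)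
def n222135 : Q := act 1 n198472
theorem D222135 : act 1 n198472 = n222135 := rfl
theorem F512529 : act 1 n222135 = n198477 := d15_1 D222135 (iv7 F512329) F512326
theorem F512530 : act 7 n222135 = n219211 := d15_2 (iv0 D222134) D222135 F512526
theorem F512531 : act 5 n222135 = n219724 := d17_7 (iv1 D221081) D221082 F507136 F453227 (iv4 D198471) D198472 D222135 (iv0 F500685) F507128
theorem F512532 : act 4 n222135 = n217362 := d17_9 F495542 (iv5 F497332) (iv1 F497970) (iv5 F497975) F495873 (iv5 F393847) F393850 D198472 D222135
theorem F512533 : act 3 n217410 = n222135 := d19_19 (iv1 D222135) (iv5 D198472) D198471 F453226 F453225 (iv5 F390574) (iv4 D193654) (iv3 D102165) (iv1 F74632) F64379 (iv4 D41739) (iv3 F64362) D89365 F357146 D101996 (iv3 F387972) F393741 F393737 (iv4 F488782)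
theorem F512534 : act 6 n218711 = n222135 := d21_3 F495867 (iv1 F481161) D218711 (iv1 D222135) (iv6 F408609) (iv5 D198562) D198559 (iv5 F496048) (iv6 F497038) F497041
def n222136 : Q := act 4 n198472
theorem D222136 : act 4 n198472 = n222136 := rfl
theorem F512535 : act 6 n222136 = n218827 := d10_2 F408609 D222136 F495820
theorem F512536 : act 7 n222136 = n218840 := d11_2 F512334 D222136 F512336
theorem F512537 : act 1 n218868 = n222136 := d15_1 (iv0 F512528) F512536 (iv2 F497440)
def n222137 : Q := act 2 n198475
theorem D222137 : act 2 n198475 = n222137 := rfl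
theorem F512538 : act 3 n222137 = n203646 := d0_2 D198475 D222137 (iv2 F461681) F461682 F461685
theorem F512539 : act 4 n222137 = n202415 := d1_2 F473341 D222137 (iv2 F473340)
theorem F512540 : act 6 n222137 = n200340 := d3_2 (iv6 F461692) D222137 F425548
theorem F512541 : act 5 n222137 = n211782 := d21_6 (iv5 F365099) (iv1 F365026) (iv5 F365024) (iv6 F416059) (iv1 F416062) (iv6 F512540) (iv1 D211782) (iv5 D144091) (iv6 D67513) D67509
theorem F512542 : act 0 n222137 = n221180 := d20_7 (iv4 D201851) F179276 (iv4 F245428) (iv3 F366539) F423824 (iv3 F423914) (iv4 F512539) (iv4 F509596) F509595 (iv1 F422063)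
def n222138 : Q := act 5 n198475
theorem D222138 : act 5 n198475 = n222138 := rfl
theorem F512543 : act 2 n222138 = n211782 := d2_1 D222138 (iv5 F512541) (iv2 D222137)
theorem F512544 : act 3 n222138 = n198477 := d6_1 D222138 (iv5 D198477) D198475
theorem F512545 : act 7 n222138 = n211781 := d13_2 F512321 D222138 F512324
theorem F512546 : act 0 n222138 = n211769 := d21_1 D222138 (iv5 D211769) (iv6 D144084) (iv1 F182868) D202791 F425602 F381267 (iv5 F401169) D221533 F509467
theorem F512547 : act 0 n211784 = n222138 := d21_1 (iv5 F463066) (iv5 D222138) F461692 (iv1 F425547) (iv6 D200318) F175947 (iv1 F175966) (iv5 F245141) D207165 F443605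
def n222139 : Q := act 5 n198478
theorem D222139 : act 5 n198478 = n222139 := rfl
theorem F512548 : act 2 n222139 = n203491 := d2_1 D222139 (iv5 F461677) (iv2 F461690)
theorem F512549 : act 3 n222139 = n211878 := d6_1 D222139 F463368 F461691
theorem F512550 : act 4 n222139 = n215722 := d9_1 D222139 (iv5 D215722) F276448 F384819 (iv4 F384818) (iv5 F460900) F461700 F461695 F407997 (iv5 F432076) F432077 (iv5 F346705) D192377 D219867 (iv4 F500950)
theorem F512551 : act 6 n222139 = n202864 := d12_2 D198478 D222139 (iv5 F497435) F497439 (iv5 D198477)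
theorem F512552 : act 7 n222139 = n203490 := d16_8 F407997 (iv5 F432076) F432077 (iv5 F346705) D192377 D219867 (iv4 F500950) D222139 (iv2 F428531)
theorem F512553 : act 0 n222139 = n203266 := d17_2 F461694 D222139 F427574 F425224 F427576 F432124 (iv5 F507565) (iv0 F507567) F434520
theorem F512554 : act 1 n222139 = n203487 := d17_6 D210564 F458055 F432107 D219867 (iv4 F500950) D222139 F428516 (iv0 D198439) (iv4 F222610)
def n222140 : Q := act 7 n198478
theorem D222140 : act 7 n198478 = n222140 := rfl
theorem F512555 : act 2 n222140 = n211472 := d4_1 D222140 F461699 (iv2 F461690)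
theorem F512556 : act 3 n222140 = n200339 := d8_1 D222140 F425549 F461691
theorem F512557 : act 4 n222140 = n222106 := d11_1 D222140 F512394 (iv4 F500950)
theorem F512558 : act 5 n222140 = n203490 := d13_1 D222140 (iv7 F512552) (iv5 D222139)
theorem F512559 : act 6 n222140 = n222124 := d14_1 D222140 F512476 F504463 F461689 D198478
theorem F512560 : act 1 n210075 = n222140 := d15_1 (iv0 F461679) (iv7 D222140) F461690
theorem F512561 : act 1 n222140 = n202709 := d15_1 F512560 (iv7 F434519) (iv2 F456065)
def n222141 : Q := act 4 n198479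
theorem D222141 : act 4 n198479 = n222141 := rfl
theorem F512562 : act 6 n222141 = n215503 := d10_2 (iv6 F497364) D222141 (iv4 F497361)
theorem F512563 : act 7 n222141 = n198500 := d11_2 F512343 D222141 F512347
theorem F512564 : act 0 n222141 = n218891 := d17_0 F496066 F497443 (iv5 F497442) F497441 (iv5 D198477) F393849 F393847 F408135 D222141
theorem F512565 : act 1 n222141 = n215141 := d18_6 F443535 (iv4 F403907) F463723 (iv4 F463809) (iv5 F463813) D222141 F478557 (iv0 F453113) F443534
theorem F512566 : act 3 n215505 = n222141 := d20_5 (iv4 F480120) F480122 F480292 (iv3 F480291) F480255 (iv4 D222141) (iv1 F408135) (iv4 F495873) F495872 (iv1 F480161)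
def n222142 : Q := act 0 n198481
theorem D222142 : act 0 n198481 = n222142 := rfl
theorem F512567 : act 5 n222142 = n220293 := d17_3 D219256 F497966 D222142 (iv4 D220293) (iv5 D193301) (iv0 F389419) F497596 (iv0 F497597) (iv4 F381849)
theorem F512568 : act 4 n222142 = n217436 := d18_3 (iv1 D198480) D198481 D222142 F488867 F438753 (iv0 F503807) (iv4 D220443) (iv0 F500298) (iv5 F463056)
theorem F512569 : act 3 n222142 = n220873 := d20_5 (iv4 D187263) F353186 D191035 (iv3 F408130) D222142 F506004 F439582 (iv4 F462961) F488709 (iv1 D217393)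
theorem F512570 : act 6 n222142 = n217397 := d21_5 (iv5 F451262) (iv1 F451268) (iv5 D198507) (iv6 F408131) D222142 F488727 (iv1 F394864) D214809 (iv6 F476959) F408926
theorem F512571 : act 2 n217399 = n222142 := d15_3 (iv0 D222142) (iv0 F451276) (iv7 F488735)
theorem F512572 : act 7 n222142 = n217475 := d4_2 (iv7 F488735) F512571 F489050
theorem F512573 : act 1 n218843 = n222142 := d15_1 (iv0 F495874) F512572 F489050
def n222143 : Q := act 7 n198481
theorem D222143 : act 7 n198481 = n222143 := rfl
theorem F512574 : act 2 n222143 = n218843 := d4_1 D222143 (iv7 F512350) F512348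
theorem F512575 : act 3 n222143 = n217437 := d8_1 D222143 F488873 (iv3 F408130)
theorem F512576 : act 4 n222143 = n198482 := d11_1 D222143 (iv7 D198482) D198481
theorem F512577 : act 5 n222143 = n219130 := d13_1 D222143 F497969 F497966
theorem F512578 : act 6 n222143 = n210453 := d14_1 D222143 F457601 F425798 (iv7 D198508) (iv6 F408131)
theorem F512579 : act 1 n217475 = n222143 := d15_1 F512352 (iv7 D222143) (iv2 F512348)
theorem F512580 : act 1 n222143 = n217399 := d15_1 F512579 F488735 (iv2 F489050)
def n222144 : Q := act 5 n198484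
theorem D222144 : act 5 n198484 = n222144 := rfl
theorem F512581 : act 2 n222144 = n198485 := d2_1 D222144 (iv5 D198485) D198484
theorem F512582 : act 4 n222144 = n214678 := d9_1 D222144 (iv5 F476358) (iv4 F476601) (iv5 F511790) (iv4 D221990) (iv5 D197942) D197941 (iv5 F409008) (iv4 F476327) (iv5 D214671) (iv4 F262404) D215135 F478538 F476184 (iv4 F408136)
theorem F512583 : act 6 n222144 = n214677 := d12_2 F413832 D222144 F476353 D215691 (iv5 F481139)
theorem F512584 : act 1 n222144 = n214739 := d17_6 F358384 D160444 D214642 F476184 (iv4 F408136) D222144 (iv5 D214739) (iv0 F358156) (iv4 F173121)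
def n222145 : Q := act 5 n198490
theorem D222145 : act 5 n198490 = n222145 := rfl
theorem F512585 : act 2 n222145 = n198492 := d2_1 D222145 (iv5 D198492) D198490
theorem F512586 : act 6 n222145 = n218638 := d12_2 (iv6 F477812) D222145 (iv5 D218638) (iv6 F473762) (iv5 F477807)
theorem F512587 : act 4 n222145 = n220160 := d16_2 F444303 D222145 (iv5 D220160) F388551 (iv5 F338484) (iv4 F414955) (iv5 D200084) (iv7 F408142) (iv2 F444299)
def n222146 : Q := act 0 n198492
theorem D222146 : act 0 n198492 = n222146 := rfl
theorem F512588 : act 5 n222146 = n210291 := d17_3 F408144 D198492 D222146 (iv4 D210291) F359071 F359074 (iv5 F322701) (iv0 F338707) D134624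
theorem F512589 : act 3 n222146 = n221877 := d20_5 D213838 F472319 (iv4 D198495) (iv3 F408148) D222146 F511182 (iv1 F495554) F495555 F476445 F407823
theorem F512590 : act 6 n221876 = n222146 := d7_0 F512589 (iv6 D221877) (iv3 F511181)
theorem F512591 : act 4 n209606 = n222146 := d16_2 F453571 D209606 F512588 (iv4 D210291) F359071 F380047 F453584 F453582 F453575
def n222147 : Q := act 1 n198492
theorem D222147 : act 1 n198492 = n222147 := rfl
theorem F512592 : act 5 n222147 = n199957 := d17_7 F433838 D221682 F510275 (iv5 F444294) (iv4 D198491) D198492 D222147 (iv0 F414337) (iv4 F433836)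
theorem F512593 : act 3 n214706 = n222147 := d19_19 (iv1 D222147) (iv5 D198492) D198491 F408141 F175054 D198907 (iv4 F484117) (iv3 D216384) F363998 (iv5 F437895) F437894 (iv3 F377694) (iv1 F377697) (iv5 F443292) F443291 F215065 D133653 D208184 (iv4 F476463)
theorem F512594 : act 6 n222147 = n218760 := d7_2 (iv6 F476462) F512593 (iv3 D218760)
theorem F512595 : act 4 n222147 = n209609 := d20_6 (iv4 F122814) F122816 (iv4 F119642) (iv3 F257516) F476464 F512593 (iv1 F478152) (iv4 D215064) F261252 F248944
def n222148 : Q := act 4 n198492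
theorem D222148 : act 4 n198492 = n222148 := rfl
theorem F512596 : act 2 n222148 = n220160 := d1_1 D222148 (iv4 F512587) F512585
theorem F512597 : act 5 n222148 = n210296 := d16_3 (iv4 D198491) D198492 D222148 F456900 F388389 (iv4 F438639) F438640 (iv7 F444301) F444299
theorem F512598 : act 3 n222148 = n219630 := d19_3 F408144 D198492 D222148 (iv1 F499756) (iv5 F498029) (iv4 D217019) F367558 (iv1 F367086) (iv5 D186285) (iv4 F294789) F145333 (iv1 F294539) (iv5 F369388) (iv4 F382500) (iv3 F382501) D207545 (iv5 F477180) (iv4 D214860) (iv3 F338710)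
def n222149 : Q := act 6 n198492
theorem D222149 : act 6 n198492 = n222149 := rfl
theorem F512599 : act 2 n222149 = n218638 := d3_1 D222149 (iv6 F512586) F512585
theorem F512600 : act 3 n222149 = n198496 := d7_1 D222149 (iv6 D198496) (iv3 F408148)
theorem F512601 : act 5 n222149 = n218636 := d12_1 D222149 F494905 F457580 (iv6 D198493) D198492
theorem F512602 : act 0 n211775 = n222149 := d17_2 F416422 D211775 F512601 (iv4 D218636) F377546 F250157 D176822 F382066 D176914
def n222150 : Q := act 3 n198495
theorem D222150 : act 3 n198495 = n222150 := rfl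
theorem F512603 : act 2 n222150 = n219314 := d0_1 D222150 F498259 (iv2 F476337) F476338 F409010
theorem F512604 : act 4 n222150 = n219630 := d5_2 D198495 D222150 (iv3 F512598) (iv4 D222148) F408148
theorem F512605 : act 5 n222150 = n217496 := d6_2 F451259 D222150 F489168
theorem F512606 : act 7 n222150 = n219316 := d8_2 F409017 D222150 F498264
def n222151 : Q := act 6 n198495
theorem D222151 : act 6 n198495 = n222151 := rfl
theorem F512607 : act 4 n222151 = n198496 := d10_1 D222151 (iv6 D198496) D198495
theorem F512608 : act 7 n222151 = n198496 := d14_2 F409017 D222151 (iv6 D198496) F170663 (iv6 F409019)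
theorem F512609 : act 5 n222151 = n218714 := d21_6 F480246 F495134 (iv5 F495957) F495958 F472319 D222151 (iv1 D218714) D218716 (iv6 F495294) F480248
theorem F512610 : act 0 n215699 = n222151 := d17_0 F512609 (iv1 D218714) D218716 F495293 F488967 F378381 D218069 F495326 (iv4 F495327)
theorem F512611 : act 1 n218711 = n222151 := d17_6 (iv1 D95512) (iv5 D44616) D44614 D95505 D189962 D218711 F512609 F495284 (iv4 D189968)
def n222152 : Q := act 4 n198497
theorem D222152 : act 4 n198497 = n222152 := rfl
theorem F512612 : act 3 n222152 = n216126 := d5_1 D222152 F483088 (iv3 D210447) D210448 F457581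
theorem F512613 : act 6 n222152 = n216125 := d10_2 F497029 D222152 (iv4 F497027)
theorem F512614 : act 0 n222152 = n219315 := d17_0 F498263 (iv1 F481042) F408962 (iv4 D198633) (iv5 D109706) (iv0 F166164) D112525 (iv0 F408157) D222152
theorem F512615 : act 1 n222152 = n216104 := d18_6 D199872 (iv4 F414797) F414796 F408153 D198497 D222152 F482975 (iv0 F413906) (iv5 D199873)
def n222153 : Q := act 2 n198498
theorem D222153 : act 2 n198498 = n222153 := rfl
theorem F512616 : act 5 n222153 = n198726 := d2_2 (iv5 F408159) D222153 (iv2 D198726)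
theorem F512617 : act 7 n222153 = n215508 := d4_2 (iv7 F408777) D222153 F480262
theorem F512618 : act 1 n222153 = n214876 := d15_0 (iv0 F477236) (iv7 F408777) D222153
theorem F512619 : act 1 n218791 = n222153 := d15_0 F512618 F477234 (iv2 F495670)
def n222154 : Q := act 6 n198498
theorem D222154 : act 6 n198498 = n222154 := rfl
theorem F512620 : act 3 n222154 = n198500 := d7_1 D222154 (iv6 D198500) D198498
theorem F512621 : act 5 n222154 = n222141 := d12_1 D222154 F512562 F480246 (iv6 D198727) (iv5 F408159)
theorem F512622 : act 7 n222154 = n215505 := d14_2 (iv7 F408777) D222154 (iv6 D215505) (iv7 F408356) D198569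
theorem F512623 : act 1 n215696 = n222154 := d15_1 (iv0 F481158) F512622 F480253
def n222155 : Q := act 0 n198499
theorem D222155 : act 0 n198499 = n222155 := rfl
theorem F512624 : act 5 n222155 = n201882 := d17_1 D222155 (iv1 F451261) F451259 (iv4 D198495) (iv5 D109358) F169234 (iv5 F381389) (iv0 F381391) D198499
theorem F512625 : act 4 n222155 = n217359 := d18_1 D222155 F488577 D217402 F488746 F410012 (iv0 F399117) (iv4 F399118) (iv0 F447525) F447523
theorem F512626 : act 6 n222155 = n202865 := d21_5 F512531 F500276 F512344 F512346 D222155 (iv5 D202865) D202864 (iv5 F497435) F497439 (iv1 F512529)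
theorem F512627 : act 1 n198502 = n222155 := d15_0 (iv0 D222155) (iv7 F512377) F512373
theorem F512628 : act 2 n211965 = n222155 := d3_3 F512626 F425924 (iv6 F463764)
theorem F512629 : act 3 n220735 = n222155 := d7_3 F512626 F425925 D220735
theorem F512630 : act 7 n221057 = n222155 := d15_2 (iv0 F512364) F512365 (iv2 F512628)
def n222156 : Q := act 1 n198499
theorem D222156 : act 1 n198499 = n222156 := rfl
theorem F512631 : act 1 n222156 = n198502 := d15_1 D222156 (iv7 F512362) F512360
theorem F512632 : act 7 n222156 = n211965 := d15_2 (iv0 D222155) D222156 F512628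
theorem F512633 : act 5 n222156 = n211966 := d17_7 (iv1 F359558) (iv5 F359554) (iv1 F179357) (iv5 F214065) D208030 F447523 D222156 F463769 (iv4 D208887)
theorem F512634 : act 4 n222156 = n199895 := d17_9 F414026 (iv5 D198701) (iv1 F244997) (iv5 F408172) F408174 F381445 (iv0 F447525) F447523 D222156
theorem F512635 : act 6 n215141 = n222156 := d21_3 F497442 (iv1 F497603) (iv5 F497601) (iv1 D222156) (iv6 F512346) (iv5 F512344) (iv1 F503804) (iv5 F512524) (iv6 F512527) F512528
theorem F512636 : act 3 n222156 = n215144 := d7_1 F512635 (iv6 D215144) D215141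
theorem F512637 : act 2 n221057 = n222156 := d1_3 F512634 F414024 D221057
def n222157 : Q := act 0 n198500
theorem D222157 : act 0 n198500 = n222157 := rfl
theorem F512638 : act 5 n222157 = n217342 := d17_3 F480255 F480254 D222157 (iv4 F497594) (iv5 F497596) (iv0 F386775) (iv5 F433467) (iv0 D204751) (iv4 F433466)
theorem F512639 : act 4 n222157 = n209316 := d18_3 (iv1 F512342) (iv4 F512347) D222157 (iv5 D209316) F219363 D195400 (iv4 F472282) F407796 (iv5 F408133)
theorem F512640 : act 6 n222157 = n221057 := d21_5 (iv5 D50686) D50684 (iv5 F173734) D198500 D222157 F507027 (iv1 F494982) F414699 F409019 (iv1 D109910)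
theorem F512641 : act 2 n215141 = n222157 := d3_3 F512640 F512637 (iv6 F512635)
theorem F512642 : act 7 n218891 = n222157 := d14_0 F512640 F512630 F512626 (iv7 F425927) D218891
theorem F512643 : act 3 n222157 = n217343 := d8_1 F512642 (iv7 F488804) (iv3 F496064)
def n222158 : Q := act 1 n198500
theorem D222158 : act 1 n198500 = n222158 := rfl
theorem F512644 : act 7 n222158 = n215141 := d15_2 (iv0 D222157) D222158 F512641
theorem F512645 : act 4 n222158 = n217358 := d18_7 F392774 (iv4 F396811) D221080 F507120 F512344 (iv4 F512347) D222158 (iv0 F488870) F488867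
theorem F512646 : act 6 n211971 = n222158 := d21_3 F497435 (iv1 F425932) (iv5 F463785) (iv1 D222158) (iv6 D198500) F173734 (iv1 F169875) (iv5 F408929) (iv6 F457615) (iv1 F497438)
theorem F512647 : act 2 n222158 = n218891 := d3_1 F512646 (iv6 D218891) (iv2 F463783)
theorem F512648 : act 3 n222158 = n214748 := d7_1 F512646 (iv6 F505803) F505800
def n222159 : Q := act 2 n198501
theorem D222159 : act 2 n198501 = n222159 := rfl
theorem F512649 : act 3 n222159 = n215508 := d0_2 D198501 D222159 F480262 F408775 (iv2 F407819)
theorem F512650 : act 5 n222159 = n198729 := d2_2 (iv5 F408160) D222159 (iv2 D198729)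
theorem F512651 : act 1 n222159 = n218100 := d15_0 F512359 F512355 D222159
theorem F512652 : act 1 n218101 = n222159 := d15_0 F512651 F492146 (iv2 F492148)
theorem F512653 : act 6 n222159 = n215506 := d21_5 (iv5 D189941) F373853 D218124 F492242 (iv1 F512651) F480256 (iv1 F434057) (iv5 F495565) (iv6 D218768) (iv1 F394506)
def n222160 : Q := act 4 n198501
theorem D222160 : act 4 n198501 = n222160 := rfl
theorem F512654 : act 7 n222160 = n206827 := d11_2 F512355 D222160 (iv4 F512356)
theorem F512655 : act 5 n222160 = n206828 := d16_3 F407058 (iv5 F408160) D222160 F442335 F388448 F342183 (iv5 F436561) F436559 F433834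
theorem F512656 : act 0 n222160 = n210307 := d18_2 F449794 D222160 (iv4 F492115) (iv5 D218091) (iv4 F373648) (iv0 F408143) (iv4 D198491) (iv0 F408144) D208541
theorem F512657 : act 1 n222160 = n210299 := d18_6 F254494 (iv4 F476676) F476679 F407058 (iv5 F408160) D222160 F456909 F454335 F454334
def n222161 : Q := act 6 n198501
theorem D222161 : act 6 n198501 = n222161 := rfl
theorem F512658 : act 2 n222161 = n215506 := d3_1 D222161 (iv6 F512653) (iv2 D222159)
theorem F512659 : act 3 n222161 = n198503 := d7_1 D222161 (iv6 D198503) D198501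
theorem F512660 : act 5 n222161 = n215901 := d12_1 D222161 (iv6 F481996) F362313 (iv6 F360142) (iv5 F408160)
theorem F512661 : act 0 n215093 = n222161 := d17_0 F512660 (iv1 F481995) D215904 F482009 (iv5 D209138) F218508 D207023 F452440 (iv4 F478309)
theorem F512662 : act 1 n214997 = n222161 := d17_6 (iv1 F199392) (iv5 F335984) F340153 (iv5 D164144) (iv4 F258691) D214997 F512660 (iv0 D215901) (iv4 D178181)
def n222162 : Q := act 3 n198502
theorem D222162 : act 3 n198502 = n222162 := rfl
theorem F512663 : act 2 n222162 = n219309 := d0_1 D222162 F498234 F476221 (iv3 F512374) F512373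
theorem F512664 : act 5 n222162 = n216819 := d6_2 F429323 D222162 F486050
theorem F512665 : act 6 n222162 = n206190 := d7_2 (iv6 F497355) D222162 (iv3 F497353)
theorem F512666 : act 7 n222162 = n219229 := d8_2 F512362 D222162 (iv3 F512361)
def n222163 : Q := act 5 n198503
theorem D222163 : act 5 n198503 = n222163 := rfl
theorem F512667 : act 2 n222163 = n198666 := d2_1 D222163 F408787 F408779
theorem F512668 : act 3 n222163 = n215901 := d6_1 D222163 (iv5 F512660) F512659
theorem F512669 : act 6 n222163 = n198613 := d12_2 D198503 D222163 (iv5 D198613) F169866 (iv5 F169865)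
theorem F512670 : act 4 n222163 = n222052 := d16_6 (iv4 F403170) (iv5 F429349) F429348 (iv5 F497351) F497352 D222163 F512106 F473649 (iv2 F405314)
theorem F512671 : act 7 n222163 = n218682 := d16_8 (iv4 F413073) F413074 (iv4 F403170) (iv5 F429349) F429348 (iv5 F497351) F497352 D222163 (iv2 F495129)
theorem F512672 : act 0 n222163 = n218680 := d17_2 F497370 D222163 (iv5 F495943) F495942 (iv5 F436742) (iv0 F436744) D212550 (iv0 F496028) (iv4 F497367)
theorem F512673 : act 1 n222163 = n218683 := d17_6 F495821 F378996 D198695 (iv5 F497351) F497352 D222163 (iv5 F495957) (iv0 F495959) (iv4 F495820)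
def n222164 : Q := act 7 n198503
theorem D222164 : act 7 n198503 = n222164 := rfl
theorem F512674 : act 2 n222164 = n215503 := d4_1 D222164 F480247 F408779
theorem F512675 : act 4 n222164 = n198721 := d11_1 D222164 F497356 F497352
theorem F512676 : act 5 n222164 = n218682 := d13_1 D222164 (iv7 F512671) (iv5 D222163)
theorem F512677 : act 1 n218885 = n222164 := d15_1 (iv0 F496038) (iv7 D222164) (iv2 F408779)
theorem F512678 : act 1 n222164 = n218887 := d15_1 F512677 (iv7 F497369) F497365
def n222165 : Q := act 6 n198517
theorem D222165 : act 6 n198517 = n222165 := rfl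
theorem F512679 : act 2 n222165 = n219325 := d3_1 D222165 F498298 F436085
theorem F512680 : act 3 n222165 = n207614 := d7_1 D222165 (iv6 F445682) F435422
theorem F512681 : act 4 n222165 = n198518 := d10_1 D222165 (iv6 D198518) D198517
theorem F512682 : act 5 n222165 = n214899 := d12_1 D222165 (iv6 F505637) F505636 (iv6 F464691) F464693
theorem F512683 : act 7 n222165 = n219326 := d14_2 F409765 D222165 F498302 F499388 (iv6 F483690)
theorem F512684 : act 0 n207607 = n222165 := d17_2 F382453 D207607 F512682 F477334 (iv5 F392734) (iv0 F461809) F461806 (iv0 F454457) F454455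
def n222166 : Q := act 0 n198518
theorem D222166 : act 0 n198518 = n222166 := rfl
theorem F512685 : act 5 n222166 = n206769 := d17_3 (iv1 F433985) F433982 D222166 (iv4 D206769) (iv5 F438571) (iv0 F438570) (iv5 F438519) (iv0 F438522) F436147
theorem F512686 : act 6 n222166 = n221255 := d21_5 F170864 (iv1 D109401) D109402 D198518 D222166 F507983 F399795 D201049 F418888 F202346
theorem F512687 : act 2 n221679 = n222166 := d3_3 F512686 (iv2 F507985) D221679
theorem F512688 : act 3 n220967 = n222166 := d7_3 F512686 (iv3 F507988) (iv6 F506545)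
theorem F512689 : act 0 n222166 = n200842 := d21_4 F436203 (iv1 F418621) (iv5 F507983) (iv6 F512686) (iv6 F496827) (iv5 D219038) F416702 (iv5 F507992) (iv6 D221256) F436206
def n222167 : Q := act 1 n198518
theorem D222167 : act 1 n198518 = n222167 := rfl
theorem F512690 : act 1 n222167 = n200842 := d15_1 D222167 F436093 F436090
theorem F512691 : act 7 n222167 = n221679 := d15_2 (iv0 D222166) D222167 F512687
theorem F512692 : act 5 n222167 = n206761 := d17_7 (iv1 F333080) (iv5 D126653) D126650 D205831 F438046 F433982 D222167 (iv0 F445204) F445200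
theorem F512693 : act 3 n216294 = n222167 := d19_19 (iv1 D222167) (iv5 F433982) (iv4 F438046) F438041 F359980 (iv5 F224815) (iv4 F422747) (iv3 F422748) F180748 F401390 F401387 (iv3 D195541) F162264 D128566 F349583 D205157 (iv1 F435214) D219038 F496830
def n222168 : Q := act 7 n198518
theorem D222168 : act 7 n198518 = n222168 := rfl
theorem F512694 : act 2 n222168 = n200842 := d4_1 D222168 F436093 F436090
theorem F512695 : act 3 n222168 = n200095 := d8_1 D222168 (iv7 D200095) (iv3 F408194)
theorem F512696 : act 4 n222168 = n219326 := d11_1 D222168 (iv7 F512683) F512681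
theorem F512697 : act 5 n222168 = n200840 := d13_1 D222168 (iv7 F433984) F433982
theorem F512698 : act 6 n222168 = n222038 := d14_1 D222168 F512017 (iv6 D198891) F170869 D198518
theorem F512699 : act 0 n221679 = n222168 := d21_4 F398099 F397976 D197016 D221679 F512698 F512018 F416714 (iv5 F435705) (iv6 F435706) F398102
def n222169 : Q := act 4 n198523
theorem D222169 : act 4 n198523 = n222169 := rfl
theorem F512700 : act 3 n222169 = n203138 := d5_1 D222169 (iv4 D203138) (iv3 F408223) (iv4 D198524) (iv3 F408217)
theorem F512701 : act 7 n222169 = n210243 := d11_2 (iv7 F408218) D222169 F456717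
theorem F512702 : act 5 n222169 = n210221 := d16_1 D222169 (iv4 F480693) F480694 (iv4 F413224) F413036 (iv4 F414029) (iv5 F414031) (iv7 F423771) F423769
theorem F512703 : act 0 n222169 = n214106 := d18_2 F408224 D222169 (iv4 F482198) (iv5 F482201) F414576 F413026 F174940 (iv0 D111615) D111617
theorem F512704 : act 1 n222169 = n216544 := d18_6 (iv1 D219046) F380621 F380622 (iv4 F366011) D198523 D222169 F484877 (iv0 F474702) F496877
def n222170 : Q := act 1 n198526
theorem D222170 : act 1 n198526 = n222170 := rfl
theorem F512705 : act 7 n222170 = n217818 := d15_2 (iv0 F479016) D222170 F490777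
theorem F512706 : act 5 n222170 = n217556 := d17_7 (iv1 F370804) F487590 (iv1 D217134) (iv5 F373001) (iv4 F404801) (iv5 F408233) D222170 F489473 F371692
theorem F512707 : act 4 n222170 = n215646 := d17_9 F480942 F394989 F479466 F479465 (iv4 F476591) (iv5 F511257) (iv0 D221894) (iv5 F408233) D222170
theorem F512708 : act 3 n214961 = n222170 := d19_19 (iv1 D222170) F408233 F404801 (iv3 D188294) F295200 F283449 (iv4 D182034) F295014 F294361 (iv5 D43308) (iv4 F63851) (iv3 D41405) (iv1 F31233) D22961 (iv4 F59903) (iv3 F129373) D176831 F414784 D214961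
theorem F512709 : act 2 n222170 = n214264 := d0_1 F512708 (iv3 D214264) (iv2 F399471) F392199 (iv2 F477646)
theorem F512710 : act 6 n222170 = n215653 := d7_2 (iv6 F477647) F512708 F480975
def n222171 : Q := act 5 n198533
theorem D222171 : act 5 n198533 = n222171 := rfl
theorem F512711 : act 2 n222171 = n199471 := d2_1 D222171 (iv5 F413764) F413762
theorem F512712 : act 4 n222171 = n212683 := d9_1 D222171 (iv5 D212683) F233623 (iv5 F229430) (iv4 F408267) (iv5 D198537) D198536 (iv5 F465756) (iv4 D212425) (iv5 D146900) (iv4 F106152) F106153 (iv4 F112588) (iv5 F169494) D198533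
theorem F512713 : act 7 n222171 = n218176 := d13_2 F413757 D222171 (iv5 F492534)
theorem F512714 : act 1 n222171 = n199699 := d17_6 (iv1 D109872) (iv5 F169515) F169516 (iv5 F169494) D198533 D222171 (iv5 D199699) (iv0 F408940) (iv4 D198704)
def n222172 : Q := act 5 n198547
theorem D222172 : act 5 n198547 = n222172 := rfl
theorem F512715 : act 2 n222172 = n203793 := d2_1 D222172 (iv5 D203793) F408308
theorem F512716 : act 3 n222172 = n217184 := d6_1 D222172 (iv5 D217184) (iv3 F408306)
theorem F512717 : act 4 n222172 = n200389 := d9_1 D222172 (iv5 D200389) F320583 (iv5 D85200) F60326 D39491 D85556 D179313 (iv4 F378990) (iv5 F393227) F393226 F247036 F320437 (iv5 F192210) (iv4 F408305)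
theorem F512718 : act 6 n222172 = n219003 := d12_2 (iv6 F408307) D222172 F496624 (iv6 D199842) (iv5 F248414)
theorem F512719 : act 7 n222172 = n215981 := d13_2 (iv7 F408309) D222172 (iv5 D215981)
theorem F512720 : act 0 n222172 = n203670 := d17_2 D198547 D222172 (iv5 F478348) F478347 (iv5 F403023) (iv0 D107669) D107672 (iv0 F355513) (iv4 F169517)
theorem F512721 : act 1 n222172 = n215982 := d17_6 F350634 (iv5 D85544) D85540 (iv5 F192210) (iv4 F408305) D222172 F496749 F496744 F380289
def n222173 : Q := act 4 n198552
theorem D222173 : act 4 n198552 = n222173 := rfl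
theorem F512722 : act 3 n222173 = n198563 := d5_1 D222173 (iv4 D198563) (iv3 F408348) (iv4 F495820) F495818
theorem F512723 : act 1 n222173 = n218820 := d18_6 D97110 F348883 F408330 (iv4 D198551) D198552 D222173 F495797 (iv0 D190980) (iv5 D97112)
theorem F512724 : act 0 n222173 = n219242 := d20_1 D222173 (iv4 D219242) (iv3 F474456) D214732 (iv3 F487634) F487636 (iv1 F495772) (iv4 D218813) (iv3 F495612) (iv1 F495615)
def n222174 : Q := act 6 n198552
theorem D222174 : act 6 n198552 = n222174 := rfl
theorem F512725 : act 3 n222174 = n222136 := d7_1 D222174 F512535 F495818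
theorem F512726 : act 5 n222174 = n222136 := d12_1 D222174 F512535 (iv5 D218827) (iv6 F378973) D198552
theorem F512727 : act 7 n222174 = n219221 := d14_2 F484110 D222174 (iv6 D219221) F381623 (iv6 F484109)
theorem F512728 : act 0 n222174 = n217416 := d21_10 (iv5 F496066) F512371 F512370 (iv6 D198573) (iv1 D109575) (iv6 F169521) (iv5 D109570) D109568 D198552 D222174
theorem F512729 : act 0 n219182 = n222174 := d21_4 (iv5 D186399) D186396 D216934 F497602 (iv6 D222174) (iv5 D198552) (iv1 F361148) D190930 (iv6 F486608) (iv1 D216936)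
def n222175 : Q := act 4 n198554
theorem D222175 : act 4 n198554 = n222175 := rfl
theorem F512730 : act 6 n222175 = n219096 := d10_2 (iv6 F408338) D222175 (iv4 D219096)
theorem F512731 : act 1 n222175 = n219242 := d18_6 (iv1 F381736) D190977 F408336 (iv4 D198553) D198554 D222175 (iv4 D219242) F497852 F497850
theorem F512732 : act 0 n222175 = n218820 := d20_1 D222175 F495797 F419610 (iv1 F419607) (iv3 F251888) (iv4 F381980) (iv1 F381982) F379190 D190936 F408339
def n222176 : Q := act 4 n198556
theorem D222176 : act 4 n198556 = n222176 := rfl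
theorem F512733 : act 7 n222176 = n214949 := d11_2 (iv7 F495602) D222176 (iv4 F495603)
theorem F512734 : act 0 n222176 = n219239 := d18_2 (iv1 F408340) D222176 (iv4 D219239) (iv5 D190975) F348883 (iv0 F408335) (iv4 D198553) F348959 D190930
theorem F512735 : act 0 n219240 = n222176 := d20_10 (iv4 D222176) (iv1 D198556) D198557 F408341 F359657 (iv3 F476248) F476249 (iv1 F495855) (iv4 F495859) (iv3 F497896)
theorem F512736 : act 6 n218838 = n222176 := d21_3 F379341 D216472 (iv5 F495860) F512734 F497891 (iv5 F453794) F453795 F452567 F496244 (iv1 D218931)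
def n222177 : Q := act 6 n198556
theorem D222177 : act 6 n198556 = n222177 := rfl
theorem F512737 : act 2 n222177 = n211978 := d3_1 D222177 F495607 (iv2 F495608)
theorem F512738 : act 3 n222177 = n211780 := d7_1 D222177 F463062 F439658
theorem F512739 : act 4 n222177 = n218838 := d10_1 D222177 F512736 (iv4 D222176)
theorem F512740 : act 5 n222177 = n202860 := d12_1 D222177 (iv6 F425911) (iv5 F363701) (iv6 F439656) (iv5 F439657)
theorem F512741 : act 7 n222177 = n211976 := d14_2 (iv7 F495602) D222177 F476229 F476225 (iv6 F495598)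
theorem F512742 : act 0 n222177 = n219222 := d21_4 (iv5 F495116) (iv1 F495118) (iv5 F439657) D222177 (iv6 D219222) (iv5 D190941) F289557 D183221 (iv6 F484109) F495120
theorem F512743 : act 1 n222177 = n211512 := d15_1 (iv0 F512742) F461912 (iv2 F497790)
def n222178 : Q := act 1 n198557
theorem D222178 : act 1 n198557 = n222178 := rfl
theorem F512744 : act 1 n222178 = n219214 := d15_1 D222178 F497760 F495609
theorem F512745 : act 7 n222178 = n204746 := d15_2 (iv0 F477534) D222178 (iv2 F476208)
theorem F512746 : act 5 n220178 = n222178 := d21_0 (iv1 D222178) (iv5 F446912) (iv6 F501775) (iv1 F501774) (iv6 F490074) F490070 F391212 D220221 (iv6 F511465) (iv1 F511467)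
theorem F512747 : act 2 n222178 = n221921 := d2_1 F512746 (iv5 D221921) (iv2 F502495)
def n222179 : Q := act 7 n198557
theorem D222179 : act 7 n198557 = n222179 := rfl
theorem F512748 : act 2 n222179 = n219214 := d4_1 D222179 F497760 F495609
theorem F512749 : act 3 n222179 = n204758 := d8_1 D222179 (iv7 F433480) (iv3 F408341)
theorem F512750 : act 4 n222179 = n198558 := d11_1 D222179 (iv7 D198558) D198557
theorem F512751 : act 6 n222179 = n219618 := d14_1 D222179 F499704 (iv6 D215511) (iv7 F365987) (iv6 F408342)
theorem F512752 : act 1 n221921 = n222179 := d15_1 (iv0 F511408) (iv7 D222179) (iv2 F495609)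
theorem F512753 : act 1 n222179 = n204746 := d15_1 F512752 (iv7 F512745) F512747
def n222180 : Q := act 5 n198567
theorem D222180 : act 5 n198567 = n222180 := rfl
theorem F512754 : act 2 n222180 = n209680 := d2_1 D222180 (iv5 F480259) F480258
theorem F512755 : act 6 n222180 = n203025 := d12_2 (iv6 F482986) D222180 F426682 F414141 D216106
theorem F512756 : act 7 n222180 = n209677 := d13_2 F480250 D222180 (iv5 F480251)
theorem F512757 : act 4 n222180 = n198587 := d16_2 D198567 D222180 (iv5 D198587) (iv4 F202611) (iv5 F202714) (iv4 F408362) (iv5 D198572) (iv7 F408359) F408358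
theorem F512758 : act 1 n222180 = n222084 := d17_6 (iv1 F409387) (iv5 D198818) (iv1 F408351) (iv5 D198568) D198567 D222180 (iv5 F512451) F512453 F453975
def n222181 : Q := act 2 n198570
theorem D222181 : act 2 n198570 = n222181 := rfl
theorem F512759 : act 3 n222181 = n222164 := d0_2 D198570 D222181 F512674 (iv3 D215503) F408357
theorem F512760 : act 4 n222181 = n205804 := d1_2 F437486 D222181 F437931
theorem F512761 : act 5 n222181 = n220897 := d2_2 F482002 D222181 F506143
theorem F512762 : act 6 n222181 = n205811 := d3_2 F437492 D222181 F437944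
theorem F512763 : act 7 n222181 = n222161 := d4_2 F480257 D222181 F512658
theorem F512764 : act 1 n222181 = n218099 := d15_0 F492144 F480257 D222181
def n222182 : Q := act 5 n198571
theorem D222182 : act 5 n198571 = n222182 := rfl
theorem F512765 : act 2 n222182 = n209677 := d2_1 D222182 (iv5 F480251) F480249
theorem F512766 : act 3 n222182 = n220973 := d6_1 D222182 (iv5 F506584) F503884
theorem F512767 : act 4 n222182 = n198584 := d9_1 D222182 (iv5 D198584) F169568 D145311 (iv4 F408350) (iv5 D198568) D198567 D222180 F512757 (iv5 D198587) (iv4 F202611) (iv5 F202714) (iv4 F408362) (iv5 D198572) D198571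
theorem F512768 : act 6 n222182 = n205019 := d12_2 F503882 D222182 F434635 (iv6 F404164) D220460
theorem F512769 : act 7 n222182 = n209680 := d13_2 F480260 D222182 (iv5 F480259)
theorem F512770 : act 0 n222182 = n222084 := d17_2 F454792 D222182 (iv5 F512451) (iv4 D222120) F407982 (iv0 F407764) D198741 (iv0 F414085) (iv4 F454790)
def n222183 : Q := act 0 n198573
theorem D222183 : act 0 n198573 = n222183 := rfl
theorem F512771 : act 4 n222183 = n204752 := d20_8 (iv4 F479978) F479977 F429453 (iv3 F461455) F461457 (iv3 F503881) (iv4 F503883) D222183 F433469 (iv1 F406278)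
theorem F512772 : act 7 n204750 = n222183 := d11_0 F512771 (iv7 D204752) (iv4 F433466)
theorem F512773 : act 1 n222154 = n222183 := d17_8 (iv1 F461529) F461525 F497630 (iv5 D219187) (iv4 F488802) (iv5 F496066) (iv0 F512564) (iv5 F512621) F512771
theorem F512774 : act 3 n222183 = n214816 := d19_3 D194743 (iv5 F433470) (iv4 F512771) (iv1 F480298) F480295 F476644 F348744 (iv1 F149758) F149755 (iv4 D95484) F325905 F298082 (iv5 F324888) (iv4 F75824) (iv3 D48232) (iv1 F36520) D23411 D48259 D104279
def n222184 : Q := act 7 n198573
theorem D222184 : act 7 n198573 = n222184 := rfl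
theorem F512775 : act 2 n222184 = n222154 := d4_1 D222184 F512622 F480253
theorem F512776 : act 3 n222184 = n207641 := d8_1 D222184 F445808 (iv3 F437493)
theorem F512777 : act 6 n222184 = n222153 := d14_1 D222184 F512617 (iv6 D215508) F408359 D198573
theorem F512778 : act 1 n204750 = n222184 := d15_1 (iv0 F480255) (iv7 D222184) (iv2 F480253)
def n222185 : Q := act 0 n198583
theorem D222185 : act 0 n198583 = n222185 := rfl
theorem F512779 : act 5 n222185 = n221268 := d17_1 D222185 F508068 (iv5 D209501) (iv4 F405204) F406161 F412002 (iv5 F459695) (iv0 D210999) (iv4 F408393)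
theorem F512780 : act 6 n222185 = n209700 := d21_5 (iv5 D153294) (iv1 F240484) (iv5 F242668) F408395 D222185 (iv5 F485823) F485822 F469852 (iv6 D210144) F338927
theorem F512781 : act 2 n209678 = n222185 := d15_3 (iv0 D222185) (iv0 F456378) (iv7 F456379)
theorem F512782 : act 1 n209679 = n222185 := d15_0 (iv0 D222185) F408394 D209679
theorem F512783 : act 7 n222185 = n205853 := d15_2 (iv0 F466250) F512782 (iv2 F456377)
def n222186 : Q := act 1 n198586
theorem D222186 : act 1 n198586 = n222186 := rfl
theorem F512784 : act 7 n222186 = n205935 := d15_2 (iv0 F456494) D222186 (iv2 F456491)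
theorem F512785 : act 2 n209674 = n222186 := d4_3 F512784 (iv2 F456491) F503470
theorem F512786 : act 6 n209703 = n222186 := d14_5 F512784 (iv6 D205935) (iv7 F386028) D210189 (iv7 F456509)
theorem F512787 : act 0 n209675 = n222186 := d21_4 (iv5 D207436) F210757 (iv5 F383624) (iv6 F454594) (iv6 F512786) (iv5 F503164) F503165 (iv5 F453074) (iv6 D209293) (iv1 F444903)
def n222187 : Q := act 2 n198586
theorem D222187 : act 2 n198586 = n222187 := rfl
theorem F512788 : act 3 n222187 = n209679 := d0_2 D198586 D222187 (iv2 D209679) (iv3 D136812) (iv2 F202613)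
theorem F512789 : act 5 n222187 = n212428 := d2_2 F465375 D222187 F465766
theorem F512790 : act 6 n222187 = n203018 := d3_2 (iv6 F408410) D222187 F426652
theorem F512791 : act 7 n222187 = n209675 := d4_2 (iv7 F408411) D222187 (iv2 D209675)
theorem F512792 : act 1 n222187 = n209674 := d15_0 (iv0 D209674) (iv7 F408411) D222187
theorem F512793 : act 1 n205935 = n222187 := d15_0 F512792 (iv7 F503470) F456491
def n222188 : Q := act 3 n198588
theorem D222188 : act 3 n198588 = n222188 := rfl
theorem F512794 : act 4 n222188 = n201574 := d5_2 (iv4 F408417) D222188 (iv3 F420980) (iv4 D146125) (iv3 F334904)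
theorem F512795 : act 5 n222188 = n218994 := d6_2 F465264 D222188 F496582
theorem F512796 : act 6 n222188 = n201295 := d7_2 F408418 D222188 F419892
theorem F512797 : act 7 n222188 = n215611 := d8_2 F463522 D222188 F480760
theorem F512798 : act 0 n222188 = n209635 := d19_4 F319866 (iv5 F334905) (iv4 F408417) D222188 (iv5 F454412) (iv4 D201213) F177747 D159714 D214523 F475612 F370303 (iv1 F370327) F370328 (iv4 F154627) (iv3 F157488) (iv1 F293557) (iv5 F347307) (iv4 F393509) (iv3 D194511)
theorem F512799 : act 2 n222188 = n215610 := d16_9 (iv4 D215610) (iv5 D176087) D176086 F347659 (iv4 F347680) (iv5 F453526) (iv4 F510417) F510418 (iv7 F512797)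
def n222189 : Q := act 5 n198602
theorem D222189 : act 5 n198602 = n222189 := rfl
theorem F512800 : act 2 n222189 = n209739 := d2_1 D222189 (iv5 D209739) (iv2 F408478)
theorem F512801 : act 3 n222189 = n198603 := d6_1 D222189 (iv5 D198603) D198602
theorem F512802 : act 7 n222189 = n209763 := d13_2 (iv7 F408480) D222189 (iv5 D209763)
theorem F512803 : act 4 n222189 = n206042 := d16_2 (iv4 F408479) D222189 (iv5 D206042) (iv4 D127092) (iv5 D59646) D59645 D127091 (iv7 F396987) F396986
theorem F512804 : act 0 n222189 = n207840 := d17_2 F408482 D222189 F446665 F218961 (iv5 F344609) F162190 D141303 F360504 F220072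
theorem F512805 : act 1 n222189 = n207683 := d17_6 F347210 (iv5 F344619) (iv1 F179737) F364301 (iv4 F408479) D222189 F445997 F220538 (iv4 F347214)
theorem F512806 : act 6 n210220 = n222189 := d21_5 D217643 F489910 F478877 F442846 F456634 (iv5 D222189) F408481 (iv5 F220569) F220570 D187689
def n222190 : Q := act 6 n198602
theorem D222190 : act 6 n198602 = n222190 := rfl
theorem F512807 : act 2 n222190 = n209740 := d3_1 D222190 (iv6 D209740) (iv2 F408478)
theorem F512808 : act 3 n222190 = n198604 := d7_1 D222190 (iv6 D198604) D198602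
theorem F512809 : act 4 n222190 = n211925 := d10_1 D222190 (iv6 D211925) (iv4 F408479)
theorem F512810 : act 5 n222190 = n210716 := d12_1 D222190 (iv6 F462701) (iv5 F456632) F512806 (iv5 D222189)
theorem F512811 : act 7 n222190 = n203395 := d14_2 (iv7 F408480) D222190 (iv6 D203395) (iv7 F252592) (iv6 F366346)
theorem F512812 : act 0 n222190 = n209240 := d21_4 (iv5 F445997) (iv1 F512805) (iv5 D222189) D222190 (iv6 F452844) (iv5 F449600) F449599 (iv5 F347286) (iv6 D143083) (iv1 F220538)
theorem F512813 : act 0 n202509 = n222190 := d21_4 D210468 F457670 F500186 (iv6 F500187) (iv6 D222190) D222189 F512804 F446665 (iv6 F403962) (iv1 F403967)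
def n222191 : Q := act 5 n198622
theorem D222191 : act 5 n198622 = n222191 := rfl
theorem F512814 : act 2 n222191 = n201339 := d2_1 D222191 (iv5 F420070) (iv2 F408581)
theorem F512815 : act 3 n222191 = n206019 := d6_1 D222191 (iv5 D206019) (iv3 F408582)
theorem F512816 : act 4 n222191 = n212344 := d9_1 D222191 F465411 (iv4 F325092) (iv5 F225374) (iv4 F408595) (iv5 D198625) (iv4 F169699) D197792 (iv4 F482248) (iv5 D215953) (iv4 D178886) (iv5 D85286) (iv4 F130578) (iv5 F347153) D198622
theorem F512817 : act 6 n222191 = n201338 := d12_2 (iv6 F481013) D222191 F420067 D217806 F490725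
theorem F512818 : act 7 n222191 = n221944 := d13_2 (iv7 F408583) D222191 (iv5 D221944)
theorem F512819 : act 0 n222191 = n217979 := d17_2 F408585 D222191 (iv5 F511594) F511593 F435639 (iv0 F363387) (iv5 F406772) (iv0 F406771) (iv4 F405773)
theorem F512820 : act 1 n222191 = n217915 := d17_6 (iv1 D111991) (iv5 F169714) F347162 (iv5 F347153) D198622 D222191 (iv5 F495195) (iv0 F495199) F406038
def n222192 : Q := act 1 n198633
theorem D222192 : act 1 n198633 = n222192 := rfl
theorem F512821 : act 1 n222192 = n198711 := d15_1 D222192 F408961 (iv2 F408633)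
theorem F512822 : act 7 n222192 = n200338 := d15_2 (iv0 F481041) D222192 (iv2 F481037)
theorem F512823 : act 4 n222192 = n199825 := d18_7 D111783 F173487 F166191 F101565 D109706 D198633 D222192 (iv0 D199825) (iv5 D111785)
theorem F512824 : act 5 n222192 = n216104 := d18_9 (iv1 F512615) (iv4 D222152) F408157 D200051 F416144 F416142 (iv0 D198631) D198633 D222192
theorem F512825 : act 6 n214157 = n222192 := d21_3 F362310 F413841 (iv5 F473767) (iv1 D222192) F408634 (iv5 D128573) (iv1 F182820) (iv5 F365078) (iv6 F457559) F457560
theorem F512826 : act 2 n222192 = n200337 := d3_1 F512825 (iv6 F457573) (iv2 F473765)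
theorem F512827 : act 3 n222192 = n215966 := d7_1 F512825 F482326 (iv3 F473769)
def n222193 : Q := act 4 n198636
theorem D222193 : act 4 n198636 = n222193 := rfl
theorem F512828 : act 3 n222193 = n210085 := d5_1 D222193 F456097 F220687 (iv4 F206728) (iv3 F408646)
theorem F512829 : act 6 n222193 = n206382 := d10_2 (iv6 F408647) D222193 (iv4 D206382)
theorem F512830 : act 0 n222193 = n214976 := d18_2 F474707 D222193 (iv4 D214976) (iv5 D164110) F298086 (iv0 F115929) (iv4 F193186) F296608 D214349
theorem F512831 : act 1 n222193 = n214975 := d18_6 F325270 (iv4 F358810) F373750 F373746 D198636 D222193 (iv4 D214975) (iv0 F414523) (iv5 D199993)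
def n222194 : Q := act 5 n198648
theorem D222194 : act 5 n198648 = n222194 := rfl
theorem F512832 : act 2 n222194 = n220922 := d2_1 D222194 F506286 F455323
theorem F512833 : act 3 n222194 = n220373 := d6_1 D222194 (iv5 D220373) F455324
theorem F512834 : act 7 n222194 = n214652 := d13_2 (iv7 F455322) D222194 F476232
theorem F512835 : act 0 n218792 = n222194 := d21_10 (iv5 D222194) (iv1 D198648) D198649 F408700 F378871 F378870 F149765 D185469 (iv5 F378815) D218792
theorem F512836 : act 6 n222183 = n222194 := d21_5 F378869 (iv1 F408363) (iv5 D198572) D198573 D222183 (iv5 D222194) (iv1 D198648) D198649 F408700 F378871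
theorem F512837 : act 4 n222194 = n214655 := d10_1 F512836 F476235 (iv4 F512771)
def n222195 : Q := act 0 n198649
theorem D222195 : act 0 n198649 = n222195 := rfl
theorem F512838 : act 3 n222195 = n214741 := d20_5 (iv4 F379162) (iv1 F381177) D219097 (iv3 F497164) D222195 F476612 (iv1 F369754) (iv4 F488534) F488533 F463277
theorem F512839 : act 5 n222195 = n220767 := d21_2 D198649 D222195 (iv6 F512491) (iv1 F512488) F504463 D222094 F512330 F497746 (iv6 F455325) (iv1 D198648)
theorem F512840 : act 6 n222195 = n214739 := d21_5 (iv5 D83473) (iv1 F326039) D111994 (iv6 F408700) D222195 (iv5 D214739) F408813 (iv5 F480263) (iv6 D215508) (iv1 D174700)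
theorem F512841 : act 2 n222130 = n222195 := d15_3 (iv0 D222195) (iv0 F503664) F512506
theorem F512842 : act 7 n222195 = n218779 := d4_2 F512506 F512841 (iv2 F503661)
theorem F512843 : act 1 n222131 = n222195 := d15_1 F512508 F512842 (iv2 F503661)
def n222196 : Q := act 4 n198649
theorem D222196 : act 4 n198649 = n222196 := rfl
theorem F512844 : act 2 n222196 = n221440 := d1_1 D222196 (iv4 F509038) (iv2 F408699)
theorem F512845 : act 3 n222196 = n216382 := d5_1 D222196 (iv4 D216382) (iv3 F381174) D219097 (iv3 F497164)
theorem F512846 : act 6 n222196 = n199921 := d10_2 (iv6 F408700) D222196 (iv4 D199921)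
theorem F512847 : act 5 n222196 = n215346 := d17_5 F512835 (iv5 D222194) (iv1 D198648) D198649 D222196 (iv0 D215346) D215348 F497400 (iv4 F495674)
theorem F512848 : act 0 n222196 = n218923 := d17_0 F496213 F463466 (iv5 F510070) F510069 F486612 (iv0 F505412) (iv5 F512839) (iv0 D222195) D222196
def n222197 : Q := act 7 n198649
theorem D222197 : act 7 n198649 = n222197 := rfl
theorem F512849 : act 2 n222197 = n222131 := d4_1 D222197 (iv7 D222131) (iv2 F408699)
theorem F512850 : act 3 n222197 = n211967 := d8_1 D222197 (iv7 F497160) (iv3 F497164)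
theorem F512851 : act 5 n222197 = n198650 := d13_1 D222197 (iv7 D198650) D198649
theorem F512852 : act 6 n222197 = n211980 := d14_1 D222197 F463820 (iv6 D198564) (iv7 F174071) (iv6 F408700)
theorem F512853 : act 1 n218779 = n222197 := d15_1 (iv0 F495621) (iv7 D222197) F408699
theorem F512854 : act 1 n222197 = n222130 := d15_1 F512853 (iv7 F512506) F503661
def n222198 : Q := act 0 n198651
theorem D222198 : act 0 n198651 = n222198 := rfl
theorem F512855 : act 5 n222198 = n207187 := d17_1 D222198 F443706 F423906 F416051 (iv5 F422624) (iv0 F422625) D204808 F433666 (iv4 F408707)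
theorem F512856 : act 4 n222198 = n202426 := d18_1 D222198 (iv1 D202426) (iv4 F390170) F423922 F423919 (iv0 D202193) (iv4 F182829) D202779 F425552
theorem F512857 : act 3 n222198 = n207188 := d20_5 (iv4 F507147) (iv1 D221084) F396813 (iv3 F408706) D222198 (iv4 F503517) (iv1 D220384) (iv4 D193539) F357181 (iv1 F407909)
theorem F512858 : act 6 n222198 = n207185 := d21_5 (iv5 F397290) (iv1 D111996) (iv5 F169717) D198651 D222198 (iv5 F443696) (iv1 F234595) D149223 F366574 (iv1 F397291)
theorem F512859 : act 2 n207187 = n222198 := d15_3 (iv0 D222198) (iv0 F414168) (iv7 F443705)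
theorem F512860 : act 1 n211878 = n222198 := d15_0 (iv0 D222198) (iv7 F423907) F463370
theorem F512861 : act 7 n222198 = n211877 := d15_2 D211878 F512860 F463361
def n222199 : Q := act 1 n198655
theorem D222199 : act 1 n198655 = n222199 := rfl
theorem F512862 : act 1 n222199 = n198658 := d15_1 D222199 (iv7 F496870) F496866
theorem F512863 : act 7 n222199 = n199951 := d15_2 (iv0 F408937) D222199 F414299
theorem F512864 : act 5 n222199 = n220583 := d17_7 F510813 F510812 (iv1 F477164) (iv5 F463625) (iv4 D198654) D198655 D222199 F512478 F512475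
theorem F512865 : act 4 n222199 = n214679 := d17_9 F476363 (iv5 F395206) F405468 D215741 F481352 F408742 F408529 D198655 D222199
theorem F512866 : act 3 n215254 = n222199 := d19_19 (iv1 D222199) (iv5 D198655) D198654 F408720 (iv1 F397215) (iv5 D195524) (iv4 F162243) (iv3 D74343) (iv1 F53514) F40769 (iv4 F84013) (iv3 F179545) (iv1 F346599) (iv5 F433669) F433670 (iv3 F433732) F433733 F401156 (iv4 F479056)
theorem F512867 : act 2 n222199 = n199971 := d0_1 F512866 F414412 (iv2 F262402) (iv3 F455372) (iv2 F479055)
theorem F512868 : act 6 n222199 = n214738 := d7_2 D215254 F512866 F476600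
def n222200 : Q := act 1 n198661
theorem D222200 : act 1 n198661 = n222200 := rfl
theorem F512869 : act 1 n222200 = n215741 := d15_1 D222200 F481351 F481342
theorem F512870 : act 7 n222200 = n215537 := d15_2 (iv0 F480398) D222200 (iv2 F480393)
theorem F512871 : act 5 n222200 = n205074 := d17_7 F341250 D163070 (iv1 F341247) (iv5 D177518) D177517 (iv5 F408758) D222200 (iv0 D205074) F201717
theorem F512872 : act 4 n222200 = n214822 := d17_9 (iv1 D214822) F359250 F359251 (iv5 F160648) (iv4 F395205) (iv5 F395206) (iv0 F400884) (iv5 F408758) D222200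
theorem F512873 : act 3 n215535 = n222200 := d19_19 (iv1 D222200) F408758 (iv4 D177517) (iv3 F339269) (iv1 F479375) (iv5 F505087) F505086 F433857 (iv1 F505385) (iv5 F506440) F506437 F395571 D206638 F441692 F417608 (iv3 F417541) (iv1 F417544) (iv5 F435835) (iv4 F480382)
theorem F512874 : act 2 n222200 = n215379 := d0_1 F512873 F479677 F273810 (iv3 F362034) D215535
theorem F512875 : act 6 n222200 = n220669 := d7_2 (iv6 F480379) F512873 F504894
def n222201 : Q := act 6 n198677
theorem D222201 : act 6 n198677 = n222201 := rfl
theorem F512876 : act 2 n222201 = n203877 := d3_1 D222201 F430194 (iv2 F408839)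
theorem F512877 : act 3 n222201 = n210014 := d7_1 D222201 (iv6 D210014) (iv3 F408840)
theorem F512878 : act 5 n222201 = n211484 := d12_1 D222201 F461758 (iv5 D200035) (iv6 F174625) D198677
theorem F512879 : act 7 n222201 = n211501 := d14_2 (iv7 F408841) D222201 F461843 F443545 F425843
theorem F512880 : act 0 n222201 = n214962 := d21_4 (iv5 D109752) D109750 D198677 D222201 (iv6 D214962) (iv5 F382167) (iv1 D176832) (iv5 D84302) D84303 (iv1 F354533)
theorem F512881 : act 0 n214692 = n222201 := d21_4 D160867 F433433 (iv5 F433432) D214692 (iv6 D222201) (iv5 D198677) (iv1 F169740) D109756 (iv6 F408560) (iv1 D160865)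
def n222202 : Q := act 6 n198678
theorem D222202 : act 6 n198678 = n222202 := rfl
theorem F512882 : act 2 n222202 = n209975 := d3_1 D222202 (iv6 D209975) (iv2 F408844)
theorem F512883 : act 3 n222202 = n210497 := d7_1 D222202 (iv6 D210497) (iv3 F408845)
theorem F512884 : act 4 n222202 = n221567 := d10_1 D222202 (iv6 F509631) F410785
theorem F512885 : act 5 n222202 = n209762 := d12_1 D222202 (iv6 D209762) F220066 F217421 D198678
theorem F512886 : act 7 n222202 = n219429 := d14_2 (iv7 F408846) D222202 F498850 F467138 F390009
theorem F512887 : act 0 n222202 = n209967 := d21_4 F219609 (iv1 F219611) D198678 D222202 (iv6 D209967) (iv5 D137198) (iv1 D64487) D64488 F100424 D64496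
theorem F512888 : act 0 n212850 = n222202 := d21_4 F294231 (iv1 F153147) (iv5 F364320) D212850 (iv6 D222202) (iv5 D198678) F219002 F219000 D137226 (iv1 F357576)
def n222203 : Q := act 0 n198685
theorem D222203 : act 0 n198685 = n222203 := rfl
theorem F512889 : act 4 n222203 = n221159 := d20_2 (iv4 F408863) D222203 F507500 (iv1 F401574) (iv3 F503211) (iv4 D220326) F389737 (iv4 F460840) (iv3 F464790) (iv1 D212216)
theorem F512890 : act 3 n222203 = n209923 := d20_5 D64491 (iv1 F100428) F169751 D198685 D222203 (iv4 D209923) (iv1 D137089) F100364 F48796 D30362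
theorem F512891 : act 6 n222203 = n205082 := d21_5 F454012 (iv1 F464787) (iv5 D209846) (iv6 F408864) D222203 (iv5 F452529) (iv1 F452528) (iv5 D136581) D136582 D209521
theorem F512892 : act 1 n205936 = n222203 := d15_0 (iv0 D222203) F408865 (iv2 F438491)
theorem F512893 : act 2 n205938 = n222203 := d3_3 F512891 (iv2 F434911) F452523
theorem F512894 : act 7 n205937 = n222203 := d14_0 F512891 (iv7 F434906) (iv6 F414621) F414622 (iv6 F438494)
def n222204 : Q := act 1 n198685
theorem D222204 : act 1 n198685 = n222204 := rfl
theorem F512895 : act 7 n222204 = n205938 := d15_2 (iv0 D222203) D222204 F512893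
theorem F512896 : act 4 n222204 = n221152 := d17_9 F507472 F460367 F504443 (iv5 D220577) F391429 (iv5 F384831) D219648 (iv5 F499842) D222204
theorem F512897 : act 5 n222204 = n212452 := d18_9 F465848 F507364 (iv1 D221130) F396938 D202509 (iv4 F464780) (iv0 D212215) (iv4 F408863) D222204
theorem F512898 : act 3 n220340 = n222204 := d20_3 (iv4 F454716) F500941 (iv4 F503279) (iv1 D222204) (iv3 D198685) (iv4 F169751) (iv1 F93928) (iv4 F99495) D64494 (iv1 F453661)
theorem F512899 : act 6 n202724 = n222204 := d21_3 F386245 (iv1 F359458) D202724 (iv1 D222204) F408864 D209846 (iv1 F504521) (iv5 D220595) (iv6 D193967) (iv1 F386248)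
theorem F512900 : act 2 n222204 = n205937 := d3_1 F512899 F438494 (iv2 F425291)
theorem F512901 : act 0 n205936 = n222204 := d21_4 D136093 F360510 (iv5 F204037) D205936 (iv6 F512899) (iv5 D202724) (iv1 F349445) F329158 (iv6 D64006) D64002
def n222205 : Q := act 2 n198685
theorem D222205 : act 2 n198685 = n222205 := rfl
theorem F512902 : act 3 n222205 = n210002 := d0_2 D198685 D222205 (iv2 D210002) (iv3 D137233) (iv2 F169752)
theorem F512903 : act 4 n222205 = n212217 := d1_2 (iv4 F408863) D222205 (iv2 D212217)
theorem F512904 : act 5 n222205 = n216535 := d2_2 (iv5 F499842) D222205 (iv2 F499843)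
theorem F512905 : act 6 n222205 = n209845 := d3_2 (iv6 F408864) D222205 (iv2 D209845)
theorem F512906 : act 7 n222205 = n205936 := d4_2 (iv7 F408865) D222205 F438491
theorem F512907 : act 1 n222205 = n205937 := d15_0 (iv0 D205937) (iv7 F408865) D222205
theorem F512908 : act 1 n205938 = n222205 := d15_0 F512907 F512894 (iv2 F512893)
def n222206 : Q := act 4 n198688
theorem D222206 : act 4 n198688 = n222206 := rfl
theorem F512909 : act 2 n222206 = n218515 := d1_1 D222206 F494243 F414712
theorem F512910 : act 3 n222206 = n218516 := d5_1 D222206 F494246 F455344 D210441 F457550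
theorem F512911 : act 7 n222206 = n218544 := d11_2 F414522 D222206 F494391
theorem F512912 : act 5 n222206 = n218515 := d16_1 D222206 F494243 (iv5 D200036) F174645 F326183 (iv4 F170062) D198744 (iv7 F414715) F414712
theorem F512913 : act 0 n222206 = n218537 := d17_0 F494355 (iv1 F493705) F477762 (iv4 D214958) (iv5 D164079) (iv0 F297273) D203878 F430202 D222206
theorem F512914 : act 1 n222206 = n218545 := d18_6 (iv1 F362598) F174980 (iv1 F326932) (iv4 F169768) D198688 D222206 F494397 F474708 (iv5 D198712)
def n222207 : Q := act 2 n198698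
theorem D222207 : act 2 n198698 = n222207 := rfl
theorem F512915 : act 3 n222207 = n198726 := d0_2 D198698 D222207 (iv2 D198726) (iv3 D109903) (iv2 F202495)
theorem F512916 : act 4 n222207 = n205464 := d1_2 (iv4 F408923) D222207 (iv2 D205464)
theorem F512917 : act 6 n222207 = n220897 := d3_2 F482003 D222207 F506143
theorem F512918 : act 7 n222207 = n198729 := d4_2 (iv7 F408924) D222207 (iv2 D198729)
theorem F512919 : act 1 n222207 = n198707 := d15_0 (iv0 F408948) (iv7 F408924) D222207
theorem F512920 : act 1 n198728 = n222207 := d15_0 F512919 (iv7 F456880) F456877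
def n222208 : Q := act 5 n198702
theorem D222208 : act 5 n198702 = n222208 := rfl
theorem F512921 : act 2 n222208 = n199456 := d2_1 D222208 (iv5 D199456) (iv2 F408934)
theorem F512922 : act 3 n222208 = n219633 := d6_1 D222208 F499769 F465933
theorem F512923 : act 6 n222208 = n219633 := d12_2 F477108 D222208 F499769 F465934 (iv5 F477111)
theorem F512924 : act 7 n222208 = n217018 := d13_2 F414295 D222208 F487008
theorem F512925 : act 4 n222208 = n212337 := d16_2 D198702 D222208 (iv5 D212337) (iv4 F425521) F425522 (iv4 F377990) F377991 F230604 (iv2 F230602)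
theorem F512926 : act 1 n222208 = n199711 := d17_6 (iv1 D111822) (iv5 F169904) (iv1 F320034) F320036 D198702 D222208 (iv5 F460163) (iv0 F460166) (iv4 D199841)
def n222209 : Q := act 5 n198704
theorem D222209 : act 5 n198704 = n222209 := rfl
theorem F512927 : act 2 n222209 = n217018 := d2_1 D222209 F487008 F414292
theorem F512928 : act 3 n222209 = n199461 := d6_1 D222209 F412290 (iv3 F408938)
theorem F512929 : act 4 n222209 = n202897 := d9_1 D222209 (iv5 D202897) F183421 (iv5 F182682) (iv4 F320035) F320036 D198702 D222208 F512925 (iv5 D212337) (iv4 F425521) F425522 (iv4 F377990) F377991 D198704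
theorem F512930 : act 7 n222209 = n199456 := d13_2 (iv7 F408939) D222209 (iv5 D199456)
theorem F512931 : act 0 n222209 = n199711 := d17_2 F417449 D222209 (iv5 F460163) F460162 F382072 F381990 (iv5 F381992) D200046 (iv4 F417447)
theorem F512932 : act 6 n217016 = n222209 := d21_5 F384506 D208802 (iv5 F450946) F430704 (iv1 F487002) (iv5 D222209) F408940 D199699 (iv6 F499572) (iv1 D219585)
def n222210 : Q := act 5 n198705
theorem D222210 : act 5 n198705 = n222210 := rfl
theorem F512933 : act 2 n222210 = n215135 := d2_1 D222210 (iv5 D215135) (iv2 F408942)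
theorem F512934 : act 6 n222210 = n219216 := d12_2 D198705 D222210 F497767 (iv6 D218677) F377991
theorem F512935 : act 7 n222210 = n221990 := d13_2 F476602 D222210 F511790
theorem F512936 : act 4 n222210 = n204735 := d16_2 F476320 D222210 (iv5 F433427) F405490 D198485 (iv4 F434875) (iv5 D205069) (iv7 F254442) D214670
theorem F512937 : act 0 n222210 = n198730 := d17_2 F408943 D222210 F409008 (iv4 D197941) D197942 (iv0 F474342) (iv5 D204733) F253438 (iv4 F408812)
theorem F512938 : act 0 n222144 = n222210 := d21_10 (iv5 D222210) F409000 (iv5 F408159) D222154 (iv1 F512623) (iv6 D215696) (iv5 D176906) D176903 (iv5 F476353) (iv6 F512583)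
def n222211 : Q := act 5 n198707
theorem D222211 : act 5 n198707 = n222211 := rfl
theorem F512939 : act 2 n222211 = n222147 := d2_1 D222211 F512592 F414335
theorem F512940 : act 3 n222211 = n218916 := d6_1 D222211 (iv5 F496823) F496820
theorem F512941 : act 6 n222211 = n212772 := d12_2 D198707 D222211 F467447 F419568 (iv5 F225648)
theorem F512942 : act 7 n222211 = n222146 := d13_2 F456880 D222211 F512588
theorem F512943 : act 0 n222211 = n222145 := d17_2 F408948 D222211 (iv5 D222145) (iv4 F444303) (iv5 D207316) (iv0 F444293) F442274 (iv0 F407062) F407058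
theorem F512944 : act 1 n222211 = n198733 := d17_6 (iv1 D92201) F323398 D130833 (iv5 F345360) (iv4 F408947) D222211 F409014 (iv0 F407804) (iv4 D188501)
def n222212 : Q := act 5 n198709
theorem D222212 : act 5 n198709 = n222212 := rfl
theorem F512945 : act 2 n222212 = n215947 := d2_1 D222212 (iv5 D215947) F408954
theorem F512946 : act 3 n222212 = n218949 := d6_1 D222212 F496340 F441368
theorem F512947 : act 4 n222212 = n200330 := d9_1 D222212 (iv5 D200330) (iv4 F245518) F314597 F106365 F324181 (iv4 F280585) D216067 F482754 F434487 F316037 F314600 F92469 D124982 (iv4 F408953)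
theorem F512948 : act 7 n222212 = n213750 := d13_2 (iv7 F408952) D222212 (iv5 D213750)
theorem F512949 : act 0 n222212 = n210448 := d17_2 (iv1 F414594) D222212 F457580 F408150 (iv5 D152250) F199892 D85217 (iv0 F348544) (iv4 F414591)
theorem F512950 : act 1 n222212 = n210446 := d17_6 F322692 (iv5 F323618) (iv1 F92290) D124982 (iv4 F408953) D222212 (iv5 F468699) F468702 (iv4 D204983)
theorem F512951 : act 6 n222212 = n218881 := d21_3 F457558 (iv1 F414594) D222212 (iv1 D218881) F379091 (iv5 F245141) (iv1 D130556) D130559 D207168 (iv1 F457561)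
def n222213 : Q := act 4 n198712
theorem D222213 : act 4 n198712 = n222213 := rfl
theorem F512952 : act 3 n222213 = n221375 := d5_1 D222213 (iv4 D221375) (iv3 D196197) D196198 (iv3 F408963)
theorem F512953 : act 0 n222213 = n214975 := d18_2 F477637 D222213 (iv4 D214975) (iv5 D164107) F254712 (iv0 D88662) (iv4 F129323) (iv0 F258597) D214959
theorem F512954 : act 1 n222213 = n214976 := d18_6 (iv1 F414513) F414515 (iv1 F323060) F174734 D198712 D222213 (iv4 D214976) (iv0 F414716) (iv5 D200036)
def n222214 : Q := act 4 n198718
theorem D222214 : act 4 n198718 = n222214 := rfl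
theorem F512955 : act 2 n222214 = n221687 := d1_1 D222214 F510299 (iv2 F495110)
theorem F512956 : act 3 n222214 = n207958 := d5_1 D222214 (iv4 F466277) F466276 (iv4 D198719) D198718
theorem F512957 : act 6 n222214 = n214010 := d10_2 F427673 D222214 F473113
theorem F512958 : act 7 n222214 = n207967 := d11_2 (iv7 F414396) D222214 (iv4 F447189)
theorem F512959 : act 5 n222214 = n207891 := d17_5 (iv1 D109569) D109570 D198555 F427674 D222214 (iv0 F456941) F456939 (iv0 F408335) (iv4 D198553)
theorem F512960 : act 1 n222214 = n219288 := d18_6 (iv1 D219238) D219239 F497893 F482989 F427674 D222214 F498132 F497077 F497888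
def n222215 : Q := act 3 n198723
theorem D222215 : act 3 n198723 = n222215 := rfl
theorem F512961 : act 2 n222215 = n212774 := d0_1 D222215 (iv3 F495595) F495594 (iv3 F495818) F495817
theorem F512962 : act 5 n222215 = n207418 := d6_2 (iv5 F408992) D222215 F444797
theorem F512963 : act 7 n222215 = n207417 := d8_2 F484104 D222215 (iv3 F484102)
theorem F512964 : act 0 n222215 = n212772 := d19_4 (iv1 F413761) (iv5 F495951) F495952 D222215 F467447 F419567 F225655 (iv1 F321821) (iv5 F315599) F60861 F295994 F121355 D17706 D36733 D80519 D167794 (iv5 F344689) (iv4 F362491) (iv3 F413759)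
theorem F512965 : act 0 n212771 = n222215 := d20_4 D190272 D218906 F496130 (iv3 F475767) (iv3 D222215) (iv4 F495952) F498120 F498118 F436736 (iv1 D190271)
def n222216 : Q := act 6 n198723
theorem D222216 : act 6 n198723 = n222216 := rfl
theorem F512966 : act 2 n222216 = n222136 := d3_1 D222216 F512535 F495817
theorem F512967 : act 4 n222216 = n222094 := d10_1 D222216 F512328 F495952
theorem F512968 : act 7 n222216 = n219150 := d14_2 F484104 D222216 (iv6 D219150) F381369 (iv6 F484103)
theorem F512969 : act 0 n219195 = n222216 := d18_2 F495641 (iv4 F497672) F512967 (iv5 D222094) (iv4 F472287) (iv0 D195399) (iv4 F219363) D209315 (iv5 F488583)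
def n222217 : Q := act 5 n198728
theorem D222217 : act 5 n198728 = n222217 := rfl
theorem F512970 : act 2 n222217 = n222146 := d2_1 D222217 F512588 F456877
theorem F512971 : act 3 n222217 = n214880 := d6_1 D222217 F477256 F409005
theorem F512972 : act 7 n222217 = n222147 := d13_2 (iv7 F414338) D222217 F512592
theorem F512973 : act 0 n222217 = n198733 := d17_2 (iv1 F512920) D222217 F409014 F407801 D200084 (iv0 F444261) (iv5 F476677) (iv0 F476680) (iv4 F512916)
theorem F512974 : act 1 n222217 = n222145 := d17_6 F298620 (iv5 F323631) (iv1 F346125) (iv5 F346121) (iv4 F409004) D222217 (iv5 D222145) F408139 (iv4 D188500)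
def n222218 : Q := act 2 n198730
theorem D222218 : act 2 n198730 = n222218 := rfl
theorem F512975 : act 3 n222218 = n222145 := d0_2 D198730 D222218 F512585 F408148 F170701
theorem F512976 : act 5 n222218 = n219049 := d2_2 (iv5 F409008) D222218 (iv2 F496895)
theorem F512977 : act 7 n222218 = n222144 := d4_2 (iv7 F409009) D222218 F512581
theorem F512978 : act 1 n222218 = n215135 := d15_0 (iv0 F478539) (iv7 F409009) D222218
theorem F512979 : act 1 n221990 = n222218 := d15_0 F512978 F478537 (iv2 F511788)
theorem F512980 : act 6 n222218 = n216874 := d21_5 F495606 F414395 (iv5 F381608) (iv6 F478536) (iv1 F512978) (iv5 D216874) F468379 (iv5 F480284) F480285 (iv1 F495604)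
def n222219 : Q := act 6 n198730
theorem D222219 : act 6 n198730 = n222219 := rfl
theorem F512981 : act 2 n222219 = n216874 := d3_1 D222219 (iv6 F512980) (iv2 D222218)
theorem F512982 : act 3 n222219 = n198732 := d7_1 D222219 (iv6 D198732) D198730
theorem F512983 : act 4 n222219 = n217017 := d10_1 D222219 (iv6 F487005) F476327
theorem F512984 : act 5 n222219 = n214323 := d12_1 D222219 F498352 (iv5 F511785) (iv6 D221989) (iv5 F409008)
theorem F512985 : act 7 n222219 = n219632 := d14_2 (iv7 F409009) D222219 F499764 F476339 F434873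
theorem F512986 : act 0 n222219 = n218652 := d21_10 (iv5 D218652) (iv1 D189764) D189765 F394961 (iv1 F381639) D218791 (iv5 F496889) F496891 (iv5 F409008) D222219
theorem F512987 : act 0 n218651 = n222219 := d21_4 F512740 (iv1 D202860) D202861 (iv6 F494969) (iv6 D222219) F409008 F406253 D214876 F477233 (iv1 F512743)
def n222220 : Q := act 6 n198731
theorem D222220 : act 6 n198731 = n222220 := rfl
theorem F512988 : act 2 n222220 = n222151 := d3_1 D222220 (iv6 D222151) (iv2 F409010)
theorem F512989 : act 3 n222220 = n219632 := d7_1 D222220 F499764 F476338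
theorem F512990 : act 4 n222220 = n198732 := d10_1 D222220 (iv6 D198732) D198731
theorem F512991 : act 5 n222220 = n218749 := d12_1 D222220 F495475 F482327 (iv6 F447520) F447519
theorem F512992 : act 7 n222220 = n198732 := d14_2 (iv7 F409011) D222220 (iv6 D198732) F170703 (iv6 F409020)
theorem F512993 : act 1 n219067 = n222220 := d15_1 F497035 F512992 F409013
theorem F512994 : act 1 n222220 = n219070 := d15_1 F512993 F497019 (iv2 F497000)
def n222221 : Q := act 2 n198733
theorem D222221 : act 2 n198733 = n222221 := rfl
theorem F512995 : act 3 n222221 = n222144 := d0_2 D198733 D222221 F512581 F408138 (iv2 F170700)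
theorem F512996 : act 5 n222221 = n208540 := d2_2 (iv5 F409014) D222221 F449792
theorem F512997 : act 7 n222221 = n222145 := d4_2 (iv7 F409015) D222221 F512585
theorem F512998 : act 1 n222221 = n222146 := d15_0 (iv0 D222146) (iv7 F409015) D222221
theorem F512999 : act 1 n222147 = n222221 := d15_0 F512998 (iv7 F512942) F512939
def n222222 : Q := act 4 n198733
theorem D222222 : act 4 n198733 = n222222 := rfl
theorem F513000 : act 3 n222222 = n219610 := d5_1 D222222 F499670 F498264 (iv4 D198734) D198733
theorem F513001 : act 5 n222222 = n219609 := d9_2 (iv5 F409014) D222222 (iv4 F502268) F502269 (iv4 D207315) D207316 F444303 D222145 F512587 (iv5 D220160) F388551 (iv5 F338484) (iv4 F414955) (iv5 D200084) (iv4 F407801)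
theorem F513002 : act 6 n222222 = n219610 := d10_2 F498265 D222222 F499670
theorem F513003 : act 7 n222222 = n222148 := d11_2 (iv7 F409015) D222222 (iv4 D222148)
theorem F513004 : act 0 n222222 = n209625 := d18_2 F512973 D222222 (iv4 F478151) F478147 F439496 (iv0 F407062) F407058 D198728 D222217
theorem F513005 : act 1 n222222 = n209616 := d18_6 F257646 (iv4 F262473) F357776 (iv4 F407801) (iv5 F409014) D222222 (iv4 F476691) F476692 (iv5 D165881)
def n222223 : Q := act 5 n198738
theorem D222223 : act 5 n198738 = n222223 := rfl
theorem F513006 : act 3 n222223 = n198739 := d6_1 D222223 (iv5 D198739) D198738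
theorem F513007 : act 7 n222223 = n200780 := d13_2 (iv7 F409031) D222223 (iv5 D200780)
theorem F513008 : act 4 n222223 = n208197 := d16_2 (iv4 F409029) D222223 (iv5 D208197) (iv4 D133662) (iv5 F165960) F373521 (iv5 F373522) (iv7 F358157) (iv2 F358158)
def n222224 : Q := act 5 n198740
theorem D222224 : act 5 n198740 = n222224 := rfl
theorem F513009 : act 3 n222224 = n217401 := d6_1 D222224 F488742 F477468
theorem F513010 : act 4 n222224 = n204751 := d9_1 D222224 F433467 F216977 D205997 (iv4 F438753) (iv5 F488867) (iv4 F512568) F512567 (iv4 D220293) (iv5 D193301) D193300 D220291 F503059 (iv5 F489045) (iv4 F489048)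
theorem F513011 : act 6 n222224 = n198741 := d12_2 D198740 D222224 (iv5 D198741) (iv6 D109918) D109917
def n222225 : Q := act 4 n198744
theorem D222225 : act 4 n198744 = n222225 := rfl
theorem F513012 : act 2 n222225 = n218544 := d1_1 D222225 F494391 F414521
theorem F513013 : act 3 n222225 = n218413 := d5_1 D222225 (iv4 D218413) F377533 F377531 (iv3 F409045)
theorem F513014 : act 5 n222225 = n218544 := d9_2 D198744 D222225 F494391 (iv5 D199993) F174384 (iv5 F325609) (iv4 F169768) D198688 D222206 F512912 F494243 (iv5 D200036) F174645 F326183 (iv4 F170062)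
theorem F513015 : act 7 n222225 = n218515 := d11_2 F414715 D222225 F494243
theorem F513016 : act 0 n222225 = n218545 := d17_0 F494398 F480885 (iv5 F477762) F477761 F258641 (iv0 F297268) D203879 F430208 D222225
theorem F513017 : act 1 n222225 = n218537 := d18_6 (iv1 F362590) (iv4 D164123) F326182 (iv4 F170062) D198744 D222225 F494354 F477638 (iv5 D198636)
def n222226 : Q := act 3 n198749
theorem D222226 : act 3 n198749 = n222226 := rfl
theorem F513018 : act 2 n222226 = n200480 := d0_1 D222226 (iv3 D200480) (iv2 D113173) D113174 F409068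
theorem F513019 : act 4 n222226 = n205289 := d5_2 (iv4 F409066) D222226 (iv3 D205289) (iv4 F380250) F380249
theorem F513020 : act 5 n222226 = n212779 := d6_2 F429251 D222226 F467461
theorem F513021 : act 6 n222226 = n206249 := d7_2 (iv6 F409067) D222226 F439922
theorem F513022 : act 7 n222226 = n200491 := d8_2 F409069 D222226 F416696
theorem F513023 : act 0 n222226 = n200474 := d19_4 D127697 F205299 (iv4 F409066) D222226 (iv5 F502037) F502036 F388170 D192906 F388174 F417328 (iv3 D200641) (iv1 D113308) (iv5 D52302) (iv4 F82670) (iv3 D52295) F40178 D50998 F80449 (iv3 F94440)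
theorem F513024 : act 0 n200490 = n222226 := d20_4 (iv4 F170501) D198792 (iv4 F455855) F455856 (iv3 D222226) F409066 (iv1 F174299) (iv4 F170594) (iv3 F175408) (iv1 F175412)
def n222227 : Q := act 6 n198767
theorem D222227 : act 6 n198767 = n222227 := rfl
theorem F513025 : act 2 n222227 = n198779 := d3_1 D222227 (iv6 D198779) (iv2 F409145)
theorem F513026 : act 3 n222227 = n210669 := d7_1 D222227 (iv6 D210669) (iv3 F409146)
theorem F513027 : act 4 n222227 = n198771 := d10_1 D222227 (iv6 D198771) (iv4 F409147)
theorem F513028 : act 5 n222227 = n208852 := d12_1 D222227 (iv6 F460716) F460713 (iv6 D199773) (iv5 F409148)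
theorem F513029 : act 7 n222227 = n203778 := d14_2 D198767 D222227 (iv6 F450885) F450882 (iv6 D198766)
theorem F513030 : act 0 n222227 = n203780 := d21_4 F337492 (iv1 F364121) (iv5 F409148) D222227 F429780 (iv5 D199034) (iv1 F171741) D110885 (iv6 F407527) (iv1 F407529)
theorem F513031 : act 0 n203714 = n222227 := d21_4 F299050 (iv1 F115447) D120321 D203714 (iv6 D222227) F409148 (iv1 D111716) (iv5 F169147) F337489 F301825
def n222228 : Q := act 0 n198769
theorem D222228 : act 0 n198769 = n222228 := rfl
theorem F513032 : act 5 n222228 = n216011 := d17_1 D222228 (iv1 F509880) (iv5 D221614) (iv4 F423389) D202255 F500498 (iv5 D137648) D137646 (iv4 F409156)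
theorem F513033 : act 3 n222228 = n220267 := d20_5 F241035 F307171 (iv4 F330094) (iv3 F409154) D222228 F502945 F419976 F241493 (iv3 D153457) D153455
theorem F513034 : act 6 n222228 = n199819 := d21_5 (iv5 D124438) F326984 D110167 (iv6 F409155) D222228 F413636 (iv1 F407722) D198359 F433748 (iv1 D204829)
theorem F513035 : act 2 n220264 = n222228 := d15_3 (iv0 D222228) (iv0 F504224) F504223
theorem F513036 : act 1 n210127 = n222228 := d15_0 (iv0 D222228) (iv7 F473854) (iv2 F473855)
def n222229 : Q := act 5 n198779
theorem D222229 : act 5 n198779 = n222229 := rfl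
theorem F513037 : act 2 n222229 = n208852 := d2_1 D222229 (iv5 F513028) F513025
theorem F513038 : act 3 n222229 = n218150 := d6_1 D222229 F492381 (iv3 F409200)
theorem F513039 : act 4 n222229 = n203620 := d9_1 D222229 F429105 (iv4 F402304) F402307 (iv4 D196376) D196377 F429773 (iv5 F481855) (iv4 F502615) F502613 F502608 F440340 (iv4 F343156) F343157 (iv4 F409201)
theorem F513040 : act 6 n222229 = n210635 := d12_2 D198779 D222229 F458282 F387613 (iv5 F360066)
theorem F513041 : act 7 n222229 = n208853 := d16_8 (iv4 F502615) F502613 F502608 F440340 (iv4 F343156) F343157 (iv4 F409201) D222229 (iv2 F481854)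
theorem F513042 : act 0 n222229 = n204471 := d17_2 F409202 D222229 F432638 (iv4 F351194) F351117 F351118 (iv5 F351119) (iv0 F398969) F398965
theorem F513043 : act 1 n222229 = n208625 := d17_6 (iv1 D108496) F79289 D106929 F343157 (iv4 F409201) D222229 (iv5 D208625) (iv0 F370501) F370499
def n222230 : Q := act 7 n198779
theorem D222230 : act 7 n198779 = n222230 := rfl
theorem F513044 : act 2 n222230 = n203778 := d4_1 D222230 (iv7 F513029) F513025
theorem F513045 : act 3 n222230 = n217006 := d8_1 D222230 F486964 (iv3 F409200)
theorem F513046 : act 4 n222230 = n198780 := d11_1 D222230 (iv7 D198780) (iv4 F409201)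
theorem F513047 : act 5 n222230 = n208853 := d13_1 D222230 (iv7 F513041) (iv5 D222229)
theorem F513048 : act 6 n222230 = n208788 := d14_1 D222230 F450880 (iv6 F447575) F409078 D198779
theorem F513049 : act 1 n203714 = n222230 := d15_1 (iv0 F513031) (iv7 D222230) (iv2 F513025)
theorem F513050 : act 1 n222230 = n203780 := d15_1 F513049 (iv7 D203780) (iv2 F429515)
def n222231 : Q := act 4 n198791
theorem D222231 : act 4 n198791 = n222231 := rfl
theorem F513051 : act 3 n222231 = n202590 := d5_1 D222231 F424649 F181215 (iv4 F341349) (iv3 F409256)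

end Cfsg.Agent.Helper17.ONTC
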