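import Cfsg.Agent.Helper17.ONTC.Facts5

set_option autoImplicit false
set_option linter.all false

noncomputable section

namespace Cfsg.Agent.Helper17.ONTC

theorem E4714 : n14457 = n14326 := ((c11_2 (iv7 F37119) F37120 (iv7 F24108) D14464)).symm
theorem F37121 : act 2 n14326 = n6910 := (sb E4714 (iv2 D14457))
theorem F37122 : act 7 n14326 = n6911 := (sb E4714 (iv7 F24108))
theorem F37123 : act 2 n23805 = n14459 := d1_1 (iv4 F37120) (iv4 D14459) (iv2 F37121)
theorem F37124 : act 1 n11768 = n14464 := d15_1 F24109 (iv7 F37119) F37123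
theorem E4715 : n14462 = n14327 := (c15_4 F23936 F23940 F37122 (iv2 F24110))
theorem F37125 : act 2 n14327 = n6911 := (sb E4715 F24110)
theorem F37126 : act 7 n14327 = n6910 := (sb E4715 (iv7 D14462))
def n23806 : Q := act 4 n11160
theorem D23806 : act 4 n11160 = n23806 := rfl
def n23807 : Q := act 6 n11160
theorem D23807 : act 6 n11160 = n23807 := rfl
def n23808 : Q := act 3 n11161
theorem D23808 : act 3 n11161 = n23808 := rfl
theorem F37127 : act 5 n23808 = n14161 := d6_2 F24295 D23808 F24290
theorem F37128 : act 0 n14776 = n23808 := d17_2 F18862 D14776 F37127 F23678 F18868 F18867 F8216 F8210 D11553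
def n23809 : Q := act 4 n11161
theorem D23809 : act 4 n11161 = n23809 := rfl
def n23810 : Q := act 6 n11161
theorem D23810 : act 6 n11161 = n23810 := rfl
def n23811 : Q := act 0 n11162
theorem D23811 : act 0 n11162 = n23811 := rfl
def n23812 : Q := act 1 n11162
theorem D23812 : act 1 n11162 = n23812 := rfl
def n23813 : Q := act 3 n11162
theorem D23813 : act 3 n11162 = n23813 := rfl
theorem F37129 : act 4 n23813 = n11167 := d5_2 D11162 D23813 (iv3 D11167) (iv4 D5102) (iv3 F7584)
def n23814 : Q := act 5 n11162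
theorem D23814 : act 5 n11162 = n23814 := rfl
def n23815 : Q := act 7 n11162
theorem D23815 : act 7 n11162 = n23815 := rfl
theorem F37130 : act 4 n23815 = n11163 := d11_1 D23815 (iv7 D11163) D11162
def n23816 : Q := act 6 n11163
theorem D23816 : act 6 n11163 = n23816 := rfl
theorem F37131 : act 3 n23816 = n11169 := d7_1 D23816 (iv6 D11169) (iv3 F18115)
theorem F37132 : act 5 n23816 = n23816 := d12_1 D23816 (iv6 D23816) F18116 F7586 (iv5 F18116)
def n23817 : Q := act 4 n11164
theorem D23817 : act 4 n11164 = n23817 := rfl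
theorem F37133 : act 3 n23817 = n14716 := d5_1 D23817 (iv4 D14716) (iv3 D7020) (iv4 F8236) D11164
theorem F37134 : act 7 n23817 = n13513 := d11_2 (iv7 F18118) D23817 (iv4 D13513)
def n23818 : Q := act 6 n11164
theorem D23818 : act 6 n11164 = n23818 := rfl
theorem F37135 : act 3 n23818 = n11165 := d7_1 D23818 (iv6 D11165) D11164
def n23819 : Q := act 0 n11165
theorem D23819 : act 0 n11165 = n23819 := rfl
def n23820 : Q := act 1 n11165
theorem D23820 : act 1 n11165 = n23820 := rfl
theorem F37136 : act 1 n23820 = n13511 := d15_1 D23820 (iv7 D13511) (iv2 F18119)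
def n23821 : Q := act 7 n11165
theorem D23821 : act 7 n11165 = n23821 := rfl
theorem F37137 : act 2 n23821 = n13511 := d4_1 D23821 (iv7 D13511) (iv2 F18119)
theorem F37138 : act 4 n23821 = n14725 := d11_1 D23821 (iv7 D14725) (iv4 F18120)
theorem F37139 : act 5 n23821 = n13995 := d13_1 D23821 F23329 F22991
theorem F37140 : act 6 n23821 = n13517 := d14_1 D23821 (iv7 D13517) (iv6 D6427) F7588 D11165
theorem F37141 : act 1 n13511 = n23819 := d15_0 (iv0 D23819) D23821 F37137
theorem F37142 : act 1 n13509 = n23821 := d15_1 D13509 (iv7 D23821) F18119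
theorem F37143 : act 1 n23821 = n13508 := d15_0 (iv0 D13508) D13511 (iv2 F37137)
def n23822 : Q := act 0 n11166
theorem D23822 : act 0 n11166 = n23822 := rfl
def n23823 : Q := act 1 n11166
theorem D23823 : act 1 n11166 = n23823 := rfl
theorem F37144 : act 1 n23823 = n13517 := d15_1 D23823 (iv7 D13517) (iv2 F18121)
theorem F37145 : act 5 n23823 = n13516 := d21_0 (iv1 D13516) (iv5 F11972) (iv6 D7700) (iv1 F10802) (iv6 F23324) (iv5 D13996) D13995 (iv5 F37139) F37140 (iv1 F37144)
def n23824 : Q := act 7 n11166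
theorem D23824 : act 7 n11166 = n23824 := rfl
theorem F37146 : act 2 n23824 = n13517 := d4_1 D23824 (iv7 D13517) (iv2 F18121)
theorem F37147 : act 4 n23824 = n14736 := d11_1 D23824 (iv7 D14736) (iv4 F18122)
theorem F37148 : act 6 n23824 = n13511 := d14_1 D23824 (iv7 D13511) (iv6 D6425) (iv7 F7591) D11166
theorem F37149 : act 1 n13517 = n23822 := d15_0 (iv0 D23822) D23824 F37146
theorem F37150 : act 1 n13516 = n23824 := d15_1 D13516 (iv7 D23824) F18121
theorem F37151 : act 5 n13515 = n23822 := d21_0 (iv1 F37149) (iv5 F26242) F26243 (iv1 D14821) (iv6 D7062) (iv5 F8717) (iv1 F8719) F5483 D6427 D13515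
theorem F37152 : act 1 n23824 = n13515 := d15_0 (iv0 D13515) D13517 (iv2 F37146)
def n23825 : Q := act 0 n11167
theorem D23825 : act 0 n11167 = n23825 := rfl
def n23826 : Q := act 1 n11167
theorem D23826 : act 1 n11167 = n23826 := rfl
def n23827 : Q := act 2 n11167
theorem D23827 : act 2 n11167 = n23827 := rfl
theorem F37153 : act 3 n23827 = n13520 := d0_2 D11167 D23827 (iv2 D13520) (iv3 D6428) (iv2 F7602)
def n23828 : Q := act 5 n11167
theorem D23828 : act 5 n11167 = n23828 := rfl
theorem F37154 : act 3 n23828 = n11168 := d6_1 D23828 (iv5 D11168) D11167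
theorem F37155 : act 7 n23828 = n13573 := d13_2 F24345 D23828 (iv5 F24344)
def n23829 : Q := act 6 n11168
theorem D23829 : act 6 n11168 = n23829 := rfl
theorem F37156 : act 2 n23829 = n13523 := d3_1 D23829 (iv6 D13523) (iv2 F18123)
theorem F37157 : act 4 n23829 = n13578 := d10_1 D23829 (iv6 D13578) (iv4 F18125)
def n23830 : Q := act 0 n11169
theorem D23830 : act 0 n11169 = n23830 := rfl
theorem F37158 : act 1 n11429 = n23830 := d15_0 (iv0 D23830) (iv7 F18793) F18791
def n23831 : Q := act 1 n11169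
theorem D23831 : act 1 n11169 = n23831 := rfl
theorem F37159 : act 1 n23831 = n11429 := d15_1 D23831 F18675 (iv2 F18126)
def n23832 : Q := act 6 n11170
theorem D23832 : act 6 n11170 = n23832 := rfl
theorem F37160 : act 3 n23832 = n11171 := d7_1 D23832 (iv6 D11171) D11170
theorem F37161 : act 7 n23832 = n16605 := d14_2 (iv7 F18128) D23832 (iv6 D16605) (iv7 F18701) F18700
def n23833 : Q := act 3 n11172
theorem D23833 : act 3 n11172 = n23833 := rfl
theorem F37162 : act 4 n23833 = n11173 := d5_2 D11172 D23833 (iv3 D11173) (iv4 D5112) (iv3 F7623)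
theorem F37163 : act 6 n23833 = n16600 := d7_2 F18422 D23833 F27086
theorem F37164 : act 7 n23833 = n13529 := d8_2 (iv7 F18133) D23833 (iv3 D13529)
def n23834 : Q := act 0 n11173
theorem D23834 : act 0 n11173 = n23834 := rfl
theorem F37165 : act 3 n23834 = n14876 := d20_5 (iv4 F5178) F4383 D5112 D11173 D23834 (iv4 D14876) (iv1 D7081) F5177 (iv3 D3231) D3229
theorem F37166 : act 1 n13535 = n23834 := d15_0 (iv0 D23834) F18136 D13535
def n23835 : Q := act 1 n11173
theorem D23835 : act 1 n11173 = n23835 := rfl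
def n23836 : Q := act 2 n11173
theorem D23836 : act 2 n11173 = n23836 := rfl
theorem F37167 : act 3 n23836 = n13546 := d0_2 D11173 D23836 (iv2 D13546) (iv3 D6446) (iv2 F7626)
theorem F37168 : act 6 n23836 = n16599 := d3_2 (iv6 F18135) D23836 (iv2 D16599)
theorem F37169 : act 7 n23836 = n13535 := d4_2 (iv7 F18136) D23836 (iv2 D13535)
theorem F37170 : act 1 n23836 = n13533 := d15_0 (iv0 D13533) (iv7 F18136) D23836
theorem F37171 : act 1 n23835 = n13535 := d15_1 D23835 (iv7 F37169) (iv2 D23836)
theorem F37172 : act 1 n13534 = n23836 := d15_1 D13534 F37169 (iv2 D13535)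
def n23837 : Q := act 0 n11175
theorem D23837 : act 0 n11175 = n23837 := rfl
theorem F37173 : act 2 n11179 = n23837 := d15_3 (iv0 D23837) (iv0 D11175) D11179
theorem F37174 : act 3 n23837 = n13553 := d0_2 (iv3 F18141) F37173 (iv2 F22722) F10527 (iv2 F7636)
theorem F37175 : act 7 n23837 = n11177 := d4_2 D11179 F37173 (iv2 D11177)
theorem F37176 : act 1 n11176 = n23837 := d15_1 D11176 F37175 (iv2 D11177)
def n23838 : Q := act 2 n11175
theorem D23838 : act 2 n11175 = n23838 := rfl
theorem F37177 : act 7 n11176 = n23838 := d15_2 (iv0 D11175) D11176 (iv2 D23838)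
def n23839 : Q := act 3 n11175
theorem D23839 : act 3 n11175 = n23839 := rfl
theorem F37178 : act 4 n23839 = n13564 := d20_6 F5145 (iv1 D2106) D2107 D5118 D11175 D23839 (iv1 F22728) F10528 F5305 (iv1 F3940)
def n23840 : Q := act 4 n11175
theorem D23840 : act 4 n11175 = n23840 := rfl
def n23841 : Q := act 5 n11175
theorem D23841 : act 5 n11175 = n23841 := rfl
def n23842 : Q := act 6 n11175
theorem D23842 : act 6 n11175 = n23842 := rfl
def n23843 : Q := act 7 n11175
theorem D23843 : act 7 n11175 = n23843 := rfl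
theorem F37179 : act 2 n23843 = n11176 := d4_1 D23843 F37177 (iv2 D23838)
def n23844 : Q := act 3 n11176
theorem D23844 : act 3 n11176 = n23844 := rfl
def n23845 : Q := act 4 n11176
theorem D23845 : act 4 n11176 = n23845 := rfl
def n23846 : Q := act 5 n11176
theorem D23846 : act 5 n11176 = n23846 := rfl
def n23847 : Q := act 6 n11176
theorem D23847 : act 6 n11176 = n23847 := rfl
def n23848 : Q := act 0 n11177
theorem D23848 : act 0 n11177 = n23848 := rfl
theorem F37180 : act 1 n11179 = n23848 := d15_0 (iv0 D23848) (iv7 F37175) (iv2 F37173)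
def n23849 : Q := act 1 n11177
theorem D23849 : act 1 n11177 = n23849 := rfl
theorem F37181 : act 1 n23849 = n11179 := d15_1 D23849 (iv7 D11179) D11177
theorem F37182 : act 3 n13561 = n23849 := d20_3 (iv4 F22723) (iv1 F22725) D13561 (iv1 D23849) F18138 F10524 F24779 (iv4 F24780) (iv3 D7191) D7189
def n23850 : Q := act 5 n11177
theorem D23850 : act 5 n11177 = n23850 := rfl
theorem F37183 : act 2 n23850 = n11178 := d2_1 D23850 (iv5 D11178) D11177
theorem F37184 : act 3 n23850 = n13566 := d6_1 D23850 (iv5 D13566) (iv3 F18138)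
def n23851 : Q := act 0 n11178
theorem D23851 : act 0 n11178 = n23851 := rfl
def n23852 : Q := act 1 n11178
theorem D23852 : act 1 n11178 = n23852 := rfl
def n23853 : Q := act 4 n11178
theorem D23853 : act 4 n11178 = n23853 := rfl
def n23854 : Q := act 6 n11178
theorem D23854 : act 6 n11178 = n23854 := rfl
theorem F37185 : act 3 n23854 = n11181 := d7_1 D23854 (iv6 D11181) (iv3 F18140)
theorem F37186 : act 5 n23854 = n11197 := d12_1 D23854 (iv6 D11197) (iv5 D5124) (iv6 F7632) D11178
def n23855 : Q := act 7 n11178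
theorem D23855 : act 7 n11178 = n23855 := rfl
theorem F37187 : act 3 n23855 = n11182 := d8_1 D23855 (iv7 D11182) (iv3 F18140)
theorem F37188 : act 5 n23855 = n11179 := d13_1 D23855 (iv7 D11179) D11178
def n23856 : Q := act 3 n11180
theorem D23856 : act 3 n11180 = n23856 := rfl
theorem F37189 : act 5 n23856 = n13522 := d6_2 (iv5 F18143) D23856 F22665
theorem F37190 : act 7 n23856 = n13521 := d8_2 F18144 D23856 F22664
def n23857 : Q := act 6 n11180
theorem D23857 : act 6 n11180 = n23857 := rfl
theorem F37191 : act 2 n23857 = n13574 := d3_1 D23857 (iv6 D13574) (iv2 F18142)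
theorem F37192 : act 4 n23857 = n11181 := d10_1 D23857 (iv6 D11181) D11180
def n23858 : Q := act 0 n11181
theorem D23858 : act 0 n11181 = n23858 := rfl
def n23859 : Q := act 1 n11181
theorem D23859 : act 1 n11181 = n23859 := rfl
theorem F37193 : act 1 n23859 = n13577 := d15_1 D23859 (iv7 D13577) (iv2 F18145)
theorem F37194 : act 5 n16826 = n23859 := d21_6 (iv5 D1476) D1473 D3332 D7241 F30054 D16826 (iv1 D23859) F18146 (iv6 D5125) F3438
theorem E4716 : n13298 = n11198 := ((c17_9 (iv1 F9819) D8816 (iv1 F22106) (iv5 F22107) (iv4 F27578) F37194 F37193 F22739 F18169 (iv4 D13298))).symm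
theorem F37195 : act 4 n11198 = n6309 := (sb E4716 (iv4 D13298))
def n23860 : Q := act 7 n11181
theorem D23860 : act 7 n11181 = n23860 := rfl
theorem F37196 : act 2 n23860 = n13577 := d4_1 D23860 (iv7 D13577) (iv2 F18145)
theorem F37197 : act 5 n23860 = n11200 := d13_1 D23860 (iv7 D11200) (iv5 F18146)
theorem F37198 : act 1 n13577 = n23858 := d15_0 (iv0 D23858) D23860 F37196
theorem F37199 : act 1 n13576 = n23860 := d15_1 D13576 (iv7 D23860) F18145
theorem F37200 : act 1 n23860 = n13575 := d15_0 (iv0 D13575) D13577 (iv2 F37196)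
def n23861 : Q := act 6 n11182
theorem D23861 : act 6 n11182 = n23861 := rfl
theorem F37201 : act 2 n23861 = n13578 := d3_1 D23861 (iv6 D13578) (iv2 F18147)
theorem F37202 : act 4 n23861 = n13523 := d10_1 D23861 (iv6 D13523) (iv4 F18148)
def n23864 : Q := act 3 n11183
theorem D23864 : act 3 n11183 = n23864 := rfl
theorem F37205 : act 7 n23864 = n11189 := d8_2 F18152 D23864 (iv3 D11189)
def n23865 : Q := act 4 n11183
theorem D23865 : act 4 n11183 = n23865 := rfl
theorem F37206 : act 2 n23865 = n11185 := d1_1 D23865 (iv4 D11185) D11183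
theorem F37207 : act 7 n23865 = n11190 := d11_2 F18152 D23865 (iv4 D11190)
def n23866 : Q := act 5 n11183
theorem D23866 : act 5 n11183 = n23866 := rfl
theorem F37208 : act 2 n23866 = n11186 := d2_1 D23866 (iv5 D11186) D11183
theorem F37209 : act 7 n23866 = n11191 := d13_2 F18152 D23866 (iv5 D11191)
def n23867 : Q := act 6 n11183
theorem D23867 : act 6 n11183 = n23867 := rfl
theorem F37210 : act 2 n23867 = n11187 := d3_1 D23867 (iv6 D11187) D11183
def n23868 : Q := act 2 n11184
theorem D23868 : act 2 n11184 = n23868 := rfl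
theorem F37212 : act 7 n13636 = n23868 := d15_2 F25657 (iv0 F25654) (iv2 D23868)
def n23869 : Q := act 5 n11184
theorem D23869 : act 5 n11184 = n23869 := rfl
theorem F37213 : act 3 n23869 = n11186 := d6_1 D23869 (iv5 D11186) D11184
theorem F37214 : act 0 n23869 = n15808 := d17_2 (iv1 F25657) D23869 (iv5 F26833) F12931 D15632 F26837 (iv5 D7535) D7533 D16130
def n23870 : Q := act 6 n11184
theorem D23870 : act 6 n11184 = n23870 := rfl
theorem F37215 : act 3 n23870 = n11187 := d7_1 D23870 (iv6 D11187) D11184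
theorem F37216 : act 4 n23870 = n13634 := d10_1 D23870 (iv6 D13634) (iv4 F18153)
def n23871 : Q := act 7 n11184
theorem D23871 : act 7 n11184 = n23871 := rfl
theorem F37217 : act 2 n23871 = n13636 := d4_1 D23871 F37212 (iv2 D23868)
theorem F37218 : act 3 n23871 = n11188 := d8_1 D23871 (iv7 D11188) D11184
theorem F37219 : act 4 n23871 = n13635 := d11_1 D23871 (iv7 D13635) (iv4 F18153)
def n23872 : Q := act 0 n11185
theorem D23872 : act 0 n11185 = n23872 := rfl
theorem F37220 : act 4 n23872 = n12612 := d20_2 D11185 D23872 (iv3 D12612) (iv1 D5990) (iv3 D2527) F2153 F1590 D1041 D2109 D5121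
theorem F37221 : act 2 n16039 = n23872 := d1_3 F37220 (iv2 F25151) (iv4 F25577)
theorem F37222 : act 7 n15916 = n23872 := d11_0 F37220 F25544 D15916
def n23873 : Q := act 1 n11185
theorem D23873 : act 1 n11185 = n23873 := rfl
theorem F37223 : act 1 n23873 = n11190 := d15_1 D23873 (iv7 F37207) F37206
theorem F37224 : act 7 n23873 = n16039 := d15_2 (iv0 D23872) D23873 F37221
theorem F37225 : act 4 n12647 = n23873 := d20_6 (iv4 F11770) (iv1 F11776) (iv4 D3439) D3438 D7548 F21062 (iv1 D23873) (iv4 D11185) D11184 F25656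
theorem F37226 : act 2 n23873 = n15916 := d1_1 F37225 (iv4 D15916) F25374
theorem F37227 : act 3 n23873 = n12166 := d5_1 F37225 (iv4 F20904) (iv3 D12548) (iv4 F11782) F21062
theorem E4717 : n16873 = n5122 := (c20_6 (iv4 F11794) (iv1 F11812) (iv4 D7366) D7365 D15651 (iv3 F27644) D11190 (iv1 F37223) (iv4 F37225) (iv3 F21062) F11792)
theorem E4718 : n11188 = n7865 := (((iv2 F18154)).symm.trans (sb E4717 (iv2 D16873)))
theorem E4719 : n15651 = n11189 := (((D11189).symm.trans (sb E4717 F27644))).symm
theorem E4720 : n11183 = n7866 := ((F18152).symm.trans (sb E4717 (iv7 F27631)))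
theorem F37228 : act 2 n7865 = n5122 := (sb E4718 F18154)
theorem E4723 : n23871 = n6482 := (((F12431).symm.trans (sb E4718 (iv3 F37218)))).symm
theorem E4724 : n16877 = n5121 := ((D16877).symm.trans (sb E4718 (iv7 D11188)))
theorem F37229 : act 0 n11189 = n16036 := (sb E4719 (iv1 F25528))
theorem F37230 : act 1 n11189 = n7365 := (sb E4719 (iv0 D15651))
theorem E4725 : n23864 = n16878 := (((iv7 F37205)).symm.trans (sb E4719 F27643))
theorem E4726 : n23865 = n16879 := (((D16879).symm.trans (sb E4720 D23865))).symm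
theorem E4727 : n23866 = n16880 := (((D16880).symm.trans (sb E4720 D23866))).symm
theorem E4728 : n23867 = n16881 := (((D16881).symm.trans (sb E4720 D23867))).symm
theorem F37231 : act 7 n7866 = n5122 := (sb E4720 (iv7 F18152))
theorem E4729 : n13636 = n13606 := ((((iv2 F22788)).symm.trans (sb E4723 F37217))).symm
theorem E4730 : n13635 = n2885 := ((((iv4 D6482)).symm.trans (sb E4723 F37219))).symm
theorem E4731 : n13592 = n11184 := (((iv7 F22777)).symm.trans (sb E4723 (iv7 D23871)))
theorem F37232 : act 2 n5121 = n7866 := (sb E4724 F27637)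
theorem F37233 : act 7 n5121 = n7865 := (sb E4724 (iv7 D16877))
theorem F37234 : act 7 n16878 = n11189 := (sb E4725 F37205)
theorem F37235 : act 2 n16879 = n11185 := (sb E4726 F37206)
theorem F37236 : act 7 n16879 = n11190 := (sb E4726 F37207)
theorem F37237 : act 2 n16880 = n11186 := (sb E4727 F37208)
theorem F37238 : act 7 n16880 = n11191 := (sb E4727 F37209)
theorem F37239 : act 2 n16881 = n11187 := (sb E4728 F37210)
theorem F37240 : act 0 n13606 = n16130 := (sb E4729 F25654)
theorem F37241 : act 1 n13606 = n7412 := (sb E4729 (iv0 F25290))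
theorem E4732 : n6486 = n6480 := (((F22789).symm.trans (sb E4729 (iv4 D13636)))).symm
theorem E4733 : n23868 = n6477 := ((((iv7 D13606)).symm.trans (sb E4729 F37212))).symm
theorem E4734 : n6485 = n6475 := (((F10553).symm.trans (sb E4730 (iv7 D13635)))).symm
theorem F37242 : act 7 n11184 = n6482 := (sb E4731 F22777)
theorem E4735 : n13590 = n2886 := (((iv1 F22774)).symm.trans (sb E4732 (iv1 D6486)))
theorem E4736 : n13589 = n2888 := ((F22773).symm.trans (sb E4732 F10556))
theorem E4737 : n13600 = n12201 := (((iv3 F22783)).symm.trans (sb E4732 (iv3 F20200)))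
theorem E4738 : n13637 = n13611 := ((((iv5 F22793)).symm.trans (sb E4732 D13637))).symm
theorem F37243 : act 2 n6477 = n11184 := (sb E4733 (iv2 D23868))
theorem E4741 : n13632 = n13591 := (((D13591).symm.trans (sb E4734 D13632))).symm
theorem F37244 : act 4 n6475 = n11184 := (sb E4734 (iv4 F18153))
theorem E4742 : n13633 = n13593 := (((D13593).symm.trans (sb E4734 D13633))).symm
theorem E4743 : n13634 = n13594 := (((D13594).symm.trans (sb E4734 D13634))).symm
theorem F37245 : act 0 n2886 = n6475 := (sb E4735 (iv1 D13590))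
theorem F37246 : act 1 n2886 = n6480 := (sb E4735 F22774)
theorem F37247 : act 0 n2888 = n6480 := (sb E4736 (iv1 F22773))
theorem F37248 : act 1 n2888 = n6475 := (sb E4736 (iv0 D13589))
theorem F37249 : act 3 n12201 = n6480 := (sb E4737 F22783)
theorem F37250 : act 7 n12201 = n6476 := (sb E4737 (iv7 D13600))
theorem F37251 : act 0 n13611 = n15287 := (sb E4738 F25755)
theorem F37252 : act 1 n13611 = n7379 := (sb E4738 F25756)
theorem F37253 : act 0 n13591 = n15937 := (sb E4741 F25658)
theorem F37254 : act 1 n13591 = n7407 := (sb E4741 F25659)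
theorem F37255 : act 0 n13593 = n7379 := (sb E4742 F25753)
theorem F37256 : act 1 n13593 = n15287 := (sb E4742 F25754)
theorem F37257 : act 4 n13594 = n23870 := (sb E4743 (iv4 F37216))
theorem F37258 : act 2 n23870 = n13605 := d1_1 F37257 F22787 (iv2 F22780)
theorem E4744 : n15763 = n13619 := ((c15_4 F25451 (iv0 F37253) F22775 D13619)).symm
theorem F37259 : act 0 n13619 = n7407 := (sb E4744 (iv1 D15763))
theorem F37260 : act 1 n13619 = n15937 := (sb E4744 F25451)
theorem E4745 : n12204 = n12194 := (c11_2 F37250 (iv4 F20201) (iv7 F20197) D12201)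
theorem F37261 : act 0 n12194 = n5785 := (sb E4745 (iv1 F20202))
theorem F37262 : act 1 n12194 = n5783 := (sb E4745 (iv0 D12204))
theorem F37263 : act 4 n12194 = n6476 := (sb E4745 F20201)
theorem E4746 : n13597 = n12196 := (c15_4 (iv0 F20198) (iv0 F25291) F37250 D13597)
theorem F37264 : act 2 n12196 = n6476 := (sb E4746 (iv2 D13597))
theorem E4747 : n12205 = n12199 := (c15_2 F37262 D12205 (iv7 D12199) D12194)
theorem F37265 : act 0 n12199 = n5783 := (sb E4747 (iv1 D12205))
theorem F37266 : act 1 n12199 = n5785 := (sb E4747 F20203)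
theorem F37267 : act 2 n23869 = n13604 := d2_3 (iv5 D13604) F37243 D23869
theorem F37268 : act 7 n13623 = n23869 := d15_2 (iv0 F26705) (iv0 F25750) F37267
theorem F37269 : act 7 n11186 = n16875 := d8_2 F37268 F37213 F27635
theorem F37270 : act 2 n16875 = n11191 := d4_1 F37269 (iv7 F37238) F37237
theorem F37271 : act 2 n11190 = n16874 := d15_3 (iv0 F27634) (iv0 F27645) F37236
theorem F37272 : act 7 n11185 = n16874 := d4_2 (iv7 F37236) F37235 (iv2 F37271)
theorem F37273 : act 1 n11190 = n23872 := d15_0 (iv0 D23872) F37272 (iv2 F37271)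
theorem F37274 : act 2 n11192 = n16876 := d3_3 (iv6 D16876) F37228 D11192
def n23874 : Q := act 3 n11185
theorem D23874 : act 3 n11185 = n23874 := rfl
theorem F37275 : act 4 n23874 = n13591 := d5_2 D11185 D23874 (iv3 D13591) F37244 (iv3 D11184)
theorem F37276 : act 7 n23874 = n13620 := d8_2 (iv7 F37272) D23874 (iv3 F27632)
theorem F37277 : act 0 n23874 = n12613 := d20_10 (iv4 D12613) (iv1 D5990) D5992 F9313 F5541 D5090 F7576 D5121 D11185 D23874
theorem F37278 : act 0 n12608 = n23874 := d20_4 D12201 F25291 D15666 F25158 (iv3 D23874) (iv4 D11185) (iv1 F12435) (iv4 F27606) F27605 (iv1 F20196)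
theorem E4748 : n16004 = n12200 := (c20_5 F37275 F37253 (iv4 D15937) F11741 (iv1 F25501) (iv3 D12200) D12201 F25291 D15666 F25158 F37278)
theorem F37279 : act 0 n12200 = n7488 := (sb E4748 (iv1 D16004))
theorem F37280 : act 1 n12200 = n7493 := (sb E4748 F25501)
theorem F37281 : act 2 n23874 = n15900 := d15_3 F25375 F25379 (iv7 F37276)
def n23875 : Q := act 5 n11185
theorem D23875 : act 5 n11185 = n23875 := rfl
def n23876 : Q := act 6 n11185
theorem D23876 : act 6 n11185 = n23876 := rfl
theorem F37282 : act 4 n23876 = n11187 := d10_1 D23876 (iv6 D11187) D11185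
def n23877 : Q := act 0 n11186
theorem D23877 : act 0 n11186 = n23877 := rfl
theorem F37283 : act 1 n11191 = n23877 := d15_0 (iv0 D23877) F37269 F37270
def n23878 : Q := act 1 n11186
theorem D23878 : act 1 n11186 = n23878 := rfl
def n23879 : Q := act 4 n11186
theorem D23879 : act 4 n11186 = n23879 := rfl
def n23880 : Q := act 6 n11186
theorem D23880 : act 6 n11186 = n23880 := rfl
def n23881 : Q := act 0 n11187
theorem D23881 : act 0 n11187 = n23881 := rfl
def n23882 : Q := act 1 n11187
theorem D23882 : act 1 n11187 = n23882 := rfl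
def n23883 : Q := act 5 n11187
theorem D23883 : act 5 n11187 = n23883 := rfl
def n23884 : Q := act 7 n11187
theorem D23884 : act 7 n11187 = n23884 := rfl
def n23885 : Q := act 2 n11189
theorem D23885 : act 2 n11189 = n23885 := rfl
theorem F37285 : act 3 n23885 = n13606 := d0_2 D11189 D23885 F22788 (iv3 F12431) F37228
theorem F37286 : act 7 n23885 = n13603 := d4_2 F37234 D23885 (iv2 F27639)
theorem F37287 : act 1 n23885 = n15652 := d15_0 F27642 F37234 D23885
theorem F37288 : act 1 n12548 = n23885 := d15_0 F37287 F25527 (iv2 F25554)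
theorem F37289 : act 4 n23885 = n12200 := d20_2 F25569 (iv1 F37287) (iv3 D12200) (iv1 D5782) (iv3 D2420) (iv4 D1143) D1141 D2414 D5768 D12165
def n23886 : Q := act 4 n11189
theorem D23886 : act 4 n11189 = n23886 := rfl
theorem F37290 : act 2 n23886 = n12200 := d1_1 D23886 (iv4 F37289) (iv2 D23885)
theorem F37291 : act 7 n23886 = n16003 := d11_2 F37234 D23886 (iv4 F27640)
theorem F37292 : act 0 n23886 = n12588 := d20_1 D23886 (iv4 D12588) (iv3 F25453) (iv1 D7533) D7534 (iv4 F11794) (iv1 F11812) (iv4 D7366) D7365 (iv1 F37230)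
theorem F37293 : act 0 n12583 = n23886 := d20_1 D12583 (iv4 D23886) (iv3 D11189) (iv1 D5122) (iv3 D2109) (iv4 D1041) (iv1 F1562) (iv4 F2147) D2524 D5981
def n23887 : Q := act 5 n11189
theorem D23887 : act 5 n11189 = n23887 := rfl
theorem F37294 : act 3 n23887 = n11191 := d6_1 D23887 (iv5 D11191) D11189
def n23888 : Q := act 6 n11189
theorem D23888 : act 6 n11189 = n23888 := rfl
theorem F37295 : act 3 n23888 = n11192 := d7_1 D23888 (iv6 D11192) D11189
def n23889 : Q := act 3 n11190
theorem D23889 : act 3 n11190 = n23889 := rfl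
theorem F37296 : act 7 n23889 = n11233 := d8_2 F37236 D23889 F27646
theorem F37297 : act 0 n23889 = n11235 := d20_4 F27606 (iv1 F12437) D11190 D23889 F18265 (iv4 F22296) (iv1 F26280) (iv4 F37047) (iv3 D23770) (iv1 F27608)
theorem F37298 : act 0 n11237 = n23889 := d20_4 F7572 (iv1 F3475) (iv4 F7693) (iv3 F18268) (iv3 D23889) (iv4 D11190) (iv1 D5122) (iv4 F7576) (iv3 D5090) D5089
def n23890 : Q := act 5 n11190
theorem D23890 : act 5 n11190 = n23890 := rfl
def n23891 : Q := act 6 n11190
theorem D23891 : act 6 n11190 = n23891 := rfl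
theorem F37299 : act 4 n23891 = n11192 := d10_1 D23891 (iv6 D11192) D11190
def n23892 : Q := act 4 n11191
theorem D23892 : act 4 n11191 = n23892 := rfl
def n23893 : Q := act 6 n11191
theorem D23893 : act 6 n11191 = n23893 := rfl
def n23894 : Q := act 0 n11192
theorem D23894 : act 0 n11192 = n23894 := rfl
def n23895 : Q := act 1 n11192
theorem D23895 : act 1 n11192 = n23895 := rfl
def n23896 : Q := act 5 n11192
theorem D23896 : act 5 n11192 = n23896 := rfl
def n23897 : Q := act 7 n11192
theorem D23897 : act 7 n11192 = n23897 := rfl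
def n23898 : Q := act 4 n11193
theorem D23898 : act 4 n11193 = n23898 := rfl
theorem F37300 : act 2 n23898 = n11196 := d1_1 D23898 (iv4 D11196) (iv2 F18155)
theorem F37301 : act 7 n23898 = n18963 := d11_2 (iv7 F18157) D23898 F30277
theorem F37302 : act 0 n23898 = n18962 := d18_2 (iv1 F18159) D23898 (iv4 F30271) F27028 F27726 (iv0 F27728) (iv4 D15313) F12536 F25996
theorem F37303 : act 1 n23898 = n18961 := d15_0 (iv0 D18961) (iv7 F18163) (iv2 F37300)
def n23899 : Q := act 6 n11193
theorem D23899 : act 6 n11193 = n23899 := rfl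
theorem F37304 : act 2 n23899 = n11197 := d3_1 D23899 (iv6 D11197) (iv2 F18155)
theorem F37305 : act 3 n23899 = n13642 := d7_1 D23899 (iv6 D13642) (iv3 F18156)
def n23900 : Q := act 2 n11194
theorem D23900 : act 2 n11194 = n23900 := rfl
theorem F37306 : act 5 n23900 = n15304 := d2_2 (iv5 F30279) D23900 (iv2 D15304)
theorem F37307 : act 7 n11195 = n23900 := d15_2 (iv0 D11194) D11195 (iv2 D23900)
theorem E4749 : n15311 = n11195 := (c13_4 F37307 F37306 (iv7 F24891) D15311)
theorem F37308 : act 5 n11195 = n7247 := (sb E4749 (iv5 D15311))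
theorem F37309 : act 5 n15316 = n23778 := d17_1 (iv1 F27733) (iv1 D23778) (iv5 D11136) F7576 D5124 D11195 F37308 F12541 (iv4 F27730)
def n23901 : Q := act 3 n11194
theorem D23901 : act 3 n11194 = n23901 := rfl
theorem F37310 : act 5 n23901 = n15284 := d6_2 (iv5 F30279) D23901 F24873
theorem F37311 : act 4 n23901 = n13168 := d20_6 F4041 (iv1 F2935) (iv4 F3437) (iv3 F7641) D11194 D23901 (iv1 D13168) F9755 (iv3 D2639) (iv1 F4038)
theorem F37312 : act 1 n15565 = n23901 := d17_6 (iv1 F26767) F27165 (iv1 F27184) (iv5 D16128) F11770 (iv5 F25798) F37310 F28404 F28401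
def n23902 : Q := act 4 n11194
theorem D23902 : act 4 n11194 = n23902 := rfl
def n23903 : Q := act 6 n11194
theorem D23903 : act 6 n11194 = n23903 := rfl
def n23904 : Q := act 7 n11194
theorem D23904 : act 7 n11194 = n23904 := rfl
def n23905 : Q := act 3 n11195
theorem D23905 : act 3 n11195 = n23905 := rfl
theorem F37315 : act 5 n23905 = n15309 := d6_2 (iv5 F37308) D23905 (iv3 D15309)
def n23906 : Q := act 4 n11195
theorem D23906 : act 4 n11195 = n23906 := rfl
def n23907 : Q := act 6 n11195
theorem D23907 : act 6 n11195 = n23907 := rfl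
def n23908 : Q := act 0 n11196
theorem D23908 : act 0 n11196 = n23908 := rfl
theorem F37316 : act 2 n18962 = n23908 := d15_3 (iv0 D23908) (iv0 F29906) (iv7 F30272)
theorem F37317 : act 1 n18963 = n23908 := d15_0 (iv0 D23908) F18163 D18963
theorem F37318 : act 7 n23908 = n18961 := d15_2 (iv0 F30278) F37317 (iv2 F30274)
def n23909 : Q := act 5 n11196
theorem D23909 : act 5 n11196 = n23909 := rfl
theorem F37319 : act 3 n23909 = n18969 := d6_1 D23909 F30300 (iv3 F18162)
theorem F37320 : act 7 n23909 = n18964 := d13_2 (iv7 F18163) D23909 (iv5 D18964)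
def n23910 : Q := act 6 n11196
theorem D23910 : act 6 n11196 = n23910 := rfl
theorem F37321 : act 3 n23910 = n18974 := d7_1 D23910 (iv6 D18974) (iv3 F18162)
theorem F37322 : act 4 n23910 = n11197 := d10_1 D23910 (iv6 D11197) D11196
def n23911 : Q := act 0 n11197
theorem D23911 : act 0 n11197 = n23911 := rfl
def n23912 : Q := act 1 n11197
theorem D23912 : act 1 n11197 = n23912 := rfl
def n23913 : Q := act 7 n11197
theorem D23913 : act 7 n11197 = n23913 := rfl
theorem F37323 : act 3 n23913 = n11200 := d8_1 D23913 (iv7 D11200) (iv3 F18164)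
theorem F37324 : act 6 n23913 = n18741 := d14_1 D23913 (iv7 F30057) (iv6 D8900) (iv7 F7642) D11197
def n23914 : Q := act 2 n11198
theorem D23914 : act 2 n11198 = n23914 := rfl
theorem F37325 : act 4 n23914 = n13296 := d1_2 (iv4 F37195) D23914 (iv2 D13296)
theorem F37326 : act 7 n11199 = n23914 := d15_2 (iv0 D11198) D11199 (iv2 D23914)
theorem E4750 : n13303 = n11199 := (c11_4 F37326 F37325 (iv7 F22103) D13303)
theorem F37327 : act 4 n11199 = n6310 := (sb E4750 (iv4 D13303))
theorem F37328 : act 4 n15222 = n23859 := d18_7 (iv1 F18165) F37327 (iv1 D6310) F4243 (iv5 F5308) (iv4 F11534) D15222 F37193 F22739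
def n23915 : Q := act 3 n11198
theorem D23915 : act 3 n11198 = n23915 := rfl
def n23916 : Q := act 5 n11198
theorem D23916 : act 5 n11198 = n23916 := rfl
def n23917 : Q := act 6 n11198
theorem D23917 : act 6 n11198 = n23917 := rfl
theorem F37329 : act 4 n23917 = n13300 := d10_1 D23917 (iv6 D13300) (iv4 F37195)
def n23918 : Q := act 7 n11198
theorem D23918 : act 7 n11198 = n23918 := rfl
theorem F37330 : act 2 n23918 = n11199 := d4_1 D23918 F37326 (iv2 D23914)
theorem F37331 : act 4 n23918 = n13301 := d11_1 D23918 (iv7 D13301) (iv4 F37195)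
def n23919 : Q := act 3 n11199
theorem D23919 : act 3 n11199 = n23919 := rfl
def n23920 : Q := act 5 n11199
theorem D23920 : act 5 n11199 = n23920 := rfl
def n23921 : Q := act 6 n11199
theorem D23921 : act 6 n11199 = n23921 := rfl
theorem F37332 : act 4 n23921 = n13305 := d10_1 D23921 (iv6 D13305) (iv4 F37327)
def n23922 : Q := act 4 n11201
theorem D23922 : act 4 n11201 = n23922 := rfl
theorem F37333 : act 2 n23922 = n13441 := d1_1 D23922 (iv4 D13441) (iv2 F18172)
theorem F37334 : act 6 n23922 = n11387 := d10_2 (iv6 F18174) D23922 (iv4 D11387)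
theorem F37335 : act 7 n23922 = n13442 := d11_2 (iv7 F18175) D23922 (iv4 D13442)
theorem F37336 : act 0 n23922 = n14061 := d18_2 (iv1 F23061) D23922 (iv4 D14061) (iv5 F10887) (iv4 F10756) F19052 F10140 D11253 (iv5 F23058)
theorem F37337 : act 1 n23922 = n14060 := d18_6 (iv1 F10049) (iv4 F3714) D5670 F10074 D11201 D23922 (iv4 D14060) (iv0 D6685) (iv5 D3006)
def n23923 : Q := act 3 n11204
theorem D23923 : act 3 n11204 = n23923 := rfl
theorem F37338 : act 4 n23923 = n23735 := d5_2 D11204 D23923 (iv3 D23735) (iv4 D11115) (iv3 F10210)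
def n23924 : Q := act 6 n11204
theorem D23924 : act 6 n11204 = n23924 := rfl
theorem F37339 : act 2 n23924 = n13530 := d3_1 D23924 (iv6 D13530) (iv2 F18185)
theorem F37340 : act 4 n23924 = n11205 := d10_1 D23924 (iv6 D11205) D11204
theorem F37341 : act 0 n23924 = n14898 := d21_4 D11123 D23750 F36984 D23924 F24541 D15442 (iv1 F32624) F36975 (iv6 D23745) (iv1 D11121)
def n23925 : Q := act 1 n11209
theorem D23925 : act 1 n11209 = n23925 := rfl
theorem F37342 : act 7 n23925 = n23740 := d15_2 (iv0 F26921) D23925 F36962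
theorem F37343 : act 4 n16959 = n23925 := d20_0 (iv1 D23925) (iv4 F22293) (iv3 D13403) F10371 (iv3 F26390) (iv4 F26453) D12378 F26557 F20037 F27814
theorem F37344 : act 6 n19955 = n23925 := d21_3 D16955 F31792 D19955 (iv1 D23925) F18206 D11215 F28372 F28371 (iv6 F20097) (iv1 F20119)
theorem F37345 : act 3 n23925 = n19958 := d7_1 F37344 (iv6 D19958) (iv3 F31789)
def n23926 : Q := act 2 n11209
theorem D23926 : act 2 n11209 = n23926 := rfl
theorem F37346 : act 4 n23926 = n13548 := d1_2 F22293 D23926 F26791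
theorem F37347 : act 6 n23926 = n11214 := d3_2 (iv6 F18206) D23926 (iv2 D11214)
def n23927 : Q := act 5 n11209
theorem D23927 : act 5 n11209 = n23927 := rfl
theorem F37348 : act 3 n23927 = n11210 := d6_1 D23927 (iv5 D11210) D11209
def n23928 : Q := act 7 n11209
theorem D23928 : act 7 n11209 = n23928 := rfl
theorem F37349 : act 3 n23928 = n11211 := d8_1 D23928 (iv7 D11211) D11209
theorem F37350 : act 4 n23928 = n13547 := d11_1 D23928 F26389 F22293
theorem F37351 : act 6 n23928 = n13582 := d14_1 D23928 F22748 (iv6 F27056) F12461 (iv6 F18206)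
theorem F37352 : act 0 n23740 = n23928 := d18_2 F27905 (iv4 F36963) F37350 F26388 F22293 D23925 (iv4 F37343) (iv0 F27814) (iv5 F27903)
def n23929 : Q := act 4 n11210
theorem D23929 : act 4 n11210 = n23929 := rfl
def n23930 : Q := act 6 n11210
theorem D23930 : act 6 n11210 = n23930 := rfl
theorem F37353 : act 5 n23930 = n11216 := d12_1 D23930 (iv6 D11216) (iv5 D5145) (iv6 F7658) D11210
def n23931 : Q := act 7 n11210
theorem D23931 : act 7 n11210 = n23931 := rfl
theorem F37354 : act 5 n23931 = n11211 := d13_1 D23931 (iv7 D11211) D11210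
theorem F37355 : act 1 n13543 = n23931 := d15_1 (iv0 F22708) (iv7 D23931) (iv2 F18229)
theorem F37356 : act 1 n23931 = n23736 := d15_1 F37355 F36954 (iv2 F22706)
def n23932 : Q := act 5 n11212
theorem D23932 : act 5 n11212 = n23932 := rfl
theorem F37357 : act 4 n23932 = n21677 := d16_2 (iv4 F26785) D23932 F34132 F17724 D19955 (iv4 F31791) (iv5 F20228) F20227 (iv2 F18684)
theorem F37358 : act 1 n23932 = n16904 := d17_6 (iv1 F10055) (iv5 F10693) F10889 (iv5 F18686) (iv4 F26785) D23932 (iv5 D16904) F26350 F20156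
def n23933 : Q := act 3 n11213
theorem D23933 : act 3 n11213 = n23933 := rfl
def n23934 : Q := act 5 n11213
theorem D23934 : act 5 n11213 = n23934 := rfl
theorem F37359 : act 0 n23934 = n16904 := d17_2 (iv1 F27670) D23934 (iv5 D16904) F12487 (iv5 F26353) (iv0 F28408) F28405 (iv0 F26281) (iv4 F27666)
theorem F37360 : act 1 n23934 = n17401 := d17_6 D3670 D8155 (iv1 F20052) (iv5 F20228) F26997 D23934 (iv5 D17401) (iv0 D8150) F5697
def n23935 : Q := act 4 n11215
theorem D23935 : act 4 n11215 = n23935 := rfl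
theorem F37361 : act 5 n23935 = n21172 := d16_3 F10373 D11215 D23935 F33418 (iv5 D16955) (iv4 D7914) D7915 F26283 (iv2 D13406)
theorem F37362 : act 1 n23935 = n21614 := d18_8 D21611 F34013 (iv1 D19870) (iv4 F16008) D21309 F33517 (iv0 F28372) D23935 (iv5 D21614)
def n23936 : Q := act 6 n11215
theorem D23936 : act 6 n11215 = n23936 := rfl
theorem F37363 : act 3 n23936 = n11216 := d7_1 D23936 (iv6 D11216) (iv3 F18210)
def n23937 : Q := act 0 n11216
theorem D23937 : act 0 n11216 = n23937 := rfl
def n23938 : Q := act 1 n11216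
theorem D23938 : act 1 n11216 = n23938 := rfl
def n23939 : Q := act 7 n11216
theorem D23939 : act 7 n11216 = n23939 := rfl
def n23940 : Q := act 3 n11217
theorem D23940 : act 3 n11217 = n23940 := rfl
theorem F37364 : act 7 n23940 = n13414 := d8_2 F18216 D23940 (iv3 D13414)
def n23941 : Q := act 6 n11217
theorem D23941 : act 6 n11217 = n23941 := rfl
theorem F37365 : act 2 n23941 = n13413 := d3_1 D23941 (iv6 D13413) F18215
def n23942 : Q := act 3 n11218
theorem D23942 : act 3 n11218 = n23942 := rfl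
theorem F37366 : act 5 n23942 = n13945 := d6_2 F18212 D23942 F23225
theorem F37367 : act 7 n23942 = n13412 := d8_2 (iv7 F18214) D23942 (iv3 D13412)
theorem F37368 : act 4 n23942 = n11616 := d20_6 D5422 (iv1 F9872) F9869 (iv3 F10404) (iv1 F18211) D23942 (iv1 D11616) (iv4 D5396) F3588 D2230
theorem F37369 : act 0 n14603 = n23942 := d18_0 F37368 (iv1 D11616) (iv4 D5396) (iv5 D2218) (iv4 F3519) (iv0 F10154) D3156 D6978 D14603
theorem F37370 : act 1 n14213 = n23942 := d15_0 (iv0 F37369) F24272 F23740
def n23943 : Q := act 6 n11218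
theorem D23943 : act 6 n11218 = n23943 := rfl
theorem F37371 : act 2 n23943 = n13415 := d3_1 D23943 (iv6 D13415) (iv2 F18213)
theorem F37372 : act 5 n23943 = n13949 := d12_1 D23943 (iv6 D13949) (iv5 D6630) D6631 F18212
def n23944 : Q := act 3 n11219
theorem D23944 : act 3 n11219 = n23944 := rfl
def n23945 : Q := act 5 n11219
theorem D23945 : act 5 n11219 = n23945 := rfl
theorem F37373 : act 2 n23945 = n13419 := d2_1 D23945 (iv5 D13419) (iv2 F18218)
theorem F37374 : act 4 n23945 = n23931 := d16_2 D11219 D23945 F37354 F18207 F7659 (iv4 F4320) (iv5 F10405) (iv7 D6376) (iv2 F7661)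
theorem F37375 : act 7 n23929 = n23945 := d11_0 F37374 (iv7 D23931) D23929
def n23946 : Q := act 7 n11219
theorem D23946 : act 7 n11219 = n23946 := rfl
theorem F37376 : act 2 n23946 = n13420 := d4_1 D23946 (iv7 D13420) (iv2 F18218)
theorem F37377 : act 4 n23946 = n11220 := d11_1 D23946 (iv7 D11220) D11219
theorem F37378 : act 5 n23946 = n23929 := d13_1 D23946 F37375 (iv5 D23945)
theorem F37379 : act 1 n13417 = n23946 := d15_1 D13417 (iv7 D23946) F18218
theorem F37380 : act 1 n23946 = n13416 := d15_1 F37379 (iv7 F22308) F22311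
theorem F37381 : act 0 n12050 = n23720 := d20_4 D13362 (iv1 F22570) (iv4 D12071) (iv3 F19963) (iv3 D23720) (iv4 F22306) (iv1 F37380) F37377 (iv3 F22191) (iv1 F22194)
def n23947 : Q := act 6 n11220
theorem D23947 : act 6 n11220 = n23947 := rfl
theorem F37382 : act 2 n23947 = n13421 := d3_1 D23947 (iv6 D13421) (iv2 F18219)
theorem F37383 : act 5 n23947 = n23947 := d12_1 D23947 (iv6 D23947) F18220 F7664 (iv5 F18220)
def n23948 : Q := act 3 n11221
theorem D23948 : act 3 n11221 = n23948 := rfl
theorem F37384 : act 4 n23948 = n12108 := d5_2 D11221 D23948 (iv3 D12108) (iv4 D5743) (iv3 F9944)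
theorem F37385 : act 7 n23948 = n23923 := d8_2 (iv7 F18224) D23948 (iv3 D23923)
def n23949 : Q := act 0 n11222
theorem D23949 : act 0 n11222 = n23949 := rfl
theorem F37386 : act 5 n23949 = n11229 := d21_2 F18338 D23949 F18245 F18583 F18580 (iv5 F12491) D13547 F26388 F22294 (iv1 F26305)
theorem F37387 : act 6 n23949 = n11259 := d21_5 (iv5 F18324) (iv1 F18326) F7750 D11222 D23949 F18331 (iv1 F10497) F10494 F9912 (iv1 F11399)
theorem F37388 : act 2 n12924 = n23949 := d15_3 (iv0 D23949) (iv0 F22373) F22372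
theorem F37389 : act 0 n23932 = n17401 := d17_2 D11212 D23932 (iv5 D17401) F18250 (iv5 F37386) (iv0 D23949) (iv5 F18338) F26305 F10373
theorem F37390 : act 3 n23949 = n23949 := d0_2 (iv3 F21482) F37388 (iv2 F37388) F21482 F11468
theorem F37391 : act 7 n23949 = n12925 := d4_2 F22372 F37388 (iv2 F22369)
theorem F37392 : act 1 n17424 = n23949 := d15_1 (iv0 F28408) F37391 (iv2 F22369)
def n23950 : Q := act 7 n11222
theorem D23950 : act 7 n11222 = n23950 := rfl
theorem F37393 : act 2 n23950 = n17424 := d4_1 D23950 F28407 (iv2 F18225)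
theorem F37394 : act 3 n23950 = n12120 := d8_1 D23950 (iv7 D12120) (iv3 F18226)
theorem F37395 : act 4 n23950 = n20014 := d11_1 D23950 F31842 F20055
theorem F37396 : act 5 n23950 = n15461 := d13_1 D23950 (iv7 F27003) F18338
theorem F37397 : act 6 n23950 = n16909 := d14_1 D23950 F27709 (iv6 D11208) F10336 D11222
theorem F37398 : act 1 n12925 = n23950 := d15_1 (iv0 F21487) (iv7 D23950) F18225
theorem F37399 : act 1 n23950 = n12924 := d15_1 F37398 (iv7 F22372) F22369
def n23951 : Q := act 0 n11223
theorem D23951 : act 0 n11223 = n23951 := rfl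
def n23952 : Q := act 1 n11223
theorem D23952 : act 1 n11223 = n23952 := rfl
def n23953 : Q := act 2 n11223
theorem D23953 : act 2 n11223 = n23953 := rfl
theorem F37400 : act 3 n23953 = n23926 := d0_2 D11223 D23953 (iv2 D23926) (iv3 D11209) (iv2 F7671)
theorem F37401 : act 4 n23953 = n23953 := d1_2 F18227 D23953 (iv2 D23953)
theorem F37402 : act 6 n23953 = n11235 := d3_2 (iv6 F18228) D23953 (iv2 D11235)
def n23954 : Q := act 5 n11223
theorem D23954 : act 5 n11223 = n23954 := rfl
theorem F37403 : act 3 n23954 = n11224 := d6_1 D23954 (iv5 D11224) D11223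
def n23955 : Q := act 7 n11223
theorem D23955 : act 7 n11223 = n23955 := rfl
theorem F37404 : act 3 n23955 = n11225 := d8_1 D23955 (iv7 D11225) D11223
theorem F37405 : act 4 n23955 = n23955 := d11_1 D23955 (iv7 D23955) F18227
def n23956 : Q := act 4 n11224
theorem D23956 : act 4 n11224 = n23956 := rfl
theorem F37406 : act 2 n23956 = n23929 := d1_1 D23956 (iv4 D23929) (iv2 F18229)
theorem F37407 : act 5 n23956 = n13420 := d9_2 D11224 D23956 F22314 F10405 F4320 (iv5 F7659) (iv4 F18207) (iv5 F37354) (iv4 F37374) (iv5 D23945) (iv4 D11219) (iv5 D5148) F3448 D2121 D5162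
theorem F37408 : act 7 n13419 = n23956 := d13_0 F37407 (iv7 D13420) D13419
def n23957 : Q := act 6 n11224
theorem D23957 : act 6 n11224 = n23957 := rfl
theorem F37409 : act 2 n23957 = n23930 := d3_1 D23957 (iv6 D23930) (iv2 F18229)
theorem F37410 : act 5 n23957 = n11239 := d12_1 D23957 (iv6 D11239) (iv5 D5168) (iv6 F7672) D11224
def n23958 : Q := act 7 n11224
theorem D23958 : act 7 n11224 = n23958 := rfl
theorem F37411 : act 2 n23958 = n23931 := d4_1 D23958 (iv7 D23931) (iv2 F18229)
theorem F37412 : act 4 n23958 = n13419 := d11_1 D23958 F37408 (iv4 D23956)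
theorem F37413 : act 5 n23958 = n11225 := d13_1 D23958 (iv7 D11225) D11224
theorem F37414 : act 1 n12109 = n23958 := d15_1 (iv0 F20031) (iv7 D23958) F18229
theorem F37415 : act 1 n23958 = n12101 := d15_1 F37414 (iv7 F22707) F22706
def n23959 : Q := act 6 n11225
theorem D23959 : act 6 n11225 = n23959 := rfl
theorem F37416 : act 2 n23959 = n16895 := d3_1 D23959 F27677 (iv2 F18230)
theorem F37417 : act 4 n23959 = n11226 := d10_1 D23959 (iv6 D11226) (iv4 F18231)
theorem F37418 : act 7 n23959 = n11240 := d14_2 D11225 D23959 (iv6 D11240) (iv7 D5169) (iv6 F7672)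
theorem F37419 : act 0 n23959 = n12226 := d21_4 D12101 (iv1 F37415) F37413 D23959 (iv6 F26999) D23934 F37359 (iv5 D16904) F26352 (iv1 D12099)
theorem F37420 : act 1 n23959 = n12224 := d15_1 (iv0 F37419) (iv7 F22837) F22836
def n23960 : Q := act 0 n11227
theorem D23960 : act 0 n11227 = n23960 := rfl
theorem F37421 : act 1 n16899 = n23960 := d15_0 (iv0 D23960) F18241 D16899
def n23961 : Q := act 1 n11227
theorem D23961 : act 1 n11227 = n23961 := rfl
def n23962 : Q := act 2 n11227
theorem D23962 : act 2 n11227 = n23962 := rfl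
theorem F37422 : act 3 n23962 = n12918 := d0_2 D11227 D23962 (iv2 D12918) (iv3 D6122) (iv2 F7679)
theorem F37423 : act 4 n23962 = n12156 := d1_2 (iv4 F18240) D23962 (iv2 D12156)
theorem F37424 : act 7 n23962 = n16899 := d4_2 (iv7 F18241) D23962 (iv2 D16899)
theorem F37425 : act 1 n23962 = n16897 := d15_0 (iv0 D16897) (iv7 F18241) D23962
theorem F37426 : act 1 n23961 = n16899 := d15_1 D23961 (iv7 F37424) (iv2 D23962)
theorem F37427 : act 1 n16898 = n23962 := d15_1 D16898 F37424 (iv2 D16899)
def n23963 : Q := act 6 n11227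
theorem D23963 : act 6 n11227 = n23963 := rfl
theorem F37428 : act 3 n23963 = n11228 := d7_1 D23963 (iv6 D11228) D11227
theorem F37429 : act 4 n23963 = n12158 := d10_1 D23963 (iv6 D12158) (iv4 F18240)
theorem F37430 : act 7 n23963 = n20532 := d14_2 (iv7 F18241) D23963 (iv6 D20532) F15225 (iv6 F26936)
def n23964 : Q := act 5 n11228
theorem D23964 : act 5 n11228 = n23964 := rfl
theorem F37431 : act 2 n23964 = n12922 := d2_1 D23964 (iv5 D12922) (iv2 F18242)
def n23965 : Q := act 0 n11233
theorem D23965 : act 0 n11233 = n23965 := rfl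
theorem F37432 : act 2 n11237 = n23965 := d15_3 (iv0 D23965) (iv0 D11233) D11237
theorem F37433 : act 3 n23965 = n16891 := d0_2 (iv3 F18268) F37432 (iv2 D16891) (iv3 D7875) (iv2 F7692)
theorem F37434 : act 4 n23965 = n23965 := d1_2 F18269 F37432 (iv2 F37432)
theorem F37435 : act 7 n23965 = n11235 := d4_2 D11237 F37432 (iv2 D11235)
theorem F37436 : act 1 n11234 = n23965 := d15_1 D11234 F37435 (iv2 D11235)
theorem F37437 : act 2 n23889 = n11234 := d15_3 F37436 (iv0 D23965) (iv7 F37296)
def n23966 : Q := act 2 n11233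
theorem D23966 : act 2 n11233 = n23966 := rfl
theorem F37438 : act 3 n23966 = n15900 := d0_2 (iv3 F27646) D23966 (iv2 F37281) (iv3 D23874) (iv2 F37235)
theorem F37439 : act 7 n23966 = n11234 := d4_2 F37296 D23966 (iv2 F37437)
theorem F37440 : act 1 n23966 = n11235 := d15_0 (iv0 F37297) F37296 D23966
theorem F37441 : act 1 n11237 = n23966 := d15_0 F37440 (iv7 F37435) (iv2 F37432)
theorem F37442 : act 4 n23966 = n12195 := d20_2 F18266 (iv1 F37440) (iv3 D12195) D12193 (iv3 F27605) F27606 (iv1 F12437) D11190 D23889 F37297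
def n23967 : Q := act 4 n11233
theorem D23967 : act 4 n11233 = n23967 := rfl
theorem F37443 : act 2 n23967 = n12195 := d1_1 D23967 (iv4 F37442) (iv2 D23966)
theorem F37444 : act 3 n23967 = n16003 := d5_1 D23967 (iv4 F27640) (iv3 D16878) D16879 (iv3 F27646)
def n23968 : Q := act 5 n11233
theorem D23968 : act 5 n11233 = n23968 := rfl
theorem F37445 : act 4 n23968 = n17039 := d19_2 D11233 D23968 F27933 (iv1 F26552) (iv5 D15047) F26450 F26311 (iv1 F26301) F26302 (iv4 D3358) F2747 (iv1 F3462) (iv5 D2123) F2402 (iv3 F2401) (iv1 D1051) D1052 D2125 D5167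
def n23969 : Q := act 6 n11233
theorem D23969 : act 6 n11233 = n23969 := rfl
def n23970 : Q := act 3 n11234
theorem D23970 : act 3 n11234 = n23970 := rfl
theorem F37446 : act 2 n23970 = n13620 := d0_1 D23970 (iv3 F27632) (iv2 F37271) D23889 F37437
theorem F37447 : act 7 n23970 = n15900 := d8_2 F37439 D23970 (iv3 F37438)
theorem F37448 : act 4 n13619 = n23970 := d20_2 D15937 (iv1 F37260) (iv3 D23970) (iv1 D11234) (iv3 D5167) (iv4 D2125) F2399 (iv4 F3810) (iv3 F5405) D7468
theorem F37449 : act 0 n23970 = n12608 := d20_1 F37448 (iv4 D12608) F11670 (iv1 F11814) (iv3 D7522) (iv4 F11797) (iv1 F25468) (iv4 F22784) (iv3 F25407) (iv1 F37260)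
theorem F37450 : act 1 n23970 = n12613 := d15_1 (iv0 F37449) F25546 (iv2 F25533)
def n23971 : Q := act 4 n11234
theorem D23971 : act 4 n11234 = n23971 := rfl
theorem F37451 : act 7 n23971 = n12195 := d11_2 F37439 D23971 (iv4 F37442)
theorem F37452 : act 3 n23971 = n12199 := d20_3 F37434 (iv1 F37436) D23971 F37265 (iv3 F18077) F18078 (iv1 F12436) D16879 (iv3 F27646) D23965
def n23972 : Q := act 5 n11234
theorem D23972 : act 5 n11234 = n23972 := rfl
def n23973 : Q := act 6 n11234
theorem D23973 : act 6 n11234 = n23973 := rfl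
def n23974 : Q := act 5 n11235
theorem D23974 : act 5 n11235 = n23974 := rfl
theorem F37453 : act 2 n23974 = n11236 := d2_1 D23974 (iv5 D11236) D11235
theorem F37454 : act 3 n23974 = n17402 := d6_1 D23974 F28367 (iv3 F18265)
def n23975 : Q := act 0 n11236
theorem D23975 : act 0 n11236 = n23975 := rfl
def n23976 : Q := act 1 n11236
theorem D23976 : act 1 n11236 = n23976 := rfl
def n23977 : Q := act 4 n11236
theorem D23977 : act 4 n11236 = n23977 := rfl
theorem F37455 : act 5 n15452 = n23977 := d19_1 D15452 (iv4 D23977) F18267 (iv1 F18059) (iv5 D11126) (iv4 D5086) F3402 (iv1 F4130) F4132 (iv4 F2698) F2699 (iv1 D1526) (iv5 F2136) D2515 (iv3 F26287) F5337 (iv5 D3353) D3352 D7301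
def n23978 : Q := act 6 n11236
theorem D23978 : act 6 n11236 = n23978 := rfl
theorem F37456 : act 3 n23978 = n11239 := d7_1 D23978 (iv6 D11239) (iv3 F18267)
def n23979 : Q := act 7 n11236
theorem D23979 : act 7 n11236 = n23979 := rfl
theorem F37457 : act 3 n23979 = n11238 := d8_1 D23979 F18274 (iv3 F18267)
theorem F37458 : act 5 n23979 = n11237 := d13_1 D23979 (iv7 D11237) D11236
def n23980 : Q := act 6 n11237
theorem D23980 : act 6 n11237 = n23980 := rfl
theorem F37459 : act 3 n23980 = n11240 := d7_1 D23980 (iv6 D11240) (iv3 F18268)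
theorem F37460 : act 4 n23980 = n23980 := d10_1 D23980 (iv6 D23980) F18269
def n23981 : Q := act 6 n11238
theorem D23981 : act 6 n11238 = n23981 := rfl
theorem F37461 : act 2 n23981 = n16893 := d3_1 D23981 (iv6 D16893) (iv2 F18270)
theorem F37462 : act 4 n23981 = n11239 := d10_1 D23981 (iv6 D11239) D11238
def n23982 : Q := act 0 n11239
theorem D23982 : act 0 n11239 = n23982 := rfl
def n23983 : Q := act 1 n11239
theorem D23983 : act 1 n11239 = n23983 := rfl
theorem F37463 : act 1 n23983 = n23939 := d15_1 D23983 (iv7 D23939) (iv2 F18275)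
def n23984 : Q := act 7 n11239
theorem D23984 : act 7 n11239 = n23984 := rfl
theorem F37464 : act 2 n23984 = n23939 := d4_1 D23984 (iv7 D23939) (iv2 F18275)
theorem F37465 : act 1 n23939 = n23982 := d15_0 (iv0 D23982) D23984 F37464
theorem F37466 : act 1 n23938 = n23984 := d15_1 D23938 (iv7 D23984) F18275
theorem F37467 : act 1 n23984 = n23937 := d15_0 (iv0 D23937) D23939 (iv2 F37464)
def n23985 : Q := act 5 n11240
theorem D23985 : act 5 n11240 = n23985 := rfl
theorem F37468 : act 2 n23985 = n16894 := d2_1 D23985 (iv5 D16894) (iv2 F18276)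
def n23986 : Q := act 1 n11242
theorem D23986 : act 1 n11242 = n23986 := rfl
theorem F37469 : act 1 n23986 = n14360 := d15_1 D23986 F23976 F23709
theorem F37470 : act 7 n23986 = n14426 := d15_2 (iv0 F24076) D23986 (iv2 D14426)
theorem F37471 : act 5 n16495 = n23986 := d21_6 (iv5 F3818) F4749 F4747 D5554 F18742 D16495 (iv1 D23986) (iv5 D11242) (iv6 D5171) F3477
theorem F37472 : act 2 n23986 = n14323 := d2_1 F37471 (iv5 F24105) (iv2 F26077)
theorem F37473 : act 3 n14446 = n23986 := d0_0 F37472 (iv3 D14323) F26019 D6906 D14446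
def n23987 : Q := act 4 n11242
theorem D23987 : act 4 n11242 = n23987 := rfl
theorem F37474 : act 1 n23987 = n13498 := d18_6 (iv1 F10460) D6417 F18104 F8402 D11242 D23987 (iv4 D13498) F22612 F22610
def n23988 : Q := act 5 n11243
theorem D23988 : act 5 n11243 = n23988 := rfl
theorem F37475 : act 2 n23988 = n11324 := d2_1 D23988 (iv5 D11324) (iv2 F26036)
theorem F37476 : act 3 n23988 = n16494 := d6_1 D23988 (iv5 D16494) (iv3 F19527)
theorem F37477 : act 7 n23988 = n11329 := d13_2 (iv7 F26037) D23988 (iv5 D11329)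
def n23989 : Q := act 6 n11243
theorem D23989 : act 6 n11243 = n23989 := rfl
theorem F37478 : act 2 n23989 = n11325 := d3_1 D23989 (iv6 D11325) (iv2 F26036)
theorem F37479 : act 3 n23989 = n16495 := d7_1 D23989 (iv6 D16495) (iv3 F19527)
theorem F37480 : act 4 n23989 = n11325 := d10_1 D23989 (iv6 D11325) (iv4 F19528)
theorem F37481 : act 5 n14446 = n23989 := d6_0 F37479 F37471 (iv3 F37473)
theorem F37482 : act 0 n23989 = n13352 := d20_10 F22232 F22224 F11459 (iv3 D7142) (iv1 F8390) (iv3 F19108) F19109 F22528 (iv4 F26078) (iv3 F37479)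
theorem F37483 : act 0 n14777 = n14446 := d17_2 F11289 D14777 F37481 F37480 (iv5 F19469) F24037 (iv5 D14394) (iv0 F11159) F11139
theorem F37484 : act 0 n14446 = n12034 := d21_7 F3740 (iv1 F1971) D2128 D5172 D11243 D23989 (iv5 F37481) (iv5 D12034) (iv6 D5698) (iv1 F3737)
theorem F37485 : act 1 n14777 = n14318 := d15_1 (iv0 F37483) F26014 D14446
theorem F37486 : act 1 n14318 = n12034 := d15_1 F37485 (iv7 F24036) (iv2 F24417)
def n23990 : Q := act 0 n11245
theorem D23990 : act 0 n11245 = n23990 := rfl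
def n23991 : Q := act 4 n11245
theorem D23991 : act 4 n11245 = n23991 := rfl
theorem F37487 : act 2 n23991 = n11333 := d1_1 D23991 (iv4 D11333) (iv2 F18284)
theorem F37488 : act 6 n23991 = n11249 := d10_2 (iv6 F18285) D23991 (iv4 D11249)
theorem F37489 : act 1 n23991 = n14807 := d18_6 (iv1 F19502) F8126 (iv1 F19503) (iv4 F7701) D11245 D23991 (iv4 D14807) F22157 F22156
def n23992 : Q := act 7 n11245
theorem D23992 : act 7 n11245 = n23992 := rfl
theorem F37490 : act 2 n23992 = n11334 := d4_1 D23992 (iv7 D11334) (iv2 F18284)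
theorem F37491 : act 5 n23992 = n11246 := d13_1 D23992 (iv7 D11246) D11245
theorem F37492 : act 1 n11334 = n23990 := d15_0 (iv0 D23990) D23992 F37490
theorem F37493 : act 1 n11332 = n23992 := d15_1 D11332 (iv7 D23992) F18284
theorem F37494 : act 7 n23990 = n11332 := d15_2 F26101 F37492 (iv2 F26098)
theorem F37495 : act 2 n23990 = n11331 := d15_3 (iv0 D11331) D11332 (iv7 F37494)
theorem F37496 : act 7 n11331 = n16507 := d4_2 (iv7 F37494) F37495 F26098
theorem F37497 : act 3 n16490 = n11331 := d8_3 F37496 (iv3 D16507) (iv7 F26066)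
theorem F37498 : act 1 n23992 = n11331 := d15_1 F37493 F37496 F26098
def n23993 : Q := act 3 n11247
theorem D23993 : act 3 n11247 = n23993 := rfl
theorem F37499 : act 2 n23993 = n12263 := d0_1 D23993 (iv3 D12263) (iv2 F19654) (iv3 D11354) F18293
theorem F37500 : act 5 n23993 = n13397 := d6_2 (iv5 F18292) D23993 (iv3 D13397)
theorem F37501 : act 7 n23993 = n11357 := d8_2 F18294 D23993 (iv3 D11357)
theorem F37502 : act 4 n23811 = n23993 := d20_8 (iv4 F18548) (iv1 F19205) (iv4 D11824) F11489 (iv1 D5101) (iv3 F7584) D11162 D23811 (iv3 D23993) (iv1 F18295)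
theorem F37503 : act 1 n12263 = n14334 := d15_0 (iv0 F23949) (iv7 F37501) F37499
theorem F37504 : act 0 n14148 = n23993 := d17_2 (iv1 F19318) D14148 F37500 F22275 F10365 (iv0 F20247) (iv5 D6845) F10164 (iv4 F18522)
def n23994 : Q := act 4 n11247
theorem D23994 : act 4 n11247 = n23994 := rfl
theorem F37505 : act 2 n23994 = n11355 := d1_1 D23994 (iv4 D11355) F18293
theorem F37506 : act 7 n23994 = n11358 := d11_2 F18294 D23994 (iv4 D11358)
theorem F37507 : act 5 n23994 = n11982 := d16_1 D23994 (iv4 D11982) (iv5 D5653) (iv4 D2360) D2361 D5655 F18298 F18297 F18293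
theorem F37508 : act 0 n23994 = n11828 := d18_2 D11247 D23994 F19216 F8450 F3661 (iv0 F9982) D2677 (iv0 F4991) D5174
theorem F37509 : act 1 n23994 = n11769 := d18_6 F11424 F8848 F9997 D6359 (iv5 F18292) D23994 (iv4 D11769) (iv0 F18614) (iv5 D11386)
def n23995 : Q := act 6 n11247
theorem D23995 : act 6 n11247 = n23995 := rfl
theorem F37510 : act 2 n23995 = n11356 := d3_1 D23995 (iv6 D11356) F18293
def n23996 : Q := act 4 n11248
theorem D23996 : act 4 n11248 = n23996 := rfl
theorem F37511 : act 2 n23996 = n11358 := d1_1 D23996 (iv4 D11358) (iv2 F18299)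
theorem F37512 : act 5 n23996 = n13393 := d9_2 F18298 D23996 (iv4 D13393) (iv5 D6355) (iv4 D2677) D2678 D6359 (iv5 F18292) D23994 F37507 (iv4 D11982) (iv5 D5653) (iv4 D2360) D2361 D5655
theorem F37513 : act 7 n23996 = n11355 := d11_2 (iv7 F18297) D23996 (iv4 D11355)
theorem F37514 : act 0 n23996 = n11769 := d18_2 (iv1 F18296) D23996 (iv4 D11769) (iv5 D5507) F3628 F7715 D2360 (iv0 F9991) (iv5 F7801)
theorem F37515 : act 1 n23996 = n11828 := d18_6 D11374 F18572 F8293 D5655 F18298 D23996 F19216 F10469 F10467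
def n23997 : Q := act 6 n11248
theorem D23997 : act 6 n11248 = n23997 := rfl
theorem F37516 : act 2 n23997 = n11359 := d3_1 D23997 (iv6 D11359) (iv2 F18299)
theorem F37517 : act 3 n23997 = n12267 := d7_1 D23997 (iv6 D12267) F19652
def n23998 : Q := act 3 n11249
theorem D23998 : act 3 n11249 = n23998 := rfl
def n23999 : Q := act 6 n11250
theorem D23999 : act 6 n11250 = n23999 := rfl
theorem F37518 : act 2 n23999 = n11365 := d3_1 D23999 (iv6 D11365) (iv2 F18301)
theorem F37519 : act 5 n23999 = n23999 := d12_1 D23999 (iv6 D23999) F18302 F7741 (iv5 F18302)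
def n24000 : Q := act 1 n11257
theorem D24000 : act 1 n11257 = n24000 := rfl
theorem F37520 : act 1 n24000 = n11263 := d15_1 D24000 (iv7 F18379) F18377
theorem F37521 : act 5 n24000 = n11706 := d17_7 (iv1 F10496) F18335 (iv1 D11260) (iv5 D5189) D5188 D11257 D24000 F19991 F19988
theorem F37522 : act 3 n13813 = n24000 := d6_3 F37521 F19043 F23073
def n24001 : Q := act 4 n11257
theorem D24001 : act 4 n11257 = n24001 := rfl
def n24002 : Q := act 6 n11257
theorem D24002 : act 6 n11257 = n24002 := rfl
theorem F37523 : act 5 n24002 = n12086 := d12_1 D24002 (iv6 D12086) (iv5 F18329) (iv6 D11258) D11257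
def n24003 : Q := act 4 n11259
theorem D24003 : act 4 n11259 = n24003 := rfl
theorem F37524 : act 0 n24003 = n11770 := d18_2 D11259 D24003 (iv4 D11770) (iv5 D5509) F10250 F7761 F7758 F3510 D5189
theorem F37525 : act 1 n24003 = n11431 := d18_6 (iv1 D5736) (iv4 F8827) F19888 F19887 (iv5 F18331) D24003 (iv4 D11431) (iv0 F10922) F10919
def n24004 : Q := act 4 n11260
theorem D24004 : act 4 n11260 = n24004 := rfl
theorem F37526 : act 3 n24004 = n11377 := d5_1 D24004 (iv4 D11377) F10349 D6624 (iv3 F26385)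
theorem F37527 : act 6 n24004 = n11377 := d10_2 (iv6 F18337) D24004 (iv4 D11377)
theorem F37528 : act 0 n24004 = n11431 := d18_2 (iv1 F18334) D24004 (iv4 D11431) (iv5 D5313) (iv4 F10246) (iv0 D2972) F2461 D2134 D5194
theorem F37529 : act 1 n24004 = n11770 := d18_6 (iv1 F18032) (iv4 F36947) (iv1 F36950) F18576 F18335 D24004 (iv4 D11770) F18678 F18676
def n24005 : Q := act 1 n11261
theorem D24005 : act 1 n11261 = n24005 := rfl
theorem F37530 : act 1 n24005 = n11265 := d15_1 D24005 (iv7 F18403) F18402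
theorem F37531 : act 4 n24005 = n11388 := d18_7 (iv1 D2163) (iv4 F3512) (iv1 F10228) (iv4 D5188) D5189 D11261 D24005 F18620 (iv5 D5293)
theorem F37532 : act 2 n14095 = n24005 := d1_3 F37531 F18623 (iv4 F23554)
theorem F37533 : act 3 n15948 = n24005 := d5_5 F37531 F18624 (iv4 F10700) (iv3 F23159) F26985
theorem F37534 : act 6 n11708 = n24005 := d10_0 F37531 (iv6 F18622) D11708
def n24006 : Q := act 3 n11261
theorem D24006 : act 3 n11261 = n24006 := rfl
def n24007 : Q := act 5 n11261
theorem D24007 : act 5 n11261 = n24007 := rfl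
theorem F37535 : act 1 n24007 = n11394 := d17_6 (iv1 D5197) (iv5 D2135) D2133 D5189 D11261 D24007 (iv5 D11394) (iv0 F18348) (iv4 D11268)
def n24008 : Q := act 6 n11261
theorem D24008 : act 6 n11261 = n24008 := rfl
theorem F37536 : act 2 n24008 = n23770 := d3_1 D24008 (iv6 F37049) F18402
theorem F37537 : act 4 n24008 = n11262 := d10_1 D24008 (iv6 D11262) D11261
theorem F37538 : act 0 n15940 = n24008 := d18_2 (iv1 F22847) F26506 F37537 F18338 (iv4 F20055) (iv0 F28418) (iv4 D17427) F22720 (iv5 F22845)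
def n24009 : Q := act 4 n11263
theorem D24009 : act 4 n11263 = n24009 := rfl
def n24010 : Q := act 6 n11263
theorem D24010 : act 6 n11263 = n24010 := rfl
def n24011 : Q := act 3 n11265
theorem D24011 : act 3 n11265 = n24011 := rfl
theorem F37539 : act 4 n24011 = n11436 := d5_2 D11265 D24011 (iv3 D11436) (iv4 D5325) (iv3 F10241)
theorem F37540 : act 6 n24011 = n16424 := d7_2 (iv6 F20218) D24011 F25902
theorem F37541 : act 7 n24011 = n23772 := d8_2 F18403 D24011 F37050
theorem F37542 : act 0 n14106 = n24011 := d20_4 (iv4 D5682) D5680 D12015 (iv3 F23579) (iv3 D24011) (iv4 D11265) (iv1 F18334) D24004 F37526 F18584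
def n24012 : Q := act 5 n11265
theorem D24012 : act 5 n11265 = n24012 := rfl
theorem F37543 : act 0 n24012 = n11394 := d17_2 F23489 D24012 (iv5 D11394) (iv4 D5297) (iv5 D2164) D2163 D5293 (iv0 F10892) D14067
def n24013 : Q := act 3 n11267
theorem D24013 : act 3 n11267 = n24013 := rfl
theorem F37544 : act 6 n24013 = n23948 := d7_2 (iv6 F18346) D24013 (iv3 D23948)
def n24014 : Q := act 5 n11267
theorem D24014 : act 5 n11267 = n24014 := rfl
def n24015 : Q := act 3 n11268
theorem D24015 : act 3 n11268 = n24015 := rfl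
theorem F37545 : act 4 n24015 = n11440 := d5_2 D11268 D24015 (iv3 D11440) (iv4 D5330) (iv3 F9965)
theorem F37546 : act 7 n24015 = n16600 := d8_2 F18423 D24015 F27086
def n24016 : Q := act 5 n11268
theorem D24016 : act 5 n11268 = n24016 := rfl
def n24017 : Q := act 6 n11268
theorem D24017 : act 6 n11268 = n24017 := rfl
theorem F37547 : act 4 n24017 = n11269 := d10_1 D24017 (iv6 D11269) D11268
theorem F37548 : act 7 n24017 = n13530 := d14_2 F18423 D24017 (iv6 D13530) (iv7 F18133) (iv6 F18422)
theorem F37549 : act 0 n14898 = n24017 := d20_7 F12081 (iv1 D7087) F5028 F5062 D3234 D7091 D14898 F37547 F18349 F12084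
def n24018 : Q := act 3 n11270
theorem D24018 : act 3 n11270 = n24018 := rfl
theorem F37550 : act 4 n24018 = n11438 := d5_2 (iv4 F18352) D24018 (iv3 D11438) (iv4 D5328) D5327
theorem F37551 : act 6 n24018 = n13542 := d7_2 F18353 D24018 (iv3 D13542)
theorem F37552 : act 7 n24018 = n16603 := d8_2 (iv7 F18435) D24018 F27090
def n24019 : Q := act 5 n11270
theorem D24019 : act 5 n11270 = n24019 := rfl
def n24020 : Q := act 3 n11271
theorem D24020 : act 3 n11271 = n24020 := rfl
def n24021 : Q := act 5 n11271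
theorem D24021 : act 5 n11271 = n24021 := rfl
def n24022 : Q := act 6 n11271
theorem D24022 : act 6 n11271 = n24022 := rfl
theorem F37553 : act 4 n24022 = n11771 := d10_1 D24022 (iv6 D11771) (iv4 F18354)
theorem F37554 : act 7 n24022 = n23737 := d14_2 F18439 D24022 (iv6 D23737) F18025 (iv6 F18438)
def n24023 : Q := act 5 n11272
theorem D24023 : act 5 n11272 = n24023 := rfl
theorem F37555 : act 3 n24023 = n11273 := d6_1 D24023 (iv5 D11273) D11272
theorem F37556 : act 0 n24023 = n12018 := d17_2 (iv1 F26404) D24023 (iv5 D12018) (iv4 D5682) (iv5 D2374) F10049 D3006 D6686 D14061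
def n24024 : Q := act 0 n11273
theorem D24024 : act 0 n11273 = n24024 := rfl
theorem F37557 : act 5 n24024 = n11431 := d17_3 (iv1 D11271) D11273 D24024 (iv4 D11431) (iv5 D5313) F4934 D2284 D5511 (iv4 F18354)
def n24025 : Q := act 1 n11273
theorem D24025 : act 1 n11273 = n24025 := rfl
theorem F37558 : act 5 n24025 = n11770 := d17_7 (iv1 F18332) (iv5 D5194) (iv1 D2134) D2135 D5198 D11273 D24025 (iv0 F37524) (iv4 D24003)
def n24026 : Q := act 4 n11273
theorem D24026 : act 4 n11273 = n24026 := rfl
def n24027 : Q := act 6 n11273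
theorem D24027 : act 6 n11273 = n24027 := rfl
def n24028 : Q := act 7 n11273
theorem D24028 : act 7 n11273 = n24028 := rfl
theorem F37559 : act 5 n24028 = n11274 := d13_1 D24028 (iv7 D11274) D11273
def n24029 : Q := act 5 n11275
theorem D24029 : act 5 n11275 = n24029 := rfl
theorem F37560 : act 3 n24029 = n11276 := d6_1 D24029 (iv5 D11276) D11275
theorem F37561 : act 7 n24029 = n13950 := d13_2 (iv7 F18357) D24029 (iv5 D13950)
def n24030 : Q := act 1 n11276
theorem D24030 : act 1 n11276 = n24030 := rfl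
theorem F37562 : act 1 n24030 = n11277 := d15_1 D24030 F18361 (iv2 F18358)
theorem F37563 : act 7 n24030 = n13946 := d15_2 (iv0 F22983) D24030 (iv2 F23229)
theorem F37564 : act 5 n24030 = n13532 := d17_7 (iv1 F8840) F18621 (iv1 D11388) (iv5 D5290) (iv4 F10224) D11276 D24030 (iv0 F22688) F20010
theorem F37565 : act 2 n13947 = n24030 := d2_3 F37564 F22684 F23233
def n24031 : Q := act 4 n11276
theorem D24031 : act 4 n11276 = n24031 := rfl
theorem F37566 : act 2 n24031 = n13948 := d1_1 D24031 (iv4 D13948) (iv2 F18358)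
theorem F37567 : act 7 n24031 = n13952 := d11_2 (iv7 F18359) D24031 (iv4 D13952)
def n24032 : Q := act 6 n11276
theorem D24032 : act 6 n11276 = n24032 := rfl
theorem F37568 : act 2 n24032 = n13949 := d3_1 D24032 (iv6 D13949) (iv2 F18358)
theorem F37569 : act 5 n24032 = n13415 := d12_1 D24032 (iv6 D13415) (iv5 F11432) F11431 D11276
def n24033 : Q := act 4 n11277
theorem D24033 : act 4 n11277 = n24033 := rfl
theorem F37570 : act 2 n24033 = n13952 := d1_1 D24033 (iv4 D13952) (iv2 F18360)
theorem F37571 : act 7 n24033 = n13948 := d11_2 (iv7 F18361) D24033 (iv4 D13948)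
def n24034 : Q := act 6 n11277
theorem D24034 : act 6 n11277 = n24034 := rfl
theorem F37572 : act 2 n24034 = n13953 := d3_1 D24034 (iv6 D13953) (iv2 F18360)
def n24035 : Q := act 5 n11278
theorem D24035 : act 5 n11278 = n24035 := rfl
theorem F37573 : act 2 n24035 = n13954 := d2_1 D24035 (iv5 D13954) (iv2 F18362)
theorem F37574 : act 7 n24035 = n16583 := d13_2 F19048 D24035 F27058
theorem F37575 : act 0 n24035 = n12022 := d17_2 F18364 D24035 (iv5 D12022) (iv4 F10076) D6386 (iv0 F18419) (iv5 D11293) F10330 (iv4 F7815)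
theorem F37576 : act 1 n24035 = n11479 := d17_6 F10032 D2926 D6566 F10623 (iv4 F18363) D24035 (iv5 D11479) F10285 F3721
def n24036 : Q := act 3 n11279
theorem D24036 : act 3 n11279 = n24036 := rfl
theorem F37577 : act 7 n24036 = n13958 := d8_2 (iv7 F18373) D24036 (iv3 D13958)
theorem F37578 : act 4 n14281 = n24036 := d20_2 D6809 D14281 (iv3 D24036) (iv1 F18371) F10758 (iv4 F10828) (iv1 F10830) F10619 D6752 F22539
theorem F37579 : act 7 n14299 = n14281 := d11_0 F37578 F37577 (iv4 F23882)
theorem F37580 : act 1 n24036 = n13460 := d18_8 F19478 (iv4 F22496) (iv1 F11060) F11053 (iv5 F11075) (iv4 F23885) F23888 F37578 (iv5 D13460)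
theorem F37581 : act 2 n14281 = n14298 := d15_3 (iv0 D14298) D14299 F37579
theorem F37582 : act 2 n14299 = n14282 := d15_3 F23887 F23888 (iv7 F37579)
theorem F37583 : act 7 n14282 = n14298 := d4_2 (iv7 F37579) F37582 (iv2 F37581)
def n24037 : Q := act 4 n11279
theorem D24037 : act 4 n11279 = n24037 := rfl
theorem F37584 : act 2 n24037 = n13956 := d1_1 D24037 (iv4 D13956) (iv2 F18374)
theorem F37585 : act 7 n24037 = n13959 := d11_2 (iv7 F18373) D24037 (iv4 D13959)
theorem F37586 : act 1 n24037 = n11305 := d18_6 F19901 F19899 (iv1 F18032) (iv4 F36947) F36948 D24037 (iv4 D11305) D11304 (iv5 F18454)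
def n24038 : Q := act 6 n11279
theorem D24038 : act 6 n11279 = n24038 := rfl
theorem F37587 : act 2 n24038 = n13957 := d3_1 D24038 (iv6 D13957) (iv2 F18374)
def n24039 : Q := act 3 n11280
theorem D24039 : act 3 n11280 = n24039 := rfl
theorem F37588 : act 5 n24039 = n12094 := d6_2 F18366 D24039 F20008
theorem F37589 : act 7 n24039 = n13955 := d8_2 F18375 D24039 (iv3 D13955)
theorem F37590 : act 4 n24039 = n14181 := d20_6 (iv4 F10618) (iv1 F10831) F10828 (iv3 F10758) (iv1 F18365) D24039 (iv1 D14181) (iv4 D6748) F4757 D3044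
theorem F37591 : act 0 n24039 = n11778 := d21_7 (iv5 F8426) F8428 (iv5 F4782) D6766 (iv1 F19396) D12094 (iv5 F37588) (iv5 D11778) (iv6 D5515) (iv1 F3651)
def n24040 : Q := act 4 n11280
theorem D24040 : act 4 n11280 = n24040 := rfl
theorem F37592 : act 2 n24040 = n13959 := d1_1 D24040 (iv4 D13959) (iv2 F18367)
theorem F37593 : act 7 n24040 = n13956 := d11_2 F18375 D24040 (iv4 D13956)
theorem F37594 : act 0 n24040 = n11305 := d18_2 (iv1 F18365) D24040 (iv4 D11305) (iv5 D5220) F3512 D2163 (iv4 F10274) F7755 (iv5 F10759)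
def n24041 : Q := act 6 n11280
theorem D24041 : act 6 n11280 = n24041 := rfl
theorem F37595 : act 2 n24041 = n13960 := d3_1 D24041 (iv6 D13960) (iv2 F18367)
theorem F37596 : act 5 n24041 = n12096 := d12_1 D24041 (iv6 D12096) (iv5 D5730) D5731 F18366
def n24042 : Q := act 0 n11281
theorem D24042 : act 0 n11281 = n24042 := rfl
theorem F37597 : act 4 n24042 = n11311 := d18_3 (iv1 D11280) D11281 D24042 (iv5 F19989) F19988 F10497 (iv4 F19887) (iv0 F19888) F18366
theorem F37598 : act 2 n13961 = n24042 := d1_3 F37597 F18476 F36901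
theorem F37599 : act 7 n13962 = n24042 := d11_0 F37597 F18475 (iv4 F23241)
theorem F37600 : act 1 n13965 = n24042 := d18_6 (iv1 F10262) (iv4 D5206) (iv1 F3508) (iv4 F4663) (iv5 F10759) (iv4 F23244) F37597 (iv0 D11311) (iv5 D5225)
def n24043 : Q := act 1 n11281
theorem D24043 : act 1 n11281 = n24043 := rfl
theorem F37601 : act 1 n24043 = n13965 := d15_1 D24043 (iv7 D13965) (iv2 F18368)
theorem F37602 : act 7 n24043 = n13961 := d15_2 (iv0 D24042) D24043 F37598
theorem F37603 : act 4 n24043 = n11312 := d18_7 (iv1 F10254) (iv4 D5211) (iv1 D2139) (iv4 F3500) D5202 D11281 D24043 F18467 F18455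
theorem F37604 : act 2 n13962 = n24043 := d1_3 F37603 F18469 (iv4 F23241)
def n24044 : Q := act 3 n11281
theorem D24044 : act 3 n11281 = n24044 := rfl
def n24045 : Q := act 5 n11281
theorem D24045 : act 5 n11281 = n24045 := rfl
theorem F37605 : act 2 n24045 = n13964 := d2_1 D24045 (iv5 D13964) (iv2 F18368)
theorem F37606 : act 4 n24045 = n24028 := d16_2 D11281 D24045 F37559 F18355 F7754 (iv4 F4663) (iv5 F10759) (iv7 D6638) (iv2 F7756)
theorem F37607 : act 7 n24026 = n24045 := d11_0 F37606 (iv7 D24028) D24026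
def n24046 : Q := act 7 n11281
theorem D24046 : act 7 n11281 = n24046 := rfl
theorem F37608 : act 2 n24046 = n13965 := d4_1 D24046 (iv7 D13965) (iv2 F18368)
theorem F37609 : act 4 n24046 = n11282 := d11_1 D24046 (iv7 D11282) D11281
theorem F37610 : act 5 n24046 = n24026 := d13_1 D24046 F37607 (iv5 D24045)
theorem F37611 : act 1 n13962 = n24046 := d15_1 D13962 (iv7 D24046) F18368
theorem F37612 : act 1 n24046 = n13961 := d15_1 F37611 (iv7 F37602) (iv2 F37604)
def n24047 : Q := act 6 n11282
theorem D24047 : act 6 n11282 = n24047 := rfl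
theorem F37613 : act 2 n24047 = n13966 := d3_1 D24047 (iv6 D13966) (iv2 F18369)
theorem F37614 : act 5 n24047 = n24047 := d12_1 D24047 (iv6 D24047) F18370 F7759 (iv5 F18370)
def n24048 : Q := act 0 n11283
theorem D24048 : act 0 n11283 = n24048 := rfl
theorem F37615 : act 5 n24048 = n12027 := d17_3 (iv1 F10262) D11283 D24048 F19899 (iv5 F18676) (iv0 D11430) (iv5 D5313) F4934 (iv4 F3517)
theorem F37616 : act 1 n11290 = n24048 := d15_0 (iv0 D24048) F18379 (iv2 F18410)
theorem F37617 : act 2 n14059 = n24048 := d2_3 F37615 F19897 D14059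
theorem F37618 : act 3 n14069 = n24048 := d6_3 F37615 F19898 (iv5 F23493)
theorem F37619 : act 7 n24000 = n24048 := d13_0 F37615 F19900 (iv5 F37521)
def n24049 : Q := act 1 n11283
theorem D24049 : act 1 n11283 = n24049 := rfl
theorem F37620 : act 1 n24049 = n11290 := d15_1 D24049 F18411 (iv2 F18377)
theorem F37621 : act 7 n24049 = n14059 := d15_2 (iv0 D24048) D24049 F37617
theorem F37622 : act 5 n24049 = n12076 := d17_7 (iv1 F18193) F18398 (iv1 D11286) (iv5 D5207) D5206 D11283 D24049 F36899 F36896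
theorem F37623 : act 2 n24000 = n24049 := d2_3 F37622 F19986 (iv5 F37521)
def n24050 : Q := act 4 n11283
theorem D24050 : act 4 n11283 = n24050 := rfl
theorem F37624 : act 2 n24050 = n24001 := d1_1 D24050 (iv4 D24001) (iv2 F18377)
theorem F37625 : act 7 n24050 = n24009 := d11_2 (iv7 F18379) D24050 (iv4 D24009)
def n24051 : Q := act 6 n11283
theorem D24051 : act 6 n11283 = n24051 := rfl
theorem F37626 : act 2 n24051 = n24002 := d3_1 D24051 (iv6 D24002) (iv2 F18377)
theorem F37627 : act 3 n24051 = n14226 := d7_1 D24051 (iv6 D14226) (iv3 F18378)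
theorem F37628 : act 5 n24051 = n23722 := d12_1 D24051 (iv6 D23722) (iv5 F18383) (iv6 D11284) D11283
def n24052 : Q := act 4 n11285
theorem D24052 : act 4 n11285 = n24052 := rfl
theorem F37629 : act 2 n24052 = n24003 := d1_1 D24052 (iv4 D24003) F18393
theorem F37630 : act 3 n24052 = n12029 := d5_1 D24052 F19906 F10750 F26383 F18394
theorem F37631 : act 7 n24052 = n24004 := d11_2 F18395 D24052 (iv4 D24004)
theorem F37632 : act 0 n24052 = n11391 := d18_2 D11285 D24052 (iv4 D11391) (iv5 D5293) (iv4 F10274) F7755 F4663 F3508 D5207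
theorem F37633 : act 1 n24052 = n11389 := d18_6 F8416 (iv4 F18021) F18023 F11983 (iv5 F18391) D24052 (iv4 D11389) D11388 (iv5 F18621)
def n24053 : Q := act 4 n11286
theorem D24053 : act 4 n11286 = n24053 := rfl
theorem F37634 : act 2 n24053 = n24004 := d1_1 D24053 (iv4 D24004) (iv2 F18399)
theorem F37635 : act 6 n24053 = n12030 := d10_2 (iv6 F18401) D24053 F19912
theorem F37636 : act 7 n24053 = n24003 := d11_2 (iv7 F18397) D24053 (iv4 D24003)
theorem F37637 : act 0 n24053 = n11389 := d18_2 (iv1 F18396) D24053 (iv4 D11389) (iv5 D5290) (iv4 F10224) (iv0 D5200) F3500 D2139 D5212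
theorem F37638 : act 1 n24053 = n11391 := d18_6 F10019 (iv4 F20010) F22688 (iv4 D13532) F18398 D24053 (iv4 D11391) (iv0 F10892) (iv5 D6688)
def n24054 : Q := act 0 n11287
theorem D24054 : act 0 n11287 = n24054 := rfl
theorem F37639 : act 4 n24054 = n11430 := d18_3 (iv1 D11286) D11287 D24054 F18676 (iv4 F19899) (iv0 F19901) F8820 D6437 F18398
theorem F37640 : act 2 n14067 = n24054 := d15_3 (iv0 D24054) F23556 (iv7 F23555)
theorem F37641 : act 1 n11292 = n24054 := d15_0 (iv0 D24054) F18403 (iv2 F18415)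
theorem F37642 : act 7 n24054 = n24005 := d15_2 (iv0 F23557) F37641 (iv2 F37532)
theorem F37643 : act 6 n17406 = n24054 := d14_5 F37642 (iv6 F37534) (iv7 F19875) (iv6 F28416) F28417
def n24055 : Q := act 5 n11287
theorem D24055 : act 5 n11287 = n24055 := rfl
theorem F37644 : act 2 n24055 = n24007 := d2_1 D24055 (iv5 D24007) (iv2 F18402)
theorem F37645 : act 7 n24055 = n24012 := d13_2 (iv7 F18403) D24055 (iv5 D24012)
theorem F37646 : act 1 n24055 = n11773 := d17_6 (iv1 D5215) (iv5 D2140) D2138 D5207 D11287 D24055 (iv5 D11773) (iv0 F18427) (iv4 D11295)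
def n24056 : Q := act 4 n11290
theorem D24056 : act 4 n11290 = n24056 := rfl
theorem F37647 : act 2 n24056 = n24009 := d1_1 D24056 (iv4 D24009) (iv2 F18410)
theorem F37648 : act 7 n24056 = n24001 := d11_2 (iv7 F18411) D24056 (iv4 D24001)
def n24057 : Q := act 6 n11290
theorem D24057 : act 6 n11290 = n24057 := rfl
theorem F37649 : act 2 n24057 = n24010 := d3_1 D24057 (iv6 D24010) (iv2 F18410)
def n24058 : Q := act 3 n11292
theorem D24058 : act 3 n11292 = n24058 := rfl
theorem F37650 : act 7 n24058 = n24006 := d8_2 (iv7 F18416) D24058 (iv3 D24006)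
def n24059 : Q := act 5 n11292
theorem D24059 : act 5 n11292 = n24059 := rfl
theorem F37651 : act 2 n24059 = n24012 := d2_1 D24059 (iv5 D24012) (iv2 F18415)
theorem F37652 : act 7 n24059 = n24007 := d13_2 (iv7 F18416) D24059 (iv5 D24007)
theorem F37653 : act 0 n24059 = n11773 := d17_2 (iv1 F37641) D24059 (iv5 D11773) (iv4 D5512) (iv5 D2284) D2283 D5509 F18678 (iv4 F37639)
def n24060 : Q := act 5 n11294
theorem D24060 : act 5 n11294 = n24060 := rfl
theorem F37654 : act 2 n24060 = n24014 := d2_1 D24060 (iv5 D24014) (iv2 F18421)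
theorem F37655 : act 7 n24060 = n24016 := d13_2 (iv7 F18423) D24060 (iv5 D24016)
def n24061 : Q := act 3 n11295
theorem D24061 : act 3 n11295 = n24061 := rfl
theorem F37656 : act 4 n24061 = n24020 := d5_2 D11295 D24061 (iv3 D24020) F18354 (iv3 F10180)
theorem F37657 : act 7 n24061 = n24013 := d8_2 (iv7 F18426) D24061 (iv3 D24013)
def n24062 : Q := act 5 n11295
theorem D24062 : act 5 n11295 = n24062 := rfl
theorem F37658 : act 2 n24062 = n24016 := d2_1 D24062 (iv5 D24016) (iv2 F18425)
theorem F37659 : act 7 n24062 = n24014 := d13_2 (iv7 F18426) D24062 (iv5 D24014)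
def n24063 : Q := act 6 n11295
theorem D24063 : act 6 n11295 = n24063 := rfl
theorem F37660 : act 2 n24063 = n24017 := d3_1 D24063 (iv6 D24017) (iv2 F18425)
theorem F37661 : act 4 n24063 = n11296 := d10_1 D24063 (iv6 D11296) D11295
theorem F37662 : act 7 n24063 = n23924 := d14_2 (iv7 F18426) D24063 (iv6 D23924) (iv7 F18224) (iv6 F18346)
theorem F37663 : act 0 n16944 = n24063 := d20_1 (iv4 F27784) F37661 (iv3 F19123) (iv1 F20024) F20027 D12356 F20535 F18130 (iv3 F8832) F12673
def n24064 : Q := act 3 n11297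
theorem D24064 : act 3 n11297 = n24064 := rfl
theorem F37664 : act 4 n24064 = n24013 := d5_2 (iv4 F18437) D24064 (iv3 D24013) (iv4 D11267) F10183
theorem F37665 : act 6 n24064 = n12108 := d7_2 (iv6 F18438) D24064 (iv3 D12108)
theorem F37666 : act 7 n24064 = n24020 := d8_2 (iv7 F18439) D24064 (iv3 D24020)
def n24065 : Q := act 5 n11297
theorem D24065 : act 5 n11297 = n24065 := rfl
theorem F37667 : act 2 n24065 = n24019 := d2_1 D24065 (iv5 D24019) F18436
theorem F37668 : act 7 n24065 = n24021 := d13_2 (iv7 F18439) D24065 (iv5 D24021)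
def n24066 : Q := act 5 n11298
theorem D24066 : act 5 n11298 = n24066 := rfl
theorem F37669 : act 2 n24066 = n24021 := d2_1 D24066 (iv5 D24021) F18434
theorem F37670 : act 7 n24066 = n24019 := d13_2 F18435 D24066 (iv5 D24019)
def n24067 : Q := act 6 n11298
theorem D24067 : act 6 n11298 = n24067 := rfl
theorem F37671 : act 2 n24067 = n24022 := d3_1 D24067 (iv6 D24022) F18434
theorem F37672 : act 4 n24067 = n11392 := d10_1 D24067 (iv6 D11392) (iv4 F18433)
theorem F37673 : act 7 n24067 = n12102 := d14_2 F18435 D24067 (iv6 D12102) (iv7 F10512) F18353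
theorem F37674 : act 0 n16953 = n24067 := d20_1 (iv4 F27798) F37672 F18628 (iv1 F10499) F12604 D7095 (iv1 F18132) F10498 (iv3 F10483) F12663
def n24068 : Q := act 0 n11299
theorem D24068 : act 0 n11299 = n24068 := rfl
def n24069 : Q := act 1 n11299
theorem D24069 : act 1 n11299 = n24069 := rfl
def n24070 : Q := act 2 n11299
theorem D24070 : act 2 n11299 = n24070 := rfl
theorem F37675 : act 3 n24070 = n13442 := d0_2 D11299 D24070 (iv2 F26405) (iv3 D11272) (iv2 F7770)
theorem F37676 : act 4 n24070 = n24070 := d1_2 F18441 D24070 (iv2 D24070)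
theorem F37677 : act 6 n24070 = n16914 := d3_2 (iv6 F18442) D24070 (iv2 D16914)
def n24071 : Q := act 5 n11299
theorem D24071 : act 5 n11299 = n24071 := rfl
theorem F37678 : act 3 n24071 = n11300 := d6_1 D24071 (iv5 D11300) D11299
def n24072 : Q := act 7 n11299
theorem D24072 : act 7 n11299 = n24072 := rfl
theorem F37679 : act 3 n24072 = n11301 := d8_1 D24072 (iv7 D11301) D11299
theorem F37680 : act 4 n24072 = n24072 := d11_1 D24072 (iv7 D24072) F18441
def n24073 : Q := act 0 n11300
theorem D24073 : act 0 n11300 = n24073 := rfl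
theorem F37681 : act 5 n24073 = n11389 := d17_3 (iv1 D11298) D11300 D24073 (iv4 D11389) (iv5 D5290) (iv0 D2162) D2164 D5296 (iv4 F18433)
theorem F37682 : act 2 n24024 = n24073 := d2_3 F37681 (iv2 F18682) (iv5 F37557)
theorem F37683 : act 7 n24025 = n24073 := d13_0 F37681 (iv7 F19121) (iv5 F37558)
theorem F37684 : act 1 n24028 = n24073 := d17_6 (iv1 D11286) (iv5 D5207) (iv1 F3508) (iv5 F7754) (iv4 F18355) (iv5 F37559) F37681 (iv0 F37637) (iv4 D24053)
def n24074 : Q := act 1 n11300
theorem D24074 : act 1 n11300 = n24074 := rfl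
theorem F37685 : act 1 n24074 = n24028 := d15_1 D24074 (iv7 D24028) (iv2 F18443)
theorem F37686 : act 7 n24074 = n24024 := d15_2 (iv0 D24073) D24074 F37682
theorem F37687 : act 5 n24074 = n11391 := d17_7 (iv1 F18392) (iv5 D5212) (iv1 D2139) D2140 D5216 D11300 D24074 (iv0 F37632) (iv4 D24052)
theorem F37688 : act 2 n24025 = n24074 := d2_3 F37687 (iv2 F19120) (iv5 F37558)
def n24075 : Q := act 4 n11300
theorem D24075 : act 4 n11300 = n24075 := rfl
theorem F37689 : act 2 n24075 = n24026 := d1_1 D24075 (iv4 D24026) (iv2 F18443)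
theorem F37690 : act 5 n24075 = n13965 := d9_2 D11300 D24075 F23244 F10759 F4663 (iv5 F7754) (iv4 F18355) (iv5 F37559) (iv4 F37606) (iv5 D24045) (iv4 D11281) (iv5 D5202) F3500 D2140 D5216
theorem F37691 : act 7 n13964 = n24075 := d13_0 F37690 (iv7 D13965) D13964
def n24076 : Q := act 6 n11300
theorem D24076 : act 6 n11300 = n24076 := rfl
theorem F37692 : act 2 n24076 = n24027 := d3_1 D24076 (iv6 D24027) (iv2 F18443)
theorem F37693 : act 5 n24076 = n16916 := d12_1 D24076 (iv6 D16916) (iv5 D7893) (iv6 F7771) D11300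
def n24077 : Q := act 7 n11300
theorem D24077 : act 7 n11300 = n24077 := rfl
theorem F37694 : act 2 n24077 = n24028 := d4_1 D24077 (iv7 D24028) (iv2 F18443)
theorem F37695 : act 4 n24077 = n13964 := d11_1 D24077 F37691 (iv4 D24075)
theorem F37696 : act 5 n24077 = n11301 := d13_1 D24077 (iv7 D11301) D11300
theorem F37697 : act 1 n24025 = n24077 := d15_1 D24025 (iv7 D24077) F18443
theorem F37698 : act 1 n24077 = n24024 := d15_1 F37697 (iv7 F37686) (iv2 F37688)
def n24078 : Q := act 6 n11301
theorem D24078 : act 6 n11301 = n24078 := rfl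
theorem F37699 : act 2 n24078 = n16907 := d3_1 D24078 F27703 (iv2 F18444)
theorem F37700 : act 4 n24078 = n11302 := d10_1 D24078 (iv6 D11302) (iv4 F18445)
theorem F37701 : act 7 n24078 = n12139 := d14_2 D11301 D24078 (iv6 D12139) (iv7 F8862) (iv6 F7771)
theorem F37702 : act 1 n15251 = n24078 := d15_1 (iv0 F24851) F37701 F20074
theorem F37703 : act 1 n24078 = n15250 := d15_1 F37702 (iv7 F27817) F27815
theorem F37704 : act 0 n23926 = n23740 := d18_2 F27710 (iv4 F37346) F36963 F18037 D15251 F37702 F37700 F18453 D16909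
def n24079 : Q := act 6 n11303
theorem D24079 : act 6 n11303 = n24079 := rfl
def n24080 : Q := act 6 n11304
theorem D24080 : act 6 n11304 = n24080 := rfl
theorem F37705 : act 5 n24080 = n12075 := d12_1 D24080 (iv6 D12075) (iv5 D5718) D5719 F18454
def n24081 : Q := act 3 n11305
theorem D24081 : act 3 n11305 = n24081 := rfl
def n24082 : Q := act 5 n11305
theorem D24082 : act 5 n11305 = n24082 := rfl
def n24083 : Q := act 7 n11305
theorem D24083 : act 7 n11305 = n24083 := rfl
theorem F37706 : act 4 n24083 = n11306 := d11_1 D24083 (iv7 D11306) D11305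
theorem F37707 : act 1 n13959 = n24083 := d15_1 (iv0 F23240) (iv7 D24083) (iv2 F18470)
theorem F37708 : act 1 n24083 = n13956 := d15_1 F37707 (iv7 F37593) F37592
def n24084 : Q := act 6 n11306
theorem D24084 : act 6 n11306 = n24084 := rfl
theorem F37709 : act 5 n24084 = n24084 := d12_1 D24084 (iv6 D24084) F18455 F7780 (iv5 F18455)
def n24085 : Q := act 5 n11308
theorem D24085 : act 5 n11308 = n24085 := rfl
theorem F37710 : act 2 n24085 = n13714 := d2_1 D24085 (iv5 D13714) (iv2 F22908)
theorem F37711 : act 7 n24085 = n13706 := d13_2 F22907 D24085 (iv5 D13706)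
def n24086 : Q := act 0 n11309
theorem D24086 : act 0 n11309 = n24086 := rfl
def n24087 : Q := act 1 n11309
theorem D24087 : act 1 n11309 = n24087 := rfl
theorem F37712 : act 1 n24087 = n14290 := d15_1 D24087 (iv7 D14290) (iv2 F18457)
theorem F37713 : act 5 n13340 = n24087 := d21_6 (iv5 D2382) (iv1 F2066) D2078 D5075 (iv1 F22458) D13340 (iv1 D24087) (iv5 D11309) (iv6 D5222) (iv1 F3735)
theorem F37714 : act 2 n24087 = n14288 := d2_1 F37713 (iv5 F23840) (iv2 F22204)
theorem F37715 : act 7 n14287 = n24087 := d4_0 F37714 (iv7 F23842) F23844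
theorem F37716 : act 1 n14290 = n14174 := d15_1 F37712 F23842 (iv2 F37714)
theorem E4751 : n24086 = n14174 := ((c15_4 (iv0 D24086) D24087 (iv7 F37715) (iv2 F23844))).symm
theorem F37717 : act 1 n14174 = n11309 := (sb E4751 (iv0 D24086))
def n24088 : Q := act 4 n11309
theorem D24088 : act 4 n11309 = n24088 := rfl
theorem F37718 : act 2 n24088 = n14289 := d1_1 D24088 (iv4 D14289) (iv2 F18457)
theorem F37719 : act 6 n24088 = n11313 := d10_2 (iv6 F18459) D24088 (iv4 D11313)
theorem F37720 : act 1 n24088 = n13725 := d18_6 (iv1 F10597) D6529 F22517 (iv4 F7783) D11309 D24088 (iv4 D13725) F22866 F22864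
def n24089 : Q := act 7 n11309
theorem D24089 : act 7 n11309 = n24089 := rfl
theorem F37721 : act 2 n24089 = n14290 := d4_1 D24089 (iv7 D14290) (iv2 F18457)
theorem F37722 : act 3 n24089 = n14275 := d8_1 D24089 (iv7 D14275) (iv3 F18458)
theorem F37723 : act 5 n24089 = n11310 := d13_1 D24089 (iv7 D11310) D11309
theorem F37724 : act 1 n14288 = n24089 := d15_1 D14288 (iv7 D24089) F18457
theorem F37725 : act 1 n24089 = n14287 := d15_1 F37724 F37715 F37714
def n24090 : Q := act 6 n11311
theorem D24090 : act 6 n11311 = n24090 := rfl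
theorem F37726 : act 2 n24090 = n24079 := d3_1 D24090 (iv6 D24079) (iv2 F18476)
theorem F37727 : act 3 n24090 = n14234 := d7_1 D24090 (iv6 D14234) (iv3 F19546)
def n24091 : Q := act 6 n11312
theorem D24091 : act 6 n11312 = n24091 := rfl
theorem F37728 : act 2 n24091 = n24080 := d3_1 D24091 (iv6 D24080) (iv2 F18469)
theorem F37729 : act 5 n24091 = n23716 := d12_1 D24091 (iv6 D23716) (iv5 D11104) D11105 F18468
def n24092 : Q := act 3 n11313
theorem D24092 : act 3 n11313 = n24092 := rfl
def n24093 : Q := act 5 n11313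
theorem D24093 : act 5 n11313 = n24093 := rfl
theorem F37730 : act 2 n24093 = n24082 := d2_1 D24093 (iv5 D24082) (iv2 F18470)
def n24094 : Q := act 7 n11313
theorem D24094 : act 7 n11313 = n24094 := rfl
theorem F37731 : act 2 n24094 = n24083 := d4_1 D24094 (iv7 D24083) (iv2 F18470)
theorem F37732 : act 4 n24094 = n11314 := d11_1 D24094 (iv7 D11314) D11313
theorem F37733 : act 1 n24040 = n24094 := d15_1 (iv0 F37594) (iv7 D24094) F18470
theorem F37734 : act 1 n24094 = n24037 := d15_1 F37733 F37585 (iv2 F37592)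
def n24095 : Q := act 6 n11314
theorem D24095 : act 6 n11314 = n24095 := rfl
theorem F37735 : act 2 n24095 = n24084 := d3_1 D24095 (iv6 D24084) (iv2 F18471)
theorem F37736 : act 5 n24095 = n24095 := d12_1 D24095 (iv6 D24095) F18472 F7790 (iv5 F18472)
def n24096 : Q := act 5 n11315
theorem D24096 : act 5 n11315 = n24096 := rfl
theorem F37737 : act 2 n24096 = n12093 := d2_1 D24096 (iv5 D12093) (iv2 F18479)
theorem F37738 : act 7 n24096 = n14596 := d13_2 (iv7 F18480) D24096 (iv5 D14596)
theorem F37739 : act 1 n14605 = n24096 := d15_1 D14605 F37738 F24253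
theorem F37740 : act 5 n14605 = n11798 := d21_2 D24096 (iv1 F37739) (iv6 D11798) (iv1 D5521) (iv6 D2290) D2289 F4746 (iv5 F4776) D6765 F19390
theorem F37741 : act 1 n24096 = n14604 := d15_0 (iv0 D14604) (iv7 F20007) (iv2 F37737)
def n24097 : Q := act 6 n11315
theorem D24097 : act 6 n11315 = n24097 := rfl
theorem F37742 : act 2 n24097 = n12094 := d3_1 D24097 (iv6 D12094) (iv2 F18479)
theorem F37743 : act 4 n24097 = n11317 := d10_1 D24097 (iv6 D11317) D11315
theorem F37744 : act 0 n24097 = n14219 := d20_1 (iv4 F37743) F24450 (iv3 D14800) F24436 F24431 F19191 (iv1 F18319) F18514 (iv3 F24306) F24309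
def n24098 : Q := act 4 n11316
theorem D24098 : act 4 n11316 = n24098 := rfl
theorem F37745 : act 2 n24098 = n12276 := d1_1 D24098 (iv4 D12276) (iv2 F18483)
theorem F37746 : act 7 n24098 = n14598 := d11_2 (iv7 F18485) D24098 (iv4 D14598)
theorem F37747 : act 1 n14618 = n24098 := d15_1 D14618 F37746 F24256
theorem F37748 : act 1 n24098 = n14617 := d15_0 (iv0 D14617) (iv7 F20345) (iv2 F37745)
def n24099 : Q := act 6 n11316
theorem D24099 : act 6 n11316 = n24099 := rfl
theorem F37749 : act 2 n24099 = n12277 := d3_1 D24099 (iv6 D12277) (iv2 F18483)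
theorem F37750 : act 3 n24099 = n14536 := d7_1 D24099 (iv6 D14536) (iv3 F18484)
def n24100 : Q := act 7 n11317
theorem D24100 : act 7 n11317 = n24100 := rfl
theorem F37751 : act 2 n24100 = n12280 := d4_1 D24100 (iv7 D12280) (iv2 F18489)
theorem F37752 : act 3 n24100 = n14539 := d8_1 D24100 (iv7 D14539) (iv3 F18490)
theorem F37753 : act 5 n24100 = n11834 := d13_1 D24100 F19243 (iv5 F19241)
theorem F37754 : act 6 n24100 = n14601 := d14_1 D24100 (iv7 D14601) (iv6 D6976) (iv7 F10153) D11317
theorem F37755 : act 1 n12279 = n24100 := d15_1 D12279 (iv7 D24100) F18489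
theorem F37756 : act 1 n24100 = n12278 := d15_1 F37755 (iv7 F24308) F24305
def n24101 : Q := act 4 n11318
theorem D24101 : act 4 n11318 = n24101 := rfl
theorem F37757 : act 2 n24101 = n12300 := d1_1 D24101 (iv4 D12300) F18491
theorem F37758 : act 7 n24101 = n14685 := d11_2 (iv7 F18493) D24101 (iv4 D14685)
theorem F37759 : act 0 n24101 = n14688 := d18_2 D11318 D24101 (iv4 F24416) (iv5 D14776) F11287 (iv0 F18481) (iv4 D11315) (iv0 D5227) D5229
theorem F37760 : act 1 n24101 = n14687 := d15_0 (iv0 D14687) (iv7 F20412) (iv2 F37757)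
def n24102 : Q := act 5 n11318
theorem D24102 : act 5 n11318 = n24102 := rfl
theorem F37761 : act 2 n24102 = n11872 := d2_1 D24102 F19560 F18491
theorem F37762 : act 3 n24102 = n14649 := d6_1 D24102 (iv5 D14649) (iv3 F18492)
theorem F37763 : act 7 n24102 = n11833 := d13_2 (iv7 F18493) D24102 F19225
theorem F37764 : act 1 n24102 = n11852 := d17_8 F19428 (iv5 D11608) (iv1 F18874) F18871 F10159 D6973 F18494 D24102 F19266
theorem F37765 : act 1 n11874 = n24102 := d15_0 F37764 (iv7 F24286) F24284
def n24103 : Q := act 6 n11318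
theorem D24103 : act 6 n11318 = n24103 := rfl
theorem F37766 : act 2 n24103 = n12301 := d3_1 D24103 (iv6 D12301) F18491
theorem F37767 : act 3 n24103 = n14650 := d7_1 D24103 (iv6 D14650) (iv3 F18492)
def n24104 : Q := act 0 n11319
theorem D24104 : act 0 n11319 = n24104 := rfl
def n24105 : Q := act 1 n11319
theorem D24105 : act 1 n11319 = n24105 := rfl
theorem F37768 : act 1 n24105 = n14594 := d15_1 D24105 F24251 F23712
def n24106 : Q := act 3 n11319
theorem D24106 : act 3 n11319 = n24106 := rfl
theorem F37769 : act 4 n24106 = n11362 := d5_2 D11319 D24106 (iv3 D11362) (iv4 D5243) (iv3 F7793)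
def n24107 : Q := act 5 n11319
theorem D24107 : act 5 n11319 = n24107 := rfl
def n24108 : Q := act 7 n11319
theorem D24108 : act 7 n11319 = n24108 := rfl
theorem F37770 : act 2 n24108 = n14594 := d4_1 D24108 F24251 F23712
theorem F37771 : act 4 n24108 = n11320 := d11_1 D24108 (iv7 D11320) D11319
theorem F37772 : act 1 n14594 = n24104 := d15_0 (iv0 D24104) D24108 F37770
def n24109 : Q := act 6 n11320
theorem D24109 : act 6 n11320 = n24109 := rfl
theorem F37773 : act 2 n24109 = n14595 := d3_1 D24109 (iv6 D14595) (iv2 F18495)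
theorem F37774 : act 3 n24109 = n11365 := d7_1 D24109 (iv6 D11365) (iv3 F18496)
theorem F37775 : act 5 n24109 = n24109 := d12_1 D24109 (iv6 D24109) F18497 F7796 (iv5 F18497)
def n24110 : Q := act 0 n11324
theorem D24110 : act 0 n11324 = n24110 := rfl
theorem F37776 : act 5 n24110 = n14801 := d17_3 D5231 D11324 D24110 (iv4 D14801) D14802 (iv0 F24454) (iv5 D7697) (iv0 F19458) F4253
theorem F37777 : act 1 n11329 = n24110 := d15_0 (iv0 D24110) (iv7 F26085) F26083
def n24111 : Q := act 1 n11324
theorem D24111 : act 1 n11324 = n24111 := rfl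
theorem F37778 : act 1 n24111 = n11329 := d15_1 D24111 (iv7 F37477) F37475
theorem F37779 : act 5 n14804 = n24111 := d17_5 (iv1 F9841) D13320 (iv1 F24464) (iv5 D14805) D14804 F37778 (iv5 D11329) F18290 F18287
theorem F37780 : act 3 n24111 = n14492 := d6_1 F37779 (iv5 F24201) F24460
def n24112 : Q := act 4 n11324
theorem D24112 : act 4 n11324 = n24112 := rfl
def n24113 : Q := act 6 n11324
theorem D24113 : act 6 n11324 = n24113 := rfl
theorem F37781 : act 3 n24113 = n14455 := d7_1 D24113 (iv6 F26058) F26057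
theorem F37782 : act 5 n24113 = n14448 := d12_1 D24113 (iv6 D14448) F19469 (iv6 D11325) D11324
def n24114 : Q := act 0 n11325
theorem D24114 : act 0 n11325 = n24114 := rfl
def n24115 : Q := act 1 n11325
theorem D24115 : act 1 n11325 = n24115 := rfl
theorem F37783 : act 4 n24115 = n13355 := d17_9 (iv1 F24471) (iv5 F11970) F19553 (iv5 D6511) (iv4 F8796) D12041 (iv0 F19944) F19469 D24115
theorem F37784 : act 7 n13352 = n24115 := d11_0 F37783 (iv7 D13355) (iv4 F22232)
theorem F37785 : act 3 n14655 = n24115 := d20_5 F3620 D2273 (iv4 F4996) (iv3 F11261) D14655 F37783 (iv1 F24471) F11969 F11968 (iv1 F5485)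
theorem E4752 : n24114 = n12068 := ((c15_4 (iv0 D24114) D24115 (iv7 F37784) F22567)).symm
theorem F37786 : act 1 n12068 = n11325 := (sb E4752 (iv0 D24114))
def n24116 : Q := act 7 n11325
theorem D24116 : act 7 n11325 = n24116 := rfl
theorem F37787 : act 3 n24116 = n14320 := d8_1 D24116 F26012 (iv3 F19468)
theorem F37788 : act 5 n24116 = n14318 := d13_1 D24116 F26014 F19469
theorem F37789 : act 0 n13352 = n24116 := d17_0 F37788 (iv1 F37485) (iv5 D14777) (iv4 D7039) D7040 (iv0 F22225) F18117 (iv0 F22224) (iv4 F22232)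
def n24117 : Q := act 5 n11327
theorem D24117 : act 5 n11327 = n24117 := rfl
theorem F37790 : act 2 n24117 = n16500 := d2_1 D24117 (iv5 D16500) (iv2 F26038)
theorem F37791 : act 3 n24117 = n11329 := d6_1 D24117 (iv5 D11329) D11327
theorem F37792 : act 7 n24117 = n16494 := d13_2 F26035 D24117 (iv5 D16494)
def n24118 : Q := act 6 n11327
theorem D24118 : act 6 n11327 = n24118 := rfl
theorem F37793 : act 2 n24118 = n16501 := d3_1 D24118 (iv6 D16501) (iv2 F26038)
theorem F37794 : act 3 n24118 = n11330 := d7_1 D24118 (iv6 D11330) D11327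
theorem F37795 : act 4 n24118 = n11901 := d10_1 D24118 F23862 F19519
def n24119 : Q := act 4 n11329
theorem D24119 : act 4 n11329 = n24119 := rfl
def n24120 : Q := act 6 n11329
theorem D24120 : act 6 n11329 = n24120 := rfl
def n24121 : Q := act 0 n11330
theorem D24121 : act 0 n11330 = n24121 := rfl
theorem F37796 : act 5 n24121 = n14174 := d21_0 (iv1 F37716) F23847 F11069 (iv1 F18456) (iv6 F24452) (iv5 F37776) (iv1 F37777) (iv5 D11329) D11330 D24121
theorem F37797 : act 3 n11588 = n24121 := d6_3 F37796 (iv3 D14174) (iv5 F23660)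
theorem F37798 : act 7 n11573 = n24121 := d13_0 F37796 F23842 (iv5 F23840)
theorem F37799 : act 6 n24121 = n24115 := d21_3 D11309 (iv1 F37717) (iv5 F37796) (iv1 D24115) (iv6 D11325) D11324 D24110 F37776 F24452 (iv1 D11308)
def n24122 : Q := act 5 n11330
theorem D24122 : act 5 n11330 = n24122 := rfl
theorem F37800 : act 0 n24122 = n13714 := d17_2 F26089 D24122 (iv5 D13714) (iv4 D6529) D6530 F22956 F22955 F22228 (iv4 F22206)
theorem F37801 : act 0 n13706 = n24122 := d21_1 D13706 (iv5 D24122) (iv6 D11330) (iv1 D5232) (iv6 D2147) (iv5 D1062) D1059 (iv5 F3740) D3079 (iv1 F22499)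
def n24123 : Q := act 7 n11330
theorem D24123 : act 7 n11330 = n24123 := rfl
def n24124 : Q := act 4 n11331
theorem D24124 : act 4 n11331 = n24124 := rfl
theorem F37802 : act 0 n11815 = n24124 := d20_1 D11815 (iv4 D24124) (iv3 F37497) (iv1 F26067) F11902 (iv4 F11957) (iv1 F11958) F11207 (iv3 F11301) F19422
def n24125 : Q := act 5 n11331
theorem D24125 : act 5 n11331 = n24125 := rfl
theorem F37803 : act 3 n24125 = n14293 := d6_1 D24125 (iv5 F26064) F37497
theorem F37804 : act 7 n24125 = n14309 := d13_2 (iv7 F37496) D24125 (iv5 F26099)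
theorem F37805 : act 1 n24125 = n13715 := d17_8 F22957 (iv5 F18666) (iv1 F22152) F19184 (iv4 F18287) (iv5 F37491) F37498 D24125 F22965
theorem F37806 : act 6 n24125 = n14404 := d21_3 D5233 D11331 D24125 (iv1 F24055) (iv6 D13707) D13706 F37801 (iv5 D24122) (iv6 D11330) (iv1 D5232)
def n24126 : Q := act 6 n11331
theorem D24126 : act 6 n11331 = n24126 := rfl
def n24127 : Q := act 4 n11332
theorem D24127 : act 4 n11332 = n24127 := rfl
theorem F37807 : act 0 n24127 = n11815 := d18_2 (iv1 F37493) D24127 (iv4 D11815) (iv5 D5526) (iv4 F7701) (iv0 F19523) F19520 F18290 (iv5 F37491)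
def n24128 : Q := act 6 n11332
theorem D24128 : act 6 n11332 = n24128 := rfl
def n24129 : Q := act 0 n11333
theorem D24129 : act 0 n11333 = n24129 := rfl
theorem F37808 : act 4 n24129 = n11423 := d18_3 (iv1 D11332) D11333 D24129 F18666 F11303 (iv0 F22957) (iv4 F22965) (iv0 F24001) F24000
theorem F37809 : act 7 n14807 = n24129 := d11_0 F37808 F18667 D14807
def n24130 : Q := act 1 n11333
theorem D24130 : act 1 n11333 = n24130 := rfl
theorem F37810 : act 4 n24130 = n13323 := d18_7 (iv1 F9841) F19461 (iv1 D6318) F4253 D5233 D11333 D24130 F22146 F19184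
theorem F37811 : act 2 n14807 = n24130 := d1_3 F37810 F22148 D14807
def n24131 : Q := act 3 n11333
theorem D24131 : act 3 n11333 = n24131 := rfl
theorem F37812 : act 6 n24131 = n11362 := d7_2 (iv6 F18500) D24131 (iv3 D11362)
def n24132 : Q := act 5 n11333
theorem D24132 : act 5 n11333 = n24132 := rfl
def n24133 : Q := act 7 n11333
theorem D24133 : act 7 n11333 = n24133 := rfl
theorem F37813 : act 4 n24133 = n11334 := d11_1 D24133 (iv7 D11334) D11333
theorem F37814 : act 1 n14807 = n24133 := d15_1 F37489 (iv7 D24133) (iv2 F37487)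
def n24134 : Q := act 6 n11334
theorem D24134 : act 6 n11334 = n24134 := rfl
theorem F37815 : act 5 n24134 = n24134 := d12_1 D24134 (iv6 D24134) F18501 F7798 (iv5 F18501)
theorem F37816 : act 7 n24134 = n11365 := d14_2 D11334 D24134 (iv6 D11365) (iv7 D5244) (iv6 F7797)
def n24135 : Q := act 1 n11335
theorem D24135 : act 1 n11335 = n24135 := rfl
theorem F37817 : act 1 n24135 = n12244 := d15_1 D24135 F20271 (iv2 F18502)
theorem F37818 : act 7 n24135 = n12251 := d15_2 (iv0 F18505) D24135 (iv2 F20311)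
theorem F37819 : act 2 n12252 = n24135 := d4_3 F37818 (iv2 F20311) (iv7 F20313)
theorem F37820 : act 3 n14310 = n24135 := d8_3 F37818 (iv3 F22551) (iv7 F23917)
def n24136 : Q := act 4 n11335
theorem D24136 : act 4 n11335 = n24136 := rfl
theorem F37821 : act 2 n24136 = n12253 := d1_1 D24136 (iv4 D12253) (iv2 F18502)
theorem F37822 : act 7 n24136 = n12259 := d11_2 (iv7 F18504) D24136 (iv4 D12259)
def n24137 : Q := act 6 n11335
theorem D24137 : act 6 n11335 = n24137 := rfl
theorem F37823 : act 2 n24137 = n12254 := d3_1 D24137 (iv6 D12254) (iv2 F18502)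
theorem F37824 : act 3 n24137 = n11340 := d7_1 D24137 (iv6 D11340) (iv3 F18503)
theorem F37825 : act 5 n24137 = n14353 := d12_1 D24137 (iv6 D14353) (iv5 F18509) (iv6 D11336) D11335
def n24138 : Q := act 1 n11336
theorem D24138 : act 1 n11336 = n24138 := rfl
theorem F37826 : act 1 n24138 = n12258 := d15_1 D24138 (iv7 D12258) (iv2 F18506)
theorem F37827 : act 7 n24138 = n12239 := d15_2 (iv0 F19051) D24138 F20256
theorem F37828 : act 6 n13399 = n24138 := d21_3 D6844 (iv1 F19011) (iv5 F22285) (iv1 D24138) (iv6 D11336) D11335 F18505 F11219 (iv6 D5593) (iv1 F10117)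
theorem F37829 : act 2 n24138 = n12256 := d3_1 F37828 (iv6 F20316) D13399
theorem F37830 : act 3 n24138 = n14295 := d7_1 F37828 F23875 F22359
def n24139 : Q := act 7 n11336
theorem D24139 : act 7 n11336 = n24139 := rfl
theorem F37831 : act 2 n24139 = n12258 := d4_1 D24139 (iv7 D12258) (iv2 F18506)
theorem F37832 : act 3 n24139 = n11343 := d8_1 D24139 (iv7 D11343) (iv3 F18507)
theorem F37833 : act 4 n24139 = n11726 := d11_1 D24139 (iv7 D11726) (iv4 F18508)
theorem F37834 : act 5 n24139 = n14305 := d13_1 D24139 F23904 (iv5 F18509)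
theorem F37835 : act 6 n24139 = n12262 := d14_1 D24139 (iv7 D12262) (iv6 D5815) F10126 D11336
theorem F37836 : act 1 n12256 = n24139 := d15_1 D12256 (iv7 D24139) F18506
theorem F37837 : act 1 n24139 = n12239 := d15_1 F37836 (iv7 F37827) F37829
def n24140 : Q := act 4 n11337
theorem D24140 : act 4 n11337 = n24140 := rfl
theorem F37838 : act 2 n24140 = n14926 := d1_1 D24140 F24589 (iv2 F19791)
theorem F37839 : act 7 n24140 = n14925 := d11_2 (iv7 F19787) D24140 F24586
theorem F37840 : act 5 n24140 = n14926 := d16_1 D24140 F24589 F19790 F18005 (iv5 F8655) D11974 F19767 (iv7 F19789) (iv2 F19791)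
theorem F37841 : act 0 n24140 = n11380 := d17_0 F18594 F18546 (iv5 D11363) (iv4 D5243) (iv5 D2150) D2149 D5239 F18511 D24140
theorem F37842 : act 1 n24140 = n11368 := d18_6 F19037 F11484 (iv1 F9946) F9949 (iv5 F18510) D24140 (iv4 D11368) D11367 (iv5 F19036)
def n24141 : Q := act 6 n11337
theorem D24141 : act 6 n11337 = n24141 := rfl
theorem F37843 : act 5 n24141 = n12081 := d12_1 D24141 (iv6 D12081) (iv5 D5721) D5722 (iv5 F18510)
def n24142 : Q := act 4 n11338
theorem D24142 : act 4 n11338 = n24142 := rfl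
theorem F37844 : act 2 n24142 = n14925 := d1_1 D24142 F24586 (iv2 F19786)
theorem F37845 : act 5 n24142 = n14925 := d9_2 F19767 D24142 F24586 F19784 (iv4 D11373) F7819 F9949 (iv5 F18510) D24140 F37840 F24589 F19790 F18005 (iv5 F8655) D11974
theorem F37846 : act 7 n24142 = n14926 := d11_2 F19789 D24142 F24589
theorem F37847 : act 0 n24142 = n11368 := d17_0 F18617 (iv1 D11361) D11363 F18543 F18302 F7743 D5236 D11338 D24142
theorem F37848 : act 1 n24142 = n11380 := d18_6 (iv1 F18308) (iv4 D11251) (iv1 F9896) D11974 F19767 D24142 (iv4 D11380) F18552 F18551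
def n24143 : Q := act 6 n11338
theorem D24143 : act 6 n11338 = n24143 := rfl
theorem F37849 : act 3 n24143 = n14614 := d7_1 D24143 (iv6 D14614) (iv3 F20340)
theorem F37850 : act 5 n24143 = n24090 := d12_1 D24143 (iv6 D24090) (iv5 F19989) F19990 F19767
def n24144 : Q := act 3 n11339
theorem D24144 : act 3 n11339 = n24144 := rfl
def n24145 : Q := act 6 n11339
theorem D24145 : act 6 n11339 = n24145 := rfl
theorem F37851 : act 4 n24145 = n11340 := d10_1 D24145 (iv6 D11340) D11339
def n24146 : Q := act 0 n11340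
theorem D24146 : act 0 n11340 = n24146 := rfl
def n24147 : Q := act 1 n11340
theorem D24147 : act 1 n11340 = n24147 := rfl
def n24148 : Q := act 5 n11340
theorem D24148 : act 5 n11340 = n24148 := rfl
theorem F37852 : act 3 n24148 = n14353 := d6_1 D24148 (iv5 F37825) F37824
theorem F37853 : act 6 n24148 = n11342 := d12_2 D11340 D24148 (iv5 D11342) (iv6 D5237) D5236
def n24149 : Q := act 7 n11340
theorem D24149 : act 7 n11340 = n24149 := rfl
def n24150 : Q := act 4 n11342
theorem D24150 : act 4 n11342 = n24150 := rfl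
theorem F37854 : act 0 n24150 = n12024 := d18_2 (iv1 F19928) D24150 (iv4 D12024) (iv5 D5687) F3721 D2379 D5692 F10063 (iv5 F19927)
def n24151 : Q := act 5 n11345
theorem D24151 : act 5 n11345 = n24151 := rfl
theorem F37855 : act 3 n24151 = n12290 := d6_1 D24151 (iv5 D12290) F19411
theorem F37856 : act 7 n24151 = n14148 := d13_2 (iv7 F19409) D24151 (iv5 D14148)
theorem F37857 : act 0 n24151 = n11357 := d17_2 (iv1 F18524) D24151 (iv5 F19220) F19219 F10419 F19630 (iv5 D11914) F8531 (iv4 F10122)
def n24152 : Q := act 5 n11346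
theorem D24152 : act 5 n11346 = n24152 := rfl
theorem F37858 : act 2 n24152 = n11347 := d2_1 D24152 (iv5 D11347) D11346
theorem F37859 : act 3 n24152 = n12244 := d6_1 D24152 (iv5 D12244) (iv3 F18521)
theorem F37860 : act 7 n24152 = n12249 := d13_2 (iv7 F18523) D24152 (iv5 D12249)
def n24153 : Q := act 6 n11346
theorem D24153 : act 6 n11346 = n24153 := rfl
theorem F37861 : act 2 n24153 = n11348 := d3_1 D24153 (iv6 D11348) D11346
theorem F37862 : act 3 n24153 = n12245 := d7_1 D24153 (iv6 D12245) (iv3 F18521)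
theorem F37863 : act 4 n24153 = n11916 := d10_1 D24153 (iv6 D11916) (iv4 F18522)
theorem F37864 : act 0 n14336 = n24153 := d20_10 F37863 (iv1 F19662) F19039 (iv3 D5464) D5463 D11738 F19090 F22186 (iv4 F22953) (iv3 F23951)
def n24154 : Q := act 0 n11347
theorem D24154 : act 0 n11347 = n24154 := rfl
theorem F37865 : act 1 n12249 = n24154 := d15_0 (iv0 D24154) (iv7 F18968) (iv2 F20299)
def n24155 : Q := act 1 n11347
theorem D24155 : act 1 n11347 = n24155 := rfl
theorem F37866 : act 1 n24155 = n12249 := d15_1 D24155 (iv7 F37860) F37858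
theorem F37867 : act 5 n24155 = n11595 := d21_2 D12249 (iv1 F37866) (iv6 D11595) F18906 (iv6 D2390) D2389 (iv1 F3785) (iv5 F4827) D6846 F19407
theorem F37868 : act 3 n11603 = n24155 := d6_3 F37867 F18900 D11603
theorem F37869 : act 1 n11595 = n14342 := d17_8 F22282 (iv5 F19641) (iv1 D11918) (iv5 D5592) (iv4 F7799) D11347 D24155 F37867 F23960
theorem F37870 : act 7 n24155 = n14542 := d8_2 F19442 F37868 (iv3 D14542)
theorem F37871 : act 2 n14542 = n24154 := d15_3 (iv0 D24154) D24155 F37870
def n24156 : Q := act 4 n11347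
theorem D24156 : act 4 n11347 = n24156 := rfl
def n24157 : Q := act 6 n11347
theorem D24157 : act 6 n11347 = n24157 := rfl
theorem F37872 : act 3 n24157 = n11350 := d7_1 D24157 (iv6 D11350) (iv3 F18525)
def n24158 : Q := act 0 n11348
theorem D24158 : act 0 n11348 = n24158 := rfl
def n24159 : Q := act 1 n11348
theorem D24159 : act 1 n11348 = n24159 := rfl
def n24160 : Q := act 5 n11348
theorem D24160 : act 5 n11348 = n24160 := rfl
theorem F37873 : act 3 n24160 = n11352 := d6_1 D24160 (iv5 D11352) (iv3 F18526)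
def n24161 : Q := act 7 n11348
theorem D24161 : act 7 n11348 = n24161 := rfl
theorem F37874 : act 3 n24161 = n11353 := d8_1 D24161 (iv7 D11353) (iv3 F18526)
theorem F37875 : act 4 n24161 = n11923 := d11_1 D24161 (iv7 D11923) (iv4 F18527)
theorem F37876 : act 1 n14336 = n24161 := d15_1 (iv0 F37864) (iv7 D24161) (iv2 F37861)
def n24162 : Q := act 3 n11349
theorem D24162 : act 3 n11349 = n24162 := rfl
def n24163 : Q := act 6 n11349
theorem D24163 : act 6 n11349 = n24163 := rfl
theorem F37877 : act 4 n24163 = n11350 := d10_1 D24163 (iv6 D11350) D11349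
def n24164 : Q := act 0 n11350
theorem D24164 : act 0 n11350 = n24164 := rfl
def n24165 : Q := act 1 n11350
theorem D24165 : act 1 n11350 = n24165 := rfl
def n24166 : Q := act 5 n11350
theorem D24166 : act 5 n11350 = n24166 := rfl
theorem F37878 : act 6 n24166 = n11352 := d12_2 D11350 D24166 (iv5 D11352) (iv6 D5240) D5239
def n24167 : Q := act 7 n11350
theorem D24167 : act 7 n11350 = n24167 := rfl
def n24168 : Q := act 4 n11352
theorem D24168 : act 4 n11352 = n24168 := rfl
theorem F37879 : act 0 n24168 = n13539 := d18_2 (iv1 F18534) D24168 (iv4 D13539) (iv5 D6442) (iv4 D2858) (iv0 F4913) (iv4 F3788) (iv0 F7537) D11104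
theorem F37880 : act 1 n24168 = n23732 := d18_6 (iv1 F18607) (iv4 F11429) F8687 (iv4 F10009) D11352 D24168 (iv4 D23732) F22694 F22692
def n24169 : Q := act 4 n11354
theorem D24169 : act 4 n11354 = n24169 := rfl
theorem F37881 : act 2 n24169 = n12264 := d1_1 D24169 (iv4 D12264) (iv2 F19654)
theorem F37882 : act 7 n24169 = n12266 := d11_2 F19653 D24169 (iv4 D12266)
def n24170 : Q := act 6 n11354
theorem D24170 : act 6 n11354 = n24170 := rfl
theorem F37883 : act 2 n24170 = n12265 := d3_1 D24170 (iv6 D12265) (iv2 F19654)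
theorem F37884 : act 3 n24170 = n11356 := d7_1 D24170 (iv6 D11356) D11354
def n24171 : Q := act 3 n11355
theorem D24171 : act 3 n11355 = n24171 := rfl
theorem F37885 : act 5 n24171 = n24162 := d6_2 (iv5 F18537) D24171 (iv3 D24162)
def n24172 : Q := act 6 n11355
theorem D24172 : act 6 n11355 = n24172 := rfl
theorem F37886 : act 4 n24172 = n11356 := d10_1 D24172 (iv6 D11356) D11355
def n24173 : Q := act 0 n11356
theorem D24173 : act 0 n11356 = n24173 := rfl
def n24174 : Q := act 1 n11356
theorem D24174 : act 1 n11356 = n24174 := rfl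
def n24175 : Q := act 5 n11356
theorem D24175 : act 5 n11356 = n24175 := rfl
theorem F37887 : act 6 n24175 = n24000 := d12_2 D11356 D24175 F37521 (iv6 D11706) F10139
def n24176 : Q := act 7 n11356
theorem D24176 : act 7 n11356 = n24176 := rfl
def n24177 : Q := act 2 n11357
theorem D24177 : act 2 n11357 = n24177 := rfl
theorem F37888 : act 3 n24177 = n12246 := d0_2 D11357 D24177 F20292 F19652 F18299
theorem F37889 : act 5 n24177 = n14342 := d2_2 F19220 D24177 F23958
theorem F37890 : act 7 n24177 = n12263 := d4_2 F37501 D24177 (iv2 F37499)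
theorem F37891 : act 1 n24151 = n12263 := d15_1 (iv0 F37857) (iv7 F37890) (iv2 D24177)
theorem F37892 : act 1 n14148 = n24177 := d15_1 (iv0 F37504) F37890 (iv2 F37499)
theorem F37893 : act 4 n24177 = n23812 := d20_6 F8236 (iv1 F9013) F9010 (iv3 F8944) (iv1 F20289) (iv3 F37888) (iv1 D23812) (iv4 D11162) F7584 D5100
def n24178 : Q := act 4 n11357
theorem D24178 : act 4 n11357 = n24178 := rfl
theorem F37894 : act 2 n24178 = n23812 := d1_1 D24178 (iv4 F37893) (iv2 D24177)
theorem F37895 : act 7 n24178 = n23811 := d11_2 F37501 D24178 F37502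
theorem F37896 : act 0 n24178 = n23791 := d18_2 F37857 D24178 (iv4 D23791) (iv5 D11149) F7583 F10117 (iv4 F7799) D11345 D24151
theorem F37897 : act 0 n23815 = n24178 := d20_7 D5243 D11360 F18542 (iv3 D6424) (iv1 F7606) (iv3 F18115) (iv4 F37130) (iv4 D24178) (iv3 D11357) (iv1 D5242)
def n24179 : Q := act 6 n11357
theorem D24179 : act 6 n11357 = n24179 := rfl
theorem F37898 : act 3 n24179 = n11359 := d7_1 D24179 (iv6 D11359) D11357
def n24180 : Q := act 3 n11358
theorem D24180 : act 3 n11358 = n24180 := rfl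
theorem F37899 : act 5 n24180 = n24144 := d6_2 (iv5 F18540) D24180 (iv3 D24144)
def n24181 : Q := act 6 n11358
theorem D24181 : act 6 n11358 = n24181 := rfl
theorem F37900 : act 4 n24181 = n11359 := d10_1 D24181 (iv6 D11359) D11358
def n24182 : Q := act 0 n11359
theorem D24182 : act 0 n11359 = n24182 := rfl
def n24183 : Q := act 1 n11359
theorem D24183 : act 1 n11359 = n24183 := rfl
def n24184 : Q := act 7 n11359
theorem D24184 : act 7 n11359 = n24184 := rfl
def n24185 : Q := act 3 n11360
theorem D24185 : act 3 n11360 = n24185 := rfl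
theorem F37901 : act 4 n24185 = n12318 := d5_2 (iv4 F18542) D24185 (iv3 D12318) F8998 D6424
theorem F37902 : act 7 n24185 = n14729 := d8_2 F19203 D24185 F24390
def n24186 : Q := act 6 n11360
theorem D24186 : act 6 n11360 = n24186 := rfl
theorem F37903 : act 4 n24186 = n13507 := d10_1 D24186 (iv6 D13507) (iv4 F18542)
def n24187 : Q := act 3 n11361
theorem D24187 : act 3 n11361 = n24187 := rfl
def n24188 : Q := act 6 n11361
theorem D24188 : act 6 n11361 = n24188 := rfl
def n24189 : Q := act 0 n11362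
theorem D24189 : act 0 n11362 = n24189 := rfl
def n24190 : Q := act 1 n11362
theorem D24190 : act 1 n11362 = n24190 := rfl
def n24191 : Q := act 2 n11362
theorem D24191 : act 2 n11362 = n24191 := rfl
def n24192 : Q := act 5 n11362
theorem D24192 : act 5 n11362 = n24192 := rfl
theorem F37904 : act 3 n24192 = n11363 := d6_1 D24192 (iv5 D11363) D11362
theorem F37905 : act 7 n23998 = n24192 := d8_0 F37904 F18544 D23998
def n24193 : Q := act 7 n11362
theorem D24193 : act 7 n11362 = n24193 := rfl
theorem F37906 : act 3 n24193 = n11364 := d8_1 D24193 (iv7 D11364) D11362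
theorem F37907 : act 5 n24193 = n23998 := d13_1 D24193 F37905 (iv5 D24192)
def n24194 : Q := act 6 n11363
theorem D24194 : act 6 n11363 = n24194 := rfl
theorem F37908 : act 4 n24194 = n23999 := d10_1 D24194 (iv6 D23999) (iv4 F18543)
def n24195 : Q := act 6 n11364
theorem D24195 : act 6 n11364 = n24195 := rfl
theorem F37909 : act 2 n24195 = n24194 := d3_1 D24195 (iv6 D24194) (iv2 F18547)
theorem F37910 : act 4 n24195 = n11365 := d10_1 D24195 (iv6 D11365) (iv4 F18548)
def n24196 : Q := act 0 n11365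
theorem D24196 : act 0 n11365 = n24196 := rfl
def n24197 : Q := act 1 n11365
theorem D24197 : act 1 n11365 = n24197 := rfl
def n24198 : Q := act 4 n11366
theorem D24198 : act 4 n11366 = n24198 := rfl
theorem F37911 : act 2 n24198 = n14923 := d1_1 D24198 (iv4 D14923) F18553
theorem F37912 : act 7 n24198 = n14920 := d11_2 F18554 D24198 (iv4 D14920)
theorem F37913 : act 5 n24198 = n14923 := d16_1 D24198 (iv4 D14923) (iv5 F11423) F8848 (iv5 F8269) D11704 F19036 F18556 F18553
theorem F37914 : act 0 n24198 = n11982 := d17_0 (iv5 F37507) F37508 F19217 (iv4 D11769) (iv5 D5507) (iv0 F9968) D5280 F18552 D24198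
theorem F37915 : act 1 n24198 = n13393 := d18_6 F18569 (iv4 D5544) (iv1 F8300) (iv4 F10504) (iv5 F18551) D24198 (iv4 D13393) F19785 F19784
def n24199 : Q := act 6 n11366
theorem D24199 : act 6 n11366 = n24199 := rfl
theorem F37916 : act 2 n24199 = n14924 := d3_1 D24199 (iv6 D14924) F18553
theorem F37917 : act 5 n24199 = n13540 := d12_1 D24199 (iv6 D13540) (iv5 D6442) D6443 (iv5 F18551)
def n24200 : Q := act 3 n11367
theorem D24200 : act 3 n11367 = n24200 := rfl
theorem F37918 : act 7 n24200 = n14922 := d8_2 (iv7 F18556) D24200 (iv3 D14922)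
def n24201 : Q := act 4 n11367
theorem D24201 : act 4 n11367 = n24201 := rfl
theorem F37919 : act 2 n24201 = n14920 := d1_1 D24201 (iv4 D14920) F18557
theorem F37920 : act 5 n24201 = n14920 := d9_2 F19036 D24201 (iv4 D14920) (iv5 F18571) F18572 F8291 (iv4 F10504) (iv5 F18551) D24198 F37913 (iv4 D14923) (iv5 F11423) F8848 (iv5 F8269) D11704
theorem F37921 : act 7 n24201 = n14923 := d11_2 (iv7 F18556) D24201 (iv4 D14923)
theorem F37922 : act 0 n24201 = n13393 := d17_0 (iv5 F37512) F37514 (iv5 F19217) F19216 F8450 F9957 D5260 D11367 D24201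
theorem F37923 : act 1 n24201 = n11982 := d18_6 (iv1 F18006) (iv4 D5444) D5442 D11704 F19036 D24201 (iv4 D11982) D11981 F19790
def n24202 : Q := act 6 n11367
theorem D24202 : act 6 n11367 = n24202 := rfl
theorem F37924 : act 2 n24202 = n14921 := d3_1 D24202 (iv6 D14921) F18557
theorem F37925 : act 5 n24202 = n24038 := d12_1 D24202 (iv6 D24038) (iv5 F36948) F36949 F19036
def n24203 : Q := act 3 n11368
theorem D24203 : act 3 n11368 = n24203 := rfl
theorem F37926 : act 4 n24203 = n12339 := d5_2 D11368 D24203 (iv3 D12339) (iv4 D5865) (iv3 F9953)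
theorem F37927 : act 5 n24203 = n24187 := d6_2 (iv5 F18617) D24203 (iv3 D24187)
theorem F37928 : act 7 n24203 = n14927 := d8_2 (iv7 F18558) D24203 (iv3 D14927)
def n24204 : Q := act 6 n11368
theorem D24204 : act 6 n11368 = n24204 := rfl
theorem F37929 : act 4 n24204 = n11369 := d10_1 D24204 (iv6 D11369) D11368
def n24205 : Q := act 0 n11369
theorem D24205 : act 0 n11369 = n24205 := rfl
def n24206 : Q := act 1 n11369
theorem D24206 : act 1 n11369 = n24206 := rfl
def n24207 : Q := act 5 n11369
theorem D24207 : act 5 n11369 = n24207 := rfl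
theorem F37930 : act 3 n24207 = n11425 := d6_1 D24207 F18669 (iv3 F18559)
theorem F37931 : act 6 n24207 = n11371 := d12_2 D11369 D24207 (iv5 D11371) (iv6 D5261) D5260
def n24208 : Q := act 7 n11369
theorem D24208 : act 7 n11369 = n24208 := rfl
theorem F37932 : act 3 n24208 = n12343 := d8_1 D24208 (iv7 D12343) (iv3 F18559)
theorem F37933 : act 6 n24208 = n14932 := d14_1 D24208 (iv7 D14932) (iv6 D7111) (iv7 F9954) D11369
def n24209 : Q := act 3 n11370
theorem D24209 : act 3 n11370 = n24209 := rfl
theorem F37934 : act 4 n24209 = n14366 := d5_2 F18561 D24209 (iv3 F23982) F22266 F18312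
theorem F37935 : act 7 n24209 = n13951 := d8_2 (iv7 F18560) D24209 F23236
theorem F37936 : act 0 n24209 = n13479 := d20_10 F22623 (iv1 F22628) (iv4 F22525) F22534 (iv1 F37837) F37832 F18517 (iv1 F10355) F18561 D24209
theorem F37937 : act 0 n13476 = n13713 := d20_10 F22963 F24196 (iv4 F37833) F37832 (iv1 F22264) F23982 (iv4 F37934) F37936 F22623 (iv3 F22616)
def n24210 : Q := act 5 n11370
theorem D24210 : act 5 n11370 = n24210 := rfl
theorem F37938 : act 2 n24210 = n16583 := d2_1 D24210 F27058 F19046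
theorem F37939 : act 7 n24210 = n13954 := d13_2 (iv7 F18560) D24210 (iv5 D13954)
theorem F37940 : act 0 n24210 = n11479 := d17_2 (iv1 F19193) D24210 (iv5 D11479) F10287 D6385 (iv0 F18582) (iv5 D11376) F18319 (iv4 F19191)
theorem F37941 : act 1 n24210 = n12022 := d17_6 (iv1 F3723) D5693 (iv1 F10626) (iv5 F10627) F18561 D24210 (iv5 D12022) F8746 F8728
def n24211 : Q := act 4 n11371
theorem D24211 : act 4 n11371 = n24211 := rfl
theorem F37942 : act 0 n24211 = n12043 := d18_2 (iv1 F19892) D24211 (iv4 D12043) (iv5 D5705) F3770 (iv0 F10080) (iv4 F10291) F10289 (iv5 F19891)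
def n24212 : Q := act 3 n11373
theorem D24212 : act 3 n11373 = n24212 := rfl
theorem F37943 : act 5 n24212 = n14362 := d6_2 F19784 D24212 (iv3 F24007)
theorem F37944 : act 7 n24212 = n12079 := d8_2 (iv7 F18568) D24212 F19997
theorem F37945 : act 0 n24212 = n14452 := d20_4 (iv4 D5265) D5263 D11373 D24212 (iv3 F24107) (iv4 F26078) (iv1 F26080) (iv4 F20030) F20029 (iv1 F10186)
theorem F37946 : act 1 n24212 = n14438 := d15_1 (iv0 F37945) F26079 F26077
def n24213 : Q := act 5 n11377
theorem D24213 : act 5 n11377 = n24213 := rfl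
def n24214 : Q := act 4 n11378
theorem D24214 : act 4 n11378 = n24214 := rfl
theorem F37947 : act 2 n24214 = n12360 := d1_1 D24214 (iv4 D12360) (iv2 F18585)
theorem F37948 : act 7 n24214 = n14780 := d11_2 (iv7 F18587) D24214 (iv4 D14780)
theorem F37949 : act 1 n14792 = n24214 := d15_1 D14792 F37948 F24422
theorem F37950 : act 1 n24214 = n14791 := d15_0 (iv0 D14791) (iv7 F20544) (iv2 F37947)
def n24215 : Q := act 6 n11378
theorem D24215 : act 6 n11378 = n24215 := rfl
theorem F37951 : act 2 n24215 = n12361 := d3_1 D24215 (iv6 D12361) (iv2 F18585)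
theorem F37952 : act 3 n24215 = n11381 := d7_1 D24215 (iv6 D11381) (iv3 F18586)
def n24216 : Q := act 7 n11379
theorem D24216 : act 7 n11379 = n24216 := rfl
theorem F37953 : act 2 n24216 = n11738 := d4_1 D24216 F19092 (iv2 F18590)
theorem F37954 : act 3 n24216 = n11384 := d8_1 D24216 (iv7 D11384) (iv3 F18591)
theorem F37955 : act 4 n24216 = n24216 := d11_1 D24216 (iv7 D24216) F18592
theorem F37956 : act 6 n24216 = n14784 := d14_1 D24216 (iv7 D14784) (iv6 D7048) (iv7 F9977) D11379
theorem F37957 : act 1 n12363 = n24216 := d15_1 D12363 (iv7 D24216) F18590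
theorem F37958 : act 1 n24216 = n12362 := d15_1 F37957 F22939 (iv2 F23668)
theorem F37959 : act 3 n24158 = n14401 := d20_5 (iv4 F11429) F8687 (iv4 F10009) (iv3 F18526) D24158 (iv4 F36867) (iv1 F37958) F37955 F37954 (iv1 F18607)
theorem F37960 : act 7 n14336 = n24158 := d8_0 F37959 (iv7 F36866) (iv3 F23951)
def n24217 : Q := act 3 n11380
theorem D24217 : act 3 n11380 = n24217 := rfl
theorem F37961 : act 5 n24217 = n24185 := d6_2 (iv5 F18594) D24217 (iv3 D24185)
def n24218 : Q := act 6 n11380
theorem D24218 : act 6 n11380 = n24218 := rfl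
theorem F37962 : act 2 n24218 = n14928 := d3_1 D24218 (iv6 D14928) (iv2 F18593)
theorem F37963 : act 4 n24218 = n11381 := d10_1 D24218 (iv6 D11381) D11380
def n24219 : Q := act 0 n11381
theorem D24219 : act 0 n11381 = n24219 := rfl
def n24220 : Q := act 1 n11381
theorem D24220 : act 1 n11381 = n24220 := rfl
theorem F37964 : act 1 n24220 = n14932 := d15_1 D24220 (iv7 D14932) (iv2 F18595)
def n24221 : Q := act 5 n11381
theorem D24221 : act 5 n11381 = n24221 := rfl
theorem F37965 : act 2 n24221 = n14931 := d2_1 D24221 (iv5 D14931) (iv2 F18595)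
theorem F37966 : act 6 n24221 = n11383 := d12_2 D11381 D24221 (iv5 D11383) (iv6 D5281) D5280
theorem F37967 : act 5 n13359 = n24220 := d21_6 (iv5 D5741) F9907 D2726 F4318 D6335 D13359 (iv1 D24220) D24221 F37966 F18603
def n24222 : Q := act 7 n11381
theorem D24222 : act 7 n11381 = n24222 := rfl
theorem F37968 : act 2 n24222 = n14932 := d4_1 D24222 (iv7 D14932) (iv2 F18595)
theorem F37969 : act 1 n14932 = n24219 := d15_0 (iv0 D24219) D24222 F37968
theorem F37970 : act 1 n14930 = n24222 := d15_1 D14930 (iv7 D24222) F18595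
theorem F37971 : act 1 n24222 = n14929 := d15_0 (iv0 D14929) D14932 (iv2 F37968)
def n24223 : Q := act 3 n11382
theorem D24223 : act 3 n11382 = n24223 := rfl
theorem F37972 : act 5 n24223 = n23940 := d6_2 (iv5 F18596) D24223 (iv3 D23940)
theorem F37973 : act 6 n24223 = n24209 := d7_2 F18600 D24223 (iv3 D24209)
theorem F37974 : act 7 n24223 = n14934 := d8_2 (iv7 F18599) D24223 (iv3 D14934)
def n24224 : Q := act 4 n11383
theorem D24224 : act 4 n11383 = n24224 := rfl
theorem F37975 : act 2 n24224 = n14935 := d1_1 D24224 (iv4 D14935) (iv2 F18602)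
theorem F37976 : act 0 n24224 = n23718 := d18_2 (iv1 F18604) D24224 (iv4 D23718) (iv5 D11106) (iv4 F7540) (iv0 F9898) (iv4 F7663) F9916 D5730
theorem F37977 : act 1 n24224 = n23715 := d18_6 (iv1 F19807) F18328 F18200 (iv4 F7829) D11383 D24224 (iv4 D23715) D23714 F36889
def n24225 : Q := act 6 n11386
theorem D24225 : act 6 n11386 = n24225 := rfl
theorem F37978 : act 2 n24225 = n11825 := d3_1 D24225 (iv6 D11825) (iv2 F18612)
theorem F37979 : act 4 n24225 = n24188 := d10_1 D24225 (iv6 D24188) (iv4 F18616)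
def n24226 : Q := act 3 n11387
theorem D24226 : act 3 n11387 = n24226 := rfl
theorem F37980 : act 4 n24226 = n24226 := d5_2 D11387 D24226 (iv3 D24226) (iv4 D11387) F8370
def n24227 : Q := act 5 n11387
theorem D24227 : act 5 n11387 = n24227 := rfl
theorem F37981 : act 0 n24227 = n23739 := d17_2 (iv1 F18619) D24227 (iv5 D23739) (iv4 D11118) (iv5 F8684) (iv0 D5656) D5657 (iv0 F8692) D5733
theorem F37982 : act 1 n24227 = n13550 := d17_6 (iv1 F7670) (iv5 F7750) F18200 D5285 D11387 D24227 (iv5 D13550) F18208 F18207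
def n24228 : Q := act 3 n11389
theorem D24228 : act 3 n11389 = n24228 := rfl
theorem F37983 : act 4 n24228 = n24006 := d5_2 D11389 D24228 (iv3 D24006) (iv4 D11261) (iv3 F10340)
def n24229 : Q := act 3 n11391
theorem D24229 : act 3 n11391 = n24229 := rfl
theorem F37984 : act 4 n24229 = n11499 := d5_2 D11391 D24229 (iv3 D11499) (iv4 D5360) (iv3 F7902)
def n24230 : Q := act 0 n11393
theorem D24230 : act 0 n11393 = n24230 := rfl
theorem F37985 : act 3 n24230 = n14063 := d20_5 F18433 (iv1 D5296) D5297 D11393 D24230 F23477 F18582 D13441 F27010 (iv1 F18432)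
theorem F37986 : act 4 n24230 = n13834 := d20_8 (iv4 D2935) D2933 D6575 (iv3 F26621) F5507 D5332 (iv4 F18633) D24230 (iv3 D13834) (iv1 D6578)
def n24231 : Q := act 1 n11393
theorem D24231 : act 1 n11393 = n24231 := rfl
def n24232 : Q := act 2 n11393
theorem D24232 : act 2 n11393 = n24232 := rfl
theorem F37987 : act 4 n24232 = n11445 := d1_2 (iv4 F18633) D24232 (iv2 D11445)
theorem F37988 : act 6 n24232 = n15313 := d3_2 (iv6 F18634) D24232 F24893
def n24233 : Q := act 5 n11393
theorem D24233 : act 5 n11393 = n24233 := rfl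
theorem F37989 : act 3 n24233 = n11394 := d6_1 D24233 (iv5 D11394) D11393
def n24234 : Q := act 7 n11393
theorem D24234 : act 7 n11393 = n24234 := rfl
theorem F37990 : act 3 n24234 = n11395 := d8_1 D24234 (iv7 D11395) D11393
theorem F37991 : act 4 n24234 = n11447 := d11_1 D24234 (iv7 D11447) (iv4 F18633)
def n24235 : Q := act 4 n11394
theorem D24235 : act 4 n11394 = n24235 := rfl
theorem F37992 : act 5 n24235 = n24094 := d16_3 D5297 D11394 D24235 F37732 F18472 F7789 (iv5 F8421) (iv7 D5513) F3638
theorem F37993 : act 7 n24093 = n24235 := d13_0 F37992 (iv7 D24094) D24093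
def n24236 : Q := act 6 n11394
theorem D24236 : act 6 n11394 = n24236 := rfl
theorem F37994 : act 5 n24236 = n17383 := d12_1 D24236 (iv6 D17383) (iv5 D8143) (iv6 F7907) D11394
def n24237 : Q := act 7 n11394
theorem D24237 : act 7 n11394 = n24237 := rfl
theorem F37995 : act 4 n24237 = n24093 := d11_1 D24237 F37993 (iv4 D24235)
theorem F37996 : act 5 n24237 = n11395 := d13_1 D24237 (iv7 D11395) D11394
theorem F37997 : act 1 n24059 = n24237 := d15_1 (iv0 F37653) (iv7 D24237) (iv2 F19129)
theorem F37998 : act 1 n24237 = n24055 := d15_1 F37997 F37645 (iv2 F37651)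
def n24238 : Q := act 5 n11396
theorem D24238 : act 5 n11396 = n24238 := rfl
theorem F37999 : act 3 n24238 = n11400 := d6_1 D24238 (iv5 D11400) (iv3 F18638)
def n24239 : Q := act 5 n11397
theorem D24239 : act 5 n11397 = n24239 := rfl
theorem F38000 : act 2 n24239 = n13690 := d2_1 D24239 (iv5 D13690) (iv2 F18640)
def n24240 : Q := act 4 n11400
theorem D24240 : act 4 n11400 = n24240 := rfl
def n24241 : Q := act 4 n11404
theorem D24241 : act 4 n11404 = n24241 := rfl
theorem F38001 : act 2 n24241 = n24240 := d1_1 D24241 (iv4 D24240) (iv2 F18644)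
def n24242 : Q := act 5 n11406
theorem D24242 : act 5 n11406 = n24242 := rfl
theorem F38002 : act 2 n24242 = n11413 := d2_1 D24242 (iv5 D11413) (iv2 F22887)
theorem F38003 : act 3 n24242 = n14160 := d6_1 D24242 (iv5 D14160) F18658
theorem F38004 : act 7 n24242 = n11417 := d13_2 (iv7 F22888) D24242 (iv5 D11417)
theorem F38005 : act 0 n24242 = n13759 := d17_2 D11406 D24242 (iv5 D13759) (iv4 F11112) (iv5 F23493) F23492 (iv5 D12233) (iv0 D5794) (iv4 F7918)
def n24243 : Q := act 5 n11407
theorem D24243 : act 5 n11407 = n24243 := rfl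
theorem F38006 : act 2 n24243 = n11417 := d2_1 D24243 (iv5 D11417) (iv2 F22890)
theorem F38007 : act 7 n24243 = n11413 := d13_2 (iv7 F22891) D24243 (iv5 D11413)
theorem F38008 : act 1 n24243 = n13759 := d15_0 (iv0 F38005) F38004 (iv2 F38006)
def n24244 : Q := act 0 n11408
theorem D24244 : act 0 n11408 = n24244 := rfl
theorem F38009 : act 5 n24244 = n14843 := d21_2 D11408 D24244 (iv6 F24497) (iv1 D12006) F8721 D6643 D13971 (iv5 F23894) F23895 (iv1 D11407)
theorem F38010 : act 2 n11419 = n24244 := d15_3 (iv0 D24244) (iv0 F37111) F37110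
theorem F38011 : act 7 n24244 = n11420 := d4_2 F37110 F38010 (iv2 F37109)
theorem F38012 : act 1 n11422 = n24244 := d15_1 (iv0 F37112) F38011 (iv2 F37109)
def n24245 : Q := act 4 n11408
theorem D24245 : act 4 n11408 = n24245 := rfl
theorem F38013 : act 2 n24245 = n11421 := d1_1 D24245 (iv4 D11421) (iv2 F18651)
theorem F38014 : act 6 n24245 = n13473 := d10_2 (iv6 F18652) D24245 (iv4 D13473)
def n24246 : Q := act 7 n11408
theorem D24246 : act 7 n11408 = n24246 := rfl
theorem F38015 : act 2 n24246 = n11422 := d4_1 D24246 (iv7 D11422) (iv2 F18651)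
theorem F38016 : act 5 n24246 = n11409 := d13_1 D24246 (iv7 D11409) D11408
theorem F38017 : act 1 n11420 = n24246 := d15_1 D11420 (iv7 D24246) F18651
theorem F38018 : act 1 n24246 = n11419 := d15_1 F38017 (iv7 F37110) F37109
def n24247 : Q := act 5 n11411
theorem D24247 : act 5 n11411 = n24247 := rfl
theorem F38019 : act 3 n24247 = n11413 := d6_1 D24247 (iv5 D11413) D11411
def n24248 : Q := act 6 n11411
theorem D24248 : act 6 n11411 = n24248 := rfl
theorem F38020 : act 3 n24248 = n11414 := d7_1 D24248 (iv6 D11414) D11411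
theorem F38021 : act 4 n24248 = n11758 := d10_1 D24248 F26055 (iv4 F18741)
theorem F38022 : act 5 n24248 = n14464 := d21_6 (iv5 F8433) F8435 (iv5 F8467) D11837 F19231 D24248 (iv1 F37124) (iv5 D11768) (iv6 D5504) F4398
theorem F38023 : act 0 n24248 = n12105 := d20_7 (iv4 D6359) (iv1 F9996) (iv4 F18572) (iv3 F24280) (iv1 F24282) (iv3 F26053) (iv4 F38021) F20030 F19997 F9892
def n24249 : Q := act 5 n11412
theorem D24249 : act 5 n11412 = n24249 := rfl
def n24250 : Q := act 6 n11412
theorem D24250 : act 6 n11412 = n24250 := rfl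
theorem F38024 : act 4 n24250 = n11414 := d10_1 D24250 (iv6 D11414) D11412
def n24251 : Q := act 0 n11413
theorem D24251 : act 0 n11413 = n24251 := rfl
theorem F38025 : act 5 n24251 = n13752 := d17_3 D5304 D11413 D24251 F23011 (iv5 F23070) (iv0 D13812) (iv5 D6569) F10277 F3822
theorem F38026 : act 2 n13759 = n24251 := d15_3 (iv0 D24251) (iv0 F37082) F24508
theorem F38027 : act 1 n11417 = n24251 := d15_0 (iv0 D24251) (iv7 F38007) F38006
def n24252 : Q := act 4 n11413
theorem D24252 : act 4 n11413 = n24252 := rfl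
def n24253 : Q := act 6 n11413
theorem D24253 : act 6 n11413 = n24253 := rfl
def n24254 : Q := act 5 n11416
theorem D24254 : act 5 n11416 = n24254 := rfl
theorem F38028 : act 2 n24254 = n14168 := d2_1 D24254 (iv5 D14168) F22920
theorem F38029 : act 3 n24254 = n11417 := d6_1 D24254 (iv5 D11417) D11416
theorem F38030 : act 7 n24254 = n14160 := d13_2 (iv7 F22889) D24254 (iv5 D14160)
def n24255 : Q := act 4 n11417
theorem D24255 : act 4 n11417 = n24255 := rfl
def n24256 : Q := act 6 n11417
theorem D24256 : act 6 n11417 = n24256 := rfl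
def n24257 : Q := act 3 n11419
theorem D24257 : act 3 n11419 = n24257 := rfl
def n24258 : Q := act 4 n11419
theorem D24258 : act 4 n11419 = n24258 := rfl
def n24259 : Q := act 6 n11419
theorem D24259 : act 6 n11419 = n24259 := rfl
def n24260 : Q := act 3 n11420
theorem D24260 : act 3 n11420 = n24260 := rfl
theorem F38031 : act 5 n24260 = n11578 := d6_2 F24314 D24260 F24311
def n24261 : Q := act 4 n11420
theorem D24261 : act 4 n11420 = n24261 := rfl
def n24262 : Q := act 6 n11420
theorem D24262 : act 6 n11420 = n24262 := rfl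
def n24263 : Q := act 0 n11421
theorem D24263 : act 0 n11421 = n24263 := rfl
def n24264 : Q := act 1 n11421
theorem D24264 : act 1 n11421 = n24264 := rfl
def n24265 : Q := act 3 n11421
theorem D24265 : act 3 n11421 = n24265 := rfl
theorem F38032 : act 4 n24265 = n11426 := d5_2 D11421 D24265 (iv3 D11426) (iv4 D5310) (iv3 F7919)
theorem F38033 : act 6 n24265 = n13503 := d7_2 (iv6 F18663) D24265 (iv3 D13503)
def n24266 : Q := act 5 n11421
theorem D24266 : act 5 n11421 = n24266 := rfl
def n24267 : Q := act 7 n11421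
theorem D24267 : act 7 n11421 = n24267 := rfl
theorem F38034 : act 4 n24267 = n11422 := d11_1 D24267 (iv7 D11422) D11421
def n24268 : Q := act 6 n11422
theorem D24268 : act 6 n11422 = n24268 := rfl
theorem F38035 : act 3 n24268 = n11429 := d7_1 D24268 (iv6 D11429) (iv3 F18664)
theorem F38036 : act 5 n24268 = n24268 := d12_1 D24268 (iv6 D24268) F18665 F7922 (iv5 F18665)
theorem F38037 : act 7 n24268 = n13506 := d14_2 D11422 D24268 (iv6 D13506) (iv7 D6423) (iv6 F7920)
def n24269 : Q := act 6 n11423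
theorem D24269 : act 6 n11423 = n24269 := rfl
theorem F38038 : act 3 n24269 = n11424 := d7_1 D24269 (iv6 D11424) D11423
def n24270 : Q := act 0 n11424
theorem D24270 : act 0 n11424 = n24270 := rfl
theorem F38039 : act 6 n24270 = n13516 := d21_5 (iv5 D6551) (iv1 F8004) (iv5 F7923) D11424 D24270 (iv5 F37145) (iv1 D23823) (iv5 F18763) (iv6 D11482) (iv1 F10613)
def n24271 : Q := act 1 n11424
theorem D24271 : act 1 n11424 = n24271 := rfl
def n24272 : Q := act 7 n11424
theorem D24272 : act 7 n11424 = n24272 := rfl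
theorem F38040 : act 5 n24272 = n11762 := d13_1 D24272 F19851 F19749
theorem F38041 : act 6 n24272 = n14841 := d14_1 D24272 (iv7 D14841) F11316 F7924 D11424
def n24273 : Q := act 0 n11425
theorem D24273 : act 0 n11425 = n24273 := rfl
def n24274 : Q := act 1 n11425
theorem D24274 : act 1 n11425 = n24274 := rfl
theorem F38042 : act 1 n24274 = n14841 := d15_1 D24274 (iv7 D14841) (iv2 F18668)
theorem F38043 : act 5 n24274 = n14840 := d21_0 (iv1 D14840) (iv5 D7067) (iv6 D3220) D3217 D7059 F11309 D11762 (iv5 F38040) F38041 (iv1 F38042)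
theorem F38044 : act 6 n13508 = n24274 := d21_5 (iv5 F5083) D5499 F8382 D6425 D13508 F38043 (iv1 D14840) (iv5 D7067) (iv6 D3220) D3217
theorem F38045 : act 6 n14840 = n23819 := d21_9 F23332 (iv1 F23333) (iv5 F24607) (iv6 D14946) (iv1 F20560) F20554 (iv5 F24495) (iv1 F38042) F38043 (iv1 F37141)
def n24275 : Q := act 7 n11425
theorem D24275 : act 7 n11425 = n24275 := rfl
theorem F38046 : act 2 n24275 = n14841 := d4_1 D24275 (iv7 D14841) (iv2 F18668)
theorem F38047 : act 5 n24275 = n12343 := d13_1 D24275 (iv7 D12343) (iv5 F18669)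
theorem F38048 : act 1 n14841 = n24273 := d15_0 (iv0 D24273) D24275 F38046
theorem F38049 : act 1 n14840 = n24275 := d15_1 D14840 (iv7 D24275) F18668
theorem F38050 : act 5 n14839 = n24273 := d21_0 (iv1 F38048) F24495 (iv6 F20554) (iv1 F20556) (iv6 F11439) (iv5 D7070) (iv1 D3222) D3223 (iv6 F11316) D14839
theorem F38051 : act 0 n14839 = n24275 := d21_1 (iv5 F38050) F38047 F20497 (iv1 F20549) (iv6 F20550) F18758 F8667 F7925 D11425 D24273
def n24276 : Q := act 0 n11426
theorem D24276 : act 0 n11426 = n24276 := rfl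
def n24277 : Q := act 1 n11426
theorem D24277 : act 1 n11426 = n24277 := rfl
def n24278 : Q := act 2 n11426
theorem D24278 : act 2 n11426 = n24278 := rfl
theorem F38052 : act 6 n24278 = n13520 := d3_2 (iv6 F18670) D24278 (iv2 D13520)
def n24279 : Q := act 5 n11426
theorem D24279 : act 5 n11426 = n24279 := rfl
theorem F38053 : act 3 n24279 = n11427 := d6_1 D24279 (iv5 D11427) D11426
def n24280 : Q := act 7 n11426
theorem D24280 : act 7 n11426 = n24280 := rfl
theorem F38054 : act 3 n24280 = n11428 := d8_1 D24280 (iv7 D11428) D11426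
def n24281 : Q := act 6 n11427
theorem D24281 : act 6 n11427 = n24281 := rfl
theorem F38055 : act 5 n24281 = n13523 := d12_1 D24281 (iv6 D13523) (iv5 D6429) (iv6 F7927) D11427
def n24282 : Q := act 6 n11428
theorem D24282 : act 6 n11428 = n24282 := rfl
theorem F38056 : act 4 n24282 = n11429 := d10_1 D24282 (iv6 D11429) (iv4 F18671)
theorem F38057 : act 7 n24282 = n13524 := d14_2 D11428 D24282 (iv6 D13524) (iv7 D6430) (iv6 F7927)
def n24283 : Q := act 3 n11431
theorem D24283 : act 3 n11431 = n24283 := rfl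
theorem F38058 : act 4 n24283 = n11433 := d5_2 D11431 D24283 (iv3 D11433) (iv4 D5317) (iv3 F7933)
theorem F38059 : act 6 n24283 = n12643 := d7_2 F26793 D24283 F26617
theorem F38060 : act 7 n24283 = n24229 := d8_2 (iv7 F18683) D24283 (iv3 D24229)
theorem F38061 : act 2 n12657 = n24283 := d3_3 F38059 F21055 D12657
def n24284 : Q := act 5 n11433
theorem D24284 : act 5 n11433 = n24284 := rfl
theorem F38062 : act 2 n24284 = n12666 := d2_1 D24284 (iv5 D12666) (iv2 F26670)
theorem F38063 : act 3 n24284 = n11434 := d6_1 D24284 (iv5 D11434) D11433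
theorem F38064 : act 7 n24284 = n16627 := d13_2 F18802 D24284 F27118
theorem F38065 : act 0 n24284 = n13839 := d20_4 D11448 (iv1 F24143) F24141 (iv3 F38063) F23115 (iv4 F23046) (iv1 D13796) (iv4 F10962) (iv3 F26545) F11985
def n24285 : Q := act 6 n11434
theorem D24285 : act 6 n11434 = n24285 := rfl
theorem F38066 : act 2 n24285 = n16626 := d3_1 D24285 (iv6 D16626) (iv2 F18688)
def n24286 : Q := act 0 n11436
theorem D24286 : act 0 n11436 = n24286 := rfl
theorem F38067 : act 1 n12651 = n24286 := d15_0 (iv0 D24286) (iv7 F18799) (iv2 F26669)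
def n24287 : Q := act 1 n11436
theorem D24287 : act 1 n11436 = n24287 := rfl
def n24288 : Q := act 2 n11436
theorem D24288 : act 2 n11436 = n24288 := rfl
theorem F38068 : act 3 n24288 = n12667 := d0_2 D11436 D24288 F26672 (iv3 D11499) F8160
theorem F38069 : act 6 n24288 = n15909 := d3_2 (iv6 F18695) D24288 F27204
theorem F38070 : act 7 n24288 = n12651 := d4_2 F18799 D24288 F26669
theorem F38071 : act 1 n24287 = n12651 := d15_1 D24287 (iv7 F38070) (iv2 D24288)
def n24289 : Q := act 5 n11436
theorem D24289 : act 5 n11436 = n24289 := rfl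
theorem F38072 : act 3 n24289 = n11437 := d6_1 D24289 (iv5 D11437) D11436
theorem F38073 : act 7 n24289 = n16625 := d13_2 F18799 D24289 F27117
def n24290 : Q := act 6 n11437
theorem D24290 : act 6 n11437 = n24290 := rfl
theorem F38074 : act 2 n24290 = n16628 := d3_1 D24290 (iv6 D16628) (iv2 F18696)
theorem F38075 : act 5 n24290 = n16429 := d12_1 D24290 (iv6 D16429) (iv5 D7617) (iv6 F12423) D11437
def n24291 : Q := act 5 n11438
theorem D24291 : act 5 n11438 = n24291 := rfl
theorem F38076 : act 3 n24291 = n11439 := d6_1 D24291 (iv5 D11439) D11438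
theorem F38077 : act 7 n24291 = n16604 := d13_2 (iv7 F18701) D24291 (iv5 D16604)
theorem F38078 : act 0 n24291 = n14099 := d21_1 D24291 (iv5 D14099) D14100 (iv1 F27012) (iv6 D12592) D12591 (iv1 F20969) (iv5 F26863) D12846 F26730
def n24292 : Q := act 0 n11440
theorem D24292 : act 0 n11440 = n24292 := rfl
theorem F38079 : act 1 n16599 = n24292 := d15_0 (iv0 D24292) F18704 D16599
def n24293 : Q := act 1 n11440
theorem D24293 : act 1 n11440 = n24293 := rfl
def n24294 : Q := act 2 n11440
theorem D24294 : act 2 n11440 = n24294 := rfl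
theorem F38080 : act 3 n24294 = n13836 := d0_2 D11440 D24294 (iv2 F26720) (iv3 D7721) (iv2 F8094)
theorem F38081 : act 7 n24294 = n16599 := d4_2 (iv7 F18704) D24294 (iv2 D16599)
theorem F38082 : act 1 n24294 = n16597 := d15_0 (iv0 D16597) (iv7 F18704) D24294
theorem F38083 : act 1 n24293 = n16599 := d15_1 D24293 (iv7 F38081) (iv2 D24294)
theorem F38084 : act 1 n16598 = n24294 := d15_1 D16598 F38081 (iv2 D16599)
def n24295 : Q := act 5 n11440
theorem D24295 : act 5 n11440 = n24295 := rfl
theorem F38085 : act 3 n24295 = n11441 := d6_1 D24295 (iv5 D11441) D11440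
theorem F38086 : act 7 n24295 = n16601 := d13_2 (iv7 F18704) D24295 (iv5 D16601)
def n24296 : Q := act 6 n11440
theorem D24296 : act 6 n11440 = n24296 := rfl
theorem F38087 : act 3 n24296 = n11442 := d7_1 D24296 (iv6 D11442) D11440
theorem F38088 : act 7 n24296 = n13536 := d14_2 (iv7 F18704) D24296 (iv6 D13536) (iv7 F18136) F18135
def n24297 : Q := act 6 n11441
theorem D24297 : act 6 n11441 = n24297 := rfl
theorem F38089 : act 2 n24297 = n16606 := d3_1 D24297 (iv6 D16606) (iv2 F18705)
def n24298 : Q := act 0 n11443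
theorem D24298 : act 0 n11443 = n24298 := rfl
theorem F38090 : act 2 n11447 = n24298 := d15_3 (iv0 D24298) (iv0 D11443) D11447
theorem F38091 : act 7 n24298 = n11445 := d4_2 D11447 F38090 (iv2 D11445)
theorem F38092 : act 1 n11444 = n24298 := d15_1 D11444 F38091 (iv2 D11445)
def n24299 : Q := act 2 n11443
theorem D24299 : act 2 n11443 = n24299 := rfl
theorem F38093 : act 7 n11444 = n24299 := d15_2 (iv0 D11443) D11444 (iv2 D24299)
def n24300 : Q := act 3 n11443
theorem D24300 : act 3 n11443 = n24300 := rfl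
def n24301 : Q := act 4 n11443
theorem D24301 : act 4 n11443 = n24301 := rfl
def n24302 : Q := act 5 n11443
theorem D24302 : act 5 n11443 = n24302 := rfl
def n24303 : Q := act 6 n11443
theorem D24303 : act 6 n11443 = n24303 := rfl
def n24304 : Q := act 7 n11443
theorem D24304 : act 7 n11443 = n24304 := rfl
theorem F38094 : act 2 n24304 = n11444 := d4_1 D24304 F38093 (iv2 D24299)
def n24305 : Q := act 3 n11444
theorem D24305 : act 3 n11444 = n24305 := rfl
def n24306 : Q := act 4 n11444
theorem D24306 : act 4 n11444 = n24306 := rfl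
def n24307 : Q := act 5 n11444
theorem D24307 : act 5 n11444 = n24307 := rfl
def n24308 : Q := act 6 n11444
theorem D24308 : act 6 n11444 = n24308 := rfl
def n24309 : Q := act 0 n11445
theorem D24309 : act 0 n11445 = n24309 := rfl
theorem F38095 : act 1 n11447 = n24309 := d15_0 (iv0 D24309) (iv7 F38091) (iv2 F38090)
def n24310 : Q := act 1 n11445
theorem D24310 : act 1 n11445 = n24310 := rfl
theorem F38096 : act 1 n24310 = n11447 := d15_1 D24310 (iv7 D11447) D11445
def n24311 : Q := act 5 n11445
theorem D24311 : act 5 n11445 = n24311 := rfl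
theorem F38097 : act 2 n24311 = n11446 := d2_1 D24311 (iv5 D11446) D11445
def n24312 : Q := act 0 n11446
theorem D24312 : act 0 n11446 = n24312 := rfl
def n24313 : Q := act 1 n11446
theorem D24313 : act 1 n11446 = n24313 := rfl
def n24314 : Q := act 4 n11446
theorem D24314 : act 4 n11446 = n24314 := rfl
theorem F38098 : act 0 n24314 = n15981 := d20_7 (iv4 F23046) (iv1 D13796) (iv4 F10962) (iv3 F26545) F11985 (iv3 F18712) D24314 (iv4 D15981) F11729 (iv1 F10646)
def n24315 : Q := act 6 n11446
theorem D24315 : act 6 n11446 = n24315 := rfl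
theorem F38099 : act 3 n24315 = n11449 := d7_1 D24315 (iv6 D11449) (iv3 F18712)
theorem F38100 : act 5 n24315 = n15321 := d12_1 D24315 (iv6 D15321) (iv5 D7250) (iv6 F8100) D11446
def n24316 : Q := act 7 n11446
theorem D24316 : act 7 n11446 = n24316 := rfl
theorem F38101 : act 3 n24316 = n11450 := d8_1 D24316 (iv7 D11450) (iv3 F18712)
theorem F38102 : act 5 n24316 = n11447 := d13_1 D24316 (iv7 D11447) D11446
def n24317 : Q := act 3 n11448
theorem D24317 : act 3 n11448 = n24317 := rfl
def n24318 : Q := act 6 n11448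
theorem D24318 : act 6 n11448 = n24318 := rfl
theorem F38103 : act 4 n24318 = n11449 := d10_1 D24318 (iv6 D11449) D11448
def n24319 : Q := act 0 n11449
theorem D24319 : act 0 n11449 = n24319 := rfl
def n24320 : Q := act 1 n11449
theorem D24320 : act 1 n11449 = n24320 := rfl
theorem F38104 : act 5 n13669 = n24320 := d21_6 (iv5 D2519) F2143 D1312 D2889 D6494 D13669 (iv1 D24320) F18714 (iv6 D7251) F5325
def n24321 : Q := act 7 n11449
theorem D24321 : act 7 n11449 = n24321 := rfl
theorem F38105 : act 5 n24321 = n15324 := d13_1 D24321 (iv7 D15324) (iv5 F18714)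
def n24322 : Q := act 6 n11450
theorem D24322 : act 6 n11450 = n24322 := rfl
def n24323 : Q := act 5 n11451
theorem D24323 : act 5 n11451 = n24323 := rfl
theorem F38106 : act 3 n24323 = n11455 := d6_1 D24323 (iv5 D11455) (iv3 F18716)
theorem F38107 : act 6 n24323 = n24238 := d12_2 D11451 D24323 (iv5 D24238) (iv6 D11396) (iv5 F8105)
def n24324 : Q := act 5 n11452
theorem D24324 : act 5 n11452 = n24324 := rfl
theorem F38108 : act 2 n24324 = n24238 := d2_1 D24324 (iv5 D24238) (iv2 F18718)
theorem F38109 : act 3 n24324 = n14149 := d6_1 D24324 (iv5 D14149) (iv3 F18719)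
theorem F38110 : act 0 n13414 = n24324 := d21_7 F8467 F7915 (iv5 F4401) D6401 F19478 (iv6 F24602) F24601 (iv5 D24324) (iv6 D11452) (iv1 F8469)
def n24325 : Q := act 4 n11455
theorem D24325 : act 4 n11455 = n24325 := rfl
theorem F38111 : act 6 n24325 = n24240 := d10_2 (iv6 F18721) D24325 (iv4 D24240)
def n24326 : Q := act 4 n11459
theorem D24326 : act 4 n11459 = n24326 := rfl
theorem F38112 : act 2 n24326 = n24325 := d1_1 D24326 (iv4 D24325) (iv2 F18724)
theorem F38113 : act 6 n24326 = n24241 := d10_2 (iv6 F18725) D24326 (iv4 D24241)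
def n24327 : Q := act 5 n11461
theorem D24327 : act 5 n11461 = n24327 := rfl
theorem F38114 : act 2 n24327 = n11468 := d2_1 D24327 (iv5 D11468) (iv2 F22895)
theorem F38115 : act 3 n24327 = n14215 := d6_1 D24327 (iv5 D14215) (iv3 F19518)
theorem F38116 : act 7 n24327 = n11473 := d13_2 (iv7 F22896) D24327 (iv5 D11473)
theorem F38117 : act 0 n24327 = n13991 := d17_2 D11461 D24327 (iv5 D13991) F10796 D13846 (iv0 F26060) (iv5 D16488) (iv0 D7652) (iv4 F8117)
def n24328 : Q := act 5 n11462
theorem D24328 : act 5 n11462 = n24328 := rfl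
theorem F38118 : act 2 n24328 = n11473 := d2_1 D24328 (iv5 D11473) (iv2 F22899)
theorem F38119 : act 7 n24328 = n11468 := d13_2 (iv7 F22900) D24328 (iv5 D11468)
theorem F38120 : act 1 n24328 = n13991 := d15_0 (iv0 F38117) F38116 (iv2 F38118)
def n24329 : Q := act 0 n11463
theorem D24329 : act 0 n11463 = n24329 := rfl
theorem F38121 : act 2 n11475 = n24329 := d15_3 (iv0 D24329) (iv0 F22630) F22634
theorem F38122 : act 7 n24329 = n11476 := d4_2 F22634 F38121 (iv2 F22629)
theorem F38123 : act 1 n11478 = n24329 := d15_1 F22631 F38122 (iv2 F22629)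
def n24330 : Q := act 4 n11463
theorem D24330 : act 4 n11463 = n24330 := rfl
theorem F38124 : act 2 n24330 = n11477 := d1_1 D24330 (iv4 D11477) (iv2 F18732)
theorem F38125 : act 6 n24330 = n23791 := d10_2 (iv6 F18734) D24330 (iv4 D23791)
def n24331 : Q := act 7 n11463
theorem D24331 : act 7 n11463 = n24331 := rfl
theorem F38126 : act 2 n24331 = n11478 := d4_1 D24331 (iv7 D11478) (iv2 F18732)
theorem F38127 : act 3 n24331 = n24246 := d8_1 D24331 (iv7 D24246) (iv3 F18733)
theorem F38128 : act 5 n24331 = n11464 := d13_1 D24331 (iv7 D11464) D11463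
theorem F38129 : act 1 n11476 = n24331 := d15_1 D11476 (iv7 D24331) F18732
theorem F38130 : act 1 n24331 = n11475 := d15_1 F38129 (iv7 F22634) F22629
def n24332 : Q := act 5 n11466
theorem D24332 : act 5 n11466 = n24332 := rfl
theorem F38131 : act 3 n24332 = n11468 := d6_1 D24332 (iv5 D11468) D11466
def n24333 : Q := act 6 n11466
theorem D24333 : act 6 n11466 = n24333 := rfl
theorem F38132 : act 3 n24333 = n11469 := d7_1 D24333 (iv6 D11469) D11466
theorem F38133 : act 4 n24333 = n24159 := d20_6 F8540 F8038 (iv4 F8388) (iv3 F19108) F22606 (iv3 F38132) (iv1 D24159) F18527 F8535 D5596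
theorem F38134 : act 6 n24159 = n12229 := d10_2 D24333 F38133 F20230
theorem F38135 : act 2 n14336 = n24159 := d3_3 F38134 (iv2 F22904) D14336
theorem F38136 : act 3 n11613 = n24159 := d7_3 F38134 F20233 (iv6 F18956)
theorem F38137 : act 5 n24159 = n12056 := d21_6 F3771 F3477 (iv5 F3818) D5793 D12229 (iv6 F38134) (iv1 D12056) (iv5 D5712) (iv6 D2390) D2387
theorem E4753 : n12056 = n11611 := (c6_1 F38137 (iv3 D11611) D11613 F38136)
theorem F38138 : act 0 n11611 = n5712 := (sb E4753 (iv1 D12056))
theorem F38139 : act 5 n11611 = n24159 := (sb E4753 (iv5 F38137))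
def n24334 : Q := act 0 n11467
theorem D24334 : act 0 n11467 = n24334 := rfl
theorem F38140 : act 4 n24334 = n11840 := d20_2 D11467 D24334 F19233 (iv1 F10315) (iv3 D3481) F5460 (iv1 D1077) (iv4 F1994) (iv3 F3552) D5340
theorem F38141 : act 3 n24334 = n14207 := d20_5 (iv4 F4756) D6732 D14151 F23640 D24334 F23716 (iv1 F11021) F19494 (iv3 F19493) (iv1 D5556)
theorem F38142 : act 2 n12021 = n24334 := d15_3 (iv0 D24334) (iv0 F18745) D12021
theorem F38143 : act 1 n11472 = n24334 := d15_0 (iv0 D24334) (iv7 F23687) F23685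
theorem F38144 : act 7 n24334 = n11837 := d15_2 (iv0 F18747) F38143 F19228
theorem F38145 : act 6 n24334 = n24334 := d14_5 F38144 (iv6 D11837) F8466 D11837 (iv7 F38144)
def n24335 : Q := act 5 n11467
theorem D24335 : act 5 n11467 = n24335 := rfl
theorem F38146 : act 2 n24335 = n24247 := d2_1 D24335 (iv5 D24247) F22897
def n24336 : Q := act 6 n11467
theorem D24336 : act 6 n11467 = n24336 := rfl
theorem F38147 : act 2 n24336 = n24248 := d3_1 D24336 (iv6 D24248) F22897
theorem F38148 : act 4 n24336 = n11469 := d10_1 D24336 (iv6 D11469) D11467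
def n24337 : Q := act 0 n11468
theorem D24337 : act 0 n11468 = n24337 := rfl
theorem F38149 : act 5 n24337 = n13463 := d17_3 D5340 D11468 D24337 (iv4 F22525) D14294 (iv0 F23873) (iv5 D7659) (iv0 D3471) (iv4 F3553)
theorem F38150 : act 1 n11473 = n24337 := d15_0 (iv0 D24337) (iv7 F38119) F38118
theorem F38151 : act 0 n11474 = n11965 := d21_4 (iv5 F38149) (iv1 F38150) (iv5 D11473) D11474 F19745 (iv5 F20486) (iv1 F22562) (iv5 D6413) D6414 (iv1 F22628)
theorem F38152 : act 2 n13991 = n24337 := d2_3 F38149 F22420 D13991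
theorem F38153 : act 3 n24251 = n24337 := d6_3 F38149 (iv3 F23010) (iv5 F38025)
def n24338 : Q := act 1 n11468
theorem D24338 : act 1 n11468 = n24338 := rfl
theorem F38154 : act 1 n24338 = n11473 := d15_1 D24338 (iv7 F38116) F38114
theorem F38155 : act 7 n24338 = n13991 := d15_2 (iv0 D24337) D24338 F38152
theorem F38156 : act 5 n11979 = n24338 := d21_6 (iv5 F22624) (iv1 F22627) (iv5 D6418) D6419 F22595 D11979 (iv1 D24338) (iv5 D11468) D11469 (iv1 F22607)
theorem F38157 : act 3 n24338 = n11480 := d6_1 F38156 F18758 (iv3 F19781)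
def n24339 : Q := act 4 n11468
theorem D24339 : act 4 n11468 = n24339 := rfl
def n24340 : Q := act 6 n11468
theorem D24340 : act 6 n11468 = n24340 := rfl
def n24341 : Q := act 5 n11471
theorem D24341 : act 5 n11471 = n24341 := rfl
theorem F38158 : act 2 n24341 = n14218 := d2_1 D24341 (iv5 D14218) F22945
theorem F38159 : act 3 n24341 = n11473 := d6_1 D24341 (iv5 D11473) D11471
theorem F38160 : act 7 n24341 = n14215 := d13_2 (iv7 F22898) D24341 (iv5 D14215)
def n24342 : Q := act 6 n11471
theorem D24342 : act 6 n11471 = n24342 := rfl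
theorem F38161 : act 2 n24342 = n14219 := d3_1 D24342 (iv6 D14219) F22945
theorem F38162 : act 3 n24342 = n11474 := d7_1 D24342 (iv6 D11474) D11471
def n24343 : Q := act 5 n11472
theorem D24343 : act 5 n11472 = n24343 := rfl
theorem F38163 : act 3 n24343 = n24243 := d6_1 D24343 (iv5 D24243) (iv3 F18748)
theorem F38164 : act 7 n24343 = n24247 := d13_2 F22892 D24343 (iv5 D24247)
def n24344 : Q := act 6 n11472
theorem D24344 : act 6 n11472 = n24344 := rfl
theorem F38165 : act 3 n24344 = n11724 := d7_1 D24344 F23895 (iv3 F18748)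
theorem F38166 : act 4 n24344 = n11474 := d10_1 D24344 (iv6 D11474) D11472
def n24345 : Q := act 4 n11473
theorem D24345 : act 4 n11473 = n24345 := rfl
def n24346 : Q := act 6 n11473
theorem D24346 : act 6 n11473 = n24346 := rfl
def n24347 : Q := act 3 n11475
theorem D24347 : act 3 n11475 = n24347 := rfl
def n24348 : Q := act 4 n11475
theorem D24348 : act 4 n11475 = n24348 := rfl
def n24349 : Q := act 6 n11475
theorem D24349 : act 6 n11475 = n24349 := rfl
def n24350 : Q := act 3 n11476
theorem D24350 : act 3 n11476 = n24350 := rfl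
theorem F38167 : act 5 n24350 = n11794 := d6_2 F22600 D24350 (iv3 F22599)
theorem F38168 : act 0 n24350 = n14206 := d21_7 F4782 F4753 (iv5 D2289) D2290 D5520 D11794 (iv5 F38167) (iv5 D14206) (iv6 D6760) (iv1 F4780)
theorem F38169 : act 1 n24350 = n14223 := d15_1 (iv0 F38168) (iv7 D14223) (iv2 F23714)
def n24351 : Q := act 4 n11476
theorem D24351 : act 4 n11476 = n24351 := rfl
def n24352 : Q := act 6 n11476
theorem D24352 : act 6 n11476 = n24352 := rfl
def n24353 : Q := act 0 n11477
theorem D24353 : act 0 n11477 = n24353 := rfl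
def n24354 : Q := act 1 n11477
theorem D24354 : act 1 n11477 = n24354 := rfl
theorem F38170 : act 4 n14367 = n24354 := d20_6 (iv4 F11206) (iv1 F11959) F11957 (iv3 F11902) (iv1 F11904) (iv3 F23985) (iv1 D24354) (iv4 D11477) F8118 D5349
def n24355 : Q := act 3 n11477
theorem D24355 : act 3 n11477 = n24355 := rfl
theorem F38171 : act 4 n24355 = n11492 := d5_2 D11477 D24355 (iv3 D11492) (iv4 D5350) (iv3 F8118)
theorem F38172 : act 6 n24355 = n23813 := d7_2 (iv6 F18751) D24355 (iv3 D23813)
def n24356 : Q := act 5 n11477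
theorem D24356 : act 5 n11477 = n24356 := rfl
def n24357 : Q := act 7 n11477
theorem D24357 : act 7 n11477 = n24357 := rfl
theorem F38173 : act 4 n24357 = n11478 := d11_1 D24357 (iv7 D11478) D11477
def n24358 : Q := act 6 n11478
theorem D24358 : act 6 n11478 = n24358 := rfl
theorem F38174 : act 3 n24358 = n11495 := d7_1 D24358 (iv6 D11495) (iv3 F18752)
theorem F38175 : act 5 n24358 = n24358 := d12_1 D24358 (iv6 D24358) F18753 F8122 (iv5 F18753)
theorem F38176 : act 7 n24358 = n23816 := d14_2 D11478 D24358 (iv6 D23816) (iv7 D11163) (iv6 F8119)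
def n24359 : Q := act 4 n11479
theorem D24359 : act 4 n11479 = n24359 := rfl
theorem F38177 : act 7 n24359 = n16584 := d11_2 (iv7 F18755) D24359 (iv4 D16584)
def n24360 : Q := act 6 n11479
theorem D24360 : act 6 n11479 = n24360 := rfl
theorem F38178 : act 3 n24360 = n11482 := d7_1 D24360 (iv6 D11482) (iv3 F18754)
theorem F38179 : act 5 n24360 = n11825 := d12_1 D24360 (iv6 D11825) (iv5 F11488) F11485 D11479
def n24361 : Q := act 3 n11481
theorem D24361 : act 3 n11481 = n24361 := rfl
theorem F38180 : act 7 n24361 = n16586 := d8_2 (iv7 F18761) D24361 (iv3 D16586)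
def n24362 : Q := act 6 n11481
theorem D24362 : act 6 n11481 = n24362 := rfl
theorem F38181 : act 2 n24362 = n16569 := d3_1 D24362 (iv6 D16569) (iv2 F18760)
theorem F38182 : act 4 n24362 = n11482 := d10_1 D24362 (iv6 D11482) D11481
def n24363 : Q := act 1 n11482
theorem D24363 : act 1 n11482 = n24363 := rfl
theorem F38183 : act 1 n24363 = n16572 := d15_1 D24363 (iv7 D16572) (iv2 F18762)
theorem F38184 : act 5 n14834 = n24363 := d21_0 (iv1 D24363) F18763 (iv6 D11166) (iv1 D5101) (iv6 F3556) (iv5 D2194) D2192 D5345 D11482 F24491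
def n24364 : Q := act 7 n11482
theorem D24364 : act 7 n11482 = n24364 := rfl
theorem F38185 : act 2 n24364 = n16572 := d4_1 D24364 (iv7 D16572) (iv2 F18762)
theorem F38186 : act 5 n24364 = n23824 := d13_1 D24364 (iv7 D23824) (iv5 F18763)
theorem F38187 : act 6 n24364 = n16589 := d14_1 D24364 (iv7 D16589) (iv6 D7709) (iv7 F8125) D11482
theorem F38188 : act 1 n16572 = n14834 := d15_0 (iv0 F24491) D24364 F38185
theorem F38189 : act 1 n16571 = n24364 := d15_1 D16571 (iv7 D24364) F18762
theorem F38190 : act 1 n24364 = n16570 := d15_0 (iv0 D16570) D16572 (iv2 F38185)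
def n24365 : Q := act 0 n11486
theorem D24365 : act 0 n11486 = n24365 := rfl
theorem F38191 : act 5 n24365 = n14783 := d21_2 D11486 D24365 (iv6 F24426) (iv1 F37958) F37956 F24433 (iv1 F22158) F22156 F9846 (iv1 F19502)
theorem F38192 : act 2 n14805 = n24365 := d15_3 (iv0 D24365) F22971 (iv7 F24462)
theorem F38193 : act 1 n11806 = n24365 := d15_0 (iv0 D24365) F18772 (iv2 F19526)
theorem F38194 : act 7 n24365 = n14802 := d15_2 (iv0 F22970) F38193 F24453
theorem F38195 : act 6 n24220 = n24365 := d12_0 F38191 (iv6 F24426) F22196 D13359 F37967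
theorem F38196 : act 2 n14930 = n24220 := d3_3 F38195 (iv2 F38192) F24592
theorem F38197 : act 7 n24219 = n14930 := d15_2 F37964 F37969 F38196
theorem F38198 : act 7 n14929 = n24220 := d15_2 F37970 F37971 (iv2 F38196)
theorem F38199 : act 2 n24219 = n14929 := d4_3 F38198 (iv2 F38196) (iv7 F38197)
def n24366 : Q := act 4 n11486
theorem D24366 : act 4 n11486 = n24366 := rfl
theorem F38200 : act 7 n24366 = n16566 := d11_2 (iv7 F18772) D24366 (iv4 D16566)
def n24367 : Q := act 6 n11486
theorem D24367 : act 6 n11486 = n24367 := rfl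
theorem F38201 : act 3 n24367 = n11489 := d7_1 D24367 (iv6 D11489) (iv3 F18771)
theorem F38202 : act 0 n24202 = n24367 := d21_4 (iv5 F18307) (iv1 F19038) F19036 D24202 (iv6 D24367) (iv5 D11486) (iv1 F19503) D5526 F8446 D5537
def n24368 : Q := act 3 n11488
theorem D24368 : act 3 n11488 = n24368 := rfl
theorem F38203 : act 7 n24368 = n16568 := d8_2 (iv7 F18776) D24368 (iv3 D16568)
def n24369 : Q := act 6 n11488
theorem D24369 : act 6 n11488 = n24369 := rfl
theorem F38204 : act 2 n24369 = n16587 := d3_1 D24369 (iv6 D16587) (iv2 F18775)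
theorem F38205 : act 4 n24369 = n11489 := d10_1 D24369 (iv6 D11489) D11488
def n24370 : Q := act 4 n11490
theorem D24370 : act 4 n11490 = n24370 := rfl
theorem F38206 : act 7 n24370 = n24211 := d11_2 (iv7 F18779) D24370 (iv4 D24211)
theorem F38207 : act 1 n24370 = n12037 := d18_6 F18342 F18341 F10396 (iv4 F18565) (iv5 F18778) D24370 (iv4 D12037) D12036 (iv5 F19924)
def n24371 : Q := act 6 n11490
theorem D24371 : act 6 n11490 = n24371 := rfl
theorem F38208 : act 3 n24371 = n11491 := d7_1 D24371 (iv6 D11491) D11490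
def n24372 : Q := act 0 n11491
theorem D24372 : act 0 n11491 = n24372 := rfl
theorem F38209 : act 6 n24372 = n23823 := d21_5 (iv5 D6655) (iv1 F9053) F9050 D11491 D24372 F37145 (iv1 D13516) (iv5 F11972) (iv6 D7700) (iv1 F10802)
theorem F38210 : act 0 n24372 = n24272 := d21_4 F38186 (iv1 F37150) (iv5 F37145) (iv6 F38209) F38041 F24495 (iv1 F20494) (iv5 F20495) (iv6 F26240) (iv1 F38190)
def n24373 : Q := act 1 n11491
theorem D24373 : act 1 n11491 = n24373 := rfl
theorem F38211 : act 1 n24373 = n24272 := d15_1 D24373 (iv7 D24272) (iv2 F18781)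
def n24374 : Q := act 7 n11491
theorem D24374 : act 7 n11491 = n24374 := rfl
theorem F38212 : act 2 n24374 = n24272 := d4_1 D24374 (iv7 D24272) (iv2 F18781)
theorem F38213 : act 5 n24374 = n12002 := d13_1 D24374 F19849 F19086
theorem F38214 : act 6 n24374 = n24275 := d14_1 D24374 (iv7 D24275) (iv6 D11425) (iv7 F8133) D11491
theorem F38215 : act 1 n24271 = n24374 := d15_1 D24271 (iv7 D24374) F18781
theorem F38216 : act 0 n24270 = n24374 := d21_4 F26242 (iv1 F37144) F37145 (iv6 F38039) F38214 F38047 (iv1 F20499) (iv5 F11317) D14834 (iv1 F38188)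
def n24375 : Q := act 0 n11492
theorem D24375 : act 0 n11492 = n24375 := rfl
def n24376 : Q := act 1 n11492
theorem D24376 : act 1 n11492 = n24376 := rfl
def n24377 : Q := act 2 n11492
theorem D24377 : act 2 n11492 = n24377 := rfl
theorem F38217 : act 3 n24377 = n24278 := d0_2 D11492 D24377 (iv2 D24278) (iv3 D11426) (iv2 F8135)
theorem F38218 : act 6 n24377 = n23827 := d3_2 (iv6 F18782) D24377 (iv2 D23827)
def n24378 : Q := act 5 n11492
theorem D24378 : act 5 n11492 = n24378 := rfl
theorem F38219 : act 3 n24378 = n11493 := d6_1 D24378 (iv5 D11493) D11492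
theorem F38220 : act 7 n24317 = n24378 := d8_0 F38219 (iv7 F18785) D24317
def n24379 : Q := act 7 n11492
theorem D24379 : act 7 n11492 = n24379 := rfl
theorem F38221 : act 3 n24379 = n11494 := d8_1 D24379 (iv7 D11494) D11492
theorem F38222 : act 5 n24379 = n24317 := d13_1 D24379 F38220 (iv5 D24378)
def n24380 : Q := act 6 n11493
theorem D24380 : act 6 n11493 = n24380 := rfl
theorem F38223 : act 2 n24380 = n24281 := d3_1 D24380 (iv6 D24281) (iv2 F18783)
theorem F38224 : act 4 n24380 = n24322 := d10_1 D24380 (iv6 D24322) (iv4 F18784)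
theorem F38225 : act 5 n24380 = n23829 := d12_1 D24380 (iv6 D23829) (iv5 D11168) (iv6 F8136) D11493
def n24381 : Q := act 6 n11494
theorem D24381 : act 6 n11494 = n24381 := rfl
theorem F38226 : act 2 n24381 = n24282 := d3_1 D24381 (iv6 D24282) (iv2 F18786)
theorem F38227 : act 4 n24381 = n11495 := d10_1 D24381 (iv6 D11495) (iv4 F18787)
theorem F38228 : act 7 n24381 = n14661 := d14_2 D11494 D24381 (iv6 D14661) F11267 (iv6 F8136)
def n24382 : Q := act 0 n11497
theorem D24382 : act 0 n11497 = n24382 := rfl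
theorem F38229 : act 3 n24382 = n13897 := d20_5 F10941 (iv1 D5357) D5358 D11497 D24382 (iv4 D13897) (iv1 F26599) F21200 (iv3 D12768) F10942
theorem F38230 : act 1 n24288 = n24382 := d15_0 (iv0 D24382) F18799 D24288
def n24383 : Q := act 1 n11497
theorem D24383 : act 1 n11497 = n24383 := rfl
theorem F38231 : act 1 n24383 = n24288 := d15_1 D24383 F38070 F26669
def n24384 : Q := act 5 n11498
theorem D24384 : act 5 n11498 = n24384 := rfl
theorem F38232 : act 2 n24384 = n15634 := d2_1 D24384 F25133 (iv2 F18800)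
theorem F38233 : act 7 n24384 = n15633 := d13_2 F26460 D24384 (iv5 F26458)
theorem F38234 : act 0 n24384 = n12522 := d17_2 F20807 D24384 (iv5 D12522) (iv4 D5955) (iv5 F9135) (iv0 D5900) (iv5 F5489) (iv0 F9215) D12489
theorem F38235 : act 1 n24384 = n12524 := d17_6 (iv1 F4141) D6140 F9560 (iv5 F8159) (iv4 F18801) D24384 (iv5 D12524) F10677 F5700
def n24385 : Q := act 0 n11500
theorem D24385 : act 0 n11500 = n24385 := rfl
theorem F38236 : act 2 n11504 = n24385 := d15_3 (iv0 D24385) (iv0 D11500) D11504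
theorem F38237 : act 3 n24385 = n24298 := d0_2 (iv3 F18807) F38236 (iv2 F38090) F18713 (iv2 F8174)
theorem F38238 : act 4 n24385 = n16608 := d1_2 (iv4 F18808) F38236 (iv2 F27097)
theorem F38239 : act 7 n24385 = n11502 := d4_2 D11504 F38236 (iv2 D11502)
theorem F38240 : act 1 n11501 = n24385 := d15_1 D11501 F38239 (iv2 D11502)
def n24386 : Q := act 2 n11500
theorem D24386 : act 2 n11500 = n24386 := rfl
theorem F38241 : act 7 n11501 = n24386 := d15_2 (iv0 D11500) D11501 (iv2 D24386)
def n24387 : Q := act 3 n11500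
theorem D24387 : act 3 n11500 = n24387 := rfl
def n24388 : Q := act 4 n11500
theorem D24388 : act 4 n11500 = n24388 := rfl
def n24389 : Q := act 5 n11500
theorem D24389 : act 5 n11500 = n24389 := rfl
def n24390 : Q := act 6 n11500
theorem D24390 : act 6 n11500 = n24390 := rfl
def n24391 : Q := act 7 n11500
theorem D24391 : act 7 n11500 = n24391 := rfl
theorem F38242 : act 2 n24391 = n11501 := d4_1 D24391 F38241 (iv2 D24386)
def n24392 : Q := act 3 n11501
theorem D24392 : act 3 n11501 = n24392 := rfl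
def n24393 : Q := act 4 n11501
theorem D24393 : act 4 n11501 = n24393 := rfl
theorem F38243 : act 3 n24393 = n24310 := d20_3 (iv4 F38238) (iv1 F38240) D24393 (iv1 D24310) (iv3 F18803) F18804 D16616 (iv4 F27105) F26721 D16608
def n24394 : Q := act 5 n11501
theorem D24394 : act 5 n11501 = n24394 := rfl
def n24395 : Q := act 6 n11501
theorem D24395 : act 6 n11501 = n24395 := rfl
def n24396 : Q := act 0 n11502
theorem D24396 : act 0 n11502 = n24396 := rfl
theorem F38244 : act 4 n24396 = n24300 := d20_2 (iv4 F18804) D24396 (iv3 D24300) D24298 (iv3 F38237) F38238 (iv1 F27099) (iv4 F26821) (iv3 F27107) (iv1 D16617)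
theorem F38245 : act 1 n11504 = n24396 := d15_0 (iv0 D24396) (iv7 F38239) (iv2 F38236)
def n24397 : Q := act 1 n11502
theorem D24397 : act 1 n11502 = n24397 := rfl
theorem F38246 : act 1 n24397 = n11504 := d15_1 D24397 (iv7 D11504) D11502
def n24398 : Q := act 5 n11502
theorem D24398 : act 5 n11502 = n24398 := rfl
theorem F38247 : act 2 n24398 = n11503 := d2_1 D24398 (iv5 D11503) D11502
theorem F38248 : act 3 n24398 = n24311 := d6_1 D24398 (iv5 D24311) (iv3 F18803)
def n24399 : Q := act 0 n11503
theorem D24399 : act 0 n11503 = n24399 := rfl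
def n24400 : Q := act 1 n11503
theorem D24400 : act 1 n11503 = n24400 := rfl
def n24401 : Q := act 4 n11503
theorem D24401 : act 4 n11503 = n24401 := rfl
def n24402 : Q := act 6 n11503
theorem D24402 : act 6 n11503 = n24402 := rfl
theorem F38249 : act 3 n24402 = n11508 := d7_1 D24402 (iv6 D11508) (iv3 F18806)
theorem F38250 : act 5 n24402 = n15697 := d12_1 D24402 (iv6 D15697) F11674 (iv6 F8172) D11503
def n24403 : Q := act 7 n11503
theorem D24403 : act 7 n11503 = n24403 := rfl
theorem F38251 : act 3 n24403 = n11509 := d8_1 D24403 (iv7 D11509) (iv3 F18806)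
theorem F38252 : act 5 n24403 = n11504 := d13_1 D24403 (iv7 D11504) D11503
def n24404 : Q := act 3 n11506
theorem D24404 : act 3 n11506 = n24404 := rfl
theorem F38253 : act 2 n24404 = n13912 := d0_1 D24404 F23173 (iv2 F10961) (iv3 F26545) F18816
theorem F38254 : act 5 n24404 = n12768 := d6_2 (iv5 F18815) D24404 (iv3 D12768)
theorem F38255 : act 7 n24404 = n13907 := d8_2 (iv7 F18814) D24404 F26597
theorem F38256 : act 1 n13909 = n24404 := d15_1 D13909 F38255 F23170
theorem F38257 : act 1 n24404 = n13908 := d15_0 (iv0 D13908) D13912 (iv2 F38253)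
theorem F38258 : act 7 n13908 = n15362 := d15_2 F38256 F38257 F27257
theorem F38259 : act 5 n15363 = n13908 := d13_3 F38258 (iv5 D15362) D15363
def n24405 : Q := act 6 n11506
theorem D24405 : act 6 n11506 = n24405 := rfl
theorem F38260 : act 2 n24405 = n16590 := d3_1 D24405 (iv6 D16590) F18816
theorem F38261 : act 5 n24405 = n16456 := d12_1 D24405 (iv6 D16456) (iv5 D7630) (iv6 F9400) (iv5 F18815)
def n24406 : Q := act 3 n11507
theorem D24406 : act 3 n11507 = n24406 := rfl
theorem F38262 : act 5 n24406 = n24280 := d6_2 (iv5 F18818) D24406 F38054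
theorem F38263 : act 7 n24406 = n24279 := d8_2 F18819 D24406 F38053
def n24407 : Q := act 6 n11507
theorem D24407 : act 6 n11507 = n24407 := rfl
theorem F38264 : act 2 n24407 = n24318 := d3_1 D24407 (iv6 D24318) (iv2 F18817)
theorem F38265 : act 4 n24407 = n11508 := d10_1 D24407 (iv6 D11508) D11507
def n24408 : Q := act 0 n11508
theorem D24408 : act 0 n11508 = n24408 := rfl
def n24409 : Q := act 1 n11508
theorem D24409 : act 1 n11508 = n24409 := rfl
theorem F38266 : act 1 n24409 = n24321 := d15_1 D24409 (iv7 D24321) (iv2 F18820)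
theorem F38267 : act 5 n23917 = n24409 := d21_6 (iv5 D1498) (iv1 F1940) D2110 D5125 D11198 D23917 (iv1 D24409) F18821 (iv6 D7380) (iv1 F5379)
theorem E4754 : n16854 = n15698 := ((c17_9 (iv1 F12761) (iv5 F28009) (iv1 F28012) (iv5 F27598) (iv4 F37329) F38267 F38266 F38105 F25187 (iv4 D16854))).symm
theorem F38268 : act 4 n15698 = n7857 := (sb E4754 (iv4 D16854))
def n24410 : Q := act 7 n11508
theorem D24410 : act 7 n11508 = n24410 := rfl
theorem F38269 : act 2 n24410 = n24321 := d4_1 D24410 (iv7 D24321) (iv2 F18820)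
theorem F38270 : act 5 n24410 = n15700 := d13_1 D24410 (iv7 D15700) (iv5 F18821)
theorem F38271 : act 1 n24321 = n24408 := d15_0 (iv0 D24408) D24410 F38269
theorem F38272 : act 1 n24320 = n24410 := d15_1 D24320 (iv7 D24410) F18820
theorem F38273 : act 1 n24410 = n24319 := d15_0 (iv0 D24319) D24321 (iv2 F38269)
def n24411 : Q := act 6 n11509
theorem D24411 : act 6 n11509 = n24411 := rfl
theorem F38274 : act 2 n24411 = n24322 := d3_1 D24411 (iv6 D24322) (iv2 F18822)
theorem F38275 : act 4 n24411 = n24281 := d10_1 D24411 (iv6 D24281) (iv4 F18823)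
def n24412 : Q := act 5 n11510
theorem D24412 : act 5 n11510 = n24412 := rfl
theorem F38276 : act 2 n24412 = n13688 := d2_1 D24412 (iv5 D13688) (iv2 F18827)
theorem F38277 : act 3 n24412 = n24239 := d6_1 D24412 (iv5 D24239) (iv3 F18828)
theorem F38278 : act 6 n24412 = n14206 := d12_2 D11510 D24412 (iv5 D14206) (iv6 D6760) (iv5 F8184)
theorem F38279 : act 4 n24412 = n14687 := d18_5 (iv1 D3154) D3156 (iv1 F19391) (iv4 F18829) D24412 (iv0 D14687) (iv4 D7012) F11242 (iv5 D6973)
theorem F38280 : act 0 n23808 = n24412 := d21_7 (iv5 F3654) (iv1 D2287) D2289 D5519 (iv1 F19525) D14161 (iv5 F37127) (iv5 D24412) (iv6 D11510) (iv1 F8188)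
def n24413 : Q := act 5 n11511
theorem D24413 : act 5 n11511 = n24413 := rfl
theorem F38281 : act 2 n24413 = n13704 := d2_1 D24413 (iv5 D13704) (iv2 F22877)
theorem F38282 : act 3 n24413 = n24249 := d6_1 D24413 (iv5 D24249) F19451
def n24414 : Q := act 6 n11511
theorem D24414 : act 6 n11511 = n24414 := rfl
theorem F38283 : act 2 n24414 = n13705 := d3_1 D24414 (iv6 D13705) (iv2 F22877)
theorem F38284 : act 3 n24414 = n24250 := d7_1 D24414 (iv6 D24250) F19451
theorem F38285 : act 4 n24414 = n14216 := d10_1 D24414 (iv6 D14216) F19517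
theorem F38286 : act 0 n24414 = n11598 := d20_10 F18953 (iv1 F20387) (iv4 F11493) F18530 (iv1 F19808) (iv3 F20325) F20326 F37080 (iv4 F38024) (iv3 F38284)
theorem F38287 : act 0 n11595 = n13397 := d20_4 (iv4 F38285) F38286 F18953 (iv3 F18900) (iv3 D13397) (iv4 D6359) (iv1 F9996) (iv4 F18572) (iv3 F24280) (iv1 F24282)
def n24415 : Q := act 5 n11512
theorem D24415 : act 5 n11512 = n24415 := rfl
theorem F38288 : act 3 n24415 = n13695 := d6_1 D24415 (iv5 D13695) F22400
theorem F38289 : act 7 n24415 = n13704 := d13_2 (iv7 F22879) D24415 (iv5 D13704)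
def n24416 : Q := act 0 n11513
theorem D24416 : act 0 n11513 = n24416 := rfl
def n24417 : Q := act 1 n11513
theorem D24417 : act 1 n11513 = n24417 := rfl
theorem F38290 : act 5 n13337 = n24417 := d21_6 F8184 (iv1 F4780) F4782 D6727 F19319 D13337 (iv1 D24417) (iv5 D11513) (iv6 D5369) D5368
theorem F38291 : act 3 n24417 = n13346 := d6_1 F38290 (iv5 D13346) (iv3 F22198)
theorem F38292 : act 0 n14556 = n13337 := d17_0 F38290 (iv1 D24417) (iv5 D11513) F8191 D5372 (iv0 F19436) F11203 D6955 D14556
theorem F38293 : act 1 n14553 = n13337 := d15_0 (iv0 F38292) F24209 (iv2 F24193)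
theorem F38294 : act 7 n13721 = n24417 := d8_0 F38291 (iv7 F22869) D13721
theorem F38295 : act 4 n24417 = n14239 := d20_6 (iv4 F10815) (iv1 F10818) F10620 (iv3 F10602) (iv1 F22216) (iv3 F38291) (iv1 D14239) (iv4 D6779) F4787 D3069
theorem F38296 : act 2 n13721 = n24416 := d15_3 (iv0 D24416) D24417 (iv7 F38294)
def n24418 : Q := act 4 n11513
theorem D24418 : act 4 n11513 = n24418 := rfl
def n24419 : Q := act 7 n11513
theorem D24419 : act 7 n11513 = n24419 := rfl
theorem F38297 : act 3 n24419 = n13750 := d8_1 D24419 F23005 (iv3 F18830)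
theorem F38298 : act 5 n24419 = n11514 := d13_1 D24419 (iv7 D11514) D11513
def n24420 : Q := act 4 n11518
theorem D24420 : act 4 n11518 = n24420 := rfl
theorem F38299 : act 2 n24420 = n16516 := d1_1 D24420 (iv4 D16516) (iv2 F19550)
def n24421 : Q := act 6 n11518
theorem D24421 : act 6 n11518 = n24421 := rfl
theorem F38300 : act 2 n24421 = n16517 := d3_1 D24421 (iv6 D16517) (iv2 F19550)
def n24422 : Q := act 4 n11525
theorem D24422 : act 4 n11525 = n24422 := rfl
theorem F38301 : act 2 n24422 = n16535 := d1_1 D24422 (iv4 D16535) F19558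
def n24423 : Q := act 6 n11525
theorem D24423 : act 6 n11525 = n24423 := rfl
theorem F38302 : act 2 n24423 = n16536 := d3_1 D24423 (iv6 D16536) F19558
def n24424 : Q := act 0 n11527
theorem D24424 : act 0 n11527 = n24424 := rfl
def n24425 : Q := act 1 n11527
theorem D24425 : act 1 n11527 = n24425 := rfl
def n24426 : Q := act 3 n11527
theorem D24426 : act 3 n11527 = n24426 := rfl
theorem F38303 : act 4 n24426 = n24131 := d5_2 D11527 D24426 (iv3 D24131) (iv4 D11333) (iv3 F8192)
theorem F38304 : act 6 n24426 = n24106 := d7_2 (iv6 F18836) D24426 (iv3 D24106)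
def n24427 : Q := act 5 n11527
theorem D24427 : act 5 n11527 = n24427 := rfl
def n24428 : Q := act 7 n11527
theorem D24428 : act 7 n11527 = n24428 := rfl
theorem F38305 : act 4 n24428 = n11528 := d11_1 D24428 (iv7 D11528) D11527
def n24429 : Q := act 6 n11528
theorem D24429 : act 6 n11528 = n24429 := rfl
theorem F38306 : act 3 n24429 = n24134 := d7_1 D24429 (iv6 D24134) (iv3 F18837)
theorem F38307 : act 5 n24429 = n24429 := d12_1 D24429 (iv6 D24429) F18838 F8195 (iv5 F18838)
theorem F38308 : act 7 n24429 = n24109 := d14_2 D11528 D24429 (iv6 D24109) (iv7 D11320) (iv6 F8193)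
def n24430 : Q := act 5 n11530
theorem D24430 : act 5 n11530 = n24430 := rfl
theorem F38309 : act 2 n24430 = n14053 := d2_1 D24430 (iv5 D14053) F19541
theorem F38310 : act 3 n24430 = n14304 := d6_1 D24430 (iv5 D14304) F19542
theorem F38311 : act 7 n24430 = n14341 := d13_2 (iv7 F19532) D24430 (iv5 D14341)
def n24431 : Q := act 6 n11530
theorem D24431 : act 6 n11530 = n24431 := rfl
theorem F38312 : act 2 n24431 = n14054 := d3_1 D24431 (iv6 D14054) F19541
theorem F38313 : act 3 n24431 = n11632 := d7_1 D24431 F18975 F19542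
theorem F38314 : act 4 n24431 = n12239 := d10_1 D24431 (iv6 D12239) F19543
theorem F38315 : act 0 n12054 = n24431 := d20_10 F38314 (iv1 F37837) F37833 F19067 (iv1 F8642) D11973 F19762 F22227 (iv4 F22206) F22205
def n24432 : Q := act 0 n11531
theorem D24432 : act 0 n11531 = n24432 := rfl
def n24433 : Q := act 1 n11531
theorem D24433 : act 1 n11531 = n24433 := rfl
theorem F38316 : act 5 n12250 = n24433 := d21_6 D2389 (iv1 F3785) (iv5 F4827) D6846 F19407 D12250 (iv1 D24433) (iv5 D11531) (iv6 D5374) (iv1 F3775)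
theorem F38317 : act 3 n24433 = n12257 := d6_1 F38316 (iv5 D12257) (iv3 F20302)
theorem F38318 : act 7 n14349 = n24433 := d8_0 F38317 F22284 D14349
theorem F38319 : act 4 n24433 = n24264 := d20_6 (iv4 F11946) (iv1 F11949) F11209 (iv3 F11114) F20323 (iv3 F38317) (iv1 D24264) (iv4 D11421) F7919 D5308
theorem F38320 : act 2 n14349 = n24432 := d15_3 (iv0 D24432) D24433 (iv7 F38318)
theorem F38321 : act 3 n24432 = n12042 := d0_2 D14349 F38320 (iv2 F19945) F23905 (iv2 F23903)
def n24434 : Q := act 4 n11531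
theorem D24434 : act 4 n11531 = n24434 := rfl
def n24435 : Q := act 7 n11531
theorem D24435 : act 7 n11531 = n24435 := rfl
theorem F38322 : act 3 n24435 = n11550 := d8_1 D24435 (iv7 D11550) (iv3 F18839)
theorem F38323 : act 5 n24435 = n11532 := d13_1 D24435 (iv7 D11532) D11531
def n24436 : Q := act 5 n11534
theorem D24436 : act 5 n11534 = n24436 := rfl
theorem F38324 : act 2 n24436 = n24415 := d2_1 D24436 (iv5 D24415) (iv2 F22880)
theorem F38325 : act 7 n24436 = n24413 := d13_2 (iv7 F22878) D24436 (iv5 D24413)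
def n24437 : Q := act 6 n11534
theorem D24437 : act 6 n11534 = n24437 := rfl
theorem F38326 : act 2 n24437 = n14800 := d3_1 D24437 F24449 (iv2 F22880)
theorem F38327 : act 4 n24437 = n24342 := d10_1 D24437 (iv6 D24342) (iv4 F19530)
theorem F38328 : act 0 n11578 = n24437 := d20_1 (iv4 F18888) F38327 F38162 F38151 F19742 F8650 F8043 (iv4 F8222) (iv3 F19330) (iv1 D11586)
def n24438 : Q := act 0 n11535
theorem D24438 : act 0 n11535 = n24438 := rfl
def n24439 : Q := act 1 n11535
theorem D24439 : act 1 n11535 = n24439 := rfl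
theorem F38329 : act 1 n24439 = n24419 := d15_1 D24439 (iv7 D24419) (iv2 F18843)
def n24440 : Q := act 4 n11535
theorem D24440 : act 4 n11535 = n24440 := rfl
theorem F38330 : act 2 n24440 = n24418 := d1_1 D24440 (iv4 D24418) (iv2 F18843)
theorem F38331 : act 1 n24440 = n14236 := d18_6 (iv1 F11021) F19494 (iv1 D5377) (iv4 F8198) D11535 D24440 (iv4 D14236) F23736 F23735
theorem F38332 : act 0 n24440 = n14233 := d20_7 (iv4 F37706) (iv1 F37707) (iv4 D13959) D13958 F36941 F22394 D24440 (iv4 D14233) (iv3 F19546) (iv1 F18473)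
def n24441 : Q := act 7 n11535
theorem D24441 : act 7 n11535 = n24441 := rfl
theorem F38333 : act 2 n24441 = n24419 := d4_1 D24441 (iv7 D24419) (iv2 F18843)
theorem F38334 : act 5 n24441 = n11536 := d13_1 D24441 (iv7 D11536) D11535
theorem F38335 : act 1 n24419 = n24438 := d15_0 (iv0 D24438) D24441 F38333
theorem F38336 : act 1 n24417 = n24441 := d15_1 D24417 (iv7 D24441) F18843
theorem F38337 : act 1 n24441 = n24416 := d15_0 (iv0 D24416) D24419 (iv2 F38333)
def n24442 : Q := act 4 n11545
theorem D24442 : act 4 n11545 = n24442 := rfl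
theorem F38338 : act 2 n24442 = n14493 := d1_1 D24442 (iv4 D14493) F19548
theorem F38339 : act 7 n24442 = n24420 := d11_2 (iv7 F19500) D24442 (iv4 D24420)
def n24443 : Q := act 6 n11545
theorem D24443 : act 6 n11545 = n24443 := rfl
theorem F38340 : act 2 n24443 = n14494 := d3_1 D24443 (iv6 D14494) F19548
theorem F38341 : act 0 n14614 = n24443 := d21_4 (iv5 F19560) F24292 (iv5 D14613) D14614 (iv6 D24443) (iv5 D11545) (iv1 D5377) D5378 (iv6 F11004) (iv1 F19207)
def n24444 : Q := act 0 n11546
theorem D24444 : act 0 n11546 = n24444 := rfl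
theorem F38342 : act 5 n24444 = n14154 := d17_1 D24444 (iv1 F23655) F10994 (iv4 F8462) (iv5 F19227) F19244 (iv5 F20353) (iv0 F23756) (iv4 F19498)
theorem F38343 : act 6 n24444 = n11604 := d21_5 D14554 F24198 (iv5 D11545) D11546 D24444 F19443 (iv1 D6951) (iv5 D3135) D3136 D6954
theorem F38344 : act 2 n11588 = n24444 := d15_3 (iv0 D24444) F19495 D11588
theorem F38345 : act 7 n24444 = n11555 := d4_2 D11588 F38344 F18933
theorem E4755 : n14495 = n11555 := (c15_2 (iv0 F23693) D14495 (iv7 F38345) (iv2 F38344))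
theorem F38346 : act 0 n11555 = n6924 := (sb E4755 (iv1 D14495))
theorem F38347 : act 1 n11586 = n24444 := d15_1 D11586 F38345 F18933
def n24445 : Q := act 7 n11546
theorem D24445 : act 7 n11546 = n24445 := rfl
theorem F38348 : act 2 n24445 = n11586 := d4_1 D24445 F19332 (iv2 F19496)
theorem F38349 : act 4 n24445 = n12279 := d11_1 D24445 F20351 (iv4 F19498)
theorem F38350 : act 6 n24445 = n14649 := d14_1 D24445 F24329 (iv6 D11519) F19499 D11546
theorem F38351 : act 1 n11555 = n24445 := d15_1 (iv0 F38346) (iv7 D24445) F19496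
theorem F38352 : act 1 n24445 = n11588 := d15_1 F38351 (iv7 D11588) (iv2 F18933)
def n24446 : Q := act 4 n11548
theorem D24446 : act 4 n11548 = n24446 := rfl
theorem F38353 : act 2 n24446 = n14509 := d1_1 D24446 (iv4 D14509) (iv2 F19429)
theorem F38354 : act 7 n24446 = n24422 := d11_2 F19444 D24446 (iv4 D24422)
theorem F38355 : act 0 n24446 = n14222 := d18_2 (iv1 F18852) D24446 (iv4 D14222) (iv5 D6769) F4786 D3056 F19494 F8199 (iv5 F18838)
def n24447 : Q := act 6 n11548
theorem D24447 : act 6 n11548 = n24447 := rfl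
theorem F38356 : act 2 n24447 = n14510 := d3_1 D24447 (iv6 D14510) (iv2 F19429)
theorem F38357 : act 5 n24447 = n14536 := d12_1 D24447 (iv6 D14536) (iv5 D6948) D6949 F19424
def n24448 : Q := act 0 n11549
theorem D24448 : act 0 n11549 = n24448 := rfl
def n24449 : Q := act 1 n11549
theorem D24449 : act 1 n11549 = n24449 := rfl
theorem F38358 : act 1 n24449 = n24428 := d15_1 D24449 (iv7 D24428) (iv2 F18853)
theorem F38359 : act 4 n24449 = n24350 := d18_7 F18749 (iv4 F19530) (iv1 D11534) F8198 D5378 D11549 D24449 F38169 F23752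
def n24450 : Q := act 3 n11549
theorem D24450 : act 3 n11549 = n24450 := rfl
def n24451 : Q := act 5 n11549
theorem D24451 : act 5 n11549 = n24451 := rfl
theorem F38360 : act 2 n24451 = n24427 := d2_1 D24451 (iv5 D24427) (iv2 F18853)
def n24452 : Q := act 7 n11549
theorem D24452 : act 7 n11549 = n24452 := rfl
theorem F38361 : act 2 n24452 = n24428 := d4_1 D24452 (iv7 D24428) (iv2 F18853)
theorem F38362 : act 4 n24452 = n11550 := d11_1 D24452 (iv7 D11550) D11549
theorem F38363 : act 1 n24428 = n24448 := d15_0 (iv0 D24448) D24452 F38361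
theorem F38364 : act 1 n24425 = n24452 := d15_1 D24425 (iv7 D24452) F18853
theorem F38365 : act 1 n24452 = n24424 := d15_0 (iv0 D24424) D24428 (iv2 F38361)
theorem F38366 : act 4 n24424 = n14220 := d18_7 D6767 F19517 (iv1 F18849) F18845 (iv5 F18855) (iv4 F38362) F38365 (iv0 D14220) (iv5 D6769)
theorem F38367 : act 3 n14220 = n24329 := d20_3 D11527 D24424 F38366 (iv1 F38123) F18752 (iv4 F18787) (iv1 F18789) (iv4 D6931) D6930 F19436
theorem F38368 : act 7 n24350 = n14220 := d8_0 F38367 F38122 D24350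
theorem F38369 : act 7 n24424 = n24449 := d11_2 F38368 (iv4 F38366) F38359
theorem F38370 : act 2 n24449 = n24425 := d15_3 F38364 F38365 F38369
theorem F38371 : act 2 n24424 = n24448 := d15_3 (iv0 D24448) D24449 (iv7 F38369)
theorem F38372 : act 7 n24448 = n24425 := d4_2 (iv7 F38369) F38371 (iv2 F38370)
def n24453 : Q := act 6 n11550
theorem D24453 : act 6 n11550 = n24453 := rfl
theorem F38373 : act 2 n24453 = n24429 := d3_1 D24453 (iv6 D24429) (iv2 F18854)
theorem F38374 : act 5 n24453 = n24453 := d12_1 D24453 (iv6 D24453) F18855 F8202 (iv5 F18855)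
theorem F38375 : act 7 n24453 = n14595 := d14_2 D11550 D24453 (iv6 D14595) F11241 F11004
def n24454 : Q := act 5 n11552
theorem D24454 : act 5 n11552 = n24454 := rfl
theorem F38376 : act 2 n24454 = n12053 := d2_1 D24454 (iv5 D12053) (iv2 F18927)
theorem F38377 : act 3 n24454 = n11554 := d6_1 D24454 (iv5 D11554) D11552
theorem F38378 : act 7 n24454 = n11594 := d13_2 (iv7 F18928) D24454 (iv5 D11594)
theorem F38379 : act 0 n24454 = n24160 := d17_2 F18863 D24454 (iv5 D24160) F18527 (iv5 F11219) (iv0 F18505) (iv5 D11335) F10115 (iv4 F8811)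
def n24455 : Q := act 6 n11552
theorem D24455 : act 6 n11552 = n24455 := rfl
theorem F38380 : act 2 n24455 = n12054 := d3_1 D24455 (iv6 D12054) (iv2 F18927)
theorem F38381 : act 3 n24455 = n11555 := d7_1 D24455 (iv6 D11555) D11552
theorem F38382 : act 4 n24455 = n13476 := d10_1 D24455 (iv6 D13476) (iv4 F18861)
theorem F38383 : act 5 n24455 = n14338 := d21_6 F4827 F5446 F5444 D5708 F18863 D24455 (iv1 D14338) (iv5 D6849) (iv6 D3092) D3091
theorem E4756 : n14338 = n14177 := (c6_1 F38383 (iv3 D14177) (iv5 F18865) (iv3 F38381))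
theorem F38384 : act 0 n14177 = n6849 := (sb E4756 (iv1 D14338))
theorem F38385 : act 5 n14177 = n24455 := (sb E4756 (iv5 F38383))
theorem F38386 : act 0 n24455 = n14054 := d20_7 F8969 (iv1 F7620) (iv4 F8665) (iv3 F19781) F22625 (iv3 F22616) (iv4 F38382) F23453 F10896 (iv1 F8973)
def n24456 : Q := act 5 n11553
theorem D24456 : act 5 n11553 = n24456 := rfl
theorem F38387 : act 2 n24456 = n11577 := d2_1 D24456 (iv5 D11577) (iv2 F18929)
theorem F38388 : act 3 n24456 = n13478 := d6_1 D24456 (iv5 D13478) F18860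
theorem F38389 : act 7 n24456 = n11597 := d13_2 (iv7 F18930) D24456 (iv5 D11597)
theorem F38390 : act 0 n24456 = n14785 := d18_0 F24442 (iv1 D14618) (iv4 D6983) (iv5 D3157) D3156 D6978 (iv4 F11287) (iv0 F18862) D24456
theorem F38391 : act 1 n23801 = n14785 := d15_0 (iv0 F38390) F38389 (iv2 F37113)
def n24457 : Q := act 6 n11553
theorem D24457 : act 6 n11553 = n24457 := rfl
theorem F38392 : act 2 n24457 = n11578 := d3_1 D24457 (iv6 D11578) (iv2 F18929)
theorem F38393 : act 3 n24457 = n13479 := d7_1 D24457 (iv6 D13479) F18860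
theorem F38394 : act 4 n24457 = n11555 := d10_1 D24457 (iv6 D11555) D11553
def n24458 : Q := act 1 n11554
theorem D24458 : act 1 n11554 = n24458 := rfl
theorem F38395 : act 1 n24458 = n11557 := d15_1 D24458 F18922 (iv2 F18931)
theorem F38396 : act 7 n24458 = n11580 := d15_2 (iv0 F19600) D24458 (iv2 F19595)
theorem F38397 : act 2 n11581 = n24458 := d4_3 F38396 (iv2 F19595) (iv7 F19599)
def n24459 : Q := act 4 n11554
theorem D24459 : act 4 n11554 = n24459 := rfl
theorem F38398 : act 2 n24459 = n11582 := d1_1 D24459 (iv4 D11582) (iv2 F18931)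
theorem F38399 : act 7 n24459 = n11599 := d11_2 (iv7 F18932) D24459 (iv4 D11599)
def n24460 : Q := act 6 n11554
theorem D24460 : act 6 n11554 = n24460 := rfl
theorem F38400 : act 2 n24460 = n11583 := d3_1 D24460 (iv6 D11583) (iv2 F18931)
theorem F38401 : act 5 n24460 = n14179 := d12_1 D24460 (iv6 D14179) (iv5 F18865) (iv6 D11555) D11554
def n24461 : Q := act 4 n11557
theorem D24461 : act 4 n11557 = n24461 := rfl
theorem F38402 : act 2 n24461 = n11599 := d1_1 D24461 (iv4 D11599) (iv2 F18921)
theorem F38403 : act 7 n24461 = n11582 := d11_2 (iv7 F18922) D24461 (iv4 D11582)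
def n24462 : Q := act 6 n11557
theorem D24462 : act 6 n11557 = n24462 := rfl
theorem F38404 : act 2 n24462 = n11600 := d3_1 D24462 (iv6 D11600) (iv2 F18921)
theorem F38405 : act 5 n24462 = n14541 := d12_1 D24462 (iv6 D14541) F19438 (iv6 D11558) D11557
def n24463 : Q := act 3 n11559
theorem D24463 : act 3 n11559 = n24463 := rfl
theorem F38406 : act 7 n24463 = n11611 := d8_2 (iv7 F22927) D24463 (iv3 D11611)
theorem F38407 : act 2 n24463 = n12055 := d15_3 (iv0 D12055) (iv0 F38138) (iv7 F38406)
theorem F38408 : act 3 n12055 = n23708 := d0_2 D24463 F38407 (iv2 F36861) (iv3 D11606) (iv2 F22926)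
theorem F38409 : act 5 n24158 = n12055 := d6_0 F38408 (iv5 F36865) (iv3 F37959)
def n24464 : Q := act 4 n11559
theorem D24464 : act 4 n11559 = n24464 := rfl
theorem F38410 : act 2 n24464 = n11607 := d1_1 D24464 (iv4 D11607) (iv2 F22926)
theorem F38411 : act 7 n24464 = n11612 := d11_2 (iv7 F22927) D24464 (iv4 D11612)
def n24465 : Q := act 6 n11559
theorem D24465 : act 6 n11559 = n24465 := rfl
theorem F38412 : act 2 n24465 = n11609 := d3_1 D24465 (iv6 D11609) (iv2 F22926)
theorem F38413 : act 5 n24465 = n14623 := d12_1 D24465 (iv6 F24301) (iv5 D14557) D14558 (iv5 F24217)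
def n24466 : Q := act 4 n11560
theorem D24466 : act 4 n11560 = n24466 := rfl
theorem F38414 : act 2 n24466 = n11612 := d1_1 D24466 (iv4 D11612) (iv2 F22923)
theorem F38415 : act 7 n24466 = n11607 := d11_2 (iv7 F22924) D24466 (iv4 D11607)
def n24467 : Q := act 6 n11560
theorem D24467 : act 6 n11560 = n24467 := rfl
theorem F38416 : act 2 n24467 = n11614 := d3_1 D24467 (iv6 D11614) (iv2 F22923)
theorem F38417 : act 5 n24467 = n14164 := d12_1 D24467 (iv6 D14164) (iv5 D6739) D6740 F18868
def n24468 : Q := act 0 n11561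
theorem D24468 : act 0 n11561 = n24468 := rfl
theorem F38418 : act 4 n24468 = n13412 := d18_3 (iv1 D11560) D11561 D24468 (iv5 F24597) F24596 (iv0 D11872) (iv4 F19312) F19774 F18868
theorem F38419 : act 7 n11616 = n24468 := d11_0 F38418 (iv7 F37367) F37368
theorem F38420 : act 1 n11619 = n24468 := d18_6 (iv1 F19396) F8825 (iv1 F10169) F7795 (iv5 F8216) (iv4 F18958) F38418 F24599 (iv5 D14214)
theorem F38421 : act 2 n24468 = n11615 := d15_3 (iv0 D11615) D11616 F38419
def n24469 : Q := act 1 n11561
theorem D24469 : act 1 n11561 = n24469 := rfl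
theorem F38422 : act 1 n24469 = n11619 := d15_1 D24469 (iv7 D11619) (iv2 F18869)
theorem F38423 : act 7 n24469 = n11615 := d15_2 (iv0 D24468) D24469 (iv2 F38421)
theorem F38424 : act 2 n11616 = n24469 := d4_3 F38423 (iv2 F38421) (iv7 F38419)
def n24470 : Q := act 3 n11561
theorem D24470 : act 3 n11561 = n24470 := rfl
def n24471 : Q := act 5 n11561
theorem D24471 : act 5 n11561 = n24471 := rfl
theorem F38425 : act 2 n24471 = n11618 := d2_1 D24471 (iv5 D11618) (iv2 F18869)
def n24472 : Q := act 7 n11561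
theorem D24472 : act 7 n11561 = n24472 := rfl
theorem F38426 : act 2 n24472 = n11619 := d4_1 D24472 (iv7 D11619) (iv2 F18869)
theorem F38427 : act 4 n24472 = n11562 := d11_1 D24472 (iv7 D11562) D11561
theorem F38428 : act 1 n11616 = n24472 := d15_1 D11616 (iv7 D24472) F18869
theorem F38429 : act 1 n24472 = n11615 := d15_1 F38428 (iv7 F38423) (iv2 F38424)
def n24473 : Q := act 6 n11562
theorem D24473 : act 6 n11562 = n24473 := rfl
theorem F38430 : act 2 n24473 = n11620 := d3_1 D24473 (iv6 D11620) (iv2 F18870)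
theorem F38431 : act 5 n24473 = n24473 := d12_1 D24473 (iv6 D24473) F18871 F8209 (iv5 F18871)
def n24474 : Q := act 1 n11572
theorem D24474 : act 1 n11572 = n24474 := rfl
theorem F38432 : act 1 n24474 = n12067 := d15_1 D24474 (iv7 F22569) F22202
def n24475 : Q := act 4 n11572
theorem D24475 : act 4 n11572 = n24475 := rfl
def n24476 : Q := act 6 n11572
theorem D24476 : act 6 n11572 = n24476 := rfl
theorem F38433 : act 3 n24476 = n11583 := d7_1 D24476 (iv6 D11583) (iv3 F18883)
def n24477 : Q := act 0 n11573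
theorem D24477 : act 0 n11573 = n24477 := rfl
def n24478 : Q := act 1 n11573
theorem D24478 : act 1 n11573 = n24478 := rfl
def n24479 : Q := act 5 n11575
theorem D24479 : act 5 n11575 = n24479 := rfl
theorem F38434 : act 2 n24479 = n14776 := d2_1 D24479 (iv5 D14776) F19395
theorem F38435 : act 7 n24479 = n24412 := d13_2 (iv7 F19416) D24479 (iv5 D24412)
def n24480 : Q := act 0 n11577
theorem D24480 : act 0 n11577 = n24480 := rfl
theorem F38436 : act 1 n11597 = n24480 := d15_0 (iv0 D24480) (iv7 F37115) F37113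
def n24481 : Q := act 1 n11577
theorem D24481 : act 1 n11577 = n24481 := rfl
theorem F38437 : act 1 n24481 = n11597 := d15_1 D24481 (iv7 F38389) F38387
def n24482 : Q := act 4 n11577
theorem D24482 : act 4 n11577 = n24482 := rfl
theorem F38438 : act 1 n24482 = n14612 := d18_6 F10154 F3519 D2216 D5386 D11577 D24482 (iv4 D14612) (iv0 D6981) (iv5 D3157)
def n24483 : Q := act 6 n11577
theorem D24483 : act 6 n11577 = n24483 := rfl
def n24484 : Q := act 1 n11578
theorem D24484 : act 1 n11578 = n24484 := rfl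
theorem F38439 : act 7 n24484 = n14800 := d15_2 (iv0 F38328) D24484 (iv2 F38326)
theorem F38440 : act 3 n14783 = n24484 := d8_3 F38439 (iv3 D14800) F24439
def n24485 : Q := act 7 n11578
theorem D24485 : act 7 n11578 = n24485 := rfl
theorem F38441 : act 3 n24485 = n14843 := d8_1 D24485 F24499 (iv3 F24311)
theorem F38442 : act 4 n24485 = n11588 := d11_1 D24485 (iv7 D11588) (iv4 F18888)
theorem F38443 : act 0 n14800 = n24485 := d20_10 F38442 (iv1 F38352) F38349 F24017 (iv1 D14376) (iv3 F23998) F23999 (iv1 F24461) (iv4 D14801) D14800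
def n24486 : Q := act 4 n11580
theorem D24486 : act 4 n11580 = n24486 := rfl
theorem F38444 : act 0 n24486 = n14606 := d18_2 D11580 D24486 (iv4 D14606) (iv5 D6979) (iv4 D3156) D3154 (iv4 F10159) F8212 D5387
def n24487 : Q := act 6 n11580
theorem D24487 : act 6 n11580 = n24487 := rfl
def n24488 : Q := act 4 n11581
theorem D24488 : act 4 n11581 = n24488 := rfl
theorem F38445 : act 0 n14606 = n24488 := d20_7 D5405 (iv1 F11443) (iv4 D7122) (iv3 F11433) F11434 (iv3 F11246) D14606 (iv4 D24488) F19598 (iv1 D5404)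
theorem F38446 : act 1 n14933 = n11798 := d18_8 (iv1 D14605) D14606 F38445 (iv4 D24488) (iv5 F19770) (iv4 F24287) (iv0 F24292) (iv4 F24596) (iv5 F37740)
def n24489 : Q := act 6 n11581
theorem D24489 : act 6 n11581 = n24489 := rfl
theorem F38447 : act 3 n24489 = n11637 := d7_1 D24489 (iv6 D11637) (iv3 F19598)
theorem F38448 : act 5 n24489 = n16536 := d12_1 D24489 (iv6 D16536) F11932 (iv6 F19771) F19770
def n24490 : Q := act 0 n11582
theorem D24490 : act 0 n11582 = n24490 := rfl
theorem F38449 : act 1 n11599 = n24490 := d15_0 (iv0 D24490) (iv7 F38403) F38402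
def n24491 : Q := act 1 n11582
theorem D24491 : act 1 n11582 = n24491 := rfl
theorem F38450 : act 1 n24491 = n11599 := d15_1 D24491 (iv7 F38399) F38398
def n24492 : Q := act 3 n11582
theorem D24492 : act 3 n11582 = n24492 := rfl
def n24493 : Q := act 5 n11582
theorem D24493 : act 5 n11582 = n24493 := rfl
def n24494 : Q := act 6 n11582
theorem D24494 : act 6 n11582 = n24494 := rfl
theorem F38451 : act 4 n24494 = n11583 := d10_1 D24494 (iv6 D11583) D11582
def n24495 : Q := act 0 n11583
theorem D24495 : act 0 n11583 = n24495 := rfl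
def n24496 : Q := act 1 n11583
theorem D24496 : act 1 n11583 = n24496 := rfl
def n24497 : Q := act 5 n11583
theorem D24497 : act 5 n11583 = n24497 := rfl
theorem F38452 : act 2 n24497 = n14179 := d2_1 D24497 (iv5 F38401) F38400
theorem F38453 : act 6 n24497 = n11587 := d12_2 D11583 D24497 (iv5 D11587) (iv6 D5388) D5387
def n24498 : Q := act 7 n11583
theorem D24498 : act 7 n11583 = n24498 := rfl
def n24499 : Q := act 4 n11587
theorem D24499 : act 4 n11587 = n24499 := rfl
theorem F38454 : act 2 n24499 = n14178 := d1_1 D24499 (iv4 D14178) (iv2 F18936)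
theorem F38455 : act 7 n24499 = n14175 := d11_2 F23659 D24499 (iv4 D14175)
def n24500 : Q := act 5 n11591
theorem D24500 : act 5 n11591 = n24500 := rfl
theorem F38456 : act 2 n24500 = n12058 := d2_1 D24500 F19974 F18912
theorem F38457 : act 3 n24500 = n11621 := d6_1 D24500 (iv5 D11621) (iv3 F18913)
theorem F38458 : act 7 n24500 = n12047 := d13_2 (iv7 F18907) D24500 (iv5 D12047)
theorem F38459 : act 1 n24500 = n12055 := d17_6 D11921 (iv5 F19655) (iv1 F20298) F20296 F18905 D24500 (iv5 F38409) (iv0 D24158) F18527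
theorem F38460 : act 1 n11611 = n24500 := d15_1 (iv0 F38138) F38458 F19961
def n24501 : Q := act 5 n11592
theorem D24501 : act 5 n11592 = n24501 := rfl
theorem F38461 : act 2 n24501 = n11594 := d2_1 D24501 (iv5 D11594) D11592
theorem F38462 : act 3 n24501 = n12067 := d6_1 D24501 (iv5 D12067) (iv3 F22463)
theorem F38463 : act 7 n24501 = n12053 := d13_2 F18910 D24501 (iv5 D12053)
theorem F38464 : act 1 n24501 = n24160 := d15_0 (iv0 F38379) F38378 (iv2 F38461)
def n24502 : Q := act 6 n11592
theorem D24502 : act 6 n11592 = n24502 := rfl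
theorem F38465 : act 2 n24502 = n11595 := d3_1 D24502 (iv6 D11595) D11592
theorem F38466 : act 3 n24502 = n12068 := d7_1 D24502 (iv6 D12068) (iv3 F22463)
theorem F38467 : act 0 n11830 = n24502 := d20_4 (iv4 D11704) (iv1 F8270) D5544 D11830 F38466 F22566 (iv1 F24654) F24651 F24650 (iv1 F19038)
def n24503 : Q := act 5 n11593
theorem D24503 : act 5 n11593 = n24503 := rfl
theorem F38468 : act 3 n24503 = n13470 := d6_1 D24503 (iv5 D13470) (iv3 F18903)
theorem F38469 : act 7 n24503 = n13475 := d13_2 F18940 D24503 (iv5 D13475)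
def n24504 : Q := act 6 n11593
theorem D24504 : act 6 n11593 = n24504 := rfl
theorem F38470 : act 3 n24504 = n11764 := d7_1 D24504 F22577 (iv3 F18903)
theorem F38471 : act 4 n24504 = n11595 := d10_1 D24504 (iv6 D11595) D11593
theorem F38472 : act 0 n24250 = n24504 := d20_10 F38471 F38287 F22275 (iv3 D6362) (iv1 F4994) (iv3 F11251) (iv4 F24281) (iv1 F24282) (iv4 F38285) F38284
def n24505 : Q := act 0 n11594
theorem D24505 : act 0 n11594 = n24505 := rfl
theorem F38473 : act 5 n24505 = n24161 := d17_3 (iv1 D11591) D11594 D24505 F37875 (iv5 F20314) F20312 (iv5 D5814) F8940 F18905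
theorem F38474 : act 1 n12053 = n24505 := d15_0 (iv0 D24505) (iv7 F38378) F38376
theorem F38475 : act 3 n12073 = n24505 := d6_3 F38473 F37874 (iv5 F19981)
theorem F38476 : act 7 n24160 = n24505 := d13_0 F38473 (iv7 D24161) D24160
def n24506 : Q := act 1 n11594
theorem D24506 : act 1 n11594 = n24506 := rfl
theorem F38477 : act 1 n24506 = n12053 := d15_1 D24506 (iv7 F38463) F38461
theorem F38478 : act 2 n24160 = n24506 := d15_3 F38477 F38474 (iv7 F38476)
theorem F38479 : act 5 n24153 = n24506 := d17_5 D2428 D5809 D12251 F20304 (iv4 F37863) F38477 (iv5 D12053) (iv0 D5710) F3787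
theorem F38480 : act 3 n24506 = n11628 := d6_1 F38479 (iv5 F20284) (iv3 F37862)
def n24507 : Q := act 4 n11594
theorem D24507 : act 4 n11594 = n24507 := rfl
def n24508 : Q := act 6 n11594
theorem D24508 : act 6 n11594 = n24508 := rfl
theorem F38481 : act 3 n24508 = n11600 := d7_1 D24508 (iv6 D11600) (iv3 F18899)
def n24509 : Q := act 7 n11595
theorem D24509 : act 7 n11595 = n24509 := rfl
theorem F38482 : act 3 n24509 = n11604 := d8_1 D24509 (iv7 D11604) (iv3 F18900)
theorem F38483 : act 5 n24509 = n14542 := d13_1 D24509 (iv7 F37870) F37867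
theorem F38484 : act 1 n11830 = n24509 := d15_1 (iv0 F38467) (iv7 D24509) (iv2 F38465)
def n24510 : Q := act 5 n11596
theorem D24510 : act 5 n11596 = n24510 := rfl
theorem F38485 : act 2 n24510 = n13488 := d2_1 D24510 (iv5 D13488) F18948
theorem F38486 : act 3 n24510 = n11597 := d6_1 D24510 (iv5 D11597) D11596
theorem F38487 : act 7 n24510 = n13478 := d13_2 (iv7 F18937) D24510 (iv5 D13478)
theorem F38488 : act 1 n24510 = n14922 := d17_6 (iv1 D11758) (iv5 F11304) F22603 (iv5 D13470) F18901 D24510 F24581 (iv0 F38023) F38021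
def n24511 : Q := act 6 n11596
theorem D24511 : act 6 n11596 = n24511 := rfl
theorem F38489 : act 2 n24511 = n13489 := d3_1 D24511 (iv6 D13489) F18948
theorem F38490 : act 3 n24511 = n11598 := d7_1 D24511 (iv6 D11598) D11596
theorem F38491 : act 4 n24511 = n11764 := d10_1 D24511 F22577 F18901
theorem F38492 : act 0 n14934 = n24511 := d20_10 F38491 (iv1 F19778) (iv4 F22360) F22359 (iv1 F22288) F20325 F19805 (iv1 F8696) F11429 D14934
def n24512 : Q := act 4 n11597
theorem D24512 : act 4 n11597 = n24512 := rfl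
theorem F38493 : act 1 n24512 = n14615 := d18_6 F10150 (iv4 F10159) (iv1 F8211) D5391 D11597 D24512 (iv4 D14615) F18486 (iv5 D11316)
theorem F38494 : act 0 n24512 = n14612 := d20_7 D11339 (iv1 F24584) (iv4 D14923) D14922 (iv1 F38488) F38486 D24512 (iv4 D14612) (iv3 F20340) (iv1 D11338)
def n24513 : Q := act 6 n11597
theorem D24513 : act 6 n11597 = n24513 := rfl
def n24514 : Q := act 0 n11598
theorem D24514 : act 0 n11598 = n24514 := rfl
def n24515 : Q := act 5 n11598
theorem D24515 : act 5 n11598 = n24515 := rfl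
def n24516 : Q := act 7 n11598
theorem D24516 : act 7 n11598 = n24516 := rfl
theorem F38495 : act 4 n24516 = n11604 := d11_1 D24516 (iv7 D11604) (iv4 F18953)
def n24517 : Q := act 3 n11599
theorem D24517 : act 3 n11599 = n24517 := rfl
def n24518 : Q := act 5 n11599
theorem D24518 : act 5 n11599 = n24518 := rfl
def n24519 : Q := act 6 n11599
theorem D24519 : act 6 n11599 = n24519 := rfl
theorem F38496 : act 4 n24519 = n11600 := d10_1 D24519 (iv6 D11600) D11599
def n24520 : Q := act 0 n11600
theorem D24520 : act 0 n11600 = n24520 := rfl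
def n24521 : Q := act 1 n11600
theorem D24521 : act 1 n11600 = n24521 := rfl
def n24522 : Q := act 5 n11600
theorem D24522 : act 5 n11600 = n24522 := rfl
theorem F38497 : act 2 n24522 = n14541 := d2_1 D24522 (iv5 F38405) F38404
theorem F38498 : act 6 n24522 = n11603 := d12_2 D11600 D24522 (iv5 D11603) (iv6 D5393) D5392
def n24523 : Q := act 7 n11600
theorem D24523 : act 7 n11600 = n24523 := rfl
def n24524 : Q := act 4 n11603
theorem D24524 : act 4 n11603 = n24524 := rfl
theorem F38499 : act 2 n24524 = n14540 := d1_1 D24524 (iv4 D14540) (iv2 F19439)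
theorem F38500 : act 7 n24524 = n14543 := d11_2 F19442 D24524 (iv4 D14543)
def n24525 : Q := act 4 n11606
theorem D24525 : act 4 n11606 = n24525 := rfl
theorem F38501 : act 2 n24525 = n13365 := d1_1 D24525 (iv4 F36868) (iv2 F36861)
theorem F38502 : act 7 n24525 = n13366 := d11_2 (iv7 F36859) D24525 (iv4 F36860)
theorem F38503 : act 0 n24525 = n13369 := d18_2 (iv1 F36863) D24525 F22238 F9866 F4259 F9858 (iv4 F9860) F22454 D5716
theorem F38504 : act 0 n13334 = n24525 := d20_7 (iv4 F38427) (iv1 F38428) (iv4 F37368) (iv3 D23942) (iv1 D11218) (iv3 F9852) D13334 (iv4 D24525) (iv3 D11606) (iv1 F18874)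
def n24526 : Q := act 5 n11606
theorem D24526 : act 5 n11606 = n24526 := rfl
theorem F38505 : act 2 n24526 = n14401 := d2_1 D24526 F36865 (iv2 F36861)
theorem F38506 : act 3 n24526 = n11608 := d6_1 D24526 (iv5 D11608) D11606
theorem F38507 : act 7 n24526 = n14158 := d13_2 (iv7 F36859) D24526 F36856
theorem F38508 : act 4 n24526 = n14806 := d17_4 (iv1 D5715) D5716 (iv1 F36863) D24526 (iv5 F24468) (iv0 D13332) (iv5 D6323) D6322 F22464
theorem F38509 : act 1 n24526 = n14396 := d17_8 D14401 F36865 (iv1 F36864) F19978 (iv4 F17991) (iv5 F36874) F36876 D24526 F24043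
theorem F38510 : act 6 n24526 = n14804 := d21_9 (iv5 F26099) (iv1 F26100) (iv5 D11245) (iv6 D5172) F3481 D2391 D5716 (iv1 F36863) D24526 F24459
theorem F38511 : act 0 n24526 = n14404 := d21_4 D11329 (iv1 F37778) (iv5 F37779) (iv6 F38510) (iv6 F37806) (iv5 D24125) (iv1 F37498) F37491 F18288 (iv1 F18290)
def n24527 : Q := act 6 n11606
theorem D24527 : act 6 n11606 = n24527 := rfl
theorem F38512 : act 3 n24527 = n11609 := d7_1 D24527 (iv6 D11609) D11606
def n24528 : Q := act 0 n11607
theorem D24528 : act 0 n11607 = n24528 := rfl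
theorem F38513 : act 1 n11612 = n24528 := d15_0 (iv0 D24528) (iv7 F38415) F38414
def n24529 : Q := act 1 n11607
theorem D24529 : act 1 n11607 = n24529 := rfl
theorem F38514 : act 1 n24529 = n11612 := d15_1 D24529 (iv7 F38411) F38410
theorem F38515 : act 4 n14214 = n24529 := d18_5 (iv1 F8211) D5391 (iv1 F19399) (iv4 F11025) D14214 F38514 (iv4 D11612) F18873 F18871
def n24530 : Q := act 3 n11607
theorem D24530 : act 3 n11607 = n24530 := rfl
def n24531 : Q := act 5 n11607
theorem D24531 : act 5 n11607 = n24531 := rfl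
def n24532 : Q := act 6 n11607
theorem D24532 : act 6 n11607 = n24532 := rfl
theorem F38516 : act 4 n24532 = n11609 := d10_1 D24532 (iv6 D11609) D11607
def n24533 : Q := act 0 n11608
theorem D24533 : act 0 n11608 = n24533 := rfl
theorem F38517 : act 4 n24533 = n11874 := d18_1 D24533 (iv1 F19564) (iv4 F23226) (iv5 F37366) F37368 F38428 F38427 F18874 D11608
theorem F38518 : act 6 n24533 = n14539 := d21_5 D6923 D14492 (iv5 F24201) (iv6 F24181) D24533 F24187 (iv1 F18858) F18855 F8202 (iv1 F19450)
theorem F38519 : act 5 n24533 = n24458 := d21_0 (iv1 D24458) (iv5 D11554) D11555 F38346 (iv6 D6924) D6923 D14492 (iv5 F24201) (iv6 F24181) D24533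
theorem F38520 : act 2 n11975 = n24533 := d15_3 (iv0 D24533) (iv0 F19428) (iv7 F19772)
theorem F38521 : act 1 n11613 = n24533 := d15_0 (iv0 D24533) F22925 F22922
theorem F38522 : act 7 n24533 = n11869 := d15_2 (iv0 F24219) F38521 F19310
theorem F38523 : act 3 n14601 = n24533 := d8_3 F38522 F19311 D14601
def n24534 : Q := act 4 n11608
theorem D24534 : act 4 n11608 = n24534 := rfl
theorem F38524 : act 7 n24534 = n14161 := d11_2 (iv7 F22925) D24534 F23678
def n24535 : Q := act 0 n11609
theorem D24535 : act 0 n11609 = n24535 := rfl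
def n24536 : Q := act 1 n11609
theorem D24536 : act 1 n11609 = n24536 := rfl
def n24537 : Q := act 5 n11609
theorem D24537 : act 5 n11609 = n24537 := rfl
theorem F38525 : act 2 n24537 = n14623 := d2_1 D24537 (iv5 F38413) F38412
theorem F38526 : act 6 n24537 = n14492 := d12_2 D11609 D24537 (iv5 F24201) (iv6 F24181) (iv5 D11608)
theorem F38527 : act 0 n24537 = n14599 := d21_4 F11932 (iv1 F24180) F24201 (iv6 F38526) (iv6 D14599) (iv5 D6975) (iv1 F10171) D6759 F11004 (iv1 F19432)
theorem F38528 : act 1 n24537 = n14625 := d15_1 (iv0 F38527) (iv7 D14625) (iv2 F24257)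
def n24538 : Q := act 7 n11609
theorem D24538 : act 7 n11609 = n24538 := rfl
def n24539 : Q := act 2 n11611
theorem D24539 : act 2 n11611 = n24539 := rfl
theorem F38529 : act 3 n24539 = n12070 := d0_2 D11611 D24539 (iv2 F36857) F36858 F22923
theorem F38530 : act 5 n24539 = n14336 := d2_2 (iv5 F38139) D24539 F38135
theorem F38531 : act 7 n24539 = n12055 := d4_2 F38406 D24539 (iv2 F38407)
theorem F38532 : act 1 n12047 = n24539 := d17_6 (iv1 F19660) F20291 (iv1 D12246) (iv5 D5804) (iv4 F8811) D12047 F38530 F37876 F37875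
theorem F38533 : act 1 n24539 = n12058 := d15_1 F38532 (iv7 D12058) (iv2 F19961)
theorem F38534 : act 1 n24463 = n12047 := d15_0 F38532 F38531 (iv2 F38407)
theorem F38535 : act 1 n12058 = n24463 := d15_0 F38534 (iv7 F38458) F38456
def n24540 : Q := act 4 n11611
theorem D24540 : act 4 n11611 = n24540 := rfl
theorem F38536 : act 0 n24540 = n24241 := d18_2 (iv1 F38460) D24540 (iv4 D24241) (iv5 D11404) (iv4 F10579) F19352 (iv4 D11593) D11591 D24500
def n24541 : Q := act 6 n11611
theorem D24541 : act 6 n11611 = n24541 := rfl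
theorem F38537 : act 3 n24541 = n11614 := d7_1 D24541 (iv6 D11614) D11611
def n24542 : Q := act 3 n11612
theorem D24542 : act 3 n11612 = n24542 := rfl
def n24543 : Q := act 5 n11612
theorem D24543 : act 5 n11612 = n24543 := rfl
def n24544 : Q := act 6 n11612
theorem D24544 : act 6 n11612 = n24544 := rfl
theorem F38538 : act 4 n24544 = n11614 := d10_1 D24544 (iv6 D11614) D11612
def n24545 : Q := act 4 n11613
theorem D24545 : act 4 n11613 = n24545 := rfl
theorem F38539 : act 2 n24545 = n14161 := d1_1 D24545 F23678 F22922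
theorem F38540 : act 3 n24545 = n24336 := d5_1 D24545 F38148 (iv3 F38132) F38133 (iv3 F38136)
theorem F38541 : act 6 n24545 = n14151 := d10_2 (iv6 F18956) D24545 (iv4 D14151)
def n24546 : Q := act 0 n11614
theorem D24546 : act 0 n11614 = n24546 := rfl
def n24547 : Q := act 1 n11614
theorem D24547 : act 1 n11614 = n24547 := rfl
def n24548 : Q := act 5 n11614
theorem D24548 : act 5 n11614 = n24548 := rfl
theorem F38542 : act 2 n24548 = n14164 := d2_1 D24548 (iv5 F38417) F38416
theorem F38543 : act 6 n24548 = n14152 := d12_2 D11614 D24548 (iv5 D14152) (iv6 F18956) (iv5 D11613)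
def n24549 : Q := act 7 n11614
theorem D24549 : act 7 n11614 = n24549 := rfl
def n24550 : Q := act 3 n11615
theorem D24550 : act 3 n11615 = n24550 := rfl
def n24551 : Q := act 4 n11615
theorem D24551 : act 4 n11615 = n24551 := rfl
theorem F38544 : act 2 n24551 = n13412 := d1_1 D24551 (iv4 F38418) F38421
theorem F38545 : act 1 n24551 = n14213 := d18_8 F19390 (iv4 D11315) F10150 (iv4 F10159) (iv5 F18871) (iv4 F38427) F38429 D24551 (iv5 D14213)
def n24552 : Q := act 5 n11615
theorem D24552 : act 5 n11615 = n24552 := rfl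
theorem F38546 : act 4 n24552 = n14690 := d16_2 (iv4 D24551) D24552 (iv5 D14690) (iv4 D7012) F11194 (iv4 F23226) (iv5 F37366) F37367 (iv2 F38544)
def n24553 : Q := act 6 n11615
theorem D24553 : act 6 n11615 = n24553 := rfl
def n24554 : Q := act 3 n11616
theorem D24554 : act 3 n11616 = n24554 := rfl
def n24555 : Q := act 5 n11616
theorem D24555 : act 5 n11616 = n24555 := rfl
def n24556 : Q := act 6 n11616
theorem D24556 : act 6 n11616 = n24556 := rfl
def n24557 : Q := act 0 n11617
theorem D24557 : act 0 n11617 = n24557 := rfl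
def n24558 : Q := act 1 n11617
theorem D24558 : act 1 n11617 = n24558 := rfl
def n24559 : Q := act 2 n11617
theorem D24559 : act 2 n11617 = n24559 := rfl
theorem F38547 : act 4 n24559 = n11698 := d1_2 (iv4 F18957) D24559 (iv2 D11698)
def n24560 : Q := act 5 n11617
theorem D24560 : act 5 n11617 = n24560 := rfl
theorem F38548 : act 3 n24560 = n11618 := d6_1 D24560 (iv5 D11618) D11617
def n24561 : Q := act 7 n11617
theorem D24561 : act 7 n11617 = n24561 := rfl
theorem F38549 : act 3 n24561 = n11619 := d8_1 D24561 (iv7 D11619) D11617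
theorem F38550 : act 4 n24561 = n11700 := d11_1 D24561 (iv7 D11700) (iv4 F18957)
def n24562 : Q := act 0 n11618
theorem D24562 : act 0 n11618 = n24562 := rfl
def n24563 : Q := act 1 n11618
theorem D24563 : act 1 n11618 = n24563 := rfl
theorem F38551 : act 5 n24563 = n14606 := d17_7 (iv1 F18895) (iv5 D5392) (iv1 D2217) D2218 D5396 D11618 D24563 (iv0 F38444) (iv4 D24486)
def n24564 : Q := act 4 n11618
theorem D24564 : act 4 n11618 = n24564 := rfl
theorem F38552 : act 5 n24564 = n14594 := d16_3 D5396 D11618 D24564 (iv4 D14594) (iv5 D6973) (iv4 F10159) (iv5 F18871) (iv7 D11562) F8207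
def n24565 : Q := act 6 n11618
theorem D24565 : act 6 n11618 = n24565 := rfl
def n24566 : Q := act 7 n11618
theorem D24566 : act 7 n11618 = n24566 := rfl
theorem F38553 : act 5 n24566 = n11619 := d13_1 D24566 (iv7 D11619) D11618
def n24567 : Q := act 6 n11619
theorem D24567 : act 6 n11619 = n24567 := rfl
theorem F38554 : act 4 n24567 = n11620 := d10_1 D24567 (iv6 D11620) (iv4 F18958)
def n24568 : Q := act 0 n11620
theorem D24568 : act 0 n11620 = n24568 := rfl
def n24569 : Q := act 1 n11620
theorem D24569 : act 1 n11620 = n24569 := rfl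
def n24570 : Q := act 4 n11621
theorem D24570 : act 4 n11621 = n24570 := rfl
theorem F38555 : act 7 n24570 = n14332 := d11_2 (iv7 F18961) D24570 (iv4 D14332)
def n24571 : Q := act 6 n11621
theorem D24571 : act 6 n11621 = n24571 := rfl
theorem F38556 : act 5 n24571 = n24571 := d12_1 D24571 (iv6 D24571) (iv5 D11621) F10167 D11621
def n24572 : Q := act 4 n11622
theorem D24572 : act 4 n11622 = n24572 := rfl
theorem F38557 : act 2 n24572 = n11630 := d1_1 D24572 (iv4 D11630) (iv2 F18962)
def n24573 : Q := act 6 n11622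
theorem D24573 : act 6 n11622 = n24573 := rfl
theorem F38558 : act 2 n24573 = n11631 := d3_1 D24573 (iv6 D11631) (iv2 F18962)
def n24574 : Q := act 1 n11623
theorem D24574 : act 1 n11623 = n24574 := rfl
theorem F38559 : act 1 n24574 = n11634 := d15_1 D24574 (iv7 D11634) (iv2 F18963)
theorem F38560 : act 7 n24574 = n11632 := d15_2 (iv0 F20320) D24574 (iv2 F18974)
theorem F38561 : act 4 n24574 = n14844 := d17_9 (iv1 F24506) F24314 (iv1 D11420) (iv5 D5306) (iv4 F3822) D5800 D12241 (iv5 F20258) D24574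
theorem F38562 : act 6 n11921 = n24574 := d21_3 D2430 D5816 F19655 (iv1 D24574) (iv6 D11623) D11622 (iv1 F19640) F19641 (iv6 D5815) (iv1 D2429)
theorem F38563 : act 2 n24574 = n11633 := d3_1 F38562 F19041 F19648
theorem F38564 : act 5 n24574 = n14068 := d21_6 (iv5 F19641) (iv1 D11918) (iv5 D5592) D5593 D11921 F38562 (iv1 F23491) (iv5 D12233) D12234 F22282
def n24575 : Q := act 7 n11623
theorem D24575 : act 7 n11623 = n24575 := rfl
theorem F38565 : act 2 n24575 = n11634 := d4_1 D24575 (iv7 D11634) (iv2 F18963)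
theorem F38566 : act 3 n24575 = n14279 := d8_1 D24575 F23834 F19587
theorem F38567 : act 5 n24575 = n12235 := d13_1 D24575 F20260 (iv5 F20258)
theorem F38568 : act 1 n11633 = n24575 := d15_1 D11633 (iv7 D24575) F18963
theorem F38569 : act 1 n24575 = n11632 := d15_1 F38568 (iv7 F38560) F38563
def n24576 : Q := act 5 n11624
theorem D24576 : act 5 n11624 = n24576 := rfl
theorem F38570 : act 2 n24576 = n24151 := d2_1 D24576 (iv5 D24151) (iv2 F19410)
theorem F38571 : act 3 n24576 = n14777 := d6_1 D24576 (iv5 D14777) (iv3 F18964)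
theorem F38572 : act 7 n24576 = n14334 := d13_2 (iv7 F19374) D24576 (iv5 D14334)
theorem F38573 : act 0 n24576 = n24177 := d17_2 D11624 D24576 F37889 F23960 (iv5 F20246) (iv0 F20249) (iv5 D11621) (iv0 D5398) D5401
theorem F38574 : act 0 n23993 = n24576 := d21_1 (iv5 F37500) (iv5 D24576) F19369 (iv1 F18965) D24153 F38479 (iv1 D24506) (iv5 D11594) D11595 F38287
def n24577 : Q := act 0 n11626
theorem D24577 : act 0 n11626 = n24577 := rfl
theorem F38575 : act 5 n24577 = n24502 := d21_2 D11626 D24577 (iv6 D24502) (iv1 F18952) (iv6 D5708) (iv5 F5444) (iv1 F5447) (iv5 F4747) D6726 F19317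
theorem F38576 : act 1 n24152 = n24577 := d15_0 (iv0 D24577) F18968 (iv2 F37858)
theorem F38577 : act 2 n24155 = n24577 := d2_3 F38575 F38465 (iv5 F37867)
theorem F38578 : act 7 n24577 = n24154 := d4_2 (iv7 F37870) F38577 (iv2 F37871)
theorem F38579 : act 1 n11626 = n14542 := d15_1 (iv0 D24577) (iv7 F37870) F38577
theorem F38580 : act 1 n14542 = n24152 := d15_1 F38579 F37860 F20299
def n24578 : Q := act 4 n11626
theorem D24578 : act 4 n11626 = n24578 := rfl
theorem F38581 : act 7 n24578 = n24156 := d11_2 (iv7 F18968) D24578 (iv4 D24156)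
theorem F38582 : act 1 n24578 = n14817 := d18_6 (iv1 D5097) (iv4 F4826) F10163 D5401 D11626 D24578 (iv4 D14817) (iv0 F20328) (iv5 D11158)
def n24579 : Q := act 6 n11626
theorem D24579 : act 6 n11626 = n24579 := rfl
theorem F38583 : act 3 n24579 = n13394 := d7_1 D24579 (iv6 D13394) (iv3 F18967)
def n24580 : Q := act 0 n11627
theorem D24580 : act 0 n11627 = n24580 := rfl
theorem F38584 : act 3 n24580 = n14801 := d20_5 (iv4 F18561) (iv1 D6360) (iv4 F9891) (iv3 F18969) D24580 (iv4 D14801) F24436 F24432 F24431 (iv1 F19193)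
theorem F38585 : act 2 n14166 = n24580 := d0_5 F38584 F24451 (iv3 F22966) F22968 (iv3 F23684)
theorem F38586 : act 6 n12230 = n24580 := d7_0 F38584 F24452 (iv3 F22523)
theorem F38587 : act 1 n11627 = n14555 := d15_1 (iv0 D24580) F24208 F38585
def n24581 : Q := act 5 n11627
theorem D24581 : act 5 n11627 = n24581 := rfl
theorem F38588 : act 2 n24581 = n24433 := d2_1 D24581 (iv5 F38316) F20301
theorem F38589 : act 3 n24581 = n12036 := d6_1 D24581 (iv5 F19924) (iv3 F18969)
theorem F38590 : act 1 n24581 = n24435 := d17_6 (iv1 F8932) (iv5 F20267) (iv1 F20268) F11037 (iv4 F18970) D24581 F38323 F19544 F11111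
theorem F38591 : act 0 n24581 = n12045 := d21_7 (iv5 F5444) (iv1 F5447) (iv5 F4747) D6726 F19317 D11627 D24581 (iv5 D12045) (iv6 D5707) (iv1 F3779)
theorem F38592 : act 1 n24435 = n14349 := d15_1 F38590 F38318 (iv2 F38588)
theorem F38593 : act 7 n24432 = n24581 := d8_0 F38589 (iv7 F19946) (iv3 F38321)
theorem F38594 : act 1 n14349 = n12045 := d15_0 (iv0 F38591) (iv7 F38593) (iv2 F38320)
def n24582 : Q := act 7 n11627
theorem D24582 : act 7 n11627 = n24582 := rfl
theorem F38595 : act 3 n24582 = n13396 := d8_1 D24582 (iv7 D13396) (iv3 F18969)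
theorem F38596 : act 4 n24582 = n11634 := d11_1 D24582 (iv7 D11634) (iv4 F18970)
theorem F38597 : act 5 n24582 = n24432 := d13_1 D24582 F38593 (iv5 D24581)
theorem F38598 : act 6 n24582 = n24161 := d14_1 D24582 (iv7 D24161) (iv6 D11348) (iv7 F8218) D11627
theorem F38599 : act 4 n24432 = n24263 := d18_5 (iv1 D13758) (iv4 F11112) F19902 (iv4 F38596) F38597 (iv0 D24263) (iv4 D11421) D11420 (iv5 F24314)
def n24583 : Q := act 4 n11628
theorem D24583 : act 4 n11628 = n24583 := rfl
def n24584 : Q := act 6 n11628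
theorem D24584 : act 6 n11628 = n24584 := rfl
def n24585 : Q := act 4 n11629
theorem D24585 : act 4 n11629 = n24585 := rfl
def n24586 : Q := act 6 n11629
theorem D24586 : act 6 n11629 = n24586 := rfl
theorem F38600 : act 0 n24586 = n11660 := d21_4 (iv5 F22285) (iv1 F22288) F20327 D24586 (iv6 D11660) (iv5 D5414) F22438 D7646 F11871 (iv1 F19011)
def n24587 : Q := act 0 n11630
theorem D24587 : act 0 n11630 = n24587 := rfl
def n24588 : Q := act 1 n11630
theorem D24588 : act 1 n11630 = n24588 := rfl
def n24589 : Q := act 3 n11630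
theorem D24589 : act 3 n11630 = n24589 := rfl
theorem F38601 : act 4 n24589 = n11639 := d5_2 D11630 D24589 (iv3 D11639) (iv4 D5405) (iv3 F8219)
def n24590 : Q := act 5 n11630
theorem D24590 : act 5 n11630 = n24590 := rfl
def n24591 : Q := act 6 n11630
theorem D24591 : act 6 n11630 = n24591 := rfl
theorem F38602 : act 4 n24591 = n11631 := d10_1 D24591 (iv6 D11631) D11630
def n24592 : Q := act 0 n11631
theorem D24592 : act 0 n11631 = n24592 := rfl
def n24593 : Q := act 1 n11631
theorem D24593 : act 1 n11631 = n24593 := rfl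
def n24594 : Q := act 7 n11631
theorem D24594 : act 7 n11631 = n24594 := rfl
theorem F38603 : act 3 n24594 = n11643 := d8_1 D24594 (iv7 D11643) (iv3 F18971)
def n24595 : Q := act 3 n11636
theorem D24595 : act 3 n11636 = n24595 := rfl
def n24596 : Q := act 6 n11636
theorem D24596 : act 6 n11636 = n24596 := rfl
theorem F38604 : act 4 n24596 = n11637 := d10_1 D24596 (iv6 D11637) D11636
theorem F38605 : act 0 n24596 = n11761 := d21_4 (iv5 F8708) (iv1 F19613) F19610 D24596 (iv6 D11761) F8381 F8250 (iv5 D5430) (iv6 F3678) D5604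
def n24597 : Q := act 3 n11638
theorem D24597 : act 3 n11638 = n24597 := rfl
def n24598 : Q := act 6 n11638
theorem D24598 : act 6 n11638 = n24598 := rfl
theorem F38606 : act 4 n24598 = n11967 := d10_1 D24598 (iv6 D11967) (iv4 F18983)
theorem F38607 : act 0 n24598 = n11666 := d21_4 F8555 (iv1 F19085) F19082 D24598 (iv6 D11666) (iv5 F8241) (iv1 F9872) (iv5 D6344) (iv6 F4326) (iv1 F8556)
def n24599 : Q := act 0 n11639
theorem D24599 : act 0 n11639 = n24599 := rfl
def n24600 : Q := act 1 n11639
theorem D24600 : act 1 n11639 = n24600 := rfl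
def n24601 : Q := act 2 n11639
theorem D24601 : act 2 n11639 = n24601 := rfl
def n24602 : Q := act 6 n11639
theorem D24602 : act 6 n11639 = n24602 := rfl
theorem F38608 : act 3 n24602 = n11640 := d7_1 D24602 (iv6 D11640) D11639
def n24603 : Q := act 0 n11640
theorem D24603 : act 0 n11640 = n24603 := rfl
def n24604 : Q := act 1 n11640
theorem D24604 : act 1 n11640 = n24604 := rfl
def n24605 : Q := act 5 n11640
theorem D24605 : act 5 n11640 = n24605 := rfl
def n24606 : Q := act 7 n11640
theorem D24606 : act 7 n11640 = n24606 := rfl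
theorem F38609 : act 4 n24606 = n11643 := d11_1 D24606 (iv7 D11643) (iv4 F18984)
def n24607 : Q := act 2 n11641
theorem D24607 : act 2 n11641 = n24607 := rfl
theorem F38610 : act 7 n11642 = n24607 := d15_2 (iv0 D11641) D11642 (iv2 D24607)
def n24608 : Q := act 3 n11641
theorem D24608 : act 3 n11641 = n24608 := rfl
def n24609 : Q := act 4 n11641
theorem D24609 : act 4 n11641 = n24609 := rfl
def n24610 : Q := act 7 n11641
theorem D24610 : act 7 n11641 = n24610 := rfl
theorem F38611 : act 2 n24610 = n11642 := d4_1 D24610 F38610 (iv2 D24607)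
def n24611 : Q := act 3 n11642
theorem D24611 : act 3 n11642 = n24611 := rfl
def n24612 : Q := act 4 n11642
theorem D24612 : act 4 n11642 = n24612 := rfl
def n24613 : Q := act 6 n11642
theorem D24613 : act 6 n11642 = n24613 := rfl
def n24614 : Q := act 5 n11652
theorem D24614 : act 5 n11652 = n24614 := rfl
theorem F38612 : act 3 n24614 = n11889 := d6_1 D24614 (iv5 D11889) F18995
theorem F38613 : act 7 n24614 = n16484 := d13_2 (iv7 F22565) D24614 (iv5 D16484)
theorem F38614 : act 0 n24614 = n11877 := d21_1 D24614 F23804 (iv6 D14263) (iv1 F11062) F11059 (iv5 F23826) (iv1 F23828) (iv5 F36881) (iv6 D23713) F18994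
theorem F38615 : act 1 n24614 = n23720 := d15_1 (iv0 F38614) F36910 F20000
def n24615 : Q := act 4 n11653
theorem D24615 : act 4 n11653 = n24615 := rfl
theorem F38616 : act 7 n24615 = n16486 := d11_2 F22573 D24615 (iv4 D16486)
def n24616 : Q := act 6 n11653
theorem D24616 : act 6 n11653 = n24616 := rfl
theorem F38617 : act 5 n24616 = n24616 := d12_1 D24616 (iv6 D24616) (iv5 D11653) F22448 D11653
def n24617 : Q := act 4 n11655
theorem D24617 : act 4 n11655 = n24617 := rfl
theorem F38618 : act 2 n24617 = n11659 := d1_1 D24617 (iv4 D11659) (iv2 F18997)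
def n24618 : Q := act 6 n11655
theorem D24618 : act 6 n11655 = n24618 := rfl
theorem F38619 : act 2 n24618 = n11660 := d3_1 D24618 (iv6 D11660) (iv2 F18997)
theorem F38620 : act 5 n24618 = n14380 := d12_1 D24618 (iv6 D14380) (iv5 F22549) (iv6 D11656) D11655
def n24619 : Q := act 3 n11657
theorem D24619 : act 3 n11657 = n24619 := rfl
theorem F38621 : act 5 n24619 = n14409 := d6_2 F22591 D24619 F24059
theorem F38622 : act 7 n24619 = n14408 := d8_2 (iv7 F22589) D24619 F24058
theorem F38623 : act 0 n12078 = n24619 := d17_2 F19575 D12078 F38621 F24060 (iv5 F22585) F19589 (iv5 D11655) F8494 D11888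
def n24620 : Q := act 4 n11657
theorem D24620 : act 4 n11657 = n24620 := rfl
def n24621 : Q := act 6 n11657
theorem D24621 : act 6 n11657 = n24621 := rfl
theorem F38624 : act 5 n24621 = n16506 := d12_1 D24621 (iv6 D16506) F22547 F22546 F22591
def n24622 : Q := act 0 n11659
theorem D24622 : act 0 n11659 = n24622 := rfl
def n24623 : Q := act 1 n11659
theorem D24623 : act 1 n11659 = n24623 := rfl
def n24624 : Q := act 3 n11659
theorem D24624 : act 3 n11659 = n24624 := rfl
theorem F38625 : act 4 n24624 = n11665 := d5_2 D11659 D24624 (iv3 D11665) (iv4 D5416) (iv3 F8230)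
def n24625 : Q := act 5 n11659
theorem D24625 : act 5 n11659 = n24625 := rfl
def n24626 : Q := act 6 n11659
theorem D24626 : act 6 n11659 = n24626 := rfl
theorem F38626 : act 4 n24626 = n11660 := d10_1 D24626 (iv6 D11660) D11659
def n24627 : Q := act 0 n11660
theorem D24627 : act 0 n11660 = n24627 := rfl
def n24628 : Q := act 5 n11660
theorem D24628 : act 5 n11660 = n24628 := rfl
theorem F38627 : act 2 n24628 = n14380 := d2_1 D24628 (iv5 F38620) F38619
theorem F38628 : act 3 n24628 = n11668 := d6_1 D24628 (iv5 D11668) (iv3 F18999)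
theorem F38629 : act 6 n24628 = n11663 := d12_2 D11660 D24628 (iv5 D11663) (iv6 D5415) D5414
def n24629 : Q := act 7 n11660
theorem D24629 : act 7 n11660 = n24629 := rfl
theorem F38630 : act 3 n24629 = n11669 := d8_1 D24629 (iv7 D11669) (iv3 F18999)
def n24630 : Q := act 4 n11663
theorem D24630 : act 4 n11663 = n24630 := rfl
theorem F38631 : act 2 n24630 = n14379 := d1_1 D24630 (iv4 D14379) F22550
theorem F38632 : act 7 n24630 = n14381 := d11_2 F22560 D24630 (iv4 D14381)
def n24631 : Q := act 0 n11665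
theorem D24631 : act 0 n11665 = n24631 := rfl
def n24632 : Q := act 1 n11665
theorem D24632 : act 1 n11665 = n24632 := rfl
def n24633 : Q := act 2 n11665
theorem D24633 : act 2 n11665 = n24633 := rfl
def n24634 : Q := act 6 n11665
theorem D24634 : act 6 n11665 = n24634 := rfl
theorem F38633 : act 3 n24634 = n11666 := d7_1 D24634 (iv6 D11666) D11665
def n24635 : Q := act 0 n11666
theorem D24635 : act 0 n11666 = n24635 := rfl
def n24636 : Q := act 5 n11666
theorem D24636 : act 5 n11666 = n24636 := rfl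
def n24637 : Q := act 7 n11666
theorem D24637 : act 7 n11666 = n24637 := rfl
theorem F38634 : act 4 n24637 = n11669 := d11_1 D24637 (iv7 D11669) (iv4 F19004)
def n24638 : Q := act 3 n11667
theorem D24638 : act 3 n11667 = n24638 := rfl
def n24639 : Q := act 4 n11667
theorem D24639 : act 4 n11667 = n24639 := rfl
def n24640 : Q := act 0 n11668
theorem D24640 : act 0 n11668 = n24640 := rfl
def n24641 : Q := act 1 n11668
theorem D24641 : act 1 n11668 = n24641 := rfl
theorem F38635 : act 1 n24641 = n14566 := d15_1 D24641 (iv7 D14566) (iv2 F19005)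
def n24642 : Q := act 4 n11668
theorem D24642 : act 4 n11668 = n24642 := rfl
theorem F38636 : act 2 n24642 = n14563 := d1_1 D24642 F24225 (iv2 F19005)
theorem F38637 : act 6 n24642 = n11670 := d10_2 (iv6 F19006) D24642 (iv4 D11670)
def n24643 : Q := act 7 n11668
theorem D24643 : act 7 n11668 = n24643 := rfl
theorem F38638 : act 2 n24643 = n14566 := d4_1 D24643 (iv7 D14566) (iv2 F19005)
theorem F38639 : act 5 n24643 = n11669 := d13_1 D24643 (iv7 D11669) D11668
theorem F38640 : act 6 n24643 = n14499 := d14_1 D24643 (iv7 F24146) (iv6 D6962) F8237 (iv6 F19006)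
theorem F38641 : act 1 n14566 = n24640 := d15_0 (iv0 D24640) D24643 F38638
theorem F38642 : act 1 n14565 = n24643 := d15_1 D14565 (iv7 D24643) F19005
theorem F38643 : act 0 n14564 = n24643 := d21_4 F11961 (iv1 F11963) D14774 (iv6 F24412) F38640 F24145 (iv1 F23775) (iv5 F24410) (iv6 D14770) (iv1 F11964)
def n24644 : Q := act 3 n11670
theorem D24644 : act 3 n11670 = n24644 := rfl
theorem F38644 : act 7 n24644 = n14567 := d8_2 (iv7 F19008) D24644 (iv3 D14567)
def n24645 : Q := act 4 n11673
theorem D24645 : act 4 n11673 = n24645 := rfl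
theorem F38645 : act 2 n24645 = n11674 := d1_1 D24645 (iv4 D11674) D11673
def n24646 : Q := act 6 n11673
theorem D24646 : act 6 n11673 = n24646 := rfl
theorem F38646 : act 2 n24646 = n11675 := d3_1 D24646 (iv6 D11675) D11673
theorem F38647 : act 5 n24646 = n14414 := d21_6 (iv5 D5414) F22438 D7646 F11871 (iv1 F19011) D24646 (iv1 D14414) D14415 F24065 F22587
def n24647 : Q := act 0 n11674
theorem D24647 : act 0 n11674 = n24647 := rfl
def n24648 : Q := act 1 n11674
theorem D24648 : act 1 n11674 = n24648 := rfl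
theorem F38648 : act 4 n24323 = n24648 := d20_6 (iv4 F8247) (iv1 F8249) F8246 D6379 F19487 (iv3 F38106) (iv1 D24648) (iv4 D11674) (iv3 D5421) (iv1 F3683)
def n24649 : Q := act 3 n11674
theorem D24649 : act 3 n11674 = n24649 := rfl
theorem F38649 : act 4 n24649 = n11676 := d5_2 D11674 D24649 (iv3 D11676) (iv4 D5422) D5421
def n24650 : Q := act 5 n11674
theorem D24650 : act 5 n11674 = n24650 := rfl
def n24651 : Q := act 6 n11674
theorem D24651 : act 6 n11674 = n24651 := rfl
theorem F38650 : act 4 n24651 = n11675 := d10_1 D24651 (iv6 D11675) D11674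
def n24652 : Q := act 0 n11675
theorem D24652 : act 0 n11675 = n24652 := rfl
def n24653 : Q := act 1 n11675
theorem D24653 : act 1 n11675 = n24653 := rfl
def n24654 : Q := act 5 n11675
theorem D24654 : act 5 n11675 = n24654 := rfl
theorem F38651 : act 2 n24654 = n14414 := d2_1 D24654 (iv5 F38647) F38646
theorem F38652 : act 3 n24654 = n11680 := d6_1 D24654 (iv5 D11680) (iv3 F19012)
theorem F38653 : act 6 n24654 = n14344 := d12_2 D11675 D24654 (iv5 F23967) (iv6 F20316) F10365
theorem F38654 : act 0 n24654 = n14316 := d21_4 (iv5 F37834) (iv1 F37836) F23967 (iv6 F38653) (iv6 D14316) (iv5 D6838) (iv1 D3086) D3087 (iv6 F11084) D14305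
theorem F38655 : act 1 n24654 = n14416 := d15_1 (iv0 F38654) (iv7 D14416) (iv2 F23928)
theorem F38656 : act 7 n14638 = n24654 := d8_0 F38652 (iv7 F20410) D14638
def n24655 : Q := act 7 n11675
theorem D24655 : act 7 n11675 = n24655 := rfl
theorem F38657 : act 3 n24655 = n11681 := d8_1 D24655 (iv7 D11681) (iv3 F19012)
theorem F38658 : act 5 n24655 = n14638 := d13_1 D24655 F38656 (iv5 D24654)
def n24656 : Q := act 0 n11676
theorem D24656 : act 0 n11676 = n24656 := rfl
def n24657 : Q := act 1 n11676
theorem D24657 : act 1 n11676 = n24657 := rfl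
def n24658 : Q := act 2 n11676
theorem D24658 : act 2 n11676 = n24658 := rfl
theorem F38659 : act 5 n24658 = n24633 := d2_2 (iv5 F19013) D24658 (iv2 D24633)
def n24659 : Q := act 6 n11676
theorem D24659 : act 6 n11676 = n24659 := rfl
theorem F38660 : act 3 n24659 = n11677 := d7_1 D24659 (iv6 D11677) D11676
def n24660 : Q := act 0 n11677
theorem D24660 : act 0 n11677 = n24660 := rfl
def n24661 : Q := act 1 n11677
theorem D24661 : act 1 n11677 = n24661 := rfl
def n24662 : Q := act 5 n11677
theorem D24662 : act 5 n11677 = n24662 := rfl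
theorem F38661 : act 6 n24662 = n24636 := d12_2 D11677 D24662 (iv5 D24636) (iv6 D11666) (iv5 F8241)
def n24663 : Q := act 7 n11677
theorem D24663 : act 7 n11677 = n24663 := rfl
theorem F38662 : act 4 n24663 = n11681 := d11_1 D24663 (iv7 D11681) (iv4 F19014)
def n24664 : Q := act 2 n11678
theorem D24664 : act 2 n11678 = n24664 := rfl
theorem F38663 : act 7 n11679 = n24664 := d15_2 (iv0 D11678) D11679 (iv2 D24664)
def n24665 : Q := act 3 n11678
theorem D24665 : act 3 n11678 = n24665 := rfl
def n24666 : Q := act 4 n11678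
theorem D24666 : act 4 n11678 = n24666 := rfl
def n24667 : Q := act 5 n11678
theorem D24667 : act 5 n11678 = n24667 := rfl
def n24668 : Q := act 7 n11678
theorem D24668 : act 7 n11678 = n24668 := rfl
theorem F38664 : act 2 n24668 = n11679 := d4_1 D24668 F38663 (iv2 D24664)
def n24669 : Q := act 3 n11679
theorem D24669 : act 3 n11679 = n24669 := rfl
def n24670 : Q := act 4 n11679
theorem D24670 : act 4 n11679 = n24670 := rfl
def n24671 : Q := act 6 n11679
theorem D24671 : act 6 n11679 = n24671 := rfl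
theorem F38665 : act 5 n24671 = n14564 := d12_1 D24671 F24412 (iv5 D14774) D14775 F24413
def n24672 : Q := act 4 n11680
theorem D24672 : act 4 n11680 = n24672 := rfl
theorem F38666 : act 2 n24672 = n14642 := d1_1 D24672 (iv4 D14642) (iv2 F19015)
theorem F38667 : act 6 n24672 = n14484 := d10_2 (iv6 F19016) D24672 (iv4 D14484)
theorem F38668 : act 7 n24672 = n14639 := d11_2 F20410 D24672 (iv4 D14639)
def n24673 : Q := act 4 n11684
theorem D24673 : act 4 n11684 = n24673 := rfl
theorem F38669 : act 2 n24673 = n11685 := d1_1 D24673 (iv4 D11685) D11684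
def n24674 : Q := act 6 n11684
theorem D24674 : act 6 n11684 = n24674 := rfl
theorem F38670 : act 2 n24674 = n11686 := d3_1 D24674 (iv6 D11686) D11684
theorem F38671 : act 5 n24674 = n14277 := d12_1 D24674 (iv6 D14277) (iv5 D6800) D6801 F22490
def n24675 : Q := act 0 n11685
theorem D24675 : act 0 n11685 = n24675 := rfl
theorem F38672 : act 4 n24675 = n24324 := d18_3 F19489 D11685 D24675 (iv5 D24324) F18720 (iv0 F19326) (iv4 F10030) D5411 D11653
def n24676 : Q := act 1 n11685
theorem D24676 : act 1 n11685 = n24676 := rfl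
def n24677 : Q := act 3 n11685
theorem D24677 : act 3 n11685 = n24677 := rfl
theorem F38673 : act 4 n24677 = n11687 := d5_2 D11685 D24677 (iv3 D11687) (iv4 D5425) D5424
def n24678 : Q := act 5 n11685
theorem D24678 : act 5 n11685 = n24678 := rfl
def n24679 : Q := act 6 n11685
theorem D24679 : act 6 n11685 = n24679 := rfl
theorem F38674 : act 4 n24679 = n11686 := d10_1 D24679 (iv6 D11686) D11685
def n24680 : Q := act 0 n11686
theorem D24680 : act 0 n11686 = n24680 := rfl
def n24681 : Q := act 1 n11686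
theorem D24681 : act 1 n11686 = n24681 := rfl
def n24682 : Q := act 7 n11686
theorem D24682 : act 7 n11686 = n24682 := rfl
theorem F38675 : act 3 n24682 = n11691 := d8_1 D24682 (iv7 D11691) (iv3 F19019)
def n24683 : Q := act 0 n11687
theorem D24683 : act 0 n11687 = n24683 := rfl
def n24684 : Q := act 1 n11687
theorem D24684 : act 1 n11687 = n24684 := rfl
def n24685 : Q := act 2 n11687
theorem D24685 : act 2 n11687 = n24685 := rfl
theorem F38676 : act 5 n24685 = n24601 := d2_2 (iv5 F19020) D24685 (iv2 D24601)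
def n24686 : Q := act 6 n11687
theorem D24686 : act 6 n11687 = n24686 := rfl
theorem F38677 : act 3 n24686 = n11688 := d7_1 D24686 (iv6 D11688) D11687
def n24687 : Q := act 0 n11688
theorem D24687 : act 0 n11688 = n24687 := rfl
def n24688 : Q := act 1 n11688
theorem D24688 : act 1 n11688 = n24688 := rfl
def n24689 : Q := act 5 n11688
theorem D24689 : act 5 n11688 = n24689 := rfl
theorem F38678 : act 6 n24689 = n24605 := d12_2 D11688 D24689 (iv5 D24605) (iv6 D11640) (iv5 F8243)
def n24690 : Q := act 7 n11688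
theorem D24690 : act 7 n11688 = n24690 := rfl
theorem F38679 : act 4 n24690 = n11691 := d11_1 D24690 (iv7 D11691) (iv4 F19021)
def n24691 : Q := act 2 n11689
theorem D24691 : act 2 n11689 = n24691 := rfl
theorem F38680 : act 7 n11690 = n24691 := d15_2 (iv0 D11689) D11690 (iv2 D24691)
def n24692 : Q := act 3 n11689
theorem D24692 : act 3 n11689 = n24692 := rfl
def n24693 : Q := act 4 n11689
theorem D24693 : act 4 n11689 = n24693 := rfl
def n24694 : Q := act 6 n11689
theorem D24694 : act 6 n11689 = n24694 := rfl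
theorem F38681 : act 5 n24694 = n14565 := d21_6 F8511 (iv1 F4993) F4977 D5426 D11689 D24694 (iv1 D14565) F11222 (iv6 D5595) (iv1 F8509)
def n24695 : Q := act 7 n11689
theorem D24695 : act 7 n11689 = n24695 := rfl
theorem F38682 : act 2 n24695 = n11690 := d4_1 D24695 F38680 (iv2 D24691)
def n24696 : Q := act 3 n11690
theorem D24696 : act 3 n11690 = n24696 := rfl
def n24697 : Q := act 4 n11690
theorem D24697 : act 4 n11690 = n24697 := rfl
def n24698 : Q := act 0 n11692
theorem D24698 : act 0 n11692 = n24698 := rfl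
def n24699 : Q := act 1 n11692
theorem D24699 : act 1 n11692 = n24699 := rfl
def n24700 : Q := act 2 n11692
theorem D24700 : act 2 n11692 = n24700 := rfl
def n24701 : Q := act 4 n11692
theorem D24701 : act 4 n11692 = n24701 := rfl
theorem F38683 : act 3 n24701 = n13423 := d5_1 D24701 (iv4 D13423) (iv3 D6377) (iv4 F8245) D11692
def n24702 : Q := act 6 n11692
theorem D24702 : act 6 n11692 = n24702 := rfl
theorem F38684 : act 3 n24702 = n11693 := d7_1 D24702 (iv6 D11693) D11692
def n24703 : Q := act 0 n11693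
theorem D24703 : act 0 n11693 = n24703 := rfl
def n24704 : Q := act 1 n11693
theorem D24704 : act 1 n11693 = n24704 := rfl
def n24705 : Q := act 5 n11693
theorem D24705 : act 5 n11693 = n24705 := rfl
def n24706 : Q := act 7 n11693
theorem D24706 : act 7 n11693 = n24706 := rfl
theorem F38685 : act 4 n24706 = n13427 := d11_1 D24706 (iv7 D13427) (iv4 F19022)
def n24707 : Q := act 0 n11694
theorem D24707 : act 0 n11694 = n24707 := rfl
def n24708 : Q := act 1 n11694
theorem D24708 : act 1 n11694 = n24708 := rfl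
def n24709 : Q := act 2 n11694
theorem D24709 : act 2 n11694 = n24709 := rfl
def n24710 : Q := act 4 n11694
theorem D24710 : act 4 n11694 = n24710 := rfl
theorem F38686 : act 3 n24710 = n13429 := d5_1 D24710 (iv4 D13429) (iv3 D6379) (iv4 F8246) D11694
def n24712 : Q := act 0 n11695
theorem D24712 : act 0 n11695 = n24712 := rfl
def n24713 : Q := act 1 n11695
theorem D24713 : act 1 n11695 = n24713 := rfl
def n24714 : Q := act 5 n11695
theorem D24714 : act 5 n11695 = n24714 := rfl
def n24715 : Q := act 7 n11695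
theorem D24715 : act 7 n11695 = n24715 := rfl
theorem F38688 : act 4 n24715 = n13433 := d11_1 D24715 (iv7 D13433) (iv4 F19023)
def n24716 : Q := act 0 n11696
theorem D24716 : act 0 n11696 = n24716 := rfl
theorem F38689 : act 2 n11700 = n24716 := d15_3 (iv0 D24716) (iv0 D11696) D11700
theorem F38690 : act 5 n24716 = n11952 := d2_2 (iv5 F19027) F38689 (iv2 D11952)
theorem F38691 : act 7 n24716 = n11698 := d4_2 D11700 F38689 (iv2 D11698)
theorem F38692 : act 1 n11697 = n24716 := d15_1 D11697 F38691 (iv2 D11698)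
def n24717 : Q := act 2 n11696
theorem D24717 : act 2 n11696 = n24717 := rfl
theorem F38693 : act 7 n11697 = n24717 := d15_2 (iv0 D11696) D11697 (iv2 D24717)
def n24718 : Q := act 3 n11696
theorem D24718 : act 3 n11696 = n24718 := rfl
def n24719 : Q := act 4 n11696
theorem D24719 : act 4 n11696 = n24719 := rfl
def n24720 : Q := act 5 n11696
theorem D24720 : act 5 n11696 = n24720 := rfl
def n24721 : Q := act 6 n11696
theorem D24721 : act 6 n11696 = n24721 := rfl
def n24722 : Q := act 7 n11696
theorem D24722 : act 7 n11696 = n24722 := rfl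
theorem F38694 : act 2 n24722 = n11697 := d4_1 D24722 F38693 (iv2 D24717)
def n24723 : Q := act 3 n11697
theorem D24723 : act 3 n11697 = n24723 := rfl
def n24724 : Q := act 4 n11697
theorem D24724 : act 4 n11697 = n24724 := rfl
def n24725 : Q := act 5 n11697
theorem D24725 : act 5 n11697 = n24725 := rfl
def n24726 : Q := act 6 n11697
theorem D24726 : act 6 n11697 = n24726 := rfl
def n24727 : Q := act 0 n11698
theorem D24727 : act 0 n11698 = n24727 := rfl
theorem F38695 : act 1 n11700 = n24727 := d15_0 (iv0 D24727) (iv7 F38691) (iv2 F38689)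
def n24728 : Q := act 1 n11698
theorem D24728 : act 1 n11698 = n24728 := rfl
theorem F38696 : act 1 n24728 = n11700 := d15_1 D24728 (iv7 D11700) D11698
def n24729 : Q := act 5 n11698
theorem D24729 : act 5 n11698 = n24729 := rfl
theorem F38697 : act 2 n24729 = n11699 := d2_1 D24729 (iv5 D11699) D11698
theorem F38698 : act 3 n24729 = n24716 := d6_1 D24729 F38690 F19714
theorem F38699 : act 7 n24729 = n11952 := d13_2 F38691 D24729 (iv5 F38690)
theorem F38700 : act 1 n11951 = n24729 := d15_1 D11951 F38699 (iv2 D11952)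
theorem F38701 : act 1 n24729 = n11950 := d15_0 (iv0 D11950) F19025 (iv2 F38697)
def n24730 : Q := act 0 n11699
theorem D24730 : act 0 n11699 = n24730 := rfl
theorem F38702 : act 1 n11952 = n24730 := d15_0 (iv0 D24730) (iv7 F19025) D11952
def n24731 : Q := act 1 n11699
theorem D24731 : act 1 n11699 = n24731 := rfl
theorem F38703 : act 1 n24731 = n11952 := d15_1 D24731 (iv7 F38699) F38697
def n24732 : Q := act 4 n11699
theorem D24732 : act 4 n11699 = n24732 := rfl
theorem F38704 : act 3 n24732 = n11885 := d5_1 D24732 F19570 F8492 (iv4 F8247) (iv3 F19024)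
theorem F38705 : act 7 n24732 = n11883 := d11_2 F19025 D24732 F19568
def n24733 : Q := act 6 n11699
theorem D24733 : act 6 n11699 = n24733 := rfl
theorem F38706 : act 3 n24733 = n11701 := d7_1 D24733 (iv6 D11701) (iv3 F19024)
def n24734 : Q := act 6 n11700
theorem D24734 : act 6 n11700 = n24734 := rfl
theorem F38707 : act 3 n24734 = n11702 := d7_1 D24734 (iv6 D11702) (iv3 F19026)
theorem F38708 : act 5 n24734 = n24733 := d12_1 D24734 (iv6 D24733) (iv5 D11699) (iv6 F8572) (iv5 F19027)
theorem F38709 : act 7 n24734 = n24733 := d14_2 D11700 D24734 (iv6 D24733) (iv7 F19025) F8572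
def n24735 : Q := act 0 n11701
theorem D24735 : act 0 n11701 = n24735 := rfl
theorem F38710 : act 1 n11701 = n24735 := d15_0 (iv0 D24735) (iv7 F19032) F19029
def n24736 : Q := act 0 n11702
theorem D24736 : act 0 n11702 = n24736 := rfl
theorem F38711 : act 1 n11702 = n24736 := d15_0 (iv0 D24736) F19032 (iv2 F19029)
def n24737 : Q := act 2 n11703
theorem D24737 : act 2 n11703 = n24737 := rfl
def n24738 : Q := act 3 n11703
theorem D24738 : act 3 n11703 = n24738 := rfl
def n24739 : Q := act 4 n11703
theorem D24739 : act 4 n11703 = n24739 := rfl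
def n24740 : Q := act 5 n11703
theorem D24740 : act 5 n11703 = n24740 := rfl
theorem F38713 : act 0 n24613 = n24740 := d21_10 (iv5 D24740) (iv1 F19033) F8254 (iv6 D5432) (iv1 F3676) D5603 (iv5 F10633) D13823 F23089 D24613
theorem F38714 : act 6 n14643 = n24740 := d21_5 (iv5 F4891) (iv1 F4902) D3161 (iv6 F11258) D14643 (iv5 D24740) (iv1 F19033) F8254 (iv6 D5432) (iv1 F3676)
def n24741 : Q := act 6 n11703
theorem D24741 : act 6 n11703 = n24741 := rfl
theorem F38715 : act 5 n24741 = n14507 := d21_6 (iv5 D2317) (iv1 F2051) (iv5 F3593) D5432 D11703 D24741 (iv1 D14507) (iv5 F19615) (iv6 D11908) (iv1 D5583)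
def n24742 : Q := act 3 n11704
theorem D24742 : act 3 n11704 = n24742 := rfl
theorem F38716 : act 4 n24742 = n24212 := d5_2 D11704 D24742 (iv3 D24212) (iv4 D11373) (iv3 F10216)
theorem F38717 : act 5 n24742 = n24200 := d6_2 (iv5 F19036) D24742 (iv3 D24200)
theorem F38718 : act 7 n24742 = n12105 := d8_2 (iv7 F19035) D24742 F20029
theorem F38719 : act 0 n24742 = n24336 := d20_4 (iv4 D5444) D5442 D11704 D24742 (iv3 F38540) (iv4 D24545) F24219 (iv4 F19266) F19265 (iv1 F18006)
theorem F38720 : act 0 n24333 = n13350 := d20_10 F22222 F20306 (iv4 F19039) (iv3 D11705) (iv1 F18570) D24212 (iv4 F38716) F38719 F38148 (iv3 F38132)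
theorem F38721 : act 1 n24200 = n13488 := d17_6 (iv1 F11133) D14313 (iv1 F23980) (iv5 F37943) (iv4 F38716) F38717 (iv5 D13488) F22620 F22617
theorem F38722 : act 1 n13478 = n24200 := d15_0 F38721 (iv7 F37097) F37095
def n24743 : Q := act 3 n11707
theorem D24743 : act 3 n11707 = n24743 := rfl
theorem F38723 : act 4 n24743 = n11862 := d5_2 D11707 D24743 (iv3 F19293) F8517 (iv3 F8456)
theorem F38724 : act 6 n24743 = n14933 := d7_2 (iv6 F19047) D24743 (iv3 D14933)
theorem F38725 : act 7 n24743 = n16526 := d8_2 (iv7 F19048) D24743 F26138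
theorem F38726 : act 0 n24743 = n11794 := d21_10 (iv5 F38167) F38168 (iv5 D14206) (iv6 D6760) (iv1 F4780) D6766 D14214 (iv1 F24599) (iv5 F24597) (iv6 F38724)
theorem F38727 : act 0 n23794 = n13951 := d20_7 F22270 (iv1 F10363) D11707 D24743 F38726 (iv3 F22599) (iv4 F37101) (iv4 F23810) F23809 (iv1 F22274)
def n24744 : Q := act 5 n11708
theorem D24744 : act 5 n11708 = n24744 := rfl
theorem F38728 : act 2 n24744 = n14094 := d2_1 D24744 (iv5 D14094) (iv2 F19053)
def n24745 : Q := act 5 n11710
theorem D24745 : act 5 n11710 = n24745 := rfl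
theorem F38729 : act 3 n24745 = n11712 := d6_1 D24745 (iv5 D11712) D11710
theorem F38730 : act 7 n24745 = n24238 := d13_2 F19345 D24745 (iv5 D24238)
theorem F38731 : act 1 n13414 = n24745 := d15_1 (iv0 F38110) F38730 (iv2 F38108)
theorem F38732 : act 4 n24745 = n24676 := d20_6 D2232 D5427 F8245 D6377 (iv1 F19821) (iv3 F38729) (iv1 D24676) (iv4 D11685) (iv3 D5424) (iv1 D2231)
def n24746 : Q := act 5 n11711
theorem D24746 : act 5 n11711 = n24746 := rfl
theorem F38733 : act 3 n24746 = n24479 := d6_1 D24746 (iv5 D24479) (iv3 F19059)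
theorem F38734 : act 7 n24746 = n24239 := d13_2 F19417 D24746 (iv5 D24239)
def n24747 : Q := act 4 n11712
theorem D24747 : act 4 n11712 = n24747 := rfl
theorem F38735 : act 7 n24747 = n24240 := d11_2 F19434 D24747 (iv4 D24240)
theorem F38736 : act 0 n24747 = n24540 := d20_1 D24747 (iv4 D24540) (iv3 D11611) (iv1 D5395) F3588 D2232 D5427 F8245 D6377 (iv1 F19821)
def n24748 : Q := act 6 n11712
theorem D24748 : act 6 n11712 = n24748 := rfl
theorem F38737 : act 5 n24748 = n24748 := d12_1 D24748 (iv6 D24748) (iv5 D11712) F19339 D11712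
def n24749 : Q := act 4 n11718
theorem D24749 : act 4 n11718 = n24749 := rfl
theorem F38738 : act 2 n24749 = n11722 := d1_1 D24749 (iv4 D11722) (iv2 F19063)
def n24750 : Q := act 6 n11718
theorem D24750 : act 6 n11718 = n24750 := rfl
theorem F38739 : act 2 n24750 = n11723 := d3_1 D24750 (iv6 D11723) (iv2 F19063)
def n24751 : Q := act 1 n11719
theorem D24751 : act 1 n11719 = n24751 := rfl
theorem F38740 : act 1 n24751 = n11726 := d15_1 D24751 (iv7 D11726) (iv2 F19064)
theorem F38741 : act 7 n24751 = n11724 := d15_2 (iv0 F22964) D24751 (iv2 F23896)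
theorem F38742 : act 6 n11996 = n24751 := d21_3 D5098 D11160 F37093 (iv1 D24751) (iv6 D11719) D11718 (iv1 F19830) F19831 (iv6 D11159) (iv1 D5097)
theorem F38743 : act 5 n24751 = n13753 := d21_6 (iv5 F19831) (iv1 D11993) (iv5 D5662) D5663 D11996 F38742 (iv1 F23266) (iv5 D13969) (iv6 F19856) (iv1 F20307)
theorem F38744 : act 2 n11725 = n24751 := d2_3 F38743 F23901 (iv5 F23902)
def n24752 : Q := act 7 n11719
theorem D24752 : act 7 n11719 = n24752 := rfl
theorem F38745 : act 2 n24752 = n11726 := d4_1 D24752 (iv7 D11726) (iv2 F19064)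
theorem F38746 : act 4 n24752 = n12258 := d11_1 D24752 (iv7 D12258) (iv4 F19065)
theorem F38747 : act 5 n24752 = n13999 := d13_1 D24752 F23338 F23026
theorem F38748 : act 1 n11725 = n24752 := d15_1 D11725 (iv7 D24752) F19064
theorem F38749 : act 1 n24752 = n11724 := d15_1 F38748 (iv7 F38741) (iv2 F38744)
def n24753 : Q := act 3 n11720
theorem D24753 : act 3 n11720 = n24753 := rfl
theorem F38750 : act 5 n24753 = n13489 := d6_2 F20273 D24753 F22645
theorem F38751 : act 4 n24753 = n24623 := d20_6 D11636 F18978 (iv4 D5457) (iv3 F8276) D11720 D24753 (iv1 D24623) (iv4 D11659) F8230 (iv1 F8221)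
def n24754 : Q := act 4 n11720
theorem D24754 : act 4 n11720 = n24754 := rfl
theorem F38752 : act 0 n24754 = n24507 := d18_2 D11720 D24754 (iv4 D24507) (iv5 D11594) D11593 (iv0 F19058) (iv4 D11711) (iv0 D5450) D5453
def n24755 : Q := act 6 n11720
theorem D24755 : act 6 n11720 = n24755 := rfl
def n24756 : Q := act 3 n11721
theorem D24756 : act 3 n11721 = n24756 := rfl
def n24757 : Q := act 4 n11721
theorem D24757 : act 4 n11721 = n24757 := rfl
def n24758 : Q := act 6 n11721
theorem D24758 : act 6 n11721 = n24758 := rfl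
theorem F38753 : act 0 n24758 = n11756 := d21_4 F22321 (iv1 F19859) F20281 D24758 (iv6 D11756) (iv5 D5495) F19326 D11455 F18721 (iv1 F22323)
def n24759 : Q := act 0 n11722
theorem D24759 : act 0 n11722 = n24759 := rfl
theorem F38754 : act 4 n24759 = n24160 := d18_3 (iv1 D11721) D11722 D24759 (iv5 D24160) F18527 D11922 (iv4 F19645) D12006 F20281
def n24760 : Q := act 1 n11722
theorem D24760 : act 1 n11722 = n24760 := rfl
def n24761 : Q := act 3 n11722
theorem D24761 : act 3 n11722 = n24761 := rfl
theorem F38755 : act 4 n24761 = n11733 := d5_2 D11722 D24761 (iv3 D11733) (iv4 D5457) (iv3 F8276)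
def n24762 : Q := act 5 n11722
theorem D24762 : act 5 n11722 = n24762 := rfl
def n24763 : Q := act 6 n11722
theorem D24763 : act 6 n11722 = n24763 := rfl
theorem F38756 : act 4 n24763 = n11723 := d10_1 D24763 (iv6 D11723) D11722
def n24764 : Q := act 0 n11723
theorem D24764 : act 0 n11723 = n24764 := rfl
def n24765 : Q := act 1 n11723
theorem D24765 : act 1 n11723 = n24765 := rfl
def n24766 : Q := act 7 n11723
theorem D24766 : act 7 n11723 = n24766 := rfl
theorem F38757 : act 3 n24766 = n11737 := d8_1 D24766 (iv7 D11737) (iv3 F19066)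
def n24767 : Q := act 4 n11724
theorem D24767 : act 4 n11724 = n24767 := rfl
theorem F38758 : act 2 n24767 = n13713 := d1_1 D24767 F22963 F23896
theorem F38759 : act 3 n24767 = n24437 := d5_1 D24767 F38327 F38162 (iv4 F38166) F38165
theorem F38760 : act 6 n24767 = n13449 := d10_2 (iv6 F23895) D24767 (iv4 F22384)
def n24768 : Q := act 3 n11725
theorem D24768 : act 3 n11725 = n24768 := rfl
theorem F38761 : act 4 n24768 = n14538 := d5_2 F24457 D24768 F24460 (iv4 D14804) D14803
theorem F38762 : act 7 n24768 = n14553 := d8_2 (iv7 F23898) D24768 F24194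
theorem F38763 : act 2 n14556 = n24768 := d4_3 F38762 F24193 (iv7 F24209)
theorem F38764 : act 6 n24534 = n24768 := d14_5 F38762 F24195 F22889 D14161 (iv7 F38524)
def n24769 : Q := act 6 n11725
theorem D24769 : act 6 n11725 = n24769 := rfl
theorem F38765 : act 2 n24769 = n11996 := d3_1 D24769 F38742 (iv2 F38744)
theorem F38766 : act 3 n24769 = n24534 := d7_1 D24769 F38764 (iv3 D24768)
theorem F38767 : act 7 n24769 = n11997 := d14_2 (iv7 F23898) D24769 F24291 F22888 D11418
theorem F38768 : act 0 n24769 = n11999 := d21_4 D13751 (iv1 F23271) (iv5 F23902) D24769 F19838 F19068 (iv1 F23256) (iv5 D13968) F19453 (iv1 F10760)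
theorem F38769 : act 5 n23789 = n24769 := d21_2 D11149 D23789 (iv6 D24769) (iv1 D11725) (iv6 D5454) D5453 D11720 (iv5 F20273) F20274 (iv1 D11148)
theorem F38770 : act 0 n11991 = n24769 := d21_4 F20273 (iv1 F19826) (iv5 D11990) D11991 (iv6 D24769) F23902 (iv1 D13972) (iv5 D6643) (iv6 F8721) D12005
def n24770 : Q := act 4 n11727
theorem D24770 : act 4 n11727 = n24770 := rfl
theorem F38771 : act 0 n24475 = n24770 := d20_7 D5497 (iv1 F18979) (iv4 D11636) (iv3 F19598) (iv1 D11581) (iv3 F18883) D24475 (iv4 D24770) (iv3 D11727) (iv1 F8279)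
def n24771 : Q := act 6 n11727
theorem D24771 : act 6 n11727 = n24771 := rfl
theorem F38772 : act 3 n24771 = n11729 := d7_1 D24771 (iv6 D11729) D11727
theorem F38773 : act 5 n24771 = n12361 := d12_1 D24771 (iv6 D12361) (iv5 D5882) D5883 (iv5 F19069)
def n24772 : Q := act 3 n11728
theorem D24772 : act 3 n11728 = n24772 := rfl
theorem F38774 : act 5 n24772 = n14953 := d6_2 (iv5 F19072) D24772 (iv3 D14953)
theorem F38775 : act 7 n24772 = n24597 := d8_2 (iv7 F19071) D24772 (iv3 D24597)
def n24773 : Q := act 6 n11728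
theorem D24773 : act 6 n11728 = n24773 := rfl
theorem F38776 : act 2 n24773 = n14951 := d3_1 D24773 F24612 (iv2 F19070)
theorem F38777 : act 4 n24773 = n11729 := d10_1 D24773 (iv6 D11729) D11728
def n24774 : Q := act 0 n11729
theorem D24774 : act 0 n11729 = n24774 := rfl
def n24775 : Q := act 1 n11729
theorem D24775 : act 1 n11729 = n24775 := rfl
theorem F38778 : act 1 n24775 = n14952 := d15_1 D24775 (iv7 D14952) (iv2 F19075)
def n24776 : Q := act 7 n11729
theorem D24776 : act 7 n11729 = n24776 := rfl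
theorem F38779 : act 2 n24776 = n14952 := d4_1 D24776 (iv7 D14952) (iv2 F19075)
theorem F38780 : act 5 n24776 = n12368 := d13_1 D24776 (iv7 D12368) (iv5 F19076)
theorem F38781 : act 6 n24776 = n11762 := d14_1 D24776 F19851 (iv6 D11967) F8635 D11729
theorem F38782 : act 1 n14952 = n24774 := d15_0 (iv0 D24774) D24776 F38779
theorem F38783 : act 1 n14950 = n24776 := d15_1 D14950 (iv7 D24776) F19075
theorem F38784 : act 1 n24776 = n14949 := d15_0 (iv0 D14949) D14952 (iv2 F38779)
def n24777 : Q := act 4 n11730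
theorem D24777 : act 4 n11730 = n24777 := rfl
theorem F38785 : act 7 n24777 = n14935 := d11_2 (iv7 F19078) D24777 (iv4 D14935)
theorem F38786 : act 0 n24777 = n23715 := d18_2 (iv1 F19080) D24777 (iv4 D23715) (iv5 D11104) F9901 (iv0 D2112) (iv4 F2359) (iv0 F9907) D5741
theorem F38787 : act 1 n24777 = n23718 := d18_6 D11351 F18529 (iv1 F18327) F18323 (iv5 F19077) D24777 (iv4 D23718) (iv0 F18533) (iv5 D11352)
def n24778 : Q := act 6 n11730
theorem D24778 : act 6 n11730 = n24778 := rfl
theorem F38788 : act 3 n24778 = n11732 := d7_1 D24778 (iv6 D11732) D11730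
theorem F38789 : act 5 n24778 = n24371 := d12_1 D24778 (iv6 D24371) F18778 F18566 (iv5 F19077)
def n24779 : Q := act 3 n11731
theorem D24779 : act 3 n11731 = n24779 := rfl
theorem F38790 : act 5 n24779 = n24597 := d6_2 (iv5 F19082) D24779 (iv3 D24597)
theorem F38791 : act 7 n24779 = n14953 := d8_2 (iv7 F19083) D24779 (iv3 D14953)
def n24780 : Q := act 6 n11731
theorem D24780 : act 6 n11731 = n24780 := rfl
theorem F38792 : act 2 n24780 = n24598 := d3_1 D24780 (iv6 D24598) (iv2 F19081)
theorem F38793 : act 4 n24780 = n11732 := d10_1 D24780 (iv6 D11732) D11731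
theorem F38794 : act 0 n24780 = n11925 := d21_4 F8241 (iv1 F18982) (iv5 F19082) D24780 (iv6 D11925) (iv5 F8555) (iv1 F9877) F9875 F4326 (iv1 F8242)
theorem F38795 : act 1 n24780 = n24637 := d15_1 (iv0 F38794) (iv7 D24637) (iv2 F19664)
def n24781 : Q := act 0 n11733
theorem D24781 : act 0 n11733 = n24781 := rfl
def n24782 : Q := act 1 n11733
theorem D24782 : act 1 n11733 = n24782 := rfl
def n24783 : Q := act 2 n11733
theorem D24783 : act 2 n11733 = n24783 := rfl
theorem F38796 : act 5 n24783 = n24709 := d2_2 (iv5 F19088) D24783 (iv2 D24709)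
def n24784 : Q := act 6 n11733
theorem D24784 : act 6 n11733 = n24784 := rfl
def n24785 : Q := act 0 n11734
theorem D24785 : act 0 n11734 = n24785 := rfl
def n24786 : Q := act 1 n11734
theorem D24786 : act 1 n11734 = n24786 := rfl
def n24787 : Q := act 5 n11734
theorem D24787 : act 5 n11734 = n24787 := rfl
theorem F38798 : act 6 n24787 = n24714 := d12_2 D11734 D24787 (iv5 D24714) (iv6 D11695) (iv5 F8284)
def n24788 : Q := act 7 n11734
theorem D24788 : act 7 n11734 = n24788 := rfl
theorem F38799 : act 4 n24788 = n11737 := d11_1 D24788 (iv7 D11737) (iv4 F19089)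
def n24789 : Q := act 2 n11735
theorem D24789 : act 2 n11735 = n24789 := rfl
theorem F38800 : act 7 n11736 = n24789 := d15_2 (iv0 D11735) D11736 (iv2 D24789)
def n24790 : Q := act 3 n11735
theorem D24790 : act 3 n11735 = n24790 := rfl
def n24791 : Q := act 4 n11735
theorem D24791 : act 4 n11735 = n24791 := rfl
def n24792 : Q := act 7 n11735
theorem D24792 : act 7 n11735 = n24792 := rfl
theorem F38801 : act 2 n24792 = n11736 := d4_1 D24792 F38800 (iv2 D24789)
def n24793 : Q := act 3 n11736
theorem D24793 : act 3 n11736 = n24793 := rfl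
def n24794 : Q := act 4 n11736
theorem D24794 : act 4 n11736 = n24794 := rfl
def n24795 : Q := act 6 n11736
theorem D24795 : act 6 n11736 = n24795 := rfl
def n24796 : Q := act 3 n11739
theorem D24796 : act 3 n11739 = n24796 := rfl
theorem F38802 : act 7 n24796 = n13489 := d8_2 (iv7 F20308) D24796 F22645
theorem F38803 : act 4 n24796 = n11765 := d20_6 F5144 F4384 D2255 D5464 D11739 D24796 (iv1 D11765) (iv4 F10366) (iv3 D6363) (iv1 F5142)
theorem F38804 : act 1 n14934 = n24796 := d17_8 (iv1 D11765) (iv5 F10409) F19487 (iv5 D11455) (iv4 F18720) D24324 (iv0 F38110) (iv5 F24601) F38803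
def n24797 : Q := act 4 n11739
theorem D24797 : act 4 n11739 = n24797 := rfl
theorem F38805 : act 0 n24797 = n24333 := d18_2 D11739 D24797 F38133 (iv5 F38139) D24540 (iv0 F38736) (iv4 D24747) F19821 F10406
def n24798 : Q := act 5 n11748
theorem D24798 : act 5 n11748 = n24798 := rfl
theorem F38806 : act 2 n24798 = n14603 := d2_1 D24798 (iv5 D14603) (iv2 F19394)
theorem F38807 : act 3 n24798 = n11749 := d6_1 D24798 (iv5 D11749) D11748
theorem F38808 : act 7 n24798 = n14213 := d13_2 F19344 D24798 (iv5 D14213)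
theorem F38809 : act 4 n24798 = n24528 := d18_5 D2216 D5386 D11575 (iv4 F19101) D24798 (iv0 D24528) (iv4 D11607) (iv0 D5394) (iv5 D2218)
theorem F38810 : act 0 n13412 = n24798 := d20_10 F38809 (iv1 F38513) (iv4 D11612) D11611 F38138 F8814 D5725 D12087 F20002 D13412
theorem F38811 : act 1 n14603 = n24551 := d15_0 F38545 (iv7 F38808) F38806
def n24799 : Q := act 4 n11749
theorem D24799 : act 4 n11749 = n24799 := rfl
theorem F38812 : act 7 n24799 = n24326 := d11_2 F19346 D24799 (iv4 D24326)
def n24800 : Q := act 6 n11749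
theorem D24800 : act 6 n11749 = n24800 := rfl
theorem F38813 : act 5 n24800 = n24800 := d12_1 D24800 (iv6 D24800) (iv5 D11749) F19329 D11749
def n24801 : Q := act 4 n11751
theorem D24801 : act 4 n11751 = n24801 := rfl
theorem F38814 : act 2 n24801 = n11755 := d1_1 D24801 (iv4 D11755) (iv2 F19104)
def n24802 : Q := act 6 n11751
theorem D24802 : act 6 n11751 = n24802 := rfl
theorem F38815 : act 2 n24802 = n11756 := d3_1 D24802 (iv6 D11756) (iv2 F19104)
def n24803 : Q := act 0 n11752
theorem D24803 : act 0 n11752 = n24803 := rfl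
theorem F38816 : act 5 n24803 = n13471 := d17_1 D24803 (iv1 F22611) F10466 F4409 (iv5 F4841) F11096 D14320 (iv0 F23931) (iv4 F19106)
theorem F38817 : act 6 n24803 = n11964 := d21_5 F22576 (iv1 F19738) (iv5 D11751) D11752 D24803 F23870 (iv1 D13734) (iv5 D6539) (iv6 F8391) D11764
theorem F38818 : act 2 n11757 = n24803 := d15_3 (iv0 D24803) F22607 (iv7 F22931)
theorem F38819 : act 7 n24803 = n11758 := d4_2 (iv7 F22931) F38818 F26052
theorem F38820 : act 1 n11759 = n24803 := d15_1 (iv0 F22606) F38819 F26052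
def n24804 : Q := act 7 n11752
theorem D24804 : act 7 n11752 = n24804 := rfl
theorem F38821 : act 2 n24804 = n11759 := d4_1 D24804 (iv7 D11759) (iv2 F19105)
theorem F38822 : act 4 n24804 = n14437 := d11_1 D24804 F24092 (iv4 F19106)
theorem F38823 : act 1 n11758 = n24804 := d15_1 D11758 (iv7 D24804) F19105
theorem F38824 : act 1 n24804 = n11757 := d15_1 F38823 F22931 (iv2 F26052)
def n24805 : Q := act 3 n11753
theorem D24805 : act 3 n11753 = n24805 := rfl
theorem F38825 : act 4 n24805 = n24588 := d20_6 D6996 F11259 (iv4 D5497) (iv3 F8379) D11753 D24805 (iv1 D24588) (iv4 D11630) F8219 (iv1 F4952)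
def n24806 : Q := act 4 n11753
theorem D24806 : act 4 n11753 = n24806 := rfl
def n24807 : Q := act 6 n11753
theorem D24807 : act 6 n11753 = n24807 := rfl
theorem F38826 : act 5 n24807 = n24349 := d12_1 D24807 (iv6 D24349) F22633 F22632 (iv5 F22592)
def n24808 : Q := act 3 n11754
theorem D24808 : act 3 n11754 = n24808 := rfl
theorem F38827 : act 5 n24808 = n13487 := d6_2 (iv5 F19733) D24808 F22644
theorem F38828 : act 4 n24490 = n24808 := d20_2 D11582 D24490 (iv3 D24808) (iv1 D11754) F8379 D5497 (iv1 F18979) (iv4 D11636) (iv3 F19598) (iv1 D11581)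
theorem F38829 : act 1 n24808 = n12093 := d18_8 F19102 F19101 (iv1 F18891) (iv4 D5391) D5392 D11599 F38449 F38828 (iv5 D12093)
theorem F38830 : act 1 n14596 = n24808 := d15_0 F38829 F20007 (iv2 F24253)
theorem F38831 : act 1 n13487 = n13945 := d17_8 F19267 (iv5 F20335) (iv1 F20336) (iv5 D6975) D6974 D14596 F38830 F38827 F23226
theorem F38832 : act 2 n14605 = n24808 := d2_3 F38827 F22643 (iv5 F37740)
theorem F38833 : act 7 n14604 = n24808 := d15_2 F37739 F37741 (iv2 F38832)
theorem F38834 : act 3 n11960 = n14604 := d8_3 F38833 (iv3 D24808) (iv7 F22582)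
def n24809 : Q := act 4 n11754
theorem D24809 : act 4 n11754 = n24809 := rfl
def n24810 : Q := act 6 n11754
theorem D24810 : act 6 n11754 = n24810 := rfl
theorem F38835 : act 5 n24810 = n13491 := d12_1 D24810 (iv6 D13491) (iv5 D6418) D6419 (iv5 F19733)
def n24811 : Q := act 0 n11755
theorem D24811 : act 0 n11755 = n24811 := rfl
def n24812 : Q := act 1 n11755
theorem D24812 : act 1 n11755 = n24812 := rfl
theorem F38836 : act 4 n24812 = n14408 := d18_7 F18994 (iv4 D11652) (iv1 D5411) F10030 D5495 D11755 D24812 (iv0 F36879) (iv5 D23712)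
def n24813 : Q := act 3 n11755
theorem D24813 : act 3 n11755 = n24813 := rfl
theorem F38837 : act 4 n24813 = n11760 := d5_2 D11755 D24813 (iv3 D11760) (iv4 D5497) (iv3 F8379)
def n24814 : Q := act 5 n11755
theorem D24814 : act 5 n11755 = n24814 := rfl
def n24815 : Q := act 6 n11755
theorem D24815 : act 6 n11755 = n24815 := rfl
theorem F38838 : act 4 n24815 = n11756 := d10_1 D24815 (iv6 D11756) D11755
def n24816 : Q := act 0 n11756
theorem D24816 : act 0 n11756 = n24816 := rfl
def n24817 : Q := act 7 n11756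
theorem D24817 : act 7 n11756 = n24817 := rfl
theorem F38839 : act 3 n24817 = n11763 := d8_1 D24817 (iv7 D11763) (iv3 F19107)
def n24818 : Q := act 3 n11757
theorem D24818 : act 3 n11757 = n24818 := rfl
theorem F38840 : act 5 n24818 = n13493 := d6_2 F22614 D24818 (iv3 D13493)
theorem F38841 : act 7 n24818 = n24333 := d8_2 (iv7 F22931) D24818 F38132
def n24819 : Q := act 4 n11757
theorem D24819 : act 4 n11757 = n24819 := rfl
theorem F38842 : act 7 n24819 = n24336 := d11_2 (iv7 F22931) D24819 F38148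
theorem F38843 : act 5 n24819 = n14459 := d17_5 (iv1 D2812) D2813 D6420 F22614 D24819 F24109 (iv5 D11768) (iv0 F18104) (iv4 D6417)
def n24820 : Q := act 6 n11757
theorem D24820 : act 6 n11757 = n24820 := rfl
theorem F38844 : act 2 n24820 = n11964 := d3_1 D24820 (iv6 F38817) (iv2 F38818)
theorem F38845 : act 7 n24820 = n11963 := d14_2 (iv7 F22931) D24820 F23863 F22900 D11469
theorem F38846 : act 0 n24820 = n11958 := d21_4 D2813 D6420 F22614 D24820 (iv6 D11958) D11957 (iv1 F19732) F19733 (iv6 D6419) (iv1 D2812)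
theorem F38847 : act 5 n24820 = n13985 := d21_6 (iv5 F19733) (iv1 D11754) (iv5 D5495) D5496 D11757 D24820 (iv1 F23309) (iv5 D13455) F19536 (iv1 F22596)
theorem F38848 : act 0 n11965 = n24820 := d21_4 D6418 (iv1 F22561) F20486 (iv6 F19745) (iv6 D24820) (iv5 F22614) (iv1 F22613) F22610 F10458 (iv1 F10460)
def n24821 : Q := act 0 n11760
theorem D24821 : act 0 n11760 = n24821 := rfl
def n24822 : Q := act 1 n11760
theorem D24822 : act 1 n11760 = n24822 := rfl
def n24823 : Q := act 2 n11760
theorem D24823 : act 2 n11760 = n24823 := rfl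
theorem F38849 : act 5 n24823 = n24700 := d2_2 (iv5 F19110) D24823 (iv2 D24700)
def n24824 : Q := act 6 n11760
theorem D24824 : act 6 n11760 = n24824 := rfl
theorem F38850 : act 3 n24824 = n11761 := d7_1 D24824 (iv6 D11761) D11760
def n24825 : Q := act 0 n11761
theorem D24825 : act 0 n11761 = n24825 := rfl
def n24826 : Q := act 5 n11761
theorem D24826 : act 5 n11761 = n24826 := rfl
theorem F38851 : act 6 n24826 = n24705 := d12_2 D11761 D24826 (iv5 D24705) (iv6 D11693) (iv5 F8381)
def n24827 : Q := act 7 n11761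
theorem D24827 : act 7 n11761 = n24827 := rfl
theorem F38852 : act 4 n24827 = n11763 := d11_1 D24827 (iv7 D11763) (iv4 F19111)
def n24828 : Q := act 3 n11762
theorem D24828 : act 3 n11762 = n24828 := rfl
def n24829 : Q := act 4 n11762
theorem D24829 : act 4 n11762 = n24829 := rfl
theorem F38853 : act 7 n24829 = n24598 := d11_2 (iv7 F19851) D24829 F38606
theorem F38854 : act 1 n24637 = n24829 := d15_1 F38795 F38853 (iv2 F38792)
theorem F38855 : act 2 n24829 = n24635 := d15_3 (iv0 D24635) (iv0 F38607) (iv7 F38853)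
theorem F38856 : act 4 n24635 = n12002 := d1_2 D24829 F38855 F19850
theorem F38857 : act 7 n24635 = n24780 := d4_2 (iv7 F38853) F38855 F38792
theorem F38858 : act 1 n24829 = n11925 := d15_0 (iv0 F38794) (iv7 F38857) (iv2 F38855)
def n24830 : Q := act 3 n11765
theorem D24830 : act 3 n11765 = n24830 := rfl
theorem F38859 : act 5 n24830 = n14604 := d6_2 (iv5 F22584) D24830 (iv3 F38834)
theorem F38860 : act 7 n24830 = n13487 := d8_2 (iv7 F22580) D24830 F22644
theorem F38861 : act 0 n14933 = n24830 := d20_4 F10009 D5545 (iv4 F11426) D14933 (iv3 D24830) (iv4 F38803) (iv1 F38804) F24600 F23819 (iv1 F18330)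
def n24831 : Q := act 6 n11765
theorem D24831 : act 6 n11765 = n24831 := rfl
theorem F38862 : act 2 n24831 = n13484 := d3_1 D24831 F22632 F22593
theorem F38863 : act 7 n24831 = n13469 := d14_2 (iv7 F22580) D24831 (iv6 D13469) F18942 D6419
theorem F38864 : act 0 n24831 = n11979 := d21_4 D11751 (iv1 F19739) (iv5 F22584) D24831 (iv6 D11979) (iv5 F9867) (iv1 F22342) (iv5 D11956) F19379 (iv1 F8625)
theorem F38865 : act 5 n24329 = n24831 := d21_2 D11463 D24329 (iv6 D24831) (iv1 D11765) F8391 D6539 D13733 F23861 F23863 (iv1 D11462)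
theorem F38866 : act 0 n13463 = n24831 := d21_4 (iv5 F23861) (iv1 F22978) (iv5 D13462) D13463 (iv6 D24831) F22584 (iv1 D11960) (iv5 D5637) D5638 D11963
def n24832 : Q := act 5 n11767
theorem D24832 : act 5 n11767 = n24832 := rfl
theorem F38867 : act 2 n24832 = n11768 := d2_1 D24832 (iv5 D11768) (iv2 F19113)
theorem F38868 : act 3 n24832 = n11786 := d6_1 D24832 (iv5 D11786) (iv3 F19114)
theorem F38869 : act 6 n24832 = n23784 := d12_2 D11767 D24832 (iv5 D23784) (iv6 D11138) (iv5 F8397)
theorem F38870 : act 4 n24832 = n14432 := d18_5 (iv1 F4822) D3104 (iv1 F11149) (iv4 F19115) D24832 F24084 (iv4 D6907) F11097 F11095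
theorem F38871 : act 0 n24832 = n23805 := d18_0 F37120 (iv1 F23940) F11189 F4841 (iv4 F4409) F10459 (iv4 F18109) F19117 D24832
def n24833 : Q := act 4 n11768
theorem D24833 : act 4 n11768 = n24833 := rfl
theorem F38872 : act 2 n24833 = n14432 := d1_1 D24833 (iv4 F38870) F38867
theorem F38873 : act 7 n24833 = n14431 := d11_2 F24570 D24833 (iv4 F24571)
theorem F38874 : act 0 n24833 = n14319 := d18_2 (iv1 F37124) D24833 (iv4 D14319) D14320 (iv4 F24079) (iv0 F24081) (iv4 F20030) (iv0 F38023) F38022
theorem F38875 : act 1 n24833 = n14324 := d18_6 (iv1 F4817) D6837 F11091 (iv4 F8402) D11768 D24833 (iv4 D14324) F11092 F4841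
def n24834 : Q := act 3 n11769
theorem D24834 : act 3 n11769 = n24834 := rfl
def n24835 : Q := act 3 n11770
theorem D24835 : act 3 n11770 = n24835 := rfl
theorem F38876 : act 4 n24835 = n24058 := d5_2 D11770 D24835 (iv3 D24058) (iv4 D11292) (iv3 F10343)
theorem F38877 : act 7 n24835 = n24228 := d8_2 (iv7 F19121) D24835 (iv3 D24228)
def n24836 : Q := act 0 n11772
theorem D24836 : act 0 n11772 = n24836 := rfl
def n24837 : Q := act 1 n11772
theorem D24837 : act 1 n11772 = n24837 := rfl
def n24838 : Q := act 2 n11772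
theorem D24838 : act 2 n11772 = n24838 := rfl
theorem F38878 : act 3 n24838 = n24232 := d0_2 D11772 D24838 (iv2 D24232) (iv3 D11393) (iv2 F8417)
theorem F38879 : act 4 n24838 = n12771 := d1_2 (iv4 F19127) D24838 (iv2 D12771)
theorem F38880 : act 6 n24838 = n12763 := d3_2 (iv6 F19128) D24838 (iv2 D12763)
def n24839 : Q := act 5 n11772
theorem D24839 : act 5 n11772 = n24839 := rfl
theorem F38881 : act 3 n24839 = n11773 := d6_1 D24839 (iv5 D11773) D11772
def n24840 : Q := act 7 n11772
theorem D24840 : act 7 n11772 = n24840 := rfl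
theorem F38882 : act 3 n24840 = n11774 := d8_1 D24840 (iv7 D11774) D11772
theorem F38883 : act 4 n24840 = n12773 := d11_1 D24840 (iv7 D12773) (iv4 F19127)
def n24841 : Q := act 4 n11773
theorem D24841 : act 4 n11773 = n24841 := rfl
theorem F38884 : act 2 n24841 = n24235 := d1_1 D24841 (iv4 D24235) (iv2 F19129)
theorem F38885 : act 5 n24841 = n24083 := d9_2 D11773 D24841 F37706 F18455 F7779 (iv5 F7909) (iv4 F18635) (iv5 F37996) F37995 (iv5 D24093) (iv4 D11313) (iv5 D5225) F3517 D2284 D5512
theorem F38886 : act 7 n24082 = n24841 := d13_0 F38885 (iv7 D24083) D24082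
def n24842 : Q := act 6 n11773
theorem D24842 : act 6 n11773 = n24842 := rfl
theorem F38887 : act 2 n24842 = n24236 := d3_1 D24842 (iv6 D24236) (iv2 F19129)
theorem F38888 : act 5 n24842 = n12765 := d12_1 D24842 (iv6 D12765) (iv5 D6036) (iv6 F8418) D11773
def n24843 : Q := act 7 n11773
theorem D24843 : act 7 n11773 = n24843 := rfl
theorem F38889 : act 2 n24843 = n24237 := d4_1 D24843 (iv7 D24237) (iv2 F19129)
theorem F38890 : act 4 n24843 = n24082 := d11_1 D24843 F38886 (iv4 D24841)
theorem F38891 : act 5 n24843 = n11774 := d13_1 D24843 (iv7 D11774) D11773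
theorem F38892 : act 1 n24012 = n24843 := d15_1 (iv0 F37543) (iv7 D24843) F19129
theorem F38893 : act 1 n24843 = n24007 := d15_1 F38892 (iv7 F37652) F37651
def n24844 : Q := act 5 n11775
theorem D24844 : act 5 n11775 = n24844 := rfl
theorem F38894 : act 2 n24844 = n11790 := d2_1 D24844 (iv5 D11790) (iv2 F19134)
theorem F38895 : act 3 n24844 = n23784 := d6_1 D24844 (iv5 D23784) (iv3 F19135)
theorem F38896 : act 6 n24844 = n11786 := d12_2 D11775 D24844 (iv5 D11786) (iv6 D5518) (iv5 F8426)
theorem F38897 : act 0 n24260 = n24844 := d21_7 (iv5 F4782) (iv1 D3053) (iv5 F4493) D6508 F19398 D11578 (iv5 F38031) (iv5 D24844) (iv6 D11775) F8428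
def n24845 : Q := act 5 n11776
theorem D24845 : act 5 n11776 = n24845 := rfl
theorem F38898 : act 2 n24845 = n13944 := d2_1 D24845 (iv5 D13944) (iv2 F19463)
def n24846 : Q := act 6 n11776
theorem D24846 : act 6 n11776 = n24846 := rfl
theorem F38899 : act 2 n24846 = n13945 := d3_1 D24846 (iv6 D13945) (iv2 F19463)
theorem F38900 : act 4 n24846 = n11833 := d10_1 D24846 (iv6 D11833) (iv4 F19464)
theorem F38901 : act 1 n11798 = n24846 := d17_8 F24296 (iv5 F18487) (iv1 D6982) (iv5 D3157) D3156 D6979 D14605 F37740 F38900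
theorem F38902 : act 1 n24846 = n24830 := d15_1 F38901 F38860 F22643
def n24847 : Q := act 0 n11778
theorem D24847 : act 0 n11778 = n24847 := rfl
theorem F38903 : act 2 n13955 = n24847 := d15_3 (iv0 D24847) (iv0 F37591) F37589
def n24848 : Q := act 4 n11778
theorem D24848 : act 4 n11778 = n24848 := rfl
theorem F38904 : act 6 n24848 = n24418 := d10_2 (iv6 F19138) D24848 (iv4 D24418)
theorem F38905 : act 1 n24848 = n24499 := d18_6 (iv1 F10981) (iv4 F18662) (iv1 F19471) F19136 D11778 D24848 (iv4 D24499) F18897 F10994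
def n24849 : Q := act 7 n11778
theorem D24849 : act 7 n11778 = n24849 := rfl
theorem F38906 : act 3 n24849 = n13467 := d8_1 D24849 (iv7 D13467) (iv3 F19137)
theorem F38907 : act 5 n24849 = n11779 := d13_1 D24849 (iv7 D11779) D11778
def n24850 : Q := act 5 n11780
theorem D24850 : act 5 n11780 = n24850 := rfl
theorem F38908 : act 2 n24850 = n13450 := d2_1 D24850 (iv5 D13450) (iv2 F19141)
theorem F38909 : act 3 n24850 = n11783 := d6_1 D24850 (iv5 D11783) (iv3 F19142)
theorem F38910 : act 6 n24850 = n13453 := d12_2 D11780 D24850 (iv5 D13453) (iv6 D6396) (iv5 F8433)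
def n24851 : Q := act 7 n11780
theorem D24851 : act 7 n11780 = n24851 := rfl
theorem F38911 : act 2 n24851 = n13451 := d4_1 D24851 (iv7 D13451) (iv2 F19141)
theorem F38912 : act 3 n24851 = n11784 := d8_1 D24851 (iv7 D11784) (iv3 F19142)
theorem F38913 : act 4 n24851 = n12046 := d11_1 D24851 (iv7 D12046) (iv4 F19143)
theorem F38914 : act 6 n24851 = n24851 := d14_1 D24851 (iv7 D24851) (iv6 D11780) F8434 D11780
theorem F38915 : act 1 n13449 = n24851 := d15_1 D13449 (iv7 D24851) F19141
theorem F38916 : act 1 n24851 = n13448 := d15_1 F38915 F22886 (iv2 F22894)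
def n24852 : Q := act 5 n11782
theorem D24852 : act 5 n11782 = n24852 := rfl
theorem F38917 : act 2 n24852 = n16525 := d2_1 D24852 (iv5 D16525) (iv2 F19509)
theorem F38918 : act 7 n24852 = n24845 := d13_2 (iv7 F19511) D24852 (iv5 D24845)
def n24853 : Q := act 6 n11782
theorem D24853 : act 6 n11782 = n24853 := rfl
theorem F38919 : act 2 n24853 = n16526 := d3_1 D24853 (iv6 D16526) (iv2 F19509)
theorem F38920 : act 4 n24853 = n11843 := d10_1 D24853 (iv6 D11843) (iv4 F19510)
theorem F38921 : act 1 n24853 = n11794 := d15_0 (iv0 F38726) F38725 (iv2 F38919)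
def n24854 : Q := act 0 n11783
theorem D24854 : act 0 n11783 = n24854 := rfl
def n24855 : Q := act 1 n11783
theorem D24855 : act 1 n11783 = n24855 := rfl
theorem F38922 : act 1 n24855 = n24849 := d15_1 D24855 (iv7 D24849) (iv2 F19145)
theorem F38923 : act 5 n24097 = n24855 := d21_6 D2289 F4746 (iv5 F4776) D6765 F19390 D24097 (iv1 D24855) (iv5 D11783) (iv6 D5517) (iv1 D2287)
theorem F38924 : act 2 n24855 = n24039 := d2_1 F38923 F37588 (iv2 F37742)
theorem F38925 : act 7 n24847 = n24855 := d4_0 F38924 F37589 F38903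
theorem F38926 : act 1 n24849 = n13955 := d15_1 F38922 (iv7 F37589) (iv2 F38924)
theorem E4757 : n24854 = n13955 := ((c15_4 (iv0 D24854) D24855 (iv7 F38925) (iv2 F38903))).symm
theorem F38927 : act 1 n13955 = n11783 := (sb E4757 (iv0 D24854))
def n24856 : Q := act 4 n11783
theorem D24856 : act 4 n11783 = n24856 := rfl
theorem F38928 : act 2 n24856 = n24848 := d1_1 D24856 (iv4 D24848) (iv2 F19145)
theorem F38929 : act 6 n24856 = n24440 := d10_2 (iv6 F19146) D24856 (iv4 D24440)
theorem F38930 : act 0 n24856 = n14175 := d18_2 (iv1 D24855) D24856 (iv4 D14175) (iv5 F23660) (iv4 F38442) (iv0 F38443) (iv4 F24450) (iv0 F37744) F38923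
theorem F38931 : act 1 n24856 = n14178 := d18_6 (iv1 F10988) D6743 F22921 F8441 D11783 D24856 (iv4 D14178) F23656 F23654
def n24857 : Q := act 7 n11783
theorem D24857 : act 7 n11783 = n24857 := rfl
theorem F38932 : act 2 n24857 = n24849 := d4_1 D24857 (iv7 D24849) (iv2 F19145)
theorem F38933 : act 5 n24857 = n11784 := d13_1 D24857 (iv7 D11784) D11783
theorem F38934 : act 1 n24039 = n24857 := d15_1 (iv0 F37591) (iv7 D24857) F19145
theorem F38935 : act 1 n24857 = n24847 := d15_1 F38934 F38925 F38924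
def n24858 : Q := act 5 n11785
theorem D24858 : act 5 n11785 = n24858 := rfl
theorem F38936 : act 2 n24858 = n11793 := d2_1 D24858 (iv5 D11793) F19154
theorem F38937 : act 7 n24858 = n11797 := d13_2 F19155 D24858 (iv5 D11797)
theorem F38938 : act 0 n24858 = n14610 := d17_2 D11785 D24858 (iv5 D14610) F11248 D6987 (iv0 F19256) (iv5 D11849) (iv0 D5559) (iv4 F8439)
theorem F38939 : act 1 n13486 = n14610 := d15_0 (iv0 F38938) F38937 (iv2 F22640)
theorem F38940 : act 1 n11793 = n14919 := d15_0 (iv0 F24577) (iv7 F38937) F38936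
def n24859 : Q := act 6 n11785
theorem D24859 : act 6 n11785 = n24859 := rfl
theorem F38941 : act 2 n24859 = n11794 := d3_1 D24859 (iv6 D11794) F19154
theorem F38942 : act 4 n24859 = n13337 := d10_1 D24859 (iv6 D13337) (iv4 F19152)
theorem F38943 : act 5 n24859 = n14221 := d21_6 F4776 (iv1 F8429) F8426 D5518 D11785 D24859 (iv1 D14221) (iv5 D6769) (iv6 D3054) D3052
theorem F38944 : act 2 n14221 = n24350 := d2_1 F38943 F38167 (iv2 F38941)
theorem F38945 : act 4 n14221 = n24425 := d18_5 (iv1 F24188) D14556 F38292 (iv4 F38942) F38943 F38364 F38362 F18858 (iv5 F24187)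
theorem F38946 : act 1 n16526 = n24859 := d18_8 (iv1 D14221) D14222 F26167 (iv4 D16535) F11932 (iv4 F19300) (iv0 F19993) (iv4 F26139) F38943
def n24860 : Q := act 0 n11786
theorem D24860 : act 0 n11786 = n24860 := rfl
def n24861 : Q := act 4 n11786
theorem D24861 : act 4 n11786 = n24861 := rfl
theorem F38947 : act 2 n24861 = n11801 := d1_1 D24861 (iv4 D11801) (iv2 F19159)
theorem F38948 : act 0 n24861 = n14648 := d18_2 F23744 D24861 (iv4 D14648) D14649 F24330 (iv0 D14600) (iv4 F24255) F24283 (iv5 F23743)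
theorem F38949 : act 1 n24861 = n12310 := d18_6 (iv1 D5832) (iv4 F9909) (iv1 D5560) (iv4 F8439) D11786 D24861 (iv4 D12310) (iv0 F20385) (iv5 D12290)
def n24862 : Q := act 7 n11786
theorem D24862 : act 7 n11786 = n24862 := rfl
theorem F38950 : act 2 n24862 = n11802 := d4_1 D24862 (iv7 D11802) (iv2 F19159)
theorem F38951 : act 5 n24862 = n11787 := d13_1 D24862 (iv7 D11787) D11786
theorem F38952 : act 1 n11802 = n24860 := d15_0 (iv0 D24860) D24862 F38950
theorem F38953 : act 1 n11800 = n24862 := d15_1 D11800 (iv7 D24862) F19159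
theorem F38954 : act 7 n24860 = n11800 := d15_2 F23745 F38952 F24278
theorem F38955 : act 2 n24860 = n11799 := d15_3 (iv0 D11799) D11800 (iv7 F38954)
theorem F38956 : act 7 n11799 = n13497 := d4_2 (iv7 F38954) F38955 (iv2 F24278)
theorem F38957 : act 3 n13471 = n11799 := d8_3 F38956 (iv3 D13497) (iv7 F22933)
theorem F38958 : act 1 n24862 = n11799 := d15_1 F38953 F38956 (iv2 F24278)
theorem F38959 : act 5 n11799 = n14608 := d17_7 D6985 F19279 (iv1 F19278) F19275 (iv4 F19161) (iv5 F38951) F38958 (iv0 D14608) F11248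
theorem F38960 : act 3 n14608 = n24803 := d6_1 F38959 F38816 F38957
theorem F38961 : act 7 n14608 = n14216 := d13_2 (iv7 F38956) F38959 (iv5 F23743)
theorem F38962 : act 4 n14651 = n24862 := d18_3 F19320 D7000 D14651 F38951 F19161 F8488 (iv4 F9978) F19315 D6730
theorem F38963 : act 7 n24861 = n14651 := d11_0 F38962 (iv7 D24862) D24861
def n24863 : Q := act 0 n11790
theorem D24863 : act 0 n11790 = n24863 := rfl
theorem F38964 : act 5 n24863 = n24485 := d17_3 F22921 D11790 D24863 F38442 F23660 (iv0 D6746) (iv5 D3032) D3031 D6743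
theorem F38965 : act 3 n24244 = n24863 := d6_3 F38964 F38441 (iv5 F38009)
theorem F38966 : act 7 n24260 = n24863 := d13_0 F38964 (iv7 D24485) (iv5 F38031)
def n24864 : Q := act 1 n11790
theorem D24864 : act 1 n11790 = n24864 := rfl
theorem F38967 : act 5 n24457 = n24864 := d21_6 (iv5 F4776) (iv1 F4777) (iv5 F8184) D11510 (iv1 F19377) D24457 (iv1 D24864) (iv5 D11790) (iv6 D5519) F4746
theorem F38968 : act 2 n24864 = n24260 := d2_1 F38967 F38031 (iv2 F38392)
def n24865 : Q := act 4 n11790
theorem D24865 : act 4 n11790 = n24865 := rfl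
theorem F38969 : act 6 n24865 = n11801 := d10_2 (iv6 F19166) D24865 (iv4 D11801)
theorem F38970 : act 0 n24865 = n14501 := d20_7 (iv4 F11957) (iv1 F11958) F11207 (iv3 F11301) F19422 (iv3 F19165) D24865 (iv4 D14501) (iv3 D6927) (iv1 F5479)
def n24866 : Q := act 7 n11790
theorem D24866 : act 7 n11790 = n24866 := rfl
theorem F38971 : act 3 n24866 = n11816 := d8_1 D24866 (iv7 D11816) (iv3 F19165)
theorem F38972 : act 5 n24866 = n11791 := d13_1 D24866 (iv7 D11791) D11790
theorem F38973 : act 1 n24260 = n24866 := d15_1 (iv0 F38897) (iv7 D24866) (iv2 F38894)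
def n24867 : Q := act 5 n11792
theorem D24867 : act 5 n11792 = n24867 := rfl
theorem F38974 : act 2 n24867 = n13336 := d2_1 D24867 (iv5 D13336) (iv2 F19170)
theorem F38975 : act 3 n24867 = n23795 := d6_1 D24867 (iv5 D23795) (iv3 F19171)
theorem F38976 : act 0 n24867 = n24515 := d17_2 F19350 D24867 (iv5 D24515) F18953 D11603 (iv0 F19425) (iv5 D6948) F19355 (iv4 F10967)
def n24868 : Q := act 6 n11792
theorem D24868 : act 6 n11792 = n24868 := rfl
theorem F38977 : act 2 n24868 = n13337 := d3_1 D24868 (iv6 D13337) (iv2 F19170)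
theorem F38978 : act 3 n24868 = n23796 := d7_1 D24868 (iv6 D23796) (iv3 F19171)
theorem F38979 : act 4 n24868 = n11794 := d10_1 D24868 (iv6 D11794) D11792
theorem F38980 : act 5 n24868 = n24439 := d21_6 F4493 D3052 F4776 D6721 F19350 D24868 (iv1 D24439) (iv5 D11535) (iv6 D5375) F4495
theorem F38981 : act 2 n24439 = n24417 := d2_1 F38980 (iv5 F38290) (iv2 F38977)
theorem F38982 : act 0 n24768 = n24868 := d17_0 F38980 (iv1 D24439) (iv5 D11535) F8198 D5378 D11548 (iv5 F19424) D14538 (iv4 F38761)
theorem F38983 : act 1 n14169 = n24868 := d18_8 (iv1 D24439) D24440 F38332 (iv4 D14233) (iv5 F19501) F19300 (iv0 F23682) (iv4 F23690) F38980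
theorem F38984 : act 0 n14166 = n24582 := d20_4 (iv4 F38979) (iv1 F38983) F23690 (iv3 F23684) F38595 F22270 (iv1 F10363) D11707 D24743 F38726
theorem F38985 : act 7 n24416 = n24439 := d4_0 F38981 (iv7 F38294) F38296
theorem E4758 : n24438 = n13721 := (c15_2 F38329 F38335 F38294 (iv2 F38981))
theorem F38986 : act 0 n13721 = n24419 := (sb E4758 (iv1 F38335))
theorem F38987 : act 1 n13721 = n11535 := (sb E4758 (iv0 D24438))
def n24869 : Q := act 0 n11793
theorem D24869 : act 0 n11793 = n24869 := rfl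
theorem F38988 : act 5 n24869 = n14597 := d17_3 D5520 D11793 D24869 F24255 (iv5 F19286) (iv0 D11857) (iv5 D5565) (iv0 D2310) (iv4 F3660)
theorem F38989 : act 2 n14610 = n24869 := d15_3 (iv0 D24869) F38940 F24575
theorem F38990 : act 1 n11797 = n24869 := d15_0 (iv0 D24869) (iv7 F22642) F22640
theorem F38991 : act 4 n14545 = n24869 := d18_3 (iv1 D6951) D6952 D14545 F38988 F24255 F18390 (iv4 F11915) F19441 F19443
def n24870 : Q := act 4 n11793
theorem D24870 : act 4 n11793 = n24870 := rfl
theorem F38992 : act 0 n24870 = n24524 := d18_2 (iv1 F38940) D24870 (iv4 D24524) (iv5 D11603) (iv4 F18953) (iv0 F38286) F38285 F24282 (iv5 F24574)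
def n24871 : Q := act 6 n11793
theorem D24871 : act 6 n11793 = n24871 := rfl
def n24872 : Q := act 7 n11794
theorem D24872 : act 7 n11794 = n24872 := rfl
theorem F38993 : act 3 n24872 = n24831 := d8_1 D24872 F38863 F22599
theorem F38994 : act 5 n24872 = n14220 := d13_1 D24872 (iv7 F38368) F38167
theorem F38995 : act 6 n24872 = n24830 := d14_1 D24872 F38860 (iv6 D13487) F18943 D11794
def n24873 : Q := act 5 n11795
theorem D24873 : act 5 n11795 = n24873 := rfl
theorem F38996 : act 2 n24873 = n24503 := d2_1 D24873 (iv5 D24503) (iv2 F19173)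
theorem F38997 : act 3 n24873 = n11797 := d6_1 D24873 (iv5 D11797) D11795
def n24874 : Q := act 6 n11795
theorem D24874 : act 6 n11795 = n24874 := rfl
theorem F38998 : act 2 n24874 = n24504 := d3_1 D24874 (iv6 D24504) (iv2 F19173)
theorem F38999 : act 3 n24874 = n11798 := d7_1 D24874 (iv6 D11798) D11795
theorem F39000 : act 4 n24874 = n24502 := d10_1 D24874 (iv6 D24502) F19174
def n24875 : Q := act 5 n11796
theorem D24875 : act 5 n11796 = n24875 := rfl
theorem F39001 : act 3 n24875 = n13330 := d6_1 D24875 (iv5 D13330) (iv3 F19176)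
theorem F39002 : act 7 n24875 = n13336 := d13_2 (iv7 F19175) D24875 (iv5 D13336)
theorem F39003 : act 1 n24875 = n24515 := d17_6 (iv1 F24283) (iv5 F38988) (iv1 F38990) (iv5 D11797) D11796 D24875 (iv5 D24515) (iv0 F38286) F38285
def n24876 : Q := act 6 n11796
theorem D24876 : act 6 n11796 = n24876 := rfl
theorem F39004 : act 3 n24876 = n13331 := d7_1 D24876 (iv6 D13331) (iv3 F19176)
theorem F39005 : act 4 n24876 = n11798 := d10_1 D24876 (iv6 D11798) D11796
theorem F39006 : act 5 n14785 = n24876 := d21_2 D24456 F38390 (iv6 D24876) (iv1 F19351) (iv6 D6721) (iv5 F4776) (iv1 F4777) (iv5 F8184) D11510 (iv1 F19377)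
theorem F39007 : act 1 n24876 = n24545 := d17_8 F24219 (iv5 F19596) (iv1 F19601) (iv5 D11557) (iv4 F18113) D23801 F38391 F39006 (iv4 D24545)
def n24877 : Q := act 4 n11797
theorem D24877 : act 4 n11797 = n24877 := rfl
theorem F39008 : act 1 n24877 = n24524 := d18_6 (iv1 F8978) D12289 F20381 (iv4 D11796) D11797 D24877 (iv4 D24524) (iv0 F19425) (iv5 D6948)
def n24878 : Q := act 6 n11797
theorem D24878 : act 6 n11797 = n24878 := rfl
def n24879 : Q := act 7 n11798
theorem D24879 : act 7 n11798 = n24879 := rfl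
theorem F39009 : act 2 n24879 = n24830 := d4_1 D24879 F38860 F22643
theorem F39010 : act 1 n13945 = n24879 := d15_1 F38831 (iv7 D24879) (iv2 F22643)
def n24880 : Q := act 4 n11799
theorem D24880 : act 4 n11799 = n24880 := rfl
theorem F39011 : act 0 n14147 = n24880 := d20_1 D14147 (iv4 D24880) (iv3 F38957) (iv1 F22611) F10465 (iv4 F10470) (iv1 F10471) (iv4 D5843) D5842 F19551
def n24881 : Q := act 6 n11799
theorem D24881 : act 6 n11799 = n24881 := rfl
def n24882 : Q := act 3 n11800
theorem D24882 : act 3 n11800 = n24882 := rfl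
def n24883 : Q := act 4 n11800
theorem D24883 : act 4 n11800 = n24883 := rfl
theorem F39012 : act 0 n24883 = n14147 := d18_2 (iv1 F38953) D24883 (iv4 D14147) (iv5 D6724) (iv4 F10967) F19351 (iv4 D11796) F19163 (iv5 F38951)
def n24884 : Q := act 6 n11800
theorem D24884 : act 6 n11800 = n24884 := rfl
def n24885 : Q := act 1 n11801
theorem D24885 : act 1 n11801 = n24885 := rfl
theorem F39013 : act 1 n24885 = n14651 := d15_1 D24885 (iv7 F38963) F38947
theorem F39014 : act 7 n24885 = n14648 := d15_2 (iv0 F19178) D24885 F24327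
theorem F39015 : act 4 n24885 = n12309 := d18_7 (iv1 F10146) (iv4 D5569) (iv1 D2311) (iv4 F3660) D5522 D11801 D24885 F20432 (iv5 D6941)
theorem F39016 : act 2 n12310 = n24885 := d1_3 F39015 (iv2 D12309) D12310
def n24886 : Q := act 3 n11801
theorem D24886 : act 3 n11801 = n24886 := rfl
theorem F39017 : act 4 n24886 = n11826 := d5_2 D11801 D24886 (iv3 D11826) (iv4 D5539) (iv3 F8442)
def n24887 : Q := act 5 n11801
theorem D24887 : act 5 n11801 = n24887 := rfl
theorem F39018 : act 0 n24887 = n14548 := d17_2 (iv1 D24885) D24887 (iv5 D14548) (iv4 D6952) (iv5 D3135) F19315 D6730 F20433 (iv4 F39015)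
def n24888 : Q := act 7 n11801
theorem D24888 : act 7 n11801 = n24888 := rfl
theorem F39019 : act 2 n24888 = n14651 := d4_1 D24888 (iv7 F38963) F38947
theorem F39020 : act 4 n24888 = n11802 := d11_1 D24888 (iv7 D11802) D11801
theorem F39021 : act 1 n12310 = n24888 := d15_1 F38949 (iv7 D24888) (iv2 F38947)
theorem F39022 : act 1 n24888 = n14648 := d15_1 F39021 (iv7 F39014) (iv2 F39016)
def n24889 : Q := act 6 n11802
theorem D24889 : act 6 n11802 = n24889 := rfl
theorem F39023 : act 3 n24889 = n11829 := d7_1 D24889 (iv6 D11829) (iv3 F19179)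
theorem F39024 : act 5 n24889 = n24889 := d12_1 D24889 (iv6 D24889) F19180 F8445 (iv5 F19180)
def n24890 : Q := act 4 n11806
theorem D24890 : act 4 n11806 = n24890 := rfl
theorem F39025 : act 2 n24890 = n16566 := d1_1 D24890 (iv4 D16566) (iv2 F19526)
def n24891 : Q := act 6 n11806
theorem D24891 : act 6 n11806 = n24891 := rfl
theorem F39026 : act 2 n24891 = n16567 := d3_1 D24891 (iv6 D16567) (iv2 F19526)
def n24892 : Q := act 4 n11813
theorem D24892 : act 4 n11813 = n24892 := rfl
theorem F39027 : act 2 n24892 = n24129 := d1_1 D24892 F37808 F19423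
theorem F39028 : act 7 n24892 = n24130 := d11_2 (iv7 F22150) D24892 F37810
theorem F39029 : act 0 n24892 = n24133 := d18_2 D11813 D24892 F37813 F18501 (iv4 F9845) F9849 F19507 (iv0 D5524) D5526
theorem F39030 : act 1 n24892 = n23991 := d18_6 (iv1 F24461) (iv4 D14801) F24436 F24432 F24433 D24892 (iv4 D23991) F26100 F26099
def n24893 : Q := act 6 n11813
theorem D24893 : act 6 n11813 = n24893 := rfl
theorem F39031 : act 2 n24893 = n24269 := d3_1 D24893 (iv6 D24269) F19423
def n24894 : Q := act 3 n11815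
theorem D24894 : act 3 n11815 = n24894 := rfl
theorem F39032 : act 6 n24894 = n11826 := d7_2 (iv6 F19183) D24894 (iv3 D11826)
def n24895 : Q := act 5 n11815
theorem D24895 : act 5 n11815 = n24895 := rfl
def n24896 : Q := act 7 n11815
theorem D24896 : act 7 n11815 = n24896 := rfl
theorem F39033 : act 4 n24896 = n11816 := d11_1 D24896 (iv7 D11816) D11815
def n24897 : Q := act 6 n11816
theorem D24897 : act 6 n11816 = n24897 := rfl
theorem F39034 : act 5 n24897 = n24897 := d12_1 D24897 (iv6 D24897) F19184 F8447 (iv5 F19184)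
theorem F39035 : act 7 n24897 = n11829 := d14_2 D11816 D24897 (iv6 D11829) (iv7 D5540) (iv6 F8446)
def n24898 : Q := act 3 n11817
theorem D24898 : act 3 n11817 = n24898 := rfl
theorem F39036 : act 5 n24898 = n14729 := d6_2 F19202 D24898 F24390
theorem F39037 : act 7 n24898 = n24217 := d8_2 (iv7 F19186) D24898 (iv3 D24217)
def n24899 : Q := act 6 n11817
theorem D24899 : act 6 n11817 = n24899 := rfl
theorem F39038 : act 2 n24899 = n24204 := d3_1 D24899 (iv6 D24204) (iv2 F19185)
theorem F39039 : act 4 n24899 = n11818 := d10_1 D24899 (iv6 D11818) D11817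
def n24900 : Q := act 0 n11818
theorem D24900 : act 0 n11818 = n24900 := rfl
theorem F39040 : act 5 n24900 = n14797 := d21_0 (iv1 D14797) D14798 F24447 F19422 F8446 (iv5 D2294) D2292 D5531 D11818 D24900
def n24901 : Q := act 1 n11818
theorem D24901 : act 1 n11818 = n24901 := rfl
theorem F39041 : act 1 n24901 = n24208 := d15_1 D24901 (iv7 D24208) (iv2 F19187)
def n24902 : Q := act 5 n11818
theorem D24902 : act 5 n11818 = n24902 := rfl
theorem F39042 : act 2 n24902 = n24207 := d2_1 D24902 (iv5 D24207) (iv2 F19187)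
theorem F39043 : act 6 n24902 = n11819 := d12_2 D11818 D24902 (iv5 D11819) (iv6 D5532) D5531
theorem F39044 : act 5 n14796 = n24901 := d21_0 (iv1 D24901) D24902 F39043 F19189 (iv6 F10582) (iv5 D6516) (iv1 F19359) D3215 D7052 D14796
def n24903 : Q := act 7 n11818
theorem D24903 : act 7 n11818 = n24903 := rfl
theorem F39045 : act 2 n24903 = n24208 := d4_1 D24903 (iv7 D24208) (iv2 F19187)
theorem F39046 : act 6 n24903 = n24222 := d14_1 D24903 (iv7 D24222) (iv6 D11381) F10175 D11818
theorem F39047 : act 1 n24208 = n24900 := d15_0 (iv0 D24900) D24903 F39045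
theorem F39048 : act 1 n24206 = n24903 := d15_1 D24206 (iv7 D24903) F19187
theorem F39049 : act 1 n24903 = n24205 := d15_0 (iv0 D24205) D24208 (iv2 F39045)
def n24904 : Q := act 4 n11819
theorem D24904 : act 4 n11819 = n24904 := rfl
theorem F39050 : act 2 n24904 = n24211 := d1_1 D24904 (iv4 D24211) (iv2 F19188)
theorem F39051 : act 0 n24904 = n12037 := d18_2 (iv1 F19869) D24904 (iv4 D12037) (iv5 D5700) F3760 D2780 F10076 F8746 (iv5 F19868)
def n24905 : Q := act 4 n11821
theorem D24905 : act 4 n11821 = n24905 := rfl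
theorem F39052 : act 2 n24905 = n23817 := d1_1 D24905 (iv4 D23817) (iv2 F19195)
def n24906 : Q := act 6 n11821
theorem D24906 : act 6 n11821 = n24906 := rfl
theorem F39053 : act 2 n24906 = n23818 := d3_1 D24906 (iv6 D23818) (iv2 F19195)
theorem F39054 : act 3 n24906 = n11823 := d7_1 D24906 (iv6 D11823) D11821
def n24907 : Q := act 3 n11822
theorem D24907 : act 3 n11822 = n24907 := rfl
theorem F39055 : act 5 n24907 = n14927 := d6_2 (iv5 F19198) D24907 (iv3 D14927)
theorem F39056 : act 7 n24907 = n24187 := d8_2 (iv7 F19197) D24907 (iv3 D24187)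
def n24908 : Q := act 6 n11822
theorem D24908 : act 6 n11822 = n24908 := rfl
theorem F39057 : act 2 n24908 = n24186 := d3_1 D24908 (iv6 D24186) (iv2 F19196)
theorem F39058 : act 4 n24908 = n11823 := d10_1 D24908 (iv6 D11823) D11822
def n24909 : Q := act 0 n11823
theorem D24909 : act 0 n11823 = n24909 := rfl
def n24910 : Q := act 1 n11823
theorem D24910 : act 1 n11823 = n24910 := rfl
def n24911 : Q := act 5 n11823
theorem D24911 : act 5 n11823 = n24911 := rfl
theorem F39059 : act 6 n24911 = n24030 := d12_2 D11823 D24911 F37564 F22685 F18307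
theorem F39060 : act 0 n24911 = n13717 := d21_4 (iv5 F20011) F22688 (iv5 F37564) (iv6 F39059) (iv6 D13717) (iv5 D6530) (iv1 D2900) D2901 (iv6 F4661) D6635
def n24912 : Q := act 7 n11823
theorem D24912 : act 7 n11823 = n24912 := rfl
def n24913 : Q := act 6 n11824
theorem D24913 : act 6 n11824 = n24913 := rfl
theorem F39061 : act 2 n24913 = n24188 := d3_1 D24913 (iv6 D24188) (iv2 F19201)
theorem F39062 : act 4 n24913 = n11825 := d10_1 D24913 (iv6 D11825) D11824
def n24914 : Q := act 0 n11825
theorem D24914 : act 0 n11825 = n24914 := rfl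
def n24915 : Q := act 1 n11825
theorem D24915 : act 1 n11825 = n24915 := rfl
def n24916 : Q := act 7 n11825
theorem D24916 : act 7 n11825 = n24916 := rfl
theorem F39063 : act 3 n24916 = n23824 := d8_1 D24916 (iv7 D23824) (iv3 F19210)
def n24917 : Q := act 0 n11826
theorem D24917 : act 0 n11826 = n24917 := rfl
def n24918 : Q := act 1 n11826
theorem D24918 : act 1 n11826 = n24918 := rfl
def n24919 : Q := act 2 n11826
theorem D24919 : act 2 n11826 = n24919 := rfl
def n24920 : Q := act 5 n11826
theorem D24920 : act 5 n11826 = n24920 := rfl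
theorem F39064 : act 3 n24920 = n11827 := d6_1 D24920 (iv5 D11827) D11826
theorem F39065 : act 7 n24834 = n24920 := d8_0 F39064 F19212 D24834
def n24921 : Q := act 7 n11826
theorem D24921 : act 7 n11826 = n24921 := rfl
theorem F39066 : act 3 n24921 = n11828 := d8_1 D24921 (iv7 D11828) D11826
theorem F39067 : act 5 n24921 = n24834 := d13_1 D24921 F39065 (iv5 D24920)
def n24922 : Q := act 6 n11827
theorem D24922 : act 6 n11827 = n24922 := rfl
theorem F39068 : act 4 n24922 = n14918 := d10_1 D24922 (iv6 D14918) (iv4 F19211)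
def n24923 : Q := act 6 n11828
theorem D24923 : act 6 n11828 = n24923 := rfl
theorem F39069 : act 2 n24923 = n24922 := d3_1 D24923 (iv6 D24922) (iv2 F19215)
theorem F39070 : act 4 n24923 = n11829 := d10_1 D24923 (iv6 D11829) (iv4 F19216)
def n24924 : Q := act 0 n11829
theorem D24924 : act 0 n11829 = n24924 := rfl
def n24925 : Q := act 1 n11829
theorem D24925 : act 1 n11829 = n24925 := rfl
def n24926 : Q := act 4 n11832
theorem D24926 : act 4 n11832 = n24926 := rfl
theorem F39071 : act 2 n24926 = n14482 := d1_1 D24926 (iv4 D14482) (iv2 F19223)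
def n24927 : Q := act 6 n11832
theorem D24927 : act 6 n11832 = n24927 := rfl
theorem F39072 : act 2 n24927 = n14483 := d3_1 D24927 (iv6 D14483) (iv2 F19223)
theorem F39073 : act 3 n24927 = n24421 := d7_1 D24927 (iv6 D24421) (iv3 F19549)
theorem F39074 : act 5 n24927 = n14686 := d12_1 D24927 (iv6 D14686) (iv5 F19225) (iv6 D11833) D11832
def n24928 : Q := act 4 n11834
theorem D24928 : act 4 n11834 = n24928 := rfl
theorem F39075 : act 2 n24928 = n14501 := d1_1 D24928 (iv4 D14501) F19226
def n24929 : Q := act 6 n11834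
theorem D24929 : act 6 n11834 = n24929 := rfl
theorem F39076 : act 2 n24929 = n14502 := d3_1 D24929 (iv6 D14502) F19226
theorem F39077 : act 3 n24929 = n24423 := d7_1 D24929 (iv6 D24423) (iv3 F19559)
theorem F39078 : act 5 n24929 = n24521 := d21_6 (iv5 D5835) F19356 D6724 F10968 D11834 D24929 (iv1 D24521) D24522 F38498 (iv1 F19426)
def n24930 : Q := act 0 n11835
theorem D24930 : act 0 n11835 = n24930 := rfl
theorem F39079 : act 4 n24930 = n24863 := d18_3 F11940 D11835 D24930 F38964 F38442 (iv0 F23693) (iv4 F20348) (iv0 D12278) (iv5 F11938)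
def n24931 : Q := act 1 n11835
theorem D24931 : act 1 n11835 = n24931 := rfl
def n24932 : Q := act 3 n11835
theorem D24932 : act 3 n11835 = n24932 := rfl
def n24933 : Q := act 5 n11835
theorem D24933 : act 5 n11835 = n24933 := rfl
def n24934 : Q := act 7 n11835
theorem D24934 : act 7 n11835 = n24934 := rfl
theorem F39080 : act 4 n24934 = n11836 := d11_1 D24934 (iv7 D11836) D11835
def n24935 : Q := act 6 n11836
theorem D24935 : act 6 n11836 = n24935 := rfl
theorem F39081 : act 5 n24935 = n24935 := d12_1 D24935 (iv6 D24935) F19227 F8463 (iv5 F19227)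
theorem F39082 : act 7 n24935 = n14534 := d14_2 D11836 D24935 (iv6 D14534) (iv7 F19435) F10968
def n24936 : Q := act 5 n11837
theorem D24936 : act 5 n11837 = n24936 := rfl
theorem F39083 : act 2 n24936 = n12020 := d2_1 D24936 (iv5 D12020) (iv2 F19228)
theorem F39084 : act 3 n24936 = n14206 := d6_1 D24936 (iv5 D14206) (iv3 F19229)
theorem F39085 : act 6 n24936 = n24239 := d12_2 D11837 D24936 (iv5 D24239) (iv6 D11397) (iv5 F8467)
def n24937 : Q := act 0 n11839
theorem D24937 : act 0 n11839 = n24937 := rfl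
theorem F39086 : act 5 n24937 = n14378 := d17_3 F19937 D11839 D24937 F24022 (iv5 F22547) (iv0 D7666) (iv5 D3473) D3472 D7663
theorem F39087 : act 2 n16504 = n24937 := d15_3 (iv0 D24937) (iv0 F23986) (iv7 F26095)
theorem F39088 : act 3 n24937 = n23990 := d0_2 D16504 F39087 F37495 (iv3 F37497) (iv2 F26065)
theorem F39089 : act 7 n24937 = n14377 := d4_2 (iv7 F26095) F39087 F24018
theorem F39090 : act 4 n24353 = n24937 := d20_2 D11477 D24353 F39088 (iv1 F37492) (iv3 F18837) (iv4 F38305) (iv1 F38358) F38359 (iv3 D24350) (iv1 D11476)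
def n24938 : Q := act 4 n11839
theorem D24938 : act 4 n11839 = n24938 := rfl
def n24939 : Q := act 7 n11839
theorem D24939 : act 7 n11839 = n24939 := rfl
theorem F39091 : act 3 n24939 = n11847 := d8_1 D24939 (iv7 D11847) (iv3 F19232)
theorem F39092 : act 5 n24939 = n11840 := d13_1 D24939 (iv7 D11840) D11839
theorem F39093 : act 1 n14377 = n24939 := d15_1 (iv0 F24020) (iv7 D24939) (iv2 F19929)
theorem F39094 : act 1 n24939 = n16504 := d15_1 F39093 F26095 (iv2 F24018)
def n24940 : Q := act 4 n11842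
theorem D24940 : act 4 n11842 = n24940 := rfl
theorem F39095 : act 2 n24940 = n16528 := d1_1 D24940 (iv4 D16528) (iv2 F19237)
theorem F39096 : act 7 n24940 = n24926 := d11_2 (iv7 F19238) D24940 (iv4 D24926)
def n24941 : Q := act 6 n11842
theorem D24941 : act 6 n11842 = n24941 := rfl
theorem F39097 : act 2 n24941 = n16529 := d3_1 D24941 (iv6 D16529) (iv2 F19237)
theorem F39098 : act 3 n24941 = n24443 := d7_1 D24941 (iv6 D24443) F19547
def n24942 : Q := act 0 n11843
theorem D24942 : act 0 n11843 = n24942 := rfl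
theorem F39099 : act 6 n24942 = n11874 := d21_5 (iv5 F24117) (iv1 F24118) (iv5 D11842) D11843 D24942 F20344 (iv1 D12275) (iv5 D5823) D5824 D12278
theorem F39100 : act 5 n24942 = n14210 := d21_0 (iv1 F23730) F11034 F4790 (iv1 F11007) F20350 (iv5 F24117) (iv1 F24118) (iv5 D11842) D11843 D24942
theorem F39101 : act 2 n11864 = n24942 := d15_3 (iv0 D24942) F19295 D11864
theorem F39102 : act 4 n24942 = n14539 := d1_2 (iv4 F19300) F39101 F24186
theorem F39103 : act 7 n24942 = n11850 := d4_2 D11864 F39101 F19257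
theorem F39104 : act 1 n11862 = n24942 := d15_1 D11862 F39103 F19257
def n24943 : Q := act 7 n11843
theorem D24943 : act 7 n11843 = n24943 := rfl
theorem F39105 : act 2 n24943 = n11862 := d4_1 D24943 F19294 (iv2 F19239)
theorem F39106 : act 3 n24943 = n24445 := d8_1 D24943 (iv7 D24445) F19497
theorem F39107 : act 6 n24943 = n24102 := d14_1 D24943 F37763 (iv6 D11833) F10316 D11843
theorem F39108 : act 1 n11850 = n24943 := d15_1 (iv0 F24185) (iv7 D24943) F19239
theorem F39109 : act 1 n24943 = n11864 := d15_1 F39108 (iv7 D11864) (iv2 F19257)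
def n24944 : Q := act 4 n11845
theorem D24944 : act 4 n11845 = n24944 := rfl
theorem F39110 : act 2 n24944 = n16543 := d1_1 D24944 (iv4 D16543) (iv2 F19242)
theorem F39111 : act 7 n24944 = n24928 := d11_2 F19243 D24944 (iv4 D24928)
theorem F39112 : act 0 n24944 = n24865 := d18_2 (iv1 F19240) D24944 (iv4 D24865) (iv5 D11790) F8441 D11782 F19510 F8471 (iv5 F19227)
def n24945 : Q := act 6 n11845
theorem D24945 : act 6 n11845 = n24945 := rfl
theorem F39113 : act 2 n24945 = n16544 := d3_1 D24945 (iv6 D16544) (iv2 F19242)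
theorem F39114 : act 3 n24945 = n24447 := d7_1 D24945 (iv6 D24447) F19430
theorem F39115 : act 5 n24945 = n24099 := d12_1 D24945 (iv6 D24099) (iv5 D11316) D11317 F19241
def n24946 : Q := act 0 n11846
theorem D24946 : act 0 n11846 = n24946 := rfl
def n24947 : Q := act 1 n11846
theorem D24947 : act 1 n11846 = n24947 := rfl
theorem F39116 : act 1 n24947 = n24934 := d15_1 D24947 (iv7 D24934) (iv2 F19246)
theorem F39117 : act 4 n24947 = n24260 := d18_7 F19470 F18662 (iv1 D6733) F4756 D5557 D11846 D24947 F38973 F38972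
theorem F39118 : act 7 n24930 = n24947 := d11_0 F39117 F38966 (iv4 F39079)
theorem F39119 : act 2 n24930 = n24946 := d15_3 (iv0 D24946) D24947 (iv7 F39118)
theorem F39120 : act 7 n24931 = n24946 := d15_2 (iv0 D24930) D24931 (iv2 F39119)
theorem F39121 : act 2 n24947 = n24931 := d4_3 F39120 (iv2 F39119) F39118
theorem F39122 : act 1 n24934 = n24946 := d15_1 F39116 (iv7 F39120) (iv2 F39121)
theorem F39123 : act 4 n24931 = n24864 := d1_2 (iv4 F39117) F39121 F38968
def n24948 : Q := act 3 n11846
theorem D24948 : act 3 n11846 = n24948 := rfl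
def n24949 : Q := act 5 n11846
theorem D24949 : act 5 n11846 = n24949 := rfl
theorem F39124 : act 2 n24949 = n24933 := d2_1 D24949 (iv5 D24933) (iv2 F19246)
def n24950 : Q := act 7 n11846
theorem D24950 : act 7 n11846 = n24950 := rfl
theorem F39125 : act 2 n24950 = n24934 := d4_1 D24950 (iv7 D24934) (iv2 F19246)
theorem F39126 : act 4 n24950 = n11847 := d11_1 D24950 (iv7 D11847) D11846
theorem F39127 : act 1 n24931 = n24950 := d15_1 D24931 (iv7 D24950) F19246
theorem F39128 : act 1 n24950 = n24930 := d15_1 F39127 F39118 F39121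
def n24951 : Q := act 6 n11847
theorem D24951 : act 6 n11847 = n24951 := rfl
theorem F39129 : act 2 n24951 = n24935 := d3_1 D24951 (iv6 D24935) (iv2 F19247)
theorem F39130 : act 5 n24951 = n24951 := d12_1 D24951 (iv6 D24951) F19248 F8474 (iv5 F19248)
def n24952 : Q := act 5 n11848
theorem D24952 : act 5 n11848 = n24952 := rfl
theorem F39131 : act 2 n24952 = n23712 := d2_1 D24952 (iv5 D23712) (iv2 F19251)
theorem F39132 : act 3 n24952 = n11849 := d6_1 D24952 (iv5 D11849) D11848
theorem F39133 : act 7 n24952 = n11866 := d13_2 (iv7 F19252) D24952 (iv5 D11866)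
theorem F39134 : act 1 n24952 = n24619 := d15_0 (iv0 F38623) (iv7 F36878) (iv2 F39131)
def n24953 : Q := act 6 n11848
theorem D24953 : act 6 n11848 = n24953 := rfl
theorem F39135 : act 2 n24953 = n23713 := d3_1 D24953 (iv6 D23713) (iv2 F19251)
theorem F39136 : act 3 n24953 = n11850 := d7_1 D24953 (iv6 D11850) D11848
theorem F39137 : act 5 n24953 = n14235 := d21_6 (iv5 F3771) (iv1 F3779) (iv5 F5444) D7643 F22439 D24953 F36905 (iv5 D6795) (iv6 D3074) F3626
def n24954 : Q := act 1 n11849
theorem D24954 : act 1 n11849 = n24954 := rfl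
theorem F39138 : act 1 n24954 = n11851 := d15_1 D24954 F19262 (iv2 F19254)
theorem F39139 : act 7 n24954 = n11857 := d15_2 (iv0 F19256) D24954 (iv2 F19288)
theorem F39140 : act 5 n24954 = n14601 := d17_7 D14655 F24337 (iv1 F20390) (iv5 D6948) F10144 D11849 D24954 F24265 F11493
theorem F39141 : act 2 n11858 = n24954 := d2_3 F39140 F24263 F19292
theorem F39142 : act 3 n24458 = n24954 := d6_3 F39140 F38523 F38519
theorem F39143 : act 6 n24521 = n24954 := d12_0 F39140 (iv6 F37754) F37753 D24929 F39078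
def n24955 : Q := act 4 n11849
theorem D24955 : act 4 n11849 = n24955 := rfl
theorem F39144 : act 2 n24955 = n11859 := d1_1 D24955 (iv4 D11859) (iv2 F19254)
theorem F39145 : act 7 n24955 = n11870 := d11_2 (iv7 F19255) D24955 (iv4 D11870)
def n24956 : Q := act 6 n11849
theorem D24956 : act 6 n11849 = n24956 := rfl
theorem F39146 : act 2 n24956 = n11860 := d3_1 D24956 (iv6 D11860) (iv2 F19254)
theorem F39147 : act 5 n24956 = n14237 := d12_1 D24956 (iv6 D14237) (iv5 F19259) (iv6 D11850) D11849
def n24957 : Q := act 4 n11851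
theorem D24957 : act 4 n11851 = n24957 := rfl
theorem F39148 : act 2 n24957 = n11870 := d1_1 D24957 (iv4 D11870) (iv2 F19260)
theorem F39149 : act 7 n24957 = n11859 := d11_2 (iv7 F19262) D24957 (iv4 D11859)
def n24958 : Q := act 6 n11851
theorem D24958 : act 6 n11851 = n24958 := rfl
theorem F39150 : act 2 n24958 = n11871 := d3_1 D24958 (iv6 D11871) (iv2 F19260)
theorem F39151 : act 3 n24958 = n23719 := d7_1 D24958 (iv6 D23719) (iv3 F19261)
theorem F39152 : act 0 n24489 = n24958 := d21_4 F24217 F24216 F19770 D24489 (iv6 D24958) (iv5 D11851) (iv1 D5560) D5561 F8482 D11559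
def n24959 : Q := act 3 n11853
theorem D24959 : act 3 n11853 = n24959 := rfl
theorem F39153 : act 2 n24959 = n23720 := d0_1 D24959 (iv3 D23720) (iv2 F18387) (iv3 F19280) F19284
theorem F39154 : act 7 n24959 = n11877 := d8_2 (iv7 F19285) D24959 (iv3 D11877)
theorem F39155 : act 1 n24959 = n16484 := d15_0 (iv0 F26000) (iv7 F36910) (iv2 F39153)
def n24960 : Q := act 4 n11853
theorem D24960 : act 4 n11853 = n24960 := rfl
theorem F39156 : act 2 n24960 = n11875 := d1_1 D24960 (iv4 D11875) F19284
theorem F39157 : act 7 n24960 = n11878 := d11_2 (iv7 F19285) D24960 (iv4 D11878)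
def n24961 : Q := act 6 n11853
theorem D24961 : act 6 n11853 = n24961 := rfl
theorem F39158 : act 2 n24961 = n11876 := d3_1 D24961 (iv6 D11876) F19284
def n24962 : Q := act 4 n11854
theorem D24962 : act 4 n11854 = n24962 := rfl
theorem F39159 : act 2 n24962 = n11878 := d1_1 D24962 (iv4 D11878) (iv2 F19283)
theorem F39160 : act 7 n24962 = n11875 := d11_2 F19281 D24962 (iv4 D11875)
def n24963 : Q := act 6 n11854
theorem D24963 : act 6 n11854 = n24963 := rfl
theorem F39161 : act 2 n24963 = n11880 := d3_1 D24963 (iv6 D11880) (iv2 F19283)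
theorem F39162 : act 3 n24963 = n23722 := d7_1 D24963 (iv6 D23722) (iv3 F19270)
theorem F39163 : act 5 n24963 = n14226 := d12_1 D24963 (iv6 D14226) (iv5 D6771) D6772 F19269
def n24964 : Q := act 0 n11855
theorem D24964 : act 0 n11855 = n24964 := rfl
theorem F39164 : act 4 n24964 = n13357 := d20_2 D11855 D24964 (iv3 D13357) (iv1 F22195) F22191 (iv4 F37377) (iv1 F37379) F22310 (iv3 F19270) (iv1 D11854)
theorem F39165 : act 0 n24964 = n11885 := d20_7 D5425 F8244 (iv4 D2666) (iv3 F4257) D6335 D13357 (iv4 F39164) F19570 F8492 (iv1 F3682)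
theorem F39166 : act 0 n14149 = n13357 := d18_0 (iv4 F39164) F39165 F19570 F8493 (iv4 F8444) F19157 F19152 (iv0 F19319) D14149
def n24965 : Q := act 1 n11855
theorem D24965 : act 1 n11855 = n24965 := rfl
theorem F39167 : act 1 n24965 = n11885 := d15_1 D24965 (iv7 D11885) (iv2 F19271)
def n24966 : Q := act 3 n11855
theorem D24966 : act 3 n11855 = n24966 := rfl
theorem F39168 : act 4 n24966 = n24470 := d5_2 D11855 D24966 (iv3 D24470) (iv4 D11561) (iv3 F8481)
theorem F39169 : act 6 n24966 = n24470 := d7_2 (iv6 F19272) D24966 (iv3 D24470)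
def n24967 : Q := act 5 n11855
theorem D24967 : act 5 n11855 = n24967 := rfl
theorem F39170 : act 2 n24967 = n11884 := d2_1 D24967 (iv5 D11884) (iv2 F19271)
def n24968 : Q := act 7 n11855
theorem D24968 : act 7 n11855 = n24968 := rfl
theorem F39171 : act 2 n24968 = n11885 := d4_1 D24968 (iv7 D11885) (iv2 F19271)
theorem F39172 : act 4 n24968 = n11856 := d11_1 D24968 (iv7 D11856) D11855
theorem F39173 : act 1 n11882 = n24968 := d15_1 D11882 (iv7 D24968) F19271
theorem F39174 : act 1 n24968 = n11881 := d15_0 (iv0 D11881) D11885 (iv2 F39171)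
def n24969 : Q := act 6 n11856
theorem D24969 : act 6 n11856 = n24969 := rfl
theorem F39175 : act 2 n24969 = n11886 := d3_1 D24969 (iv6 D11886) (iv2 F19273)
theorem F39176 : act 3 n24969 = n24473 := d7_1 D24969 (iv6 D24473) (iv3 F19274)
theorem F39177 : act 5 n24969 = n24969 := d12_1 D24969 (iv6 D24969) F19275 F8485 (iv5 F19275)
theorem F39178 : act 7 n24969 = n24473 := d14_2 D11856 D24969 (iv6 D24473) (iv7 D11562) (iv6 F8482)
theorem F39179 : act 1 n24569 = n24969 := d15_1 D24569 F39178 F38430
theorem F39180 : act 1 n24969 = n24568 := d15_0 (iv0 D24568) (iv7 F19573) (iv2 F39175)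
def n24970 : Q := act 4 n11857
theorem D24970 : act 4 n11857 = n24970 := rfl
theorem F39181 : act 2 n24970 = n14627 := d1_1 D24970 (iv4 D14627) F19288
def n24971 : Q := act 6 n11857
theorem D24971 : act 6 n11857 = n24971 := rfl
theorem F39182 : act 2 n24971 = n14624 := d3_1 D24971 F24303 F19288
theorem F39183 : act 3 n24971 = n24487 := d7_1 D24971 (iv6 D24487) (iv3 F19314)
theorem F39184 : act 5 n24971 = n14599 := d12_1 D24971 (iv6 D14599) (iv5 D6975) D6976 (iv5 F19286)
def n24972 : Q := act 4 n11858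
theorem D24972 : act 4 n11858 = n24972 := rfl
theorem F39185 : act 7 n24972 = n14627 := d11_2 (iv7 F19290) D24972 (iv4 D14627)
def n24973 : Q := act 6 n11858
theorem D24973 : act 6 n11858 = n24973 := rfl
theorem F39186 : act 2 n24973 = n24521 := d3_1 D24973 F39143 (iv2 F39141)
theorem F39187 : act 3 n24973 = n11908 := d7_1 D24973 (iv6 D11908) F19291
theorem F39188 : act 5 n24973 = n14502 := d12_1 D24973 (iv6 D14502) (iv5 F20353) F20354 F19292
theorem F39189 : act 0 n24973 = n24462 := d21_4 (iv5 F24259) (iv1 F24262) F19292 D24973 (iv6 D24462) (iv5 D11557) (iv1 D5381) D5382 (iv6 F8482) D11853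
theorem F39190 : act 1 n24973 = n24523 := d15_1 (iv0 F39189) (iv7 D24523) (iv2 F38404)
theorem F39191 : act 7 n24638 = n24973 := d8_0 F39187 (iv7 F19672) D24638
def n24974 : Q := act 0 n11859
theorem D24974 : act 0 n11859 = n24974 := rfl
theorem F39192 : act 1 n11870 = n24974 := d15_0 (iv0 D24974) (iv7 F39149) F39148
def n24975 : Q := act 1 n11859
theorem D24975 : act 1 n11859 = n24975 := rfl
theorem F39193 : act 1 n24975 = n11870 := d15_1 D24975 (iv7 F39145) F39144
def n24976 : Q := act 3 n11859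
theorem D24976 : act 3 n11859 = n24976 := rfl
def n24977 : Q := act 5 n11859
theorem D24977 : act 5 n11859 = n24977 := rfl
def n24978 : Q := act 6 n11859
theorem D24978 : act 6 n11859 = n24978 := rfl
theorem F39194 : act 4 n24978 = n11860 := d10_1 D24978 (iv6 D11860) D11859
def n24979 : Q := act 0 n11860
theorem D24979 : act 0 n11860 = n24979 := rfl
def n24980 : Q := act 1 n11860
theorem D24980 : act 1 n11860 = n24980 := rfl
def n24981 : Q := act 5 n11860
theorem D24981 : act 5 n11860 = n24981 := rfl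
theorem F39195 : act 2 n24981 = n14237 := d2_1 D24981 (iv5 F39147) F39146
theorem F39196 : act 3 n24981 = n24080 := d6_1 D24981 F37705 F19982
theorem F39197 : act 6 n24981 = n11863 := d12_2 D11860 D24981 (iv5 D11863) (iv6 D5566) D5565
def n24982 : Q := act 7 n11860
theorem D24982 : act 7 n11860 = n24982 := rfl
def n24983 : Q := act 4 n11863
theorem D24983 : act 4 n11863 = n24983 := rfl
theorem F39198 : act 2 n24983 = n14236 := d1_1 D24983 (iv4 D14236) (iv2 F19296)
theorem F39199 : act 7 n24983 = n14233 := d11_2 F19545 D24983 (iv4 D14233)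
theorem F39200 : act 0 n24983 = n24418 := d18_2 (iv1 F19299) D24983 (iv4 D24418) (iv5 D11513) F8191 (iv0 F19449) (iv4 F11009) F11007 (iv5 F11034)
def n24984 : Q := act 5 n11865
theorem D24984 : act 5 n11865 = n24984 := rfl
theorem F39201 : act 2 n24984 = n12104 := d2_1 D24984 (iv5 D12104) (iv2 F19301)
theorem F39202 : act 3 n24984 = n14596 := d6_1 D24984 (iv5 D14596) (iv3 F19302)
def n24985 : Q := act 6 n11865
theorem D24985 : act 6 n11865 = n24985 := rfl
theorem F39203 : act 2 n24985 = n12105 := d3_1 D24985 (iv6 D12105) (iv2 F19301)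
theorem F39204 : act 3 n24985 = n14597 := d7_1 D24985 (iv6 D14597) (iv3 F19302)
theorem F39205 : act 4 n24985 = n11867 := d10_1 D24985 (iv6 D11867) D11865
theorem F39206 : act 0 n24336 = n24985 := d20_1 (iv4 F38148) F39205 F19304 D11872 (iv3 F19561) F8540 F8038 (iv4 F8388) (iv3 F19108) F22606
def n24986 : Q := act 0 n11866
theorem D24986 : act 0 n11866 = n24986 := rfl
theorem F39207 : act 2 n24619 = n24986 := d15_3 (iv0 D24986) (iv0 F26049) (iv7 F38622)
theorem F39208 : act 1 n23712 = n24986 := d15_0 (iv0 D24986) (iv7 F39133) F39131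
def n24987 : Q := act 4 n11866
theorem D24987 : act 4 n11866 = n24987 := rfl
def n24988 : Q := act 6 n11866
theorem D24988 : act 6 n11866 = n24988 := rfl
theorem F39209 : act 3 n24988 = n11871 := d7_1 D24988 (iv6 D11871) (iv3 F19303)
def n24989 : Q := act 7 n11867
theorem D24989 : act 7 n11867 = n24989 := rfl
theorem F39210 : act 2 n24989 = n24212 := d4_1 D24989 F37944 F19996
theorem F39211 : act 3 n24989 = n11874 := d8_1 D24989 (iv7 D11874) (iv3 F19304)
theorem F39212 : act 5 n24989 = n14373 := d13_1 D24989 F24009 F23977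
theorem F39213 : act 1 n16495 = n24989 := d15_1 F26080 (iv7 D24989) (iv2 F19996)
theorem F39214 : act 1 n24989 = n14428 := d15_1 F39213 F26042 (iv2 F26077)
theorem F39215 : act 0 n24876 = n24534 := d20_10 (iv4 D24534) D24533 F38517 (iv3 F39211) (iv1 F39213) (iv3 F37479) F37480 (iv1 F37786) F22566 (iv3 F39004)
def n24990 : Q := act 4 n11868
theorem D24990 : act 4 n11868 = n24990 := rfl
theorem F39216 : act 2 n24990 = n12292 := d1_1 D24990 (iv4 D12292) (iv2 F19305)
theorem F39217 : act 7 n24990 = n14535 := d11_2 (iv7 F19307) D24990 (iv4 D14535)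
theorem F39218 : act 0 n24990 = n14546 := d18_2 (iv1 F19309) D24990 (iv4 F24576) F24574 F24281 F24262 (iv4 F24330) (iv0 F24331) (iv5 F19438)
theorem F39219 : act 1 n24990 = n14545 := d18_6 (iv1 F19164) F19161 (iv1 F8487) D5569 D11868 D24990 F38991 (iv0 D24869) (iv5 D11793)
def n24991 : Q := act 6 n11868
theorem D24991 : act 6 n11868 = n24991 := rfl
theorem F39220 : act 2 n24991 = n12293 := d3_1 D24991 (iv6 D12293) (iv2 F19305)
theorem F39221 : act 3 n24991 = n14599 := d7_1 D24991 (iv6 D14599) (iv3 F19306)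
theorem F39222 : act 5 n24991 = n24487 := d12_1 D24991 (iv6 D24487) F19313 (iv6 D11869) D11868
def n24992 : Q := act 3 n11870
theorem D24992 : act 3 n11870 = n24992 := rfl
def n24993 : Q := act 5 n11870
theorem D24993 : act 5 n11870 = n24993 := rfl
theorem F39223 : act 4 n24993 = n14548 := d16_2 D11870 D24993 (iv5 D14548) (iv4 D6952) (iv5 D3135) F9978 D5565 (iv7 F19262) F19260
def n24994 : Q := act 6 n11870
theorem D24994 : act 6 n11870 = n24994 := rfl
theorem F39224 : act 4 n24994 = n11871 := d10_1 D24994 (iv6 D11871) D11870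
def n24995 : Q := act 0 n11871
theorem D24995 : act 0 n11871 = n24995 := rfl
def n24996 : Q := act 1 n11871
theorem D24996 : act 1 n11871 = n24996 := rfl
theorem F39225 : act 6 n24458 = n24996 := d21_3 D11608 D24533 F38519 (iv1 D24996) (iv6 D11871) (iv5 D5570) (iv1 D2311) D2312 F3671 D5394
theorem F39226 : act 5 n24423 = n24996 := d21_6 (iv5 D3157) F10154 D5229 (iv6 F8193) D11525 D24423 (iv1 D24996) (iv5 F24298) (iv6 D14616) (iv1 D6982)
theorem F39227 : act 2 n24996 = n24489 := d2_1 F39226 F38448 (iv2 F38302)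
theorem F39228 : act 3 n24996 = n24521 := d6_1 F39226 (iv5 F39078) F39077
def n24997 : Q := act 7 n11871
theorem D24997 : act 7 n11871 = n24997 := rfl
theorem F39229 : act 1 n24489 = n24997 := d15_1 (iv0 F39152) (iv7 D24997) (iv2 F39150)
def n24998 : Q := act 0 n11875
theorem D24998 : act 0 n11875 = n24998 := rfl
theorem F39230 : act 4 n24998 = n14532 := d18_3 D5572 D11875 D24998 (iv5 D14532) (iv4 D6940) (iv0 D3131) F9978 (iv0 D2310) D2312
theorem F39231 : act 1 n11878 = n24998 := d15_0 (iv0 D24998) (iv7 F39160) F39159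
theorem F39232 : act 0 n13357 = n14532 := d20_10 (iv4 F39230) (iv1 F39231) (iv4 D11878) D11877 F23805 F19963 D12071 F36869 (iv4 D13358) D13357
theorem F39233 : act 5 n24514 = n13357 := d17_1 D24514 F39232 (iv5 D14532) (iv4 D6940) D6941 F20386 D7001 F20387 (iv4 F18953)
theorem F39234 : act 3 n12362 = n24514 := d6_3 F39233 (iv3 D13357) (iv5 F22196)
theorem F39235 : act 6 n24514 = n24484 := d21_9 (iv5 F38031) F38897 (iv5 D24844) (iv6 D11775) F8428 D6727 D14149 F39166 (iv5 F39233) (iv1 D24484)
theorem F39236 : act 7 n13705 = n24514 := d14_0 F39235 F38439 F24449 F22879 D13705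
def n24999 : Q := act 1 n11875
theorem D24999 : act 1 n11875 = n24999 := rfl
theorem F39237 : act 1 n24999 = n11878 := d15_1 D24999 (iv7 F39157) F39156
theorem F39238 : act 4 n14149 = n24999 := d20_6 (iv4 F36925) (iv1 F36927) F20003 D13414 F38110 F38109 (iv1 D24999) (iv4 D11875) F19280 (iv1 F18014)
theorem F39239 : act 6 n24999 = n24529 := d10_2 F23741 F39238 (iv4 F38515)
def n25000 : Q := act 3 n11875
theorem D25000 : act 3 n11875 = n25000 := rfl
def n25001 : Q := act 5 n11875
theorem D25001 : act 5 n11875 = n25001 := rfl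
def n25002 : Q := act 6 n11875
theorem D25002 : act 6 n11875 = n25002 := rfl
theorem F39240 : act 4 n25002 = n11876 := d10_1 D25002 (iv6 D11876) D11875
def n25003 : Q := act 0 n11876
theorem D25003 : act 0 n11876 = n25003 := rfl
def n25004 : Q := act 1 n11876
theorem D25004 : act 1 n11876 = n25004 := rfl
def n25005 : Q := act 5 n11876
theorem D25005 : act 5 n11876 = n25005 := rfl
theorem F39241 : act 6 n25005 = n16527 := d12_2 D11876 D25005 F26140 (iv6 D14626) F19279
theorem F39242 : act 0 n25005 = n24991 := d21_7 (iv5 D5392) (iv1 D2217) D2218 (iv6 F3671) D5572 D11876 D25005 F39222 (iv6 D24487) (iv1 F18895)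
def n25006 : Q := act 7 n11876
theorem D25006 : act 7 n11876 = n25006 := rfl
def n25007 : Q := act 4 n11877
theorem D25007 : act 4 n11877 = n25007 := rfl
theorem F39243 : act 0 n25007 = n24326 := d18_2 F38614 D25007 (iv4 D24326) (iv5 D11459) (iv4 F18639) (iv0 F19393) (iv4 D11865) F18996 D24614
def n25008 : Q := act 6 n11877
theorem D25008 : act 6 n11877 = n25008 := rfl
theorem F39244 : act 3 n25008 = n11880 := d7_1 D25008 (iv6 D11880) D11877
def n25009 : Q := act 3 n11878
theorem D25009 : act 3 n11878 = n25009 := rfl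
def n25010 : Q := act 5 n11878
theorem D25010 : act 5 n11878 = n25010 := rfl
theorem F39245 : act 4 n25010 = n14653 := d16_2 D11878 D25010 (iv5 D14653) (iv4 D7000) D7001 (iv4 F11493) F19279 F19281 F19283
def n25011 : Q := act 6 n11878
theorem D25011 : act 6 n11878 = n25011 := rfl
theorem F39246 : act 4 n25011 = n11880 := d10_1 D25011 (iv6 D11880) D11878
def n25012 : Q := act 0 n11880
theorem D25012 : act 0 n11880 = n25012 := rfl
def n25013 : Q := act 1 n11880
theorem D25013 : act 1 n11880 = n25013 := rfl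
def n25014 : Q := act 5 n11880
theorem D25014 : act 5 n11880 = n25014 := rfl
theorem F39247 : act 2 n25014 = n14226 := d2_1 D25014 (iv5 F39163) F39161
theorem F39248 : act 6 n25014 = n14208 := d12_2 D11880 D25014 (iv5 D14208) (iv6 F24207) F24206
def n25015 : Q := act 7 n11880
theorem D25015 : act 7 n11880 = n25015 := rfl
def n25016 : Q := act 2 n11881
theorem D25016 : act 2 n11881 = n25016 := rfl
theorem F39249 : act 7 n11882 = n25016 := d15_2 (iv0 D11881) D11882 (iv2 D25016)
def n25017 : Q := act 3 n11881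
theorem D25017 : act 3 n11881 = n25017 := rfl
def n25018 : Q := act 4 n11881
theorem D25018 : act 4 n11881 = n25018 := rfl
theorem F39250 : act 1 n25018 = n14146 := d18_8 F19350 (iv4 D11792) (iv1 F19164) F19161 (iv5 F19275) (iv4 F39172) F39174 D25018 (iv5 D14146)
def n25019 : Q := act 5 n11881
theorem D25019 : act 5 n11881 = n25019 := rfl
def n25020 : Q := act 6 n11881
theorem D25020 : act 6 n11881 = n25020 := rfl
def n25021 : Q := act 7 n11881
theorem D25021 : act 7 n11881 = n25021 := rfl
theorem F39251 : act 2 n25021 = n11882 := d4_1 D25021 F39249 (iv2 D25016)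
def n25022 : Q := act 3 n11882
theorem D25022 : act 3 n11882 = n25022 := rfl
def n25023 : Q := act 4 n11882
theorem D25023 : act 4 n11882 = n25023 := rfl
theorem F39252 : act 3 n25023 = n13333 := d20_3 (iv4 F39172) (iv1 F39173) D25023 (iv1 D13333) F9852 D11219 (iv1 F19998) (iv4 D12082) (iv3 F19280) (iv1 F19278)
theorem F39253 : act 5 n13705 = n25023 := d6_0 F39252 (iv5 F22185) (iv3 F22952)
theorem F39254 : act 7 n13357 = n25023 := d8_0 F39252 F22938 D13357
theorem E4759 : n25016 = n24964 := (c11_3 F39254 (iv4 D25023) F39249 F39164)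
theorem F39255 : act 2 n24964 = n11881 := (sb E4759 (iv2 D25016))
theorem F39256 : act 7 n24964 = n11882 := (sb E4759 (iv7 F39249))
theorem E4760 : n25021 = n24965 := (c15_4 F39167 (iv0 F39165) F39256 (iv2 F39251))
theorem F39257 : act 2 n24965 = n11882 := (sb E4760 F39251)
theorem F39258 : act 7 n24965 = n11881 := (sb E4760 (iv7 D25021))
theorem F39259 : act 2 n25018 = n13357 := d1_3 (iv4 F39164) F39255 D25018
theorem F39260 : act 1 n14146 = n25023 := d15_1 F39250 (iv7 F39254) (iv2 F39259)
theorem F39261 : act 1 n13705 = n24516 := d17_8 (iv1 F19441) (iv5 F11916) F19551 (iv5 D6724) (iv4 F10967) D14146 F39260 (iv5 F39253) F38495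
theorem F39262 : act 1 n23802 = n13705 := d15_0 F39261 (iv7 D24516) (iv2 F37116)
def n25024 : Q := act 5 n11882
theorem D25024 : act 5 n11882 = n25024 := rfl
def n25025 : Q := act 6 n11882
theorem D25025 : act 6 n11882 = n25025 := rfl
def n25026 : Q := act 0 n11883
theorem D25026 : act 0 n11883 = n25026 := rfl
def n25027 : Q := act 1 n11883
theorem D25027 : act 1 n11883 = n25027 := rfl
def n25028 : Q := act 2 n11883
theorem D25028 : act 2 n11883 = n25028 := rfl
theorem F39263 : act 4 n25028 = n11952 := d1_2 (iv4 F19568) D25028 (iv2 D11952)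
theorem F39264 : act 6 n25028 = n24559 := d3_2 (iv6 F19569) D25028 (iv2 D24559)
def n25029 : Q := act 5 n11883
theorem D25029 : act 5 n11883 = n25029 := rfl
theorem F39265 : act 3 n25029 = n11884 := d6_1 D25029 (iv5 D11884) D11883
def n25030 : Q := act 0 n11884
theorem D25030 : act 0 n11884 = n25030 := rfl
def n25031 : Q := act 1 n11884
theorem D25031 : act 1 n11884 = n25031 := rfl
def n25032 : Q := act 4 n11884
theorem D25032 : act 4 n11884 = n25032 := rfl
theorem F39266 : act 5 n25032 = n14651 := d16_3 D5574 D11884 D25032 F38962 F38951 F19161 (iv5 F19275) (iv7 D11856) F8480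
theorem F39267 : act 0 n14548 = n25032 := d17_2 (iv1 D14546) D14548 F39266 F38962 F38951 F19164 D11793 F38940 F24576
def n25033 : Q := act 6 n11884
theorem D25033 : act 6 n11884 = n25033 := rfl
theorem F39268 : act 5 n25033 = n24565 := d12_1 D25033 (iv6 D24565) (iv5 D11618) (iv6 F8491) D11884
def n25034 : Q := act 7 n11884
theorem D25034 : act 7 n11884 = n25034 := rfl
theorem F39269 : act 5 n25034 = n11885 := d13_1 D25034 (iv7 D11885) D11884
def n25035 : Q := act 6 n11885
theorem D25035 : act 6 n11885 = n25035 := rfl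
theorem F39270 : act 4 n25035 = n11886 := d10_1 D25035 (iv6 D11886) (iv4 F19570)
theorem F39271 : act 7 n25035 = n24567 := d14_2 D11885 D25035 (iv6 D24567) (iv7 D11619) (iv6 F8491)
def n25036 : Q := act 0 n11886
theorem D25036 : act 0 n11886 = n25036 := rfl
theorem F39272 : act 1 n24473 = n25036 := d15_0 (iv0 D25036) F19573 (iv2 F38430)
def n25037 : Q := act 1 n11886
theorem D25037 : act 1 n11886 = n25037 := rfl
theorem F39273 : act 1 n25037 = n24473 := d15_1 D25037 (iv7 F39178) F39175
def n25038 : Q := act 5 n11888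
theorem D25038 : act 5 n11888 = n25038 := rfl
theorem F39274 : act 2 n25038 = n24614 := d2_1 D25038 (iv5 D24614) (iv2 F22564)
theorem F39275 : act 3 n25038 = n12072 := d6_1 D25038 F19978 (iv3 F22465)
theorem F39276 : act 7 n25038 = n12050 := d13_2 (iv7 F22467) D25038 (iv5 D12050)
theorem F39277 : act 0 n25038 = n12084 := d17_2 F19576 D25038 F23820 (iv4 F24600) F24601 F38731 (iv5 D24745) F36935 F36932
theorem F39278 : act 1 n25038 = n24959 := d15_1 (iv0 F39277) F39154 (iv2 F20000)
theorem F39279 : act 5 n24959 = n14407 := d17_7 F22474 F10417 (iv1 F22344) (iv5 D11889) D11888 D25038 F39278 (iv0 D14407) F11185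
theorem F39280 : act 6 n14376 = n14407 := d21_5 D12078 F38623 F38621 F24061 (iv1 F24014) (iv5 F39279) (iv1 F39278) (iv5 D25038) F22466 F19575
theorem F39281 : act 3 n14407 = n14600 := d7_1 F39280 F24258 F24017
theorem F39282 : act 7 n14407 = n14263 := d14_2 (iv7 F24015) F39280 (iv6 D14263) (iv7 F22520) D14228
def n25039 : Q := act 4 n11889
theorem D25039 : act 4 n11889 = n25039 := rfl
theorem F39283 : act 2 n25039 = n24615 := d1_1 D25039 (iv4 D24615) (iv2 F22572)
theorem F39284 : act 7 n25039 = n16485 := d11_2 F22571 D25039 (iv4 D16485)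
def n25040 : Q := act 6 n11889
theorem D25040 : act 6 n11889 = n25040 := rfl
theorem F39285 : act 2 n25040 = n24616 := d3_1 D25040 (iv6 D24616) (iv2 F22572)
theorem F39286 : act 5 n25040 = n25040 := d12_1 D25040 (iv6 D25040) (iv5 D11889) F22468 D11889
theorem F39287 : act 7 n25040 = n24571 := d14_2 F22571 D25040 (iv6 D24571) F18961 (iv6 F11871)
def n25041 : Q := act 4 n11895
theorem D25041 : act 4 n11895 = n25041 := rfl
theorem F39288 : act 2 n25041 = n11899 := d1_1 D25041 (iv4 D11899) (iv2 F19581)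
theorem F39289 : act 7 n25041 = n24617 := d11_2 (iv7 F19583) D25041 (iv4 D24617)
theorem F39290 : act 0 n25041 = n24623 := d18_2 (iv1 F19585) D25041 (iv4 F38751) F38750 F22646 F22596 (iv4 F22489) F22486 F22591
theorem F39291 : act 1 n25041 = n24622 := d15_0 (iv0 D24622) (iv7 F19590) (iv2 F39288)
def n25042 : Q := act 6 n11895
theorem D25042 : act 6 n11895 = n25042 := rfl
theorem F39292 : act 2 n25042 = n11900 := d3_1 D25042 (iv6 D11900) (iv2 F19581)
theorem F39293 : act 3 n25042 = n24573 := d7_1 D25042 (iv6 D24573) (iv3 F19582)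
theorem F39294 : act 5 n25042 = n14297 := d12_1 D25042 (iv6 D14297) F22532 (iv6 D11896) D11895
def n25043 : Q := act 4 n11897
theorem D25043 : act 4 n11897 = n25043 := rfl
theorem F39295 : act 2 n25043 = n14417 := d1_1 D25043 (iv4 D14417) F22575
theorem F39296 : act 7 n25043 = n24620 := d11_2 F22589 D25043 (iv4 D24620)
def n25044 : Q := act 6 n11897
theorem D25044 : act 6 n11897 = n25044 := rfl
theorem F39297 : act 2 n25044 = n14415 := d3_1 D25044 F24065 F22575
theorem F39298 : act 5 n25044 = n14316 := d12_1 D25044 (iv6 D14316) (iv5 D6838) D6839 (iv5 F22574)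
def n25045 : Q := act 3 n11898
theorem D25045 : act 3 n11898 = n25045 := rfl
theorem F39299 : act 5 n25045 = n14404 := d6_2 (iv5 F22585) D25045 F24054
theorem F39300 : act 7 n25045 = n14403 := d8_2 F22586 D25045 F24050
theorem F39301 : act 2 n25045 = n24474 := d15_3 F38432 F24052 (iv7 F39300)
theorem F39302 : act 3 n24474 = n24986 := d0_2 D25045 F39301 (iv2 F39207) (iv3 D24619) (iv2 F22590)
theorem F39303 : act 4 n24811 = n24986 := d20_2 D11755 D24811 (iv3 F39302) (iv1 D24474) F18883 D11582 D24490 F38828 (iv3 D24808) (iv1 D11754)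
theorem F39304 : act 1 n13339 = n25045 := d17_6 F24467 (iv5 F19746) (iv1 F22211) (iv5 D6328) D6327 D13339 F39299 (iv0 F38511) F38508
theorem F39305 : act 1 n25045 = n13351 := d15_1 F39304 F22230 (iv2 F22202)
def n25046 : Q := act 4 n11898
theorem D25046 : act 4 n11898 = n25046 := rfl
theorem F39306 : act 2 n25046 = n24620 := d1_1 D25046 (iv4 D24620) (iv2 F22590)
theorem F39307 : act 7 n25046 = n14417 := d11_2 F22586 D25046 (iv4 D14417)
def n25047 : Q := act 6 n11898
theorem D25047 : act 6 n11898 = n25047 := rfl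
theorem F39308 : act 2 n25047 = n24621 := d3_1 D25047 (iv6 D24621) (iv2 F22590)
theorem F39309 : act 0 n25047 = n11920 := d21_4 (iv5 F22361) (iv1 F22473) (iv5 F22585) D25047 (iv6 D11920) (iv5 D5592) (iv1 F10117) D6844 (iv6 F11871) F22441
def n25048 : Q := act 0 n11899
theorem D25048 : act 0 n11899 = n25048 := rfl
theorem F39310 : act 1 n24617 = n25048 := d15_0 (iv0 D25048) F19590 (iv2 F38618)
def n25049 : Q := act 1 n11899
theorem D25049 : act 1 n11899 = n25049 := rfl
theorem F39311 : act 1 n25049 = n24617 := d15_1 D25049 (iv7 F39289) F39288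
def n25050 : Q := act 3 n11899
theorem D25050 : act 3 n11899 = n25050 := rfl
theorem F39312 : act 4 n25050 = n11909 := d5_2 D11899 D25050 (iv3 D11909) (iv4 D5584) (iv3 F8502)
theorem F39313 : act 7 n25050 = n24624 := d8_2 (iv7 F19590) D25050 (iv3 D24624)
def n25051 : Q := act 5 n11899
theorem D25051 : act 5 n11899 = n25051 := rfl
theorem F39314 : act 7 n25051 = n24625 := d13_2 (iv7 F19590) D25051 (iv5 D24625)
def n25052 : Q := act 6 n11899
theorem D25052 : act 6 n11899 = n25052 := rfl
theorem F39315 : act 4 n25052 = n11900 := d10_1 D25052 (iv6 D11900) D11899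
def n25053 : Q := act 0 n11900
theorem D25053 : act 0 n11900 = n25053 := rfl
def n25054 : Q := act 1 n11900
theorem D25054 : act 1 n11900 = n25054 := rfl
def n25055 : Q := act 7 n11900
theorem D25055 : act 7 n11900 = n25055 := rfl
theorem F39316 : act 3 n25055 = n11913 := d8_1 D25055 (iv7 D11913) (iv3 F19591)
theorem F39317 : act 6 n25055 = n24629 := d14_1 D25055 (iv7 D24629) (iv6 D11660) (iv7 F8503) D11900
def n25056 : Q := act 3 n11902
theorem D25056 : act 3 n11902 = n25056 := rfl
theorem F39318 : act 6 n25056 = n24116 := d7_2 F23930 D25056 F37787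
theorem F39319 : act 7 n25056 = n16499 := d8_2 (iv7 F26031) D25056 F26087
theorem F39320 : act 2 n24123 = n25056 := d4_3 F39319 F26086 D24123
theorem F39321 : act 4 n24123 = n25056 := d11_3 F39319 F26088 D24123
theorem F39322 : act 1 n13340 = n25056 := d15_1 (iv0 F26089) F39319 F26086
theorem F39323 : act 1 n25056 = n24121 := d15_1 F39322 (iv7 F37798) (iv2 F22204)
theorem E4761 : n24478 = n24123 := ((c17_10 (iv1 D24478) F23840 (iv1 D14288) (iv5 D6813) (iv4 F7783) D11309 D24087 (iv5 F37713) F39322 (iv4 F39321))).symm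
theorem F39324 : act 0 n24123 = n11573 := (sb E4761 (iv1 D24478))
theorem E4762 : n24477 = n16499 := ((c15_4 (iv0 D24477) (iv0 F39324) (iv7 D24123) (iv2 F26086))).symm
theorem F39325 : act 1 n16499 = n11573 := (sb E4762 (iv0 D24477))
def n25057 : Q := act 4 n11902
theorem D25057 : act 4 n11902 = n25057 := rfl
theorem F39326 : act 6 n25057 = n14428 := d10_2 F23930 D25057 F24079
theorem F39327 : act 7 n25057 = n16501 := d11_2 (iv7 F26031) D25057 F26093
theorem F39328 : act 0 n25057 = n24953 := d17_0 F39137 F36905 (iv5 D6795) F4806 D3077 (iv0 F22539) F10995 D11902 D25057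
theorem F39329 : act 3 n14439 = n25057 := d20_5 F5497 F4635 (iv4 F8522) (iv3 F19592) F24096 (iv4 D25057) (iv1 D11902) F10108 F8633 (iv1 F8647)
theorem F39330 : act 1 n24118 = n24953 := d15_0 (iv0 F39328) F39327 (iv2 F37793)
def n25058 : Q := act 4 n11904
theorem D25058 : act 4 n11904 = n25058 := rfl
theorem F39331 : act 2 n25058 = n24486 := d1_1 D25058 (iv4 D24486) (iv2 F19595)
theorem F39332 : act 7 n25058 = n24488 := d11_2 F19599 D25058 (iv4 D24488)
def n25059 : Q := act 6 n11904
theorem D25059 : act 6 n11904 = n25059 := rfl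
theorem F39333 : act 2 n25059 = n24487 := d3_1 D25059 (iv6 D24487) (iv2 F19595)
theorem F39334 : act 3 n25059 = n11906 := d7_1 D25059 (iv6 D11906) D11904
theorem F39335 : act 5 n25059 = n12293 := d12_1 D25059 (iv6 D12293) (iv5 D5835) D5836 (iv5 F19596)
def n25060 : Q := act 3 n11905
theorem D25060 : act 3 n11905 = n25060 := rfl
theorem F39336 : act 5 n25060 = n14647 := d6_2 (iv5 F19604) D25060 (iv3 D14647)
theorem F39337 : act 7 n25060 = n24595 := d8_2 (iv7 F19603) D25060 (iv3 D24595)
def n25061 : Q := act 6 n11905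
theorem D25061 : act 6 n11905 = n25061 := rfl
theorem F39338 : act 2 n25061 = n14645 := d3_1 D25061 F24324 (iv2 F19602)
theorem F39339 : act 4 n25061 = n11906 := d10_1 D25061 (iv6 D11906) D11905
def n25062 : Q := act 0 n11906
theorem D25062 : act 0 n11906 = n25062 := rfl
def n25063 : Q := act 1 n11906
theorem D25063 : act 1 n11906 = n25063 := rfl
theorem F39340 : act 1 n25063 = n14646 := d15_1 D25063 (iv7 D14646) (iv2 F19607)
theorem F39341 : act 5 n14709 = n25063 := d21_6 F8957 (iv1 F8548) F4843 D3171 D7017 D14709 (iv1 D25063) F19608 (iv6 D5838) (iv1 F8955)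
def n25064 : Q := act 7 n11906
theorem D25064 : act 7 n11906 = n25064 := rfl
theorem F39342 : act 2 n25064 = n14646 := d4_1 D25064 (iv7 D14646) (iv2 F19607)
theorem F39343 : act 5 n25064 = n12299 := d13_1 D25064 (iv7 D12299) (iv5 F19608)
theorem F39344 : act 6 n25064 = n11926 := d14_1 D25064 F19670 (iv6 D11637) F8508 D11906
theorem F39345 : act 1 n14646 = n25062 := d15_0 (iv0 D25062) D25064 F39342
theorem F39346 : act 1 n14644 = n25064 := d15_1 D14644 (iv7 D25064) F19607
theorem F39347 : act 0 n14643 = n25064 := d21_4 F8254 D11703 D24740 (iv6 F38714) F39344 (iv5 F26179) (iv1 F26181) (iv5 F38715) (iv6 D24741) (iv1 F19033)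
def n25065 : Q := act 3 n11907
theorem D25065 : act 3 n11907 = n25065 := rfl
theorem F39348 : act 5 n25065 = n24595 := d6_2 (iv5 F19610) D25065 (iv3 D24595)
theorem F39349 : act 7 n25065 = n14647 := d8_2 (iv7 F19611) D25065 (iv3 D14647)
def n25066 : Q := act 6 n11907
theorem D25066 : act 6 n11907 = n25066 := rfl
theorem F39350 : act 2 n25066 = n24596 := d3_1 D25066 (iv6 D24596) (iv2 F19609)
theorem F39351 : act 4 n25066 = n11908 := d10_1 D25066 (iv6 D11908) D11907
theorem F39352 : act 0 n25066 = n12001 := d21_4 (iv5 F8381) (iv1 F18979) (iv5 F19610) D25066 (iv6 D12001) F8708 (iv1 F8565) F8253 F3678 D5427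
theorem F39353 : act 1 n25066 = n24827 := d15_1 (iv0 F39352) (iv7 D24827) (iv2 F19841)
theorem F39354 : act 7 n24639 = n25066 := d11_0 F39351 (iv7 F19672) D24639
def n25067 : Q := act 0 n11909
theorem D25067 : act 0 n11909 = n25067 := rfl
theorem F39355 : act 1 n24633 = n25067 := d15_0 (iv0 D25067) F19618 D24633
def n25068 : Q := act 1 n11909
theorem D25068 : act 1 n11909 = n25068 := rfl
def n25069 : Q := act 2 n11909
theorem D25069 : act 2 n11909 = n25069 := rfl
theorem F39356 : act 3 n25069 = n24601 := d0_2 D11909 D25069 (iv2 D24601) (iv3 D11639) (iv2 F8513)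
theorem F39357 : act 7 n25069 = n24633 := d4_2 (iv7 F19618) D25069 (iv2 D24633)
theorem F39358 : act 1 n25069 = n24631 := d15_0 (iv0 D24631) (iv7 F19618) D25069
theorem F39359 : act 1 n25068 = n24633 := d15_1 D25068 (iv7 F39357) (iv2 D25069)
theorem F39360 : act 1 n24632 = n25069 := d15_1 D24632 F39357 (iv2 D24633)
def n25070 : Q := act 6 n11909
theorem D25070 : act 6 n11909 = n25070 := rfl
def n25071 : Q := act 0 n11910
theorem D25071 : act 0 n11910 = n25071 := rfl
def n25072 : Q := act 1 n11910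
theorem D25072 : act 1 n11910 = n25072 := rfl
theorem F39362 : act 1 n25072 = n24606 := d15_1 D25072 (iv7 D24606) (iv2 F19619)
def n25073 : Q := act 5 n11910
theorem D25073 : act 5 n11910 = n25073 := rfl
theorem F39363 : act 2 n25073 = n24605 := d2_1 D25073 (iv5 D24605) (iv2 F19619)
def n25074 : Q := act 7 n11910
theorem D25074 : act 7 n11910 = n25074 := rfl
theorem F39364 : act 2 n25074 = n24606 := d4_1 D25074 (iv7 D24606) (iv2 F19619)
theorem F39365 : act 4 n25074 = n11913 := d11_1 D25074 (iv7 D11913) (iv4 F19620)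
theorem F39366 : act 6 n25074 = n24637 := d14_1 D25074 (iv7 D24637) (iv6 D11666) (iv7 F8514) D11910
theorem F39367 : act 1 n24606 = n25071 := d15_0 (iv0 D25071) D25074 F39364
theorem F39368 : act 1 n24604 = n25074 := d15_1 D24604 (iv7 D25074) F19619
theorem F39369 : act 1 n25074 = n24603 := d15_0 (iv0 D24603) D24606 (iv2 F39364)
def n25075 : Q := act 2 n11911
theorem D25075 : act 2 n11911 = n25075 := rfl
theorem F39370 : act 6 n25075 = n24607 := d3_2 (iv6 F23091) D25075 (iv2 D24607)
theorem F39371 : act 7 n11912 = n25075 := d15_2 (iv0 D11911) D11912 (iv2 D25075)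
def n25076 : Q := act 3 n11911
theorem D25076 : act 3 n11911 = n25076 := rfl
theorem F39372 : act 6 n25076 = n24608 := d7_2 (iv6 F23091) D25076 (iv3 D24608)
def n25077 : Q := act 4 n11911
theorem D25077 : act 4 n11911 = n25077 := rfl
theorem F39373 : act 6 n25077 = n24609 := d10_2 (iv6 F23091) D25077 (iv4 D24609)
def n25078 : Q := act 7 n11911
theorem D25078 : act 7 n11911 = n25078 := rfl
theorem F39374 : act 2 n25078 = n11912 := d4_1 D25078 F39371 (iv2 D25075)
def n25079 : Q := act 3 n11912
theorem D25079 : act 3 n11912 = n25079 := rfl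
def n25080 : Q := act 4 n11912
theorem D25080 : act 4 n11912 = n25080 := rfl
def n25081 : Q := act 6 n11912
theorem D25081 : act 6 n11912 = n25081 := rfl
theorem F39375 : act 5 n25081 = n24613 := d12_1 D25081 (iv6 D24613) (iv5 F23089) (iv6 F23426) F23427
theorem F39376 : act 7 n25081 = n24613 := d14_2 (iv7 F39371) D25081 (iv6 D24613) F38610 (iv6 F39370)
theorem F39377 : act 0 n24740 = n24613 := d21_1 D24740 (iv5 F39375) (iv6 D25081) (iv1 D11912) (iv6 D5585) (iv5 D2317) (iv1 F2051) (iv5 F3593) D5432 D11703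
theorem F39378 : act 2 n25081 = n24613 := d15_3 (iv0 F39377) (iv0 F38713) (iv7 F39376)
theorem E4763 : n24610 = n11912 := (c3_4 D25081 F39378 (iv6 D24613) (iv2 F38611))
theorem E4764 : n25078 = n11642 := (((iv2 F39374)).symm.trans (sb E4763 F38611))
theorem E4765 : n25075 = n11641 := ((F39371).symm.trans (sb E4763 (iv7 D24610)))
theorem F39379 : act 2 n11642 = n11912 := (sb E4764 F39374)
theorem E4766 : n24607 = n11911 := ((F38610).symm.trans (sb E4764 (iv7 D25078)))
theorem F39380 : act 7 n11641 = n11912 := (sb E4765 (iv7 F39371))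
theorem F39381 : act 2 n11911 = n11641 := (sb E4766 (iv2 D24607))
theorem F39382 : act 7 n11911 = n11642 := (sb E4766 (iv7 F38610))
theorem F39383 : act 7 n24611 = n25076 := d8_2 F39382 D24611 (iv3 D25076)
theorem F39384 : act 7 n24612 = n25077 := d11_2 F39382 D24612 (iv4 D25077)
theorem F39385 : act 7 n13823 = n14042 := d13_2 F39382 (iv5 F23089) (iv5 F23429)
theorem F39386 : act 2 n14042 = n13824 := d15_3 F23434 F23435 F39385
theorem F39387 : act 2 n13823 = n14041 := d15_3 (iv0 D14041) D14042 (iv7 F39385)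
theorem F39388 : act 7 n14041 = n13824 := d4_2 (iv7 F39385) F39387 (iv2 F39386)
theorem F39389 : act 2 n24609 = n25077 := d1_3 (iv4 D25077) F39381 D24609
theorem F39390 : act 7 n25079 = n24608 := d8_2 F39380 D25079 (iv3 D24608)
theorem F39391 : act 7 n25080 = n24609 := d11_2 F39380 D25080 (iv4 D24609)
theorem F39392 : act 2 n24612 = n25080 := d4_3 F39391 F39389 (iv7 F39384)
def n25082 : Q := act 4 n11914
theorem D25082 : act 4 n11914 = n25082 := rfl
theorem F39393 : act 2 n25082 = n24570 := d1_1 D25082 (iv4 D24570) (iv2 F19627)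
theorem F39394 : act 7 n25082 = n14333 := d11_2 (iv7 F19629) D25082 (iv4 D14333)
def n25083 : Q := act 6 n11914
theorem D25083 : act 6 n11914 = n25083 := rfl
theorem F39395 : act 2 n25083 = n24571 := d3_1 D25083 (iv6 D24571) (iv2 F19627)
theorem F39396 : act 3 n25083 = n23728 := d7_1 D25083 (iv6 D23728) (iv3 F19628)
theorem F39397 : act 5 n25083 = n25083 := d12_1 D25083 (iv6 D25083) (iv5 D11914) F10121 D11914
theorem F39398 : act 7 n25083 = n24616 := d14_2 (iv7 F19629) D25083 (iv6 D24616) (iv7 F22573) F11875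
def n25084 : Q := act 4 n11915
theorem D25084 : act 4 n11915 = n25084 := rfl
theorem F39399 : act 2 n25084 = n11919 := d1_1 D25084 (iv4 D11919) (iv2 F19632)
theorem F39400 : act 7 n25084 = n24572 := d11_2 (iv7 F19634) D25084 (iv4 D24572)
theorem F39401 : act 1 n24588 = n25084 := d15_1 D24588 F39400 F38557
theorem F39402 : act 1 n25084 = n24587 := d15_0 (iv0 D24587) (iv7 F19642) (iv2 F39399)
def n25085 : Q := act 6 n11915
theorem D25085 : act 6 n11915 = n25085 := rfl
theorem F39403 : act 2 n25085 = n11920 := d3_1 D25085 (iv6 D11920) (iv2 F19632)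
theorem F39404 : act 3 n25085 = n24618 := d7_1 D25085 (iv6 D24618) (iv3 F19633)
theorem F39405 : act 0 n24621 = n25085 := d21_4 (iv5 F10417) D13438 F22591 D24621 (iv6 D25085) (iv5 D11915) (iv1 F10164) D6845 (iv6 F11875) F22451
def n25086 : Q := act 7 n11916
theorem D25086 : act 7 n11916 = n25086 := rfl
theorem F39406 : act 2 n25086 = n11923 := d4_1 D25086 (iv7 D11923) (iv2 F19637)
theorem F39407 : act 3 n25086 = n14437 := d8_1 D25086 F24092 (iv3 F19638)
theorem F39408 : act 5 n25086 = n24135 := d13_1 D25086 F37818 F20304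
theorem F39409 : act 6 n25086 = n24575 := d14_1 D25086 (iv7 D24575) (iv6 D11623) (iv7 F8529) D11916
theorem F39410 : act 1 n11922 = n25086 := d15_1 D11922 (iv7 D25086) F19637
theorem F39411 : act 1 n25086 = n11921 := d15_1 F39410 F19656 F19650
theorem F39412 : act 0 n12105 = n24819 := d20_10 (iv4 D24819) (iv1 F38824) F38822 (iv3 F39407) (iv1 F39410) (iv3 F19644) (iv4 D5655) (iv1 F8295) (iv4 F8848) (iv3 F20029)
theorem F39413 : act 1 n13494 = n23987 := d18_6 (iv1 F26080) (iv4 F20030) F39412 (iv4 D24819) (iv5 F22614) D13494 (iv4 D23987) D23986 (iv5 F37471)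
def n25087 : Q := act 3 n11917
theorem D25087 : act 3 n11917 = n25087 := rfl
theorem F39414 : act 2 n25087 = n24505 := d0_1 D25087 (iv3 F38475) F36890 (iv3 F36891) (iv2 F20288)
theorem F39415 : act 7 n25087 = n24506 := d8_2 (iv7 F20286) D25087 F38480
theorem F39416 : act 4 n25087 = n24760 := d20_6 D11728 F19073 (iv4 D5594) (iv3 F8533) D11917 D25087 (iv1 D24760) (iv4 D11722) F8276 D5455
theorem F39417 : act 0 n24501 = n25087 := d18_0 F39416 (iv1 D24760) (iv4 D11722) (iv5 D5453) (iv4 F10015) F10115 (iv4 F8811) F18952 D24501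
theorem F39418 : act 1 n24454 = n25087 := d15_0 (iv0 F39417) F38463 (iv2 F38376)
def n25088 : Q := act 4 n11917
theorem D25088 : act 4 n11917 = n25088 := rfl
theorem F39419 : act 2 n25088 = n24585 := d1_1 D25088 (iv4 D24585) (iv2 F20288)
theorem F39420 : act 7 n25088 = n24583 := d11_2 (iv7 F20286) D25088 (iv4 D24583)
def n25089 : Q := act 6 n11917
theorem D25089 : act 6 n11917 = n25089 := rfl
theorem F39421 : act 2 n25089 = n24586 := d3_1 D25089 (iv6 D24586) (iv2 F20288)
theorem F39422 : act 5 n25089 = n14351 := d12_1 D25089 (iv6 D14351) F22283 F22281 F22279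
theorem F39423 : act 0 n25089 = n24618 := d21_4 (iv5 F10365) D13398 F22279 D25089 (iv6 D24618) (iv5 D11655) F22450 D7650 F11875 F20247
theorem F39424 : act 1 n25089 = n24629 := d15_1 (iv0 F39423) (iv7 D24629) (iv2 F38619)
def n25090 : Q := act 4 n11918
theorem D25090 : act 4 n11918 = n25090 := rfl
theorem F39425 : act 2 n25090 = n24583 := d1_1 D25090 (iv4 D24583) F20285
theorem F39426 : act 7 n25090 = n24585 := d11_2 F20287 D25090 (iv4 D24585)
def n25091 : Q := act 6 n11918
theorem D25091 : act 6 n11918 = n25091 := rfl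
theorem F39427 : act 2 n25091 = n24584 := d3_1 D25091 (iv6 D24584) F20285
theorem F39428 : act 5 n25091 = n12260 := d12_1 D25091 (iv6 D12260) (iv5 D5814) D5815 (iv5 F19641)
def n25092 : Q := act 0 n11919
theorem D25092 : act 0 n11919 = n25092 := rfl
theorem F39429 : act 1 n24572 = n25092 := d15_0 (iv0 D25092) F19642 (iv2 F38557)
def n25093 : Q := act 1 n11919
theorem D25093 : act 1 n11919 = n25093 := rfl
theorem F39430 : act 1 n25093 = n24572 := d15_1 D25093 (iv7 F39400) F39399
def n25094 : Q := act 3 n11919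
theorem D25094 : act 3 n11919 = n25094 := rfl
theorem F39431 : act 4 n25094 = n11924 := d5_2 D11919 D25094 (iv3 D11924) (iv4 D5594) (iv3 F8533)
theorem F39432 : act 7 n25094 = n24589 := d8_2 (iv7 F19642) D25094 (iv3 D24589)
def n25095 : Q := act 5 n11919
theorem D25095 : act 5 n11919 = n25095 := rfl
theorem F39433 : act 7 n25095 = n24590 := d13_2 (iv7 F19642) D25095 (iv5 D24590)
def n25096 : Q := act 6 n11919
theorem D25096 : act 6 n11919 = n25096 := rfl
theorem F39434 : act 4 n25096 = n11920 := d10_1 D25096 (iv6 D11920) D11919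
def n25097 : Q := act 0 n11920
theorem D25097 : act 0 n11920 = n25097 := rfl
def n25098 : Q := act 7 n11920
theorem D25098 : act 7 n11920 = n25098 := rfl
theorem F39435 : act 3 n25098 = n11927 := d8_1 D25098 (iv7 D11927) (iv3 F19643)
theorem F39436 : act 6 n25098 = n24594 := d14_1 D25098 (iv7 D24594) (iv6 D11631) (iv7 F8534) D11920
theorem F39437 : act 1 n24621 = n25098 := d15_1 (iv0 F39405) (iv7 D25098) (iv2 F39403)
def n25099 : Q := act 3 n11921
theorem D25099 : act 3 n11921 = n25099 := rfl
theorem F39438 : act 2 n25099 = n13397 := d0_1 D25099 (iv3 D13397) (iv2 F10137) D11705 F19648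
theorem F39439 : act 4 n25099 = n13399 := d5_2 (iv4 F19649) D25099 (iv3 F22359) F22360 F19776
theorem F39440 : act 5 n25099 = n12263 := d6_2 F19655 D25099 (iv3 D12263)
theorem F39441 : act 7 n25099 = n14342 := d8_2 (iv7 F19656) D25099 F23959
theorem F39442 : act 1 n24509 = n25099 := d15_1 F38484 F39441 F23958
theorem F39443 : act 0 n24502 = n25099 := d21_10 F39440 (iv1 F37891) (iv5 D24151) F19412 (iv1 D11345) D11348 D24160 (iv1 F38464) (iv5 D24501) D24502
def n25100 : Q := act 0 n11924
theorem D25100 : act 0 n11924 = n25100 := rfl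
theorem F39444 : act 1 n24601 = n25100 := d15_0 (iv0 D25100) F19663 D24601
def n25101 : Q := act 1 n11924
theorem D25101 : act 1 n11924 = n25101 := rfl
def n25102 : Q := act 2 n11924
theorem D25102 : act 2 n11924 = n25102 := rfl
theorem F39445 : act 3 n25102 = n24633 := d0_2 D11924 D25102 (iv2 D24633) (iv3 D11665) (iv2 F8536)
theorem F39446 : act 7 n25102 = n24601 := d4_2 (iv7 F19663) D25102 (iv2 D24601)
theorem F39447 : act 1 n25102 = n24599 := d15_0 (iv0 D24599) (iv7 F19663) D25102
theorem F39448 : act 1 n25101 = n24601 := d15_1 D25101 (iv7 F39446) (iv2 D25102)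
theorem F39449 : act 1 n24600 = n25102 := d15_1 D24600 F39446 (iv2 D24601)
def n25103 : Q := act 6 n11924
theorem D25103 : act 6 n11924 = n25103 := rfl
theorem F39450 : act 3 n25103 = n11925 := d7_1 D25103 (iv6 D11925) D11924
def n25104 : Q := act 5 n11925
theorem D25104 : act 5 n11925 = n25104 := rfl
theorem F39451 : act 2 n25104 = n24636 := d2_1 D25104 (iv5 D24636) (iv2 F19664)
def n25105 : Q := act 7 n11925
theorem D25105 : act 7 n11925 = n25105 := rfl
theorem F39452 : act 2 n25105 = n24637 := d4_1 D25105 (iv7 D24637) (iv2 F19664)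
theorem F39453 : act 4 n25105 = n11927 := d11_1 D25105 (iv7 D11927) (iv4 F19665)
theorem F39454 : act 6 n25105 = n24606 := d14_1 D25105 (iv7 D24606) (iv6 D11640) (iv7 F8537) D11925
theorem F39455 : act 1 n24598 = n25105 := d15_1 (iv0 F38607) (iv7 D25105) F19664
theorem F39456 : act 1 n25105 = n24635 := d15_1 F39455 F38857 F38792
def n25106 : Q := act 3 n11926
theorem D25106 : act 3 n11926 = n25106 := rfl
theorem F39457 : act 7 n25106 = n24489 := d8_2 (iv7 F19670) D25106 F38447
def n25107 : Q := act 4 n11926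
theorem D25107 : act 4 n11926 = n25107 := rfl
theorem F39458 : act 2 n25107 = n24639 := d1_1 D25107 (iv4 D24639) (iv2 F19671)
theorem F39459 : act 7 n25107 = n24596 := d11_2 (iv7 F19670) D25107 F38604
theorem F39460 : act 1 n24827 = n25107 := d15_1 F39353 F39459 (iv2 F39350)
theorem E4767 : n24825 = n24639 := ((c15_4 (iv0 D24825) (iv0 F38605) (iv7 F39459) F39458)).symm
theorem F39461 : act 1 n24639 = n11761 := (sb E4767 (iv0 D24825))
theorem F39462 : act 1 n25107 = n12001 := d15_0 (iv0 F39352) (iv7 F39354) (iv2 F39458)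
def n25108 : Q := act 4 n11930
theorem D25108 : act 4 n11930 = n25108 := rfl
theorem F39463 : act 2 n25108 = n11931 := d1_1 D25108 (iv4 D11931) D11930
theorem F39464 : act 7 n25108 = n24673 := d11_2 (iv7 F19676) D25108 (iv4 D24673)
theorem F39465 : act 0 n25108 = n24676 := d18_2 F22441 D25108 (iv4 F38732) (iv5 D24745) F19056 F8630 (iv4 F10107) F22437 D7646
theorem F39466 : act 1 n25108 = n24675 := d18_6 F38492 F38491 (iv1 F19778) (iv4 F22360) F22361 D25108 F38672 (iv0 F38110) (iv5 F24601)
def n25109 : Q := act 6 n11930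
theorem D25109 : act 6 n11930 = n25109 := rfl
theorem F39467 : act 2 n25109 = n11932 := d3_1 D25109 (iv6 D11932) D11930
theorem F39468 : act 3 n25109 = n24646 := d7_1 D25109 (iv6 D24646) (iv3 F19675)
def n25110 : Q := act 0 n11931
theorem D25110 : act 0 n11931 = n25110 := rfl
theorem F39469 : act 1 n24673 = n25110 := d15_0 (iv0 D25110) F19680 (iv2 F38669)
def n25111 : Q := act 1 n11931
theorem D25111 : act 1 n11931 = n25111 := rfl
theorem F39470 : act 1 n25111 = n24673 := d15_1 D25111 (iv7 F39464) F39463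
theorem F39471 : act 4 n24238 = n25111 := d20_6 (iv4 F8252) (iv1 F8568) F8570 D6341 F19555 (iv3 F37999) (iv1 D25111) (iv4 D11931) (iv3 D5598) (iv1 F3681)
theorem F39472 : act 2 n25111 = n24675 := d1_1 F39471 F38672 F38108
theorem F39473 : act 6 n25111 = n24648 := d10_2 F38107 F39471 (iv4 F38648)
theorem F39474 : act 7 n25111 = n24676 := d11_2 F38730 F39471 (iv4 F38732)
theorem F39475 : act 2 n24676 = n25110 := d15_3 (iv0 D25110) D25111 F39474
theorem F39476 : act 7 n24675 = n25110 := d4_2 (iv7 F39474) F39472 (iv2 F39475)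
def n25112 : Q := act 3 n11931
theorem D25112 : act 3 n11931 = n25112 := rfl
theorem F39477 : act 4 n25112 = n11933 := d5_2 D11931 D25112 (iv3 D11933) (iv4 D5599) D5598
theorem F39478 : act 7 n25112 = n24677 := d8_2 (iv7 F19680) D25112 (iv3 D24677)
def n25113 : Q := act 5 n11931
theorem D25113 : act 5 n11931 = n25113 := rfl
theorem F39479 : act 7 n25113 = n24678 := d13_2 (iv7 F19680) D25113 (iv5 D24678)
def n25114 : Q := act 6 n11931
theorem D25114 : act 6 n11931 = n25114 := rfl
theorem F39480 : act 4 n25114 = n11932 := d10_1 D25114 (iv6 D11932) D11931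
def n25115 : Q := act 0 n11932
theorem D25115 : act 0 n11932 = n25115 := rfl
def n25116 : Q := act 1 n11932
theorem D25116 : act 1 n11932 = n25116 := rfl
def n25117 : Q := act 7 n11932
theorem D25117 : act 7 n11932 = n25117 := rfl
theorem F39481 : act 3 n25117 = n11937 := d8_1 D25117 (iv7 D11937) (iv3 F19681)
theorem F39482 : act 6 n25117 = n24682 := d14_1 D25117 (iv7 D24682) (iv6 D11686) (iv7 F8552) D11932
def n25118 : Q := act 0 n11933
theorem D25118 : act 0 n11933 = n25118 := rfl
theorem F39483 : act 1 n24685 = n25118 := d15_0 (iv0 D25118) F19683 D24685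
def n25119 : Q := act 1 n11933
theorem D25119 : act 1 n11933 = n25119 := rfl
def n25120 : Q := act 2 n11933
theorem D25120 : act 2 n11933 = n25120 := rfl
theorem F39484 : act 3 n25120 = n24658 := d0_2 D11933 D25120 (iv2 D24658) (iv3 D11676) (iv2 F8553)
theorem F39485 : act 5 n25120 = n25102 := d2_2 (iv5 F19682) D25120 (iv2 D25102)
theorem F39486 : act 7 n25120 = n24685 := d4_2 (iv7 F19683) D25120 (iv2 D24685)
theorem F39487 : act 1 n25120 = n24683 := d15_0 (iv0 D24683) (iv7 F19683) D25120
theorem F39488 : act 1 n25119 = n24685 := d15_1 D25119 (iv7 F39486) (iv2 D25120)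
theorem F39489 : act 1 n24684 = n25120 := d15_1 D24684 F39486 (iv2 D24685)
def n25121 : Q := act 6 n11933
theorem D25121 : act 6 n11933 = n25121 := rfl
theorem F39490 : act 3 n25121 = n11934 := d7_1 D25121 (iv6 D11934) D11933
def n25122 : Q := act 0 n11934
theorem D25122 : act 0 n11934 = n25122 := rfl
def n25123 : Q := act 1 n11934
theorem D25123 : act 1 n11934 = n25123 := rfl
theorem F39491 : act 1 n25123 = n24663 := d15_1 D25123 (iv7 D24663) (iv2 F19684)
def n25124 : Q := act 5 n11934
theorem D25124 : act 5 n11934 = n25124 := rfl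
theorem F39492 : act 2 n25124 = n24662 := d2_1 D25124 (iv5 D24662) (iv2 F19684)
theorem F39493 : act 6 n25124 = n25104 := d12_2 D11934 D25124 (iv5 D25104) (iv6 D11925) (iv5 F8555)
def n25125 : Q := act 7 n11934
theorem D25125 : act 7 n11934 = n25125 := rfl
theorem F39494 : act 2 n25125 = n24663 := d4_1 D25125 (iv7 D24663) (iv2 F19684)
theorem F39495 : act 4 n25125 = n11937 := d11_1 D25125 (iv7 D11937) (iv4 F19685)
theorem F39496 : act 6 n25125 = n24690 := d14_1 D25125 (iv7 D24690) (iv6 D11688) (iv7 F8554) D11934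
theorem F39497 : act 1 n24663 = n25122 := d15_0 (iv0 D25122) D25125 F39494
theorem F39498 : act 1 n24661 = n25125 := d15_1 D24661 (iv7 D25125) F19684
theorem F39499 : act 1 n25125 = n24660 := d15_0 (iv0 D24660) D24663 (iv2 F39494)
def n25126 : Q := act 2 n11935
theorem D25126 : act 2 n11935 = n25126 := rfl
theorem F39500 : act 6 n25126 = n24695 := d3_2 (iv6 F23784) D25126 F38682
theorem F39501 : act 7 n11936 = n25126 := d15_2 (iv0 D11935) D11936 (iv2 D25126)
def n25127 : Q := act 3 n11935
theorem D25127 : act 3 n11935 = n25127 := rfl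
theorem F39502 : act 6 n25127 = n24696 := d7_2 (iv6 F23784) D25127 (iv3 D24696)
def n25128 : Q := act 4 n11935
theorem D25128 : act 4 n11935 = n25128 := rfl
theorem F39503 : act 6 n25128 = n24697 := d10_2 (iv6 F23784) D25128 (iv4 D24697)
def n25129 : Q := act 5 n11935
theorem D25129 : act 5 n11935 = n25129 := rfl
def n25130 : Q := act 7 n11935
theorem D25130 : act 7 n11935 = n25130 := rfl
theorem F39504 : act 2 n25130 = n11936 := d4_1 D25130 F39501 (iv2 D25126)
def n25131 : Q := act 3 n11936
theorem D25131 : act 3 n11936 = n25131 := rfl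
def n25132 : Q := act 4 n11936
theorem D25132 : act 4 n11936 = n25132 := rfl
def n25133 : Q := act 5 n11936
theorem D25133 : act 5 n11936 = n25133 := rfl
theorem F39505 : act 6 n25133 = n12334 := d21_3 F20409 (iv1 F19686) D25133 (iv1 D12334) (iv6 D5850) F3833 (iv1 F2111) D1405 D3160 D6992
theorem F39506 : act 0 n14709 = n25133 := d21_10 (iv5 D25133) (iv1 D11936) (iv5 F11257) (iv6 F11256) F11239 D7676 F11922 D12315 F26134 D14709
def n25134 : Q := act 6 n11936
theorem D25134 : act 6 n11936 = n25134 := rfl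
theorem F39507 : act 7 n25134 = n24694 := d14_2 (iv7 F39501) D25134 (iv6 D24694) D24695 (iv6 F39500)
theorem F39508 : act 5 n25134 = n24640 := d21_6 (iv5 F23427) (iv1 F23433) F23092 F19704 (iv1 F19686) D25134 (iv1 F38641) F24226 F19667 (iv1 F19621)
theorem F39509 : act 7 n24640 = n14565 := d13_2 (iv7 F39507) F39508 (iv5 F38681)
theorem F39510 : act 0 n24741 = n25134 := d21_10 F39508 (iv1 F38641) F24226 F19667 (iv1 F19621) D25081 F39375 F38713 (iv5 D24740) D24741
theorem F39511 : act 2 n14565 = n24641 := d15_3 F38635 F38641 F39509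
theorem F39512 : act 2 n24640 = n14564 := d15_3 (iv0 D14564) D14565 (iv7 F39509)
theorem F39513 : act 2 n24671 = n25134 := d2_3 F39508 F39512 (iv5 F38665)
theorem F39514 : act 7 n14564 = n24641 := d4_2 (iv7 F39509) F39512 (iv2 F39511)
theorem E4768 : n25130 = n11679 := (c3_4 D24671 F39513 (iv6 D25134) (iv2 F39504))
theorem E4769 : n24668 = n11936 := (((iv2 F38664)).symm.trans (sb E4768 F39504))
theorem E4770 : n24664 = n11935 := ((F38663).symm.trans (sb E4768 (iv7 D25130)))
theorem F39515 : act 2 n11936 = n11679 := (sb E4769 F38664)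
theorem E4771 : n25126 = n11678 := ((F39501).symm.trans (sb E4769 (iv7 D24668)))
theorem F39516 : act 7 n11935 = n11679 := (sb E4770 (iv7 F38663))
theorem F39517 : act 2 n11678 = n11935 := (sb E4771 (iv2 D25126))
theorem E4772 : n24695 = n11944 := (((F23703).symm.trans (sb E4771 F39500))).symm
theorem F39518 : act 7 n11678 = n11936 := (sb E4771 (iv7 F39501))
theorem F39519 : act 2 n11944 = n11690 := (sb E4772 F38682)
theorem F39520 : act 7 n11944 = n11689 := (sb E4772 (iv7 D24695))
theorem F39521 : act 7 n14251 = n14194 := d13_2 F39520 (iv5 F23780) (iv5 F23702)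
theorem E4773 : n24691 = n11943 := (c15_4 (iv0 D11943) D11944 F39520 D24691)
theorem F39522 : act 2 n11943 = n11689 := (sb E4773 (iv2 D24691))
theorem F39523 : act 7 n11943 = n11690 := (sb E4773 (iv7 F38680))
theorem F39524 : act 7 n14252 = n14193 := d13_2 F39523 F23783 F23701
theorem F39525 : act 2 n14193 = n14251 := d15_3 (iv0 D14251) D14252 F39524
theorem F39526 : act 2 n14252 = n14194 := d4_1 (iv7 F39524) (iv7 F39521) (iv2 F39525)
theorem F39527 : act 2 n14246 = n14188 := d3_3 (iv6 F23785) F39526 (iv6 F23770)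
theorem F39528 : act 7 n14189 = n14246 := d15_2 (iv0 D14188) D14189 F39527
theorem F39529 : act 7 n14247 = n14188 := d15_2 (iv0 D14246) D14247 (iv2 F39527)
theorem F39530 : act 2 n14189 = n14247 := d4_3 F39529 (iv2 F39527) (iv7 F39528)
theorem F39531 : act 7 n25131 = n24665 := d8_2 F39518 D25131 (iv3 D24665)
theorem F39532 : act 7 n25132 = n24666 := d11_2 F39518 D25132 (iv4 D24666)
theorem F39533 : act 7 n25133 = n24667 := d13_2 F39518 D25133 (iv5 D24667)
theorem F39534 : act 2 n25128 = n24666 := d1_3 (iv4 D24666) F39517 D25128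
theorem F39535 : act 2 n25129 = n24667 := d2_3 (iv5 D24667) F39517 D25129
theorem F39536 : act 7 n24669 = n25127 := d8_2 F39516 D24669 (iv3 D25127)
theorem F39537 : act 7 n24670 = n25128 := d11_2 F39516 D24670 (iv4 D25128)
theorem F39538 : act 7 n14775 = n25129 := d13_2 F39516 (iv5 F24413) (iv5 D25129)
theorem F39539 : act 2 n25133 = n14775 := d4_3 F39538 F39535 (iv7 F39533)
theorem F39540 : act 1 n14709 = n25129 := d15_1 (iv0 F39506) (iv7 F39538) (iv2 F39539)
theorem F39541 : act 6 n25063 = n14644 := d21_3 D25129 (iv1 F39540) F39341 (iv1 D14644) F11258 (iv5 D3161) F4901 (iv5 F4882) D5600 D11935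
theorem E4774 : n14771 = n12334 := (c3_4 (iv6 F39505) F39539 (iv6 D14775) (iv2 F24411))
theorem F39542 : act 2 n12334 = n7036 := (sb E4774 F24411)
theorem F39543 : act 7 n12334 = n7035 := (sb E4774 (iv7 D14771))
theorem E4775 : n14766 = n12333 := (c15_4 (iv0 D12333) D12334 F39543 D14766)
theorem F39544 : act 2 n12333 = n7035 := (sb E4775 (iv2 D14766))
theorem F39545 : act 7 n12333 = n7036 := (sb E4775 (iv7 F24408))
theorem F39546 : act 2 n25132 = n24670 := d4_3 F39537 F39534 (iv7 F39532)
def n25135 : Q := act 4 n11938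
theorem D25135 : act 4 n11938 = n25135 := rfl
theorem F39547 : act 2 n25135 = n11939 := d1_1 D25135 (iv4 D11939) D11938
theorem F39548 : act 7 n25135 = n24645 := d11_2 (iv7 F19693) D25135 (iv4 D24645)
theorem F39549 : act 0 n25135 = n24648 := d18_2 F20249 D25135 (iv4 F38648) (iv5 D24323) F18717 F19318 F18522 F8530 D11621
theorem F39550 : act 1 n25135 = n24647 := d15_0 (iv0 D24647) (iv7 F19696) (iv2 F39547)
def n25136 : Q := act 6 n11938
theorem D25136 : act 6 n11938 = n25136 := rfl
theorem F39551 : act 2 n25136 = n11940 := d3_1 D25136 (iv6 D11940) D11938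
theorem F39552 : act 3 n25136 = n24674 := d7_1 D25136 (iv6 D24674) (iv3 F19692)
def n25137 : Q := act 0 n11939
theorem D25137 : act 0 n11939 = n25137 := rfl
theorem F39553 : act 1 n24645 = n25137 := d15_0 (iv0 D25137) F19696 (iv2 F38645)
def n25138 : Q := act 1 n11939
theorem D25138 : act 1 n11939 = n25138 := rfl
theorem F39554 : act 1 n25138 = n24645 := d15_1 D25138 (iv7 F39548) F39547
def n25139 : Q := act 3 n11939
theorem D25139 : act 3 n11939 = n25139 := rfl
theorem F39555 : act 4 n25139 = n11941 := d5_2 D11939 D25139 (iv3 D11941) (iv4 D5602) D5601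
theorem F39556 : act 7 n25139 = n24649 := d8_2 (iv7 F19696) D25139 (iv3 D24649)
def n25140 : Q := act 5 n11939
theorem D25140 : act 5 n11939 = n25140 := rfl
theorem F39557 : act 7 n25140 = n24650 := d13_2 (iv7 F19696) D25140 (iv5 D24650)
def n25141 : Q := act 6 n11939
theorem D25141 : act 6 n11939 = n25141 := rfl
theorem F39558 : act 4 n25141 = n11940 := d10_1 D25141 (iv6 D11940) D11939
def n25142 : Q := act 0 n11940
theorem D25142 : act 0 n11940 = n25142 := rfl
def n25143 : Q := act 1 n11940
theorem D25143 : act 1 n11940 = n25143 := rfl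
def n25144 : Q := act 7 n11940
theorem D25144 : act 7 n11940 = n25144 := rfl
theorem F39559 : act 3 n25144 = n11945 := d8_1 D25144 (iv7 D11945) (iv3 F19697)
theorem F39560 : act 6 n25144 = n24655 := d14_1 D25144 (iv7 D24655) (iv6 D11675) (iv7 F8558) D11940
def n25145 : Q := act 0 n11941
theorem D25145 : act 0 n11941 = n25145 := rfl
theorem F39561 : act 1 n24658 = n25145 := d15_0 (iv0 D25145) F19699 D24658
def n25146 : Q := act 1 n11941
theorem D25146 : act 1 n11941 = n25146 := rfl
def n25147 : Q := act 2 n11941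
theorem D25147 : act 2 n11941 = n25147 := rfl
theorem F39562 : act 3 n25147 = n24685 := d0_2 D11941 D25147 (iv2 D24685) (iv3 D11687) (iv2 F8559)
theorem F39563 : act 5 n25147 = n25069 := d2_2 (iv5 F19698) D25147 (iv2 D25069)
theorem F39564 : act 7 n25147 = n24658 := d4_2 (iv7 F19699) D25147 (iv2 D24658)
theorem F39565 : act 1 n25147 = n24656 := d15_0 (iv0 D24656) (iv7 F19699) D25147
theorem F39566 : act 1 n25146 = n24658 := d15_1 D25146 (iv7 F39564) (iv2 D25147)
theorem F39567 : act 1 n24657 = n25147 := d15_1 D24657 F39564 (iv2 D24658)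
def n25148 : Q := act 6 n11941
theorem D25148 : act 6 n11941 = n25148 := rfl
theorem F39568 : act 3 n25148 = n11942 := d7_1 D25148 (iv6 D11942) D11941
def n25149 : Q := act 0 n11942
theorem D25149 : act 0 n11942 = n25149 := rfl
def n25150 : Q := act 1 n11942
theorem D25150 : act 1 n11942 = n25150 := rfl
theorem F39569 : act 1 n25150 = n24690 := d15_1 D25150 (iv7 D24690) (iv2 F19700)
def n25151 : Q := act 5 n11942
theorem D25151 : act 5 n11942 = n25151 := rfl
theorem F39570 : act 2 n25151 = n24689 := d2_1 D25151 (iv5 D24689) (iv2 F19700)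
theorem F39571 : act 6 n25151 = n25073 := d12_2 D11942 D25151 (iv5 D25073) (iv6 D11910) (iv5 F8560)
def n25152 : Q := act 7 n11942
theorem D25152 : act 7 n11942 = n25152 := rfl
theorem F39572 : act 2 n25152 = n24690 := d4_1 D25152 (iv7 D24690) (iv2 F19700)
theorem F39573 : act 4 n25152 = n11945 := d11_1 D25152 (iv7 D11945) (iv4 F19701)
theorem F39574 : act 6 n25152 = n24663 := d14_1 D25152 (iv7 D24663) (iv6 D11677) (iv7 F8561) D11942
theorem F39575 : act 1 n24690 = n25149 := d15_0 (iv0 D25149) D25152 F39572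
theorem F39576 : act 1 n24688 = n25152 := d15_1 D24688 (iv7 D25152) F19700
theorem F39577 : act 1 n25152 = n24687 := d15_0 (iv0 D24687) D24690 (iv2 F39572)
def n25153 : Q := act 3 n11943
theorem D25153 : act 3 n11943 = n25153 := rfl
theorem F39578 : act 7 n25153 = n24696 := d8_2 (iv7 F39523) D25153 (iv3 D24696)
def n25154 : Q := act 4 n11943
theorem D25154 : act 4 n11943 = n25154 := rfl
theorem F39579 : act 2 n25154 = n24693 := d1_1 D25154 (iv4 D24693) (iv2 F39522)
theorem F39580 : act 7 n25154 = n24697 := d11_2 (iv7 F39523) D25154 (iv4 D24697)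
def n25155 : Q := act 6 n11943
theorem D25155 : act 6 n11943 = n25155 := rfl
theorem F39581 : act 2 n25155 = n24694 := d3_1 D25155 (iv6 D24694) (iv2 F39522)
theorem F39582 : act 7 n25155 = n24671 := d14_2 (iv7 F39523) D25155 (iv6 D24671) (iv7 F39516) F23784
theorem F39583 : act 0 n25155 = n24741 := d21_4 (iv5 F10996) D14193 F23701 D25155 (iv6 D24741) D24740 F39377 (iv5 F39375) (iv6 D25081) (iv1 D11912)
theorem F39584 : act 5 n25155 = n24641 := d21_6 (iv5 F8660) F8661 F4891 D5603 D11943 D25155 (iv1 D24641) (iv5 D11668) (iv6 D5417) (iv1 F8221)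
def n25156 : Q := act 3 n11944
theorem D25156 : act 3 n11944 = n25156 := rfl
theorem F39585 : act 6 n25156 = n24665 := d7_2 F23703 D25156 (iv3 D24665)
theorem F39586 : act 7 n25156 = n24692 := d8_2 (iv7 F39520) D25156 (iv3 D24692)
def n25157 : Q := act 4 n11944
theorem D25157 : act 4 n11944 = n25157 := rfl
theorem F39587 : act 2 n25157 = n24697 := d1_1 D25157 (iv4 D24697) (iv2 F39519)
theorem F39589 : act 7 n25157 = n24693 := d11_2 (iv7 F39520) D25157 (iv4 D24693)
def n25158 : Q := act 0 n11946
theorem D25158 : act 0 n11946 = n25158 := rfl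
theorem F39590 : act 1 n24709 = n25158 := d15_0 (iv0 D25158) F19708 D24709
def n25159 : Q := act 1 n11946
theorem D25159 : act 1 n11946 = n25159 := rfl
def n25160 : Q := act 2 n11946
theorem D25160 : act 2 n11946 = n25160 := rfl
theorem F39591 : act 3 n25160 = n24700 := d0_2 D11946 D25160 (iv2 D24700) (iv3 D11692) F8566
theorem F39592 : act 7 n25160 = n24709 := d4_2 (iv7 F19708) D25160 (iv2 D24709)
theorem F39593 : act 1 n25160 = n24707 := d15_0 (iv0 D24707) (iv7 F19708) D25160
theorem F39594 : act 1 n25159 = n24709 := d15_1 D25159 (iv7 F39592) (iv2 D25160)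
theorem F39595 : act 1 n24708 = n25160 := d15_1 D24708 F39592 (iv2 D24709)
def n25161 : Q := act 4 n11946
theorem D25161 : act 4 n11946 = n25161 := rfl
theorem F39596 : act 3 n25161 = n13374 := d5_1 D25161 (iv4 D13374) (iv3 D6339) (iv4 F8564) D11946
theorem F39597 : act 7 n25161 = n24710 := d11_2 (iv7 F19708) D25161 (iv4 D24710)
def n25162 : Q := act 6 n11946
theorem D25162 : act 6 n11946 = n25162 := rfl
def n25163 : Q := act 0 n11947
theorem D25163 : act 0 n11947 = n25163 := rfl
def n25164 : Q := act 1 n11947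
theorem D25164 : act 1 n11947 = n25164 := rfl
theorem F39599 : act 1 n25164 = n24706 := d15_1 D25164 (iv7 D24706) (iv2 F19709)
def n25165 : Q := act 5 n11947
theorem D25165 : act 5 n11947 = n25165 := rfl
theorem F39600 : act 2 n25165 = n24705 := d2_1 D25165 (iv5 D24705) (iv2 F19709)
def n25166 : Q := act 7 n11947
theorem D25166 : act 7 n11947 = n25166 := rfl
theorem F39601 : act 2 n25166 = n24706 := d4_1 D25166 (iv7 D24706) (iv2 F19709)
theorem F39602 : act 4 n25166 = n13378 := d11_1 D25166 (iv7 D13378) (iv4 F19710)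
theorem F39604 : act 1 n24706 = n25163 := d15_0 (iv0 D25163) D25166 F39601
theorem F39605 : act 1 n24704 = n25166 := d15_1 D24704 (iv7 D25166) F19709
theorem F39606 : act 1 n25166 = n24703 := d15_0 (iv0 D24703) D24706 (iv2 F39601)
def n25167 : Q := act 0 n11948
theorem D25167 : act 0 n11948 = n25167 := rfl
theorem F39607 : act 1 n24700 = n25167 := d15_0 (iv0 D25167) F19711 D24700
def n25168 : Q := act 1 n11948
theorem D25168 : act 1 n11948 = n25168 := rfl
def n25169 : Q := act 2 n11948
theorem D25169 : act 2 n11948 = n25169 := rfl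
theorem F39608 : act 3 n25169 = n24709 := d0_2 D11948 D25169 (iv2 D24709) (iv3 D11694) F8571
theorem F39609 : act 7 n25169 = n24700 := d4_2 (iv7 F19711) D25169 (iv2 D24700)
theorem F39610 : act 1 n25169 = n24698 := d15_0 (iv0 D24698) (iv7 F19711) D25169
theorem F39611 : act 1 n25168 = n24700 := d15_1 D25168 (iv7 F39609) (iv2 D25169)
theorem F39612 : act 1 n24699 = n25169 := d15_1 D24699 F39609 (iv2 D24700)
def n25170 : Q := act 4 n11948
theorem D25170 : act 4 n11948 = n25170 := rfl
theorem F39613 : act 3 n25170 = n13380 := d5_1 D25170 (iv4 D13380) (iv3 D6341) (iv4 F8570) D11948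
theorem F39614 : act 7 n25170 = n24701 := d11_2 (iv7 F19711) D25170 (iv4 D24701)
def n25171 : Q := act 6 n11948
theorem D25171 : act 6 n11948 = n25171 := rfl
def n25172 : Q := act 0 n11949
theorem D25172 : act 0 n11949 = n25172 := rfl
def n25173 : Q := act 1 n11949
theorem D25173 : act 1 n11949 = n25173 := rfl
theorem F39616 : act 1 n25173 = n24715 := d15_1 D25173 (iv7 D24715) (iv2 F19712)
def n25174 : Q := act 5 n11949
theorem D25174 : act 5 n11949 = n25174 := rfl
theorem F39617 : act 2 n25174 = n24714 := d2_1 D25174 (iv5 D24714) (iv2 F19712)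
def n25175 : Q := act 7 n11949
theorem D25175 : act 7 n11949 = n25175 := rfl
theorem F39618 : act 2 n25175 = n24715 := d4_1 D25175 (iv7 D24715) (iv2 F19712)
theorem F39619 : act 4 n25175 = n13384 := d11_1 D25175 (iv7 D13384) (iv4 F19713)
theorem F39621 : act 1 n24715 = n25172 := d15_0 (iv0 D25172) D25175 F39618
theorem F39622 : act 1 n24713 = n25175 := d15_1 D24713 (iv7 D25175) F19712
theorem F39623 : act 1 n25175 = n24712 := d15_0 (iv0 D24712) D24715 (iv2 F39618)
def n25176 : Q := act 2 n11950
theorem D25176 : act 2 n11950 = n25176 := rfl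
theorem F39624 : act 7 n11951 = n25176 := d15_2 (iv0 D11950) D11951 (iv2 D25176)
def n25177 : Q := act 3 n11950
theorem D25177 : act 3 n11950 = n25177 := rfl
def n25178 : Q := act 4 n11950
theorem D25178 : act 4 n11950 = n25178 := rfl
def n25179 : Q := act 5 n11950
theorem D25179 : act 5 n11950 = n25179 := rfl
def n25180 : Q := act 6 n11950
theorem D25180 : act 6 n11950 = n25180 := rfl
def n25181 : Q := act 7 n11950
theorem D25181 : act 7 n11950 = n25181 := rfl
theorem F39625 : act 2 n25181 = n11951 := d4_1 D25181 F39624 (iv2 D25176)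
def n25182 : Q := act 3 n11951
theorem D25182 : act 3 n11951 = n25182 := rfl
def n25183 : Q := act 4 n11951
theorem D25183 : act 4 n11951 = n25183 := rfl
def n25184 : Q := act 5 n11951
theorem D25184 : act 5 n11951 = n25184 := rfl
def n25185 : Q := act 6 n11951
theorem D25185 : act 6 n11951 = n25185 := rfl
def n25186 : Q := act 2 n11953
theorem D25186 : act 2 n11953 = n25186 := rfl
theorem F39626 : act 7 n11953 = n25186 := d15_2 (iv0 D11953) F19716 (iv2 D25186)
def n25187 : Q := act 3 n11953
theorem D25187 : act 3 n11953 = n25187 := rfl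
def n25188 : Q := act 4 n11953
theorem D25188 : act 4 n11953 = n25188 := rfl
def n25189 : Q := act 5 n11953
theorem D25189 : act 5 n11953 = n25189 := rfl
theorem F39627 : act 0 n25189 = n25081 := d21_1 D25189 F39375 (iv6 D24613) (iv1 D11642) (iv6 D5406) (iv5 D2223) (iv1 F2053) (iv5 F3680) D5607 D11953
theorem F39628 : act 6 n25189 = n25062 := d21_9 F24325 (iv1 F19018) (iv5 D11680) (iv6 D5423) (iv1 F3683) D5607 F8574 D11953 D25189 (iv1 F39345)
theorem F39629 : act 0 n25081 = n25189 := d21_10 (iv5 D25189) (iv1 F19716) F8574 (iv6 D5607) (iv1 F3682) D5426 (iv5 F10855) D14041 F23427 D25081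
def n25190 : Q := act 6 n11953
theorem D25190 : act 6 n11953 = n25190 := rfl
theorem F39630 : act 5 n25190 = n16541 := d21_6 (iv5 D2223) (iv1 F2053) (iv5 F3680) D5607 D11953 D25190 (iv1 D16541) (iv5 F18980) (iv6 D11637) (iv1 D5404)
theorem F39631 : act 0 n25190 = n24671 := d21_10 F38665 F38643 F38639 (iv6 F19623) (iv1 F19625) D24613 (iv5 F39375) F39629 (iv5 D25189) D25190
theorem F39632 : act 0 n24694 = n25190 := d21_4 (iv5 F11041) D14251 F23780 D24694 (iv6 D25190) D25189 F39627 F39375 (iv6 D24613) (iv1 D11642)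
theorem F39633 : act 0 n14774 = n14592 := d21_4 (iv5 F39630) F39631 F38665 F24412 (iv6 D14592) (iv5 F11234) (iv1 F20376) (iv5 F26198) F26199 (iv1 F26177)
def n25191 : Q := act 5 n11954
theorem D25191 : act 5 n11954 = n25191 := rfl
theorem F39634 : act 3 n25191 = n11956 := d6_1 D25191 (iv5 D11956) D11954
theorem F39635 : act 7 n25191 = n24323 := d13_2 (iv7 F19718) D25191 (iv5 D24323)
theorem F39636 : act 4 n25191 = n25138 := d18_5 F10116 (iv4 F10122) (iv1 F18524) (iv4 F19719) D25191 F39554 (iv4 D24645) F19011 (iv5 D6844)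
theorem F39637 : act 7 n25138 = n24648 := d11_2 (iv7 F39635) F39636 (iv4 F38648)
theorem F39638 : act 2 n24648 = n25137 := d15_3 (iv0 D25137) D25138 F39637
theorem F39639 : act 2 n25138 = n24647 := d15_3 (iv0 D24647) D24648 (iv7 F39637)
theorem F39640 : act 7 n24647 = n25137 := d4_2 (iv7 F39637) F39639 (iv2 F39638)
theorem F39641 : act 6 n25137 = n24675 := d3_2 F39473 F39638 (iv2 F39472)
def n25192 : Q := act 5 n11955
theorem D25192 : act 5 n11955 = n25192 := rfl
theorem F39642 : act 2 n25192 = n24745 := d2_1 D25192 (iv5 D24745) (iv2 F19722)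
theorem F39643 : act 7 n25192 = n24324 := d13_2 (iv7 F19724) D25192 (iv5 D24324)
theorem F39644 : act 4 n25192 = n25110 := d18_5 (iv1 F22449) (iv4 F10042) D5634 D11955 D25192 (iv0 D25110) (iv4 D11931) (iv0 F22451) (iv5 D7650)
theorem F39645 : act 0 n23940 = n25192 := d20_10 F39644 (iv1 F39469) (iv4 D24673) (iv3 F19692) (iv1 F20248) F11101 D11110 D23723 F36913 D23940
theorem F39646 : act 0 n13489 = n24223 := d17_0 F37972 F39645 (iv5 D25192) (iv4 D11955) D11956 F22342 F9867 (iv0 F22595) (iv4 F22646)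
theorem F39647 : act 1 n23940 = n24238 := d15_1 (iv0 F39645) (iv7 F38730) (iv2 F39642)
def n25193 : Q := act 4 n11956
theorem D25193 : act 4 n11956 = n25193 := rfl
theorem F39648 : act 2 n25193 = n24799 := d1_1 D25193 (iv4 D24799) (iv2 F19727)
theorem F39649 : act 7 n25193 = n24325 := d11_2 (iv7 F19728) D25193 (iv4 D24325)
theorem F39650 : act 0 n25193 = n25007 := d20_1 D25193 (iv4 D25007) (iv3 D11877) (iv1 D5573) F3670 D2326 D5604 F8564 D6339 (iv1 F22342)
def n25194 : Q := act 6 n11956
theorem D25194 : act 6 n11956 = n25194 := rfl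
theorem F39651 : act 2 n25194 = n24800 := d3_1 D25194 (iv6 D24800) (iv2 F19727)
theorem F39652 : act 5 n25194 = n25194 := d12_1 D25194 (iv6 D25194) (iv5 D11956) F19379 D11956
theorem F39653 : act 7 n25194 = n24748 := d14_2 (iv7 F19728) D25194 (iv6 D24748) (iv7 F19434) (iv6 F18721)
def n25195 : Q := act 4 n11957
theorem D25195 : act 4 n11957 = n25195 := rfl
theorem F39654 : act 2 n25195 = n11961 := d1_1 D25195 (iv4 D11961) (iv2 F19729)
theorem F39655 : act 7 n25195 = n24801 := d11_2 (iv7 F19731) D25195 (iv4 D24801)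
theorem F39656 : act 0 n25195 = n24812 := d18_2 (iv1 F19734) D25195 F38836 (iv5 D14408) F11185 (iv0 F22485) F22489 F19775 (iv5 F22592)
theorem F39657 : act 1 n25195 = n24811 := d18_6 F22446 F8813 (iv1 F22437) F10107 D11957 D25195 F39303 (iv0 D24986) (iv5 D11866)
def n25196 : Q := act 6 n11957
theorem D25196 : act 6 n11957 = n25196 := rfl
theorem F39658 : act 2 n25196 = n11962 := d3_1 D25196 (iv6 D11962) (iv2 F19729)
theorem F39659 : act 3 n25196 = n24750 := d7_1 D25196 (iv6 D24750) (iv3 F19730)
def n25197 : Q := act 7 n11958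
theorem D25197 : act 7 n11958 = n25197 := rfl
theorem F39660 : act 2 n25197 = n11965 := d4_1 D25197 (iv7 D11965) (iv2 F19735)
theorem F39661 : act 3 n25197 = n24752 := d8_1 D25197 (iv7 D24752) (iv3 F19736)
theorem F39662 : act 4 n25197 = n14279 := d11_1 D25197 F23834 (iv4 F19737)
theorem F39663 : act 5 n25197 = n13456 := d13_1 D25197 F22424 (iv5 F22422)
theorem F39664 : act 6 n25197 = n24804 := d14_1 D25197 (iv7 D24804) (iv6 D11752) (iv7 F8627) D11958
theorem F39665 : act 1 n11964 = n25197 := d15_1 D11964 (iv7 D25197) F19735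
theorem F39666 : act 1 n25197 = n11963 := d15_1 F39665 (iv7 F38845) F38844
def n25198 : Q := act 3 n11959
theorem D25198 : act 3 n11959 = n25198 := rfl
theorem F39667 : act 5 n25198 = n24504 := d6_2 F22576 D25198 F38470
theorem F39668 : act 7 n25198 = n24805 := d8_2 F22581 D25198 (iv3 D24805)
theorem F39669 : act 4 n25198 = n25093 := d20_6 D11907 F19612 (iv4 D5640) (iv3 F8631) D11959 D25198 (iv1 D25093) (iv4 D11919) F8533 (iv1 F8509)
theorem F39670 : act 7 n25093 = n24588 := d11_2 (iv7 F39668) F39669 (iv4 F38825)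
theorem F39671 : act 0 n23795 = n25198 := d18_0 F39669 (iv1 D25093) (iv4 D11919) (iv5 D5592) (iv4 F7799) D11345 (iv4 F19719) (iv0 F19720) D23795
theorem F39672 : act 2 n24588 = n25092 := d15_3 (iv0 D25092) D25093 F39670
theorem F39673 : act 2 n25093 = n24587 := d15_3 (iv0 D24587) D24588 (iv7 F39670)
theorem F39674 : act 7 n24587 = n25092 := d4_2 (iv7 F39670) F39673 (iv2 F39672)
theorem F39675 : act 1 n13349 = n25198 := d17_6 (iv1 F37081) (iv5 F37104) (iv1 F37106) (iv5 D11158) (iv4 F10354) D13349 F39667 (iv0 F38472) F38024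
def n25199 : Q := act 4 n11959
theorem D25199 : act 4 n11959 = n25199 := rfl
theorem F39676 : act 2 n25199 = n24809 := d1_1 D25199 (iv4 D24809) (iv2 F22579)
theorem F39677 : act 7 n25199 = n24806 := d11_2 F22581 D25199 (iv4 D24806)
theorem F39678 : act 0 n25199 = n24987 := d18_2 D11959 D25199 (iv4 D24987) (iv5 D11866) D11865 (iv0 F19725) (iv4 D11955) (iv0 D5634) D5637
def n25200 : Q := act 6 n11959
theorem D25200 : act 6 n11959 = n25200 := rfl
theorem F39679 : act 2 n25200 = n24810 := d3_1 D25200 (iv6 D24810) (iv2 F22579)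
def n25201 : Q := act 4 n11960
theorem D25201 : act 4 n11960 = n25201 := rfl
theorem F39680 : act 2 n25201 = n24806 := d1_1 D25201 (iv4 D24806) F22583
theorem F39681 : act 7 n25201 = n24809 := d11_2 (iv7 F22582) D25201 (iv4 D24809)
theorem F39682 : act 1 n25201 = n24987 := d15_0 (iv0 F39678) F39677 (iv2 F39680)
def n25202 : Q := act 6 n11960
theorem D25202 : act 6 n11960 = n25202 := rfl
theorem F39683 : act 2 n25202 = n24807 := d3_1 D25202 (iv6 D24807) F22583
theorem F39684 : act 0 n25202 = n11995 := d21_4 F22241 (iv1 F19780) F22584 D25202 (iv6 D11995) (iv5 D5662) F19387 D11400 (iv6 F18721) (iv1 F22242)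
def n25203 : Q := act 0 n11961
theorem D25203 : act 0 n11961 = n25203 := rfl
theorem F39685 : act 1 n24801 = n25203 := d15_0 (iv0 D25203) F19740 (iv2 F38814)
def n25204 : Q := act 1 n11961
theorem D25204 : act 1 n11961 = n25204 := rfl
theorem F39686 : act 1 n25204 = n24801 := d15_1 D25204 (iv7 F39655) F39654
theorem F39687 : act 4 n25204 = n24619 := d18_7 (iv1 F22440) F11870 (iv1 F22449) (iv4 F10042) D5637 D11961 D25204 (iv0 F38623) (iv5 D12078)
theorem F39688 : act 2 n24811 = n25204 := d1_3 F39687 F39207 (iv4 F39303)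
theorem F39689 : act 7 n24812 = n25204 := d11_0 F39687 F38622 (iv4 F38836)
theorem F39690 : act 2 n24812 = n25203 := d15_3 (iv0 D25203) D25204 (iv7 F39689)
theorem F39691 : act 7 n25203 = n24811 := d4_2 (iv7 F39689) F39690 F39688
def n25205 : Q := act 3 n11961
theorem D25205 : act 3 n11961 = n25205 := rfl
theorem F39692 : act 4 n25205 = n11968 := d5_2 D11961 D25205 (iv3 D11968) (iv4 D5640) (iv3 F8631)
theorem F39693 : act 7 n25205 = n24813 := d8_2 (iv7 F19740) D25205 (iv3 D24813)
def n25206 : Q := act 5 n11961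
theorem D25206 : act 5 n11961 = n25206 := rfl
theorem F39694 : act 7 n25206 = n24814 := d13_2 (iv7 F19740) D25206 (iv5 D24814)
def n25207 : Q := act 6 n11961
theorem D25207 : act 6 n11961 = n25207 := rfl
theorem F39695 : act 4 n25207 = n11962 := d10_1 D25207 (iv6 D11962) D11961
def n25208 : Q := act 0 n11962
theorem D25208 : act 0 n11962 = n25208 := rfl
def n25209 : Q := act 1 n11962
theorem D25209 : act 1 n11962 = n25209 := rfl
def n25210 : Q := act 7 n11962
theorem D25210 : act 7 n11962 = n25210 := rfl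
theorem F39696 : act 3 n25210 = n11972 := d8_1 D25210 (iv7 D11972) (iv3 F19741)
theorem F39697 : act 6 n25210 = n24817 := d14_1 D25210 (iv7 D24817) (iv6 D11756) (iv7 F8632) D11962
def n25211 : Q := act 3 n11963
theorem D25211 : act 3 n11963 = n25211 := rfl
theorem F39698 : act 6 n25211 = n13317 := d7_2 (iv6 F23863) D25211 F22133
theorem F39699 : act 4 n25211 = n14166 := d20_6 F8517 (iv1 D2353) (iv4 F3696) (iv3 F8633) D11963 D25211 F38984 F38596 F18976 (iv1 F8516)
theorem F39700 : act 0 n12250 = n14166 := d20_7 F39662 (iv1 F23835) D25057 (iv3 F39329) F24094 F19587 (iv4 F20303) (iv4 F39699) (iv3 D25211) (iv1 F39666)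
theorem F39701 : act 0 n23796 = n25211 := d20_10 F39699 F38984 F38596 F18976 (iv1 F8516) F19293 (iv4 F38723) F38726 (iv4 F38979) F38978
def n25212 : Q := act 4 n11963
theorem D25212 : act 4 n11963 = n25212 := rfl
theorem F39702 : act 2 n25212 = n24344 := d1_1 D25212 F38166 F23864
theorem F39703 : act 3 n25212 = n14169 := d5_1 D25212 F23690 (iv3 F23684) (iv4 F39699) (iv3 D25211)
theorem F39704 : act 6 n25212 = n14167 := d10_2 (iv6 F23863) D25212 F23686
theorem F39705 : act 0 n23731 = n25212 := d20_10 (iv4 D25212) (iv1 F39666) F39662 (iv3 F38566) (iv1 F38568) (iv3 F19043) F19044 F8416 (iv4 F18021) (iv3 F36938)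
def n25213 : Q := act 3 n11964
theorem D25213 : act 3 n11964 = n25213 := rfl
theorem F39706 : act 6 n25213 = n14608 := d7_2 F38817 D25213 F38960
theorem F39707 : act 7 n25213 = n24342 := d8_2 (iv7 F23866) D25213 F38162
theorem F39708 : act 1 n24097 = n25213 := d15_1 (iv0 F37744) F39707 F38161
def n25214 : Q := act 4 n11964
theorem D25214 : act 4 n11964 = n25214 := rfl
theorem F39709 : act 7 n25214 = n24344 := d11_2 (iv7 F23866) D25214 F38166
theorem F39710 : act 0 n25214 = n23731 := d17_0 (iv5 F36940) F36941 (iv5 D13453) F10442 D6399 (iv0 F19421) F10808 D11964 D25214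
theorem F39711 : act 3 n25214 = n24751 := d20_3 (iv4 F39662) (iv1 F39665) D25214 (iv1 D24751) (iv3 F19736) F19737 F23855 (iv4 F26093) F26092 (iv1 F23836)
def n25215 : Q := act 2 n11966
theorem D25215 : act 2 n11966 = n25215 := rfl
theorem F39712 : act 3 n25215 = n13538 := d0_2 D11966 D25215 (iv2 F22693) (iv3 D11730) F8637
theorem F39713 : act 5 n25215 = n24216 := d2_2 (iv5 F19746) D25215 F37953
theorem F39714 : act 7 n25215 = n13341 := d4_2 (iv7 F19747) D25215 (iv2 F22209)
theorem F39715 : act 1 n25215 = n13330 := d15_0 F22177 (iv7 F19747) D25215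
theorem F39716 : act 1 n13327 = n25215 := d15_0 F39715 F22176 (iv2 F22163)
def n25216 : Q := act 4 n11966
theorem D25216 : act 4 n11966 = n25216 := rfl
theorem F39717 : act 7 n25216 = n24770 := d11_2 (iv7 F19747) D25216 (iv4 D24770)
def n25217 : Q := act 6 n11966
theorem D25217 : act 6 n11966 = n25217 := rfl
theorem F39718 : act 3 n25217 = n11967 := d7_1 D25217 (iv6 D11967) D11966
theorem F39719 : act 5 n25217 = n24269 := d12_1 D25217 (iv6 D24269) F18666 (iv6 F19091) (iv5 F19746)
theorem F39720 : act 0 n25217 = n13540 := d21_4 F24468 F24467 (iv5 F19746) D25217 (iv6 D13540) (iv5 D6442) F10155 D5148 (iv6 F9853) D13332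
theorem F39721 : act 7 n24828 = n25217 := d8_0 F39718 (iv7 F19851) D24828
def n25218 : Q := act 0 n11968
theorem D25218 : act 0 n11968 = n25218 := rfl
theorem F39722 : act 1 n24823 = n25218 := d15_0 (iv0 D25218) F19753 D24823
def n25219 : Q := act 1 n11968
theorem D25219 : act 1 n11968 = n25219 := rfl
def n25220 : Q := act 2 n11968
theorem D25220 : act 2 n11968 = n25220 := rfl
theorem F39723 : act 3 n25220 = n24783 := d0_2 D11968 D25220 (iv2 D24783) (iv3 D11733) (iv2 F8638)
theorem F39724 : act 5 n25220 = n25169 := d2_2 (iv5 F19752) D25220 (iv2 D25169)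
theorem F39725 : act 7 n25220 = n24823 := d4_2 (iv7 F19753) D25220 (iv2 D24823)
theorem F39726 : act 1 n25220 = n24821 := d15_0 (iv0 D24821) (iv7 F19753) D25220
theorem F39727 : act 1 n25219 = n24823 := d15_1 D25219 (iv7 F39725) (iv2 D25220)
theorem F39728 : act 1 n24822 = n25220 := d15_1 D24822 F39725 (iv2 D24823)
def n25221 : Q := act 6 n11968
theorem D25221 : act 6 n11968 = n25221 := rfl
def n25222 : Q := act 0 n11969
theorem D25222 : act 0 n11969 = n25222 := rfl
def n25223 : Q := act 1 n11969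
theorem D25223 : act 1 n11969 = n25223 := rfl
theorem F39730 : act 1 n25223 = n24788 := d15_1 D25223 (iv7 D24788) (iv2 F19754)
def n25224 : Q := act 5 n11969
theorem D25224 : act 5 n11969 = n25224 := rfl
theorem F39731 : act 2 n25224 = n24787 := d2_1 D25224 (iv5 D24787) (iv2 F19754)
theorem F39732 : act 6 n25224 = n25174 := d12_2 D11969 D25224 (iv5 D25174) (iv6 D11949) (iv5 F8640)
def n25225 : Q := act 7 n11969
theorem D25225 : act 7 n11969 = n25225 := rfl
theorem F39733 : act 2 n25225 = n24788 := d4_1 D25225 (iv7 D24788) (iv2 F19754)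
theorem F39734 : act 4 n25225 = n11972 := d11_1 D25225 (iv7 D11972) (iv4 F19755)
theorem F39735 : act 6 n25225 = n24827 := d14_1 D25225 (iv7 D24827) (iv6 D11761) (iv7 F8639) D11969
theorem F39736 : act 1 n24788 = n25222 := d15_0 (iv0 D25222) D25225 F39733
theorem F39737 : act 1 n24786 = n25225 := d15_1 D24786 (iv7 D25225) F19754
theorem F39738 : act 1 n25225 = n24785 := d15_0 (iv0 D24785) D24788 (iv2 F39733)
def n25226 : Q := act 2 n11970
theorem D25226 : act 2 n11970 = n25226 := rfl
theorem F39739 : act 6 n25226 = n24789 := d3_2 F23003 D25226 (iv2 D24789)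
theorem F39740 : act 7 n11971 = n25226 := d15_2 (iv0 D11970) D11971 (iv2 D25226)
def n25227 : Q := act 3 n11970
theorem D25227 : act 3 n11970 = n25227 := rfl
theorem F39741 : act 6 n25227 = n24790 := d7_2 F23003 D25227 (iv3 D24790)
def n25228 : Q := act 4 n11970
theorem D25228 : act 4 n11970 = n25228 := rfl
theorem F39742 : act 6 n25228 = n24791 := d10_2 F23003 D25228 (iv4 D24791)
def n25229 : Q := act 7 n11970
theorem D25229 : act 7 n11970 = n25229 := rfl
theorem F39743 : act 2 n25229 = n11971 := d4_1 D25229 F39740 (iv2 D25226)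
def n25230 : Q := act 3 n11971
theorem D25230 : act 3 n11971 = n25230 := rfl
def n25231 : Q := act 4 n11971
theorem D25231 : act 4 n11971 = n25231 := rfl
def n25232 : Q := act 6 n11971
theorem D25232 : act 6 n11971 = n25232 := rfl
theorem F39744 : act 5 n25232 = n24795 := d12_1 D25232 (iv6 D24795) (iv5 F23299) F23298 F23001
theorem F39745 : act 7 n25232 = n24795 := d14_2 (iv7 F39740) D25232 (iv6 D24795) F38800 (iv6 F39739)
def n25233 : Q := act 1 n11973
theorem D25233 : act 1 n11973 = n25233 := rfl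
theorem F39746 : act 7 n25233 = n13328 := d15_2 (iv0 F22227) D25233 F22166
theorem F39747 : act 4 n24121 = n25233 := d20_0 (iv1 D25233) F19762 (iv3 D11973) (iv1 D5643) (iv3 F8633) (iv4 F10108) D11901 (iv4 F37795) F37794 D24121
theorem F39748 : act 6 n13355 = n25233 := d21_3 D11378 (iv1 F18588) (iv5 F22233) (iv1 D25233) F19763 (iv5 F18117) F22225 (iv5 D7040) F19366 (iv1 F9975)
theorem F39749 : act 2 n25233 = n13347 := d3_1 F39748 (iv6 F24645) (iv2 F24647)
theorem F39750 : act 5 n13697 = n25233 := d21_2 D6520 D13697 (iv6 F39748) (iv1 F24471) (iv6 D7698) D7697 F24454 (iv5 D14802) F24438 (iv1 D6519)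
theorem F39751 : act 0 n13321 = n25233 := d21_4 D14802 (iv1 F24455) (iv5 D13320) D13321 (iv6 F39748) F22233 (iv1 D7050) (iv5 D3215) D3216 D7053
def n25234 : Q := act 2 n11973
theorem D25234 : act 2 n11973 = n25234 := rfl
theorem F39752 : act 3 n25234 = n13532 := d0_2 D11973 D25234 F22684 F18575 (iv2 F8645)
theorem F39753 : act 4 n25234 = n25234 := d1_2 F19762 D25234 (iv2 D25234)
theorem F39754 : act 6 n25234 = n15013 := d3_2 (iv6 F19763) D25234 (iv2 D15013)
theorem F39755 : act 7 n25234 = n13321 := d4_2 (iv7 F19764) D25234 F22143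
theorem F39756 : act 1 n25234 = n13347 := d15_0 (iv0 F22973) (iv7 F19764) D25234
theorem F39757 : act 1 n13328 = n25234 := d15_0 F39756 (iv7 D13347) (iv2 F22166)
def n25235 : Q := act 3 n11976
theorem D25235 : act 3 n11976 = n25235 := rfl
theorem F39758 : act 5 n25235 = n24805 := d6_2 F22592 D25235 (iv3 D24805)
theorem F39759 : act 7 n25235 = n24504 := d8_2 (iv7 F22594) D25235 F38470
theorem F39760 : act 4 n25235 = n24509 := d20_6 F4903 F4371 D2349 D5647 D11976 D25235 (iv1 F38484) F19219 (iv3 D6384) (iv1 F4902)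
def n25236 : Q := act 4 n11976
theorem D25236 : act 4 n11976 = n25236 := rfl
theorem F39761 : act 2 n25236 = n24796 := d1_1 D25236 F38803 (iv2 F22593)
theorem F39762 : act 3 n25236 = n24516 := d5_1 D25236 F38495 (iv3 F38482) (iv4 F39760) (iv3 D25235)
theorem F39763 : act 7 n25236 = n24511 := d11_2 (iv7 F22594) D25236 F38491
theorem F39764 : act 1 n25236 = n24223 := d18_8 F39645 F39644 (iv1 F39469) (iv4 D24673) (iv5 F22490) F22489 F19775 D25236 F37972
def n25237 : Q := act 6 n11978
theorem D25237 : act 6 n11978 = n25237 := rfl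
theorem F39765 : act 2 n25237 = n11979 := d3_1 D25237 (iv6 D11979) D11978
theorem F39766 : act 3 n25237 = n14844 := d7_1 D25237 F24503 (iv3 F19776)
theorem F39767 : act 4 n25237 = n14295 := d10_1 D25237 F23875 F22360
theorem F39768 : act 7 n25237 = n13463 := d14_2 (iv7 F19777) D25237 (iv6 D13463) (iv7 F19537) F19536
theorem F39769 : act 0 n25237 = n13469 := d21_4 D11455 (iv1 F22242) F22241 D25237 (iv6 D13469) D13468 F22435 F11304 (iv6 D5496) F19326
theorem F39770 : act 0 n13484 = n25237 := d21_4 D5495 D11753 F22592 (iv6 F22632) (iv6 D25237) (iv5 F22241) (iv1 F22243) (iv5 D11749) F19329 (iv1 D5493)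
def n25238 : Q := act 6 n11980
theorem D25238 : act 6 n11980 = n25238 := rfl
theorem F39771 : act 2 n25238 = n24143 := d3_1 D25238 (iv6 D24143) F19786
theorem F39772 : act 5 n25238 = n24079 := d12_1 D25238 (iv6 D24079) (iv5 F36897) F36898 (iv5 F19784)
theorem F39773 : act 0 n25238 = n24120 := d21_4 (iv5 F10139) (iv1 F18570) (iv5 F19784) D25238 (iv6 D24120) (iv5 D11329) (iv1 D5232) D5233 F7797 D5241
def n25239 : Q := act 6 n11981
theorem D25239 : act 6 n11981 = n25239 := rfl
theorem F39774 : act 2 n25239 = n24141 := d3_1 D25239 (iv6 D24141) F19791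
theorem F39775 : act 5 n25239 = n23719 := d12_1 D25239 (iv6 D23719) (iv5 D11106) D11107 (iv5 F19790)
def n25240 : Q := act 3 n11982
theorem D25240 : act 3 n11982 = n25240 := rfl
theorem F39776 : act 7 n25240 = n24144 := d8_2 (iv7 F19793) D25240 (iv3 D24144)
def n25241 : Q := act 6 n11982
theorem D25241 : act 6 n11982 = n25241 := rfl
theorem F39777 : act 2 n25241 = n24163 := d3_1 D25241 (iv6 D24163) (iv2 F19792)
theorem F39778 : act 4 n25241 = n11983 := d10_1 D25241 (iv6 D11983) D11982
def n25242 : Q := act 0 n11983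
theorem D25242 : act 0 n11983 = n25242 := rfl
def n25243 : Q := act 1 n11983
theorem D25243 : act 1 n11983 = n25243 := rfl
theorem F39779 : act 1 n25243 = n24167 := d15_1 D25243 (iv7 D24167) (iv2 F19794)
def n25244 : Q := act 5 n11983
theorem D25244 : act 5 n11983 = n25244 := rfl
theorem F39780 : act 2 n25244 = n24166 := d2_1 D25244 (iv5 D24166) (iv2 F19794)
theorem F39781 : act 3 n25244 = n25091 := d6_1 D25244 F39428 F20324
theorem F39782 : act 6 n25244 = n11985 := d12_2 D11983 D25244 (iv5 D11985) (iv6 D5654) D5653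
theorem F39783 : act 5 n24527 = n25243 := d21_6 (iv5 D5721) (iv1 D2393) D2394 (iv6 F8818) (iv1 F36863) D24527 (iv1 D25243) D25244 F39782 F19802
theorem F39784 : act 3 n25243 = n24537 := d6_1 F39783 (iv5 D24537) (iv3 F38512)
theorem F39785 : act 6 n25243 = n24111 := d12_2 D24527 F39783 (iv5 F37779) (iv6 F38510) (iv5 D24526)
def n25245 : Q := act 7 n11983
theorem D25245 : act 7 n11983 = n25245 := rfl
theorem F39786 : act 2 n25245 = n24167 := d4_1 D25245 (iv7 D24167) (iv2 F19794)
theorem F39787 : act 6 n25245 = n24149 := d14_1 D25245 (iv7 D24149) (iv6 D11340) F10017 D11983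
theorem F39788 : act 1 n24167 = n25242 := d15_0 (iv0 D25242) D25245 F39786
theorem F39789 : act 1 n24165 = n25245 := d15_1 D24165 (iv7 D25245) F19794
theorem F39790 : act 1 n25245 = n24164 := d15_0 (iv0 D24164) D24167 (iv2 F39786)
def n25246 : Q := act 3 n11984
theorem D25246 : act 3 n11984 = n25246 := rfl
theorem F39791 : act 2 n25246 = n14407 := d0_1 D25246 F39281 (iv2 F24260) F18530 F19797
theorem F39792 : act 4 n25246 = n24223 := d5_2 (iv4 F19796) D25246 (iv3 D24223) F18597 (iv3 F18196)
theorem F39793 : act 5 n25246 = n23720 := d6_2 (iv5 F19795) D25246 (iv3 D23720)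
theorem F39794 : act 6 n25246 = n14366 := d7_2 (iv6 F22267) D25246 (iv3 F23982)
theorem F39795 : act 7 n25246 = n14271 := d8_2 (iv7 F19798) D25246 F23819
theorem F39796 : act 0 n25246 = n14409 := d20_10 F24060 F22472 F10366 (iv3 D5501) F7597 (iv3 F5049) (iv4 F10206) F18198 (iv4 F19796) D25246
theorem F39797 : act 0 n14314 = n25246 := d20_4 F23669 F24053 (iv4 F24043) F24042 (iv3 D25246) F19796 (iv1 F18199) (iv4 F18606) (iv3 F37954) (iv1 F37957)
def n25247 : Q := act 4 n11985
theorem D25247 : act 4 n11985 = n25247 := rfl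
theorem F39798 : act 2 n25247 = n24168 := d1_1 D25247 (iv4 D24168) (iv2 F19800)
theorem F39799 : act 0 n25247 = n12106 := d18_2 (iv1 F19803) D25247 (iv4 D12106) (iv5 D5741) (iv4 D2403) F3399 (iv4 F7544) F7547 D5718
theorem F39800 : act 1 n25247 = n12095 := d18_6 (iv1 F11436) F10754 F8550 (iv4 F8681) D11985 D25247 (iv4 D12095) F19079 F19077
def n25248 : Q := act 3 n11987
theorem D25248 : act 3 n11987 = n25248 := rfl
theorem F39801 : act 4 n25248 = n12008 := d5_2 D11987 D25248 (iv3 D12008) (iv4 D5669) (iv3 F8690)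
theorem F39802 : act 7 n25248 = n14866 := d8_2 F22701 D25248 F24520
def n25249 : Q := act 5 n11987
theorem D25249 : act 5 n11987 = n25249 := rfl
theorem F39803 : act 2 n25249 = n14847 := d2_1 D25249 (iv5 D14847) (iv2 F19809)
theorem F39804 : act 0 n25249 = n23742 := d17_2 (iv1 F19811) D25249 (iv5 D23742) F18038 D11207 (iv0 F18198) (iv5 F10474) (iv0 D6432) D6434
theorem F39805 : act 1 n25249 = n23744 := d17_6 F4939 (iv5 F7937) F8550 D5657 D11987 D25249 (iv5 D23744) F18042 F8855
def n25250 : Q := act 5 n11988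
theorem D25250 : act 5 n11988 = n25250 := rfl
theorem F39806 : act 2 n25250 = n24746 := d2_1 D25250 (iv5 D24746) (iv2 F19812)
theorem F39807 : act 3 n25250 = n12357 := d6_1 D25250 (iv5 D12357) (iv3 F19813)
theorem F39808 : act 7 n25250 = n13690 := d13_2 (iv7 F19815) D25250 (iv5 D13690)
def n25251 : Q := act 4 n11989
theorem D25251 : act 4 n11989 = n25251 := rfl
theorem F39809 : act 2 n25251 = n24747 := d1_1 D25251 (iv4 D24747) (iv2 F19818)
theorem F39810 : act 7 n25251 = n24241 := d11_2 (iv7 F19819) D25251 (iv4 D24241)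
def n25252 : Q := act 6 n11989
theorem D25252 : act 6 n11989 = n25252 := rfl
theorem F39811 : act 2 n25252 = n24748 := d3_1 D25252 (iv6 D24748) (iv2 F19818)
theorem F39812 : act 5 n25252 = n25252 := d12_1 D25252 (iv6 D25252) (iv5 D11989) F19384 D11989
theorem F39813 : act 7 n25252 = n24800 := d14_2 (iv7 F19819) D25252 (iv6 D24800) (iv7 F19346) F18725
def n25253 : Q := act 4 n11990
theorem D25253 : act 4 n11990 = n25253 := rfl
theorem F39814 : act 2 n25253 = n11994 := d1_1 D25253 (iv4 D11994) (iv2 F19822)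
theorem F39815 : act 7 n25253 = n24749 := d11_2 (iv7 F19824) D25253 (iv4 D24749)
theorem F39816 : act 1 n25253 = n24759 := d18_6 F18864 F8816 (iv1 F8933) F10134 D11990 D25253 F38754 (iv0 F38379) (iv5 D24454)
theorem F39817 : act 0 n25253 = n24760 := d20_1 D25253 (iv4 F39416) (iv3 D25087) (iv1 F19639) (iv3 F19582) D25041 F39290 (iv4 F38751) (iv3 D24753) (iv1 F19826)
def n25254 : Q := act 6 n11990
theorem D25254 : act 6 n11990 = n25254 := rfl
theorem F39818 : act 2 n25254 = n11995 := d3_1 D25254 (iv6 D11995) (iv2 F19822)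
theorem F39819 : act 3 n25254 = n24802 := d7_1 D25254 (iv6 D24802) (iv3 F19823)
theorem F39820 : act 0 n24807 = n25254 := d21_4 F9867 D11976 (iv5 F22592) D24807 (iv6 D25254) (iv5 D11990) F19349 D11404 (iv6 F18725) F22339
def n25255 : Q := act 7 n11991
theorem D25255 : act 7 n11991 = n25255 := rfl
theorem F39821 : act 2 n25255 = n11999 := d4_1 D25255 (iv7 D11999) (iv2 F19827)
theorem F39822 : act 3 n25255 = n24804 := d8_1 D25255 (iv7 D24804) (iv3 F19828)
theorem F39823 : act 4 n25255 = n13398 := d11_1 D25255 F22280 F20283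
theorem F39824 : act 5 n25255 = n14816 := d13_1 D25255 (iv7 F37107) F37104
theorem F39825 : act 6 n25255 = n24752 := d14_1 D25255 (iv7 D24752) (iv6 D11719) (iv7 F8700) D11991
theorem F39826 : act 1 n11997 = n25255 := d15_1 D11997 (iv7 D25255) F19827
theorem F39827 : act 1 n25255 = n11996 := d15_1 F39826 F37094 F24294
def n25256 : Q := act 3 n11992
theorem D25256 : act 3 n11992 = n25256 := rfl
theorem F39828 : act 5 n25256 = n24796 := d6_2 (iv5 F20310) D25256 (iv3 D24796)
theorem F39829 : act 7 n25256 = n24753 := d8_2 (iv7 F20278) D25256 (iv3 D24753)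
theorem F39830 : act 4 n25256 = n25049 := d20_6 D11905 F19605 (iv4 D5664) (iv3 F8704) D11992 D25256 (iv1 D25049) (iv4 D11899) F8502 D5582
theorem F39831 : act 7 n25049 = n24623 := d11_2 (iv7 F39829) F39830 (iv4 F38751)
theorem F39832 : act 0 n24984 = n25256 := d18_0 F39830 (iv1 D25049) (iv4 D11899) (iv5 D5580) (iv4 F10042) (iv0 F19381) (iv4 F18639) (iv0 F19393) D24984
theorem F39833 : act 2 n24623 = n25048 := d15_3 (iv0 D25048) D25049 F39831
theorem F39834 : act 2 n25049 = n24622 := d15_3 (iv0 D24622) D24623 (iv7 F39831)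
theorem F39835 : act 7 n24622 = n25048 := d4_2 (iv7 F39831) F39834 (iv2 F39833)
def n25257 : Q := act 4 n11992
theorem D25257 : act 4 n11992 = n25257 := rfl
theorem F39836 : act 2 n25257 = n24757 := d1_1 D25257 (iv4 D24757) (iv2 F20280)
theorem F39837 : act 7 n25257 = n24754 := d11_2 (iv7 F20278) D25257 (iv4 D24754)
theorem F39838 : act 1 n24757 = n24507 := d15_0 (iv0 F38752) (iv7 F39837) F39836
def n25258 : Q := act 6 n11992
theorem D25258 : act 6 n11992 = n25258 := rfl
theorem F39839 : act 2 n25258 = n24758 := d3_1 D25258 (iv6 D24758) (iv2 F20280)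
theorem F39840 : act 5 n25258 = n24259 := d12_1 D25258 (iv6 D24259) F23265 F23263 (iv5 F20310)
theorem F39841 : act 0 n25258 = n24802 := d21_4 F10406 D11739 (iv5 F20310) D25258 (iv6 D24802) (iv5 D11751) F19382 D11459 F18725 F19353
theorem F39842 : act 1 n25258 = n24817 := d15_1 (iv0 F39841) (iv7 D24817) (iv2 F38815)
def n25259 : Q := act 3 n11993
theorem D25259 : act 3 n11993 = n25259 := rfl
theorem F39843 : act 5 n25259 = n23802 := d6_2 (iv5 F19831) D25259 F37117
theorem F39844 : act 7 n25259 = n24756 := d8_2 F20279 D25259 (iv3 D24756)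
theorem F39845 : act 4 n25259 = n24974 := d20_6 (iv4 F39303) (iv1 F39657) (iv4 D25195) F19730 (iv1 F19830) D25259 (iv1 F39192) (iv4 D11870) (iv3 F19303) D24986
theorem F39846 : act 0 n13336 = n25259 := d18_0 F39845 (iv1 F39192) (iv4 D11870) (iv5 D5570) D5569 F10146 D6940 (iv0 F19153) D13336
theorem F39847 : act 2 n24515 = n25259 := d2_3 F39843 F37116 D24515
theorem F39848 : act 1 n24867 = n24756 := d15_1 (iv0 F38976) (iv7 F39844) (iv2 F39847)
theorem F39849 : act 1 n24756 = n24875 := d15_1 F39848 F39002 (iv2 F38974)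
def n25260 : Q := act 4 n11993
theorem D25260 : act 4 n11993 = n25260 := rfl
theorem F39850 : act 2 n25260 = n24754 := d1_1 D25260 (iv4 D24754) F20276
theorem F39851 : act 7 n25260 = n24757 := d11_2 F20279 D25260 (iv4 D24757)
def n25261 : Q := act 6 n11993
theorem D25261 : act 6 n11993 = n25261 := rfl
theorem F39852 : act 2 n25261 = n24755 := d3_1 D25261 (iv6 D24755) F20276
theorem F39853 : act 5 n25261 = n23804 := d12_1 D25261 (iv6 D23804) (iv5 D11158) D11159 (iv5 F19831)
def n25262 : Q := act 0 n11994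
theorem D25262 : act 0 n11994 = n25262 := rfl
theorem F39854 : act 4 n25262 = n24505 := d18_3 (iv1 D11993) D11994 D25262 F38473 F37875 (iv0 F19659) F19039 (iv0 F20306) (iv5 F19831)
theorem F39855 : act 1 n24749 = n25262 := d15_0 (iv0 D25262) F19832 (iv2 F38738)
theorem F39856 : act 2 n24760 = n25262 := d1_3 F39854 (iv2 F39414) F39416
theorem F39857 : act 7 n24759 = n25262 := d11_0 F39854 (iv7 F38476) (iv4 F38754)
def n25263 : Q := act 1 n11994
theorem D25263 : act 1 n11994 = n25263 := rfl
theorem F39858 : act 1 n25263 = n24749 := d15_1 D25263 (iv7 F39815) F39814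
theorem F39859 : act 7 n25263 = n24760 := d15_2 (iv0 D25262) D25263 F39856
theorem F39860 : act 4 n25263 = n24506 := d18_7 (iv1 F18911) (iv4 F18905) (iv1 F8940) (iv4 F10128) D5662 D11994 D25263 F38477 (iv5 D12053)
theorem F39861 : act 2 n24759 = n25263 := d1_3 F39860 (iv2 F38478) (iv4 F38754)
def n25264 : Q := act 3 n11994
theorem D25264 : act 3 n11994 = n25264 := rfl
theorem F39862 : act 4 n25264 = n12000 := d5_2 D11994 D25264 (iv3 D12000) (iv4 D5664) (iv3 F8704)
theorem F39863 : act 7 n25264 = n24761 := d8_2 (iv7 F19832) D25264 (iv3 D24761)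
def n25265 : Q := act 5 n11994
theorem D25265 : act 5 n11994 = n25265 := rfl
theorem F39864 : act 7 n25265 = n24762 := d13_2 (iv7 F19832) D25265 (iv5 D24762)
def n25266 : Q := act 6 n11994
theorem D25266 : act 6 n11994 = n25266 := rfl
theorem F39865 : act 4 n25266 = n11995 := d10_1 D25266 (iv6 D11995) D11994
def n25267 : Q := act 0 n11995
theorem D25267 : act 0 n11995 = n25267 := rfl
def n25268 : Q := act 5 n11995
theorem D25268 : act 5 n11995 = n25268 := rfl
theorem F39866 : act 3 n25268 = n12003 := d6_1 D25268 (iv5 D12003) (iv3 F19833)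
theorem F39867 : act 6 n25268 = n11998 := d12_2 D11995 D25268 (iv5 D11998) (iv6 D5663) D5662
def n25269 : Q := act 7 n11995
theorem D25269 : act 7 n11995 = n25269 := rfl
theorem F39868 : act 3 n25269 = n12004 := d8_1 D25269 (iv7 D12004) (iv3 F19833)
theorem F39869 : act 6 n25269 = n24766 := d14_1 D25269 (iv7 D24766) (iv6 D11723) (iv7 F8705) D11995
theorem F39870 : act 1 n24807 = n25269 := d15_1 (iv0 F39820) (iv7 D25269) (iv2 F39818)
def n25270 : Q := act 3 n11996
theorem D25270 : act 3 n11996 = n25270 := rfl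
theorem F39871 : act 5 n25270 = n23805 := d6_2 F37093 D25270 (iv3 D23805)
theorem F39872 : act 6 n25270 = n25214 := d7_2 (iv6 F38742) D25270 F39711
theorem F39873 : act 7 n25270 = n24248 := d8_2 (iv7 F37094) D25270 F38020
theorem F39874 : act 4 n25270 = n24803 := d20_6 (iv4 F5457) F7599 (iv4 F3710) (iv3 F8706) D11996 D25270 (iv1 F38820) F19109 F19002 (iv1 F8240)
theorem F39875 : act 2 n24819 = n25270 := d1_3 F39874 (iv2 F38818) D24819
theorem F39876 : act 1 n24742 = n25270 := d17_8 (iv1 F38820) (iv5 F20486) (iv1 F22562) (iv5 D6413) D6412 D13478 F38722 (iv5 F38717) F39874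
theorem F39877 : act 0 n24985 = n25270 := d20_10 F39874 (iv1 F38820) F19109 F19002 (iv1 F8240) (iv3 F11914) F11915 (iv1 F18390) (iv4 F24255) (iv3 F39204)
theorem F39878 : act 0 n23805 = n14917 := d17_2 F39877 F39871 (iv5 D14917) F11414 D14369 F26045 (iv5 F26046) F26048 (iv4 F39205)
def n25271 : Q := act 4 n11996
theorem D25271 : act 4 n11996 = n25271 := rfl
theorem F39879 : act 7 n25271 = n24250 := d11_2 (iv7 F37094) D25271 F38024
theorem F39880 : act 0 n25271 = n25235 := d20_1 D25271 F39760 F38482 (iv1 F19441) F11914 (iv4 F5457) F7599 (iv4 F3710) (iv3 F8706) D11996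
theorem F39881 : act 0 n24874 = n25271 := d20_1 (iv4 F39000) (iv4 D25271) D25270 (iv1 F39876) (iv3 D24742) (iv4 D11704) (iv1 F8270) D5544 D11830 F38467
def n25272 : Q := act 4 n11997
theorem D25272 : act 4 n11997 = n25272 := rfl
theorem F39882 : act 2 n25272 = n24250 := d1_1 D25272 F38024 F24294
theorem F39883 : act 3 n25272 = n12363 := d5_1 D25272 F23669 F23666 (iv4 F23678) F24290
theorem F39884 : act 6 n25272 = n13448 := d10_2 (iv6 F24291) D25272 F22382
theorem F39885 : act 0 n25235 = n25272 := d20_10 (iv4 D25272) (iv1 D11997) (iv4 F10130) (iv3 F10131) D11984 D25246 F39792 (iv1 F39764) (iv4 D25236) D25235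
theorem F39886 : act 1 n24874 = n25272 := d15_0 (iv0 F39885) F39759 (iv2 F38998)
theorem F39887 : act 5 n13361 = n25272 := d6_0 F39883 F23670 D13361
theorem F39888 : act 0 n25191 = n13361 := d17_2 F19720 D25191 F39887 (iv4 D25272) F24295 F37088 F37086 F18107 D11153
def n25273 : Q := act 4 n11998
theorem D25273 : act 4 n11998 = n25273 := rfl
theorem F39889 : act 7 n25273 = n14817 := d11_2 F19835 D25273 (iv4 D14817)
theorem F39890 : act 0 n25273 = n24156 := d18_2 F37068 D25273 (iv4 D24156) (iv5 D11347) F7799 D5590 (iv4 F10120) (iv0 F18094) D23787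
def n25274 : Q := act 0 n12000
theorem D25274 : act 0 n12000 = n25274 := rfl
theorem F39891 : act 1 n24783 = n25274 := d15_0 (iv0 D25274) F19840 D24783
def n25275 : Q := act 1 n12000
theorem D25275 : act 1 n12000 = n25275 := rfl
def n25276 : Q := act 2 n12000
theorem D25276 : act 2 n12000 = n25276 := rfl
theorem F39892 : act 3 n25276 = n24823 := d0_2 D12000 D25276 (iv2 D24823) (iv3 D11760) (iv2 F8707)
theorem F39893 : act 5 n25276 = n25160 := d2_2 (iv5 F19839) D25276 (iv2 D25160)
theorem F39894 : act 7 n25276 = n24783 := d4_2 (iv7 F19840) D25276 (iv2 D24783)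
theorem F39895 : act 1 n25276 = n24781 := d15_0 (iv0 D24781) (iv7 F19840) D25276
theorem F39896 : act 1 n25275 = n24783 := d15_1 D25275 (iv7 F39894) (iv2 D25276)
theorem F39897 : act 1 n24782 = n25276 := d15_1 D24782 F39894 (iv2 D24783)
def n25277 : Q := act 6 n12000
theorem D25277 : act 6 n12000 = n25277 := rfl
theorem F39898 : act 3 n25277 = n12001 := d7_1 D25277 (iv6 D12001) D12000
def n25278 : Q := act 5 n12001
theorem D25278 : act 5 n12001 = n25278 := rfl
theorem F39899 : act 2 n25278 = n24826 := d2_1 D25278 (iv5 D24826) (iv2 F19841)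
def n25279 : Q := act 7 n12001
theorem D25279 : act 7 n12001 = n25279 := rfl
theorem F39901 : act 2 n25279 = n24827 := d4_1 D25279 (iv7 D24827) (iv2 F19841)
theorem F39902 : act 4 n25279 = n12004 := d11_1 D25279 (iv7 D12004) (iv4 F19842)
theorem F39904 : act 1 n24596 = n25279 := d15_1 (iv0 F38605) (iv7 D25279) F19841
theorem F39905 : act 1 n25279 = n24639 := d15_1 F39904 F39354 F39350
def n25280 : Q := act 3 n12002
theorem D25280 : act 3 n12002 = n25280 := rfl
theorem F39906 : act 7 n25280 = n24778 := d8_2 (iv7 F19849) D25280 F38788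
def n25281 : Q := act 0 n12003
theorem D25281 : act 0 n12003 = n25281 := rfl
def n25282 : Q := act 1 n12003
theorem D25282 : act 1 n12003 = n25282 := rfl
theorem F39907 : act 1 n25282 = n14814 := d15_1 D25282 (iv7 D14814) (iv2 F19843)
def n25283 : Q := act 7 n12003
theorem D25283 : act 7 n12003 = n25283 := rfl
theorem F39908 : act 2 n25283 = n14814 := d4_1 D25283 (iv7 D14814) (iv2 F19843)
theorem F39909 : act 5 n25283 = n12004 := d13_1 D25283 (iv7 D12004) D12003
theorem F39910 : act 6 n25283 = n14822 := d14_1 D25283 (iv7 D14822) (iv6 D7062) F8714 (iv6 F19844)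
theorem F39911 : act 1 n14814 = n25281 := d15_0 (iv0 D25281) D25283 F39908
theorem F39912 : act 1 n14813 = n25283 := d15_1 D14813 (iv7 D25283) F19843
theorem F39913 : act 1 n25283 = n14812 := d15_0 (iv0 D14812) D14814 (iv2 F39908)
def n25284 : Q := act 4 n12005
theorem D25284 : act 4 n12005 = n25284 := rfl
theorem F39914 : act 2 n25284 = n13350 := d1_1 D25284 F22222 F20275
theorem F39915 : act 6 n25284 = n13348 := d10_2 (iv6 F20274) D25284 F22217
theorem F39916 : act 7 n25284 = n24797 := d11_2 F20308 D25284 (iv4 D24797)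
def n25285 : Q := act 3 n12006
theorem D25285 : act 3 n12006 = n25285 := rfl
theorem F39917 : act 2 n25285 = n24516 := d0_1 D25285 (iv3 F39762) F39761 (iv3 D24796) (iv2 F20309)
theorem F39918 : act 5 n25285 = n24756 := d6_2 (iv5 F20281) D25285 (iv3 D24756)
theorem F39919 : act 6 n25285 = n24485 := d7_2 (iv6 F24497) D25285 F38441
theorem F39920 : act 7 n25285 = n23802 := d8_2 (iv7 F20277) D25285 F37117
theorem F39921 : act 4 n25285 = n14655 := d20_6 F23925 F22470 F22360 F19776 (iv1 F19859) D25285 (iv1 F24339) (iv4 F24205) F24204 (iv1 F24063)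
theorem F39922 : act 0 n24514 = n25285 := d18_0 F39921 (iv1 F24339) (iv4 F24205) F24206 D11878 F39231 F39230 (iv0 F39232) (iv5 F39233)
theorem F39923 : act 0 n25285 = n24414 := d20_1 (iv4 F39921) F38285 (iv3 F26053) (iv1 D11758) F8380 F3620 D2273 (iv4 F4996) (iv3 F11261) D14655
def n25286 : Q := act 4 n12006
theorem D25286 : act 4 n12006 = n25286 := rfl
theorem F39924 : act 2 n25286 = n24797 := d1_1 D25286 (iv4 D24797) (iv2 F20309)
theorem F39925 : act 3 n25286 = n13355 := d5_1 D25286 (iv4 F37783) (iv3 F37785) (iv4 F39921) (iv3 D25285)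
theorem F39926 : act 7 n25286 = n13350 := d11_2 (iv7 F20277) D25286 F22222
theorem F39927 : act 0 n24818 = n25286 := d20_10 (iv4 D25286) (iv1 D12006) F19645 (iv3 F19644) F10136 (iv3 F19997) (iv4 F20030) F39412 (iv4 D24819) D24818
theorem F39928 : act 1 n24818 = n25284 := d15_1 (iv0 F39927) F39916 (iv2 F39924)
theorem F39929 : act 1 n25250 = n13493 := d17_6 (iv1 F19853) (iv5 F22321) (iv1 F22324) (iv5 D11989) D11988 D25250 (iv5 F38840) F39928 (iv4 D25284)
theorem F39930 : act 1 n13493 = n24239 := d15_1 F39929 (iv7 F38734) (iv2 F39806)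
theorem F39931 : act 5 n14788 = n25286 := d6_0 F39925 F22233 D14788
theorem F39932 : act 0 n24503 = n14788 := d17_2 F19058 D24503 F39931 (iv4 D25286) F20281 F19825 (iv5 D11990) F8701 D11711
def n25287 : Q := act 0 n12008
theorem D25287 : act 0 n12008 = n25287 := rfl
theorem F39933 : act 1 n14865 = n25287 := d15_0 (iv0 D25287) F19861 D14865
def n25288 : Q := act 1 n12008
theorem D25288 : act 1 n12008 = n25288 := rfl
def n25289 : Q := act 2 n12008
theorem D25289 : act 2 n12008 = n25289 := rfl
theorem F39934 : act 3 n25289 = n14860 := d0_2 D12008 D25289 (iv2 D14860) (iv3 D7076) (iv2 F8723)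
theorem F39935 : act 7 n25289 = n14865 := d4_2 (iv7 F19861) D25289 (iv2 D14865)
theorem F39936 : act 1 n25289 = n14863 := d15_0 (iv0 D14863) (iv7 F19861) D25289
theorem F39937 : act 1 n25288 = n14865 := d15_1 D25288 (iv7 F39935) (iv2 D25289)
theorem F39938 : act 1 n14864 = n25289 := d15_1 D14864 F39935 (iv2 D14865)
def n25290 : Q := act 4 n12009
theorem D25290 : act 4 n12009 = n25290 := rfl
theorem F39939 : act 2 n25290 = n24359 := d1_1 D25290 (iv4 D24359) (iv2 F19862)
def n25291 : Q := act 6 n12009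
theorem D25291 : act 6 n12009 = n25291 := rfl
theorem F39940 : act 2 n25291 = n24360 := d3_1 D25291 (iv6 D24360) (iv2 F19862)
theorem F39941 : act 3 n25291 = n24891 := d7_1 D25291 (iv6 D24891) (iv3 F19863)
theorem F39942 : act 5 n25291 = n24225 := d12_1 D25291 (iv6 D24225) (iv5 D11386) F10075 D12009
def n25292 : Q := act 4 n12010
theorem D25292 : act 4 n12010 = n25292 := rfl
theorem F39943 : act 2 n25292 = n24370 := d1_1 D25292 (iv4 D24370) F19865
theorem F39944 : act 7 n25292 = n24904 := d11_2 (iv7 F19867) D25292 (iv4 D24904)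
theorem F39945 : act 1 n25292 = n12043 := d18_6 F18414 F18413 (iv1 F18320) (iv4 F19191) (iv5 F19864) D25292 (iv4 D12043) (iv0 F18516) (iv5 D11342)
def n25293 : Q := act 6 n12010
theorem D25293 : act 6 n12010 = n25293 := rfl
theorem F39946 : act 2 n25293 = n24371 := d3_1 D25293 (iv6 D24371) F19865
theorem F39947 : act 3 n25293 = n24893 := d7_1 D25293 (iv6 D24893) (iv3 F19866)
def n25294 : Q := act 0 n12011
theorem D25294 : act 0 n12011 = n25294 := rfl
theorem F39948 : act 4 n25294 = n12035 := d18_3 F18563 D12011 D25294 F19922 F18517 (iv0 F8648) (iv4 F18363) (iv0 F18364) D11371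
theorem F39949 : act 7 n24150 = n25294 := d11_0 F39948 (iv7 F19923) D24150
def n25295 : Q := act 1 n12011
theorem D25295 : act 1 n12011 = n25295 := rfl
theorem F39950 : act 4 n25295 = n12036 := d18_7 (iv1 F8805) (iv4 D3005) (iv1 F10049) (iv4 F3714) D5672 D12011 D25295 F19951 F19950
theorem F39951 : act 2 n24150 = n25295 := d1_3 F39950 F19925 D24150
def n25296 : Q := act 3 n12011
theorem D25296 : act 3 n12011 = n25296 := rfl
def n25297 : Q := act 5 n12011
theorem D25297 : act 5 n12011 = n25297 := rfl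
def n25298 : Q := act 7 n12011
theorem D25298 : act 7 n12011 = n25298 := rfl
theorem F39952 : act 4 n25298 = n12012 := d11_1 D25298 (iv7 D12012) D12011
theorem F39953 : act 1 n24150 = n25298 := d15_1 (iv0 F37854) (iv7 D25298) (iv2 F19889)
def n25299 : Q := act 6 n12012
theorem D25299 : act 6 n12012 = n25299 := rfl
theorem F39954 : act 5 n25299 = n25299 := d12_1 D25299 (iv6 D25299) F19868 F8729 (iv5 F19868)
theorem F39955 : act 7 n25299 = n14779 := d14_2 D12012 D25299 (iv6 D14779) (iv7 F19373) F10576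
def n25300 : Q := act 4 n12013
theorem D25300 : act 4 n12013 = n25300 := rfl
theorem F39956 : act 2 n25300 = n13803 := d1_1 D25300 (iv4 D13803) (iv2 F19871)
def n25301 : Q := act 6 n12013
theorem D25301 : act 6 n12013 = n25301 := rfl
theorem F39957 : act 2 n25301 = n13804 := d3_1 D25301 (iv6 D13804) (iv2 F19871)
theorem F39958 : act 5 n25301 = n23997 := d12_1 D25301 (iv6 D23997) (iv5 F18298) (iv6 F8730) D12013
def n25302 : Q := act 3 n12014
theorem D25302 : act 3 n12014 = n25302 := rfl
theorem F39959 : act 4 n25302 = n13444 := d5_2 D12014 D25302 (iv3 D13444) (iv4 D6391) (iv3 F8731)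
theorem F39960 : act 6 n25302 = n25248 := d7_2 (iv6 F19873) D25302 (iv3 D25248)
theorem F39961 : act 7 n25302 = n16928 := d8_2 F19905 D25302 F27759
theorem F39962 : act 0 n25302 = n24015 := d20_4 (iv4 D14060) (iv1 F10882) D12014 D25302 (iv3 D24015) (iv4 D11268) (iv1 D5197) D5198 D11272 F26403
def n25303 : Q := act 5 n12014
theorem D25303 : act 5 n12014 = n25303 := rfl
theorem F39963 : act 2 n25303 = n13811 := d2_1 D25303 (iv5 D13811) (iv2 F19872)
theorem F39964 : act 1 n25303 = n12183 := d17_6 F10000 (iv5 D2374) D2372 D5675 D12014 D25303 (iv5 D12183) (iv0 F10917) (iv4 D6700)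
def n25304 : Q := act 5 n12015
theorem D25304 : act 5 n12015 = n25304 := rfl
theorem F39965 : act 2 n25304 = n13861 := d2_1 D25304 (iv5 D13861) (iv2 F19874)
theorem F39966 : act 7 n25304 = n24744 := d13_2 (iv7 F19875) D25304 (iv5 D24744)
def n25305 : Q := act 3 n12016
theorem D25305 : act 3 n12016 = n25305 := rfl
theorem F39967 : act 4 n25305 = n25305 := d5_2 (iv4 F19877) D25305 (iv3 D25305) F19877 F18177
def n25306 : Q := act 5 n12016
theorem D25306 : act 5 n12016 = n25306 := rfl
def n25307 : Q := act 6 n12016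
theorem D25307 : act 6 n12016 = n25307 := rfl
theorem F39968 : act 4 n25307 = n12925 := d10_1 D25307 F21486 (iv4 F19877)
theorem F39969 : act 5 n25307 = n19870 := d21_6 D7887 F12488 (iv5 D5769) (iv6 F8739) D12016 D25307 (iv1 D19870) F26933 (iv6 D11127) F7563
theorem F39970 : act 1 n12118 = n25307 := d17_8 F21487 (iv5 F18406) F26279 F26271 (iv4 F20094) (iv5 F32544) (iv0 D20478) (iv5 F27050) F39968
def n25308 : Q := act 0 n12017
theorem D25308 : act 0 n12017 = n25308 := rfl
def n25309 : Q := act 1 n12017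
theorem D25309 : act 1 n12017 = n25309 := rfl
def n25310 : Q := act 2 n12017
theorem D25310 : act 2 n12017 = n25310 := rfl
theorem F39971 : act 4 n25310 = n12592 := d1_2 (iv4 F19878) D25310 F20971
theorem F39972 : act 6 n25310 = n12167 := d3_2 (iv6 F19879) D25310 (iv2 D12167)
def n25311 : Q := act 5 n12017
theorem D25311 : act 5 n12017 = n25311 := rfl
theorem F39973 : act 3 n25311 = n12018 := d6_1 D25311 (iv5 D12018) D12017
def n25312 : Q := act 7 n12017
theorem D25312 : act 7 n12017 = n25312 := rfl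
theorem F39974 : act 3 n25312 = n12019 := d8_1 D25312 (iv7 D12019) D12017
theorem F39975 : act 4 n25312 = n12600 := d11_1 D25312 (iv7 D12600) (iv4 F19878)
theorem F39976 : act 6 n25312 = n16049 := d14_1 D25312 (iv7 D16049) (iv6 D7502) (iv7 F8892) (iv6 F19879)
def n25313 : Q := act 0 n12018
theorem D25313 : act 0 n12018 = n25313 := rfl
theorem F39977 : act 5 n25313 = n23922 := d17_3 F18584 D12018 D25313 (iv4 D23922) (iv5 D11201) (iv0 D5126) D5128 (iv0 F7825) D11377
def n25314 : Q := act 4 n12018
theorem D25314 : act 4 n12018 = n25314 := rfl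
def n25315 : Q := act 6 n12018
theorem D25315 : act 6 n12018 = n25315 := rfl
theorem F39978 : act 5 n25315 = n12169 := d12_1 D25315 (iv6 D12169) (iv5 D5769) (iv6 F8739) D12018
def n25316 : Q := act 7 n12018
theorem D25316 : act 7 n12018 = n25316 := rfl
theorem F39979 : act 5 n25316 = n12019 := d13_1 D25316 (iv7 D12019) D12018
def n25317 : Q := act 0 n12020
theorem D25317 : act 0 n12020 = n25317 := rfl
def n25318 : Q := act 1 n12020
theorem D25318 : act 1 n12020 = n25318 := rfl
theorem F39980 : act 5 n23794 = n25318 := d21_6 (iv5 F9833) (iv1 F9837) (iv5 F8397) D11767 (iv1 F19117) D23794 (iv1 D25318) (iv5 D12020) (iv6 D5684) F8113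
theorem F39981 : act 3 n25318 = n23800 := d6_1 F39980 (iv5 D23800) (iv3 F37100)
theorem F39982 : act 7 n24257 = n25318 := d8_0 F39981 F37110 D24257
theorem F39983 : act 4 n25318 = n16511 := d20_6 D7683 (iv1 F18673) F18671 (iv3 F18664) F37112 (iv3 F39981) (iv1 D16511) (iv4 D7668) F5451 D3484
theorem F39984 : act 2 n24257 = n25317 := d15_3 (iv0 D25317) D25318 (iv7 F39982)
def n25319 : Q := act 4 n12020
theorem D25319 : act 4 n12020 = n25319 := rfl
theorem F39985 : act 1 n25319 = n14393 := d18_6 (iv1 F11882) F19519 F19521 F8794 D12020 D25319 (iv4 D14393) F11904 F11903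
def n25320 : Q := act 7 n12020
theorem D25320 : act 7 n12020 = n25320 := rfl
theorem F39986 : act 3 n25320 = n12025 := d8_1 D25320 (iv7 D12025) (iv3 F19881)
theorem F39987 : act 5 n25320 = n12021 := d13_1 D25320 (iv7 D12021) D12020
def n25321 : Q := act 4 n12022
theorem D25321 : act 4 n12022 = n25321 := rfl
theorem F39988 : act 2 n25321 = n16584 := d1_1 D25321 (iv4 D16584) (iv2 F19884)
theorem F39989 : act 7 n25321 = n25290 := d11_2 (iv7 F19885) D25321 (iv4 D25290)
def n25322 : Q := act 6 n12022
theorem D25322 : act 6 n12022 = n25322 := rfl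
theorem F39990 : act 2 n25322 = n16585 := d3_1 D25322 (iv6 D16585) (iv2 F19884)
def n25323 : Q := act 0 n12024
theorem D25323 : act 0 n12024 = n25323 := rfl
theorem F39991 : act 4 n25323 = n12042 := d18_3 F19189 D12024 D25323 (iv5 F22271) F22270 F10364 (iv4 F10756) F19052 D11819
theorem F39992 : act 2 n25294 = n25323 := d15_3 (iv0 D25323) (iv0 F37854) F39949
theorem F39993 : act 7 n25323 = n25295 := d4_2 F39949 F39992 (iv2 F39951)
theorem F39994 : act 1 n25298 = n25323 := d15_1 F39953 F39993 (iv2 F39951)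
def n25324 : Q := act 3 n12024
theorem D25324 : act 3 n12024 = n25324 := rfl
def n25325 : Q := act 5 n12024
theorem D25325 : act 5 n12024 = n25325 := rfl
theorem F39995 : act 2 n25325 = n25297 := d2_1 D25325 (iv5 D25297) (iv2 F19889)
theorem F39996 : act 4 n25325 = n25316 := d16_2 D12024 D25325 F39979 F19880 F8741 (iv4 F8728) (iv5 F19868) (iv7 D12012) (iv2 F8747)
theorem F39997 : act 7 n25314 = n25325 := d11_0 F39996 (iv7 D25316) D25314
def n25326 : Q := act 7 n12024
theorem D25326 : act 7 n12024 = n25326 := rfl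
theorem F39998 : act 2 n25326 = n25298 := d4_1 D25326 (iv7 D25298) (iv2 F19889)
theorem F39999 : act 4 n25326 = n12025 := d11_1 D25326 (iv7 D12025) D12024
theorem F40000 : act 5 n25326 = n25314 := d13_1 D25326 F39997 (iv5 D25325)
theorem F40001 : act 1 n25295 = n25326 := d15_1 D25295 (iv7 D25326) F19889
theorem F40002 : act 1 n25326 = n25294 := d15_1 F40001 (iv7 F39949) F39951
def n25327 : Q := act 6 n12025
theorem D25327 : act 6 n12025 = n25327 := rfl
theorem F40003 : act 2 n25327 = n25299 := d3_1 D25327 (iv6 D25299) (iv2 F19890)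
theorem F40004 : act 5 n25327 = n25327 := d12_1 D25327 (iv6 D25327) F19891 F8750 (iv5 F19891)
def n25328 : Q := act 4 n12026
theorem D25328 : act 4 n12026 = n25328 := rfl
theorem F40005 : act 2 n25328 = n14057 := d1_1 D25328 (iv4 D14057) (iv2 F19894)
theorem F40006 : act 7 n25328 = n25300 := d11_2 (iv7 F19896) D25328 (iv4 D25300)
def n25329 : Q := act 6 n12026
theorem D25329 : act 6 n12026 = n25329 := rfl
theorem F40007 : act 2 n25329 = n14058 := d3_1 D25329 (iv6 D14058) (iv2 F19894)
theorem F40008 : act 3 n25329 = n14348 := d7_1 D25329 (iv6 D14348) (iv3 F19895)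
def n25330 : Q := act 5 n12028
theorem D25330 : act 5 n12028 = n25330 := rfl
theorem F40009 : act 2 n25330 = n14066 := d2_1 D25330 (iv5 D14066) (iv2 F19903)
theorem F40010 : act 7 n25330 = n25303 := d13_2 (iv7 F19905) D25330 (iv5 D25303)
theorem F40011 : act 0 n25330 = n23769 := d17_2 (iv1 F23066) D25330 (iv5 D23769) F18075 (iv5 D5128) (iv0 F10080) D6618 (iv0 F18344) (iv4 F23065)
def n25331 : Q := act 5 n12029
theorem D25331 : act 5 n12029 = n25331 := rfl
theorem F40012 : act 2 n25331 = n25306 := d2_1 D25331 (iv5 D25306) F19907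
theorem F40013 : act 7 n25331 = n24213 := d13_2 F19908 D25331 (iv5 D24213)
def n25332 : Q := act 6 n12029
theorem D25332 : act 6 n12029 = n25332 := rfl
theorem F40014 : act 2 n25332 = n25307 := d3_1 D25332 (iv6 D25307) F19907
theorem F40015 : act 4 n25332 = n13443 := d10_1 D25332 (iv6 D13443) (iv4 F19906)
theorem F40016 : act 5 n25332 = n20392 := d21_6 D12138 F20072 (iv5 D11129) (iv6 F8778) D12029 D25332 (iv1 F32386) (iv5 D12150) (iv6 D5759) D5755
theorem F40017 : act 2 n20392 = n19870 := d2_1 F40016 (iv5 F39969) (iv2 F40014)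
theorem F40018 : act 0 n19955 = n25332 := d17_0 F40016 (iv1 F32386) (iv5 D12150) F8872 F3797 (iv0 F10054) (iv5 F10693) F20051 F31791
theorem F40019 : act 1 n13551 = n25332 := d18_8 (iv1 F32386) (iv4 F33514) F34103 F34100 (iv5 F28374) (iv4 D17406) (iv0 F12923) (iv4 F22716) F40016
theorem F40020 : act 2 n21611 = n21248 := d1_3 F33475 F40017 (iv4 F34013)
theorem F40021 : act 7 n19869 = n20392 := d15_2 F32392 F32390 F40017
theorem F40022 : act 7 n20393 = n19870 := d15_2 (iv0 D20392) D20393 (iv2 F40017)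
theorem F40023 : act 2 n19869 = n20393 := d4_3 F40022 (iv2 F40017) (iv7 F40021)
theorem F40024 : act 7 n21611 = n21247 := d11_2 F40022 (iv4 F34013) F33474
theorem F40025 : act 2 n21247 = n21612 := d15_3 F34020 F34014 F40024
theorem F40026 : act 7 n21248 = n21612 := d4_2 (iv7 F40024) F40020 (iv2 F40025)
def n25333 : Q := act 3 n12030
theorem D25333 : act 3 n12030 = n25333 := rfl
theorem F40027 : act 4 n25333 = n25333 := d5_2 (iv4 F19912) D25333 (iv3 D25333) F19912 F10427
theorem F40028 : act 7 n25333 = n25305 := d8_2 (iv7 F19911) D25333 (iv3 D25305)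
def n25334 : Q := act 5 n12030
theorem D25334 : act 5 n12030 = n25334 := rfl
theorem F40029 : act 2 n25334 = n24213 := d2_1 D25334 (iv5 D24213) F19913
theorem F40030 : act 7 n25334 = n25306 := d13_2 (iv7 F19911) D25334 (iv5 D25306)
def n25335 : Q := act 0 n12031
theorem D25335 : act 0 n12031 = n25335 := rfl
def n25336 : Q := act 1 n12031
theorem D25336 : act 1 n12031 = n25336 := rfl
def n25337 : Q := act 2 n12031
theorem D25337 : act 2 n12031 = n25337 := rfl
theorem F40031 : act 3 n25337 = n25310 := d0_2 D12031 D25337 (iv2 D25310) (iv3 D12017) (iv2 F8777)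
theorem F40032 : act 6 n25337 = n23761 := d3_2 (iv6 F19914) D25337 (iv2 D23761)
def n25338 : Q := act 5 n12031
theorem D25338 : act 5 n12031 = n25338 := rfl
theorem F40033 : act 3 n25338 = n12032 := d6_1 D25338 (iv5 D12032) D12031
def n25339 : Q := act 7 n12031
theorem D25339 : act 7 n12031 = n25339 := rfl
theorem F40034 : act 3 n25339 = n12033 := d8_1 D25339 (iv7 D12033) D12031
def n25340 : Q := act 0 n12032
theorem D25340 : act 0 n12032 = n25340 := rfl
theorem F40035 : act 5 n25340 = n13441 := d17_3 (iv1 D12030) D12032 D25340 (iv4 D13441) (iv5 D6385) (iv0 D2779) D2781 D6389 (iv4 F19912)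
theorem F40036 : act 2 n25313 = n25340 := d2_3 F40035 (iv2 F37333) (iv5 F39977)
theorem F40037 : act 3 n24028 = n25340 := d6_3 F40035 F27010 (iv5 F37559)
theorem F40038 : act 7 n24023 = n25340 := d13_0 F40035 (iv7 F26407) D24023
theorem F40039 : act 1 n25316 = n25340 := d17_6 (iv1 D6567) (iv5 D2926) (iv1 F10031) (iv5 F8741) (iv4 F19880) (iv5 F39979) F40035 (iv0 F23063) (iv4 D13807)
def n25341 : Q := act 1 n12032
theorem D25341 : act 1 n12032 = n25341 := rfl
theorem F40040 : act 1 n25341 = n25316 := d15_1 D25341 (iv7 D25316) (iv2 F19915)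
theorem F40041 : act 7 n25341 = n25313 := d15_2 (iv0 D25340) D25341 F40036
theorem F40042 : act 5 n25341 = n13442 := d17_7 (iv1 F10624) (iv5 D5693) (iv1 D2379) D2380 D5696 D12032 D25341 (iv0 F23055) (iv4 D13805)
theorem F40043 : act 2 n24023 = n25341 := d2_3 F40042 (iv2 F26405) D24023
def n25342 : Q := act 4 n12032
theorem D25342 : act 4 n12032 = n25342 := rfl
theorem F40044 : act 2 n25342 = n25314 := d1_1 D25342 (iv4 D25314) (iv2 F19915)
theorem F40045 : act 5 n25342 = n25298 := d9_2 D12032 D25342 F39952 F19868 F8728 (iv5 F8741) (iv4 F19880) (iv5 F39979) (iv4 F39996) (iv5 D25325) (iv4 D12024) (iv5 D5687) F3721 D2380 D5696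
theorem F40046 : act 7 n25297 = n25342 := d13_0 F40045 (iv7 D25298) D25297
def n25343 : Q := act 6 n12032
theorem D25343 : act 6 n12032 = n25343 := rfl
theorem F40047 : act 2 n25343 = n25315 := d3_1 D25343 (iv6 D25315) (iv2 F19915)
theorem F40048 : act 5 n25343 = n23763 := d12_1 D25343 (iv6 D23763) (iv5 D11129) (iv6 F8778) D12032
def n25344 : Q := act 7 n12032
theorem D25344 : act 7 n12032 = n25344 := rfl
theorem F40049 : act 2 n25344 = n25316 := d4_1 D25344 (iv7 D25316) (iv2 F19915)
theorem F40050 : act 4 n25344 = n25297 := d11_1 D25344 F40046 (iv4 D25342)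
theorem F40051 : act 5 n25344 = n12033 := d13_1 D25344 (iv7 D12033) D12032
theorem F40052 : act 1 n24023 = n25344 := d15_1 (iv0 F37556) (iv7 D25344) F19915
theorem F40053 : act 1 n25344 = n25313 := d15_1 F40052 (iv7 F40041) (iv2 F40043)
def n25345 : Q := act 4 n12034
theorem D25345 : act 4 n12034 = n25345 := rfl
theorem F40054 : act 6 n25345 = n12037 := d10_2 (iv6 F19921) D25345 (iv4 D12037)
theorem F40055 : act 0 n25345 = n23817 := d18_2 F37484 D25345 (iv4 D23817) F18117 F11459 (iv0 F22224) (iv4 F22232) (iv0 F37482) (iv5 F37481)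
def n25346 : Q := act 6 n12035
theorem D25346 : act 6 n12035 = n25346 := rfl
def n25347 : Q := act 6 n12036
theorem D25347 : act 6 n12036 = n25347 := rfl
theorem F40056 : act 2 n25347 = n24148 := d3_1 D25347 F37853 (iv2 F19925)
theorem F40057 : act 5 n25347 = n13394 := d12_1 D25347 (iv6 D13394) (iv5 D6355) D6356 F19924
def n25348 : Q := act 3 n12037
theorem D25348 : act 3 n12037 = n25348 := rfl
theorem F40058 : act 4 n25348 = n24932 := d5_2 D12037 D25348 (iv3 D24932) (iv4 D11835) (iv3 F8787)
def n25349 : Q := act 5 n12037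
theorem D25349 : act 5 n12037 = n25349 := rfl
def n25350 : Q := act 7 n12037
theorem D25350 : act 7 n12037 = n25350 := rfl
theorem F40059 : act 4 n25350 = n12038 := d11_1 D25350 (iv7 D12038) D12037
theorem F40060 : act 1 n24211 = n25350 := d15_1 (iv0 F37942) (iv7 D25350) (iv2 F19948)
theorem F40061 : act 1 n25350 = n25292 := d15_1 F40060 F39944 F39050
def n25351 : Q := act 6 n12038
theorem D25351 : act 6 n12038 = n25351 := rfl
theorem F40062 : act 3 n25351 = n24935 := d7_1 D25351 (iv6 D24935) (iv3 F19926)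
theorem F40063 : act 5 n25351 = n25351 := d12_1 D25351 (iv6 D25351) F19927 F8790 (iv5 F19927)
def n25352 : Q := act 4 n12039
theorem D25352 : act 4 n12039 = n25352 := rfl
theorem F40064 : act 2 n25352 = n24938 := d1_1 D25352 (iv4 D24938) (iv2 F19929)
theorem F40065 : act 1 n25352 = n24351 := d18_6 (iv1 F18740) D11472 F18747 (iv4 F8794) D12039 D25352 (iv4 D24351) F38129 F38128
def n25353 : Q := act 7 n12039
theorem D25353 : act 7 n12039 = n25353 := rfl
theorem F40066 : act 2 n25353 = n24939 := d4_1 D25353 (iv7 D24939) (iv2 F19929)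
theorem F40067 : act 3 n25353 = n12044 := d8_1 D25353 (iv7 D12044) (iv3 F19930)
theorem F40068 : act 5 n25353 = n12040 := d13_1 D25353 (iv7 D12040) D12039
theorem F40069 : act 1 n14367 = n25353 := d15_1 (iv0 F23986) (iv7 D25353) F19929
theorem F40070 : act 1 n25353 = n24937 := d15_1 F40069 F39089 F24018
def n25354 : Q := act 0 n12041
theorem D25354 : act 0 n12041 = n25354 := rfl
theorem F40071 : act 2 n14318 = n25354 := d15_3 (iv0 D25354) (iv0 F19944) (iv7 F26014)
theorem F40072 : act 1 n14394 = n25354 := d15_0 (iv0 D25354) (iv7 F24418) F24417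
theorem F40073 : act 7 n25354 = n14446 := d15_2 F24037 F40072 (iv2 D14446)
theorem F40074 : act 3 n14426 = n25354 := d8_3 F40073 F37473 F37470
def n25355 : Q := act 4 n12041
theorem D25355 : act 4 n12041 = n25355 := rfl
theorem F40075 : act 2 n25355 = n25345 := d1_1 D25355 (iv4 D25345) (iv2 F19942)
theorem F40076 : act 6 n25355 = n12043 := d10_2 (iv6 F19943) D25355 (iv4 D12043)
theorem F40077 : act 0 n25355 = n24905 := d18_2 F19944 D25355 (iv4 D24905) (iv5 F24652) F24651 F24654 (iv4 F22566) F37786 (iv5 F19469)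
theorem F40078 : act 1 n25355 = n13513 := d18_6 (iv1 D5880) F5173 F19401 (iv4 F8796) D12041 D25355 (iv4 D13513) F20539 (iv5 D12357)
def n25356 : Q := act 6 n12042
theorem D25356 : act 6 n12042 = n25356 := rfl
theorem F40079 : act 2 n25356 = n25346 := d3_1 D25356 (iv6 D25346) F19945
def n25357 : Q := act 3 n12043
theorem D25357 : act 3 n12043 = n25357 := rfl
def n25358 : Q := act 5 n12043
theorem D25358 : act 5 n12043 = n25358 := rfl
theorem F40080 : act 2 n25358 = n25349 := d2_1 D25358 (iv5 D25349) (iv2 F19948)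
def n25359 : Q := act 7 n12043
theorem D25359 : act 7 n12043 = n25359 := rfl
theorem F40081 : act 2 n25359 = n25350 := d4_1 D25359 (iv7 D25350) (iv2 F19948)
theorem F40082 : act 4 n25359 = n12044 := d11_1 D25359 (iv7 D12044) D12043
theorem F40083 : act 1 n24904 = n25359 := d15_1 (iv0 F39051) (iv7 D25359) F19948
theorem F40084 : act 1 n25359 = n24370 := d15_1 F40083 F38206 (iv2 F39050)
def n25360 : Q := act 6 n12044
theorem D25360 : act 6 n12044 = n25360 := rfl
theorem F40085 : act 2 n25360 = n25351 := d3_1 D25360 (iv6 D25351) (iv2 F19949)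
theorem F40086 : act 5 n25360 = n25360 := d12_1 D25360 (iv6 D25360) F19950 F8804 (iv5 F19950)
def n25361 : Q := act 4 n12045
theorem D25361 : act 4 n12045 = n25361 := rfl
theorem F40087 : act 2 n25361 = n24434 := d1_1 D25361 (iv4 D24434) (iv2 F19953)
theorem F40088 : act 6 n25361 = n23987 := d10_2 (iv6 F19955) D25361 (iv4 D23987)
theorem F40089 : act 1 n25361 = n24261 := d18_6 (iv1 F18657) (iv4 F10601) F19529 F19143 D12045 D25361 (iv4 D24261) F38017 F38016
def n25362 : Q := act 7 n12045
theorem D25362 : act 7 n12045 = n25362 := rfl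
theorem F40090 : act 2 n25362 = n24435 := d4_1 D25362 (iv7 D24435) (iv2 F19953)
theorem F40091 : act 3 n25362 = n23992 := d8_1 D25362 (iv7 D23992) (iv3 F19954)
theorem F40092 : act 5 n25362 = n12046 := d13_1 D25362 (iv7 D12046) D12045
theorem F40093 : act 1 n24433 = n25362 := d15_1 D24433 (iv7 D25362) F19953
theorem F40094 : act 1 n25362 = n24432 := d15_1 F40093 F38593 F38588
def n25363 : Q := act 4 n12047
theorem D25363 : act 4 n12047 = n25363 := rfl
theorem F40095 : act 2 n25363 = n12057 := d1_1 D25363 (iv4 D12057) (iv2 F19961)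
theorem F40096 : act 0 n25363 = n13423 := d18_2 (iv1 F38532) D25363 (iv4 D13423) F10406 (iv4 F19039) F19662 (iv4 F37863) (iv0 F37864) (iv5 F38530)
def n25364 : Q := act 4 n12050
theorem D25364 : act 4 n12050 = n25364 := rfl
theorem F40097 : act 6 n25364 = n12057 := d10_2 (iv6 F19964) D25364 (iv4 D12057)
theorem F40098 : act 1 n25364 = n13429 := d18_6 (iv1 D5493) (iv4 F10030) F22438 (iv4 F8813) D12050 D25364 (iv4 D13429) F19488 (iv5 D11749)
def n25365 : Q := act 5 n12052
theorem D25365 : act 5 n12052 = n25365 := rfl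
theorem F40099 : act 2 n25365 = n13475 := d2_1 D25365 (iv5 D13475) (iv2 F19968)
theorem F40100 : act 3 n25365 = n24858 := d6_1 D25365 (iv5 D24858) (iv3 F19969)
theorem F40101 : act 7 n25365 = n24873 := d13_2 (iv7 F19970) D25365 (iv5 D24873)
theorem F40102 : act 1 n25365 = n14788 := d15_0 (iv0 F39932) F38469 (iv2 F40099)
def n25366 : Q := act 6 n12052
theorem D25366 : act 6 n12052 = n25366 := rfl
theorem F40103 : act 2 n25366 = n13476 := d3_1 D25366 (iv6 D13476) (iv2 F19968)
theorem F40104 : act 3 n25366 = n24859 := d7_1 D25366 (iv6 D24859) (iv3 F19969)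
theorem F40105 : act 4 n25366 = n12054 := d10_1 D25366 (iv6 D12054) D12052
theorem F40106 : act 0 n14803 = n25366 := d20_1 (iv4 F24457) F40105 (iv3 F22205) F26089 (iv3 F37794) F37795 (iv1 F23836) (iv4 F39662) F39661 (iv1 F38748)
theorem F40107 : act 1 n24767 = n25366 := d15_0 (iv0 F40106) F24456 (iv2 F38758)
def n25367 : Q := act 4 n12053
theorem D25367 : act 4 n12053 = n25367 := rfl
theorem F40108 : act 1 n25367 = n24757 := d18_6 F19349 (iv4 F10579) F19972 (iv4 D12052) D12053 D25367 (iv4 D24757) F19825 (iv5 D11990)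
theorem F40109 : act 1 n24754 = n25367 := d15_0 F40108 (iv7 F39851) F39850
def n25368 : Q := act 6 n12053
theorem D25368 : act 6 n12053 = n25368 := rfl
def n25369 : Q := act 1 n12054
theorem D25369 : act 1 n12054 = n25369 := rfl
theorem F40110 : act 7 n25369 = n14054 := d15_2 (iv0 F38315) D25369 (iv2 F38312)
theorem F40111 : act 4 n12256 = n25369 := d20_0 (iv1 D25369) (iv4 F40105) F40104 (iv1 F38946) F26138 F18363 F8648 (iv4 F18517) (iv3 F37832) (iv1 F37836)
theorem F40112 : act 3 n12076 = n25369 := d20_3 F36947 (iv1 F18031) (iv4 F19984) (iv1 D25369) (iv3 F22205) F22206 (iv1 F22228) F22145 F22144 (iv1 F36951)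
theorem F40113 : act 6 n13397 = n25369 := d21_3 D14148 F37504 F37500 (iv1 D25369) (iv6 D12054) D12053 (iv1 F38477) (iv5 F38479) (iv6 D24153) (iv1 F19318)
def n25370 : Q := act 5 n12054
theorem D25370 : act 5 n12054 = n25370 := rfl
theorem F40114 : act 2 n25370 = n14177 := d2_1 D25370 F38385 F38380
theorem F40115 : act 3 n25370 = n24087 := d6_1 D25370 (iv5 F37713) F22205
theorem F40116 : act 0 n25370 = n12231 := d17_2 (iv1 D25369) D25370 (iv5 D12231) F8919 D6830 (iv0 F20322) (iv5 D12257) D12256 F40111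
theorem F40117 : act 0 n14340 = n25370 := d21_1 (iv5 F23955) (iv5 D25370) (iv6 D12054) (iv1 F18911) F18914 D24500 (iv1 F38460) F38139 F38134 F20231
def n25371 : Q := act 7 n12054
theorem D25371 : act 7 n12054 = n25371 := rfl
def n25372 : Q := act 4 n12055
theorem D25372 : act 4 n12055 = n25372 := rfl
theorem F40118 : act 0 n25372 = n24747 := d18_2 D12055 D25372 (iv4 D24747) (iv5 D11712) D11711 (iv0 F19971) (iv4 D12052) (iv0 D5710) D5712
theorem F40119 : act 1 n25372 = n24241 := d15_1 (iv0 F40118) (iv7 F39810) F39809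
def n25373 : Q := act 6 n12055
theorem D25373 : act 6 n12055 = n25373 := rfl
def n25374 : Q := act 0 n12057
theorem D25374 : act 0 n12057 = n25374 := rfl
theorem F40120 : act 4 n25374 = n13422 := d18_3 F38138 D12057 D25374 F22321 (iv4 F19649) (iv0 D11921) (iv4 F18527) D24159 (iv5 F38139)
theorem F40121 : act 2 n13423 = n25374 := d15_3 (iv0 D25374) (iv0 F22249) (iv7 F22325)
def n25375 : Q := act 3 n12057
theorem D25375 : act 3 n12057 = n25375 := rfl
theorem F40122 : act 4 n25375 = n12089 := d5_2 D12057 D25375 (iv3 D12089) (iv4 D5725) (iv3 F8814)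
def n25376 : Q := act 5 n12057
theorem D25376 : act 5 n12057 = n25376 := rfl
theorem F40123 : act 1 n25376 = n25265 := d17_6 (iv1 D24506) (iv5 D11594) F18906 D5712 D12057 D25376 (iv5 D25265) D25263 F39860
def n25377 : Q := act 7 n12057
theorem D25377 : act 7 n12057 = n25377 := rfl
theorem F40124 : act 4 n25377 = n12058 := d11_1 D25377 (iv7 D12058) D12057
theorem F40125 : act 0 n13423 = n25377 := d18_2 F19353 D13423 F40124 F19974 F8816 (iv0 F10114) F10015 F19348 D11404
def n25378 : Q := act 6 n12058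
theorem D25378 : act 6 n12058 = n25378 := rfl
theorem F40126 : act 3 n25378 = n12092 := d7_1 D25378 (iv6 D12092) (iv3 F19973)
theorem F40127 : act 5 n25378 = n25378 := d12_1 D25378 (iv6 D25378) F19974 F8817 (iv5 F19974)
def n25379 : Q := act 4 n12067
theorem D25379 : act 4 n12067 = n25379 := rfl
theorem F40128 : act 1 n25379 = n24770 := d18_6 (iv1 F9858) F4259 (iv1 F9850) F22464 D12067 D25379 (iv4 D24770) (iv0 F22165) (iv5 D13327)
def n25380 : Q := act 6 n12067
theorem D25380 : act 6 n12067 = n25380 := rfl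
def n25381 : Q := act 0 n12068
theorem D25381 : act 0 n12068 = n25381 := rfl
theorem F40129 : act 5 n25381 = n25354 := d17_1 D25381 (iv1 F40072) (iv5 D14394) (iv4 F11157) D12357 F20540 (iv5 F24652) F24654 (iv4 F22566)
theorem F40130 : act 4 n25381 = n24116 := d20_2 (iv4 F22566) D25381 F37787 F23933 F19002 F8238 F4615 (iv4 F5482) (iv3 F11968) F24470
theorem F40131 : act 3 n25381 = n14438 := d20_5 D25272 (iv1 F39886) F39000 F38466 D25381 (iv4 D14438) D14437 (iv4 F38822) (iv3 F39822) (iv1 F39826)
theorem F40132 : act 2 n24116 = n25381 := d15_3 (iv0 D25381) F37786 D24116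
theorem F40133 : act 6 n25381 = n24123 := d3_2 F39318 F40132 F39320
theorem F40134 : act 7 n25381 = n23989 := d4_2 D24116 F40132 F37478
theorem F40135 : act 1 n24115 = n25381 := d15_1 D24115 F40134 F37478
theorem F40136 : act 0 n14399 = n14789 := d18_2 (iv1 D14398) D14399 (iv4 D14789) (iv5 F22233) (iv4 F37783) F40135 F40130 (iv0 F37789) F24047
def n25382 : Q := act 5 n12068
theorem D25382 : act 5 n12068 = n25382 := rfl
theorem F40137 : act 2 n25382 = n14398 := d2_1 D25382 (iv5 F24047) F22567
theorem F40138 : act 3 n25382 = n24577 := d6_1 D25382 F38575 F38466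
theorem F40139 : act 0 n25382 = n14395 := d17_2 (iv1 F37786) D25382 (iv5 D14395) (iv4 F11156) D6890 D14398 (iv5 F24047) (iv0 F37482) F37480
theorem F40140 : act 1 n25382 = n14308 := d17_6 (iv1 F19359) D3215 D7049 F22179 (iv4 F22566) D25382 (iv5 D14308) (iv0 F19357) F8784
theorem F40141 : act 4 n25382 = n14791 := d18_5 (iv1 F24471) F11969 F24470 (iv4 F22566) D25382 (iv0 D14791) (iv4 D7051) D7050 (iv5 F22233)
theorem F40142 : act 7 n14397 = n25382 := d15_2 F24046 F24045 F40137
theorem F40143 : act 3 n24154 = n14397 := d8_3 F40142 F40138 F38578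
def n25383 : Q := act 7 n12068
theorem D25383 : act 7 n12068 = n25383 := rfl
theorem F40144 : act 2 n25383 = n24115 := d4_1 D25383 (iv7 F37784) F22567
theorem F40145 : act 4 n25383 = n15012 := d11_1 D25383 F24649 (iv4 F22566)
theorem F40146 : act 5 n25383 = n14397 := d13_1 D25383 F40142 (iv5 D25382)
theorem F40147 : act 1 n23989 = n25383 := d15_1 (iv0 F37482) (iv7 D25383) (iv2 F22567)
theorem F40148 : act 1 n25383 = n24116 := d15_1 F40147 (iv7 D24116) (iv2 F37478)
def n25384 : Q := act 4 n12070
theorem D25384 : act 4 n12070 = n25384 := rfl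
theorem F40149 : act 2 n25384 = n13366 := d1_1 D25384 (iv4 F36860) F36857
theorem F40150 : act 7 n25384 = n13365 := d11_2 F36862 D25384 (iv4 F36868)
theorem F40151 : act 0 n25384 = n13334 := d18_2 (iv1 F36875) D25384 (iv4 D13334) (iv5 D6323) F4256 D6322 F22464 F17994 (iv5 F36874)
theorem F40152 : act 1 n25384 = n13369 := d18_6 F24467 F19090 F22186 (iv4 F22953) F22954 D25384 F22238 F22193 F24468
def n25385 : Q := act 6 n12070
theorem D25385 : act 6 n12070 = n25385 := rfl
def n25386 : Q := act 3 n12071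
theorem D25386 : act 3 n12071 = n25386 := rfl
theorem F40153 : act 6 n25386 = n12089 := d7_2 (iv6 F19977) D25386 (iv3 D12089)
def n25387 : Q := act 5 n12071
theorem D25387 : act 5 n12071 = n25387 := rfl
def n25388 : Q := act 7 n12071
theorem D25388 : act 7 n12071 = n25388 := rfl
theorem F40154 : act 4 n25388 = n12072 := d11_1 D25388 (iv7 D12072) D12071
def n25389 : Q := act 6 n12072
theorem D25389 : act 6 n12072 = n25389 := rfl
theorem F40155 : act 5 n25389 = n25389 := d12_1 D25389 (iv6 D25389) F19978 F8819 (iv5 F19978)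
theorem F40156 : act 7 n25389 = n12092 := d14_2 D12072 D25389 (iv6 D12092) (iv7 D5726) (iv6 F8818)
def n25390 : Q := act 4 n12073
theorem D25390 : act 4 n12073 = n25390 := rfl
theorem F40157 : act 7 n25390 = n24168 := d11_2 (iv7 F19980) D25390 (iv4 D24168)
theorem F40158 : act 0 n25390 = n12095 := d18_2 (iv1 F19979) D25390 (iv4 D12095) (iv5 D5730) (iv4 D2398) (iv0 D1134) (iv4 F2077) D2393 D5721
theorem F40159 : act 1 n25390 = n12106 := d18_6 D11382 F18597 (iv1 F8688) (iv4 F18535) (iv5 F19981) D25390 (iv4 D12106) (iv0 F18603) (iv5 D11383)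
theorem F40160 : act 0 n24753 = n12104 := d20_4 D25367 (iv1 F40109) (iv4 D24754) D24753 F20028 D12106 (iv1 F40159) (iv4 D25390) F38475 (iv1 F38474)
def n25391 : Q := act 6 n12073
theorem D25391 : act 6 n12073 = n25391 := rfl
theorem F40161 : act 5 n25391 = n25356 := d12_1 D25391 (iv6 D25356) (iv5 F22271) F22272 (iv5 F19981)
def n25392 : Q := act 1 n12074
theorem D25392 : act 1 n12074 = n25392 := rfl
theorem F40162 : act 1 n25392 = n12080 := d15_1 D25392 (iv7 F36893) F36892
theorem F40163 : act 7 n25392 = n24224 := d15_2 F24604 D25392 F37975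
theorem F40164 : act 4 n25392 = n13538 := d18_7 F10155 F3448 F9939 (iv4 F5175) D5718 D12074 D25392 (iv0 D13538) (iv5 D6442)
theorem F40165 : act 2 n24777 = n25392 := d1_3 F40164 (iv2 F22693) D24777
def n25393 : Q := act 3 n12074
theorem D25393 : act 3 n12074 = n25393 := rfl
theorem F40166 : act 4 n25393 = n24976 := d5_2 D12074 D25393 (iv3 D24976) (iv4 D11859) (iv3 F10185)
def n25394 : Q := act 5 n12074
theorem D25394 : act 5 n12074 = n25394 := rfl
theorem F40167 : act 4 n25394 = n12132 := d16_2 D12074 D25394 F20062 (iv4 D11221) (iv5 D5158) (iv4 F9942) D5721 (iv7 F17998) F17997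
theorem F40168 : act 0 n25394 = n23956 := d17_2 (iv1 D25392) D25394 F37407 F22314 F10405 (iv0 F10161) D11113 F22694 (iv4 F40164)
theorem F40169 : act 1 n25394 = n23945 := d17_6 (iv1 D5724) (iv5 D2394) D2392 D5718 D12074 D25394 (iv5 D23945) (iv0 F20001) (iv4 D12085)
def n25395 : Q := act 6 n12074
theorem D25395 : act 6 n12074 = n25395 := rfl
theorem F40170 : act 4 n25395 = n12075 := d10_1 D25395 (iv6 D12075) D12074
def n25396 : Q := act 0 n12075
theorem D25396 : act 0 n12075 = n25396 := rfl
def n25397 : Q := act 1 n12075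
theorem D25397 : act 1 n12075 = n25397 := rfl
def n25398 : Q := act 7 n12075
theorem D25398 : act 7 n12075 = n25398 := rfl
theorem F40171 : act 3 n25398 = n24982 := d8_1 D25398 (iv7 D24982) (iv3 F19982)
def n25399 : Q := act 1 n12078
theorem D25399 : act 1 n12078 = n25399 := rfl
theorem F40172 : act 1 n25399 = n24952 := d15_1 D25399 F39133 (iv2 F19994)
theorem F40173 : act 7 n25399 = n24986 := d15_2 (iv0 F38623) D25399 (iv2 F39207)
theorem F40174 : act 5 n14314 = n25399 := d21_6 (iv5 D14428) (iv1 F24077) (iv5 D14360) F11136 (iv1 F11133) D14314 (iv1 D25399) (iv5 D12078) D12079 F24081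
theorem F40175 : act 2 n25399 = n14408 := d2_1 F40174 (iv5 D14408) (iv2 F23924)
theorem F40176 : act 4 n25399 = n25203 := d18_5 (iv1 D11765) (iv4 F10366) (iv1 F22471) (iv4 F23925) F40174 (iv0 D25203) (iv4 D11961) D11960 (iv5 F22584)
def n25400 : Q := act 4 n12078
theorem D25400 : act 4 n12078 = n25400 := rfl
theorem F40177 : act 2 n25400 = n24987 := d1_1 D25400 (iv4 D24987) (iv2 F19994)
theorem F40178 : act 0 n25400 = n24806 := d18_2 (iv1 D25399) D25400 (iv4 D24806) F22592 D25236 F39764 (iv4 F39792) (iv0 F39797) F40174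
theorem F40179 : act 1 n25400 = n24809 := d18_6 (iv1 F8630) (iv4 F19056) F19057 F8847 D12078 D25400 (iv4 D24809) F19732 (iv5 D11957)
def n25401 : Q := act 6 n12078
theorem D25401 : act 6 n12078 = n25401 := rfl
theorem F40180 : act 2 n25401 = n24988 := d3_1 D25401 (iv6 D24988) (iv2 F19994)
theorem F40181 : act 3 n25401 = n12081 := d7_1 D25401 (iv6 D12081) (iv3 F19995)
def n25402 : Q := act 3 n12080
theorem D25402 : act 3 n12080 = n25402 := rfl
def n25403 : Q := act 5 n12080
theorem D25403 : act 5 n12080 = n25403 := rfl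
theorem F40182 : act 4 n25403 = n12131 := d9_1 D25403 F20061 (iv4 D6434) (iv5 D2839) (iv4 F5175) D5718 D12074 D25394 F40167 F20062 (iv4 D11221) (iv5 D5158) (iv4 F9942) D5721 D12080
theorem F40183 : act 0 n25403 = n23945 := d17_2 F24603 D25403 (iv5 D23945) (iv4 D11219) (iv5 D5148) (iv0 F10155) D6442 (iv0 F11434) D14935
theorem F40184 : act 1 n25403 = n23956 := d17_6 (iv1 F18014) F18011 (iv1 F7546) D5721 D12080 D25403 F37407 F22316 (iv4 D12082)
def n25404 : Q := act 6 n12080
theorem D25404 : act 6 n12080 = n25404 := rfl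
theorem F40185 : act 4 n25404 = n12081 := d10_1 D25404 (iv6 D12081) D12080
def n25405 : Q := act 0 n12081
theorem D25405 : act 0 n12081 = n25405 := rfl
def n25406 : Q := act 1 n12081
theorem D25406 : act 1 n12081 = n25406 := rfl
theorem F40186 : act 6 n25045 = n25406 := d21_3 D24526 F38511 (iv5 F39299) (iv1 D25406) (iv6 D12081) (iv5 D5721) (iv1 D2393) D2394 (iv6 F8818) (iv1 F36863)
theorem F40187 : act 5 n24126 = n25406 := d21_6 (iv5 D5239) (iv1 D2149) D2150 (iv6 F7797) D11331 D24126 (iv1 D25406) (iv5 F37843) (iv6 D24141) (iv1 F18511)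
theorem F40188 : act 3 n25406 = n25047 := d7_1 F40186 (iv6 D25047) D25045
def n25407 : Q := act 7 n12081
theorem D25407 : act 7 n12081 = n25407 := rfl
def n25408 : Q := act 3 n12082
theorem D25408 : act 3 n12082 = n25408 := rfl
theorem F40189 : act 4 n25408 = n25000 := d5_2 D12082 D25408 (iv3 D25000) (iv4 D11875) F19280
def n25409 : Q := act 5 n12082
theorem D25409 : act 5 n12082 = n25409 := rfl
theorem F40190 : act 4 n25409 = n12124 := d16_2 D12082 D25409 (iv5 D12124) (iv4 F10219) (iv5 F7750) (iv4 F18328) F18329 (iv7 F18386) (iv2 F18387)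
def n25410 : Q := act 6 n12082
theorem D25410 : act 6 n12082 = n25410 := rfl
theorem F40191 : act 4 n25410 = n12083 := d10_1 D25410 (iv6 D12083) D12082
def n25411 : Q := act 0 n12083
theorem D25411 : act 0 n12083 = n25411 := rfl
def n25412 : Q := act 1 n12083
theorem D25412 : act 1 n12083 = n25412 := rfl
def n25413 : Q := act 5 n12083
theorem D25413 : act 5 n12083 = n25413 := rfl
theorem F40192 : act 3 n25413 = n25005 := d6_1 D25413 (iv5 D25005) (iv3 F19999)
theorem F40193 : act 6 n25413 = n14055 := d12_2 D12083 D25413 F23454 F18531 F18528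
theorem F40194 : act 0 n25413 = n14400 := d21_4 (iv5 F22271) (iv1 F22273) (iv5 F23454) (iv6 F40193) (iv6 D14400) (iv5 D6890) (iv1 F19403) D12041 F19943 D12042
def n25414 : Q := act 7 n12083
theorem D25414 : act 7 n12083 = n25414 := rfl
theorem F40195 : act 3 n25414 = n25006 := d8_1 D25414 (iv7 D25006) (iv3 F19999)
def n25415 : Q := act 4 n12084
theorem D25415 : act 4 n12084 = n25415 := rfl
theorem F40196 : act 2 n25415 = n25007 := d1_1 D25415 (iv4 D25007) (iv2 F20000)
theorem F40197 : act 0 n25415 = n24325 := d18_2 F39277 D25415 (iv4 D24325) (iv5 D11455) (iv4 F18720) F19323 F8847 (iv0 F19575) D25038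
theorem F40198 : act 1 n25415 = n24799 := d18_6 (iv1 F19780) (iv4 F38803) (iv1 F38804) F24600 (iv5 F23820) D25415 (iv4 D24799) F22243 F22241
def n25416 : Q := act 6 n12084
theorem D25416 : act 6 n12084 = n25416 := rfl
theorem F40199 : act 2 n25416 = n25008 := d3_1 D25416 (iv6 D25008) (iv2 F20000)
theorem F40200 : act 3 n25416 = n12086 := d7_1 D25416 (iv6 D12086) D12084
def n25417 : Q := act 3 n12085
theorem D25417 : act 3 n12085 = n25417 := rfl
def n25418 : Q := act 5 n12085
theorem D25418 : act 5 n12085 = n25418 := rfl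
theorem F40201 : act 4 n25418 = n12121 := d9_1 D25418 (iv5 D12121) F8851 F10327 (iv4 F18529) F18528 D12082 D25409 F40190 (iv5 D12124) (iv4 F10219) (iv5 F7750) (iv4 F18328) F18329 D12085
def n25419 : Q := act 6 n12085
theorem D25419 : act 6 n12085 = n25419 := rfl
theorem F40202 : act 4 n25419 = n12086 := d10_1 D25419 (iv6 D12086) D12085
def n25420 : Q := act 0 n12086
theorem D25420 : act 0 n12086 = n25420 := rfl
def n25421 : Q := act 1 n12086
theorem D25421 : act 1 n12086 = n25421 := rfl
def n25422 : Q := act 7 n12086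
theorem D25422 : act 7 n12086 = n25422 := rfl
def n25423 : Q := act 3 n12087
theorem D25423 : act 3 n12087 = n25423 := rfl
def n25424 : Q := act 5 n12087
theorem D25424 : act 5 n12087 = n25424 := rfl
theorem F40203 : act 4 n25424 = n12117 := d16_2 (iv4 F20002) D25424 (iv5 D12117) (iv4 D5747) (iv5 F7901) F11429 F11432 F18216 (iv2 F18215)
def n25425 : Q := act 6 n12087
theorem D25425 : act 6 n12087 = n25425 := rfl
theorem F40204 : act 4 n25425 = n13413 := d10_1 D25425 (iv6 D13413) (iv4 F20002)
def n25426 : Q := act 3 n12088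
theorem D25426 : act 3 n12088 = n25426 := rfl
def n25427 : Q := act 5 n12088
theorem D25427 : act 5 n12088 = n25427 := rfl
theorem F40205 : act 4 n25427 = n12111 := d9_1 D25427 (iv5 D12111) (iv4 D5744) (iv5 F8452) (iv4 F11426) (iv5 F11428) (iv4 F20002) D25424 F40203 (iv5 D12117) (iv4 D5747) (iv5 F7901) F11429 F11432 (iv4 F20003)
def n25428 : Q := act 6 n12088
theorem D25428 : act 6 n12088 = n25428 := rfl
theorem F40206 : act 4 n25428 = n13415 := d10_1 D25428 (iv6 D13415) (iv4 F20003)
def n25429 : Q := act 0 n12089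
theorem D25429 : act 0 n12089 = n25429 := rfl
def n25430 : Q := act 1 n12089
theorem D25430 : act 1 n12089 = n25430 := rfl
def n25431 : Q := act 2 n12089
theorem D25431 : act 2 n12089 = n25431 := rfl
def n25432 : Q := act 5 n12089
theorem D25432 : act 5 n12089 = n25432 := rfl
theorem F40207 : act 3 n25432 = n12090 := d6_1 D25432 (iv5 D12090) D12089
def n25433 : Q := act 7 n12089
theorem D25433 : act 7 n12089 = n25433 := rfl
theorem F40208 : act 3 n25433 = n12091 := d8_1 D25433 (iv7 D12091) D12089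
def n25434 : Q := act 0 n12090
theorem D25434 : act 0 n12090 = n25434 := rfl
theorem F40209 : act 5 n25434 = n12095 := d17_3 (iv1 D12088) D12090 D25434 (iv4 D12095) (iv5 D5730) F9906 D2726 D6374 (iv4 F20003)
theorem F40210 : act 4 n25434 = n12109 := d18_1 D25434 F20031 D23929 (iv5 F37378) F37377 F18222 (iv4 F20002) (iv0 D12087) D12090
theorem F40211 : act 1 n12133 = n25434 := d15_0 (iv0 D25434) F36994 F36992
def n25435 : Q := act 1 n12090
theorem D25435 : act 1 n12090 = n25435 := rfl
theorem F40212 : act 1 n25435 = n12133 := d15_1 D25435 F36923 F36921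
theorem F40213 : act 5 n25435 = n12106 := d17_7 F19802 (iv5 D5721) (iv1 D2393) D2394 D5725 D12090 D25435 (iv0 F39799) (iv4 D25247)
theorem F40214 : act 4 n25435 = n12101 := d17_9 (iv1 F37415) F37413 (iv1 F18232) D12117 (iv4 F40203) (iv5 D25424) (iv0 D12087) D12090 D25435
def n25436 : Q := act 6 n12090
theorem D25436 : act 6 n12090 = n25436 := rfl
def n25437 : Q := act 6 n12091
theorem D25437 : act 6 n12091 = n25437 := rfl
theorem F40215 : act 4 n25437 = n12092 := d10_1 D25437 (iv6 D12092) (iv4 F20004)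
def n25438 : Q := act 0 n12092
theorem D25438 : act 0 n12092 = n25438 := rfl
def n25439 : Q := act 1 n12092
theorem D25439 : act 1 n12092 = n25439 := rfl
def n25440 : Q := act 1 n12093
theorem D25440 : act 1 n12093 = n25440 := rfl
theorem F40216 : act 1 n25440 = n14596 := d15_1 D25440 (iv7 F37738) F37737
theorem F40217 : act 7 n25440 = n14605 := d15_2 F38829 D25440 F38832
theorem F40218 : act 2 n14604 = n25440 := d4_3 F40217 F38832 (iv7 F38833)
theorem F40219 : act 5 n24879 = n25440 := d13_3 F40217 F37740 D24879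
theorem F40220 : act 4 n24491 = n25440 := d18_7 (iv1 F19397) F11025 F19398 (iv4 D5386) D5387 D11582 D24491 F40216 (iv5 D14596)
def n25441 : Q := act 4 n12093
theorem D25441 : act 4 n12093 = n25441 := rfl
theorem F40221 : act 7 n25441 = n14606 := d11_2 (iv7 F20007) D25441 (iv4 D14606)
theorem F40222 : act 0 n25441 = n25058 := d18_2 (iv1 D25440) D25441 (iv4 D25058) F19596 (iv4 F19266) (iv0 F19267) (iv4 F23226) F39010 F40219
def n25442 : Q := act 6 n12093
theorem D25442 : act 6 n12093 = n25442 := rfl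
theorem F40223 : act 3 n25442 = n12096 := d7_1 D25442 (iv6 D12096) (iv3 F20006)
def n25443 : Q := act 0 n12094
theorem D25443 : act 0 n12094 = n25443 := rfl
def n25444 : Q := act 1 n12094
theorem D25444 : act 1 n12094 = n25444 := rfl
theorem F40224 : act 4 n25444 = n24484 := d17_9 (iv1 D24484) (iv5 F38031) F38897 (iv5 D24844) F19136 D11778 (iv0 F37591) F37588 D25444
theorem F40225 : act 7 n14219 = n25444 := d11_0 F40224 F38439 (iv4 F24450)
theorem F40226 : act 2 n25444 = n25213 := d4_1 F40225 F39707 F38161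
theorem E4776 : n25443 = n24342 := ((c15_4 (iv0 D25443) D25444 (iv7 F40225) (iv2 F38161))).symm
theorem F40227 : act 1 n24342 = n12094 := (sb E4776 (iv0 D25443))
def n25445 : Q := act 7 n12094
theorem D25445 : act 7 n12094 = n25445 := rfl
theorem F40228 : act 3 n25445 = n12097 := d8_1 D25445 (iv7 D12097) (iv3 F20008)
theorem F40229 : act 4 n25445 = n12280 := d11_1 D25445 (iv7 D12280) (iv4 F20009)
theorem F40230 : act 5 n25445 = n13955 := d13_1 D25445 (iv7 F37589) F37588
theorem F40231 : act 6 n25445 = n14611 := d14_1 D25445 (iv7 D14611) (iv6 D6980) (iv7 F8826) D12094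
theorem F40232 : act 1 n25213 = n25445 := d15_1 F39708 (iv7 D25445) (iv2 F37742)
theorem F40233 : act 1 n25445 = n14219 := d15_1 F40232 F40225 F40226
theorem F40234 : act 1 n14800 = n24457 := d18_8 (iv1 D24864) D24865 F38970 (iv4 D14501) (iv5 F20353) (iv4 F40229) F40233 F24450 F38967
def n25446 : Q := act 3 n12095
theorem D25446 : act 3 n12095 = n25446 := rfl
def n25447 : Q := act 6 n12095
theorem D25447 : act 6 n12095 = n25447 := rfl
theorem F40235 : act 4 n25447 = n12096 := d10_1 D25447 (iv6 D12096) D12095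
def n25448 : Q := act 0 n12096
theorem D25448 : act 0 n12096 = n25448 := rfl
def n25449 : Q := act 1 n12096
theorem D25449 : act 1 n12096 = n25449 := rfl
def n25450 : Q := act 7 n12096
theorem D25450 : act 7 n12096 = n25450 := rfl
def n25451 : Q := act 3 n12098
theorem D25451 : act 3 n12098 = n25451 := rfl
theorem F40236 : act 2 n25451 = n17413 := d0_1 D25451 F28382 F27757 F24520 F22699
theorem F40237 : act 4 n25451 = n12345 := d5_2 D12098 D25451 (iv3 D12345) (iv4 D5871) (iv3 F10036)
theorem F40238 : act 6 n25451 = n12839 := d7_2 (iv6 F20014) D25451 F26471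
theorem F40239 : act 7 n25451 = n14846 := d8_2 (iv7 F20015) D25451 (iv3 D14846)
def n25452 : Q := act 5 n12098
theorem D25452 : act 5 n12098 = n25452 := rfl
theorem F40240 : act 7 n25452 = n14847 := d13_2 (iv7 F20015) D25452 (iv5 D14847)
theorem F40241 : act 0 n25452 = n23744 := d17_2 (iv1 F20017) D25452 (iv5 D23744) F18044 F10272 F10304 F10482 F10479 D11221
theorem F40242 : act 1 n25452 = n23742 := d17_6 D5083 (iv5 F8684) (iv1 F8688) F8830 D12098 D25452 (iv5 D23742) (iv0 D11120) (iv4 D5084)
def n25453 : Q := act 5 n12099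
theorem D25453 : act 5 n12099 = n25453 := rfl
theorem F40243 : act 3 n25453 = n16906 := d6_1 D25453 (iv5 D16906) (iv3 F27038)
theorem F40244 : act 0 n25453 = n13550 := d17_2 (iv1 F20018) D25453 (iv5 D13550) (iv4 D6451) (iv5 F7937) F8551 F8830 F8828 D5743
theorem F40245 : act 1 n25453 = n23739 := d17_6 (iv1 F10326) F10327 (iv1 F18327) F18324 (iv4 F20019) D25453 (iv5 D23739) F18035 (iv4 D5162)
def n25454 : Q := act 0 n12100
theorem D25454 : act 0 n12100 = n25454 := rfl
def n25455 : Q := act 1 n12100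
theorem D25455 : act 1 n12100 = n25455 := rfl
def n25456 : Q := act 2 n12100
theorem D25456 : act 2 n12100 = n25456 := rfl
theorem F40246 : act 4 n25456 = n15263 := d1_2 (iv4 F20021) D25456 (iv2 F26915)
def n25457 : Q := act 5 n12100
theorem D25457 : act 5 n12100 = n25457 := rfl
theorem F40247 : act 3 n25457 = n12101 := d6_1 D25457 (iv5 D12101) D12100
def n25458 : Q := act 6 n12100
theorem D25458 : act 6 n12100 = n25458 := rfl
theorem F40248 : act 3 n25458 = n12102 := d7_1 D25458 (iv6 D12102) D12100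
theorem F40249 : act 4 n25458 = n23832 := d10_1 D25458 (iv6 D23832) (iv4 F20021)
def n25459 : Q := act 6 n12101
theorem D25459 : act 6 n12101 = n25459 := rfl
def n25460 : Q := act 0 n12102
theorem D25460 : act 0 n12102 = n25460 := rfl
theorem F40250 : act 4 n25460 = n16687 := d18_3 (iv1 D12103) (iv4 F20023) D25460 (iv5 D16687) F22745 F22755 F22753 F10546 F20026
theorem F40251 : act 6 n25460 = n12148 := d21_5 D11210 (iv1 F20022) (iv5 D12101) D12102 D25460 (iv5 F32550) (iv1 D20479) (iv5 F27050) (iv6 D12118) F10309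
theorem F40252 : act 1 n24022 = n25460 := d15_0 (iv0 D25460) (iv7 F37673) F37671
theorem F40253 : act 2 n16953 = n25460 := d3_3 F40251 (iv2 F20151) D16953
def n25461 : Q := act 1 n12102
theorem D25461 : act 1 n12102 = n25461 := rfl
theorem F40254 : act 1 n25461 = n24022 := d15_1 D25461 F37554 F36956
theorem F40255 : act 7 n25461 = n16953 := d15_2 (iv0 D25460) D25461 F40253
theorem F40256 : act 4 n25461 = n15751 := d18_7 F12663 (iv4 F27798) F37674 F37672 F18629 (iv4 F20023) D25461 (iv0 F25251) F18350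
def n25462 : Q := act 5 n12102
theorem D25462 : act 5 n12102 = n25462 := rfl
def n25463 : Q := act 4 n12103
theorem D25463 : act 4 n12103 = n25463 := rfl
theorem F40257 : act 7 n25463 = n14898 := d11_2 (iv7 F20025) D25463 (iv4 D14898)
theorem F40258 : act 0 n25463 = n13530 := d18_2 (iv1 F20024) D25463 F22680 (iv5 F18350) (iv4 F37547) (iv0 F37549) (iv4 D14898) (iv0 F18027) (iv5 F19124)
theorem F40259 : act 1 n25463 = n24063 := d18_6 (iv1 F12660) (iv4 F8900) F20179 (iv4 D12180) F20026 D25463 F37661 (iv0 F18431) F12661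
def n25464 : Q := act 0 n12104
theorem D25464 : act 0 n12104 = n25464 := rfl
theorem F40260 : act 5 n25464 = n25236 := d17_3 F19057 D12104 D25464 (iv4 D25236) (iv5 F22592) (iv0 D11753) (iv5 D5495) D5493 (iv4 F19056)
theorem F40261 : act 4 n25464 = n24622 := d18_1 D25464 (iv1 F39291) (iv4 D25041) (iv5 D11895) F10107 F19325 (iv4 F18720) F19323 D12104
theorem F40262 : act 2 n25256 = n25464 := d15_3 (iv0 D25464) (iv0 F40160) (iv7 F39829)
def n25465 : Q := act 4 n12104
theorem D25465 : act 4 n12104 = n25465 := rfl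
theorem F40263 : act 0 n25465 = n25046 := d18_2 F40160 D25465 (iv4 D25046) F22585 (iv4 F24060) (iv0 F39796) F39792 (iv0 F39646) (iv5 F38750)
theorem F40264 : act 1 n25465 = n25043 := d18_6 D5576 D11888 F19575 (iv4 F8847) D12104 D25465 (iv4 D25043) (iv0 D11897) (iv5 D5580)
def n25466 : Q := act 6 n12104
theorem D25466 : act 6 n12104 = n25466 := rfl
theorem F40265 : act 3 n25466 = n12107 := d7_1 D25466 (iv6 D12107) (iv3 F20028)
def n25467 : Q := act 3 n12106
theorem D25467 : act 3 n12106 = n25467 := rfl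
def n25468 : Q := act 6 n12106
theorem D25468 : act 6 n12106 = n25468 := rfl
theorem F40266 : act 4 n25468 = n12107 := d10_1 D25468 (iv6 D12107) D12106
def n25469 : Q := act 0 n12107
theorem D25469 : act 0 n12107 = n25469 := rfl
def n25470 : Q := act 1 n12107
theorem D25470 : act 1 n12107 = n25470 := rfl
theorem F40267 : act 6 n25215 = n25470 := d21_3 (iv5 F22196) (iv1 F37958) (iv5 F39713) (iv1 D25470) (iv6 D12107) (iv5 D5741) F9907 D2726 F4318 D6335
theorem F40268 : act 5 n24893 = n25470 := d21_6 (iv5 D3267) (iv1 F9959) D2294 (iv6 F8446) D11813 D24893 (iv1 D25470) (iv5 F24585) (iv6 D14924) (iv1 D7109)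
theorem F40269 : act 2 n25470 = n25217 := d2_1 F40268 F39719 (iv2 F39031)
def n25471 : Q := act 7 n12107
theorem D25471 : act 7 n12107 = n25471 := rfl
theorem F40270 : act 1 n25217 = n25471 := d15_1 (iv0 F39720) (iv7 D25471) (iv2 F22698)
def n25472 : Q := act 0 n12108
theorem D25472 : act 0 n12108 = n25472 := rfl
def n25473 : Q := act 1 n12108
theorem D25473 : act 1 n12108 = n25473 := rfl
def n25474 : Q := act 2 n12108
theorem D25474 : act 2 n12108 = n25474 := rfl
def n25475 : Q := act 5 n12108
theorem D25475 : act 5 n12108 = n25475 := rfl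
theorem F40271 : act 3 n25475 = n12109 := d6_1 D25475 (iv5 D12109) D12108
def n25476 : Q := act 6 n12109
theorem D25476 : act 6 n12109 = n25476 := rfl
def n25477 : Q := act 0 n12110
theorem D25477 : act 0 n12110 = n25477 := rfl
theorem F40272 : act 1 n15105 = n25477 := d15_0 (iv0 D25477) F20033 (iv2 F24720)
def n25478 : Q := act 1 n12110
theorem D25478 : act 1 n12110 = n25478 := rfl
def n25479 : Q := act 2 n12110
theorem D25479 : act 2 n12110 = n25479 := rfl
theorem F40273 : act 4 n25479 = n12401 := d1_2 (iv4 F20032) D25479 (iv2 D12401)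
theorem F40274 : act 7 n25479 = n15105 := d4_2 (iv7 F20033) D25479 F24720
theorem F40275 : act 1 n25479 = n15108 := d15_0 (iv0 D15108) (iv7 F20033) D25479
theorem F40276 : act 1 n25478 = n15105 := d15_1 D25478 (iv7 F40274) (iv2 D25479)
theorem F40277 : act 1 n15109 = n25479 := d15_1 D15109 F40274 F24720
theorem F40278 : act 6 n12419 = n25479 := d10_0 F40273 F26905 D12419
def n25480 : Q := act 5 n12110
theorem D25480 : act 5 n12110 = n25480 := rfl
theorem F40279 : act 3 n25480 = n12111 := d6_1 D25480 (iv5 D12111) D12110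
theorem F40280 : act 7 n25480 = n15110 := d13_2 (iv7 F20033) D25480 (iv5 D15110)
def n25481 : Q := act 6 n12110
theorem D25481 : act 6 n12110 = n25481 := rfl
theorem F40281 : act 2 n25481 = n12419 := d3_1 D25481 F40278 (iv2 D25479)
theorem F40282 : act 3 n25481 = n12112 := d7_1 D25481 (iv6 D12112) D12110
theorem F40283 : act 4 n25481 = n12403 := d10_1 D25481 (iv6 D12403) (iv4 F20032)
theorem F40284 : act 7 n12424 = n25481 := d11_0 F40283 F26902 D12424
def n25482 : Q := act 0 n12111
theorem D25482 : act 0 n12111 = n25482 := rfl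
theorem F40285 : act 5 n25482 = n13528 := d17_3 F10306 D12111 D25482 (iv4 D13528) (iv5 F10482) F18199 (iv5 D11207) (iv0 D5140) D5142
theorem F40286 : act 1 n12117 = n25482 := d15_0 (iv0 D25482) (iv7 F22714) F22713
theorem F40287 : act 2 n25453 = n25482 := d2_3 F40285 F22674 D25453
theorem F40288 : act 7 n24227 = n25482 := d13_0 F40285 F22676 D24227
def n25483 : Q := act 1 n12111
theorem D25483 : act 1 n12111 = n25483 := rfl
theorem F40289 : act 1 n25483 = n12117 := d15_1 D25483 (iv7 F36961) F36960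
theorem F40290 : act 7 n25483 = n25453 := d15_2 (iv0 D25482) D25483 F40287
theorem F40291 : act 5 n25483 = n13527 := d17_7 (iv1 F10012) F10014 D5545 F8452 D5744 D12111 D25483 F22673 (iv4 D11115)
theorem F40292 : act 2 n24227 = n25483 := d2_3 F40291 F22669 D24227
def n25484 : Q := act 6 n12111
theorem D25484 : act 6 n12111 = n25484 := rfl
def n25485 : Q := act 0 n12112
theorem D25485 : act 0 n12112 = n25485 := rfl
theorem F40293 : act 4 n25485 = n16688 := d20_2 (iv4 F20034) D25485 F27339 F27342 F22711 (iv4 F11509) (iv1 F20620) (iv4 D12389) (iv3 F20041) (iv1 D12114)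
theorem F40294 : act 2 n23928 = n25485 := d15_3 (iv0 D25485) (iv0 F26921) D23928
theorem F40295 : act 6 n25485 = n12177 := d3_2 (iv6 F37351) F40294 (iv2 F22750)
theorem F40296 : act 7 n25485 = n23926 := d4_2 D23928 F40294 (iv2 D23926)
theorem F40297 : act 1 n23925 = n25485 := d15_1 D23925 F40296 (iv2 D23926)
def n25486 : Q := act 5 n12112
theorem D25486 : act 5 n12112 = n25486 := rfl
def n25487 : Q := act 7 n12112
theorem D25487 : act 7 n12112 = n25487 := rfl
theorem F40298 : act 2 n25487 = n23925 := d4_1 D25487 F37342 F36962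
theorem F40299 : act 3 n25487 = n12424 := d8_1 D25487 F40284 F40282
theorem F40300 : act 4 n25487 = n12115 := d11_1 D25487 (iv7 D12115) (iv4 F20034)
theorem F40301 : act 1 n23926 = n25487 := d15_1 (iv0 F37704) (iv7 D25487) (iv2 F36962)
theorem F40302 : act 1 n25487 = n23928 := d15_1 F40301 (iv7 D23928) D23926
def n25488 : Q := act 4 n12113
theorem D25488 : act 4 n12113 = n25488 := rfl
theorem F40303 : act 2 n25488 = n15014 := d1_1 D25488 (iv4 D15014) F20036
theorem F40304 : act 6 n25488 = n12181 := d10_2 (iv6 F20035) D25488 (iv4 D12181)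
theorem F40305 : act 0 n12122 = n25488 := d20_1 (iv4 F20053) (iv4 D25488) (iv3 F20037) F12569 (iv3 F20042) (iv4 F40300) (iv1 F40301) F37346 F26792 (iv1 D13548)
def n25489 : Q := act 4 n12114
theorem D25489 : act 4 n12114 = n25489 := rfl
theorem F40306 : act 3 n25489 = n15097 := d5_1 D25489 (iv4 D15097) F26969 (iv4 D12389) (iv3 F20041)
theorem F40307 : act 6 n25489 = n15443 := d10_2 F20040 D25489 (iv4 D15443)
theorem F40308 : act 7 n25489 = n15014 := d11_2 (iv7 F20038) D25489 (iv4 D15014)
theorem F40309 : act 0 n25489 = n12122 := d18_2 F27813 D25489 F20053 F12491 D16911 (iv0 F27721) F24847 F12528 D16959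
def n25490 : Q := act 0 n12116
theorem D25490 : act 0 n12116 = n25490 := rfl
theorem F40310 : act 3 n25490 = n15066 := d20_5 F18050 (iv1 F7559) D5747 D12116 D25490 (iv4 D15066) (iv1 D7167) D7169 F11498 (iv1 F18052)
def n25491 : Q := act 1 n12116
theorem D25491 : act 1 n12116 = n25491 := rfl
def n25492 : Q := act 5 n12116
theorem D25492 : act 5 n12116 = n25492 := rfl
theorem F40311 : act 3 n25492 = n12117 := d6_1 D25492 (iv5 D12117) D12116
theorem F40312 : act 6 n25492 = n20484 := d12_2 (iv6 F27049) D25492 (iv5 D20484) (iv6 D9725) D9724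
def n25493 : Q := act 6 n12117
theorem D25493 : act 6 n12117 = n25493 := rfl
theorem F40313 : act 3 n25493 = n20484 := d7_1 D25493 (iv6 F40312) F40311
theorem F40314 : act 5 n25493 = n20481 := d12_1 D25493 (iv6 D20481) (iv5 F27050) (iv6 D12118) D12117
def n25494 : Q := act 0 n12118
theorem D25494 : act 0 n12118 = n25494 := rfl
theorem F40315 : act 5 n25494 = n19869 := d17_1 D25494 (iv1 F32390) F32388 F20096 F8874 F8887 (iv5 F20047) (iv0 D12119) (iv4 F20045)
theorem F40316 : act 4 n25494 = n12924 := d18_1 D25494 (iv1 F37399) F37395 (iv5 D20014) (iv4 F16167) D21442 (iv4 F33688) (iv0 D20478) (iv5 F27050)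
theorem F40317 : act 3 n25494 = n25332 := d20_5 (iv4 F15514) F15515 F15215 F27046 D25494 F40015 F22373 (iv4 F20055) F27045 F15217
theorem F40318 : act 6 n24052 = n25494 := d7_0 F40317 (iv6 D25332) (iv3 F37630)
theorem F40319 : act 7 n25494 = n25332 := d14_2 (iv7 F37631) F40318 (iv6 D25332) (iv7 F19908) (iv6 F37527)
def n25495 : Q := act 4 n12119
theorem D25495 : act 4 n12119 = n25495 := rfl
theorem F40320 : act 2 n25495 = n17406 := d1_1 D25495 (iv4 D17406) F20048
theorem F40321 : act 6 n25495 = n14067 := d10_2 (iv6 F20046) D25495 (iv4 D14067)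
theorem F40322 : act 7 n25495 = n13862 := d11_2 (iv7 F20050) D25495 F23130
theorem F40323 : act 5 n25495 = n20926 := d17_5 (iv1 F10683) F7567 D5766 (iv5 F20047) D25495 (iv0 D20926) (iv5 F26938) (iv0 F21325) (iv4 D12857)
theorem F40324 : act 1 n25495 = n12125 := d18_6 (iv1 F26346) (iv4 F18243) F20162 (iv4 D12164) (iv5 F20047) D25495 F20055 (iv0 F22373) F26353
def n25496 : Q := act 0 n12121
theorem D25496 : act 0 n12121 = n25496 := rfl
theorem F40325 : act 5 n25496 = n13541 := d17_3 D5749 D12121 D25496 (iv4 D13541) F10506 F8697 F8452 (iv0 D2406) D2408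
theorem F40326 : act 2 n25452 = n25496 := d15_3 (iv0 D25496) (iv0 F24512) (iv7 F40240)
theorem F40327 : act 1 n12124 = n25496 := d15_0 (iv0 D25496) (iv7 F36972) F36971
theorem F40328 : act 7 n25496 = n25249 := d15_2 F24513 F40327 F39803
def n25497 : Q := act 6 n12121
theorem D25497 : act 6 n12121 = n25497 := rfl
def n25498 : Q := act 5 n12122
theorem D25498 : act 5 n12122 = n25498 := rfl
theorem F40329 : act 0 n25498 = n16922 := d17_2 F40309 D25498 (iv5 D16922) F12505 F5622 D7918 (iv5 F12521) D12114 D25489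
def n25499 : Q := act 7 n12122
theorem D25499 : act 7 n12122 = n25499 := rfl
theorem F40330 : act 4 n25499 = n13549 := d11_1 D25499 (iv7 D13549) (iv4 F20053)
theorem F40331 : act 0 n15014 = n25499 := d18_2 F18632 D15014 F40330 F22712 (iv4 F24844) (iv0 D15246) F11542 D7224 (iv5 F18037)
def n25500 : Q := act 0 n12123
theorem D25500 : act 0 n12123 = n25500 := rfl
def n25501 : Q := act 1 n12123
theorem D25501 : act 1 n12123 = n25501 := rfl
def n25502 : Q := act 5 n12123
theorem D25502 : act 5 n12123 = n25502 := rfl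
theorem F40332 : act 3 n25502 = n12124 := d6_1 D25502 (iv5 D12124) D12123
theorem F40333 : act 6 n25502 = n20530 := d12_2 F27048 D25502 (iv5 D20530) (iv6 D9742) D9741
def n25503 : Q := act 6 n12124
theorem D25503 : act 6 n12124 = n25503 := rfl
theorem F40334 : act 3 n25503 = n20530 := d7_1 D25503 (iv6 F40333) F40332
theorem F40335 : act 5 n25503 = n20527 := d12_1 D25503 (iv6 D20527) F27047 (iv6 D12125) D12124
def n25504 : Q := act 0 n12126
theorem D25504 : act 0 n12126 = n25504 := rfl
theorem F40336 : act 2 n12130 = n25504 := d15_3 (iv0 D25504) (iv0 D12126) D12130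
theorem F40337 : act 4 n25504 = n12416 := d1_2 (iv4 F20060) F40336 (iv2 F20686)
theorem F40338 : act 7 n25504 = n12128 := d4_2 D12130 F40336 (iv2 D12128)
theorem F40339 : act 1 n12127 = n25504 := d15_1 D12127 F40338 (iv2 D12128)
theorem F40340 : act 6 n16075 = n25504 := d10_0 F40337 F26873 D16075
def n25505 : Q := act 2 n12126
theorem D25505 : act 2 n12126 = n25505 := rfl
theorem F40341 : act 7 n12127 = n25505 := d15_2 (iv0 D12126) D12127 (iv2 D25505)
def n25506 : Q := act 3 n12126
theorem D25506 : act 3 n12126 = n25506 := rfl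
def n25507 : Q := act 4 n12126
theorem D25507 : act 4 n12126 = n25507 := rfl
theorem F40342 : act 0 n14983 = n25507 := d20_10 (iv4 D25507) D25504 F40337 F20687 (iv1 F11518) D7196 (iv4 F24791) F24796 (iv4 D14984) D14983
def n25508 : Q := act 5 n12126
theorem D25508 : act 5 n12126 = n25508 := rfl
def n25509 : Q := act 6 n12126
theorem D25509 : act 6 n12126 = n25509 := rfl
def n25510 : Q := act 7 n12126
theorem D25510 : act 7 n12126 = n25510 := rfl
theorem F40343 : act 2 n25510 = n12127 := d4_1 D25510 F40341 (iv2 D25505)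
def n25511 : Q := act 3 n12127
theorem D25511 : act 3 n12127 = n25511 := rfl
def n25512 : Q := act 4 n12127
theorem D25512 : act 4 n12127 = n25512 := rfl
theorem F40344 : act 3 n25512 = n13565 := d20_9 F10524 F24779 (iv4 F24780) (iv3 D7191) D7189 (iv3 F20687) (iv4 F40337) (iv1 F40339) D25512 (iv1 D13565)
def n25513 : Q := act 5 n12127
theorem D25513 : act 5 n12127 = n25513 := rfl
def n25514 : Q := act 6 n12127
theorem D25514 : act 6 n12127 = n25514 := rfl
def n25515 : Q := act 0 n12128
theorem D25515 : act 0 n12128 = n25515 := rfl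
theorem F40345 : act 4 n25515 = n13555 := d20_8 F22723 (iv1 F11518) D7197 F24784 F24781 (iv3 F9154) (iv4 F20056) D25515 (iv3 D13555) D13553
theorem F40346 : act 1 n12130 = n25515 := d15_0 (iv0 D25515) (iv7 F40338) (iv2 F40336)
def n25516 : Q := act 1 n12128
theorem D25516 : act 1 n12128 = n25516 := rfl
theorem F40347 : act 1 n25516 = n12130 := d15_1 D25516 (iv7 D12130) D12128
def n25517 : Q := act 5 n12128
theorem D25517 : act 5 n12128 = n25517 := rfl
theorem F40348 : act 2 n25517 = n12129 := d2_1 D25517 (iv5 D12129) D12128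
def n25518 : Q := act 0 n12129
theorem D25518 : act 0 n12129 = n25518 := rfl
def n25519 : Q := act 1 n12129
theorem D25519 : act 1 n12129 = n25519 := rfl
def n25520 : Q := act 4 n12129
theorem D25520 : act 4 n12129 = n25520 := rfl
def n25521 : Q := act 6 n12129
theorem D25521 : act 6 n12129 = n25521 := rfl
theorem F40349 : act 3 n25521 = n12134 := d7_1 D25521 (iv6 D12134) (iv3 F20058)
theorem F40350 : act 5 n25521 = n12210 := d12_1 D25521 (iv6 D12210) (iv5 D5784) (iv6 F8854) D12129
def n25522 : Q := act 7 n12129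
theorem D25522 : act 7 n12129 = n25522 := rfl
theorem F40351 : act 3 n25522 = n12135 := d8_1 D25522 (iv7 D12135) (iv3 F20058)
theorem F40352 : act 5 n25522 = n12130 := d13_1 D25522 (iv7 D12130) D12129
def n25523 : Q := act 6 n12130
theorem D25523 : act 6 n12130 = n25523 := rfl
theorem F40353 : act 2 n25523 = n16075 := d3_1 D25523 F40340 (iv2 F40336)
theorem F40354 : act 3 n25523 = n12136 := d7_1 D25523 (iv6 D12136) (iv3 F20059)
theorem F40355 : act 4 n25523 = n12435 := d10_1 D25523 (iv6 D12435) (iv4 F20060)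
theorem F40356 : act 7 n25523 = n12212 := d14_2 D12130 D25523 (iv6 D12212) (iv7 D5785) (iv6 F8854)
def n25524 : Q := act 3 n12131
theorem D25524 : act 3 n12131 = n25524 := rfl
theorem F40357 : act 5 n25524 = n13529 := d6_2 (iv5 F20061) D25524 (iv3 D13529)
def n25525 : Q := act 6 n12131
theorem D25525 : act 6 n12131 = n25525 := rfl
def n25526 : Q := act 3 n12132
theorem D25526 : act 3 n12132 = n25526 := rfl
theorem F40358 : act 5 n25526 = n23948 := d6_2 (iv5 F20062) D25526 (iv3 D23948)
def n25527 : Q := act 6 n12132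
theorem D25527 : act 6 n12132 = n25527 := rfl
def n25528 : Q := act 3 n12133
theorem D25528 : act 3 n12133 = n25528 := rfl
def n25529 : Q := act 6 n12133
theorem D25529 : act 6 n12133 = n25529 := rfl
theorem F40359 : act 4 n25529 = n12134 := d10_1 D25529 (iv6 D12134) D12133
def n25530 : Q := act 0 n12134
theorem D25530 : act 0 n12134 = n25530 := rfl
def n25531 : Q := act 1 n12134
theorem D25531 : act 1 n12134 = n25531 := rfl
def n25532 : Q := act 7 n12134
theorem D25532 : act 7 n12134 = n25532 := rfl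
theorem F40360 : act 5 n25532 = n12219 := d13_1 D25532 (iv7 D12219) (iv5 F20063)
def n25533 : Q := act 6 n12135
theorem D25533 : act 6 n12135 = n25533 := rfl
def n25534 : Q := act 5 n12136
theorem D25534 : act 5 n12136 = n25534 := rfl
theorem F40361 : act 7 n25534 = n12223 := d13_2 (iv7 F20066) D25534 (iv5 D12223)
def n25535 : Q := act 0 n12137
theorem D25535 : act 0 n12137 = n25535 := rfl
theorem F40362 : act 3 n25535 = n15310 := d20_5 (iv4 D3573) (iv1 F4130) (iv4 F8859) D12137 D25535 (iv4 D15310) (iv1 D7247) D7249 F11564 F5694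
theorem F40363 : act 1 n16914 = n25535 := d15_0 (iv0 D25535) F20068 D16914
def n25536 : Q := act 1 n12137
theorem D25536 : act 1 n12137 = n25536 := rfl
theorem F40364 : act 3 n16978 = n25536 := d20_3 F26714 (iv1 F28419) F28421 (iv1 D25536) (iv3 D12137) F8859 (iv1 D2580) D2581 D6122 D12916
theorem F40365 : act 0 n16914 = n25536 := d20_4 F18243 D11229 (iv4 F18250) (iv3 F27722) (iv3 F40364) (iv4 F28421) (iv1 D17428) F26415 (iv3 F26701) F18244
def n25537 : Q := act 2 n12137
theorem D25537 : act 2 n12137 = n25537 := rfl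
theorem F40366 : act 3 n25537 = n12161 := d0_2 D12137 D25537 (iv2 F26351) (iv3 D7886) F8861
theorem F40367 : act 4 n25537 = n25537 := d1_2 F20067 D25537 (iv2 D25537)
theorem F40368 : act 7 n25537 = n16914 := d4_2 (iv7 F20068) D25537 (iv2 D16914)
theorem F40369 : act 1 n25537 = n16912 := d15_0 (iv0 D16912) (iv7 F20068) D25537
theorem F40370 : act 1 n16913 = n25537 := d15_1 D16913 F40368 (iv2 D16914)
def n25538 : Q := act 5 n12137
theorem D25538 : act 5 n12137 = n25538 := rfl
theorem F40371 : act 3 n25538 = n12138 := d6_1 D25538 (iv5 D12138) D12137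
theorem F40372 : act 7 n25538 = n16915 := d13_2 (iv7 F20068) D25538 (iv5 D16915)
def n25539 : Q := act 6 n12137
theorem D25539 : act 6 n12137 = n25539 := rfl
theorem F40373 : act 3 n25539 = n12139 := d7_1 D25539 (iv6 D12139) D12137
theorem F40374 : act 4 n25539 = n25539 := d10_1 D25539 (iv6 D25539) F20067
def n25540 : Q := act 6 n12138
theorem D25540 : act 6 n12138 = n25540 := rfl
theorem F40375 : act 2 n25540 = n16905 := d3_1 D25540 (iv6 D16905) (iv2 F20069)
theorem F40376 : act 4 n25540 = n16916 := d10_1 D25540 (iv6 D16916) (iv4 F20071)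
def n25541 : Q := act 5 n12139
theorem D25541 : act 5 n12139 = n25541 := rfl
theorem F40377 : act 2 n25541 = n16906 := d2_1 D25541 (iv5 D16906) (iv2 F20074)
theorem F40378 : act 1 n25541 = n25486 := d17_6 (iv1 F26923) F21459 (iv1 D12915) F9521 (iv4 F20075) D25541 (iv5 D25486) (iv0 F26921) (iv4 F22293)
def n25542 : Q := act 5 n12140
theorem D25542 : act 5 n12140 = n25542 := rfl
theorem F40379 : act 2 n25542 = n17401 := d2_1 D25542 (iv5 D17401) (iv2 F26343)
theorem F40380 : act 3 n25542 = n12141 := d6_1 D25542 (iv5 D12141) D12140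
theorem F40381 : act 7 n25542 = n16904 := d13_2 (iv7 F20078) D25542 (iv5 D16904)
def n25543 : Q := act 6 n12141
theorem D25543 : act 6 n12141 = n25543 := rfl
theorem F40382 : act 2 n25543 = n16916 := d3_1 D25543 (iv6 D16916) (iv2 F20079)
theorem F40383 : act 4 n25543 = n16905 := d10_1 D25543 (iv6 D16905) (iv4 F20080)
theorem F40384 : act 5 n25543 = n24027 := d12_1 D25543 (iv6 D24027) (iv5 D11273) F8867 D12141
def n25544 : Q := act 3 n12142
theorem D25544 : act 3 n12142 = n25544 := rfl
theorem F40385 : act 7 n25544 = n17384 := d8_2 (iv7 F27263) D25544 (iv3 D17384)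
theorem F40386 : act 0 n25544 = n12158 := d20_4 F28375 (iv1 F28351) (iv4 F27262) D25544 F20107 F8880 D5766 D12164 F26887 D17407
theorem F40387 : act 4 n25544 = n12155 := d20_6 (iv4 D2541) F2176 D2410 D5757 D12142 D25544 (iv1 D12155) (iv4 F18240) (iv3 D11227) F7681
theorem F40388 : act 0 n19909 = n25544 := d20_10 F40387 (iv1 D12155) (iv4 F18240) (iv3 D11227) F7681 D6035 F9391 D6044 D12779 (iv3 F31855)
def n25545 : Q := act 6 n12142
theorem D25545 : act 6 n12142 = n25545 := rfl
theorem F40389 : act 2 n25545 = n17390 := d3_1 D25545 (iv6 D17390) F27261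
def n25546 : Q := act 3 n12143
theorem D25546 : act 3 n12143 = n25546 := rfl
theorem F40390 : act 4 n25546 = n12936 := d5_2 F20822 D25546 F27037 (iv4 D12496) D12495
theorem F40391 : act 7 n25546 = n17388 := d8_2 F27258 D25546 (iv3 D17388)
theorem F40392 : act 2 n25546 = n16988 := d15_3 (iv0 F27858) (iv0 F28350) (iv7 F40391)
theorem F40393 : act 0 n15310 = n25546 := d20_1 D15310 F40390 F27037 (iv1 F27282) (iv3 D16644) (iv4 D7738) D7735 F12044 (iv3 F12537) (iv1 F12541)
theorem E4777 : n15331 = n15309 := (c20_5 F27279 (iv1 D15338) (iv4 D7254) D7253 D15331 (iv3 D15309) D15310 F40393 F40390 F27037 (iv1 F27282))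
theorem F40394 : act 0 n15309 = n17385 := (sb E4777 (iv1 F28342))
theorem F40395 : act 1 n15309 = n7253 := (sb E4777 (iv0 D15331))
theorem F40396 : act 0 n25546 = n15305 := d20_1 (iv4 F40390) (iv4 D15305) (iv3 F24873) F26703 (iv3 D7333) (iv4 F26356) (iv1 D2586) (iv4 F4140) (iv3 F9538) D12936
def n25547 : Q := act 6 n12143
theorem D25547 : act 6 n12143 = n25547 := rfl
theorem F40397 : act 2 n25547 = n17387 := d3_1 D25547 (iv6 D17387) (iv2 F27260)
def n25548 : Q := act 5 n12144
theorem D25548 : act 5 n12144 = n25548 := rfl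
theorem F40398 : act 2 n25548 = n12145 := d2_1 D25548 (iv5 D12145) D12144
theorem F40399 : act 7 n25548 = n17391 := d13_2 (iv7 F20086) D25548 (iv5 D17391)
theorem F40400 : act 1 n25548 = n16037 := d17_6 D3420 D7489 F27122 F21110 (iv4 F20085) D25548 (iv5 D16037) (iv0 D7499) (iv4 D3423)
theorem E4778 : n17392 = n16037 := ((c15_1 F40400 (iv0 D17392) (iv7 F20091) (iv2 F40398))).symm
theorem F40401 : act 1 n16037 = n8147 := (sb E4778 (iv0 D17392))
theorem F40402 : act 1 n16040 = n25548 := d15_1 (iv0 F27124) F40399 F28360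
def n25549 : Q := act 0 n12145
theorem D25549 : act 0 n12145 = n25549 := rfl
theorem F40403 : act 1 n17391 = n25549 := d15_0 (iv0 D25549) F20091 (iv2 F28360)
theorem F40404 : act 5 n25549 = n12165 := d17_7 D5981 D12584 F26948 F11831 (iv4 F12915) D17391 F40403 (iv0 D12165) F8891
theorem F40405 : act 2 n16040 = n25549 := d2_3 F40404 (iv2 F25567) D16040
theorem F40406 : act 7 n16037 = n25549 := d13_0 F40404 (iv7 F25568) D16037
def n25550 : Q := act 1 n12145
theorem D25550 : act 1 n12145 = n25550 := rfl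
theorem F40407 : act 1 n25550 = n17391 := d15_1 D25550 (iv7 F40399) F40398
theorem F40408 : act 7 n25550 = n16040 := d15_2 (iv0 D25549) D25550 F40405
theorem F40409 : act 5 n25550 = n12166 := d17_7 (iv1 F9294) D12589 F26953 F9348 (iv4 F8868) D12145 D25550 F20167 (iv4 D7496)
theorem F40410 : act 2 n16037 = n25550 := d2_3 F40409 F25565 D16037
def n25551 : Q := act 4 n12145
theorem D25551 : act 4 n12145 = n25551 := rfl
theorem F40411 : act 7 n25551 = n17393 := d11_2 (iv7 F20091) D25551 (iv4 D17393)
def n25552 : Q := act 6 n12145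
theorem D25552 : act 6 n12145 = n25552 := rfl
theorem F40412 : act 3 n25552 = n12147 := d7_1 D25552 (iv6 D12147) (iv3 F20090)
def n25553 : Q := act 0 n12146
theorem D25553 : act 0 n12146 = n25553 := rfl
theorem F40413 : act 3 n25553 = n19872 := d20_5 (iv4 F12595) (iv1 D5761) (iv4 F8872) (iv3 F20092) D25553 (iv4 F32403) (iv1 D20397) F15227 (iv3 F27690) (iv1 F27694)
theorem F40414 : act 5 n19332 = n25553 := d6_0 F40413 F31718 (iv3 F30971)
theorem F40415 : act 0 n25553 = n19907 := d20_4 (iv4 F15221) (iv1 F32400) F32403 (iv3 F40413) F31743 F14664 (iv1 F14671) (iv4 D9442) (iv3 F6337) D9743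
theorem F40416 : act 6 n25478 = n12166 := d21_5 (iv5 F40414) F30972 D19984 F31816 (iv1 F40276) (iv5 F40409) (iv1 D25550) (iv5 D12145) D12146 D25553
theorem F40417 : act 2 n16038 = n25478 := d3_3 F40416 F25565 D16038
theorem F40418 : act 7 n25477 = n16038 := d15_2 F40276 F40272 F40417
def n25554 : Q := act 1 n12146
theorem D25554 : act 1 n12146 = n25554 := rfl
theorem F40419 : act 1 n25554 = n19907 := d15_1 D25554 (iv7 F32458) F32456
theorem F40420 : act 3 n17005 = n25554 := d20_3 F12510 D7940 D17005 (iv1 D25554) F20092 F8872 (iv1 F10687) F12598 F27769 (iv1 D16936)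
theorem F40421 : act 5 n25554 = n19982 := d6_2 (iv5 F35032) F40420 (iv3 F35030)
def n25555 : Q := act 7 n12146
theorem D25555 : act 7 n12146 = n25555 := rfl
theorem F40422 : act 2 n25555 = n19907 := d4_1 D25555 (iv7 F32458) F32456
theorem F40423 : act 3 n25555 = n12151 := d8_1 D25555 (iv7 D12151) (iv3 F20092)
theorem F40424 : act 4 n25555 = n12851 := d11_1 D25555 (iv7 D12851) (iv4 F20093)
theorem F40425 : act 5 n25555 = n19906 := d13_1 D25555 (iv7 F32452) (iv5 F32455)
theorem F40426 : act 6 n25555 = n15259 := d14_1 D25555 F26698 (iv6 D8148) (iv7 F8869) D12146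
def n25556 : Q := act 0 n12147
theorem D25556 : act 0 n12147 = n25556 := rfl
def n25557 : Q := act 1 n12147
theorem D25557 : act 1 n12147 = n25557 := rfl
def n25558 : Q := act 5 n12147
theorem D25558 : act 5 n12147 = n25558 := rfl
theorem F40427 : act 2 n25558 = n19871 := d2_1 D25558 (iv5 F37018) F37015
theorem F40428 : act 6 n25558 = n12150 := d12_2 D12147 D25558 (iv5 D12150) (iv6 D5759) D5758
def n25559 : Q := act 7 n12147
theorem D25559 : act 7 n12147 = n25559 := rfl
theorem F40429 : act 6 n25559 = n17400 := d14_1 D25559 (iv7 D17400) (iv6 D8149) (iv7 F8870) D12147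
def n25560 : Q := act 3 n12148
theorem D25560 : act 3 n12148 = n25560 := rfl
theorem F40430 : act 2 n25560 = n16954 := d0_1 D25560 (iv3 D16954) (iv2 F20153) (iv3 F26935) F20151
theorem F40431 : act 4 n25560 = n25560 := d5_2 (iv4 F20150) D25560 (iv3 D25560) F20150 F20148
theorem F40432 : act 7 n25560 = n16954 := d8_2 F20152 D25560 (iv3 D16954)
def n25561 : Q := act 6 n12149
theorem D25561 : act 6 n12149 = n25561 := rfl
theorem F40433 : act 2 n25561 = n16956 := d3_1 D25561 (iv6 D16956) (iv2 F20153)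
theorem F40434 : act 3 n25561 = n16953 := d7_1 D25561 (iv6 D16953) F26935
theorem F40435 : act 4 n25561 = n16903 := d10_1 D25561 (iv6 D16903) (iv4 F20094)
def n25562 : Q := act 4 n12152
theorem D25562 : act 4 n12152 = n25562 := rfl
theorem F40436 : act 3 n25562 = n12583 := d5_1 D25562 (iv4 D12583) (iv3 F26330) (iv4 D12493) (iv3 F20099)
theorem F40437 : act 6 n25562 = n12180 := d10_2 (iv6 F20101) D25562 (iv4 D12180)
theorem F40438 : act 7 n25562 = n15443 := d11_2 (iv7 F20100) D25562 (iv4 D15443)
theorem F40439 : act 1 n25562 = n24008 := d18_6 (iv1 F12486) (iv4 F27691) (iv1 F27694) (iv4 F12595) D12152 D25562 F37537 F26305 F26285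
def n25563 : Q := act 4 n12154
theorem D25563 : act 4 n12154 = n25563 := rfl
theorem F40440 : act 2 n25563 = n17384 := d1_1 D25563 F37008 (iv2 F37011)
theorem F40441 : act 3 n25563 = n16988 := d5_1 D25563 (iv4 D16988) (iv3 D7935) D7936 (iv3 F20104)
theorem F40442 : act 0 n25563 = n19909 := d20_1 D25563 (iv4 F31858) F31857 (iv1 D16917) (iv3 D7894) F5614 F2754 D2412 D5763 D12154
theorem F40443 : act 0 n12158 = n25563 := d20_10 (iv4 D25563) F32466 F32464 F27683 F21468 (iv3 F26701) (iv4 D8179) (iv1 F8885) (iv4 F8880) (iv3 F20107)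
def n25564 : Q := act 5 n12154
theorem D25564 : act 5 n12154 = n25564 := rfl
theorem F40444 : act 3 n25564 = n16991 := d6_1 D25564 (iv5 D16991) (iv3 F20104)
def n25565 : Q := act 6 n12154
theorem D25565 : act 6 n12154 = n25565 := rfl
theorem F40445 : act 3 n25565 = n16992 := d7_1 D25565 (iv6 D16992) (iv3 F20104)
def n25566 : Q := act 3 n12155
theorem D25566 : act 3 n12155 = n25566 := rfl
theorem F40446 : act 2 n25566 = n16979 := d0_1 D25566 (iv3 D16979) (iv2 F27255) (iv3 F37002) F37005
theorem F40447 : act 7 n25566 = n17395 := d8_2 F37007 D25566 (iv3 F37009)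
theorem F40448 : act 0 n25566 = n15254 := d20_10 (iv4 D15254) (iv1 F11547) (iv4 F21195) (iv3 F24894) F27728 (iv3 F31857) F31858 F40388 F40387 D25566
theorem F40449 : act 0 n15259 = n25566 := d20_4 (iv4 D12164) (iv1 F8887) (iv4 F12920) F26700 (iv3 D25566) (iv4 F40387) F40386 (iv4 F37429) F37428 F20162
def n25567 : Q := act 5 n12155
theorem D25567 : act 5 n12155 = n25567 := rfl
def n25568 : Q := act 6 n12155
theorem D25568 : act 6 n12155 = n25568 := rfl
def n25569 : Q := act 5 n12156
theorem D25569 : act 5 n12156 = n25569 := rfl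
theorem F40450 : act 2 n25569 = n12157 := d2_1 D25569 (iv5 D12157) D12156
theorem F40451 : act 3 n25569 = n17391 := d6_1 D25569 (iv5 D17391) (iv3 F20105)
def n25570 : Q := act 6 n12156
theorem D25570 : act 6 n12156 = n25570 := rfl
theorem F40452 : act 2 n25570 = n12158 := d3_1 D25570 (iv6 D12158) D12156
theorem F40453 : act 3 n25570 = n15254 := d7_1 D25570 F26654 (iv3 F20105)
theorem F40454 : act 7 n25570 = n19909 := d14_2 (iv7 F32465) D25570 (iv6 D19909) (iv7 F15140) D20428
theorem F40455 : act 1 n17384 = n25570 := d15_1 (iv0 F37010) F40454 (iv2 F32405)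
def n25571 : Q := act 0 n12157
theorem D25571 : act 0 n12157 = n25571 := rfl
def n25572 : Q := act 1 n12157
theorem D25572 : act 1 n12157 = n25572 := rfl
def n25573 : Q := act 4 n12157
theorem D25573 : act 4 n12157 = n25573 := rfl
theorem F40456 : act 3 n25573 = n16933 := d5_1 D25573 (iv4 D16933) F12508 (iv4 F8877) (iv3 F20106)
def n25574 : Q := act 6 n12157
theorem D25574 : act 6 n12157 = n25574 := rfl
theorem F40457 : act 3 n25574 = n12159 := d7_1 D25574 (iv6 D12159) (iv3 F20106)
def n25575 : Q := act 5 n12158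
theorem D25575 : act 5 n12158 = n25575 := rfl
theorem F40458 : act 3 n25575 = n12162 := d6_1 D25575 (iv5 D12162) (iv3 F20107)
def n25576 : Q := act 0 n12159
theorem D25576 : act 0 n12159 = n25576 := rfl
def n25577 : Q := act 1 n12159
theorem D25577 : act 1 n12159 = n25577 := rfl
theorem F40459 : act 1 n25577 = n17400 := d15_1 D25577 (iv7 D17400) (iv2 F20108)
def n25578 : Q := act 5 n12159
theorem D25578 : act 5 n12159 = n25578 := rfl
theorem F40460 : act 2 n25578 = n17399 := d2_1 D25578 (iv5 D17399) (iv2 F20108)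
theorem F40461 : act 6 n25578 = n12162 := d12_2 D12159 D25578 (iv5 D12162) (iv6 D5765) D5764
def n25579 : Q := act 7 n12159
theorem D25579 : act 7 n12159 = n25579 := rfl
theorem F40462 : act 2 n25579 = n17400 := d4_1 D25579 (iv7 D17400) (iv2 F20108)
theorem F40463 : act 4 n25579 = n16942 := d11_1 D25579 (iv7 D16942) (iv4 F20109)
theorem F40464 : act 1 n17400 = n25576 := d15_0 (iv0 D25576) D25579 F40462
theorem F40465 : act 1 n17398 = n25579 := d15_1 D17398 (iv7 D25579) F20108
theorem F40466 : act 1 n25579 = n17397 := d15_0 (iv0 D17397) D17400 (iv2 F40462)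
def n25580 : Q := act 5 n12161
theorem D25580 : act 5 n12161 = n25580 := rfl
theorem F40467 : act 2 n25580 = n16904 := d2_1 D25580 (iv5 D16904) F26351
theorem F40468 : act 7 n25580 = n17401 := d13_2 (iv7 F20115) D25580 (iv5 D17401)
def n25581 : Q := act 1 n12162
theorem D25581 : act 1 n12162 = n25581 := rfl
theorem F40469 : act 1 n25581 = n17404 := d15_1 D25581 (iv7 D17404) (iv2 F20154)
theorem F40470 : act 7 n25581 = n17402 := d15_2 (iv0 F27057) D25581 (iv2 F28368)
theorem F40471 : act 5 n25581 = n16891 := d17_7 F21331 (iv5 D12858) (iv1 F10683) F7567 (iv4 F8880) D12162 D25581 F27669 F26785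
theorem F40472 : act 2 n16892 = n25581 := d2_3 F40471 (iv2 D16891) D16892
def n25582 : Q := act 4 n12162
theorem D25582 : act 4 n12162 = n25582 := rfl
theorem F40473 : act 2 n25582 = n17403 := d1_1 D25582 (iv4 D17403) (iv2 F20154)
theorem F40474 : act 5 n25582 = n21668 := d9_2 D12162 D25582 F34114 F32388 F20096 F8874 (iv4 F12920) (iv5 F28371) (iv4 F33517) (iv5 D21309) F16008 F26933 F18061 F7567 (iv4 F8880)
def n25583 : Q := act 7 n12162
theorem D25583 : act 7 n12162 = n25583 := rfl
theorem F40475 : act 2 n25583 = n17404 := d4_1 D25583 (iv7 D17404) (iv2 F20154)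
theorem F40476 : act 5 n25583 = n12163 := d13_1 D25583 (iv7 D12163) D12162
theorem F40477 : act 1 n16892 = n25583 := d15_1 (iv0 F27673) (iv7 D25583) F20154
theorem F40478 : act 1 n25583 = n17402 := d15_1 F40477 (iv7 F40470) (iv2 F40472)
def n25584 : Q := act 5 n12164
theorem D25584 : act 5 n12164 = n25584 := rfl
theorem F40479 : act 2 n25584 = n17405 := d2_1 D25584 (iv5 D17405) (iv2 F20159)
theorem F40480 : act 3 n25584 = n17409 := d6_1 D25584 (iv5 D17409) (iv3 F26887)
theorem F40481 : act 7 n25584 = n15639 := d13_2 (iv7 F20161) D25584 (iv5 D15639)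
def n25585 : Q := act 3 n12165
theorem D25585 : act 3 n12165 = n25585 := rfl
theorem F40482 : act 7 n25585 = n16035 := d8_2 F25568 D25585 (iv3 D16035)
theorem F40483 : act 0 n25585 = n23933 := d20_4 (iv4 F27640) (iv1 F27642) (iv4 F25569) D25585 (iv3 D23933) (iv4 F26997) F20229 D15443 F26942 D16003
theorem F40484 : act 4 n25585 = n12171 := d20_6 (iv4 D1143) D1141 D2414 D5768 D12165 D25585 (iv1 D12171) (iv4 F8898) (iv3 D5778) (iv1 D2419)
theorem F40485 : act 0 n12655 = n25585 := d20_4 F3812 D2530 D6003 D12655 (iv3 D25585) F25569 (iv1 F37287) F37289 (iv3 D12200) (iv1 D5782)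
def n25586 : Q := act 6 n12165
theorem D25586 : act 6 n12165 = n25586 := rfl
theorem F40486 : act 2 n25586 = n16041 := d3_1 D25586 (iv6 D16041) F25567
def n25587 : Q := act 5 n12167
theorem D25587 : act 5 n12167 = n25587 := rfl
theorem F40487 : act 2 n25587 = n12168 := d2_1 D25587 (iv5 D12168) D12167
theorem F40488 : act 7 n25587 = n16026 := d13_2 (iv7 F20165) D25587 (iv5 D16026)
theorem F40489 : act 1 n25587 = n16042 := d17_6 D6070 F26854 (iv1 F20970) (iv5 D12591) (iv4 F20164) D25587 F28356 (iv0 D12142) F8868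
theorem F40490 : act 1 n16043 = n25587 := d15_0 F40489 F28357 F28344
def n25588 : Q := act 4 n12168
theorem D25588 : act 4 n12168 = n25588 := rfl
theorem F40491 : act 7 n25588 = n16044 := d11_2 (iv7 F20170) D25588 (iv4 D16044)
def n25589 : Q := act 6 n12168
theorem D25589 : act 6 n12168 = n25589 := rfl
theorem F40492 : act 3 n25589 = n12169 := d7_1 D25589 (iv6 D12169) (iv3 F20169)
def n25590 : Q := act 0 n12169
theorem D25590 : act 0 n12169 = n25590 := rfl
def n25591 : Q := act 1 n12169
theorem D25591 : act 1 n12169 = n25591 := rfl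
def n25592 : Q := act 7 n12169
theorem D25592 : act 7 n12169 = n25592 := rfl
def n25593 : Q := act 4 n12170
theorem D25593 : act 4 n12170 = n25593 := rfl
theorem F40493 : act 2 n25593 = n16035 := d1_1 D25593 F37022 (iv2 F37025)
theorem F40494 : act 3 n25593 = n15916 := d5_1 D25593 (iv4 D15916) (iv3 D7461) D7462 (iv3 F20171)
theorem F40495 : act 0 n25593 = n12655 := d20_4 (iv4 F26647) F26645 D15916 (iv3 F40494) (iv3 D12655) (iv4 D6003) D6000 (iv4 F20194) (iv3 F27605) (iv1 F27609)
theorem F40496 : act 1 n25593 = n23933 := d15_0 (iv0 F40483) F40482 (iv2 F40493)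
def n25594 : Q := act 5 n12170
theorem D25594 : act 5 n12170 = n25594 := rfl
theorem F40497 : act 3 n25594 = n15919 := d6_1 D25594 (iv5 D15919) (iv3 F20171)
def n25595 : Q := act 6 n12170
theorem D25595 : act 6 n12170 = n25595 := rfl
theorem F40498 : act 3 n25595 = n15920 := d7_1 D25595 (iv6 D15920) (iv3 F20171)
def n25596 : Q := act 3 n12171
theorem D25596 : act 3 n12171 = n25596 := rfl
theorem F40499 : act 2 n25596 = n12653 := d0_1 D25596 (iv3 F21067) (iv2 F25545) (iv3 F37019) F37027
theorem F40500 : act 7 n25596 = n12654 := d8_2 (iv7 F37026) D25596 (iv3 F37023)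
theorem F40501 : act 1 n12658 = n25596 := d15_1 (iv0 F26648) F40500 (iv2 F25531)
theorem F40502 : act 1 n25596 = n12643 := d15_1 F40501 F21056 (iv2 F21071)
def n25597 : Q := act 5 n12171
theorem D25597 : act 5 n12171 = n25597 := rfl
def n25598 : Q := act 6 n12171
theorem D25598 : act 6 n12171 = n25598 := rfl
def n25599 : Q := act 5 n12172
theorem D25599 : act 5 n12172 = n25599 := rfl
theorem F40503 : act 2 n25599 = n12173 := d2_1 D25599 (iv5 D12173) D12172
theorem F40504 : act 3 n25599 = n16026 := d6_1 D25599 (iv5 D16026) (iv3 F20172)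
def n25600 : Q := act 6 n12172
theorem D25600 : act 6 n12172 = n25600 := rfl
theorem F40505 : act 2 n25600 = n12174 := d3_1 D25600 (iv6 D12174) D12172
theorem F40506 : act 3 n25600 = n16027 := d7_1 D25600 (iv6 D16027) (iv3 F20172)
def n25601 : Q := act 0 n12173
theorem D25601 : act 0 n12173 = n25601 := rfl
def n25602 : Q := act 1 n12173
theorem D25602 : act 1 n12173 = n25602 := rfl
def n25603 : Q := act 4 n12173
theorem D25603 : act 4 n12173 = n25603 := rfl
theorem F40507 : act 3 n25603 = n15945 := d5_1 D25603 (iv4 D15945) F11724 F8896 (iv3 F20173)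
def n25604 : Q := act 6 n12173
theorem D25604 : act 6 n12173 = n25604 := rfl
theorem F40508 : act 3 n25604 = n12175 := d7_1 D25604 (iv6 D12175) (iv3 F20173)
def n25605 : Q := act 0 n12174
theorem D25605 : act 0 n12174 = n25605 := rfl
def n25606 : Q := act 1 n12174
theorem D25606 : act 1 n12174 = n25606 := rfl
def n25607 : Q := act 5 n12174
theorem D25607 : act 5 n12174 = n25607 := rfl
theorem F40509 : act 3 n25607 = n12178 := d6_1 D25607 (iv5 D12178) (iv3 F20174)
def n25608 : Q := act 7 n12174
theorem D25608 : act 7 n12174 = n25608 := rfl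
theorem F40510 : act 3 n25608 = n12179 := d8_1 D25608 (iv7 D12179) (iv3 F20174)
theorem F40511 : act 6 n25608 = n25339 := d14_1 D25608 (iv7 D25339) F19914 F18063 D12174
def n25609 : Q := act 0 n12175
theorem D25609 : act 0 n12175 = n25609 := rfl
def n25610 : Q := act 1 n12175
theorem D25610 : act 1 n12175 = n25610 := rfl
def n25611 : Q := act 5 n12175
theorem D25611 : act 5 n12175 = n25611 := rfl
theorem F40512 : act 6 n25611 = n12178 := d12_2 D12175 D25611 (iv5 D12178) (iv6 D5772) D5771
def n25612 : Q := act 7 n12175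
theorem D25612 : act 7 n12175 = n25612 := rfl
def n25613 : Q := act 5 n12176
theorem D25613 : act 5 n12176 = n25613 := rfl
theorem F40513 : act 3 n25613 = n16894 := d6_1 D25613 (iv5 D16894) (iv3 F27055)
def n25614 : Q := act 3 n12177
theorem D25614 : act 3 n12177 = n25614 := rfl
theorem F40514 : act 4 n25614 = n25614 := d5_2 F22745 D25614 (iv3 D25614) (iv4 F22745) F20142
def n25615 : Q := act 5 n12177
theorem D25615 : act 5 n12177 = n25615 := rfl
def n25616 : Q := act 0 n12178
theorem D25616 : act 0 n12178 = n25616 := rfl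
theorem F40515 : act 5 n25616 = n25461 := d17_3 (iv1 D12177) D12178 D25616 F40256 (iv5 D15751) F12681 F5544 D7765 F22745
def n25617 : Q := act 1 n12178
theorem D25617 : act 1 n12178 = n25617 := rfl
theorem F40516 : act 5 n25617 = n25460 := d17_7 F12673 F12669 (iv1 D5774) F3809 (iv4 F8893) D12178 D25617 (iv0 D25460) F20023
def n25618 : Q := act 4 n12178
theorem D25618 : act 4 n12178 = n25618 := rfl
def n25619 : Q := act 7 n12178
theorem D25619 : act 7 n12178 = n25619 := rfl
theorem F40517 : act 5 n25619 = n12179 := d13_1 D25619 (iv7 D12179) D12178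
def n25620 : Q := act 3 n12180
theorem D25620 : act 3 n12180 = n25620 := rfl
theorem F40518 : act 2 n25620 = n16019 := d0_1 D25620 F25509 F26995 F25326 F22757
theorem F40519 : act 4 n25620 = n12577 := d5_2 D12180 D25620 (iv3 D12577) (iv4 D5977) (iv3 F12675)
theorem F40520 : act 6 n25620 = n12583 := d7_2 F40437 D25620 (iv3 F40436)
theorem F40521 : act 7 n25620 = n15882 := d8_2 (iv7 F20178) D25620 (iv3 D15882)
def n25621 : Q := act 5 n12180
theorem D25621 : act 5 n12180 = n25621 := rfl
theorem F40522 : act 7 n25621 = n15883 := d13_2 (iv7 F20178) D25621 (iv5 D15883)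
def n25622 : Q := act 3 n12181
theorem D25622 : act 3 n12181 = n25622 := rfl
theorem F40523 : act 4 n25622 = n12571 := d5_2 D12181 D25622 (iv3 D12571) F12656 (iv3 F12671)
theorem F40524 : act 7 n25622 = n15851 := d8_2 F22758 D25622 F25326
def n25623 : Q := act 5 n12181
theorem D25623 : act 5 n12181 = n25623 := rfl
theorem F40525 : act 2 n25623 = n15883 := d2_1 D25623 (iv5 D15883) (iv2 F20180)
def n25624 : Q := act 0 n12182
theorem D25624 : act 0 n12182 = n25624 := rfl
def n25625 : Q := act 1 n12182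
theorem D25625 : act 1 n12182 = n25625 := rfl
def n25626 : Q := act 5 n12182
theorem D25626 : act 5 n12182 = n25626 := rfl
theorem F40526 : act 6 n25626 = n12183 := d12_2 D12182 D25626 (iv5 D12183) (iv6 D5777) D5776
def n25627 : Q := act 7 n12182
theorem D25627 : act 7 n12182 = n25627 := rfl
theorem F40527 : act 4 n25627 = n25612 := d11_1 D25627 (iv7 D25612) (iv4 F20182)
def n25628 : Q := act 4 n12183
theorem D25628 : act 4 n12183 = n25628 := rfl
theorem F40528 : act 5 n25628 = n25359 := d16_3 (iv4 F8897) D12183 D25628 F40082 F19950 F8803 (iv5 F18182) (iv7 D11203) F7647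
theorem F40529 : act 7 n25358 = n25628 := d13_0 F40528 (iv7 D25359) D25358
def n25629 : Q := act 7 n12183
theorem D25629 : act 7 n12183 = n25629 := rfl
theorem F40530 : act 4 n25629 = n25358 := d11_1 D25629 F40529 (iv4 D25628)
theorem F40531 : act 5 n25629 = n12184 := d13_1 D25629 (iv7 D12184) D12183
theorem F40532 : act 1 n25330 = n25629 := d15_1 (iv0 F40011) (iv7 D25629) (iv2 F37045)
theorem F40533 : act 1 n25629 = n13811 := d15_1 F40532 (iv7 F23487) (iv2 F40009)
def n25630 : Q := act 2 n12185
theorem D25630 : act 2 n12185 = n25630 := rfl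
theorem F40534 : act 7 n12186 = n25630 := d15_2 (iv0 D12185) D12186 (iv2 D25630)
def n25631 : Q := act 3 n12185
theorem D25631 : act 3 n12185 = n25631 := rfl
theorem F40535 : act 4 n25631 = n23765 := d20_6 (iv4 D3571) (iv1 F3465) (iv4 F3811) D5778 D12185 D25631 (iv1 D23765) F18067 (iv3 D11128) F7570
def n25632 : Q := act 4 n12185
theorem D25632 : act 4 n12185 = n25632 := rfl
theorem F40536 : act 0 n23773 = n25632 := d20_10 (iv4 D25632) (iv1 F25391) (iv4 F37029) F37028 (iv1 F20168) D16039 F25577 (iv1 F26646) F26647 D23773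
def n25633 : Q := act 5 n12185
theorem D25633 : act 5 n12185 = n25633 := rfl
def n25634 : Q := act 6 n12185
theorem D25634 : act 6 n12185 = n25634 := rfl
def n25635 : Q := act 7 n12185
theorem D25635 : act 7 n12185 = n25635 := rfl
def n25636 : Q := act 3 n12186
theorem D25636 : act 3 n12186 = n25636 := rfl
def n25637 : Q := act 4 n12186
theorem D25637 : act 4 n12186 = n25637 := rfl
theorem F40538 : act 3 n25637 = n23764 := d20_3 F37029 (iv1 F25390) D25637 (iv1 F37037) (iv3 F21001) (iv4 D12616) (iv1 F9312) D7462 (iv3 F20171) (iv1 F37031)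
def n25638 : Q := act 5 n12186
theorem D25638 : act 5 n12186 = n25638 := rfl
def n25639 : Q := act 6 n12186
theorem D25639 : act 6 n12186 = n25639 := rfl
def n25640 : Q := act 5 n12187
theorem D25640 : act 5 n12187 = n25640 := rfl
theorem F40539 : act 2 n25640 = n12188 := d2_1 D25640 (iv5 D12188) D12187
def n25641 : Q := act 6 n12187
theorem D25641 : act 6 n12187 = n25641 := rfl
theorem F40540 : act 2 n25641 = n12189 := d3_1 D25641 (iv6 D12189) D12187
theorem F40541 : act 4 n25641 = n25600 := d10_1 D25641 (iv6 D25600) (iv4 F20186)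
def n25642 : Q := act 0 n12188
theorem D25642 : act 0 n12188 = n25642 := rfl
def n25643 : Q := act 1 n12188
theorem D25643 : act 1 n12188 = n25643 := rfl
def n25644 : Q := act 4 n12188
theorem D25644 : act 4 n12188 = n25644 := rfl
theorem F40542 : act 3 n25644 = n25588 := d5_1 D25644 (iv4 D25588) F20169 (iv4 F8899) (iv3 F20187)
def n25645 : Q := act 6 n12188
theorem D25645 : act 6 n12188 = n25645 := rfl
theorem F40543 : act 3 n25645 = n12190 := d7_1 D25645 (iv6 D12190) (iv3 F20187)
def n25646 : Q := act 0 n12189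
theorem D25646 : act 0 n12189 = n25646 := rfl
def n25647 : Q := act 1 n12189
theorem D25647 : act 1 n12189 = n25647 := rfl
def n25648 : Q := act 5 n12189
theorem D25648 : act 5 n12189 = n25648 := rfl
theorem F40544 : act 3 n25648 = n12191 := d6_1 D25648 (iv5 D12191) (iv3 F20188)
def n25649 : Q := act 7 n12189
theorem D25649 : act 7 n12189 = n25649 := rfl
theorem F40545 : act 3 n25649 = n12192 := d8_1 D25649 (iv7 D12192) (iv3 F20188)
theorem F40546 : act 4 n25649 = n25608 := d11_1 D25649 (iv7 D25608) (iv4 F20189)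
def n25650 : Q := act 0 n12190
theorem D25650 : act 0 n12190 = n25650 := rfl
def n25651 : Q := act 1 n12190
theorem D25651 : act 1 n12190 = n25651 := rfl
def n25652 : Q := act 5 n12190
theorem D25652 : act 5 n12190 = n25652 := rfl
theorem F40547 : act 6 n25652 = n12191 := d12_2 D12190 D25652 (iv5 D12191) (iv6 D5780) D5779
def n25653 : Q := act 7 n12190
theorem D25653 : act 7 n12190 = n25653 := rfl
theorem F40548 : act 4 n25653 = n25592 := d11_1 D25653 (iv7 D25592) (iv4 F20190)
def n25654 : Q := act 0 n12191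
theorem D25654 : act 0 n12191 = n25654 := rfl
theorem F40549 : act 5 n25654 = n25463 := d17_3 F20181 D12191 D25654 (iv4 D25463) (iv5 F20026) (iv0 D5773) F3809 D5774 D12181
def n25655 : Q := act 1 n12191
theorem D25655 : act 1 n12191 = n25655 := rfl
theorem F40550 : act 5 n25655 = n16944 := d17_7 F12663 F12661 (iv1 F12660) F7688 (iv4 F8900) D12191 D25655 (iv0 F27785) F22680
def n25656 : Q := act 4 n12191
theorem D25656 : act 4 n12191 = n25656 := rfl
def n25657 : Q := act 7 n12191
theorem D25657 : act 7 n12191 = n25657 := rfl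
theorem F40551 : act 5 n25657 = n12192 := d13_1 D25657 (iv7 D12192) D12191
def n25658 : Q := act 5 n12193
theorem D25658 : act 5 n12193 = n25658 := rfl
theorem F40552 : act 2 n25658 = n12211 := d2_1 D25658 F20207 F20193
theorem F40553 : act 7 n25658 = n12206 := d13_2 (iv7 F20195) D25658 (iv5 D12206)
theorem F40554 : act 1 n12208 = n25658 := d15_1 D12208 F40553 F20204
theorem F40555 : act 1 n25658 = n12207 := d15_0 (iv0 D12207) D12211 (iv2 F40552)
theorem F40556 : act 5 n12207 = n12761 := d17_7 D6044 F27027 (iv1 F9342) (iv5 F9330) (iv4 F20194) D25658 F40555 (iv0 D12761) F9391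
def n25659 : Q := act 6 n12193
theorem D25659 : act 6 n12193 = n25659 := rfl
theorem F40557 : act 2 n25659 = n12212 := d3_1 D25659 (iv6 D12212) F20193
theorem F40558 : act 4 n25659 = n12639 := d10_1 D25659 (iv6 D12639) (iv4 F20194)
theorem F40559 : act 7 n25659 = n16075 := d14_2 (iv7 F20195) D25659 F40340 F40338 F20057
def n25660 : Q := act 3 n12194
theorem D25660 : act 3 n12194 = n25660 := rfl
theorem F40560 : act 2 n25660 = n16003 := d0_1 D25660 (iv3 F37444) F37443 (iv3 D12195) D12194
theorem F40561 : act 4 n25660 = n13603 := d5_2 (iv4 F37263) D25660 (iv3 D13603) (iv4 D6477) D6476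
theorem F40562 : act 7 n25660 = n12200 := d8_2 F20197 D25660 (iv3 D12200)
theorem F40563 : act 0 n25660 = n12583 := d20_4 F25530 (iv1 D13596) (iv4 F37263) D25660 (iv3 F40436) (iv4 D25562) (iv1 F22848) (iv4 F26787) (iv3 D12675) (iv1 F21069)
theorem F40564 : act 0 n12588 = n25660 := d20_4 (iv4 D13620) D13617 F22796 F21012 (iv3 D25660) F37263 (iv1 F25469) (iv4 F21066) (iv3 F21067) F22797
def n25661 : Q := act 5 n12194
theorem D25661 : act 5 n12194 = n25661 := rfl
theorem F40565 : act 2 n25661 = n12197 := d2_1 D25661 (iv5 D12197) D12194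
theorem F40566 : act 7 n25661 = n12202 := d13_2 F20197 D25661 (iv5 D12202)
theorem F40567 : act 0 n25661 = n12764 := d17_2 (iv1 F37262) D25661 (iv5 D12764) F9391 D6047 (iv0 F27127) (iv5 D12644) (iv0 F26615) (iv4 F8901)
theorem F40568 : act 1 n12197 = n15243 := d15_0 (iv0 F26967) (iv7 F40566) F40565
def n25662 : Q := act 6 n12194
theorem D25662 : act 6 n12194 = n25662 := rfl
theorem F40569 : act 2 n25662 = n12198 := d3_1 D25662 (iv6 D12198) D12194
theorem F40570 : act 4 n25662 = n13599 := d10_1 D25662 (iv6 D13599) (iv4 F37263)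
def n25663 : Q := act 0 n12195
theorem D25663 : act 0 n12195 = n25663 := rfl
def n25664 : Q := act 1 n12195
theorem D25664 : act 1 n12195 = n25664 := rfl
theorem F40571 : act 3 n25632 = n25664 := d20_9 (iv4 F37442) (iv1 F37441) F18269 F18268 (iv1 F7694) D5770 (iv4 F8898) D12185 D25632 (iv1 D25664)
def n25665 : Q := act 5 n12195
theorem D25665 : act 5 n12195 = n25665 := rfl
theorem F40572 : act 3 n25665 = n12197 := d6_1 D25665 (iv5 D12197) D12195
def n25666 : Q := act 6 n12195
theorem D25666 : act 6 n12195 = n25666 := rfl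
theorem F40573 : act 3 n25666 = n12198 := d7_1 D25666 (iv6 D12198) D12195
def n25667 : Q := act 0 n12196
theorem D25667 : act 0 n12196 = n25667 := rfl
theorem F40574 : act 4 n25667 = n25596 := d20_2 D12196 D25667 (iv3 D25596) (iv1 D12171) (iv3 D5770) (iv4 D2415) (iv1 D1142) D1143 D2420 D5781
theorem F40575 : act 2 n12552 = n25667 := d15_3 (iv0 D25667) (iv0 F20198) (iv7 F25561)
theorem F40576 : act 3 n25667 = n15652 := d0_2 D12552 F40575 (iv2 D15652) (iv3 D7365) F25559
theorem F40577 : act 7 n25667 = n13596 := d4_2 (iv7 F25561) F40575 F25526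
theorem F40578 : act 1 n12201 = n25667 := d15_1 (iv0 F25291) F40577 F25526
def n25668 : Q := act 3 n12196
theorem D25668 : act 3 n12196 = n25668 := rfl
theorem F40579 : act 2 n25668 = n13591 := d0_1 D25668 (iv3 D13591) (iv2 D6475) D6476 (iv2 F37264)
theorem F40580 : act 4 n25668 = n15900 := d5_2 D12196 D25668 (iv3 F37438) F37442 (iv3 D12195)
theorem F40581 : act 0 n25668 = n12531 := d20_4 (iv4 F3812) D5781 D12196 D25668 (iv3 D12531) (iv4 F26431) F12085 F26419 (iv3 D6007) (iv1 D2531)
theorem F40582 : act 0 n13617 = n25668 := d20_4 D3439 (iv1 F11771) D16130 F25652 (iv3 D25668) (iv4 D12196) D12193 F20194 F9329 (iv1 F5419)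
theorem F40583 : act 7 n25668 = n13619 := d15_2 (iv0 F25452) (iv0 F40581) (iv2 D13619)
def n25669 : Q := act 5 n12196
theorem D25669 : act 5 n12196 = n25669 := rfl
theorem F40584 : act 2 n25669 = n13598 := d2_1 D25669 (iv5 D13598) (iv2 F37264)
theorem F40585 : act 1 n25669 = n15682 := d17_6 (iv1 D15241) D15243 (iv1 F40568) (iv5 D12197) D12196 D25669 (iv5 F27264) (iv0 F26876) F25982
theorem F40586 : act 4 n25669 = n16762 := d18_5 (iv1 D2531) (iv4 F3812) D5781 D12196 D25669 (iv0 D16762) F12381 F26961 (iv5 D6009)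
def n25670 : Q := act 6 n12196
theorem D25670 : act 6 n12196 = n25670 := rfl
theorem F40587 : act 2 n25670 = n13599 := d3_1 D25670 (iv6 D13599) (iv2 F37264)
theorem F40588 : act 4 n25670 = n12198 := d10_1 D25670 (iv6 D12198) D12196
def n25671 : Q := act 7 n12196
theorem D25671 : act 7 n12196 = n25671 := rfl
theorem F40589 : act 2 n25671 = n12201 := d4_1 D25671 F37250 (iv2 F37264)
theorem F40590 : act 3 n25671 = n13619 := d8_1 D25671 (iv7 F40583) (iv3 D25668)
theorem F40591 : act 4 n25671 = n12199 := d11_1 D25671 (iv7 D12199) D12196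
theorem F40592 : act 1 n13596 = n25671 := d15_1 D13596 (iv7 D25671) F37264
theorem F40593 : act 1 n25671 = n12552 := d15_1 F40592 F25561 (iv2 F25526)
def n25672 : Q := act 0 n12197
theorem D25672 : act 0 n12197 = n25672 := rfl
theorem F40594 : act 5 n25672 = n12763 := d17_3 D5781 D12197 D25672 F21195 (iv5 F26964) (iv0 D12659) (iv5 D6004) (iv0 D2530) (iv4 F3812)
theorem F40595 : act 2 n12764 = n25672 := d15_3 (iv0 D25672) F40568 F24841
def n25673 : Q := act 4 n12197
theorem D25673 : act 4 n12197 = n25673 := rfl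
def n25674 : Q := act 6 n12197
theorem D25674 : act 6 n12197 = n25674 := rfl
def n25675 : Q := act 7 n12197
theorem D25675 : act 7 n12197 = n25675 := rfl
theorem F40596 : act 2 n25675 = n12202 := d4_1 D25675 (iv7 F40566) F40565
theorem F40597 : act 5 n25675 = n12199 := d13_1 D25675 (iv7 D12199) D12197
theorem F40598 : act 1 n12202 = n25672 := d15_0 (iv0 D25672) D25675 F40596
theorem F40599 : act 1 n25675 = n12764 := d15_0 (iv0 F40567) F40566 (iv2 F40596)
def n25676 : Q := act 0 n12198
theorem D25676 : act 0 n12198 = n25676 := rfl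
def n25677 : Q := act 1 n12198
theorem D25677 : act 1 n12198 = n25677 := rfl
def n25678 : Q := act 5 n12198
theorem D25678 : act 5 n12198 = n25678 := rfl
def n25679 : Q := act 7 n12198
theorem D25679 : act 7 n12198 = n25679 := rfl
def n25680 : Q := act 6 n12199
theorem D25680 : act 6 n12199 = n25680 := rfl
theorem F40600 : act 2 n25680 = n12203 := d3_1 D25680 (iv6 D12203) (iv2 F20199)
def n25681 : Q := act 5 n12200
theorem D25681 : act 5 n12200 = n25681 := rfl
theorem F40601 : act 3 n25681 = n12202 := d6_1 D25681 (iv5 D12202) D12200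
def n25682 : Q := act 6 n12200
theorem D25682 : act 6 n12200 = n25682 := rfl
theorem F40602 : act 3 n25682 = n12203 := d7_1 D25682 (iv6 D12203) D12200
def n25683 : Q := act 5 n12201
theorem D25683 : act 5 n12201 = n25683 := rfl
theorem F40603 : act 3 n25683 = n13611 := d6_1 D25683 F22793 (iv3 F37249)
theorem F40604 : act 7 n25683 = n13598 := d13_2 (iv7 F37250) D25683 (iv5 D13598)
theorem F40605 : act 1 n15682 = n25683 := d15_1 F40585 F40604 (iv2 F40584)
theorem F40606 : act 4 n25683 = n16763 := d20_6 F4015 (iv1 F2773) (iv4 F5378) D7379 (iv1 F37252) (iv3 F40603) (iv1 D16763) F12381 (iv3 D3557) (iv1 F4017)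
def n25684 : Q := act 6 n12201
theorem D25684 : act 6 n12201 = n25684 := rfl
theorem F40607 : act 3 n25684 = n13616 := d7_1 D25684 (iv6 D13616) (iv3 F37249)
theorem F40608 : act 4 n25684 = n12203 := d10_1 D25684 (iv6 D12203) D12201
def n25685 : Q := act 4 n12202
theorem D25685 : act 4 n12202 = n25685 := rfl
def n25686 : Q := act 6 n12202
theorem D25686 : act 6 n12202 = n25686 := rfl
def n25687 : Q := act 0 n12203
theorem D25687 : act 0 n12203 = n25687 := rfl
def n25688 : Q := act 1 n12203
theorem D25688 : act 1 n12203 = n25688 := rfl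
def n25689 : Q := act 5 n12203
theorem D25689 : act 5 n12203 = n25689 := rfl
def n25690 : Q := act 7 n12203
theorem D25690 : act 7 n12203 = n25690 := rfl
def n25691 : Q := act 0 n12206
theorem D25691 : act 0 n12206 = n25691 := rfl
theorem F40609 : act 1 n12211 = n25691 := d15_0 (iv0 D25691) (iv7 F40553) F40552
theorem F40610 : act 5 n25691 = n15241 := d17_7 (iv1 F11550) F25987 (iv1 D3912) (iv5 F4032) (iv4 F8904) (iv5 F20207) F40609 F24838 F21195
def n25692 : Q := act 1 n12206
theorem D25692 : act 1 n12206 = n25692 := rfl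
theorem F40611 : act 1 n25692 = n12211 := d15_1 D25692 (iv7 D12211) (iv2 F20204)
theorem F40612 : act 5 n25692 = n15240 := d17_7 D7226 F25983 (iv1 F9341) (iv5 D6013) (iv4 F8901) D12206 D25692 (iv0 D15240) F11537
def n25693 : Q := act 4 n12206
theorem D25693 : act 4 n12206 = n25693 := rfl
theorem F40613 : act 2 n25693 = n12209 := d1_1 D25693 (iv4 D12209) (iv2 F20204)
theorem F40614 : act 5 n25693 = n18373 := d16_1 D25693 (iv4 D18373) (iv5 D8653) F5846 (iv5 F4032) (iv4 F8904) (iv5 F20207) (iv7 D12211) (iv2 F20204)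
def n25694 : Q := act 6 n12206
theorem D25694 : act 6 n12206 = n25694 := rfl
theorem F40615 : act 2 n25694 = n12210 := d3_1 D25694 (iv6 D12210) (iv2 F20204)
def n25695 : Q := act 2 n12207
theorem D25695 : act 2 n12207 = n25695 := rfl
theorem F40616 : act 7 n12208 = n25695 := d15_2 (iv0 D12207) D12208 (iv2 D25695)
def n25696 : Q := act 3 n12207
theorem D25696 : act 3 n12207 = n25696 := rfl
def n25697 : Q := act 4 n12207
theorem D25697 : act 4 n12207 = n25697 := rfl
def n25698 : Q := act 6 n12207
theorem D25698 : act 6 n12207 = n25698 := rfl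
def n25699 : Q := act 7 n12207
theorem D25699 : act 7 n12207 = n25699 := rfl
theorem F40617 : act 2 n25699 = n12208 := d4_1 D25699 F40616 (iv2 D25695)
def n25700 : Q := act 3 n12208
theorem D25700 : act 3 n12208 = n25700 := rfl
def n25701 : Q := act 4 n12208
theorem D25701 : act 4 n12208 = n25701 := rfl
def n25702 : Q := act 6 n12208
theorem D25702 : act 6 n12208 = n25702 := rfl
def n25703 : Q := act 0 n12209
theorem D25703 : act 0 n12209 = n25703 := rfl
def n25704 : Q := act 1 n12209
theorem D25704 : act 1 n12209 = n25704 := rfl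
theorem F40618 : act 4 n17396 = n25704 := d20_6 (iv4 F8877) F8878 (iv4 F12463) (iv3 F27671) F27673 (iv3 F28365) (iv1 D25704) (iv4 D12209) F8902 (iv1 F5617)
theorem F40619 : act 3 n25704 = n21561 := d5_1 F40618 F33935 (iv3 F28370) (iv4 D17403) (iv3 F28365)
theorem F40620 : act 5 n25704 = n21560 := d16_3 (iv4 F12918) D17396 F40618 F33931 F28721 (iv4 D12698) (iv5 F27027) F26773 F26642
def n25705 : Q := act 3 n12209
theorem D25705 : act 3 n12209 = n25705 := rfl
theorem F40621 : act 4 n25705 = n12215 := d5_2 D12209 D25705 (iv3 D12215) (iv4 D5787) (iv3 F8902)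
theorem F40622 : act 7 n23779 = n25705 := d11_0 F40621 F20213 D23779
def n25706 : Q := act 5 n12209
theorem D25706 : act 5 n12209 = n25706 := rfl
theorem F40623 : act 2 n25706 = n18373 := d2_1 D25706 (iv5 F40614) F40613
theorem F40624 : act 4 n25706 = n18369 := d16_2 D12209 D25706 (iv5 D18369) F13556 (iv5 F9330) (iv4 F20194) D25658 F40553 F20204
theorem F40625 : act 0 n17886 = n25706 := d19_0 (iv5 D25706) (iv4 D12209) F8902 (iv1 F5617) (iv5 D3580) (iv4 D1578) F1613 D855 F1614 (iv4 F1671) F1670 (iv1 F1673) (iv5 F966) (iv4 F1068) D883 D1652 D3778 D8437 D17886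
def n25707 : Q := act 6 n12209
theorem D25707 : act 6 n12209 = n25707 := rfl
theorem F40626 : act 4 n25707 = n12210 := d10_1 D25707 (iv6 D12210) D12209
def n25708 : Q := act 7 n12209
theorem D25708 : act 7 n12209 = n25708 := rfl
theorem F40627 : act 3 n25708 = n23779 := d8_1 D25708 F40622 (iv3 D25705)
theorem F40628 : act 4 n25708 = n12211 := d11_1 D25708 (iv7 D12211) D12209
def n25709 : Q := act 0 n12210
theorem D25709 : act 0 n12210 = n25709 := rfl
def n25710 : Q := act 1 n12210
theorem D25710 : act 1 n12210 = n25710 := rfl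
def n25711 : Q := act 7 n12210
theorem D25711 : act 7 n12210 = n25711 := rfl
theorem F40629 : act 3 n25711 = n12219 := d8_1 D25711 (iv7 D12219) (iv3 F20205)
def n25712 : Q := act 6 n12211
theorem D25712 : act 6 n12211 = n25712 := rfl
theorem F40630 : act 3 n25712 = n12220 := d7_1 D25712 (iv6 D12220) (iv3 F20206)
def n25713 : Q := act 0 n12212
theorem D25713 : act 0 n12212 = n25713 := rfl
theorem F40631 : act 1 n16075 = n25713 := d15_0 (iv0 D25713) (iv7 F40356) F40353
def n25714 : Q := act 1 n12212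
theorem D25714 : act 1 n12212 = n25714 := rfl
theorem F40632 : act 1 n25714 = n16075 := d15_1 D25714 (iv7 F40559) F40557
def n25715 : Q := act 5 n12212
theorem D25715 : act 5 n12212 = n25715 := rfl
theorem F40633 : act 3 n25715 = n12223 := d6_1 D25715 (iv5 D12223) (iv3 F20208)
def n25716 : Q := act 0 n12213
theorem D25716 : act 0 n12213 = n25716 := rfl
def n25717 : Q := act 1 n12213
theorem D25717 : act 1 n12213 = n25717 := rfl
def n25718 : Q := act 2 n12213
theorem D25718 : act 2 n12213 = n25718 := rfl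
theorem F40634 : act 5 n25718 = n23962 := d2_2 (iv5 F20210) D25718 (iv2 D23962)
def n25719 : Q := act 4 n12213
theorem D25719 : act 4 n12213 = n25719 := rfl
theorem F40635 : act 3 n25719 = n25551 := d5_1 D25719 (iv4 D25551) F20090 F8906 D12213
def n25720 : Q := act 6 n12213
theorem D25720 : act 6 n12213 = n25720 := rfl
theorem F40636 : act 3 n25720 = n12214 := d7_1 D25720 (iv6 D12214) D12213
def n25721 : Q := act 0 n12214
theorem D25721 : act 0 n12214 = n25721 := rfl
def n25722 : Q := act 1 n12214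
theorem D25722 : act 1 n12214 = n25722 := rfl
def n25723 : Q := act 5 n12214
theorem D25723 : act 5 n12214 = n25723 := rfl
theorem F40637 : act 6 n25723 = n23964 := d12_2 D12214 D25723 (iv5 D23964) (iv6 D11228) (iv5 F8905)
def n25724 : Q := act 7 n12214
theorem D25724 : act 7 n12214 = n25724 := rfl
theorem F40638 : act 4 n25724 = n25559 := d11_1 D25724 (iv7 D25559) (iv4 F20211)
def n25725 : Q := act 0 n12215
theorem D25725 : act 0 n12215 = n25725 := rfl
theorem F40639 : act 3 n25725 = n12922 := d20_5 F8906 (iv1 D5786) D5787 D12215 D25725 (iv4 F34024) (iv1 F37362) (iv4 D23935) F18210 (iv1 F8871)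
theorem F40640 : act 1 n23776 = n25725 := d15_0 (iv0 D25725) F20213 (iv2 F37053)
theorem F40641 : act 5 n25725 = n12920 := d17_7 D7920 F25996 (iv1 F18159) (iv5 D11193) (iv4 F18078) D23776 F40640 F26704 F12499
theorem F40642 : act 2 n23778 = n25725 := d2_3 F40641 (iv2 F26659) F37309
def n25726 : Q := act 1 n12215
theorem D25726 : act 1 n12215 = n25726 := rfl
theorem F40643 : act 7 n25726 = n23778 := d15_2 (iv0 D25725) D25726 F40642
theorem F40644 : act 5 n25726 = n16917 := d17_7 (iv1 F12540) (iv5 F30276) (iv1 D8898) F5922 (iv4 F12406) (iv5 F20212) D25726 (iv0 F27728) (iv4 D15313)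
theorem F40645 : act 2 n25726 = n23777 := d15_3 (iv0 D23777) D23778 (iv7 F40643)
theorem F40646 : act 5 n23777 = n15315 := d2_2 (iv5 F40644) F40645 (iv2 F27727)
theorem F40647 : act 7 n23777 = n25725 := d4_2 (iv7 F40643) F40645 (iv2 F40642)
theorem F40648 : act 1 n25726 = n23776 := d15_0 F40640 (iv7 F40647) (iv2 F40645)
def n25727 : Q := act 2 n12215
theorem D25727 : act 2 n12215 = n25727 := rfl
theorem F40649 : act 3 n25727 = n25658 := d0_2 D12215 D25727 F40552 F20206 F8911
theorem F40650 : act 5 n25727 = n16866 := d2_2 (iv5 F20212) D25727 (iv2 D16866)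
theorem F40651 : act 7 n25727 = n23776 := d4_2 (iv7 F20213) D25727 F37053
theorem F40652 : act 1 n25727 = n23777 := d15_0 (iv0 D23777) (iv7 F20213) D25727
theorem F40653 : act 1 n23778 = n25727 := d15_0 F40652 F40647 (iv2 F40642)
def n25728 : Q := act 6 n12215
theorem D25728 : act 6 n12215 = n25728 := rfl
theorem F40654 : act 3 n25728 = n12216 := d7_1 D25728 (iv6 D12216) D12215
def n25729 : Q := act 0 n12216
theorem D25729 : act 0 n12216 = n25729 := rfl
def n25730 : Q := act 1 n12216
theorem D25730 : act 1 n12216 = n25730 := rfl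
def n25731 : Q := act 5 n12216
theorem D25731 : act 5 n12216 = n25731 := rfl
theorem F40655 : act 6 n25731 = n16870 := d12_2 D12216 D25731 (iv5 D16870) (iv6 D7862) (iv5 F8907)
def n25732 : Q := act 7 n12216
theorem D25732 : act 7 n12216 = n25732 := rfl
theorem F40656 : act 4 n25732 = n12219 := d11_1 D25732 (iv7 D12219) (iv4 F20214)
theorem F40657 : act 6 n25732 = n23783 := d14_1 D25732 (iv7 D23783) (iv6 D11137) (iv7 F8910) D12216
def n25733 : Q := act 2 n12217
theorem D25733 : act 2 n12217 = n25733 := rfl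
theorem F40658 : act 7 n12218 = n25733 := d15_2 (iv0 D12217) D12218 (iv2 D25733)
def n25734 : Q := act 3 n12217
theorem D25734 : act 3 n12217 = n25734 := rfl
def n25735 : Q := act 4 n12217
theorem D25735 : act 4 n12217 = n25735 := rfl
def n25736 : Q := act 5 n12217
theorem D25736 : act 5 n12217 = n25736 := rfl
def n25737 : Q := act 6 n12217
theorem D25737 : act 6 n12217 = n25737 := rfl
def n25738 : Q := act 7 n12217
theorem D25738 : act 7 n12217 = n25738 := rfl
theorem F40659 : act 2 n25738 = n12218 := d4_1 D25738 F40658 (iv2 D25733)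
def n25739 : Q := act 3 n12218
theorem D25739 : act 3 n12218 = n25739 := rfl
def n25740 : Q := act 4 n12218
theorem D25740 : act 4 n12218 = n25740 := rfl
def n25741 : Q := act 5 n12218
theorem D25741 : act 5 n12218 = n25741 := rfl
def n25742 : Q := act 6 n12218
theorem D25742 : act 6 n12218 = n25742 := rfl
def n25743 : Q := act 6 n12219
theorem D25743 : act 6 n12219 = n25743 := rfl
theorem F40660 : act 2 n25743 = n25732 := d3_1 D25743 F40657 F37057
theorem F40661 : act 4 n25743 = n23783 := d10_1 D25743 (iv6 F40657) F40656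
theorem F40662 : act 7 n25743 = n12220 := d14_2 D12219 D25743 (iv6 D12220) (iv7 D5789) D5788
theorem F40663 : act 1 n25730 = n25743 := d15_1 D25730 F40662 F20215
theorem F40664 : act 1 n25743 = n25729 := d15_0 (iv0 D25729) D25732 (iv2 F40660)
def n25744 : Q := act 0 n12220
theorem D25744 : act 0 n12220 = n25744 := rfl
theorem F40665 : act 1 n25732 = n25744 := d15_0 (iv0 D25744) (iv7 F40662) F40660
def n25745 : Q := act 1 n12220
theorem D25745 : act 1 n12220 = n25745 := rfl
theorem F40666 : act 1 n25745 = n25732 := d15_1 D25745 (iv7 D25732) (iv2 F20215)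
def n25746 : Q := act 5 n12220
theorem D25746 : act 5 n12220 = n25746 := rfl
theorem F40667 : act 2 n25746 = n25731 := d2_1 D25746 (iv5 D25731) (iv2 F20215)
theorem F40668 : act 6 n25746 = n12223 := d12_2 D12220 D25746 (iv5 D12223) (iv6 D5790) (iv5 F8913)
def n25747 : Q := act 5 n12221
theorem D25747 : act 5 n12221 = n25747 := rfl
def n25748 : Q := act 3 n12222
theorem D25748 : act 3 n12222 = n25748 := rfl
def n25749 : Q := act 5 n12222
theorem D25749 : act 5 n12222 = n25749 := rfl
def n25750 : Q := act 6 n12222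
theorem D25750 : act 6 n12222 = n25750 := rfl
theorem F40669 : act 4 n25750 = n15461 := d10_1 D25750 (iv6 F27002) F20219
theorem F40670 : act 7 n25750 = n24008 := d14_2 (iv7 F27615) D25750 (iv6 D24008) (iv7 F18416) F27614
theorem F40671 : act 1 n15443 = n25750 := d15_1 (iv0 F37048) F40670 F37536
def n25751 : Q := act 0 n12223
theorem D25751 : act 0 n12223 = n25751 := rfl
def n25752 : Q := act 1 n12223
theorem D25752 : act 1 n12223 = n25752 := rfl
def n25753 : Q := act 4 n12223
theorem D25753 : act 4 n12223 = n25753 := rfl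
def n25754 : Q := act 3 n12224
theorem D25754 : act 3 n12224 = n25754 := rfl
theorem F40672 : act 4 n25754 = n12683 := d5_2 D12224 D25754 F26612 (iv4 F12025) F8916
theorem F40673 : act 6 n25754 = n24229 := d7_2 (iv6 F20220) D25754 (iv3 D24229)
theorem F40674 : act 7 n25754 = n12677 := d8_2 F22837 D25754 F26610
theorem F40675 : act 0 n16041 = n25754 := d20_7 F5310 (iv1 F4049) D6032 (iv3 F26507) F27208 (iv3 F25149) (iv4 F25579) F40672 F26612 (iv1 F9363)
def n25755 : Q := act 5 n12224
theorem D25755 : act 5 n12224 = n25755 := rfl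
def n25756 : Q := act 0 n12225
theorem D25756 : act 0 n12225 = n25756 := rfl
theorem F40676 : act 3 n25756 = n12860 := d20_5 (iv4 F20814) F23107 F23104 (iv3 F20222) D25756 (iv4 F24534) F24536 (iv4 D12760) F9381 F9384
theorem F40677 : act 5 n25756 = n12859 := d21_2 D12225 D25756 (iv6 D12859) (iv1 F10683) (iv6 D5087) (iv5 D2084) (iv1 F1920) (iv5 F2094) D2423 D5791
theorem F40678 : act 6 n25756 = n13586 := d21_5 F4727 F10111 (iv5 F10623) (iv6 F20223) D25756 (iv5 D13586) (iv1 F10544) F8894 F8895 (iv1 F10001)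
theorem F40679 : act 2 n16457 = n25756 := d15_3 (iv0 D25756) (iv0 F20224) (iv7 F25936)
theorem F40680 : act 1 n12227 = n25756 := d15_0 (iv0 D25756) (iv7 F22841) F22839
theorem F40681 : act 7 n25756 = n12859 := d15_2 F23476 F40680 F21333
def n25757 : Q := act 4 n12225
theorem D25757 : act 4 n12225 = n25757 := rfl
theorem F40682 : act 6 n25757 = n13805 := d10_2 (iv6 F20223) D25757 (iv4 D13805)
theorem F40683 : act 1 n25757 = n25561 := d18_6 (iv1 F12469) (iv4 F12465) F20221 (iv4 D12224) D12225 D25757 F40435 F27699 (iv5 D16889)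
def n25758 : Q := act 3 n12226
theorem D25758 : act 3 n12226 = n25758 := rfl
theorem F40684 : act 4 n25758 = n25748 := d5_2 D12226 D25758 (iv3 D25748) (iv4 F20219) (iv3 F18281)
theorem F40685 : act 6 n25758 = n23933 := d7_2 F26999 D25758 (iv3 D23933)
def n25759 : Q := act 5 n12226
theorem D25759 : act 5 n12226 = n25759 := rfl
def n25760 : Q := act 4 n12227
theorem D25760 : act 4 n12227 = n25760 := rfl
theorem F40686 : act 6 n25760 = n16958 := d10_2 (iv6 F20226) D25760 (iv4 D16958)
theorem F40687 : act 0 n25760 = n25561 := d20_1 D25760 F40435 F27697 F21173 F21170 D12756 F24537 F24534 (iv3 F40676) (iv1 F40680)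
def n25761 : Q := act 5 n12229
theorem D25761 : act 5 n12229 = n25761 := rfl
theorem F40688 : act 2 n25761 = n14335 := d2_1 D25761 (iv5 D14335) F22904
theorem F40689 : act 3 n25761 = n14152 := d6_1 D25761 (iv5 D14152) (iv3 F20233)
theorem F40690 : act 7 n25761 = n14165 := d13_2 F22919 D25761 (iv5 D14165)
def n25762 : Q := act 5 n12230
theorem D25762 : act 5 n12230 = n25762 := rfl
theorem F40691 : act 2 n25762 = n14165 := d2_1 D25762 (iv5 D14165) F22917
theorem F40692 : act 3 n25762 = n24085 := d6_1 D25762 (iv5 D24085) (iv3 F22523)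
theorem F40693 : act 7 n25762 = n14335 := d13_2 (iv7 F22905) D25762 (iv5 D14335)
def n25763 : Q := act 0 n12231
theorem D25763 : act 0 n12231 = n25763 := rfl
def n25764 : Q := act 4 n12231
theorem D25764 : act 4 n12231 = n25764 := rfl
theorem F40694 : act 2 n25764 = n14339 := d1_1 D25764 (iv4 D14339) (iv2 F20235)
theorem F40695 : act 6 n25764 = n14268 := d10_2 (iv6 F20237) D25764 (iv4 D14268)
theorem F40696 : act 0 n25764 = n14000 := d18_2 F40116 D25764 (iv4 D14000) (iv5 F19068) (iv4 F37833) F37837 (iv4 F38314) (iv0 F38315) D25370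
def n25765 : Q := act 7 n12231
theorem D25765 : act 7 n12231 = n25765 := rfl
theorem F40697 : act 2 n25765 = n14340 := d4_1 D25765 (iv7 D14340) (iv2 F20235)
theorem F40698 : act 3 n25765 = n12237 := d8_1 D25765 (iv7 D12237) (iv3 F20236)
theorem F40699 : act 5 n25765 = n12232 := d13_1 D25765 (iv7 D12232) D12231
theorem F40700 : act 1 n14340 = n25763 := d15_0 (iv0 D25763) D25765 F40697
theorem F40701 : act 1 n14177 = n25765 := d15_1 (iv0 F38384) (iv7 D25765) F20235
theorem F40702 : act 7 n25763 = n14177 := d15_2 (iv0 F40117) F40700 (iv2 F40114)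
theorem F40703 : act 3 n14154 = n25763 := d8_3 F40702 (iv3 D14177) (iv7 F23657)
theorem F40704 : act 2 n25763 = n14337 := d15_3 (iv0 D14337) (iv0 F38384) (iv7 F40702)
theorem F40705 : act 3 n14337 = n14287 := d0_2 F40703 F40704 (iv2 F23844) (iv3 D14174) (iv2 F23658)
theorem F40706 : act 7 n14337 = n25370 := d4_2 (iv7 F40702) F40704 F40114
theorem F40707 : act 5 n25371 = n14337 := d13_3 F40706 (iv5 D25370) D25371
theorem F40708 : act 1 n25765 = n14337 := d15_1 F40701 F40706 F40114
theorem F40709 : act 1 n25371 = n14054 := d17_8 F23496 (iv5 F22283) (iv1 F23912) F23910 (iv4 F20240) (iv5 F40699) F40708 (iv5 F40707) F23453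
def n25766 : Q := act 4 n12233
theorem D25766 : act 4 n12233 = n25766 := rfl
theorem F40710 : act 2 n25766 = n13814 := d1_1 D25766 (iv4 D13814) (iv2 F20244)
def n25767 : Q := act 6 n12233
theorem D25767 : act 6 n12233 = n25767 := rfl
theorem F40711 : act 2 n25767 = n13815 := d3_1 D25767 (iv6 D13815) (iv2 F20244)
theorem F40712 : act 3 n25767 = n14277 := d7_1 D25767 (iv6 D14277) (iv3 F22537)
theorem F40713 : act 5 n25767 = n25136 := d12_1 D25767 (iv6 D25136) F20246 (iv6 D12234) D12233
def n25768 : Q := act 4 n12235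
theorem D25768 : act 4 n12235 = n25768 := rfl
theorem F40714 : act 2 n25768 = n14186 := d1_1 D25768 (iv4 D14186) F20251
def n25769 : Q := act 6 n12235
theorem D25769 : act 6 n12235 = n25769 := rfl
theorem F40715 : act 2 n25769 = n14187 := d3_1 D25769 (iv6 D14187) F20251
theorem F40716 : act 3 n25769 = n14280 := d7_1 D25769 (iv6 D14280) (iv3 F22543)
def n25770 : Q := act 0 n12236
theorem D25770 : act 0 n12236 = n25770 := rfl
def n25771 : Q := act 1 n12236
theorem D25771 : act 1 n12236 = n25771 := rfl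
def n25772 : Q := act 3 n12236
theorem D25772 : act 3 n12236 = n25772 := rfl
theorem F40717 : act 6 n25772 = n14283 := d7_2 (iv6 F20252) D25772 (iv3 D14283)
def n25773 : Q := act 5 n12236
theorem D25773 : act 5 n12236 = n25773 := rfl
def n25774 : Q := act 7 n12236
theorem D25774 : act 7 n12236 = n25774 := rfl
theorem F40718 : act 4 n25774 = n12237 := d11_1 D25774 (iv7 D12237) D12236
def n25775 : Q := act 6 n12237
theorem D25775 : act 6 n12237 = n25775 := rfl
theorem F40719 : act 5 n25775 = n25775 := d12_1 D25775 (iv6 D25775) F20253 F8921 (iv5 F20253)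
theorem F40720 : act 7 n25775 = n14286 := d14_2 D12237 D25775 (iv6 D14286) (iv7 D6810) (iv6 F8920)
def n25776 : Q := act 4 n12238
theorem D25776 : act 4 n12238 = n25776 := rfl
theorem F40721 : act 2 n25776 = n14070 := d1_1 D25776 (iv4 D14070) (iv2 F20254)
theorem F40722 : act 7 n25776 = n25766 := d11_2 (iv7 F20255) D25776 (iv4 D25766)
def n25777 : Q := act 6 n12238
theorem D25777 : act 6 n12238 = n25777 := rfl
theorem F40723 : act 2 n25777 = n14071 := d3_1 D25777 (iv6 D14071) (iv2 F20254)
theorem F40724 : act 3 n25777 = n14292 := d7_1 D25777 (iv6 D14292) F22535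
theorem F40725 : act 0 n14443 = n25777 := d21_4 (iv5 F19593) F24096 F24095 (iv6 F24099) (iv6 D25777) (iv5 D12238) (iv1 D5799) D5800 F8925 (iv1 F22527)
def n25778 : Q := act 4 n12241
theorem D25778 : act 4 n12241 = n25778 := rfl
theorem F40726 : act 2 n25778 = n14249 := d1_1 D25778 (iv4 D14249) (iv2 F20259)
theorem F40727 : act 7 n25778 = n25768 := d11_2 F20260 D25778 (iv4 D25768)
def n25779 : Q := act 6 n12241
theorem D25779 : act 6 n12241 = n25779 := rfl
theorem F40728 : act 2 n25779 = n14250 := d3_1 D25779 (iv6 D14250) (iv2 F20259)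
theorem F40729 : act 3 n25779 = n14297 := d7_1 D25779 (iv6 D14297) F22531
theorem F40730 : act 5 n25779 = n24573 := d12_1 D25779 (iv6 D24573) (iv5 D11622) D11623 F20258
def n25780 : Q := act 0 n12242
theorem D25780 : act 0 n12242 = n25780 := rfl
def n25781 : Q := act 1 n12242
theorem D25781 : act 1 n12242 = n25781 := rfl
theorem F40731 : act 1 n25781 = n25774 := d15_1 D25781 (iv7 D25774) (iv2 F20263)
theorem F40732 : act 4 n13724 = n25781 := d20_6 F36901 (iv1 F37612) F37609 (iv3 F22863) (iv1 F22866) D13724 (iv1 D25781) (iv4 D12242) F8924 D11303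
theorem F40733 : act 4 n13727 = n14287 := d20_2 D6534 D13727 (iv3 F40705) (iv1 F40708) F40698 (iv4 F40718) (iv1 F40731) (iv4 F40732) (iv3 D13724) (iv1 D6533)
def n25782 : Q := act 3 n12242
theorem D25782 : act 3 n12242 = n25782 := rfl
theorem F40734 : act 4 n25782 = n24081 := d5_2 D12242 D25782 (iv3 D24081) (iv4 D11305) (iv3 F8924)
theorem F40735 : act 6 n25782 = n14300 := d7_2 (iv6 F20264) D25782 (iv3 D14300)
def n25783 : Q := act 5 n12242
theorem D25783 : act 5 n12242 = n25783 := rfl
theorem F40736 : act 2 n25783 = n25773 := d2_1 D25783 (iv5 D25773) (iv2 F20263)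
def n25784 : Q := act 7 n12242
theorem D25784 : act 7 n12242 = n25784 := rfl
theorem F40737 : act 2 n25784 = n25774 := d4_1 D25784 (iv7 D25774) (iv2 F20263)
theorem F40738 : act 4 n25784 = n12243 := d11_1 D25784 (iv7 D12243) D12242
theorem F40739 : act 1 n25774 = n25780 := d15_0 (iv0 D25780) D25784 F40737
theorem F40740 : act 1 n25771 = n25784 := d15_1 D25771 (iv7 D25784) F20263
theorem F40741 : act 1 n25784 = n25770 := d15_0 (iv0 D25770) D25774 (iv2 F40737)
def n25785 : Q := act 6 n12243
theorem D25785 : act 6 n12243 = n25785 := rfl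
theorem F40742 : act 2 n25785 = n25775 := d3_1 D25785 (iv6 D25775) (iv2 F20265)
theorem F40743 : act 3 n25785 = n24084 := d7_1 D25785 (iv6 D24084) (iv3 F20266)
theorem F40744 : act 5 n25785 = n25785 := d12_1 D25785 (iv6 D25785) F20267 F8929 (iv5 F20267)
theorem F40745 : act 7 n25785 = n14303 := d14_2 D12243 D25785 (iv6 D14303) (iv7 D6828) (iv6 F8925)
def n25786 : Q := act 4 n12244
theorem D25786 : act 4 n12244 = n25786 := rfl
theorem F40746 : act 2 n25786 = n12259 := d1_1 D25786 (iv4 D12259) (iv2 F20270)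
theorem F40747 : act 7 n25786 = n12253 := d11_2 (iv7 F20271) D25786 (iv4 D12253)
def n25787 : Q := act 6 n12244
theorem D25787 : act 6 n12244 = n25787 := rfl
theorem F40748 : act 2 n25787 = n12260 := d3_1 D25787 (iv6 D12260) (iv2 F20270)
theorem F40749 : act 5 n25787 = n24584 := d12_1 D25787 (iv6 D24584) (iv5 F20284) (iv6 D12245) D12244
theorem F40750 : act 0 n14641 = n25787 := d21_4 F26064 (iv1 F23859) D14392 (iv6 F24322) (iv6 D25787) (iv5 D12244) (iv1 D5803) D5804 (iv6 F11885) D16490
def n25788 : Q := act 4 n12246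
theorem D25788 : act 4 n12246 = n25788 := rfl
theorem F40751 : act 2 n25788 = n12266 := d1_1 D25788 (iv4 D12266) (iv2 F20292)
theorem F40752 : act 7 n25788 = n12264 := d11_2 (iv7 F20290) D25788 (iv4 D12264)
def n25789 : Q := act 6 n12246
theorem D25789 : act 6 n12246 = n25789 := rfl
theorem F40753 : act 2 n25789 = n12267 := d3_1 D25789 (iv6 D12267) (iv2 F20292)
theorem F40754 : act 5 n25789 = n14346 := d12_1 D25789 (iv6 D14346) (iv5 D6852) D6853 F20291
def n25790 : Q := act 0 n12247
theorem D25790 : act 0 n12247 = n25790 := rfl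
def n25791 : Q := act 1 n12247
theorem D25791 : act 1 n12247 = n25791 := rfl
theorem F40755 : act 1 n25791 = n12272 := d15_1 D25791 (iv7 D12272) (iv2 F20293)
theorem F40756 : act 4 n25791 = n24882 := d20_2 (iv4 F20332) (iv1 F40755) (iv3 D24882) (iv1 D11800) F8442 D5539 (iv1 F18538) (iv4 D11355) D11354 F18539
theorem F40757 : act 1 n24882 = n25250 := d18_8 (iv1 F19817) (iv4 F19174) (iv1 F18952) F8811 D5804 D12247 D25791 F40756 (iv5 D25250)
theorem F40758 : act 1 n24239 = n24882 := d15_0 F40757 F39808 (iv2 F38000)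
def n25792 : Q := act 3 n12247
theorem D25792 : act 3 n12247 = n25792 := rfl
theorem F40759 : act 4 n25792 = n14328 := d5_2 D12247 D25792 (iv3 D14328) (iv4 D6842) (iv3 F8935)
def n25793 : Q := act 5 n12247
theorem D25793 : act 5 n12247 = n25793 := rfl
theorem F40760 : act 2 n25793 = n12271 := d2_1 D25793 (iv5 D12271) (iv2 F20293)
def n25794 : Q := act 7 n12247
theorem D25794 : act 7 n12247 = n25794 := rfl
theorem F40761 : act 2 n25794 = n12272 := d4_1 D25794 (iv7 D12272) (iv2 F20293)
theorem F40762 : act 4 n25794 = n12248 := d11_1 D25794 (iv7 D12248) D12247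
theorem F40763 : act 1 n12272 = n25790 := d15_0 (iv0 D25790) D25794 F40761
theorem F40764 : act 1 n12269 = n25794 := d15_1 D12269 (iv7 D25794) F20293
theorem F40765 : act 4 n25790 = n13493 := d18_7 F19392 (iv4 F18861) F18864 F8816 (iv5 F8945) (iv4 F20332) F40763 F39930 (iv5 D24239)
theorem F40766 : act 1 n25794 = n12268 := d15_0 (iv0 D12268) D12272 (iv2 F40761)
def n25795 : Q := act 6 n12248
theorem D25795 : act 6 n12248 = n25795 := rfl
theorem F40767 : act 2 n25795 = n12273 := d3_1 D25795 (iv6 D12273) (iv2 F20294)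
theorem F40768 : act 3 n25795 = n14331 := d7_1 D25795 (iv6 D14331) (iv3 F20295)
theorem F40769 : act 5 n25795 = n25795 := d12_1 D25795 (iv6 D25795) F20296 F8938 (iv5 F20296)
def n25796 : Q := act 4 n12249
theorem D25796 : act 4 n12249 = n25796 := rfl
theorem F40770 : act 2 n25796 = n24578 := d1_1 D25796 (iv4 D24578) (iv2 F20299)
theorem F40771 : act 0 n25796 = n25273 := d20_7 D5884 (iv1 F20358) (iv4 D12281) F20315 (iv1 D12252) (iv3 F20300) D25796 (iv4 D25273) F19834 F8712
def n25797 : Q := act 6 n12249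
theorem D25797 : act 6 n12249 = n25797 := rfl
theorem F40772 : act 2 n25797 = n24579 := d3_1 D25797 (iv6 D24579) (iv2 F20299)
theorem F40773 : act 3 n25797 = n12254 := d7_1 D25797 (iv6 D12254) (iv3 F20300)
def n25798 : Q := act 1 n12250
theorem D25798 : act 1 n12250 = n25798 := rfl
theorem F40774 : act 1 n25798 = n24582 := d15_1 D25798 (iv7 D24582) (iv2 F20301)
theorem F40775 : act 7 n25798 = n24580 := d15_2 (iv0 F39700) D25798 (iv2 F38585)
theorem F40776 : act 6 n24158 = n25798 := d21_3 D5712 D12055 (iv5 F38409) (iv1 D25798) (iv6 D12250) D12249 (iv1 F37866) F37867 (iv6 D11595) F18906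
theorem F40777 : act 2 n14555 = n25798 := d4_3 F40775 (iv2 F38585) (iv7 F24208)
def n25799 : Q := act 7 n12250
theorem D25799 : act 7 n12250 = n25799 := rfl
theorem F40778 : act 2 n25799 = n24582 := d4_1 D25799 (iv7 D24582) (iv2 F20301)
theorem F40779 : act 3 n25799 = n12258 := d8_1 D25799 (iv7 D12258) (iv3 F20302)
theorem F40780 : act 4 n25799 = n24575 := d11_1 D25799 (iv7 D24575) (iv4 F20303)
theorem F40781 : act 5 n25799 = n14349 := d13_1 D25799 F38318 (iv5 F38316)
theorem F40782 : act 1 n14555 = n25799 := d15_1 F38587 (iv7 D25799) F20301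
theorem F40783 : act 1 n25799 = n24580 := d15_1 F40782 (iv7 F40775) (iv2 F40777)
def n25800 : Q := act 4 n12251
theorem D25800 : act 4 n12251 = n25800 := rfl
theorem F40784 : act 2 n25800 = n14559 := d1_1 D25800 (iv4 D14559) F20311
def n25801 : Q := act 6 n12251
theorem D25801 : act 6 n12251 = n25801 := rfl
theorem F40785 : act 2 n25801 = n14560 := d3_1 D25801 (iv6 D14560) F20311
theorem F40786 : act 3 n25801 = n14380 := d7_1 D25801 (iv6 D14380) F22551
theorem F40787 : act 5 n25801 = n25085 := d12_1 D25801 (iv6 D25085) (iv5 D11915) D11916 (iv5 F20304)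
def n25802 : Q := act 4 n12252
theorem D25802 : act 4 n12252 = n25802 := rfl
theorem F40788 : act 7 n25802 = n14559 := d11_2 (iv7 F20313) D25802 (iv4 D14559)
def n25803 : Q := act 6 n12252
theorem D25803 : act 6 n12252 = n25803 := rfl
theorem F40789 : act 3 n25803 = n12282 := d7_1 D25803 (iv6 D12282) F20315
theorem F40790 : act 5 n25803 = n14187 := d12_1 D25803 (iv6 D14187) (iv5 F18977) (iv6 F19658) (iv5 F20314)
def n25804 : Q := act 0 n12253
theorem D25804 : act 0 n12253 = n25804 := rfl
theorem F40791 : act 1 n12259 = n25804 := d15_0 (iv0 D25804) (iv7 F40747) F40746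
def n25805 : Q := act 1 n12253
theorem D25805 : act 1 n12253 = n25805 := rfl
theorem F40792 : act 1 n25805 = n12259 := d15_1 D25805 (iv7 F37822) F37821
def n25806 : Q := act 3 n12253
theorem D25806 : act 3 n12253 = n25806 := rfl
def n25807 : Q := act 5 n12253
theorem D25807 : act 5 n12253 = n25807 := rfl
theorem F40793 : act 4 n25807 = n25265 := d16_2 D12253 D25807 (iv5 D25265) (iv4 D11994) (iv5 D5662) F10128 D5814 (iv7 F18504) F18502
def n25808 : Q := act 6 n12253
theorem D25808 : act 6 n12253 = n25808 := rfl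
theorem F40794 : act 4 n25808 = n12254 := d10_1 D25808 (iv6 D12254) D12253
def n25809 : Q := act 0 n12254
theorem D25809 : act 0 n12254 = n25809 := rfl
def n25810 : Q := act 1 n12254
theorem D25810 : act 1 n12254 = n25810 := rfl
def n25811 : Q := act 5 n12254
theorem D25811 : act 5 n12254 = n25811 := rfl
theorem F40795 : act 2 n25811 = n14353 := d2_1 D25811 (iv5 F37825) F37823
theorem F40796 : act 6 n25811 = n12257 := d12_2 D12254 D25811 (iv5 D12257) (iv6 D5810) D5809
def n25812 : Q := act 7 n12254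
theorem D25812 : act 7 n12254 = n25812 := rfl
def n25813 : Q := act 4 n12257
theorem D25813 : act 4 n12257 = n25813 := rfl
theorem F40797 : act 2 n25813 = n14352 := d1_1 D25813 (iv4 D14352) (iv2 F20321)
theorem F40798 : act 7 n25813 = n14350 := d11_2 (iv7 F22284) D25813 (iv4 D14350)
def n25814 : Q := act 3 n12259
theorem D25814 : act 3 n12259 = n25814 := rfl
theorem F40799 : act 4 n25814 = n25240 := d5_2 D12259 D25814 (iv3 D25240) (iv4 D11982) (iv3 F10132)
def n25815 : Q := act 5 n12259
theorem D25815 : act 5 n12259 = n25815 := rfl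
def n25816 : Q := act 6 n12259
theorem D25816 : act 6 n12259 = n25816 := rfl
theorem F40800 : act 4 n25816 = n12260 := d10_1 D25816 (iv6 D12260) D12259
def n25817 : Q := act 0 n12260
theorem D25817 : act 0 n12260 = n25817 := rfl
def n25818 : Q := act 1 n12260
theorem D25818 : act 1 n12260 = n25818 := rfl
theorem F40801 : act 5 n25109 = n25818 := d21_6 (iv5 D5592) (iv1 F10117) D6844 (iv6 F11871) F22441 D25109 (iv1 D25818) (iv5 F39428) (iv6 D25091) (iv1 D11918)
theorem F40802 : act 2 n25818 = n14641 := d2_1 F40801 F24321 (iv2 F39467)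
theorem F40803 : act 3 n25818 = n14414 := d6_1 F40801 (iv5 F38647) (iv3 F39468)
def n25819 : Q := act 7 n12260
theorem D25819 : act 7 n12260 = n25819 := rfl
theorem F40804 : act 3 n25819 = n25245 := d8_1 D25819 (iv7 D25245) (iv3 F20324)
theorem F40805 : act 1 n14641 = n25819 := d15_1 (iv0 F40750) (iv7 D25819) (iv2 F40748)
def n25820 : Q := act 4 n12263
theorem D25820 : act 4 n12263 = n25820 := rfl
theorem F40806 : act 2 n25820 = n23811 := d1_1 D25820 F37502 F37499
theorem F40807 : act 7 n25820 = n23812 := d11_2 F37890 D25820 (iv4 F37893)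
theorem F40808 : act 0 n25820 = n23815 := d18_2 (iv1 F37503) D25820 F37130 F18116 F10120 F8531 (iv4 F10122) (iv0 F19407) D14334
theorem F40809 : act 1 n25820 = n23791 := d18_6 (iv1 F37081) (iv4 F20283) (iv1 F22287) (iv4 F39439) F39440 D25820 (iv4 D23791) D23790 (iv5 F37078)
def n25821 : Q := act 6 n12263
theorem D25821 : act 6 n12263 = n25821 := rfl
theorem F40810 : act 3 n25821 = n12265 := d7_1 D25821 (iv6 D12265) D12263
def n25822 : Q := act 0 n12264
theorem D25822 : act 0 n12264 = n25822 := rfl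
theorem F40811 : act 4 n25822 = n25250 := d18_3 D5816 D12264 D25822 (iv5 D25250) (iv4 D11988) F8702 F10124 (iv0 D2428) D2430
theorem F40812 : act 1 n12266 = n25822 := d15_0 (iv0 D25822) (iv7 F40752) F40751
def n25823 : Q := act 1 n12264
theorem D25823 : act 1 n12264 = n25823 := rfl
theorem F40813 : act 1 n25823 = n12266 := d15_1 D25823 (iv7 F37882) F37881
theorem F40814 : act 4 n24239 = n25823 := d18_5 (iv1 F8940) (iv4 F10128) F19387 (iv4 F18641) D24239 F40813 (iv4 D12266) F20297 F20296
def n25824 : Q := act 3 n12264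
theorem D25824 : act 3 n12264 = n25824 := rfl
def n25825 : Q := act 5 n12264
theorem D25825 : act 5 n12264 = n25825 := rfl
def n25826 : Q := act 6 n12264
theorem D25826 : act 6 n12264 = n25826 := rfl
theorem F40815 : act 4 n25826 = n12265 := d10_1 D25826 (iv6 D12265) D12264
def n25827 : Q := act 0 n12265
theorem D25827 : act 0 n12265 = n25827 := rfl
def n25828 : Q := act 1 n12265
theorem D25828 : act 1 n12265 = n25828 := rfl
def n25829 : Q := act 5 n12265
theorem D25829 : act 5 n12265 = n25829 := rfl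
theorem F40816 : act 6 n25829 = n14068 := d12_2 D12265 D25829 (iv5 F38564) (iv6 F38562) (iv5 F19655)
theorem F40817 : act 0 n25829 = n14292 := d21_4 (iv5 F18977) (iv1 F38559) F38564 (iv6 F40816) (iv6 D14292) (iv5 D6823) (iv1 D3081) D3082 (iv6 F8925) (iv1 F20262)
def n25830 : Q := act 7 n12265
theorem D25830 : act 7 n12265 = n25830 := rfl
def n25831 : Q := act 3 n12266
theorem D25831 : act 3 n12266 = n25831 := rfl
def n25832 : Q := act 5 n12266
theorem D25832 : act 5 n12266 = n25832 := rfl
def n25833 : Q := act 6 n12266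
theorem D25833 : act 6 n12266 = n25833 := rfl
theorem F40818 : act 4 n25833 = n12267 := d10_1 D25833 (iv6 D12267) D12266
def n25834 : Q := act 0 n12267
theorem D25834 : act 0 n12267 = n25834 := rfl
def n25835 : Q := act 1 n12267
theorem D25835 : act 1 n12267 = n25835 := rfl
def n25836 : Q := act 5 n12267
theorem D25836 : act 5 n12267 = n25836 := rfl
theorem F40819 : act 2 n25836 = n14346 := d2_1 D25836 (iv5 F40754) F40753
theorem F40820 : act 3 n25836 = n25301 := d6_1 D25836 F39958 F37517
theorem F40821 : act 6 n25836 = n13970 := d12_2 D12267 D25836 (iv5 D13970) (iv6 F19646) F19651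
def n25837 : Q := act 7 n12267
theorem D25837 : act 7 n12267 = n25837 := rfl
def n25838 : Q := act 2 n12268
theorem D25838 : act 2 n12268 = n25838 := rfl
theorem F40822 : act 7 n12269 = n25838 := d15_2 (iv0 D12268) D12269 (iv2 D25838)
def n25839 : Q := act 3 n12268
theorem D25839 : act 3 n12268 = n25839 := rfl
def n25840 : Q := act 4 n12268
theorem D25840 : act 4 n12268 = n25840 := rfl
theorem F40823 : act 1 n25840 = n13690 := d18_8 F19972 (iv4 D12052) (iv1 F18911) (iv4 F18905) (iv5 F20296) (iv4 F40762) F40766 D25840 (iv5 D13690)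
theorem F40824 : act 3 n25840 = n24860 := d20_3 D5818 D12268 D25840 (iv1 F38952) F19179 (iv4 F19216) (iv1 F37515) (iv4 D23996) (iv3 F19652) (iv1 D5817)
theorem F40825 : act 2 n13493 = n25840 := d0_5 F40824 F38955 (iv3 F38957) F22932 D13493
theorem F40826 : act 7 n24882 = n25840 := d8_0 F40824 F38954 D24882
theorem F40827 : act 7 n12268 = n25791 := d11_2 F40826 (iv4 D25840) F40756
theorem F40828 : act 2 n25791 = n12269 := d4_1 F40827 F40822 (iv2 D25838)
theorem E4779 : n25838 = n25790 := (c15_4 (iv0 D25790) D25791 (iv7 F40827) D25838)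
theorem F40829 : act 2 n25790 = n12268 := (sb E4779 (iv2 D25838))
theorem F40830 : act 7 n25790 = n12269 := (sb E4779 (iv7 F40822))
theorem F40831 : act 1 n24746 = n25840 := d15_0 F40823 (iv7 F39808) F39806
def n25841 : Q := act 5 n12268
theorem D25841 : act 5 n12268 = n25841 := rfl
def n25842 : Q := act 6 n12268
theorem D25842 : act 6 n12268 = n25842 := rfl
def n25843 : Q := act 3 n12269
theorem D25843 : act 3 n12269 = n25843 := rfl
def n25844 : Q := act 4 n12269
theorem D25844 : act 4 n12269 = n25844 := rfl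
theorem F40832 : act 2 n25844 = n24882 := d1_1 D25844 (iv4 F40756) F40828
theorem F40833 : act 7 n25844 = n13493 := d11_2 F40830 D25844 (iv4 F40765)
theorem F40834 : act 1 n25844 = n24746 := d18_8 F19058 (iv4 D11593) F18906 F3787 D2430 D5818 D12269 D25844 (iv5 D24746)
theorem F40835 : act 3 n25844 = n13472 := d20_3 (iv4 F40762) (iv1 F40764) D25844 (iv1 D13472) (iv3 F18098) D23791 (iv1 F40809) (iv4 D25820) (iv3 D12263) (iv1 F20298)
theorem F40836 : act 5 n24333 = n25844 := d6_0 F40835 (iv5 F22605) (iv3 F38132)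
theorem F40837 : act 0 n25844 = n13690 := d17_2 F38805 F40836 (iv5 D13690) F10579 D11404 F22248 F22246 F19858 D24797
def n25845 : Q := act 5 n12269
theorem D25845 : act 5 n12269 = n25845 := rfl
def n25846 : Q := act 6 n12269
theorem D25846 : act 6 n12269 = n25846 := rfl
def n25847 : Q := act 0 n12270
theorem D25847 : act 0 n12270 = n25847 := rfl
def n25848 : Q := act 1 n12270
theorem D25848 : act 1 n12270 = n25848 := rfl
def n25849 : Q := act 2 n12270
theorem D25849 : act 2 n12270 = n25849 := rfl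
theorem F40838 : act 4 n25849 = n12326 := d1_2 (iv4 F20331) D25849 (iv2 D12326)
def n25850 : Q := act 5 n12270
theorem D25850 : act 5 n12270 = n25850 := rfl
theorem F40839 : act 3 n25850 = n12271 := d6_1 D25850 (iv5 D12271) D12270
def n25851 : Q := act 7 n12270
theorem D25851 : act 7 n12270 = n25851 := rfl
theorem F40840 : act 3 n25851 = n12272 := d8_1 D25851 (iv7 D12272) D12270
theorem F40841 : act 4 n25851 = n12328 := d11_1 D25851 (iv7 D12328) (iv4 F20331)
def n25852 : Q := act 0 n12271
theorem D25852 : act 0 n12271 = n25852 := rfl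
def n25853 : Q := act 1 n12271
theorem D25853 : act 1 n12271 = n25853 := rfl
def n25854 : Q := act 4 n12271
theorem D25854 : act 4 n12271 = n25854 := rfl
def n25855 : Q := act 6 n12271
theorem D25855 : act 6 n12271 = n25855 := rfl
def n25856 : Q := act 7 n12271
theorem D25856 : act 7 n12271 = n25856 := rfl
theorem F40842 : act 5 n25856 = n12272 := d13_1 D25856 (iv7 D12272) D12271
def n25857 : Q := act 6 n12272
theorem D25857 : act 6 n12272 = n25857 := rfl
theorem F40843 : act 4 n25857 = n12273 := d10_1 D25857 (iv6 D12273) (iv4 F20332)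
def n25858 : Q := act 0 n12273
theorem D25858 : act 0 n12273 = n25858 := rfl
def n25859 : Q := act 1 n12273
theorem D25859 : act 1 n12273 = n25859 := rfl
def n25860 : Q := act 4 n12274
theorem D25860 : act 4 n12274 = n25860 := rfl
theorem F40844 : act 2 n25860 = n14615 := d1_1 D25860 (iv4 D14615) F20337
theorem F40845 : act 7 n25860 = n14612 := d11_2 F20339 D25860 (iv4 D14612)
theorem F40846 : act 1 n14615 = n24482 := d15_0 F38438 (iv7 F40845) F40844
def n25861 : Q := act 6 n12274
theorem D25861 : act 6 n12274 = n25861 := rfl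
theorem F40847 : act 2 n25861 = n14616 := d3_1 D25861 (iv6 D14616) F20337
theorem F40848 : act 3 n25861 = n25239 := d7_1 D25861 (iv6 D25239) F20338
theorem F40849 : act 5 n25861 = n24958 := d12_1 D25861 (iv6 D24958) (iv5 D11851) D11852 (iv5 F20335)
def n25862 : Q := act 4 n12275
theorem D25862 : act 4 n12275 = n25862 := rfl
theorem F40850 : act 2 n25862 = n14612 := d1_1 D25862 (iv4 D14612) F20343
theorem F40851 : act 7 n25862 = n14615 := d11_2 (iv7 F20342) D25862 (iv4 D14615)
def n25863 : Q := act 6 n12275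
theorem D25863 : act 6 n12275 = n25863 := rfl
theorem F40852 : act 2 n25863 = n14614 := d3_1 D25863 (iv6 D14614) F20343
theorem F40853 : act 0 n25863 = n14494 := d21_4 D24102 (iv1 F37765) F20344 D25863 (iv6 D14494) (iv5 D6923) F19449 D5372 F8193 D11318
def n25864 : Q := act 0 n12276
theorem D25864 : act 0 n12276 = n25864 := rfl
theorem F40854 : act 1 n14598 = n25864 := d15_0 (iv0 D25864) F20345 (iv2 F24256)
theorem F40855 : act 4 n25864 = n24480 := d18_7 D11575 (iv4 F19101) (iv1 F19103) (iv4 D6974) D6975 D14598 F40854 (iv0 D24480) (iv5 D11577)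
def n25865 : Q := act 1 n12276
theorem D25865 : act 1 n12276 = n25865 := rfl
theorem F40856 : act 1 n25865 = n14598 := d15_1 D25865 (iv7 F37746) F37745
theorem F40857 : act 4 n25865 = n24481 := d18_7 (iv1 F19399) (iv4 F11025) (iv1 F19396) F8825 D5823 D12276 D25865 F38437 (iv5 D11597)
theorem F40858 : act 3 n12358 = n24481 := d20_5 D11670 F19009 (iv4 D5884) (iv3 F9093) D12358 (iv4 F40857) (iv1 D25865) (iv4 D12276) F8952 (iv1 F8233)
theorem F40859 : act 7 n24481 = n14785 := d8_2 (iv7 F22182) F40858 (iv3 D14785)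
theorem F40860 : act 7 n14618 = n25865 := d11_2 F40859 F24442 F40857
theorem F40861 : act 2 n14785 = n24480 := d15_3 (iv0 D24480) D24481 F40859
theorem F40862 : act 2 n25864 = n14618 := d1_3 (iv4 F24442) F40861 (iv4 F40855)
theorem F40863 : act 7 n14617 = n25864 := d15_2 F37747 F37748 F40862
theorem F40864 : act 2 n14617 = n25865 := d4_3 (iv7 F40860) (iv2 F40862) (iv7 F40863)
def n25866 : Q := act 3 n12276
theorem D25866 : act 3 n12276 = n25866 := rfl
theorem F40865 : act 4 n25866 = n12283 := d5_2 D12276 D25866 (iv3 D12283) (iv4 D5826) (iv3 F8952)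
theorem F40866 : act 7 n25866 = n14619 := d8_2 (iv7 F20345) D25866 (iv3 D14619)
def n25867 : Q := act 5 n12276
theorem D25867 : act 5 n12276 = n25867 := rfl
theorem F40867 : act 7 n25867 = n14620 := d13_2 (iv7 F20345) D25867 (iv5 D14620)
def n25868 : Q := act 6 n12276
theorem D25868 : act 6 n12276 = n25868 := rfl
theorem F40868 : act 4 n25868 = n12277 := d10_1 D25868 (iv6 D12277) D12276
def n25869 : Q := act 0 n12277
theorem D25869 : act 0 n12277 = n25869 := rfl
def n25870 : Q := act 1 n12277
theorem D25870 : act 1 n12277 = n25870 := rfl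
def n25871 : Q := act 7 n12277
theorem D25871 : act 7 n12277 = n25871 := rfl
theorem F40869 : act 3 n25871 = n12288 := d8_1 D25871 (iv7 D12288) (iv3 F20346)
theorem F40870 : act 6 n25871 = n14625 := d14_1 D25871 (iv7 D14625) (iv6 D6984) (iv7 F8953) D12277
def n25872 : Q := act 3 n12281
theorem D25872 : act 3 n12281 = n25872 := rfl
theorem F40871 : act 7 n25872 = n14561 := d8_2 (iv7 F20356) D25872 (iv3 D14561)
def n25873 : Q := act 6 n12281
theorem D25873 : act 6 n12281 = n25873 := rfl
theorem F40872 : act 2 n25873 = n14569 := d3_1 D25873 (iv6 D14569) (iv2 F20355)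
theorem F40873 : act 4 n25873 = n12282 := d10_1 D25873 (iv6 D12282) D12281
theorem F40874 : act 0 n25873 = n24369 := d21_4 D7021 D14719 F24379 D25873 (iv6 D24369) (iv5 F26543) F26540 (iv5 D6936) F4846 D3172
def n25874 : Q := act 0 n12283
theorem D25874 : act 0 n12283 = n25874 := rfl
theorem F40875 : act 1 n14630 = n25874 := d15_0 (iv0 D25874) F20362 D14630
def n25875 : Q := act 1 n12283
theorem D25875 : act 1 n12283 = n25875 := rfl
def n25876 : Q := act 2 n12283
theorem D25876 : act 2 n12283 = n25876 := rfl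
theorem F40876 : act 3 n25876 = n14578 := d0_2 D12283 D25876 (iv2 D14578) (iv3 D6965) (iv2 F8959)
theorem F40877 : act 7 n25876 = n14630 := d4_2 (iv7 F20362) D25876 (iv2 D14630)
theorem F40878 : act 1 n25876 = n14628 := d15_0 (iv0 D14628) (iv7 F20362) D25876
theorem F40879 : act 1 n25875 = n14630 := d15_1 D25875 (iv7 F40877) (iv2 D25876)
theorem F40880 : act 1 n14629 = n25876 := d15_1 D14629 F40877 (iv2 D14630)
def n25877 : Q := act 5 n12283
theorem D25877 : act 5 n12283 = n25877 := rfl
theorem F40881 : act 3 n25877 = n12284 := d6_1 D25877 (iv5 D12284) D12283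
theorem F40882 : act 7 n25877 = n14631 := d13_2 (iv7 F20362) D25877 (iv5 D14631)
def n25878 : Q := act 6 n12283
theorem D25878 : act 6 n12283 = n25878 := rfl
theorem F40883 : act 3 n25878 = n12285 := d7_1 D25878 (iv6 D12285) D12283
def n25879 : Q := act 6 n12284
theorem D25879 : act 6 n12284 = n25879 := rfl
theorem F40884 : act 2 n25879 = n14581 := d3_1 D25879 (iv6 D14581) (iv2 F20363)
theorem F40885 : act 4 n25879 = n12439 := d10_1 D25879 (iv6 D12439) (iv4 F20365)
def n25880 : Q := act 0 n12285
theorem D25880 : act 0 n12285 = n25880 := rfl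
def n25881 : Q := act 1 n12285
theorem D25881 : act 1 n12285 = n25881 := rfl
def n25882 : Q := act 5 n12285
theorem D25882 : act 5 n12285 = n25882 := rfl
def n25883 : Q := act 7 n12285
theorem D25883 : act 7 n12285 = n25883 := rfl
theorem F40888 : act 2 n25883 = n14585 := d4_1 D25883 (iv7 D14585) (iv2 F20368)
theorem F40889 : act 4 n25883 = n12288 := d11_1 D25883 (iv7 D12288) (iv4 F20369)
theorem F40890 : act 6 n25883 = n14637 := d14_1 D25883 (iv7 D14637) (iv6 D6991) (iv7 F8960) D12285
theorem F40891 : act 1 n14585 = n25880 := d15_0 (iv0 D25880) D25883 F40888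
theorem F40892 : act 1 n14583 = n25883 := d15_1 D14583 (iv7 D25883) F20368
theorem F40893 : act 1 n25883 = n14582 := d15_0 (iv0 D14582) D14585 (iv2 F40888)
def n25884 : Q := act 2 n12286
theorem D25884 : act 2 n12286 = n25884 := rfl
theorem F40894 : act 7 n12287 = n25884 := d15_2 (iv0 D12286) D12287 (iv2 D25884)
def n25885 : Q := act 3 n12286
theorem D25885 : act 3 n12286 = n25885 := rfl
def n25886 : Q := act 4 n12286
theorem D25886 : act 4 n12286 = n25886 := rfl
def n25887 : Q := act 7 n12286
theorem D25887 : act 7 n12286 = n25887 := rfl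
theorem F40895 : act 2 n25887 = n12287 := d4_1 D25887 F40894 (iv2 D25884)
theorem F40896 : act 5 n25887 = n25884 := d13_1 D25887 (iv7 F40894) (iv5 F20371)
def n25888 : Q := act 3 n12287
theorem D25888 : act 3 n12287 = n25888 := rfl
theorem F40897 : act 5 n25888 = n25885 := d6_2 F20371 D25888 (iv3 D25885)
def n25889 : Q := act 4 n12287
theorem D25889 : act 4 n12287 = n25889 := rfl
def n25890 : Q := act 6 n12287
theorem D25890 : act 6 n12287 = n25890 := rfl
def n25891 : Q := act 5 n12289
theorem D25891 : act 5 n12289 = n25891 := rfl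
theorem F40898 : act 2 n25891 = n14532 := d2_1 D25891 (iv5 D14532) (iv2 F20377)
theorem F40899 : act 3 n25891 = n25192 := d6_1 D25891 (iv5 D25192) (iv3 F20378)
theorem F40900 : act 7 n25891 = n14149 := d13_2 (iv7 F20380) D25891 (iv5 D14149)
theorem F40901 : act 0 n25891 = n25023 := d17_2 F20382 D25891 (iv5 F39253) F24275 F24274 F38953 F38951 F19164 D11792
theorem F40902 : act 1 n25891 = n25018 := d15_0 F39250 (iv7 F24175) (iv2 F40898)
def n25892 : Q := act 4 n12290
theorem D25892 : act 4 n12290 = n25892 := rfl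
theorem F40903 : act 2 n25892 = n14533 := d1_1 D25892 (iv4 D14533) (iv2 F20383)
theorem F40904 : act 7 n25892 = n14150 := d11_2 (iv7 F20384) D25892 (iv4 D14150)
theorem F40905 : act 0 n25892 = n24883 := d18_2 (iv1 F20388) D25892 (iv4 D24883) (iv5 F24274) (iv4 F24275) F39261 F38495 F24332 (iv5 D14649)
theorem F40906 : act 1 n25892 = n24880 := d18_6 D5520 D11792 F20382 (iv4 D12289) D12290 D25892 (iv4 D24880) (iv0 D11799) (iv5 D5522)
def n25893 : Q := act 6 n12290
theorem D25893 : act 6 n12290 = n25893 := rfl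
theorem F40907 : act 2 n25893 = n14534 := d3_1 D25893 (iv6 D14534) (iv2 F20383)
theorem F40908 : act 5 n25893 = n25893 := d12_1 D25893 (iv6 D25893) (iv5 D12290) F19362 D12290
theorem F40909 : act 7 n25893 = n24951 := d14_2 (iv7 F20384) D25893 (iv6 D24951) (iv7 D11847) (iv6 F10975)
def n25894 : Q := act 3 n12291
theorem D25894 : act 3 n12291 = n25894 := rfl
theorem F40910 : act 2 n25894 = n14397 := d0_1 D25894 (iv3 F40143) (iv2 F37871) (iv3 D14542) F20389
theorem F40911 : act 5 n25894 = n24115 := d6_2 F24337 D25894 (iv3 F37785)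
theorem F40912 : act 7 n25894 = n14398 := d8_2 (iv7 F20391) D25894 F24048
theorem F40913 : act 4 n25894 = n14792 := d20_6 D7058 F11307 (iv4 D5837) (iv3 F8982) D12291 D25894 (iv1 D14792) (iv4 D7051) F5016 D3217
theorem F40914 : act 0 n14395 = n25894 := d18_0 F40913 (iv1 D14792) (iv4 D7051) (iv5 D3215) F5054 F19359 (iv4 F8784) F19358 D14395
theorem F40915 : act 1 n14308 = n25894 := d15_0 (iv0 F40914) F24040 F23995
def n25895 : Q := act 4 n12291
theorem D25895 : act 4 n12291 = n25895 := rfl
theorem F40916 : act 2 n25895 = n14543 := d1_1 D25895 (iv4 D14543) F20389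
theorem F40917 : act 7 n25895 = n14540 := d11_2 (iv7 F20391) D25895 (iv4 D14540)
theorem F40918 : act 0 n25895 = n24870 := d18_2 D12291 D25895 (iv4 D24870) (iv5 D11793) D11792 (iv0 F19350) F10967 (iv0 F19356) D5835
theorem F40919 : act 1 n25895 = n24877 := d15_0 F39008 F38500 (iv2 F40916)
def n25896 : Q := act 6 n12291
theorem D25896 : act 6 n12291 = n25896 := rfl
theorem F40920 : act 2 n25896 = n14544 := d3_1 D25896 (iv6 D14544) F20389
theorem F40921 : act 5 n25896 = n14176 := d12_1 D25896 (iv6 D14176) (iv5 F23660) (iv6 F24336) F24337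
theorem F40922 : act 0 n25896 = n24941 := d21_4 D7001 D14655 F24337 D25896 (iv6 D24941) (iv5 D11842) (iv1 D5556) D5557 (iv6 F10975) F19320
def n25897 : Q := act 0 n12292
theorem D25897 : act 0 n12292 = n25897 := rfl
theorem F40923 : act 1 n14535 = n25897 := d15_0 (iv0 D25897) F20392 (iv2 F24178)
def n25898 : Q := act 1 n12292
theorem D25898 : act 1 n12292 = n25898 := rfl
theorem F40924 : act 1 n25898 = n14535 := d15_1 D25898 (iv7 F39217) F39216
theorem F40925 : act 4 n25898 = n14610 := d18_7 (iv1 F19157) F8444 (iv1 F8478) F9909 D5835 D12292 D25898 (iv0 F38938) (iv5 D24858)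
theorem F40926 : act 2 n14545 = n25898 := d1_3 F40925 F38989 (iv4 F38991)
theorem F40927 : act 7 n14546 = n25898 := d11_0 F40925 (iv7 F24575) F24576
theorem F40928 : act 2 n14546 = n25897 := d15_3 (iv0 D25897) D25898 (iv7 F40927)
theorem F40929 : act 7 n25897 = n14545 := d4_2 (iv7 F40927) F40928 F40926
def n25899 : Q := act 3 n12292
theorem D25899 : act 3 n12292 = n25899 := rfl
theorem F40930 : act 4 n25899 = n12295 := d5_2 D12292 D25899 (iv3 D12295) (iv4 D5837) (iv3 F8982)
theorem F40931 : act 7 n25899 = n14547 := d8_2 (iv7 F20392) D25899 (iv3 D14547)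
def n25900 : Q := act 5 n12292
theorem D25900 : act 5 n12292 = n25900 := rfl
theorem F40932 : act 7 n25900 = n14548 := d13_2 (iv7 F20392) D25900 (iv5 D14548)
def n25901 : Q := act 6 n12292
theorem D25901 : act 6 n12292 = n25901 := rfl
theorem F40933 : act 4 n25901 = n12293 := d10_1 D25901 (iv6 D12293) D12292
def n25902 : Q := act 0 n12293
theorem D25902 : act 0 n12293 = n25902 := rfl
def n25903 : Q := act 1 n12293
theorem D25903 : act 1 n12293 = n25903 := rfl
theorem F40934 : act 6 n14481 = n25903 := d21_3 (iv5 F37753) (iv1 F37755) F24123 (iv1 D25903) (iv6 D12293) (iv5 D5835) F19356 D6724 F10968 D11834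
theorem F40935 : act 5 n24961 = n25903 := d21_6 (iv5 D11557) (iv1 D5381) D5382 (iv6 F8482) D11853 D24961 (iv1 D25903) (iv5 F39335) (iv6 D25059) (iv1 F19601)
theorem F40936 : act 2 n25903 = n25005 := d2_1 F40935 (iv5 D25005) (iv2 F39158)
def n25904 : Q := act 7 n12293
theorem D25904 : act 7 n12293 = n25904 := rfl
theorem F40937 : act 3 n25904 = n12299 := d8_1 D25904 (iv7 D12299) (iv3 F20393)
theorem F40938 : act 6 n25904 = n14552 := d14_1 D25904 (iv7 D14552) (iv6 D6953) (iv7 F8983) D12293
theorem F40939 : act 1 n25005 = n25904 := d15_1 (iv0 F39242) (iv7 D25904) (iv2 F39220)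
def n25905 : Q := act 0 n12295
theorem D25905 : act 0 n12295 = n25905 := rfl
theorem F40940 : act 1 n14578 = n25905 := d15_0 (iv0 D25905) F20394 D14578
def n25906 : Q := act 1 n12295
theorem D25906 : act 1 n12295 = n25906 := rfl
def n25907 : Q := act 2 n12295
theorem D25907 : act 2 n12295 = n25907 := rfl
theorem F40941 : act 3 n25907 = n14630 := d0_2 D12295 D25907 (iv2 D14630) (iv3 D6989) (iv2 F8985)
theorem F40942 : act 7 n25907 = n14578 := d4_2 (iv7 F20394) D25907 (iv2 D14578)
theorem F40943 : act 1 n25907 = n14576 := d15_0 (iv0 D14576) (iv7 F20394) D25907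
theorem F40944 : act 1 n25906 = n14578 := d15_1 D25906 (iv7 F40942) (iv2 D25907)
theorem F40945 : act 1 n14577 = n25907 := d15_1 D14577 F40942 (iv2 D14578)
def n25908 : Q := act 5 n12295
theorem D25908 : act 5 n12295 = n25908 := rfl
theorem F40946 : act 3 n25908 = n12296 := d6_1 D25908 (iv5 D12296) D12295
theorem F40947 : act 7 n25908 = n14579 := d13_2 (iv7 F20394) D25908 (iv5 D14579)
def n25909 : Q := act 6 n12295
theorem D25909 : act 6 n12295 = n25909 := rfl
theorem F40948 : act 3 n25909 = n12297 := d7_1 D25909 (iv6 D12297) D12295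
def n25910 : Q := act 6 n12296
theorem D25910 : act 6 n12296 = n25910 := rfl
theorem F40949 : act 2 n25910 = n14633 := d3_1 D25910 (iv6 D14633) (iv2 F20395)
theorem F40950 : act 4 n25910 = n12437 := d10_1 D25910 (iv6 D12437) (iv4 F20396)
def n25911 : Q := act 0 n12297
theorem D25911 : act 0 n12297 = n25911 := rfl
def n25912 : Q := act 1 n12297
theorem D25912 : act 1 n12297 = n25912 := rfl
theorem F40951 : act 1 n25912 = n14637 := d15_1 D25912 (iv7 D14637) (iv2 F20400)
def n25913 : Q := act 5 n12297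
theorem D25913 : act 5 n12297 = n25913 := rfl
theorem F40952 : act 2 n25913 = n14636 := d2_1 D25913 (iv5 D14636) (iv2 F20400)
def n25914 : Q := act 7 n12297
theorem D25914 : act 7 n12297 = n25914 := rfl
theorem F40953 : act 2 n25914 = n14637 := d4_1 D25914 (iv7 D14637) (iv2 F20400)
theorem F40954 : act 4 n25914 = n12299 := d11_1 D25914 (iv7 D12299) (iv4 F20401)
theorem F40955 : act 6 n25914 = n14585 := d14_1 D25914 (iv7 D14585) (iv6 D6967) (iv7 F8986) D12297
theorem F40956 : act 1 n14637 = n25911 := d15_0 (iv0 D25911) D25914 F40953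
theorem F40957 : act 1 n14635 = n25914 := d15_1 D14635 (iv7 D25914) F20400
theorem F40958 : act 1 n25914 = n14634 := d15_0 (iv0 D14634) D14637 (iv2 F40953)
def n25915 : Q := act 3 n12298
theorem D25915 : act 3 n12298 = n25915 := rfl
theorem F40959 : act 5 n25915 = n25117 := d6_2 F20407 D25915 F39481
theorem F40960 : act 7 n25915 = n14641 := d8_2 (iv7 F20406) D25915 (iv3 D14641)
def n25916 : Q := act 4 n12298
theorem D25916 : act 4 n12298 = n25916 := rfl
theorem F40961 : act 2 n25916 = n14639 := d1_1 D25916 (iv4 D14639) (iv2 F20408)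
theorem F40962 : act 7 n25916 = n14642 := d11_2 (iv7 F20406) D25916 (iv4 D14642)
def n25917 : Q := act 6 n12298
theorem D25917 : act 6 n12298 = n25917 := rfl
theorem F40963 : act 2 n25917 = n14640 := d3_1 D25917 (iv6 D14640) (iv2 F20408)
theorem F40964 : act 5 n25917 = n13851 := d12_1 D25917 (iv6 F23432) F23431 (iv6 F19688) F20407
theorem F40965 : act 7 n25917 = n13850 := d14_2 (iv7 F20406) D25917 F23122 (iv7 F11238) F11256
def n25918 : Q := act 0 n12300
theorem D25918 : act 0 n12300 = n25918 := rfl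
theorem F40966 : act 4 n25918 = n24479 := d18_3 (iv1 F19207) D12300 D25918 (iv5 D24479) (iv4 F19101) (iv0 F19102) F8825 (iv0 F10170) D6759
theorem F40967 : act 1 n14685 = n25918 := d15_0 (iv0 D25918) F20412 (iv2 F24366)
theorem F40968 : act 2 n14688 = n25918 := d1_3 F40966 F38434 F24416
theorem F40969 : act 7 n14687 = n25918 := d11_0 F40966 F38435 F38279
def n25919 : Q := act 1 n12300
theorem D25919 : act 1 n12300 = n25919 := rfl
theorem F40970 : act 1 n25919 = n14685 := d15_1 D25919 (iv7 F37758) F37757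
theorem F40971 : act 7 n25919 = n14688 := d15_2 (iv0 D25918) D25919 F40968
theorem F40972 : act 4 n13688 = n25919 := d20_6 (iv4 F5000) (iv1 F9002) F9004 D6426 F19553 (iv3 F22851) (iv1 D25919) (iv4 D12300) (iv3 D5839) (iv1 F3834)
theorem F40973 : act 2 n25919 = n14687 := d1_1 F40972 (iv4 F38279) F38276
theorem F40974 : act 6 n25919 = n14222 := d10_2 (iv6 F22852) F40972 (iv4 D14222)
def n25920 : Q := act 3 n12300
theorem D25920 : act 3 n12300 = n25920 := rfl
theorem F40975 : act 4 n25920 = n12302 := d5_2 D12300 D25920 (iv3 D12302) (iv4 D5840) D5839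
theorem F40976 : act 7 n25920 = n14689 := d8_2 (iv7 F20412) D25920 (iv3 D14689)
def n25921 : Q := act 5 n12300
theorem D25921 : act 5 n12300 = n25921 := rfl
theorem F40977 : act 7 n25921 = n14690 := d13_2 (iv7 F20412) D25921 (iv5 D14690)
def n25922 : Q := act 6 n12300
theorem D25922 : act 6 n12300 = n25922 := rfl
theorem F40978 : act 4 n25922 = n12301 := d10_1 D25922 (iv6 D12301) D12300
def n25923 : Q := act 0 n12301
theorem D25923 : act 0 n12301 = n25923 := rfl
def n25924 : Q := act 1 n12301
theorem D25924 : act 1 n12301 = n25924 := rfl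
def n25925 : Q := act 5 n12301
theorem D25925 : act 5 n12301 = n25925 := rfl
theorem F40979 : act 3 n25925 = n12307 := d6_1 D25925 (iv5 D12307) (iv3 F20413)
theorem F40980 : act 6 n25925 = n14038 := d12_2 D12301 D25925 F23420 (iv6 F19563) F19560
def n25926 : Q := act 7 n12301
theorem D25926 : act 7 n12301 = n25926 := rfl
theorem F40981 : act 3 n25926 = n12308 := d8_1 D25926 (iv7 D12308) (iv3 F20413)
theorem F40982 : act 6 n25926 = n14694 := d14_1 D25926 (iv7 D14694) (iv6 D7013) (iv7 F8988) D12301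
def n25927 : Q := act 0 n12302
theorem D25927 : act 0 n12302 = n25927 := rfl
theorem F40983 : act 1 n14697 = n25927 := d15_0 (iv0 D25927) F20414 D14697
def n25928 : Q := act 1 n12302
theorem D25928 : act 1 n12302 = n25928 := rfl
def n25929 : Q := act 2 n12302
theorem D25929 : act 2 n12302 = n25929 := rfl
theorem F40984 : act 3 n25929 = n14664 := d0_2 D12302 D25929 (iv2 D14664) (iv3 D7004) (iv2 F8989)
theorem F40985 : act 7 n25929 = n14697 := d4_2 (iv7 F20414) D25929 (iv2 D14697)
theorem F40986 : act 1 n25929 = n14695 := d15_0 (iv0 D14695) (iv7 F20414) D25929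
theorem F40987 : act 1 n25928 = n14697 := d15_1 D25928 (iv7 F40985) (iv2 D25929)
theorem F40988 : act 1 n14696 = n25929 := d15_1 D14696 F40985 (iv2 D14697)
def n25930 : Q := act 5 n12302
theorem D25930 : act 5 n12302 = n25930 := rfl
theorem F40989 : act 3 n25930 = n12303 := d6_1 D25930 (iv5 D12303) D12302
theorem F40990 : act 7 n25930 = n14698 := d13_2 (iv7 F20414) D25930 (iv5 D14698)
def n25931 : Q := act 6 n12302
theorem D25931 : act 6 n12302 = n25931 := rfl
theorem F40991 : act 3 n25931 = n12304 := d7_1 D25931 (iv6 D12304) D12302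
def n25932 : Q := act 6 n12303
theorem D25932 : act 6 n12303 = n25932 := rfl
theorem F40992 : act 2 n25932 = n14669 := d3_1 D25932 (iv6 D14669) (iv2 F20415)
theorem F40993 : act 4 n25932 = n12413 := d10_1 D25932 (iv6 D12413) (iv4 F20417)
def n25933 : Q := act 0 n12304
theorem D25933 : act 0 n12304 = n25933 := rfl
def n25934 : Q := act 1 n12304
theorem D25934 : act 1 n12304 = n25934 := rfl
theorem F40994 : act 1 n25934 = n14673 := d15_1 D25934 (iv7 D14673) (iv2 F20418)
def n25935 : Q := act 5 n12304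
theorem D25935 : act 5 n12304 = n25935 := rfl
theorem F40995 : act 2 n25935 = n14672 := d2_1 D25935 (iv5 D14672) (iv2 F20418)
def n25936 : Q := act 7 n12304
theorem D25936 : act 7 n12304 = n25936 := rfl
theorem F40996 : act 2 n25936 = n14673 := d4_1 D25936 (iv7 D14673) (iv2 F20418)
theorem F40997 : act 4 n25936 = n12308 := d11_1 D25936 (iv7 D12308) (iv4 F20419)
theorem F40998 : act 6 n25936 = n14704 := d14_1 D25936 (iv7 D14704) (iv6 D7016) (iv7 F8990) D12304
theorem F40999 : act 1 n14673 = n25933 := d15_0 (iv0 D25933) D25936 F40996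
theorem F41000 : act 1 n14671 = n25936 := d15_1 D14671 (iv7 D25936) F20418
theorem F41001 : act 1 n25936 = n14670 := d15_0 (iv0 D14670) D14673 (iv2 F40996)
def n25937 : Q := act 2 n12305
theorem D25937 : act 2 n12305 = n25937 := rfl
theorem F41002 : act 7 n12306 = n25937 := d15_2 (iv0 D12305) D12306 (iv2 D25937)
def n25938 : Q := act 3 n12305
theorem D25938 : act 3 n12305 = n25938 := rfl
def n25939 : Q := act 4 n12305
theorem D25939 : act 4 n12305 = n25939 := rfl
def n25940 : Q := act 5 n12305
theorem D25940 : act 5 n12305 = n25940 := rfl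
theorem F41003 : act 6 n25940 = n14677 := d12_2 (iv6 F26196) D25940 (iv5 D14677) (iv6 F26195) F26194
def n25941 : Q := act 7 n12305
theorem D25941 : act 7 n12305 = n25941 := rfl
theorem F41004 : act 2 n25941 = n12306 := d4_1 D25941 F41002 (iv2 D25937)
def n25942 : Q := act 3 n12306
theorem D25942 : act 3 n12306 = n25942 := rfl
def n25943 : Q := act 4 n12306
theorem D25943 : act 4 n12306 = n25943 := rfl
def n25944 : Q := act 5 n12306
theorem D25944 : act 5 n12306 = n25944 := rfl
theorem F41005 : act 6 n25944 = n14203 := d21_3 (iv5 F23513) (iv1 F20420) D25944 (iv1 F23708) (iv6 D6757) F4764 (iv1 F4981) D3009 D6692 D14075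
def n25945 : Q := act 6 n12306
theorem D25945 : act 6 n12306 = n25945 := rfl
def n25946 : Q := act 4 n12307
theorem D25946 : act 4 n12307 = n25946 := rfl
theorem F41006 : act 2 n25946 = n14684 := d1_1 D25946 (iv4 D14684) (iv2 F20421)
theorem F41007 : act 6 n25946 = n13743 := d10_2 (iv6 F20422) D25946 F22996
def n25947 : Q := act 6 n12309
theorem D25947 : act 6 n12309 = n25947 := rfl
theorem F41008 : act 2 n25947 = n12311 := d3_1 D25947 (iv6 D12311) D12309
theorem F41009 : act 3 n25947 = n14686 := d7_1 D25947 (iv6 D14686) (iv3 F20429)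
theorem F41010 : act 5 n25947 = n24421 := d12_1 D25947 (iv6 D24421) (iv5 D11518) D11519 (iv5 F20430)
def n25948 : Q := act 3 n12310
theorem D25948 : act 3 n12310 = n25948 := rfl
theorem F41011 : act 4 n25948 = n12312 := d5_2 D12310 D25948 (iv3 D12312) (iv4 D5843) D5842
theorem F41012 : act 7 n25948 = n14652 := d8_2 (iv7 F20434) D25948 (iv3 D14652)
def n25949 : Q := act 5 n12310
theorem D25949 : act 5 n12310 = n25949 := rfl
theorem F41013 : act 7 n25949 = n14653 := d13_2 (iv7 F20434) D25949 (iv5 D14653)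
def n25950 : Q := act 6 n12310
theorem D25950 : act 6 n12310 = n25950 := rfl
theorem F41014 : act 4 n25950 = n12311 := d10_1 D25950 (iv6 D12311) D12310
def n25951 : Q := act 0 n12311
theorem D25951 : act 0 n12311 = n25951 := rfl
def n25952 : Q := act 1 n12311
theorem D25952 : act 1 n12311 = n25952 := rfl
def n25953 : Q := act 7 n12311
theorem D25953 : act 7 n12311 = n25953 := rfl
theorem F41015 : act 3 n25953 = n12317 := d8_1 D25953 (iv7 D12317) (iv3 F20435)
theorem F41016 : act 6 n25953 = n14659 := d14_1 D25953 (iv7 D14659) (iv6 D7002) (iv7 F8993) D12311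
def n25954 : Q := act 0 n12312
theorem D25954 : act 0 n12312 = n25954 := rfl
theorem F41017 : act 1 n14664 = n25954 := d15_0 (iv0 D25954) F20436 D14664
def n25955 : Q := act 1 n12312
theorem D25955 : act 1 n12312 = n25955 := rfl
def n25956 : Q := act 2 n12312
theorem D25956 : act 2 n12312 = n25956 := rfl
theorem F41018 : act 3 n25956 = n14697 := d0_2 D12312 D25956 (iv2 D14697) (iv3 D7014) (iv2 F8994)
theorem F41019 : act 7 n25956 = n14664 := d4_2 (iv7 F20436) D25956 (iv2 D14664)
theorem F41020 : act 1 n25956 = n14662 := d15_0 (iv0 D14662) (iv7 F20436) D25956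
theorem F41021 : act 1 n25955 = n14664 := d15_1 D25955 (iv7 F41019) (iv2 D25956)
theorem F41022 : act 1 n14663 = n25956 := d15_1 D14663 F41019 (iv2 D14664)
def n25957 : Q := act 5 n12312
theorem D25957 : act 5 n12312 = n25957 := rfl
theorem F41023 : act 3 n25957 = n12313 := d6_1 D25957 (iv5 D12313) D12312
theorem F41024 : act 7 n25957 = n14665 := d13_2 (iv7 F20436) D25957 (iv5 D14665)
def n25958 : Q := act 6 n12312
theorem D25958 : act 6 n12312 = n25958 := rfl
theorem F41025 : act 3 n25958 = n12314 := d7_1 D25958 (iv6 D12314) D12312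
def n25959 : Q := act 6 n12313
theorem D25959 : act 6 n12313 = n25959 := rfl
theorem F41026 : act 2 n25959 = n14700 := d3_1 D25959 (iv6 D14700) (iv2 F20437)
theorem F41027 : act 4 n25959 = n12404 := d10_1 D25959 (iv6 D12404) (iv4 F20438)
def n25960 : Q := act 0 n12314
theorem D25960 : act 0 n12314 = n25960 := rfl
def n25961 : Q := act 1 n12314
theorem D25961 : act 1 n12314 = n25961 := rfl
theorem F41028 : act 1 n25961 = n14704 := d15_1 D25961 (iv7 D14704) (iv2 F20440)
def n25962 : Q := act 5 n12314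
theorem D25962 : act 5 n12314 = n25962 := rfl
theorem F41029 : act 2 n25962 = n14703 := d2_1 D25962 (iv5 D14703) (iv2 F20440)
def n25963 : Q := act 7 n12314
theorem D25963 : act 7 n12314 = n25963 := rfl
theorem F41030 : act 2 n25963 = n14704 := d4_1 D25963 (iv7 D14704) (iv2 F20440)
theorem F41031 : act 4 n25963 = n12317 := d11_1 D25963 (iv7 D12317) (iv4 F20441)
theorem F41032 : act 6 n25963 = n14673 := d14_1 D25963 (iv7 D14673) (iv6 D7006) (iv7 F8995) D12314
theorem F41033 : act 1 n14704 = n25960 := d15_0 (iv0 D25960) D25963 F41030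
theorem F41034 : act 1 n14702 = n25963 := d15_1 D14702 (iv7 D25963) F20440
theorem F41035 : act 1 n25963 = n14701 := d15_0 (iv0 D14701) D14704 (iv2 F41030)
def n25964 : Q := act 2 n12315
theorem D25964 : act 2 n12315 = n25964 := rfl
theorem F41037 : act 7 n12316 = n25964 := d15_2 (iv0 D12315) D12316 (iv2 D25964)
def n25965 : Q := act 3 n12315
theorem D25965 : act 3 n12315 = n25965 := rfl
theorem F41038 : act 5 n25965 = n14706 := d6_2 (iv5 F26134) D25965 (iv3 D14706)
def n25966 : Q := act 4 n12315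
theorem D25966 : act 4 n12315 = n25966 := rfl
def n25967 : Q := act 6 n12315
theorem D25967 : act 6 n12315 = n25967 := rfl
theorem F41039 : act 5 n25967 = n14644 := d12_1 D25967 (iv6 F39541) (iv5 F39341) (iv6 D14709) (iv5 F26134)
theorem F41040 : act 0 n25967 = n14775 := d21_10 F24413 (iv1 D11679) D11680 F19016 (iv1 D6918) D6920 F11199 D7017 (iv5 F26134) D25967
theorem F41041 : act 1 n25967 = n24667 := d15_1 (iv0 F41040) (iv7 F39533) F39539
def n25968 : Q := act 7 n12315
theorem D25968 : act 7 n12315 = n25968 := rfl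
theorem F41042 : act 2 n25968 = n12316 := d4_1 D25968 F41037 (iv2 D25964)
def n25969 : Q := act 3 n12316
theorem D25969 : act 3 n12316 = n25969 := rfl
theorem F41044 : act 5 n25969 = n14711 := d6_2 (iv5 F23518) D25969 (iv3 D14711)
def n25970 : Q := act 4 n12316
theorem D25970 : act 4 n12316 = n25970 := rfl
def n25971 : Q := act 0 n12318
theorem D25971 : act 0 n12318 = n25971 := rfl
theorem F41045 : act 1 n14728 = n25971 := d15_0 (iv0 D25971) F20448 D14728
def n25972 : Q := act 1 n12318
theorem D25972 : act 1 n12318 = n25972 := rfl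
def n25973 : Q := act 2 n12318
theorem D25973 : act 2 n12318 = n25973 := rfl
theorem F41046 : act 3 n25973 = n14715 := d0_2 D12318 D25973 (iv2 D14715) (iv3 D7020) F8999
theorem F41047 : act 7 n25973 = n14728 := d4_2 (iv7 F20448) D25973 (iv2 D14728)
theorem F41048 : act 1 n25973 = n14726 := d15_0 (iv0 D14726) (iv7 F20448) D25973
theorem F41049 : act 1 n25972 = n14728 := d15_1 D25972 (iv7 F41047) (iv2 D25973)
theorem F41050 : act 1 n14727 = n25973 := d15_1 D14727 F41047 (iv2 D14728)
def n25974 : Q := act 5 n12318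
theorem D25974 : act 5 n12318 = n25974 := rfl
theorem F41051 : act 3 n25974 = n12319 := d6_1 D25974 (iv5 D12319) D12318
theorem F41052 : act 7 n25974 = n14730 := d13_2 (iv7 F20448) D25974 (iv5 D14730)
def n25975 : Q := act 6 n12318
theorem D25975 : act 6 n12318 = n25975 := rfl
theorem F41053 : act 3 n25975 = n12320 := d7_1 D25975 (iv6 D12320) D12318
def n25976 : Q := act 6 n12319
theorem D25976 : act 6 n12319 = n25976 := rfl
theorem F41054 : act 2 n25976 = n14721 := d3_1 D25976 (iv6 D14721) (iv2 F20449)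
theorem F41055 : act 4 n25976 = n12395 := d10_1 D25976 (iv6 D12395) (iv4 F20451)
def n25977 : Q := act 0 n12320
theorem D25977 : act 0 n12320 = n25977 := rfl
def n25978 : Q := act 1 n12320
theorem D25978 : act 1 n12320 = n25978 := rfl
theorem F41056 : act 1 n25978 = n14725 := d15_1 D25978 (iv7 D14725) (iv2 F20452)
def n25979 : Q := act 5 n12320
theorem D25979 : act 5 n12320 = n25979 := rfl
theorem F41057 : act 2 n25979 = n14724 := d2_1 D25979 (iv5 D14724) (iv2 F20452)
def n25980 : Q := act 7 n12320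
theorem D25980 : act 7 n12320 = n25980 := rfl
theorem F41058 : act 2 n25980 = n14725 := d4_1 D25980 (iv7 D14725) (iv2 F20452)
theorem F41059 : act 4 n25980 = n13511 := d11_1 D25980 (iv7 D13511) (iv4 F20453)
theorem F41060 : act 6 n25980 = n14736 := d14_1 D25980 (iv7 D14736) (iv6 D7025) F9000 D12320
theorem F41061 : act 1 n14725 = n25977 := d15_0 (iv0 D25977) D25980 F41058
theorem F41062 : act 1 n14723 = n25980 := d15_1 D14723 (iv7 D25980) F20452
theorem F41063 : act 1 n25980 = n14722 := d15_0 (iv0 D14722) D14725 (iv2 F41058)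
def n25981 : Q := act 0 n12321
theorem D25981 : act 0 n12321 = n25981 := rfl
theorem F41064 : act 1 n14715 = n25981 := d15_0 (iv0 D25981) F20454 D14715
def n25982 : Q := act 1 n12321
theorem D25982 : act 1 n12321 = n25982 := rfl
def n25983 : Q := act 2 n12321
theorem D25983 : act 2 n12321 = n25983 := rfl
theorem F41065 : act 3 n25983 = n14728 := d0_2 D12321 D25983 (iv2 D14728) (iv3 D7023) F9005
theorem F41066 : act 7 n25983 = n14715 := d4_2 (iv7 F20454) D25983 (iv2 D14715)
theorem F41067 : act 1 n25983 = n14713 := d15_0 (iv0 D14713) (iv7 F20454) D25983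
theorem F41068 : act 1 n25982 = n14715 := d15_1 D25982 (iv7 F41066) (iv2 D25983)
theorem F41069 : act 1 n14714 = n25983 := d15_1 D14714 F41066 (iv2 D14715)
def n25984 : Q := act 4 n12321
theorem D25984 : act 4 n12321 = n25984 := rfl
theorem F41070 : act 3 n25984 = n13513 := d5_1 D25984 (iv4 D13513) (iv3 D6426) (iv4 F9004) D12321
theorem F41071 : act 7 n25984 = n14716 := d11_2 (iv7 F20454) D25984 (iv4 D14716)
def n25985 : Q := act 5 n12321
theorem D25985 : act 5 n12321 = n25985 := rfl
theorem F41072 : act 3 n25985 = n12322 := d6_1 D25985 (iv5 D12322) D12321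
theorem F41073 : act 7 n25985 = n14717 := d13_2 (iv7 F20454) D25985 (iv5 D14717)
def n25986 : Q := act 6 n12321
theorem D25986 : act 6 n12321 = n25986 := rfl
theorem F41074 : act 3 n25986 = n12323 := d7_1 D25986 (iv6 D12323) D12321
def n25987 : Q := act 6 n12322
theorem D25987 : act 6 n12322 = n25987 := rfl
theorem F41075 : act 2 n25987 = n14732 := d3_1 D25987 (iv6 D14732) (iv2 F20455)
theorem F41076 : act 4 n25987 = n12383 := d10_1 D25987 (iv6 D12383) (iv4 F20456)
def n25988 : Q := act 0 n12323
theorem D25988 : act 0 n12323 = n25988 := rfl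
def n25989 : Q := act 1 n12323
theorem D25989 : act 1 n12323 = n25989 := rfl
theorem F41077 : act 1 n25989 = n14736 := d15_1 D25989 (iv7 D14736) (iv2 F20458)
def n25990 : Q := act 5 n12323
theorem D25990 : act 5 n12323 = n25990 := rfl
theorem F41078 : act 2 n25990 = n14735 := d2_1 D25990 (iv5 D14735) (iv2 F20458)
def n25991 : Q := act 7 n12323
theorem D25991 : act 7 n12323 = n25991 := rfl
theorem F41079 : act 2 n25991 = n14736 := d4_1 D25991 (iv7 D14736) (iv2 F20458)
theorem F41080 : act 4 n25991 = n13517 := d11_1 D25991 (iv7 D13517) (iv4 F20459)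
theorem F41081 : act 6 n25991 = n14725 := d14_1 D25991 (iv7 D14725) (iv6 D7022) (iv7 F9003) D12323
theorem F41082 : act 1 n14736 = n25988 := d15_0 (iv0 D25988) D25991 F41079
theorem F41084 : act 1 n25991 = n14733 := d15_0 (iv0 D14733) D14736 (iv2 F41079)
def n25992 : Q := act 0 n12324
theorem D25992 : act 0 n12324 = n25992 := rfl
theorem F41085 : act 2 n12328 = n25992 := d15_3 (iv0 D25992) (iv0 D12324) D12328
theorem F41086 : act 3 n25992 = n14737 := d0_2 (iv3 F20463) F41085 (iv2 F24394) F11278 (iv2 F9009)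
theorem F41087 : act 5 n25992 = n15219 := d2_2 (iv5 F20464) F41085 (iv2 D15219)
theorem F41088 : act 7 n25992 = n12326 := d4_2 D12328 F41085 (iv2 D12326)
theorem F41089 : act 1 n12325 = n25992 := d15_1 D12325 F41088 (iv2 D12326)
def n25993 : Q := act 2 n12324
theorem D25993 : act 2 n12324 = n25993 := rfl
theorem F41090 : act 7 n12325 = n25993 := d15_2 (iv0 D12324) D12325 (iv2 D25993)
def n25994 : Q := act 3 n12324
theorem D25994 : act 3 n12324 = n25994 := rfl
def n25995 : Q := act 4 n12324
theorem D25995 : act 4 n12324 = n25995 := rfl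
def n25996 : Q := act 5 n12324
theorem D25996 : act 5 n12324 = n25996 := rfl
def n25997 : Q := act 6 n12324
theorem D25997 : act 6 n12324 = n25997 := rfl
def n25998 : Q := act 7 n12324
theorem D25998 : act 7 n12324 = n25998 := rfl
theorem F41091 : act 2 n25998 = n12325 := d4_1 D25998 F41090 (iv2 D25993)
def n25999 : Q := act 3 n12325
theorem D25999 : act 3 n12325 = n25999 := rfl
def n26000 : Q := act 4 n12325
theorem D26000 : act 4 n12325 = n26000 := rfl
def n26001 : Q := act 5 n12325
theorem D26001 : act 5 n12325 = n26001 := rfl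
def n26002 : Q := act 6 n12325
theorem D26002 : act 6 n12325 = n26002 := rfl
def n26003 : Q := act 0 n12326
theorem D26003 : act 0 n12326 = n26003 := rfl
theorem F41092 : act 1 n12328 = n26003 := d15_0 (iv0 D26003) (iv7 F41088) (iv2 F41085)
def n26004 : Q := act 1 n12326
theorem D26004 : act 1 n12326 = n26004 := rfl
theorem F41093 : act 1 n26004 = n12328 := d15_1 D26004 (iv7 D12328) D12326
def n26005 : Q := act 5 n12326
theorem D26005 : act 5 n12326 = n26005 := rfl
theorem F41094 : act 2 n26005 = n12327 := d2_1 D26005 (iv5 D12327) D12326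
theorem F41095 : act 3 n26005 = n14750 := d6_1 D26005 (iv5 D14750) (iv3 F20460)
theorem F41096 : act 7 n26005 = n15219 := d13_2 F41088 D26005 (iv5 F41087)
theorem F41097 : act 1 n15218 = n26005 := d15_1 D15218 F41096 (iv2 D15219)
theorem F41098 : act 1 n26005 = n15217 := d15_0 (iv0 D15217) F20462 (iv2 F41094)
def n26006 : Q := act 0 n12327
theorem D26006 : act 0 n12327 = n26006 := rfl
theorem F41099 : act 1 n15219 = n26006 := d15_0 (iv0 D26006) (iv7 F20462) D15219
def n26007 : Q := act 1 n12327
theorem D26007 : act 1 n12327 = n26007 := rfl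
theorem F41100 : act 1 n26007 = n15219 := d15_1 D26007 (iv7 F41096) F41094
def n26008 : Q := act 4 n12327
theorem D26008 : act 4 n12327 = n26008 := rfl
theorem F41101 : act 3 n26008 = n15191 := d5_1 D26008 F24811 F11528 (iv4 F9007) (iv3 F20461)
theorem F41102 : act 7 n26008 = n15188 := d11_2 F20462 D26008 F24809
def n26009 : Q := act 6 n12327
theorem D26009 : act 6 n12327 = n26009 := rfl
theorem F41103 : act 3 n26009 = n12331 := d7_1 D26009 (iv6 D12331) (iv3 F20461)
def n26010 : Q := act 6 n12328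
theorem D26010 : act 6 n12328 = n26010 := rfl
theorem F41104 : act 3 n26010 = n12332 := d7_1 D26010 (iv6 D12332) (iv3 F20463)
def n26011 : Q := act 3 n12329
theorem D26011 : act 3 n12329 = n26011 := rfl
theorem F41105 : act 5 n26011 = n12339 := d6_2 (iv5 F20465) D26011 (iv3 D12339)
theorem F41106 : act 7 n26011 = n14758 := d8_2 F20469 D26011 (iv3 D14758)
def n26012 : Q := act 6 n12329
theorem D26012 : act 6 n12329 = n26012 := rfl
theorem F41107 : act 2 n26012 = n14757 := d3_1 D26012 (iv6 D14757) F20468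
theorem F41108 : act 4 n26012 = n12373 := d10_1 D26012 (iv6 D12373) (iv4 F20466)
def n26013 : Q := act 3 n12330
theorem D26013 : act 3 n12330 = n26013 := rfl
theorem F41109 : act 5 n26013 = n12364 := d6_2 (iv5 F20472) D26013 (iv3 D12364)
theorem F41110 : act 7 n26013 = n14756 := d8_2 (iv7 F20471) D26013 (iv3 D14756)
def n26014 : Q := act 6 n12330
theorem D26014 : act 6 n12330 = n26014 := rfl
theorem F41111 : act 2 n26014 = n14759 := d3_1 D26014 (iv6 D14759) F20474
theorem F41112 : act 4 n26014 = n12352 := d10_1 D26014 (iv6 D12352) (iv4 F20473)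
def n26015 : Q := act 0 n12331
theorem D26015 : act 0 n12331 = n26015 := rfl
def n26016 : Q := act 1 n12331
theorem D26016 : act 1 n12331 = n26016 := rfl
theorem F41113 : act 1 n26016 = n14762 := d15_1 D26016 (iv7 D14762) (iv2 F20475)
def n26017 : Q := act 7 n12331
theorem D26017 : act 7 n12331 = n26017 := rfl
theorem F41114 : act 2 n26017 = n14762 := d4_1 D26017 (iv7 D14762) (iv2 F20475)
theorem F41115 : act 4 n26017 = n15235 := d11_1 D26017 F24830 (iv4 F20476)
theorem F41116 : act 6 n26017 = n15224 := d14_1 D26017 (iv7 D15224) (iv6 D7214) F9008 D12331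
theorem F41117 : act 1 n14762 = n26015 := d15_0 (iv0 D26015) D26017 F41114
theorem F41118 : act 1 n14761 = n26017 := d15_1 D14761 (iv7 D26017) F20475
theorem F41119 : act 1 n26017 = n14760 := d15_0 (iv0 D14760) D14762 (iv2 F41114)
def n26018 : Q := act 0 n12332
theorem D26018 : act 0 n12332 = n26018 := rfl
theorem F41120 : act 1 n14531 = n26018 := d15_0 (iv0 D26018) (iv7 F26234) F26232
def n26019 : Q := act 1 n12332
theorem D26019 : act 1 n12332 = n26019 := rfl
theorem F41121 : act 1 n26019 = n14531 := d15_1 D26019 F24173 (iv2 F20477)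
def n26020 : Q := act 5 n12332
theorem D26020 : act 5 n12332 = n26020 := rfl
theorem F41122 : act 2 n26020 = n14765 := d2_1 D26020 (iv5 D14765) (iv2 F20477)
theorem F41123 : act 6 n26020 = n15223 := d12_2 D12332 D26020 (iv5 D15223) (iv6 D7214) (iv5 F9011)
def n26021 : Q := act 3 n12333
theorem D26021 : act 3 n12333 = n26021 := rfl
theorem F41124 : act 7 n26021 = n14772 := d8_2 (iv7 F39545) D26021 (iv3 D14772)
def n26022 : Q := act 4 n12333
theorem D26022 : act 4 n12333 = n26022 := rfl
theorem F41125 : act 2 n26022 = n14768 := d1_1 D26022 (iv4 D14768) (iv2 F39544)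
theorem F41126 : act 7 n26022 = n14773 := d11_2 (iv7 F39545) D26022 (iv4 D14773)
def n26023 : Q := act 5 n12333
theorem D26023 : act 5 n12333 = n26023 := rfl
theorem F41127 : act 2 n26023 = n14769 := d2_1 D26023 (iv5 D14769) (iv2 F39544)
theorem F41128 : act 7 n26023 = n14774 := d13_2 (iv7 F39545) D26023 (iv5 D14774)
theorem F41129 : act 0 n25890 = n26023 := d21_10 (iv5 D26023) (iv1 F20479) F11210 (iv6 D6938) (iv1 F5468) D7687 F11945 D12286 F20371 D25890
def n26024 : Q := act 6 n12333
theorem D26024 : act 6 n12333 = n26024 := rfl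
theorem F41130 : act 2 n26024 = n14770 := d3_1 D26024 (iv6 D14770) (iv2 F39544)
theorem F41131 : act 5 n26024 = n14247 := d21_6 (iv5 D1400) (iv1 F2112) (iv5 F3833) D5850 D12333 D26024 (iv1 D14247) (iv5 F11225) (iv6 D6962) (iv1 D3145)
def n26025 : Q := act 3 n12334
theorem D26025 : act 3 n12334 = n26025 := rfl
theorem F41132 : act 7 n26025 = n14767 := d8_2 (iv7 F39543) D26025 (iv3 D14767)
def n26026 : Q := act 4 n12334
theorem D26026 : act 4 n12334 = n26026 := rfl
theorem F41133 : act 2 n26026 = n14773 := d1_1 D26026 (iv4 D14773) (iv2 F39542)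
theorem F41134 : act 7 n26026 = n14768 := d11_2 (iv7 F39543) D26026 (iv4 D14768)
def n26027 : Q := act 5 n12334
theorem D26027 : act 5 n12334 = n26027 := rfl
theorem F41135 : act 2 n26027 = n14774 := d2_1 D26027 (iv5 D14774) (iv2 F39542)
theorem F41136 : act 6 n26027 = n24640 := d12_2 F39505 D26027 (iv5 F39508) (iv6 D25134) D25133
theorem F41137 : act 7 n26027 = n14769 := d13_2 (iv7 F39543) D26027 (iv5 D14769)
theorem F41138 : act 1 n25890 = n26027 := d15_1 (iv0 F41129) F41137 (iv2 F41127)
def n26028 : Q := act 2 n12337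
theorem D26028 : act 2 n12337 = n26028 := rfl
theorem F41139 : act 3 n26028 = n14816 := d0_2 D12337 D26028 (iv2 D14816) (iv3 D7060) F9044
theorem F41140 : act 5 n26028 = n24804 := d2_2 (iv5 F20486) D26028 F38821
theorem F41141 : act 7 n26028 = n13480 := d4_2 (iv7 F20487) D26028 (iv2 F22626)
theorem F41142 : act 1 n26028 = n13470 := d15_0 (iv0 F22603) (iv7 F20487) D26028
theorem F41143 : act 1 n13468 = n26028 := d15_0 F41142 F22602 (iv2 F22432)
def n26029 : Q := act 4 n12337
theorem D26029 : act 4 n12337 = n26029 := rfl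
theorem F41144 : act 7 n26029 = n14808 := d11_2 (iv7 F20487) D26029 (iv4 D14808)
theorem F41145 : act 0 n26029 = n14374 := d18_2 (iv1 F22561) D26029 (iv4 D14374) (iv5 D6874) (iv4 D3099) (iv0 D1389) (iv4 F2390) D2812 D6418
theorem F41146 : act 1 n26029 = n14405 := d18_6 F24081 F24079 F23933 (iv4 F19109) (iv5 F20486) D26029 (iv4 D14405) F24003 F24002
def n26030 : Q := act 6 n12337
theorem D26030 : act 6 n12337 = n26030 := rfl
theorem F41147 : act 3 n26030 = n12338 := d7_1 D26030 (iv6 D12338) D12337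
theorem F41148 : act 5 n26030 = n13768 := d12_1 D26030 (iv6 D13768) (iv5 F19744) F19745 (iv5 F20486)
def n26031 : Q := act 0 n12339
theorem D26031 : act 0 n12339 = n26031 := rfl
theorem F41149 : act 1 n14938 = n26031 := d15_0 (iv0 D26031) F20491 D14938
def n26032 : Q := act 1 n12339
theorem D26032 : act 1 n12339 = n26032 := rfl
def n26033 : Q := act 2 n12339
theorem D26033 : act 2 n12339 = n26033 := rfl
theorem F41150 : act 3 n26033 = n14825 := d0_2 D12339 D26033 (iv2 D14825) (iv3 D7063) (iv2 F9045)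
theorem F41151 : act 7 n26033 = n14938 := d4_2 (iv7 F20491) D26033 (iv2 D14938)
theorem F41152 : act 1 n26033 = n14936 := d15_0 (iv0 D14936) (iv7 F20491) D26033
theorem F41153 : act 1 n26032 = n14938 := d15_1 D26032 (iv7 F41151) (iv2 D26033)
theorem F41154 : act 1 n14937 = n26033 := d15_1 D14937 F41151 (iv2 D14938)
def n26034 : Q := act 6 n12339
theorem D26034 : act 6 n12339 = n26034 := rfl
theorem F41155 : act 3 n26034 = n12340 := d7_1 D26034 (iv6 D12340) D12339
def n26035 : Q := act 0 n12340
theorem D26035 : act 0 n12340 = n26035 := rfl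
def n26036 : Q := act 1 n12340
theorem D26036 : act 1 n12340 = n26036 := rfl
theorem F41156 : act 1 n26036 = n14830 := d15_1 D26036 (iv7 D14830) (iv2 F20492)
def n26037 : Q := act 5 n12340
theorem D26037 : act 5 n12340 = n26037 := rfl
def n26038 : Q := act 7 n12340
theorem D26038 : act 7 n12340 = n26038 := rfl
theorem F41158 : act 2 n26038 = n14830 := d4_1 D26038 (iv7 D14830) (iv2 F20492)
theorem F41159 : act 4 n26038 = n12343 := d11_1 D26038 (iv7 D12343) (iv4 F20493)
theorem F41160 : act 6 n26038 = n14943 := d14_1 D26038 (iv7 D14943) (iv6 D7117) (iv7 F9046) D12340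
theorem F41161 : act 1 n14830 = n26035 := d15_0 (iv0 D26035) D26038 F41158
theorem F41162 : act 1 n14828 = n26038 := d15_1 D14828 (iv7 D26038) F20492
theorem F41163 : act 1 n26038 = n14827 := d15_0 (iv0 D14827) D14830 (iv2 F41158)
def n26039 : Q := act 2 n12341
theorem D26039 : act 2 n12341 = n26039 := rfl
theorem F41164 : act 7 n12342 = n26039 := d15_2 (iv0 D12341) D12342 (iv2 D26039)
def n26040 : Q := act 3 n12341
theorem D26040 : act 3 n12341 = n26040 := rfl
def n26041 : Q := act 4 n12341
theorem D26041 : act 4 n12341 = n26041 := rfl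
def n26042 : Q := act 7 n12341
theorem D26042 : act 7 n12341 = n26042 := rfl
theorem F41165 : act 2 n26042 = n12342 := d4_1 D26042 F41164 (iv2 D26039)
def n26043 : Q := act 3 n12342
theorem D26043 : act 3 n12342 = n26043 := rfl
theorem F41167 : act 5 n26043 = n26040 := d6_2 F20495 D26043 (iv3 D26040)
def n26044 : Q := act 4 n12342
theorem D26044 : act 4 n12342 = n26044 := rfl
def n26045 : Q := act 6 n12342
theorem D26045 : act 6 n12342 = n26045 := rfl
def n26046 : Q := act 0 n12344
theorem D26046 : act 0 n12344 = n26046 := rfl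
theorem F41168 : act 4 n26046 = n16665 := d20_0 (iv1 D16665) F12056 F11559 F26591 (iv3 D5873) (iv4 D2467) D2465 D5869 D12344 D26046
theorem F41169 : act 1 n14855 = n26046 := d15_0 (iv0 D26046) F20503 D14855
def n26047 : Q := act 1 n12344
theorem D26047 : act 1 n12344 = n26047 := rfl
theorem F41170 : act 4 n16664 = n26047 := d20_0 (iv1 D26047) F20501 (iv3 D7076) (iv1 F5026) D3275 F26570 (iv1 D3520) (iv4 F5528) (iv3 F12055) D16664
theorem F41171 : act 3 n14853 = n16664 := d20_5 (iv4 D1449) (iv1 F2560) D3228 D7074 D14853 F41170 (iv1 D26047) F20501 (iv3 D7076) (iv1 F5026)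
def n26048 : Q := act 2 n12344
theorem D26048 : act 2 n12344 = n26048 := rfl
theorem F41172 : act 3 n26048 = n14850 := d0_2 D12344 D26048 (iv2 D14850) (iv3 D7072) (iv2 F9057)
theorem F41173 : act 4 n26048 = n14860 := d1_2 (iv4 F20501) D26048 (iv2 D14860)
theorem F41174 : act 6 n26048 = n14050 := d3_2 (iv6 F20502) D26048 (iv2 D14050)
theorem F41175 : act 7 n26048 = n14855 := d4_2 (iv7 F20503) D26048 (iv2 D14855)
theorem F41176 : act 1 n26048 = n14853 := d15_0 (iv0 D14853) (iv7 F20503) D26048
theorem F41177 : act 1 n26047 = n14855 := d15_1 D26047 (iv7 F41175) (iv2 D26048)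
theorem F41178 : act 1 n14854 = n26048 := d15_1 D14854 F41175 (iv2 D14855)
def n26049 : Q := act 0 n12345
theorem D26049 : act 0 n12345 = n26049 := rfl
theorem F41179 : act 2 n14849 = n26049 := d15_3 (iv0 D26049) (iv0 F27311) F27310
theorem F41180 : act 1 n14850 = n26049 := d15_0 (iv0 D26049) F20505 D14850
theorem F41181 : act 7 n26049 = n14848 := d15_2 F27312 F41180 (iv2 F27313)
def n26050 : Q := act 0 n12346
theorem D26050 : act 0 n12346 = n26050 := rfl
theorem F41182 : act 1 n14860 = n26050 := d15_0 (iv0 D26050) F20508 D14860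
theorem F41183 : act 4 n15293 = n26050 := d20_0 (iv1 F41182) (iv4 F41173) F41172 (iv1 F27312) (iv3 D16680) F12558 (iv1 D6069) (iv4 F5323) (iv3 F11559) D15293
def n26051 : Q := act 1 n12346
theorem D26051 : act 1 n12346 = n26051 := rfl
def n26052 : Q := act 2 n12346
theorem D26052 : act 2 n12346 = n26052 := rfl
theorem F41184 : act 3 n26052 = n14865 := d0_2 D12346 D26052 (iv2 D14865) (iv3 D7078) F9072
theorem F41185 : act 4 n26052 = n14855 := d1_2 (iv4 F20506) D26052 (iv2 D14855)
theorem F41186 : act 6 n26052 = n15541 := d3_2 (iv6 F26489) D26052 (iv2 D15541)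
theorem F41187 : act 7 n26052 = n14860 := d4_2 (iv7 F20508) D26052 (iv2 D14860)
theorem F41188 : act 1 n26052 = n14858 := d15_0 (iv0 D14858) (iv7 F20508) D26052
theorem F41189 : act 1 n26051 = n14860 := d15_1 D26051 (iv7 F41187) (iv2 D26052)
theorem F41190 : act 1 n14859 = n26052 := d15_1 D14859 F41187 (iv2 D14860)
def n26053 : Q := act 0 n12350
theorem D26053 : act 0 n12350 = n26053 := rfl
theorem F41191 : act 5 n26053 = n12378 := d17_3 F26591 D12350 D26053 F26557 (iv5 F12697) F12700 F10516 (iv0 D6068) (iv4 F5323)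
theorem F41192 : act 1 n14964 = n26053 := d15_0 (iv0 D26053) F20516 (iv2 F24617)
theorem F41193 : act 2 n14967 = n26053 := d2_3 F41191 F26556 (iv5 F26893)
theorem F41194 : act 7 n14966 = n26053 := d13_0 F41191 F26559 (iv5 F26681)
def n26054 : Q := act 1 n12350
theorem D26054 : act 1 n12350 = n26054 := rfl
theorem F41195 : act 1 n26054 = n14964 := d15_1 D26054 (iv7 F27322) F27320
theorem F41196 : act 7 n26054 = n14967 := d15_2 (iv0 D26053) D26054 F41193
theorem F41197 : act 5 n26054 = n12379 := d17_7 (iv1 F9120) (iv5 F9121) F9127 F9124 (iv4 F26527) D12350 D26054 F26560 F11458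
theorem F41198 : act 2 n14966 = n26054 := d2_3 F41197 F26561 (iv5 F26681)
def n26055 : Q := act 4 n12350
theorem D26055 : act 4 n12350 = n26055 := rfl
theorem F41199 : act 7 n26055 = n14968 := d11_2 (iv7 F20516) D26055 (iv4 D14968)
theorem F41200 : act 5 n26055 = n15010 := d16_1 D26055 (iv4 D15010) (iv5 D7140) F5225 D3292 (iv4 F26605) D14964 (iv7 F27322) F27320
def n26056 : Q := act 6 n12350
theorem D26056 : act 6 n12350 = n26056 := rfl
theorem F41201 : act 3 n26056 = n12352 := d7_1 D26056 (iv6 D12352) (iv3 F20515)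
def n26057 : Q := act 0 n12352
theorem D26057 : act 0 n12352 = n26057 := rfl
def n26058 : Q := act 1 n12352
theorem D26058 : act 1 n12352 = n26058 := rfl
theorem F41202 : act 1 n26058 = n14892 := d15_1 D26058 (iv7 D14892) (iv2 F20518)
def n26059 : Q := act 5 n12352
theorem D26059 : act 5 n12352 = n26059 := rfl
theorem F41203 : act 2 n26059 = n14891 := d2_1 D26059 (iv5 D14891) (iv2 F20518)
theorem F41204 : act 6 n26059 = n12354 := d12_2 D12352 D26059 (iv5 D12354) (iv6 D5875) D5874
def n26060 : Q := act 7 n12352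
theorem D26060 : act 7 n12352 = n26060 := rfl
theorem F41205 : act 2 n26060 = n14892 := d4_1 D26060 (iv7 D14892) (iv2 F20518)
theorem F41206 : act 6 n26060 = n14976 := d14_1 D26060 (iv7 D14976) (iv6 D7128) (iv7 F9075) D12352
theorem F41207 : act 1 n14892 = n26057 := d15_0 (iv0 D26057) D26060 F41205
theorem F41208 : act 1 n14890 = n26060 := d15_1 D14890 (iv7 D26060) F20518
theorem F41209 : act 1 n26060 = n14889 := d15_0 (iv0 D14889) D14892 (iv2 F41205)
def n26061 : Q := act 3 n12353
theorem D26061 : act 3 n12353 = n26061 := rfl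
theorem F41210 : act 4 n26061 = n14900 := d5_2 (iv4 F20521) D26061 (iv3 D14900) (iv4 D7095) (iv3 F12604)
theorem F41211 : act 7 n26061 = n14893 := d8_2 (iv7 F20520) D26061 (iv3 D14893)
def n26062 : Q := act 4 n12354
theorem D26062 : act 4 n12354 = n26062 := rfl
theorem F41212 : act 2 n26062 = n14896 := d1_1 D26062 (iv4 D14896) (iv2 F20523)
theorem F41213 : act 5 n26062 = n14896 := d16_1 D26062 (iv4 D14896) (iv5 D7088) F5028 D3236 (iv4 F11337) (iv5 F24538) (iv7 D14897) (iv2 F20523)
theorem F41214 : act 0 n26062 = n15880 := d17_0 F25354 (iv1 D15869) D15871 F25339 F20953 F9287 D7433 (iv0 F20524) D26062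
theorem F41215 : act 1 n26062 = n15888 := d18_6 (iv1 F20536) (iv4 D12356) (iv1 D5877) (iv4 F9078) D12354 D26062 (iv4 D15888) F25349 F25348
def n26063 : Q := act 3 n12355
theorem D26063 : act 3 n12355 = n26063 := rfl
theorem F41216 : act 4 n26063 = n14893 := d5_2 D12355 D26063 (iv3 D14893) (iv4 F11584) F12624
theorem F41217 : act 6 n26063 = n12487 := d7_2 (iv6 F20529) D26063 (iv3 D12487)
theorem F41218 : act 7 n26063 = n14900 := d8_2 (iv7 F20530) D26063 (iv3 D14900)
def n26064 : Q := act 3 n12356
theorem D26064 : act 3 n12356 = n26064 := rfl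
theorem F41219 : act 7 n26064 = n14899 := d8_2 (iv7 F20534) D26064 (iv3 D14899)
def n26065 : Q := act 4 n12357
theorem D26065 : act 4 n12357 = n26065 := rfl
theorem F41220 : act 2 n26065 = n14778 := d1_1 D26065 (iv4 D14778) (iv2 F20537)
theorem F41221 : act 7 n26065 = n13691 := d11_2 (iv7 F20538) D26065 (iv4 D13691)
def n26066 : Q := act 6 n12357
theorem D26066 : act 6 n12357 = n26066 := rfl
theorem F41222 : act 2 n26066 = n14779 := d3_1 D26066 (iv6 D14779) (iv2 F20537)
theorem F41223 : act 5 n26066 = n26066 := d12_1 D26066 (iv6 D26066) (iv5 D12357) F19405 D12357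
theorem F41224 : act 7 n26066 = n25327 := d14_2 (iv7 F20538) D26066 (iv6 D25327) (iv7 D12025) (iv6 F10582)
def n26067 : Q := act 4 n12358
theorem D26067 : act 4 n12358 = n26067 := rfl
theorem F41225 : act 2 n26067 = n14789 := d1_1 D26067 (iv4 D14789) F22183
theorem F41226 : act 7 n26067 = n14786 := d11_2 (iv7 F22182) D26067 (iv4 D14786)
def n26068 : Q := act 6 n12358
theorem D26068 : act 6 n12358 = n26068 := rfl
theorem F41227 : act 2 n26068 = n14790 := d3_1 D26068 (iv6 D14790) F22183
theorem F41228 : act 5 n26068 = n13723 := d12_1 D26068 (iv6 D13723) (iv5 F22870) (iv6 F24645) F24646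
theorem F41229 : act 0 n26068 = n25322 := d21_4 F18117 D15012 F24646 D26068 (iv6 D25322) (iv5 D12022) (iv1 D5686) D5687 (iv6 F10582) (iv1 F22226)
def n26069 : Q := act 3 n12359
theorem D26069 : act 3 n12359 = n26069 := rfl
theorem F41230 : act 5 n26069 = n13350 := d6_2 (iv5 F20543) D26069 F22221
theorem F41231 : act 7 n26069 = n14788 := d8_2 F22181 D26069 (iv3 D14788)
theorem F41232 : act 4 n26069 = n25804 := d20_6 (iv4 F24586) (iv1 F24587) (iv4 D11817) (iv3 F11296) (iv1 F20542) D26069 (iv1 F40791) (iv4 D12259) F10132 D11980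
theorem F41233 : act 0 n13475 = n26069 := d18_0 F41232 (iv1 F40791) (iv4 D12259) (iv5 D5814) (iv4 F10128) D5660 D11988 (iv0 F19816) D13475
theorem F41234 : act 1 n24873 = n26069 := d15_0 (iv0 F41233) (iv7 F38469) (iv2 F38996)
def n26070 : Q := act 4 n12359
theorem D26070 : act 4 n12359 = n26070 := rfl
theorem F41235 : act 2 n26070 = n14786 := d1_1 D26070 (iv4 D14786) (iv2 F22180)
theorem F41236 : act 7 n26070 = n14789 := d11_2 F22181 D26070 (iv4 D14789)
def n26071 : Q := act 6 n12359
theorem D26071 : act 6 n12359 = n26071 := rfl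
theorem F41237 : act 2 n26071 = n14787 := d3_1 D26071 (iv6 D14787) (iv2 F22180)
theorem F41238 : act 5 n26071 = n13354 := d12_1 D26071 (iv6 D13354) (iv5 D6333) D6334 (iv5 F20543)
def n26072 : Q := act 0 n12360
theorem D26072 : act 0 n12360 = n26072 := rfl
theorem F41239 : act 4 n26072 = n14397 := d18_3 (iv1 D12359) D12360 D26072 (iv5 F40146) F40145 (iv0 D15012) F11459 (iv0 F22224) (iv5 F20543)
theorem F41240 : act 1 n14780 = n26072 := d15_0 (iv0 D26072) F20544 (iv2 F24422)
theorem F41241 : act 2 n14792 = n26072 := d1_3 F41239 (iv2 F40910) F40913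
theorem F41242 : act 7 n14791 = n26072 := d11_0 F41239 F40142 F40141
def n26073 : Q := act 1 n12360
theorem D26073 : act 1 n12360 = n26073 := rfl
theorem F41243 : act 1 n26073 = n14780 := d15_1 D26073 (iv7 F37948) F37947
theorem F41244 : act 7 n26073 = n14792 := d15_2 (iv0 D26072) D26073 F41241
theorem F41245 : act 4 n26073 = n14398 := d18_7 F11159 (iv4 F11157) (iv1 D5880) F5173 D5882 D12360 D26073 F24046 (iv5 D14370)
theorem F41246 : act 2 n14791 = n26073 := d1_3 F41245 (iv2 F40137) F40141
def n26074 : Q := act 3 n12360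
theorem D26074 : act 3 n12360 = n26074 := rfl
theorem F41247 : act 4 n26074 = n12364 := d5_2 D12360 D26074 (iv3 D12364) (iv4 D5884) (iv3 F9093)
theorem F41248 : act 7 n26074 = n14793 := d8_2 (iv7 F20544) D26074 (iv3 D14793)
def n26075 : Q := act 5 n12360
theorem D26075 : act 5 n12360 = n26075 := rfl
theorem F41249 : act 7 n26075 = n14794 := d13_2 (iv7 F20544) D26075 (iv5 D14794)
def n26076 : Q := act 6 n12360
theorem D26076 : act 6 n12360 = n26076 := rfl
theorem F41250 : act 4 n26076 = n12361 := d10_1 D26076 (iv6 D12361) D12360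
def n26077 : Q := act 0 n12361
theorem D26077 : act 0 n12361 = n26077 := rfl
def n26078 : Q := act 1 n12361
theorem D26078 : act 1 n12361 = n26078 := rfl
theorem F41251 : act 6 n24210 = n26078 := d21_3 F19864 (iv1 F19193) D24210 (iv1 D26078) (iv6 D12361) (iv5 D5882) F19401 D6511 F10576 D12010
theorem F41252 : act 5 n23941 = n26078 := d21_6 (iv5 D13330) (iv1 D6322) D6323 F9853 D11217 D23941 (iv1 D26078) (iv5 F38773) (iv6 D24771) (iv1 F22177)
def n26079 : Q := act 7 n12361
theorem D26079 : act 7 n12361 = n26079 := rfl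
theorem F41253 : act 3 n26079 = n12368 := d8_1 D26079 (iv7 D12368) (iv3 F20545)
theorem F41254 : act 6 n26079 = n14799 := d14_1 D26079 (iv7 D14799) (iv6 D7052) (iv7 F9094) D12361
def n26080 : Q := act 0 n12364
theorem D26080 : act 0 n12364 = n26080 := rfl
theorem F41255 : act 1 n14825 = n26080 := d15_0 (iv0 D26080) F20546 D14825
def n26081 : Q := act 1 n12364
theorem D26081 : act 1 n12364 = n26081 := rfl
def n26082 : Q := act 2 n12364
theorem D26082 : act 2 n12364 = n26082 := rfl
theorem F41256 : act 3 n26082 = n14938 := d0_2 D12364 D26082 (iv2 D14938) (iv3 D7116) (iv2 F9097)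
theorem F41257 : act 7 n26082 = n14825 := d4_2 (iv7 F20546) D26082 (iv2 D14825)
theorem F41258 : act 1 n26082 = n14823 := d15_0 (iv0 D14823) (iv7 F20546) D26082
theorem F41259 : act 1 n26081 = n14825 := d15_1 D26081 (iv7 F41257) (iv2 D26082)
theorem F41260 : act 1 n14824 = n26082 := d15_1 D14824 F41257 (iv2 D14825)
def n26083 : Q := act 6 n12364
theorem D26083 : act 6 n12364 = n26083 := rfl
theorem F41261 : act 3 n26083 = n12365 := d7_1 D26083 (iv6 D12365) D12364
def n26084 : Q := act 0 n12365
theorem D26084 : act 0 n12365 = n26084 := rfl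
def n26085 : Q := act 1 n12365
theorem D26085 : act 1 n12365 = n26085 := rfl
theorem F41262 : act 1 n26085 = n14943 := d15_1 D26085 (iv7 D14943) (iv2 F20547)
def n26086 : Q := act 5 n12365
theorem D26086 : act 5 n12365 = n26086 := rfl
theorem F41263 : act 2 n26086 = n14942 := d2_1 D26086 (iv5 D14942) (iv2 F20547)
def n26087 : Q := act 7 n12365
theorem D26087 : act 7 n12365 = n26087 := rfl
theorem F41264 : act 2 n26087 = n14943 := d4_1 D26087 (iv7 D14943) (iv2 F20547)
theorem F41265 : act 4 n26087 = n12368 := d11_1 D26087 (iv7 D12368) (iv4 F20548)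
theorem F41266 : act 6 n26087 = n14830 := d14_1 D26087 (iv7 D14830) (iv6 D7064) (iv7 F9098) D12365
theorem F41267 : act 1 n14943 = n26084 := d15_0 (iv0 D26084) D26087 F41264
theorem F41268 : act 1 n14941 = n26087 := d15_1 D14941 (iv7 D26087) F20547
theorem F41269 : act 1 n26087 = n14940 := d15_0 (iv0 D14940) D14943 (iv2 F41264)
def n26088 : Q := act 3 n12366
theorem D26088 : act 3 n12366 = n26088 := rfl
theorem F41270 : act 7 n26088 = n14947 := d8_2 (iv7 F20557) D26088 (iv3 D14947)
def n26089 : Q := act 4 n12366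
theorem D26089 : act 4 n12366 = n26089 := rfl
theorem F41271 : act 2 n26089 = n14945 := d1_1 D26089 (iv4 D14945) (iv2 F20558)
theorem F41272 : act 7 n26089 = n14948 := d11_2 (iv7 F20557) D26089 (iv4 D14948)
def n26090 : Q := act 6 n12366
theorem D26090 : act 6 n12366 = n26090 := rfl
theorem F41273 : act 2 n26090 = n14946 := d3_1 D26090 (iv6 D14946) (iv2 F20558)
theorem F41274 : act 5 n26090 = n13765 := d12_1 D26090 (iv6 F23304) F23303 (iv6 F22330) F22329
theorem F41275 : act 7 n26090 = n13764 := d14_2 (iv7 F20557) D26090 F23018 (iv7 F11320) F11439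
def n26091 : Q := act 3 n12367
theorem D26091 : act 3 n12367 = n26091 := rfl
theorem F41276 : act 5 n26091 = n13375 := d6_2 F20551 D26091 F22244
theorem F41277 : act 6 n26091 = n24338 := d7_2 F20550 D26091 F38157
theorem F41278 : act 7 n26091 = n14944 := d8_2 F20559 D26091 (iv3 D14944)
def n26092 : Q := act 4 n12367
theorem D26092 : act 4 n12367 = n26092 := rfl
theorem F41279 : act 2 n26092 = n14948 := d1_1 D26092 (iv4 D14948) (iv2 F20552)
theorem F41280 : act 6 n26092 = n16518 := d10_2 F20550 D26092 F26116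
theorem F41281 : act 7 n26092 = n14945 := d11_2 F20559 D26092 (iv4 D14945)
def n26093 : Q := act 2 n12369
theorem D26093 : act 2 n12369 = n26093 := rfl
def n26094 : Q := act 3 n12369
theorem D26094 : act 3 n12369 = n26094 := rfl
theorem F41283 : act 4 n26094 = n25455 := d20_6 (iv4 D5869) F3855 D2483 D5886 D12369 D26094 (iv1 D25455) F20021 (iv3 D11170) (iv1 F9061)
def n26095 : Q := act 4 n12369
theorem D26095 : act 4 n12369 = n26095 := rfl
def n26096 : Q := act 5 n12369
theorem D26096 : act 5 n12369 = n26096 := rfl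
def n26097 : Q := act 6 n12369
theorem D26097 : act 6 n12369 = n26097 := rfl
def n26098 : Q := act 7 n12369
theorem D26098 : act 7 n12369 = n26098 := rfl
def n26099 : Q := act 3 n12370
theorem D26099 : act 3 n12370 = n26099 := rfl
def n26100 : Q := act 4 n12370
theorem D26100 : act 4 n12370 = n26100 := rfl
theorem F41285 : act 3 n13533 = n26100 := d20_5 F9071 (iv1 D2848) D2849 D6439 D13533 (iv4 D26100) (iv1 D12370) F9100 (iv3 D5886) (iv1 F9069)
def n26101 : Q := act 5 n12370
theorem D26101 : act 5 n12370 = n26101 := rfl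
def n26102 : Q := act 6 n12370
theorem D26102 : act 6 n12370 = n26102 := rfl
def n26103 : Q := act 5 n12371
theorem D26103 : act 5 n12371 = n26103 := rfl
theorem F41286 : act 2 n26103 = n12372 := d2_1 D26103 (iv5 D12372) D12371
theorem F41287 : act 3 n26103 = n14964 := d6_1 D26103 (iv5 D14964) (iv3 F20562)
theorem F41288 : act 7 n26103 = n14879 := d13_2 (iv7 F20564) D26103 (iv5 D14879)
theorem F41289 : act 1 n14882 = n26103 := d15_1 D14882 F41288 F24524
theorem F41290 : act 1 n26103 = n14881 := d15_0 (iv0 D14881) (iv7 F20569) (iv2 F41286)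
def n26104 : Q := act 0 n12372
theorem D26104 : act 0 n12372 = n26104 := rfl
theorem F41291 : act 1 n14879 = n26104 := d15_0 (iv0 D26104) F20569 (iv2 F24524)
def n26105 : Q := act 1 n12372
theorem D26105 : act 1 n12372 = n26105 := rfl
theorem F41292 : act 1 n26105 = n14879 := d15_1 D26105 (iv7 F41288) F41286
def n26106 : Q := act 4 n12372
theorem D26106 : act 4 n12372 = n26106 := rfl
theorem F41293 : act 7 n26106 = n14883 := d11_2 (iv7 F20569) D26106 (iv4 D14883)
def n26107 : Q := act 6 n12372
theorem D26107 : act 6 n12372 = n26107 := rfl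
theorem F41294 : act 3 n26107 = n12373 := d7_1 D26107 (iv6 D12373) (iv3 F20568)
def n26108 : Q := act 0 n12373
theorem D26108 : act 0 n12373 = n26108 := rfl
def n26109 : Q := act 1 n12373
theorem D26109 : act 1 n12373 = n26109 := rfl
theorem F41295 : act 1 n26109 = n14976 := d15_1 D26109 (iv7 D14976) (iv2 F20570)
def n26110 : Q := act 7 n12373
theorem D26110 : act 7 n12373 = n26110 := rfl
theorem F41296 : act 2 n26110 = n14976 := d4_1 D26110 (iv7 D14976) (iv2 F20570)
theorem F41297 : act 6 n26110 = n14892 := d14_1 D26110 (iv7 D14892) (iv6 D7085) (iv7 F9103) D12373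
theorem F41298 : act 1 n14976 = n26108 := d15_0 (iv0 D26108) D26110 F41296
theorem F41299 : act 1 n14974 = n26110 := d15_1 D14974 (iv7 D26110) F20570
theorem F41300 : act 1 n26110 = n14973 := d15_0 (iv0 D14973) D14976 (iv2 F41296)
def n26111 : Q := act 3 n12378
theorem D26111 : act 3 n12378 = n26111 := rfl
theorem F41301 : act 6 n26111 = n12571 := d7_2 (iv6 F26558) D26111 (iv3 D12571)
theorem F41302 : act 7 n26111 = n15007 := d8_2 (iv7 F26559) D26111 (iv3 D15007)
def n26112 : Q := act 3 n12379
theorem D26112 : act 3 n12379 = n26112 := rfl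
theorem F41303 : act 4 n26112 = n15017 := d5_2 (iv4 F26562) D26112 (iv3 D15017) (iv4 D7146) (iv3 F12647)
theorem F41304 : act 6 n26112 = n12536 := d7_2 (iv6 F26563) D26112 (iv3 D12536)
theorem F41305 : act 7 n26112 = n15005 := d8_2 (iv7 F26564) D26112 (iv3 D15005)
theorem F41306 : act 0 n26112 = n13556 := d20_10 (iv4 D13556) D13553 F22723 (iv3 F20687) (iv1 F20689) (iv3 F26897) F20664 F12568 (iv4 F26562) D26112
def n26113 : Q := act 4 n12381
theorem D26113 : act 4 n12381 = n26113 := rfl
theorem F41307 : act 2 n26113 = n15010 := d1_1 D26113 (iv4 D15010) (iv2 F26569)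
theorem F41308 : act 7 n26113 = n15043 := d11_2 (iv7 F20592) D26113 (iv4 D15043)
theorem F41309 : act 0 n26113 = n16682 := d18_2 F26635 D26113 (iv4 D16682) (iv5 D7759) F5528 D3520 (iv4 F26570) D7124 D14962
def n26114 : Q := act 6 n12381
theorem D26114 : act 6 n12381 = n26114 := rfl
theorem F41310 : act 2 n26114 = n15003 := d3_1 D26114 F24639 (iv2 F26569)
theorem F41311 : act 3 n26114 = n12383 := d7_1 D26114 (iv6 D12383) (iv3 F20591)
theorem F41312 : act 5 n26114 = n12383 := d12_1 D26114 (iv6 D12383) (iv5 D5892) F26566 D12381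
def n26115 : Q := act 0 n12383
theorem D26115 : act 0 n12383 = n26115 := rfl
def n26116 : Q := act 1 n12383
theorem D26116 : act 1 n12383 = n26116 := rfl
theorem F41313 : act 1 n26116 = n15004 := d15_1 D26116 (iv7 D15004) (iv2 F20594)
def n26117 : Q := act 7 n12383
theorem D26117 : act 7 n12383 = n26117 := rfl
theorem F41314 : act 2 n26117 = n15004 := d4_1 D26117 (iv7 D15004) (iv2 F20594)
theorem F41315 : act 6 n26117 = n15052 := d14_1 D26117 (iv7 D15052) (iv6 D7158) (iv7 F9114) D12383
theorem F41316 : act 1 n15004 = n26115 := d15_0 (iv0 D26115) D26117 F41314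
theorem F41317 : act 1 n15002 = n26117 := d15_1 D15002 (iv7 D26117) F20594
theorem F41318 : act 1 n26117 = n15001 := d15_0 (iv0 D15001) D15004 (iv2 F41314)
def n26118 : Q := act 5 n12388
theorem D26118 : act 5 n12388 = n26118 := rfl
theorem F41319 : act 2 n26118 = n15016 := d2_1 D26118 (iv5 D15016) (iv2 F20611)
theorem F41320 : act 7 n26118 = n15018 := d13_2 (iv7 F20613) D26118 (iv5 D15018)
theorem F41321 : act 0 n26118 = n15270 := d17_2 F20621 D26118 (iv5 D15270) (iv4 F12039) (iv5 F5626) D6449 (iv5 F12089) (iv0 F12091) (iv4 F9148)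
theorem F41322 : act 1 n26118 = n15268 := d17_6 D3329 (iv5 F9124) (iv1 F9126) (iv5 F9118) D12388 D26118 (iv5 D15268) (iv0 D7230) F5317
def n26119 : Q := act 5 n12389
theorem D26119 : act 5 n12389 = n26119 := rfl
theorem F41323 : act 2 n26119 = n15018 := d2_1 D26119 (iv5 D15018) (iv2 F20616)
theorem F41324 : act 3 n26119 = n15098 := d6_1 D26119 (iv5 D15098) F26969
theorem F41325 : act 7 n26119 = n15016 := d13_2 (iv7 F20618) D26119 (iv5 D15016)
theorem F41326 : act 0 n26119 = n15268 := d17_2 (iv1 F20620) D26119 (iv5 D15268) (iv4 F12535) D7928 (iv0 F12569) (iv5 F12697) F12700 (iv4 F11509)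
theorem F41327 : act 1 n26119 = n15270 := d17_6 F5522 (iv5 D3292) D3290 F9121 D12389 D26119 (iv5 D15270) F12038 F12036
def n26120 : Q := act 2 n12390
theorem D26120 : act 2 n12390 = n26120 := rfl
theorem F41328 : act 7 n12391 = n26120 := d15_2 (iv0 D12390) D12391 (iv2 D26120)
def n26121 : Q := act 3 n12390
theorem D26121 : act 3 n12390 = n26121 := rfl
theorem F41329 : act 4 n26121 = n25478 := d20_6 F2575 (iv1 F2115) D2493 D5897 D12390 D26121 (iv1 D25478) F20032 (iv3 D5902) (iv1 F3945)
theorem F41330 : act 6 n12548 = n26121 := d10_0 F41329 F40416 (iv4 F20904)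
theorem E4780 : n12550 = n12390 := ((c7_2 F41330 (iv3 D26121) (iv6 D12550) D12548)).symm
theorem E4781 : n26120 = n7373 := ((D26120).symm.trans (sb E4780 F25558))
theorem E4782 : n16185 = n15156 := ((((iv4 F24765)).symm.trans (sb E4780 (iv4 F25714)))).symm
theorem F41331 : act 6 n12390 = n5965 := (sb E4780 (iv6 D12550))
theorem F41332 : act 2 n7373 = n12390 := (sb E4781 (iv2 D26120))
theorem E4783 : n15673 = n12391 := ((D15673).symm.trans (sb E4781 (iv7 F41328)))
theorem F41333 : act 2 n15156 = n15669 := (sb E4782 F25713)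
theorem F41334 : act 6 n15156 = n7548 := (sb E4782 (iv6 D16185))
theorem F41335 : act 7 n12391 = n7373 := (sb E4783 (iv7 D15673))
theorem F41336 : act 7 n15669 = n15060 := d11_2 F41335 (iv4 F25164) F24693
theorem E4784 : n15064 = n12610 := (c8_3 F41336 (iv3 D15060) D15064 (iv3 F25163))
theorem E4785 : n7464 = n7167 := ((F25538).symm.trans (sb E4784 F24694))
theorem F41337 : act 7 n12610 = n7166 := (sb E4784 (iv7 D15064))
theorem F41338 : act 2 n7167 = n12610 := (sb E4785 (iv2 F25538))
theorem E4788 : n15918 = n15065 := (((D15065).symm.trans (sb E4785 (iv3 F25386)))).symm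
theorem E4789 : n15920 = n15066 := (((D15066).symm.trans (sb E4785 (iv4 F25387)))).symm
theorem E4791 : n15068 = n3412 := ((D15068).symm.trans (sb E4785 (iv6 D7464)))
theorem F41339 : act 6 n15065 = n7461 := (sb E4788 (iv6 D15918))
theorem E4793 : n25595 = n25490 := ((((iv3 F40310)).symm.trans (sb E4789 (iv3 F40498)))).symm
theorem F41340 : act 6 n15066 = n7462 := (sb E4789 (iv6 D15920))
theorem F41341 : act 6 n3412 = n7167 := (sb E4791 (iv6 D15068))
theorem F41342 : act 6 n25490 = n12170 := (sb E4793 (iv6 D25595))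
theorem F41343 : act 0 n15082 = n16986 := d21_7 (iv5 F21129) (iv1 F30293) (iv5 D7463) F41341 (iv1 D7167) D7171 D15082 (iv5 D16986) (iv6 D7933) (iv1 F9535)
theorem E4794 : n15912 = n15063 := ((c14_2 F41337 D15063 (iv7 D15912) (iv6 D7459) F25539 D12610)).symm
theorem F41344 : act 7 n15063 = n7459 := (sb E4794 (iv7 D15912))
theorem F41345 : act 5 n14989 = n12502 := d21_8 D5947 D12505 F27194 (iv6 F41331) (iv1 F20622) (iv6 F26627) D7133 D14989 (iv6 D12502) (iv1 D5945)
theorem F41346 : act 0 n14987 = n15347 := d21_1 D14987 (iv5 D15347) (iv6 D7256) (iv1 F9225) (iv6 F26467) D5947 D12505 F27194 (iv6 F41331) (iv1 F20622)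
theorem E4795 : n15670 = n3284 := (c21_5 D12503 (iv1 F20827) F24947 D7373 D15670 F26627 D14987 F41346 (iv5 D15347) (iv6 D7256) (iv1 F9225))
theorem E4796 : n7373 = n7131 := (((D7131).symm.trans (sb E4795 (iv0 D15670)))).symm
theorem E4798 : n14982 = n12390 := (((iv2 F24623)).symm.trans (sb E4796 F41332))
theorem E4799 : n15667 = n14983 := (((D14983).symm.trans (sb E4796 (iv3 F25161)))).symm
theorem E4800 : n15669 = n14984 := (((D14984).symm.trans (sb E4796 (iv4 F25164)))).symm
theorem E4802 : n14986 = n3382 := ((D14986).symm.trans (sb E4796 (iv6 D7373)))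
theorem E4803 : n14977 = n12391 := ((F24622).symm.trans (sb E4796 (iv7 F41335)))
theorem F41347 : act 2 n12390 = n7131 := (sb E4798 F24623)
theorem F41348 : act 7 n12390 = n7130 := (sb E4798 (iv7 D14982))
theorem F41349 : act 6 n14983 = n7370 := (sb E4799 (iv6 D15667))
theorem F41350 : act 2 n14984 = n15156 := (sb E4800 (iv2 F41333))
theorem E4804 : n12610 = n12407 := ((((iv3 F24624)).symm.trans (sb E4800 F25163))).symm
theorem F41351 : act 6 n14984 = n7371 := (sb E4800 (iv6 D15669))
theorem F41352 : act 7 n14984 = n15060 := (sb E4800 F41336)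
theorem F41353 : act 6 n3382 = n7131 := (sb E4802 (iv6 D14986))
theorem F41354 : act 2 n12391 = n7130 := (sb E4803 (iv2 D14977))
theorem F41355 : act 7 n12391 = n7131 := (sb E4803 (iv7 F24622))
theorem F41356 : act 2 n12407 = n7167 := (sb E4804 (iv2 F41338))
theorem F41357 : act 6 n12407 = n5989 := (sb E4804 (iv6 D12610))
theorem F41358 : act 7 n12407 = n7166 := (sb E4804 F41337)
theorem E4805 : n15059 = n12408 := (c15_4 F20672 F20668 F41358 D15059)
theorem F41359 : act 2 n12408 = n7166 := (sb E4805 (iv2 D15059))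
theorem F41360 : act 7 n12408 = n7167 := (sb E4805 (iv7 F24692))
theorem F41361 : act 2 n14979 = n15060 := d1_3 F24693 F41354 D14979
theorem F41362 : act 7 n15156 = n14979 := d4_0 F41361 (iv7 F41352) F41350
theorem F41363 : act 7 n14978 = n26121 := d8_2 F41348 D14978 (iv3 D26121)
theorem E4806 : n14981 = n12562 := (c14_2 F41348 D14981 F27202 (iv6 D7368) F25560 (iv6 F41331))
theorem F41364 : act 6 n12562 = n7130 := (sb E4806 (iv6 D14981))
theorem F41365 : act 7 n25478 = n15109 := d11_2 F41363 F41329 (iv4 F24723)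
theorem F41366 : act 2 n15109 = n25477 := d4_1 F41365 F40418 F40417
theorem E4807 : n16038 = n15108 := (c15_4 (iv0 D15108) D15109 (iv7 F41365) (iv2 F40417))
theorem F41367 : act 2 n15108 = n25478 := (sb E4807 F40417)
theorem F41368 : act 6 n15108 = n7499 := (sb E4807 (iv6 D16038))
theorem F41369 : act 7 n15108 = n25477 := (sb E4807 (iv7 F40418))
theorem F41370 : act 2 n15347 = n14989 := d2_3 F41345 F27231 D15347
theorem F41371 : act 7 n14990 = n15347 := d15_2 (iv0 D14989) D14990 F41370
theorem F41372 : act 5 n15348 = n14990 := d13_3 F41371 (iv5 D15347) D15348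
def n26122 : Q := act 5 n12390
theorem D26122 : act 5 n12390 = n26122 := rfl
theorem F41373 : act 2 n26122 = n14985 := d2_1 D26122 (iv5 D14985) (iv2 F41347)
theorem F41374 : act 7 n26122 = n14980 := d13_2 (iv7 F41348) D26122 (iv5 D14980)
def n26123 : Q := act 3 n12391
theorem D26123 : act 3 n12391 = n26123 := rfl
theorem F41375 : act 7 n26123 = n14983 := d8_2 (iv7 F41355) D26123 (iv3 D14983)
theorem F41376 : act 0 n13555 = n26123 := d20_4 (iv4 F41303) F41306 (iv4 D13556) D13555 (iv3 D26123) (iv4 F24693) F24794 (iv4 F24791) F24789 (iv1 F26798)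
def n26124 : Q := act 5 n12391
theorem D26124 : act 5 n12391 = n26124 := rfl
theorem F41377 : act 2 n26124 = n14980 := d2_1 D26124 (iv5 D14980) (iv2 F41354)
theorem F41378 : act 7 n26124 = n14985 := d13_2 (iv7 F41355) D26124 (iv5 D14985)
def n26125 : Q := act 6 n12391
theorem D26125 : act 6 n12391 = n26125 := rfl
theorem F41379 : act 2 n26125 = n12562 := d3_1 D26125 F41364 (iv2 F41354)
theorem F41380 : act 7 n26125 = n12554 := d14_2 (iv7 F41355) D26125 (iv6 D12554) F25553 F41353
theorem F41381 : act 1 n12556 = n26125 := d15_1 (iv0 F27208) F41380 F25564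
theorem F41382 : act 1 n26125 = n12564 := d15_1 F41381 (iv7 D12564) (iv2 F20911)
def n26126 : Q := act 5 n12392
theorem D26126 : act 5 n12392 = n26126 := rfl
theorem F41383 : act 2 n26126 = n12393 := d2_1 D26126 (iv5 D12393) D12392
theorem F41384 : act 3 n26126 = n15011 := d6_1 D26126 F24643 (iv3 F26585)
theorem F41385 : act 7 n26126 = n14987 := d13_2 (iv7 F20625) D26126 (iv5 D14987)
theorem F41386 : act 1 n14990 = n26126 := d15_1 D14990 F41385 F24625
theorem F41387 : act 1 n12393 = n15347 := d15_0 (iv0 F41346) (iv7 F41385) F41383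
theorem F41389 : act 1 n26126 = n14989 := d15_0 (iv0 D14989) (iv7 F20630) (iv2 F41383)
def n26127 : Q := act 6 n12392
theorem D26127 : act 6 n12392 = n26127 := rfl
theorem F41390 : act 2 n26127 = n12394 := d3_1 D26127 (iv6 D12394) D12392
theorem F41391 : act 3 n26127 = n12397 := d7_1 D26127 F20639 (iv3 F26585)
theorem F41392 : act 4 n26127 = n26127 := d10_1 D26127 (iv6 D26127) F20624
theorem F41393 : act 7 n26127 = n12394 := d14_2 (iv7 F20625) D26127 (iv6 D12394) F9129 F26627
def n26129 : Q := act 4 n12393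
theorem D26129 : act 4 n12393 = n26129 := rfl
theorem F41397 : act 7 n26129 = n14991 := d11_2 (iv7 F20630) D26129 (iv4 D14991)
def n26130 : Q := act 6 n12393
theorem D26130 : act 6 n12393 = n26130 := rfl
theorem F41398 : act 3 n26130 = n12395 := d7_1 D26130 (iv6 D12395) (iv3 F20629)
def n26131 : Q := act 0 n12394
theorem D26131 : act 0 n12394 = n26131 := rfl
theorem F41399 : act 5 n26131 = n15395 := d21_0 F26943 (iv5 D7270) (iv6 D3340) D3336 D7256 D15347 (iv1 F41387) (iv5 D12393) D12394 D26131
theorem F41400 : act 1 n12394 = n26131 := d15_0 (iv0 D26131) (iv7 F41393) F41390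
theorem F41401 : act 6 n13905 = n26131 := d21_5 D7255 F20918 (iv5 D7374) (iv6 F10704) D13905 F41399 F26943 (iv5 D7270) (iv6 D3340) D3336
def n26132 : Q := act 5 n12394
theorem D26132 : act 5 n12394 = n26132 := rfl
theorem F41402 : act 3 n26132 = n12396 := d6_1 D26132 (iv5 D12396) (iv3 F20631)
theorem F41403 : act 4 n21521 = n26132 := d5_0 F41402 F26906 F25311 (iv4 F16274) (iv3 F33852)
def n26133 : Q := act 0 n12395
theorem D26133 : act 0 n12395 = n26133 := rfl
def n26134 : Q := act 1 n12395
theorem D26134 : act 1 n12395 = n26134 := rfl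
theorem F41404 : act 1 n26134 = n15052 := d15_1 D26134 (iv7 D15052) (iv2 F20633)
def n26135 : Q := act 5 n12395
theorem D26135 : act 5 n12395 = n26135 := rfl
theorem F41405 : act 2 n26135 = n15051 := d2_1 D26135 (iv5 D15051) (iv2 F20633)
theorem F41406 : act 6 n26135 = n12396 := d12_2 D12395 D26135 (iv5 D12396) (iv6 D5899) D5898
def n26136 : Q := act 7 n12395
theorem D26136 : act 7 n12395 = n26136 := rfl
theorem F41407 : act 2 n26136 = n15052 := d4_1 D26136 (iv7 D15052) (iv2 F20633)
theorem F41408 : act 6 n26136 = n15004 := d14_1 D26136 (iv7 D15004) (iv6 D7137) (iv7 F9131) D12395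
theorem F41409 : act 1 n15052 = n26133 := d15_0 (iv0 D26133) D26136 F41407
theorem F41410 : act 1 n15050 = n26136 := d15_1 D15050 (iv7 D26136) F20633
theorem F41411 : act 1 n26136 = n15049 := d15_0 (iv0 D15049) D15052 (iv2 F41407)
def n26137 : Q := act 3 n12398
theorem D26137 : act 3 n12398 = n26137 := rfl
theorem F41412 : act 5 n26137 = n17017 := d6_2 (iv5 F20648) D26137 (iv3 D17017)
theorem F41413 : act 6 n26137 = n12597 := d7_2 (iv6 F20646) D26137 F26988
theorem F41414 : act 7 n26137 = n13867 := d8_2 (iv7 F20647) D26137 F23132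
theorem F41415 : act 0 n12426 = n26137 := d20_4 F11479 (iv1 F10523) (iv4 F11513) (iv3 F26899) (iv3 D26137) (iv4 D12398) (iv1 F9138) (iv4 F26450) F11478 D7159
theorem F41416 : act 1 n15107 = n26137 := d15_0 (iv0 F41415) F26900 (iv2 F24722)
def n26138 : Q := act 4 n12399
theorem D26138 : act 4 n12399 = n26138 := rfl
theorem F41417 : act 2 n26138 = n15102 := d1_1 D26138 (iv4 D15102) (iv2 F26975)
theorem F41418 : act 3 n26138 = n15014 := d5_1 D26138 (iv4 D15014) (iv3 D7143) D7144 (iv3 F26958)
theorem F41419 : act 6 n26138 = n15882 := d10_2 (iv6 F26959) D26138 F25355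
theorem F41420 : act 7 n26138 = n15097 := d11_2 (iv7 F26976) D26138 (iv4 D15097)
def n26139 : Q := act 5 n12399
theorem D26139 : act 5 n12399 = n26139 := rfl
theorem F41421 : act 2 n26139 = n15103 := d2_1 D26139 (iv5 D15103) (iv2 F26975)
theorem F41422 : act 3 n26139 = n15016 := d6_1 D26139 (iv5 D15016) (iv3 F26958)
theorem F41423 : act 7 n26139 = n15098 := d13_2 (iv7 F26976) D26139 (iv5 D15098)
theorem F41424 : act 0 n12436 = n26139 := d21_1 (iv5 F20702) (iv5 D26139) F26959 (iv1 F26795) (iv6 D12668) (iv5 F21075) F27125 F12395 D15262 (iv1 F26918)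
theorem F41425 : act 1 n15210 = n26139 := d15_0 (iv0 F41424) F20703 D15210
def n26140 : Q := act 4 n12400
theorem D26140 : act 4 n12400 = n26140 := rfl
theorem F41426 : act 2 n26140 = n15097 := d1_1 D26140 (iv4 D15097) (iv2 F26970)
theorem F41427 : act 6 n26140 = n12588 := d10_2 (iv6 F26957) D26140 (iv4 D12588)
theorem F41428 : act 7 n26140 = n15102 := d11_2 (iv7 F26971) D26140 (iv4 D15102)
def n26141 : Q := act 5 n12400
theorem D26141 : act 5 n12400 = n26141 := rfl
theorem F41429 : act 2 n26141 = n15098 := d2_1 D26141 (iv5 D15098) (iv2 F26970)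
theorem F41430 : act 7 n26141 = n15103 := d13_2 (iv7 F26971) D26141 (iv5 D15103)
theorem F41431 : act 0 n15210 = n26141 := d21_7 D5984 (iv1 F26756) (iv5 D8159) (iv6 F26505) D14079 F26828 (iv5 F24822) (iv5 D26141) F26957 (iv1 D5982)
theorem F41432 : act 1 n12436 = n26141 := d15_1 (iv0 F41424) F41430 (iv2 F41421)
def n26142 : Q := act 5 n12401
theorem D26142 : act 5 n12401 = n26142 := rfl
theorem F41433 : act 2 n26142 = n12402 := d2_1 D26142 (iv5 D12402) D12401
theorem F41434 : act 3 n26142 = n15070 := d6_1 D26142 (iv5 D15070) (iv3 F20652)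
theorem F41435 : act 7 n26142 = n15106 := d13_2 (iv7 F20653) D26142 (iv5 D15106)
theorem F41436 : act 1 n15113 = n26142 := d15_1 D15113 F41435 F24721
theorem F41437 : act 5 n15113 = n15262 := d21_2 D26142 (iv1 F41436) (iv6 D15262) F26771 (iv6 D3676) (iv5 F5431) (iv1 F27123) (iv5 D7489) F26974 (iv1 F20654)
theorem F41438 : act 2 n15265 = n15113 := d2_3 F41437 F24854 D15265
theorem F41439 : act 1 n26142 = n15112 := d15_0 (iv0 D15112) (iv7 F20658) (iv2 F41433)
theorem F41440 : act 7 n15112 = n15265 := d15_2 F41436 F41439 F41438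
theorem F41441 : act 3 n15273 = n15112 := d8_3 F41440 F24855 D15273
theorem F41442 : act 5 n15266 = n15112 := d13_3 F41440 (iv5 D15265) D15266
def n26143 : Q := act 1 n12402
theorem D26143 : act 1 n12402 = n26143 := rfl
theorem F41443 : act 1 n26143 = n15106 := d15_1 D26143 (iv7 F41435) F41433
theorem F41444 : act 7 n26143 = n15113 := d15_2 (iv0 F26928) D26143 (iv2 F41438)
theorem F41445 : act 2 n15112 = n26143 := d4_3 F41444 (iv2 F41438) (iv7 F41440)
theorem F41446 : act 5 n13545 = n26143 := d13_3 F41444 F41437 (iv7 F26914)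
def n26144 : Q := act 4 n12402
theorem D26144 : act 4 n12402 = n26144 := rfl
theorem F41447 : act 7 n26144 = n15114 := d11_2 (iv7 F20658) D26144 (iv4 D15114)
def n26145 : Q := act 6 n12402
theorem D26145 : act 6 n12402 = n26145 := rfl
theorem F41448 : act 3 n26145 = n12404 := d7_1 D26145 (iv6 D12404) (iv3 F20657)
def n26146 : Q := act 5 n12403
theorem D26146 : act 5 n12403 = n26146 := rfl
theorem F41449 : act 2 n26146 = n12420 := d2_1 D26146 (iv5 D12420) (iv2 F26901)
theorem F41450 : act 3 n26146 = n12405 := d6_1 D26146 (iv5 D12405) (iv3 F20659)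
theorem F41451 : act 7 n26146 = n12425 := d13_2 (iv7 F26902) D26146 (iv5 D12425)
theorem F41452 : act 0 n26146 = n15084 := d21_1 D26146 F24705 F26473 (iv1 F9438) F26653 F25983 (iv1 F9341) (iv5 D6013) (iv6 F9155) (iv1 F26925)
theorem F41453 : act 1 n14851 = n12425 := d15_1 F28389 (iv7 F41451) F41449
def n26147 : Q := act 0 n12404
theorem D26147 : act 0 n12404 = n26147 := rfl
def n26148 : Q := act 1 n12404
theorem D26148 : act 1 n12404 = n26148 := rfl
theorem F41454 : act 1 n26148 = n15091 := d15_1 D26148 (iv7 D15091) (iv2 F20660)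
def n26149 : Q := act 5 n12404
theorem D26149 : act 5 n12404 = n26149 := rfl
theorem F41455 : act 2 n26149 = n15090 := d2_1 D26149 (iv5 D15090) (iv2 F20660)
theorem F41456 : act 6 n26149 = n12405 := d12_2 D12404 D26149 (iv5 D12405) (iv6 D5904) D5903
def n26150 : Q := act 7 n12404
theorem D26150 : act 7 n12404 = n26150 := rfl
theorem F41457 : act 2 n26150 = n15091 := d4_1 D26150 (iv7 D15091) (iv2 F20660)
theorem F41458 : act 6 n26150 = n15123 := d14_1 D26150 (iv7 D15123) (iv6 D7185) (iv7 F9146) D12404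
theorem F41459 : act 1 n15091 = n26147 := d15_0 (iv0 D26147) D26150 F41457
theorem F41460 : act 1 n15089 = n26150 := d15_1 D15089 (iv7 D26150) F20660
theorem F41461 : act 1 n26150 = n15088 := d15_0 (iv0 D15088) D15091 (iv2 F41457)
def n26151 : Q := act 4 n12405
theorem D26151 : act 4 n12405 = n26151 := rfl
theorem F41462 : act 2 n26151 = n15093 := d1_1 D26151 (iv4 D15093) (iv2 F20661)
theorem F41463 : act 0 n26151 = n15302 := d18_2 (iv1 F24866) D26151 (iv4 D15302) (iv5 D7244) F5323 D6069 (iv4 F12558) F12058 (iv5 F24865)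
def n26152 : Q := act 4 n12407
theorem D26152 : act 4 n12407 = n26152 := rfl
theorem F41464 : act 2 n26152 = n15066 := d1_1 D26152 (iv4 D15066) (iv2 F41356)
theorem F41465 : act 6 n26152 = n12608 := d10_2 (iv6 F41357) D26152 (iv4 D12608)
theorem F41466 : act 7 n26152 = n15061 := d11_2 (iv7 F41358) D26152 (iv4 D15061)
def n26153 : Q := act 5 n12407
theorem D26153 : act 5 n12407 = n26153 := rfl
theorem F41467 : act 2 n26153 = n15067 := d2_1 D26153 (iv5 D15067) (iv2 F41356)
theorem F41468 : act 7 n26153 = n15062 := d13_2 (iv7 F41358) D26153 (iv5 D15062)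
def n26154 : Q := act 3 n12408
theorem D26154 : act 3 n12408 = n26154 := rfl
theorem F41469 : act 2 n26154 = n15080 := d0_1 D26154 F26819 F41361 (iv3 D15060) (iv2 F41359)
theorem F41470 : act 7 n26154 = n15065 := d8_2 (iv7 F41360) D26154 (iv3 D15065)
theorem E4808 : n15081 = n15065 := (c15_2 (iv0 D15080) D15081 (iv7 F41470) F41469)
theorem F41471 : act 0 n15065 = n7171 := (sb E4808 (iv1 D15081))
theorem E4809 : n18631 = n15917 := (c21_8 D15082 F41343 (iv5 D16986) (iv6 D7933) (iv1 F9535) D12935 F26652 D18631 (iv5 D15917) (iv6 F41339) F41471)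
theorem F41472 : act 1 n15917 = n8747 := (sb E4809 (iv0 D18631))
def n26155 : Q := act 4 n12408
theorem D26155 : act 4 n12408 = n26155 := rfl
theorem F41473 : act 2 n26155 = n15061 := d1_1 D26155 (iv4 D15061) (iv2 F41359)
theorem F41474 : act 7 n26155 = n15066 := d11_2 (iv7 F41360) D26155 (iv4 D15066)
def n26156 : Q := act 5 n12408
theorem D26156 : act 5 n12408 = n26156 := rfl
theorem F41475 : act 2 n26156 = n15062 := d2_1 D26156 (iv5 D15062) (iv2 F41359)
theorem F41476 : act 7 n26156 = n15067 := d13_2 (iv7 F41360) D26156 (iv5 D15067)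
def n26157 : Q := act 6 n12408
theorem D26157 : act 6 n12408 = n26157 := rfl
theorem F41477 : act 2 n26157 = n15063 := d3_1 D26157 (iv6 D15063) (iv2 F41359)
theorem F41478 : act 7 n26157 = n12615 := d14_2 (iv7 F41360) D26157 (iv6 D12615) F25541 F41341
theorem F41479 : act 1 n12746 = n26157 := d15_1 (iv0 F27203) F41478 F25549
theorem F41480 : act 1 n26157 = n15909 := d15_0 (iv0 D15909) (iv7 F41344) (iv2 F41477)
def n26158 : Q := act 4 n12409
theorem D26158 : act 4 n12409 = n26158 := rfl
theorem F41481 : act 2 n26158 = n12410 := d1_1 D26158 (iv4 D12410) D12409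
theorem F41482 : act 3 n26158 = n20007 := d5_1 D26158 F31835 F31819 (iv4 D15105) (iv3 F20669)
theorem F41483 : act 7 n26158 = n15069 := d11_2 (iv7 F20670) D26158 (iv4 D15069)
theorem F41484 : act 0 n26158 = n15073 := d20_1 D26158 F26624 (iv3 D15007) (iv1 D7139) (iv3 F26602) F11446 (iv1 F20627) (iv4 F24693) (iv3 D15060) (iv1 F20671)
theorem F41485 : act 6 n20005 = n26158 := d21_3 F32535 (iv1 D20002) D20005 F41484 F26625 D15941 F30294 (iv5 D7900) D7901 D16935
theorem F41486 : act 1 n26158 = n15072 := d15_0 (iv0 D15072) (iv7 F20675) (iv2 F41481)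
def n26159 : Q := act 5 n12409
theorem D26159 : act 5 n12409 = n26159 := rfl
theorem F41487 : act 2 n26159 = n12411 := d2_1 D26159 (iv5 D12411) D12409
theorem F41488 : act 3 n26159 = n15106 := d6_1 D26159 (iv5 D15106) (iv3 F20669)
theorem F41489 : act 7 n26159 = n15070 := d13_2 (iv7 F20670) D26159 (iv5 D15070)
theorem F41490 : act 1 n15077 = n26159 := d15_1 D15077 F41489 F24696
theorem F41491 : act 1 n26159 = n15076 := d15_0 (iv0 D15076) (iv7 F20677) (iv2 F41487)
def n26160 : Q := act 6 n12409
theorem D26160 : act 6 n12409 = n26160 := rfl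
theorem F41492 : act 2 n26160 = n12412 := d3_1 D26160 (iv6 D12412) D12409
theorem F41493 : act 3 n26160 = n15107 := d7_1 D26160 (iv6 D15107) (iv3 F20669)
theorem F41494 : act 4 n26160 = n20005 := d10_1 D26160 F41485 (iv4 D26158)
def n26161 : Q := act 0 n12410
theorem D26161 : act 0 n12410 = n26161 := rfl
theorem F41495 : act 3 n26161 = n26140 := d20_5 F18231 (iv1 F10271) (iv4 F18044) (iv3 F20674) D26161 (iv4 D26140) (iv1 D12400) (iv4 F20032) (iv3 D12110) (iv1 F18233)
theorem F41496 : act 1 n15069 = n26161 := d15_0 (iv0 D26161) F20675 (iv2 F24695)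
theorem F41497 : act 6 n12619 = n26161 := d7_0 F41495 F41427 (iv3 F21012)
theorem F41498 : act 7 n15072 = n26161 := d8_0 F41495 F41428 (iv3 F24719)
theorem F41499 : act 2 n26161 = n15073 := d15_3 (iv0 F41484) F41486 F41498
def n26162 : Q := act 1 n12410
theorem D26162 : act 1 n12410 = n26162 := rfl
theorem F41500 : act 1 n26162 = n15069 := d15_1 D26162 (iv7 F41483) F41481
theorem F41501 : act 7 n26162 = n15073 := d15_2 (iv0 D26161) D26162 (iv2 F41499)
theorem F41502 : act 3 n25488 = n26162 := d20_3 F20034 D12113 D25488 (iv1 D26162) F20674 F18044 F10270 D5142 D11209 F26921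
theorem F41503 : act 4 n26111 = n26162 := d20_6 (iv4 D1165) D1163 D2488 D5891 D12378 D26111 (iv1 D26162) (iv4 D12410) (iv3 D5905) (iv1 D2496)
theorem F41504 : act 6 n26162 = n25622 := d10_2 (iv6 F41301) F41503 F40523
theorem F41505 : act 2 n26162 = n15072 := d0_1 F41502 F24719 (iv2 F41417) F41418 (iv2 F40303)
def n26163 : Q := act 5 n12410
theorem D26163 : act 5 n12410 = n26163 := rfl
theorem F41506 : act 3 n26163 = n23744 := d6_1 D26163 (iv5 D23744) (iv3 F20674)
theorem F41507 : act 7 n26163 = n15074 := d13_2 (iv7 F20675) D26163 (iv5 D15074)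
def n26164 : Q := act 6 n12410
theorem D26164 : act 6 n12410 = n26164 := rfl
theorem F41508 : act 2 n26164 = n20005 := d3_1 D26164 F41485 F41481
theorem F41509 : act 3 n26164 = n23745 := d7_1 D26164 (iv6 D23745) (iv3 F20674)
theorem F41510 : act 4 n26164 = n12412 := d10_1 D26164 (iv6 D12412) D12410
theorem F41511 : act 5 n20003 = n26164 := d6_0 F41509 (iv5 F36975) F32622
def n26165 : Q := act 0 n12411
theorem D26165 : act 0 n12411 = n26165 := rfl
theorem F41512 : act 1 n15070 = n26165 := d15_0 (iv0 D26165) F20677 (iv2 F24696)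
def n26166 : Q := act 1 n12411
theorem D26166 : act 1 n12411 = n26166 := rfl
theorem F41513 : act 1 n26166 = n15070 := d15_1 D26166 (iv7 F41489) F41487
def n26167 : Q := act 4 n12411
theorem D26167 : act 4 n12411 = n26167 := rfl
theorem F41514 : act 7 n26167 = n15078 := d11_2 (iv7 F20677) D26167 (iv4 D15078)
def n26168 : Q := act 6 n12411
theorem D26168 : act 6 n12411 = n26168 := rfl
theorem F41515 : act 3 n26168 = n12413 := d7_1 D26168 (iv6 D12413) (iv3 F20676)
def n26169 : Q := act 0 n12412
theorem D26169 : act 0 n12412 = n26169 := rfl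
def n26170 : Q := act 1 n12412
theorem D26170 : act 1 n12412 = n26170 := rfl
theorem F41516 : act 4 n22070 = n26170 := d20_6 (iv4 D17406) (iv1 F20052) F31791 F31789 (iv1 F16712) (iv3 F34542) (iv1 D26170) (iv4 F41510) F41509 F36977
def n26171 : Q := act 5 n12412
theorem D26171 : act 5 n12412 = n26171 := rfl
theorem F41517 : act 3 n26171 = n12414 := d6_1 D26171 (iv5 D12414) (iv3 F20678)
def n26172 : Q := act 7 n12412
theorem D26172 : act 7 n12412 = n26172 := rfl
theorem F41518 : act 3 n26172 = n12415 := d8_1 D26172 (iv7 D12415) (iv3 F20678)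
theorem F41519 : act 6 n26172 = n15083 := d14_1 D26172 (iv7 D15083) (iv6 D7171) (iv7 F9149) D12412
def n26173 : Q := act 0 n12413
theorem D26173 : act 0 n12413 = n26173 := rfl
def n26174 : Q := act 1 n12413
theorem D26174 : act 1 n12413 = n26174 := rfl
theorem F41520 : act 1 n26174 = n15123 := d15_1 D26174 (iv7 D15123) (iv2 F20679)
def n26175 : Q := act 5 n12413
theorem D26175 : act 5 n12413 = n26175 := rfl
theorem F41521 : act 2 n26175 = n15122 := d2_1 D26175 (iv5 D15122) (iv2 F20679)
theorem F41522 : act 6 n26175 = n12414 := d12_2 D12413 D26175 (iv5 D12414) (iv6 D5907) D5906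
def n26176 : Q := act 7 n12413
theorem D26176 : act 7 n12413 = n26176 := rfl
theorem F41523 : act 2 n26176 = n15123 := d4_1 D26176 (iv7 D15123) (iv2 F20679)
theorem F41524 : act 6 n26176 = n15091 := d14_1 D26176 (iv7 D15091) (iv6 D7174) (iv7 F9151) D12413
theorem F41525 : act 1 n15123 = n26173 := d15_0 (iv0 D26173) D26176 F41523
theorem F41526 : act 1 n15121 = n26176 := d15_1 D15121 (iv7 D26176) F20679
theorem F41527 : act 1 n26176 = n15120 := d15_0 (iv0 D15120) D15123 (iv2 F41523)
def n26177 : Q := act 4 n12414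
theorem D26177 : act 4 n12414 = n26177 := rfl
theorem F41528 : act 2 n26177 = n15124 := d1_1 D26177 (iv4 D15124) (iv2 F20680)
theorem F41529 : act 0 n26177 = n15426 := d18_2 F20802 D26177 (iv4 D15426) (iv5 D7281) F10673 F4082 (iv4 F5630) (iv0 F10688) D12488
theorem F41530 : act 1 n26177 = n15418 := d18_6 (iv1 F20640) F10699 F9560 (iv4 F9153) D12414 D26177 (iv4 D15418) D15417 F24971
def n26178 : Q := act 5 n12416
theorem D26178 : act 5 n12416 = n26178 := rfl
theorem F41531 : act 2 n26178 = n12434 := d2_1 D26178 F20699 F20686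
theorem F41532 : act 3 n26178 = n15126 := d6_1 D26178 (iv5 D15126) (iv3 F20687)
theorem F41533 : act 7 n26178 = n12429 := d13_2 (iv7 F20688) D26178 (iv5 D12429)
theorem F41534 : act 1 n12431 = n26178 := d15_1 D12431 F41533 F20694
theorem F41535 : act 5 n12431 = n16680 := d21_2 D26178 (iv1 F41534) F27309 F26716 (iv6 F24857) F41442 (iv1 F41439) (iv5 D26142) F26905 D12416
theorem F41536 : act 3 n16681 = n12431 := d6_3 F41535 (iv3 D16680) D16681
theorem F41537 : act 0 n12771 = n14047 := d21_4 D6004 D12659 F26964 (iv6 F21204) (iv6 F27309) (iv5 F41535) (iv1 D12431) (iv5 D5911) F3941 D2530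
theorem F41538 : act 1 n26178 = n12430 := d15_0 (iv0 D12430) D12434 (iv2 F41531)
theorem F41539 : act 5 n26049 = n12430 := d21_0 (iv1 F41538) (iv5 D26178) F26873 (iv1 D7508) (iv6 D3425) D3424 D7503 (iv5 F26854) (iv6 F26473) D26049
def n26179 : Q := act 0 n12418
theorem D26179 : act 0 n12418 = n26179 := rfl
def n26180 : Q := act 1 n12418
theorem D26180 : act 1 n12418 = n26180 := rfl
theorem F41540 : act 1 n26180 = n15083 := d15_1 D26180 (iv7 D15083) (iv2 F26903)
theorem F41541 : act 3 n26180 = n15156 := d20_5 F20526 F12090 (iv4 F11509) (iv3 F24704) (iv1 F41540) F24765 (iv1 F20622) F11446 F26602 D7138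
theorem F41542 : act 2 n15065 = n26180 := d0_5 F41541 (iv2 F41350) (iv3 F24624) F41356 D15065
theorem F41543 : act 6 n12647 = n26180 := d7_0 F41541 F41334 F21062
theorem F41544 : act 7 n15080 = n26180 := d8_0 F41541 F41362 (iv3 F26819)
theorem E4810 : n26179 = n26154 := ((c15_4 (iv0 D26179) D26180 (iv7 F41544) (iv2 F41469))).symm
theorem F41545 : act 1 n26154 = n12418 := (sb E4810 (iv0 D26179))
theorem F41546 : act 1 n15083 = n26154 := d15_1 F41540 F41470 F41542
def n26181 : Q := act 4 n12418
theorem D26181 : act 4 n12418 = n26181 := rfl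
theorem F41547 : act 2 n26181 = n15075 := d1_1 D26181 F24701 (iv2 F26903)
theorem F41548 : act 6 n26181 = n15069 := d10_2 (iv6 F26904) D26181 (iv4 D15069)
theorem F41549 : act 0 n26181 = n23749 := d20_1 D26181 F36983 F18141 (iv1 F7638) D5897 F9128 D12390 (iv4 F24765) (iv3 F41541) (iv1 D26180)
theorem F41550 : act 0 n23747 = n26181 := d20_1 (iv4 F36979) (iv4 D26181) (iv3 D12418) D12416 F20687 (iv4 F22723) (iv1 F22725) D13561 F37182 (iv1 D23849)
theorem F41551 : act 7 n23746 = n26181 := d15_2 (iv0 F27006) D23746 F41547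
theorem F41552 : act 6 n20519 = n23746 := d14_5 F41551 F41548 (iv7 F41483) (iv6 F41485) (iv7 F32611)
theorem F41553 : act 3 n23746 = n20521 := d7_1 F41552 (iv6 D20521) (iv3 F32610)
def n26182 : Q := act 5 n12418
theorem D26182 : act 5 n12418 = n26182 := rfl
theorem F41554 : act 2 n26182 = n15082 := d2_1 D26182 (iv5 D15082) (iv2 F26903)
theorem F41555 : act 3 n26182 = n12420 := d6_1 D26182 (iv5 D12420) D12418
def n26183 : Q := act 7 n12418
theorem D26183 : act 7 n12418 = n26183 := rfl
theorem F41556 : act 2 n26183 = n15083 := d4_1 D26183 (iv7 D15083) (iv2 F26903)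
theorem F41557 : act 3 n26183 = n12422 := d8_1 D26183 (iv7 D12422) D12418
theorem F41558 : act 4 n26183 = n23746 := d11_1 D26183 F41551 (iv4 D26181)
theorem F41559 : act 1 n15065 = n26183 := d15_1 (iv0 F41471) (iv7 D26183) F26903
theorem F41560 : act 1 n26183 = n15080 := d15_1 F41559 F41544 (iv2 F41542)
def n26184 : Q := act 0 n12419
theorem D26184 : act 0 n12419 = n26184 := rfl
theorem F41561 : act 4 n26184 = n26123 := d20_2 D12419 D26184 (iv3 D26123) (iv1 D12391) (iv3 D5897) (iv4 D2493) (iv1 D1164) D1165 D2497 D5908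
theorem F41562 : act 3 n15061 = n26184 := d5_5 F41561 (iv3 D26123) (iv4 F24693) (iv3 D15060) D15061
theorem F41563 : act 0 n26184 = n12424 := d20_1 (iv4 F41561) (iv4 D12424) (iv3 F26897) (iv1 F20666) D15017 (iv4 F41303) F41306 (iv4 D13556) D13555 F41376
def n26185 : Q := act 1 n12419
theorem D26185 : act 1 n12419 = n26185 := rfl
theorem F41564 : act 1 n26185 = n12424 := d15_1 D26185 F40284 F40281
def n26186 : Q := act 3 n12419
theorem D26186 : act 3 n12419 = n26186 := rfl
def n26187 : Q := act 5 n12419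
theorem D26187 : act 5 n12419 = n26187 := rfl
def n26188 : Q := act 7 n12419
theorem D26188 : act 7 n12419 = n26188 := rfl
theorem F41565 : act 2 n26188 = n12424 := d4_1 D26188 F40284 F40281
theorem F41566 : act 4 n26188 = n12422 := d11_1 D26188 (iv7 D12422) D12419
theorem F41567 : act 6 n26188 = n20499 := d14_1 D26188 F32582 F31816 (iv7 F40274) (iv6 F40278)
theorem F41568 : act 3 n20501 = n26188 := d7_3 F41567 F32581 D20501
theorem F41569 : act 7 n26186 = n20501 := d8_0 F41568 (iv7 D26188) D26186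
def n26189 : Q := act 4 n12420
theorem D26189 : act 4 n12420 = n26189 := rfl
def n26190 : Q := act 6 n12420
theorem D26190 : act 6 n12420 = n26190 := rfl
def n26191 : Q := act 7 n12420
theorem D26191 : act 7 n12420 = n26191 := rfl
theorem F41570 : act 2 n26191 = n12425 := d4_1 D26191 (iv7 F41451) F41449
theorem F41571 : act 5 n26191 = n12422 := d13_1 D26191 (iv7 D12422) D12420
theorem F41572 : act 1 n12425 = n17416 := d15_0 (iv0 F28388) D26191 F41570
theorem F41573 : act 1 n26191 = n15084 := d15_0 (iv0 F41452) F41451 (iv2 F41570)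
def n26192 : Q := act 6 n12422
theorem D26192 : act 6 n12422 = n26192 := rfl
theorem F41574 : act 2 n26192 = n12426 := d3_1 D26192 (iv6 D12426) (iv2 F20691)
theorem F41575 : act 4 n26192 = n20499 := d10_1 D26192 (iv6 F41567) F41566
theorem F41576 : act 7 n26192 = n15107 := d14_2 D12422 D26192 (iv6 D15107) (iv7 F20653) F26905
theorem F41577 : act 1 n15117 = n26192 := d15_1 D15117 F41576 F24722
theorem F41578 : act 1 n26192 = n13867 := d15_0 F26909 (iv7 F26900) (iv2 F41574)
theorem F41579 : act 2 n26137 = n15117 := d15_3 F41577 F41578 (iv7 F41414)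
def n26193 : Q := act 5 n12424
theorem D26193 : act 5 n12424 = n26193 := rfl
def n26194 : Q := act 6 n12424
theorem D26194 : act 6 n12424 = n26194 := rfl
theorem F41580 : act 2 n26194 = n20499 := d3_1 D26194 (iv6 F41567) F41565
theorem F41581 : act 4 n26194 = n12426 := d10_1 D26194 (iv6 D12426) D12424
theorem F41582 : act 7 n26194 = n15111 := d14_2 (iv7 F40284) D26194 (iv6 D15111) (iv7 F20033) D25481
theorem F41583 : act 5 n20498 = n26194 := d13_3 F41582 (iv5 F31815) (iv7 F32578)
def n26195 : Q := act 4 n12425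
theorem D26195 : act 4 n12425 = n26195 := rfl
def n26196 : Q := act 6 n12425
theorem D26196 : act 6 n12425 = n26196 := rfl
def n26197 : Q := act 1 n12426
theorem D26197 : act 1 n12426 = n26197 := rfl
theorem F41584 : act 1 n26197 = n15107 := d15_1 D26197 (iv7 F41576) F41574
theorem F41585 : act 7 n26197 = n15117 := d15_2 (iv0 F41415) D26197 (iv2 F41579)
theorem F41586 : act 2 n13867 = n26197 := d4_3 F41585 (iv2 F41579) F41414
theorem F41587 : act 6 n26197 = n12664 := d3_2 D13867 F41586 F26677
def n26198 : Q := act 5 n12426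
theorem D26198 : act 5 n12426 = n26198 := rfl
theorem F41588 : act 3 n26198 = n15125 := d6_1 D26198 F24731 (iv3 F26899)
theorem F41589 : act 7 n26198 = n15118 := d13_2 (iv7 F26900) D26198 (iv5 D15118)
def n26199 : Q := act 0 n12429
theorem D26199 : act 0 n12429 = n26199 := rfl
theorem F41590 : act 1 n12434 = n26199 := d15_0 (iv0 D26199) (iv7 F41533) F41531
theorem F41591 : act 5 n14849 = n26199 := d21_0 (iv1 F41590) F20699 D12435 F27014 (iv6 D7498) D7497 (iv1 F26761) (iv5 D8164) D8165 (iv1 F26735)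
theorem F41592 : act 2 n26199 = n12430 := d2_1 F41591 (iv5 F41539) (iv2 F41179)
theorem F41593 : act 3 n26199 = n15268 := d6_1 F41591 (iv5 D15268) (iv3 F26796)
theorem F41594 : act 7 n26199 = n12431 := d13_2 F27310 F41591 F41535
def n26200 : Q := act 1 n12429
theorem D26200 : act 1 n12429 = n26200 := rfl
theorem F41595 : act 1 n26200 = n12434 := d15_1 D26200 (iv7 D12434) (iv2 F20694)
theorem F41596 : act 7 n26200 = n12430 := d15_2 (iv0 D26199) D26200 (iv2 F41592)
theorem F41597 : act 5 n14848 = n26200 := d21_0 (iv1 D26200) (iv5 D12429) F9155 F26615 (iv6 F26671) D24284 F38065 (iv5 D13839) (iv6 F11324) D14848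
theorem F41598 : act 2 n26200 = n12431 := d2_1 F41597 F41535 F27313
def n26201 : Q := act 4 n12429
theorem D26201 : act 4 n12429 = n26201 := rfl
theorem F41599 : act 2 n26201 = n12432 := d1_1 D26201 (iv4 D12432) (iv2 F20694)
def n26202 : Q := act 6 n12429
theorem D26202 : act 6 n12429 = n26202 := rfl
theorem F41600 : act 2 n26202 = n12433 := d3_1 D26202 (iv6 D12433) (iv2 F20694)
theorem F41601 : act 3 n26202 = n15175 := d7_1 D26202 (iv6 D15175) (iv3 F20695)
theorem F41602 : act 5 n26202 = n12695 := d12_1 D26202 (iv6 D12695) (iv5 D6013) (iv6 F9155) D12429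
def n26203 : Q := act 3 n12430
theorem D26203 : act 3 n12430 = n26203 := rfl
def n26204 : Q := act 4 n12430
theorem D26204 : act 4 n12430 = n26204 := rfl
def n26205 : Q := act 6 n12430
theorem D26205 : act 6 n12430 = n26205 := rfl
def n26206 : Q := act 4 n12431
theorem D26206 : act 4 n12431 = n26206 := rfl
def n26207 : Q := act 6 n12431
theorem D26207 : act 6 n12431 = n26207 := rfl
def n26208 : Q := act 0 n12432
theorem D26208 : act 0 n12432 = n26208 := rfl
def n26209 : Q := act 1 n12432
theorem D26209 : act 1 n12432 = n26209 := rfl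
def n26210 : Q := act 3 n12432
theorem D26210 : act 3 n12432 = n26210 := rfl
theorem F41603 : act 4 n26210 = n12440 := d5_2 D12432 D26210 (iv3 D12440) (iv4 D5915) (iv3 F9156)
theorem F41604 : act 7 n14753 = n26210 := d11_0 F41603 F20709 D14753
def n26211 : Q := act 5 n12432
theorem D26211 : act 5 n12432 = n26211 := rfl
def n26212 : Q := act 6 n12432
theorem D26212 : act 6 n12432 = n26212 := rfl
theorem F41605 : act 4 n26212 = n12433 := d10_1 D26212 (iv6 D12433) D12432
def n26213 : Q := act 7 n12432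
theorem D26213 : act 7 n12432 = n26213 := rfl
theorem F41606 : act 3 n26213 = n14753 := d8_1 D26213 F41604 (iv3 D26210)
theorem F41607 : act 4 n26213 = n12434 := d11_1 D26213 (iv7 D12434) D12432
def n26214 : Q := act 0 n12433
theorem D26214 : act 0 n12433 = n26214 := rfl
def n26215 : Q := act 1 n12433
theorem D26215 : act 1 n12433 = n26215 := rfl
def n26216 : Q := act 7 n12433
theorem D26216 : act 7 n12433 = n26216 := rfl
theorem F41608 : act 3 n26216 = n12444 := d8_1 D26216 (iv7 D12444) (iv3 F20696)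
theorem F41609 : act 5 n26216 = n12712 := d13_1 D26216 (iv7 D12712) (iv5 F20697)
def n26217 : Q := act 6 n12434
theorem D26217 : act 6 n12434 = n26217 := rfl
theorem F41610 : act 3 n26217 = n12445 := d7_1 D26217 (iv6 D12445) (iv3 F20698)
def n26218 : Q := act 5 n12435
theorem D26218 : act 5 n12435 = n26218 := rfl
theorem F41611 : act 2 n26218 = n16076 := d2_1 D26218 (iv5 D16076) (iv2 F26870)
theorem F41612 : act 3 n26218 = n12446 := d6_1 D26218 (iv5 D12446) (iv3 F20700)
theorem F41613 : act 7 n26218 = n12715 := d13_2 (iv7 F20701) D26218 (iv5 D12715)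
def n26219 : Q := act 2 n12436
theorem D26219 : act 2 n12436 = n26219 := rfl
theorem F41614 : act 3 n26219 = n15201 := d0_2 D12436 D26219 (iv2 D15201) (iv3 D7209) F9159
theorem F41615 : act 5 n26219 = n15263 := d2_2 (iv5 F20702) D26219 (iv2 F26915)
theorem F41616 : act 7 n26219 = n15210 := d4_2 (iv7 F20703) D26219 (iv2 D15210)
theorem F41617 : act 1 n26219 = n15098 := d15_0 F26973 (iv7 F20703) D26219
theorem F41618 : act 1 n15103 = n26219 := d15_0 F41617 (iv7 F41423) F41421
def n26220 : Q := act 4 n12436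
theorem D26220 : act 4 n12436 = n26220 := rfl
theorem F41619 : act 7 n26220 = n15211 := d11_2 (iv7 F20703) D26220 (iv4 D15211)
def n26221 : Q := act 6 n12436
theorem D26221 : act 6 n12436 = n26221 := rfl
theorem F41620 : act 3 n26221 = n12437 := d7_1 D26221 (iv6 D12437) D12436
def n26222 : Q := act 0 n12437
theorem D26222 : act 0 n12437 = n26222 := rfl
def n26223 : Q := act 1 n12437
theorem D26223 : act 1 n12437 = n26223 := rfl
theorem F41621 : act 1 n26223 = n15207 := d15_1 D26223 (iv7 D15207) (iv2 F20704)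
def n26224 : Q := act 5 n12437
theorem D26224 : act 5 n12437 = n26224 := rfl
theorem F41622 : act 2 n26224 = n15206 := d2_1 D26224 (iv5 D15206) (iv2 F20704)
theorem F41623 : act 6 n26224 = n15879 := d12_2 D12437 D26224 F25352 (iv6 D11171) (iv5 F9158)
def n26225 : Q := act 7 n12437
theorem D26225 : act 7 n12437 = n26225 := rfl
theorem F41624 : act 2 n26225 = n15207 := d4_1 D26225 (iv7 D15207) (iv2 F20704)
theorem F41625 : act 6 n26225 = n15216 := d14_1 D26225 (iv7 D15216) (iv6 D7212) F9160 D12437
theorem F41626 : act 1 n15207 = n26222 := d15_0 (iv0 D26222) D26225 F41624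
theorem F41627 : act 1 n15205 = n26225 := d15_1 D15205 (iv7 D26225) F20704
theorem F41628 : act 1 n26225 = n15204 := d15_0 (iv0 D15204) D15207 (iv2 F41624)
def n26226 : Q := act 0 n12438
theorem D26226 : act 0 n12438 = n26226 := rfl
theorem F41629 : act 1 n15201 = n26226 := d15_0 (iv0 D26226) F20706 D15201
def n26227 : Q := act 1 n12438
theorem D26227 : act 1 n12438 = n26227 := rfl
def n26228 : Q := act 2 n12438
theorem D26228 : act 2 n12438 = n26228 := rfl
theorem F41630 : act 3 n26228 = n15210 := d0_2 D12438 D26228 (iv2 D15210) (iv3 D7211) F9165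
theorem F41631 : act 5 n26228 = n23836 := d2_2 (iv5 F20705) D26228 (iv2 D23836)
theorem F41632 : act 7 n26228 = n15201 := d4_2 (iv7 F20706) D26228 (iv2 D15201)
theorem F41633 : act 1 n26228 = n15199 := d15_0 (iv0 D15199) (iv7 F20706) D26228
theorem F41634 : act 1 n26227 = n15201 := d15_1 D26227 (iv7 F41632) (iv2 D26228)
theorem F41635 : act 1 n15200 = n26228 := d15_1 D15200 F41632 (iv2 D15201)
def n26229 : Q := act 4 n12438
theorem D26229 : act 4 n12438 = n26229 := rfl
theorem F41636 : act 7 n26229 = n15202 := d11_2 (iv7 F20706) D26229 (iv4 D15202)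
def n26230 : Q := act 6 n12438
theorem D26230 : act 6 n12438 = n26230 := rfl
theorem F41637 : act 3 n26230 = n12439 := d7_1 D26230 (iv6 D12439) D12438
def n26231 : Q := act 0 n12439
theorem D26231 : act 0 n12439 = n26231 := rfl
def n26232 : Q := act 1 n12439
theorem D26232 : act 1 n12439 = n26232 := rfl
theorem F41638 : act 1 n26232 = n15216 := d15_1 D26232 (iv7 D15216) (iv2 F20707)
def n26233 : Q := act 7 n12439
theorem D26233 : act 7 n12439 = n26233 := rfl
theorem F41639 : act 2 n26233 = n15216 := d4_1 D26233 (iv7 D15216) (iv2 F20707)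
theorem F41640 : act 6 n26233 = n15207 := d14_1 D26233 (iv7 D15207) (iv6 D7210) (iv7 F9163) D12439
theorem F41641 : act 1 n15216 = n26231 := d15_0 (iv0 D26231) D26233 F41639
theorem F41642 : act 1 n15214 = n26233 := d15_1 D15214 (iv7 D26233) F20707
theorem F41643 : act 1 n26233 = n15213 := d15_0 (iv0 D15213) D15216 (iv2 F41639)
def n26234 : Q := act 0 n12440
theorem D26234 : act 0 n12440 = n26234 := rfl
theorem F41644 : act 1 n14750 = n26234 := d15_0 (iv0 D26234) F20709 (iv2 F24401)
def n26235 : Q := act 1 n12440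
theorem D26235 : act 1 n12440 = n26235 := rfl
def n26236 : Q := act 2 n12440
theorem D26236 : act 2 n12440 = n26236 := rfl
theorem F41645 : act 3 n26236 = n15219 := d0_2 D12440 D26236 (iv2 D15219) (iv3 D7213) (iv2 F9166)
theorem F41646 : act 5 n26236 = n14737 := d2_2 (iv5 F20708) D26236 (iv2 F24394)
theorem F41647 : act 7 n26236 = n14750 := d4_2 (iv7 F20709) D26236 F24401
theorem F41648 : act 1 n26236 = n14751 := d15_0 (iv0 D14751) (iv7 F20709) D26236
theorem F41649 : act 1 n26235 = n14750 := d15_1 D26235 (iv7 F41647) (iv2 D26236)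
theorem F41650 : act 1 n14752 = n26236 := d15_1 D14752 F41647 F24401
def n26237 : Q := act 6 n12440
theorem D26237 : act 6 n12440 = n26237 := rfl
theorem F41651 : act 3 n26237 = n12441 := d7_1 D26237 (iv6 D12441) D12440
def n26238 : Q := act 0 n12441
theorem D26238 : act 0 n12441 = n26238 := rfl
def n26239 : Q := act 1 n12441
theorem D26239 : act 1 n12441 = n26239 := rfl
theorem F41652 : act 1 n26239 = n15224 := d15_1 D26239 (iv7 D15224) (iv2 F20710)
def n26240 : Q := act 5 n12441
theorem D26240 : act 5 n12441 = n26240 := rfl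
theorem F41653 : act 2 n26240 = n15223 := d2_1 D26240 (iv5 D15223) (iv2 F20710)
theorem F41654 : act 6 n26240 = n14765 := d12_2 D12441 D26240 (iv5 D14765) (iv6 D7034) (iv5 F9167)
def n26241 : Q := act 7 n12441
theorem D26241 : act 7 n12441 = n26241 := rfl
theorem F41655 : act 2 n26241 = n15224 := d4_1 D26241 (iv7 D15224) (iv2 F20710)
theorem F41656 : act 4 n26241 = n12444 := d11_1 D26241 (iv7 D12444) (iv4 F20711)
theorem F41657 : act 6 n26241 = n14762 := d14_1 D26241 (iv7 D14762) (iv6 D7033) F9168 D12441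
theorem F41658 : act 1 n15224 = n26238 := d15_0 (iv0 D26238) D26241 F41655
theorem F41659 : act 1 n15222 = n26241 := d15_1 D15222 (iv7 D26241) F20710
theorem F41660 : act 1 n26241 = n15221 := d15_0 (iv0 D15221) D15224 (iv2 F41655)
theorem F41661 : act 4 n15221 = n23858 := d18_7 D11198 F37195 (iv1 F9819) (iv4 F9358) (iv5 F20714) (iv4 F41656) F41660 (iv0 D23858) F18146
def n26242 : Q := act 2 n12442
theorem D26242 : act 2 n12442 = n26242 := rfl
theorem F41662 : act 7 n12443 = n26242 := d15_2 (iv0 D12442) D12443 (iv2 D26242)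
def n26243 : Q := act 3 n12442
theorem D26243 : act 3 n12442 = n26243 := rfl
def n26244 : Q := act 4 n12442
theorem D26244 : act 4 n12442 = n26244 := rfl
def n26245 : Q := act 5 n12442
theorem D26245 : act 5 n12442 = n26245 := rfl
theorem F41663 : act 1 n26245 = n16091 := d17_8 D17981 F29148 (iv1 F22102) (iv5 D13295) F9815 (iv5 F11535) F20715 D26245 F29136
def n26246 : Q := act 6 n12442
theorem D26246 : act 6 n12442 = n26246 := rfl
def n26247 : Q := act 7 n12442
theorem D26247 : act 7 n12442 = n26247 := rfl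
theorem F41664 : act 2 n26247 = n12443 := d4_1 D26247 F41662 (iv2 D26242)
def n26248 : Q := act 3 n12443
theorem D26248 : act 3 n12443 = n26248 := rfl
def n26249 : Q := act 4 n12443
theorem D26249 : act 4 n12443 = n26249 := rfl
def n26250 : Q := act 5 n12443
theorem D26250 : act 5 n12443 = n26250 := rfl
theorem F41665 : act 6 n26250 = n12822 := d21_9 (iv5 F27565) F29954 (iv5 D18686) (iv6 D8765) (iv1 F9811) F9808 (iv5 F11535) (iv1 F20712) D26250 (iv1 F21286)
theorem F41666 : act 4 n17674 = n26250 := d10_3 F41665 F29955 D17674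
theorem E4811 : n12736 = n8916 := (c17_10 (iv1 F13880) (iv5 F28210) (iv1 F28286) (iv5 F28744) F41666 (iv5 D26250) F20712 F11535 F9360 D12736)
theorem E4812 : n19038 = n6023 := ((D19038).symm.trans (sb E4811 (iv4 D12736)))
theorem F41667 : act 4 n6023 = n8916 := (sb E4812 (iv4 D19038))
theorem F41668 : act 0 n26250 = n16091 := d17_0 (iv5 F25890) (iv1 F25894) (iv5 D7612) D7611 D16413 F28961 (iv5 D17734) (iv0 F30417) F41666
theorem F41669 : act 4 n19036 = n12734 := d1_2 F41667 D19036 (iv2 D12734)
theorem F41670 : act 4 n19040 = n12738 := d10_3 (iv6 D12738) F41667 D19040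
theorem F41671 : act 4 n19041 = n12739 := d11_3 (iv7 D12739) F41667 D19041
theorem E4813 : n12741 = n8917 := (c1_3 F41671 F21147 D12741 (iv2 F30548))
theorem E4814 : n19043 = n6024 := ((D19043).symm.trans (sb E4813 (iv4 D12741)))
theorem F41672 : act 4 n6024 = n8917 := (sb E4814 (iv4 D19043))
theorem F41673 : act 4 n19045 = n12743 := d10_3 (iv6 D12743) F41672 D19045
theorem F41674 : act 4 n17732 = n26245 := d17_4 (iv1 D8917) (iv5 F12891) D17352 (iv5 F28838) (iv5 D26245) (iv0 D12442) F9170 D6024 F41672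
theorem F41675 : act 1 n23857 = n26249 := d18_6 (iv1 F9356) F41672 (iv1 D8917) (iv4 F7644) (iv5 F18146) (iv4 F37192) (iv4 D26249) F20712 F11535
theorem F41676 : act 4 n17353 = n18860 := d18_1 (iv1 F28286) (iv1 D18860) (iv4 D8829) (iv5 D3932) (iv4 F4044) D6024 F41672 F13881 (iv5 F28210)
theorem F41677 : act 4 n18859 = n17352 := d18_3 (iv1 D8828) D8829 D18859 (iv5 F28838) F41674 F41663 F29136 (iv0 F29271) F21290
def n26251 : Q := act 6 n12443
theorem D26251 : act 6 n12443 = n26251 := rfl
def n26252 : Q := act 6 n12444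
theorem D26252 : act 6 n12444 = n26252 := rfl
theorem F41678 : act 2 n26252 = n15235 := d3_1 D26252 (iv6 D15235) (iv2 F20713)
theorem F41679 : act 4 n26252 = n14762 := d10_1 D26252 (iv6 F41657) F41656
theorem F41680 : act 5 n26252 = n18715 := d12_1 D26252 (iv6 D18715) F13649 (iv6 F9359) (iv5 F20714)
theorem F41681 : act 7 n26252 = n12445 := d14_2 D12444 D26252 (iv6 D12445) (iv7 D5917) D5916
theorem F41682 : act 1 n15237 = n26252 := d15_1 D15237 F41681 F20718
theorem F41683 : act 1 n26252 = n15236 := d15_0 (iv0 D15236) (iv7 F24830) (iv2 F41678)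
def n26253 : Q := act 0 n12445
theorem D26253 : act 0 n12445 = n26253 := rfl
theorem F41684 : act 1 n15235 = n26253 := d15_0 (iv0 D26253) (iv7 F41681) F41678
def n26254 : Q := act 1 n12445
theorem D26254 : act 1 n12445 = n26254 := rfl
theorem F41685 : act 1 n26254 = n15235 := d15_1 D26254 F24830 (iv2 F20718)
def n26255 : Q := act 5 n12445
theorem D26255 : act 5 n12445 = n26255 := rfl
theorem F41686 : act 2 n26255 = n15238 := d2_1 D26255 (iv5 D15238) (iv2 F20718)
theorem F41687 : act 6 n26255 = n12446 := d12_2 D12445 D26255 (iv5 D12446) (iv6 D5918) (iv5 F9173)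
theorem F41688 : act 7 n26255 = n18715 := d13_2 F41681 D26255 (iv5 F41680)
def n26256 : Q := act 4 n12469
theorem D26256 : act 4 n12469 = n26256 := rfl
theorem F41689 : act 2 n26256 = n12473 := d1_1 D26256 (iv4 D12473) (iv2 F20761)
theorem F41690 : act 5 n26256 = n12485 := d9_2 D12469 D26256 (iv4 D12485) (iv5 D5933) F3965 F2129 (iv4 F26294) D3370 D7341 (iv5 F26497) F24986 F11590 F5332 (iv5 F3986) (iv4 F26357)
theorem F41691 : act 7 n26256 = n12519 := d11_2 (iv7 F26414) D26256 (iv4 D12519)
theorem F41692 : act 0 n26256 = n15570 := d18_2 (iv1 F20765) D26256 F26495 F20820 (iv4 D12493) (iv0 F9220) (iv4 F26380) F9260 F25794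
theorem F41693 : act 1 n26256 = n15569 := d18_6 (iv1 F10654) (iv4 D3378) (iv1 F3990) (iv4 F26357) D12469 D26256 F26494 (iv0 D8171) (iv5 D3679)
def n26257 : Q := act 6 n12469
theorem D26257 : act 6 n12469 = n26257 := rfl
theorem F41694 : act 2 n26257 = n12474 := d3_1 D26257 (iv6 D12474) (iv2 F20761)
theorem F41695 : act 3 n26257 = n15365 := d7_1 D26257 (iv6 D15365) (iv3 F20762)
theorem F41696 : act 5 n26257 = n15440 := d12_1 D26257 (iv6 D15440) F11590 (iv6 F26358) D12469
def n26258 : Q := act 3 n12471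
theorem D26258 : act 3 n12471 = n26258 := rfl
theorem F41697 : act 5 n26258 = n12531 := d6_2 (iv5 F26441) D26258 (iv3 D12531)
theorem F41698 : act 7 n26258 = n15560 := d8_2 (iv7 F26442) D26258 (iv3 D15560)
def n26259 : Q := act 6 n12471
theorem D26259 : act 6 n12471 = n26259 := rfl
theorem F41699 : act 2 n26259 = n15568 := d3_1 D26259 (iv6 D15568) (iv2 F26440)
theorem F41700 : act 5 n26259 = n15855 := d12_1 D26259 (iv6 D15855) (iv5 D7433) F26443 (iv5 F26441)
def n26260 : Q := act 3 n12472
theorem D26260 : act 3 n12472 = n26260 := rfl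
theorem F41701 : act 5 n26260 = n12536 := d6_2 (iv5 F26445) D26260 (iv3 D12536)
theorem F41702 : act 7 n26260 = n15565 := d8_2 (iv7 F26446) D26260 (iv3 D15565)
theorem F41703 : act 0 n26260 = n16270 := d20_10 (iv4 D16270) (iv1 F21945) F21943 F9796 (iv1 F9343) (iv3 F27020) D8173 D17419 F28392 D26260
def n26261 : Q := act 6 n12472
theorem D26261 : act 6 n12472 = n26261 := rfl
theorem F41704 : act 2 n26261 = n15563 := d3_1 D26261 (iv6 D15563) (iv2 F26444)
def n26262 : Q := act 0 n12473
theorem D26262 : act 0 n12473 = n26262 := rfl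
theorem F41705 : act 5 n26262 = n15449 := d17_1 D26262 F24994 F26908 (iv4 D15796) (iv5 D7416) F9257 (iv5 F26441) (iv0 D12471) D12473
theorem F41706 : act 4 n26262 = n12941 := d18_3 (iv1 D12472) D12473 D26262 F21501 (iv4 D7304) (iv0 F5337) (iv4 F26319) D5961 (iv5 F26445)
theorem F41708 : act 2 n15570 = n26262 := d1_3 F41706 (iv2 F21502) (iv4 F26495)
theorem F41709 : act 7 n15569 = n26262 := d11_0 F41706 F21500 (iv4 F26494)
def n26263 : Q := act 1 n12473
theorem D26263 : act 1 n12473 = n26263 := rfl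
theorem F41710 : act 1 n26263 = n12519 := d15_1 D26263 (iv7 F41691) F41689
theorem F41711 : act 7 n26263 = n15570 := d15_2 (iv0 D26262) D26263 F41708
theorem F41712 : act 5 n26263 = n15457 := d17_7 (iv1 F12705) (iv5 D7281) (iv1 D3343) D3344 D7285 (iv5 F26418) D26263 F24997 (iv4 D15054)
theorem F41713 : act 4 n26263 = n12940 := d17_9 (iv1 F21498) F12930 (iv1 F10677) D12524 (iv4 F26745) (iv5 F26748) (iv0 D15435) (iv5 F26418) D26263
theorem F41714 : act 2 n15569 = n26263 := d1_3 F41713 (iv2 F21496) (iv4 F26494)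
def n26264 : Q := act 6 n12473
theorem D26264 : act 6 n12473 = n26264 := rfl
theorem F41715 : act 3 n26264 = n13229 := d7_1 D26264 (iv6 D13229) (iv3 F20770)
theorem F41716 : act 4 n26264 = n12474 := d10_1 D26264 (iv6 D12474) D12473
def n26265 : Q := act 0 n12474
theorem D26265 : act 0 n12474 = n26265 := rfl
def n26266 : Q := act 1 n12474
theorem D26266 : act 1 n12474 = n26266 := rfl
def n26267 : Q := act 5 n12474
theorem D26267 : act 5 n12474 = n26267 := rfl
theorem F41717 : act 2 n26267 = n15440 := d2_1 D26267 (iv5 F41696) F41694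
theorem F41718 : act 3 n26267 = n12481 := d6_1 D26267 (iv5 D12481) (iv3 F20772)
theorem F41719 : act 6 n26267 = n12477 := d12_2 D12474 D26267 (iv5 D12477) (iv6 D5929) D5928
def n26268 : Q := act 7 n12474
theorem D26268 : act 7 n12474 = n26268 := rfl
theorem F41720 : act 3 n26268 = n12482 := d8_1 D26268 (iv7 D12482) (iv3 F20772)
theorem F41721 : act 6 n26268 = n15576 := d14_1 D26268 (iv7 D15576) (iv6 D7342) (iv7 F9201) D12474
def n26269 : Q := act 4 n12477
theorem D26269 : act 4 n12477 = n26269 := rfl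
theorem F41722 : act 2 n26269 = n15439 := d1_1 D26269 F24986 (iv2 F26339)
theorem F41723 : act 5 n26269 = n12519 := d9_2 D12477 D26269 (iv4 D12519) (iv5 D5952) F3981 F2134 (iv4 F2591) D3344 D7285 (iv5 F26418) (iv4 D12473) (iv5 D5928) F26304 (iv5 F3968) (iv4 F26295)
theorem F41724 : act 7 n26269 = n12485 := d11_2 (iv7 F26340) D26269 (iv4 D12485)
theorem F41725 : act 0 n26269 = n15436 := d17_0 F26750 (iv1 D15813) D15814 (iv4 F26906) (iv5 D12396) F11483 (iv5 F11589) (iv0 F26337) D26269
theorem F41726 : act 1 n26269 = n15435 := d18_6 (iv1 F10681) (iv4 D3348) (iv1 F3972) (iv4 F26295) D12477 D26269 F24982 (iv0 D7944) (iv5 D3597)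
def n26270 : Q := act 0 n12481
theorem D26270 : act 0 n12481 = n26270 := rfl
def n26271 : Q := act 1 n12481
theorem D26271 : act 1 n12481 = n26271 := rfl
theorem F41727 : act 1 n26271 = n15412 := d15_1 D26271 (iv7 D15412) (iv2 F20777)
theorem F41728 : act 5 n17713 = n26271 := d17_5 (iv1 F9588) (iv5 F21581) (iv1 F21583) (iv5 F13153) (iv4 F28774) F41727 F24967 F30464 (iv4 D8244)
theorem E4815 : n17709 = n7429 := (c21_5 (iv5 F24967) (iv1 F41727) (iv5 F41728) (iv6 D17713) D17709 (iv6 F20899) (iv5 F23626) (iv1 F23628) F30463 (iv6 D17541) (iv1 F30464))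
theorem E4816 : n12566 = n8339 := (((iv1 F20925)).symm.trans (sb E4815 (iv1 F28777)))
theorem E4817 : n12565 = n8334 := ((F20931).symm.trans (sb E4815 (iv0 D17709)))
theorem E4818 : n17710 = n5970 := (((iv1 F28773)).symm.trans (sb E4816 (iv1 D12566)))
theorem F41729 : act 1 n8339 = n7429 := (sb E4816 F20925)
theorem F41730 : act 0 n8334 = n7429 := (sb E4817 (iv1 F20931))
theorem F41731 : act 0 n5970 = n8334 := (sb E4818 (iv1 D17710))
theorem F41732 : act 1 n5970 = n8339 := (sb E4818 F28773)
theorem E4819 : n18805 = n17717 := ((c18_6 (iv1 D6218) (iv4 F9279) F41731 (iv4 D8334) D8335 D17717 (iv0 D18805) F13686 (iv0 F13715) F13619)).symm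
theorem F41733 : act 0 n17717 = n18772 := (sb E4819 (iv1 F30064))
theorem F41734 : act 1 n17717 = n8811 := (sb E4819 (iv0 D18805))
theorem F41735 : act 1 n13294 = n17285 := d18_6 (iv1 D17716) D17717 F41733 F30026 F13671 (iv4 F22098) F28227 D17293 (iv5 F30398)
theorem E4820 : n18806 = n17731 := ((c15_4 F30044 (iv0 F41733) (iv7 F28826) (iv2 F28836))).symm
theorem F41736 : act 0 n17731 = n8811 := (sb E4820 (iv1 D18806))
theorem F41737 : act 1 n17731 = n18772 := (sb E4820 F30044)
theorem F41738 : act 1 n17285 = n18808 := d15_1 F41735 (iv7 D18808) (iv2 F22097)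
theorem F41739 : act 5 n15845 = n17285 := d17_7 F13693 (iv5 D8474) (iv1 D3790) F2839 (iv4 F5400) D7428 D15845 F41738 F30062
theorem E4821 : n15841 = n6178 := (c18_4 (iv1 F9688) (iv4 F20929) (iv1 F20932) D15841 (iv5 F12878) (iv4 F28227) F41738 F30062 (iv0 F13691) (iv5 D8469))
theorem E4822 : n13006 = n7427 := ((D13006).symm.trans (sb E4821 (iv4 D15841)))
theorem E4823 : n15839 = n8339 := (((iv2 F25323)).symm.trans (sb E4822 F28810))
theorem F41740 : act 4 n7427 = n6178 := (sb E4822 (iv4 D13006))
theorem E4824 : n15834 = n8334 := ((F25321).symm.trans (sb E4822 F28811))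
theorem F41741 : act 2 n8339 = n7427 := (sb E4823 F25323)
theorem E4825 : n13001 = n7426 := (((iv7 F28794)).symm.trans (sb E4823 (iv7 D15839)))
theorem F41742 : act 7 n8334 = n7427 := (sb E4824 (iv7 F25321))
theorem F41743 : act 2 n7426 = n8334 := (sb E4825 F28793)
theorem E4826 : n15836 = n6177 := ((D15836).symm.trans (sb E4825 (iv4 D13001)))
theorem F41744 : act 7 n7426 = n8339 := (sb E4825 F28794)
theorem F41745 : act 4 n6177 = n7426 := (sb E4826 (iv4 D15836))
theorem F41746 : act 4 n15838 = n13003 := d10_3 (iv6 D13003) F41745 D15838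
theorem F41747 : act 2 n17713 = n15838 := d1_3 F41746 F28795 (iv4 F28774)
theorem F41748 : act 2 n15410 = n26271 := d2_3 (iv5 F41728) F41747 F25322
theorem F41749 : act 7 n17728 = n15835 := d8_2 F41744 D17728 (iv3 D15835)
theorem F41750 : act 7 n17729 = n15837 := d13_2 F41744 D17729 (iv5 D15837)
theorem F41751 : act 2 n17712 = n15837 := d2_3 (iv5 D15837) F41743 D17712
theorem F41752 : act 7 n15840 = n17711 := d8_2 F41742 D15840 (iv3 D17711)
theorem F41753 : act 7 n15842 = n17712 := d13_2 F41742 D15842 (iv5 D17712)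
theorem F41754 : act 2 n17729 = n15842 := d4_3 F41753 F41751 (iv7 F41750)
theorem F41755 : act 1 n15842 = n18807 := d15_0 F30045 (iv7 F41750) F41754
theorem F41756 : act 2 n15843 = n17730 := d3_3 (iv6 D17730) F41741 D15843
theorem F41757 : act 4 n13007 = n15843 := d1_0 F41756 F28835 F28825
theorem E4827 : n12513 = n8099 := (c21_5 F5384 F2757 D2510 D5949 D12513 D17285 (iv5 F41739) (iv1 D15845) (iv5 D7428) (iv6 D3399) (iv1 F5382))
theorem E4828 : n17281 = n7350 := ((D17281).symm.trans (sb E4827 (iv1 F20847)))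
theorem E4829 : n17282 = n5949 := ((D17282).symm.trans (sb E4827 (iv0 D12513)))
theorem E4830 : n12514 = n8104 := (((iv1 F20841)).symm.trans (sb E4828 (iv1 F28230)))
theorem F41758 : act 1 n7350 = n8099 := (sb E4828 (iv0 D17281))
theorem F41759 : act 0 n5949 = n8099 := (sb E4829 (iv1 D17282))
theorem F41760 : act 0 n8104 = n5949 := (sb E4830 (iv1 D12514))
theorem F41761 : act 1 n8104 = n7350 := (sb E4830 F20841)
theorem F41762 : act 1 n13224 = n17317 := d18_6 (iv1 F9494) D8104 F41760 F9233 D6283 D13224 (iv4 D17317) F21403 F21401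
theorem F41763 : act 1 n17317 = n18558 := d15_1 F41762 (iv7 D18558) (iv2 F22017)
theorem F41764 : act 0 n17313 = n18558 := d18_2 D8107 D17313 F29793 F13623 (iv4 F11664) F41758 (iv4 D8099) (iv0 D3650) D3652
def n26272 : Q := act 4 n12481
theorem D26272 : act 4 n12481 = n26272 := rfl
theorem F41765 : act 2 n26272 = n15411 := d1_1 D26272 (iv4 D15411) (iv2 F20777)
theorem F41766 : act 6 n26272 = n12485 := d10_2 (iv6 F20778) D26272 (iv4 D12485)
def n26273 : Q := act 7 n12481
theorem D26273 : act 7 n12481 = n26273 := rfl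
theorem F41767 : act 2 n26273 = n15412 := d4_1 D26273 (iv7 D15412) (iv2 F20777)
theorem F41768 : act 5 n26273 = n12482 := d13_1 D26273 (iv7 D12482) D12481
theorem F41769 : act 1 n15412 = n26270 := d15_0 (iv0 D26270) D26273 F41767
theorem F41770 : act 1 n15410 = n26273 := d15_1 D15410 (iv7 D26273) F20777
theorem E4831 : n15401 = n6161 := (c17_10 (iv1 F9586) (iv5 F13025) (iv1 F21577) (iv5 F21625) (iv4 F41746) F25322 F41770 F41768 F20784 D15401)
theorem E4832 : n12973 = n7272 := ((D12973).symm.trans (sb E4831 (iv4 D15401)))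
theorem E4833 : n15399 = n8244 := ((D15399).symm.trans (sb E4832 F30517))
theorem F41771 : act 4 n7272 = n6161 := (sb E4832 (iv4 D12973))
theorem E4834 : n15404 = n8249 := ((D15404).symm.trans (sb E4832 F30518))
theorem F41772 : act 2 n8244 = n7272 := (sb E4833 (iv2 D15399))
theorem E4835 : n12978 = n7273 := (((iv7 F30507)).symm.trans (sb E4833 (iv7 F24963)))
theorem F41773 : act 7 n8249 = n7272 := (sb E4834 (iv7 D15404))
theorem F41774 : act 2 n7273 = n8249 := (sb E4835 F30505)
theorem E4836 : n15406 = n6162 := ((D15406).symm.trans (sb E4835 (iv4 D12978)))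
theorem E4837 : n18759 = n15408 := (((D15408).symm.trans (sb E4835 F30506))).symm
theorem F41775 : act 7 n7273 = n8244 := (sb E4835 F30507)
theorem F41776 : act 4 n6162 = n7273 := (sb E4836 (iv4 D15406))
theorem F41777 : act 0 n15408 = n13286 := (sb E4837 (iv1 F29991))
theorem F41778 : act 1 n15408 = n8792 := (sb E4837 (iv0 D18759))
theorem F41779 : act 2 n15408 = n17560 := (sb E4837 (iv2 F30444))
theorem F41780 : act 4 n15408 = n12980 := (sb E4837 (iv4 F30511))
theorem F41781 : act 7 n15408 = n18768 := (sb E4837 (iv7 F30446))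
theorem F41782 : act 4 n18626 = n12982 := d18_7 (iv1 F9581) F41776 (iv1 D7273) F5331 D3909 D8744 D18626 F21577 F13025
theorem F41783 : act 2 n17573 = n18626 := d1_3 F41782 F28800 D17573
theorem F41784 : act 7 n17568 = n18626 := d11_0 F41782 F28801 D17568
theorem F41785 : act 2 n17568 = n18625 := d15_3 (iv0 D18625) D18626 (iv7 F41784)
theorem F41786 : act 4 n18625 = n12981 := d1_2 D17568 F41785 F28823
theorem F41787 : act 7 n18625 = n17573 := d4_2 (iv7 F41784) F41785 F41783
theorem F41788 : act 1 n17568 = n13246 := d15_0 F30468 (iv7 F41787) (iv2 F41785)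
theorem F41789 : act 7 n17539 = n15405 := d8_2 F41775 D17539 (iv3 D15405)
theorem F41790 : act 7 n17540 = n15407 := d13_2 F41775 D17540 (iv5 D15407)
theorem F41791 : act 2 n17559 = n15407 := d2_3 (iv5 D15407) F41774 D17559
theorem F41792 : act 7 n15400 = n17558 := d8_2 F41773 D15400 (iv3 D17558)
theorem F41793 : act 7 n15402 = n17559 := d13_2 F41773 D15402 (iv5 D17559)
theorem F41794 : act 2 n17540 = n15402 := d4_3 F41793 F41791 (iv7 F41790)
theorem F41795 : act 2 n15403 = n17541 := d3_3 (iv6 D17541) F41772 D15403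
theorem F41796 : act 4 n12975 = n15403 := d1_0 F41795 F28534 (iv2 F30521)
theorem F41797 : act 2 n13920 = n14143 := d2_3 (iv5 F24964) F41795 (iv5 F30463)
theorem F41798 : act 7 n14142 = n13920 := d15_2 F23624 F23627 F41797
theorem F41799 : act 7 n13919 = n14143 := d15_2 F23628 F23629 (iv2 F41797)
theorem F41800 : act 2 n14142 = n13919 := d4_3 F41799 (iv2 F41797) (iv7 F41798)
theorem E4838 : n12544 = n8398 := (c17_9 (iv1 F9661) (iv5 F21727) (iv1 F21730) (iv5 F21574) F41796 F24964 F23624 F23178 F20900 (iv4 D8398))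
theorem E4839 : n17809 = n7385 := ((D17809).symm.trans (sb E4838 (iv1 F20900)))
theorem E4840 : n17810 = n5964 := ((D17810).symm.trans (sb E4838 (iv0 D12544)))
theorem E4841 : n12545 = n8403 := (((iv1 F20896)).symm.trans (sb E4839 (iv1 F28951)))
theorem F41801 : act 1 n7385 = n8398 := (sb E4839 (iv0 D17809))
theorem F41802 : act 0 n5964 = n8398 := (sb E4840 (iv1 D17810))
theorem F41803 : act 0 n8403 = n5964 := (sb E4841 (iv1 D12545))
theorem F41804 : act 1 n8403 = n7385 := (sb E4841 F20896)
theorem F41805 : act 1 n13083 = n17841 := d18_6 (iv1 F9660) D8403 F41803 F9266 D6222 D13083 (iv4 D17841) F21730 F21727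
theorem F41806 : act 1 n17841 = n18118 := d15_1 F41805 (iv7 D18118) (iv2 F21798)
theorem F41808 : act 1 n18118 = n17837 := d15_1 F41806 F30475 F30538
theorem F41809 : act 7 n26270 = n15410 := d15_2 F41727 F41769 F41748
theorem F41810 : act 2 n26270 = n15409 := d15_3 (iv0 D15409) D15410 (iv7 F41809)
theorem F41811 : act 7 n15409 = n26271 := d4_2 (iv7 F41809) F41810 (iv2 F41748)
theorem F41812 : act 1 n26273 = n15409 := d15_1 F41770 F41811 (iv2 F41748)
def n26274 : Q := act 3 n12483
theorem D26274 : act 3 n12483 = n26274 := rfl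
theorem F41813 : act 5 n26274 = n15053 := d6_2 (iv5 F20785) D26274 (iv3 D15053)
theorem F41814 : act 7 n26274 = n15432 := d8_2 F20787 D26274 (iv3 D15432)
def n26275 : Q := act 6 n12483
theorem D26275 : act 6 n12483 = n26275 := rfl
theorem F41815 : act 2 n26275 = n15431 := d3_1 D26275 (iv6 D15431) F20786
def n26276 : Q := act 3 n12484
theorem D26276 : act 3 n12484 = n26276 := rfl
theorem F41816 : act 5 n26276 = n13882 := d6_2 (iv5 F20791) D26276 F23148
theorem F41817 : act 7 n26276 = n15429 := d8_2 (iv7 F20790) D26276 (iv3 D15429)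
def n26277 : Q := act 6 n12484
theorem D26277 : act 6 n12484 = n26277 := rfl
theorem F41818 : act 2 n26277 = n15434 := d3_1 D26277 (iv6 D15434) F20792
theorem F41819 : act 5 n26277 = n13885 := d12_1 D26277 (iv6 D13885) (iv5 D6601) D6602 (iv5 F20791)
def n26278 : Q := act 0 n12485
theorem D26278 : act 0 n12485 = n26278 := rfl
theorem F41820 : act 5 n26278 = n15644 := d17_1 D26278 (iv1 F26849) D21579 F33975 F24971 F20641 (iv5 F20785) (iv0 D12483) D12485
theorem F41821 : act 4 n26278 = n12852 := d18_1 D26278 (iv1 F21307) (iv4 F27890) F27891 (iv4 D8173) D8172 (iv4 F26495) (iv0 F41692) F41690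
theorem F41822 : act 1 n15439 = n26278 := d15_0 (iv0 D26278) (iv7 F41724) F41722
theorem F41823 : act 3 n25697 = n26278 := d19_19 (iv1 F41822) F26497 (iv4 D7341) F5369 (iv1 F3439) (iv5 D2110) (iv4 D1041) (iv3 F1926) D2085 F3406 (iv4 F2639) F2638 F2166 D1185 D2541 D6035 D12761 (iv5 F40556) D25697
theorem F41824 : act 2 n15435 = n26278 := d1_3 F41821 (iv2 F21305) (iv4 F24982)
theorem F41825 : act 7 n15436 = n26278 := d11_0 F41821 (iv7 F21306) (iv4 F24983)
def n26279 : Q := act 1 n12485
theorem D26279 : act 1 n12485 = n26279 := rfl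
theorem F41826 : act 1 n26279 = n15439 := d15_1 D26279 (iv7 D15439) (iv2 F20793)
theorem F41827 : act 7 n26279 = n15435 := d15_2 (iv0 D26278) D26279 F41824
theorem F41828 : act 5 n26279 = n15635 := d17_7 F26532 (iv5 D7330) (iv1 F9197) D12469 D26256 F41690 D26279 (iv0 F26848) F16396
theorem F41829 : act 4 n26279 = n12853 := d18_7 (iv1 F10658) (iv4 D5941) (iv1 D2507) (iv4 F3965) D5933 D12485 D26279 F21308 F12577
theorem F41830 : act 2 n15436 = n26279 := d1_3 F41829 (iv2 F21311) (iv4 F24983)
def n26280 : Q := act 3 n12485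
theorem D26280 : act 3 n12485 = n26280 := rfl
theorem F41831 : act 2 n26280 = n23010 := d0_1 D26280 (iv3 D23010) (iv2 F22031) F26944 (iv2 F20793)
def n26281 : Q := act 0 n12487
theorem D26281 : act 0 n12487 = n26281 := rfl
theorem F41832 : act 3 n26281 = n15452 := d20_5 F3965 D2506 D5937 D12487 D26281 F27052 (iv1 D15453) (iv4 F12701) (iv3 D7962) F10667
theorem F41833 : act 1 n15454 = n26281 := d15_0 (iv0 D26281) F20799 D15454
def n26282 : Q := act 1 n12487
theorem D26282 : act 1 n12487 = n26282 := rfl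
theorem F41834 : act 4 n26281 = n26282 := d20_0 (iv1 D26282) F20798 (iv3 D7277) F26334 F9202 F3965 D2506 D5937 D12487 D26281
def n26283 : Q := act 2 n12487
theorem D26283 : act 2 n12487 = n26283 := rfl
theorem F41835 : act 3 n26283 = n12849 := d0_2 D12487 D26283 F27044 (iv3 D7292) F11381
theorem F41836 : act 4 n26283 = n15415 := d1_2 (iv4 F20798) D26283 (iv2 D15415)
theorem F41837 : act 7 n26283 = n15454 := d4_2 (iv7 F20799) D26283 (iv2 D15454)
theorem F41838 : act 1 n26283 = n15452 := d15_0 (iv0 D15452) (iv7 F20799) D26283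
theorem F41839 : act 1 n26282 = n15454 := d15_1 D26282 (iv7 F41837) (iv2 D26283)
theorem F41840 : act 1 n15453 = n26283 := d15_1 D15453 F41837 (iv2 D15454)
theorem F41841 : act 4 n15413 = n17036 := d20_0 (iv1 F27923) (iv4 F41836) F41835 (iv1 D12849) F9444 F4081 D2564 (iv4 F10684) D7277 D15413
def n26284 : Q := act 5 n12487
theorem D26284 : act 5 n12487 = n26284 := rfl
theorem F41842 : act 3 n26284 = n12488 := d6_1 D26284 (iv5 D12488) D12487
theorem F41843 : act 7 n26284 = n15455 := d13_2 (iv7 F20799) D26284 (iv5 D15455)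
def n26285 : Q := act 4 n12488
theorem D26285 : act 4 n12488 = n26285 := rfl
theorem F41844 : act 2 n26285 = n15449 := d1_1 D26285 (iv4 D15449) (iv2 F20800)
theorem F41845 : act 7 n26285 = n15457 := d11_2 (iv7 F20801) D26285 (iv4 D15457)
theorem F41846 : act 5 n26285 = n15570 := d16_1 D26285 F26495 F20820 (iv4 D12493) (iv5 D5942) D5941 D12491 F20811 (iv2 F20800)
theorem F41847 : act 0 n26285 = n15814 := d17_0 (iv5 D15814) D15812 (iv5 F26748) F24982 (iv5 F20648) F20649 D12414 (iv0 F20802) D26285
theorem F41848 : act 3 n25673 = n26285 := d19_19 F41847 (iv5 D15814) (iv4 D7420) F5398 (iv1 F5382) F5384 (iv4 D1581) D1580 F2754 (iv5 D1140) (iv4 F2402) F2401 (iv1 D693) D694 D1143 D2420 D5781 D12197 D25673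
theorem F41849 : act 4 n26284 = n25665 := d5_4 D25673 F41848 (iv4 D26285) (iv3 F41842) F40572
theorem E4842 : n25716 = n25633 := (c19_17 (iv1 D25664) D25665 (iv4 F41849) F41842 F20802 (iv5 D12414) F9153 (iv3 F18137) F21484 (iv5 D12924) (iv4 F26344) (iv3 D12140) (iv1 D5756) D5758 F8906 D12213 D25716 (iv5 D25633) D25632 F40571)
theorem F41850 : act 1 n25633 = n12213 := (sb E4842 (iv0 D25716))
def n26286 : Q := act 6 n12488
theorem D26286 : act 6 n12488 = n26286 := rfl
theorem F41851 : act 2 n26286 = n15450 := d3_1 D26286 (iv6 D15450) (iv2 F20800)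
def n26287 : Q := act 2 n12490
theorem D26287 : act 2 n12490 = n26287 := rfl
theorem F41852 : act 3 n26287 = n15454 := d0_2 D12490 D26287 (iv2 D15454) (iv3 D7301) (iv2 F11382)
theorem F41853 : act 7 n26287 = n12849 := d4_2 (iv7 F20809) D26287 F27044
theorem F41854 : act 1 n26287 = n12847 := d15_0 F27054 (iv7 F20809) D26287
theorem F41855 : act 1 n12851 = n26287 := d15_0 F41854 F26777 F26778
def n26288 : Q := act 5 n12490
theorem D26288 : act 5 n12490 = n26288 := rfl
theorem F41856 : act 3 n26288 = n12491 := d6_1 D26288 (iv5 D12491) D12490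
theorem F41857 : act 7 n26288 = n15447 := d13_2 (iv7 F20809) D26288 (iv5 D15447)
def n26289 : Q := act 6 n12490
theorem D26289 : act 6 n12490 = n26289 := rfl
theorem F41858 : act 3 n26289 = n12492 := d7_1 D26289 (iv6 D12492) D12490
theorem F41859 : act 0 n23832 = n26289 := d20_4 (iv4 F12081) F12082 (iv4 F18130) (iv3 F37160) F41858 F20814 F9376 D12756 F26691 (iv1 F12014)
def n26290 : Q := act 4 n12491
theorem D26290 : act 4 n12491 = n26290 := rfl
theorem F41860 : act 2 n26290 = n15457 := d1_1 D26290 (iv4 D15457) (iv2 F20810)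
theorem F41861 : act 5 n26290 = n15569 := d9_2 D12491 D26290 F26494 (iv5 F20806) (iv4 D12489) (iv5 D5938) D5937 D12488 D26285 F41846 F26495 F20820 (iv4 D12493) (iv5 D5942) D5941
theorem F41862 : act 7 n26290 = n15449 := d11_2 (iv7 F20811) D26290 (iv4 D15449)
theorem F41863 : act 1 n26290 = n15814 := d18_6 F10685 F5332 (iv1 F3966) D5941 D12491 D26290 (iv4 F26906) F20636 (iv5 D7958)
def n26291 : Q := act 6 n12491
theorem D26291 : act 6 n12491 = n26291 := rfl
theorem F41864 : act 2 n26291 = n15458 := d3_1 D26291 (iv6 D15458) (iv2 F20810)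
def n26292 : Q := act 1 n12495
theorem D26292 : act 1 n12495 = n26292 := rfl
theorem F41865 : act 1 n26292 = n15333 := d15_1 D26292 (iv7 F28339) F28338
theorem F41866 : act 3 n15279 = n26292 := d19_19 (iv1 D26292) (iv5 F27214) F25586 F29428 F29426 (iv5 D18153) F13404 (iv3 D8372) (iv1 D3757) (iv5 D1642) (iv4 F2275) (iv3 D1218) (iv1 F1677) D1701 (iv4 F4487) (iv3 F10559) (iv1 F22804) F25825 D15279
theorem F41867 : act 4 n26292 = n17408 := d20_6 F5700 (iv1 F4141) F26356 D7333 F25083 F41866 (iv1 D17408) (iv4 D8158) F26413 F10674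
theorem F41868 : act 3 n12762 = n17408 := d5_5 (iv4 F41867) (iv3 F41866) (iv4 D15279) D15278 F24871
theorem F41869 : act 5 n17408 = n25700 := d6_2 (iv5 F27035) F41868 (iv3 D25700)
theorem F41870 : act 0 n25700 = n16006 := d17_2 (iv1 F28377) F41869 (iv5 D16006) (iv4 D7488) D7489 F27123 F5431 D3674 D8163
def n26293 : Q := act 6 n12495
theorem D26293 : act 6 n12495 = n26293 := rfl
theorem F41871 : act 3 n26293 = n12498 := d7_1 D26293 (iv6 D12498) D12495
theorem F41872 : act 4 n26293 = n25547 := d10_1 D26293 (iv6 D25547) (iv4 F20822)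
def n26294 : Q := act 5 n12496
theorem D26294 : act 5 n12496 = n26294 := rfl
theorem F41873 : act 2 n26294 = n15356 := d2_1 D26294 (iv5 D15356) (iv2 F27233)
theorem F41874 : act 4 n26294 = n15686 := d9_1 D26294 F35170 (iv4 D22639) F27270 (iv4 D15683) F27225 (iv4 F12571) D16975 (iv4 F27836) (iv5 F27837) (iv4 F17148) F27217 (iv4 D15678) (iv5 F27212) D12496
theorem F41875 : act 7 n26294 = n15340 := d13_2 (iv7 F27234) D26294 (iv5 D15340)
theorem F41876 : act 0 n26294 = n16186 := d17_2 F25752 D26294 (iv5 D16186) F11808 D7552 F25718 (iv5 D15356) F24923 F24915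
theorem F41877 : act 1 n26294 = n16107 := d17_6 (iv1 D3382) D3384 D7375 (iv5 F27212) D12496 D26294 (iv5 D16107) F11814 (iv4 D7371)
def n26295 : Q := act 6 n12496
theorem D26295 : act 6 n12496 = n26295 := rfl
theorem F41878 : act 2 n26295 = n15357 := d3_1 D26295 (iv6 D15357) (iv2 F27233)
theorem F41879 : act 4 n26295 = n12498 := d10_1 D26295 (iv6 D12498) D12496
def n26296 : Q := act 0 n12498
theorem D26296 : act 0 n12498 = n26296 := rfl
def n26297 : Q := act 1 n12498
theorem D26297 : act 1 n12498 = n26297 := rfl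
theorem F41880 : act 1 n26297 = n15363 := d15_1 D26297 (iv7 D15363) (iv2 F27235)
def n26298 : Q := act 7 n12498
theorem D26298 : act 7 n12498 = n26298 := rfl
theorem F41882 : act 2 n26298 = n15363 := d4_1 D26298 (iv7 D15363) (iv2 F27235)
theorem F41883 : act 6 n26298 = n15348 := d14_1 D26298 (iv7 D15348) (iv6 D7256) (iv7 F27224) D12498
theorem F41884 : act 1 n15363 = n26296 := d15_0 (iv0 D26296) D26298 F41882
theorem F41885 : act 1 n15361 = n26298 := d15_1 D15361 (iv7 D26298) F27235
def n26299 : Q := act 0 n12500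
theorem D26299 : act 0 n12500 = n26299 := rfl
theorem F41888 : act 4 n26299 = n15240 := d20_0 (iv1 F24834) F21195 F9408 F27158 F27155 (iv4 F27279) F27281 F12571 D12500 D26299
theorem F41889 : act 1 n15352 = n26299 := d15_0 (iv0 D26299) F27228 D15352
theorem F41890 : act 5 n18362 = n26299 := d18_4 (iv1 D3912) (iv4 F5846) D8650 D18362 F41888 (iv0 D15240) F11537 D7227 F25987
theorem F41891 : act 3 n15519 = n26299 := d20_5 (iv4 F27159) F26842 F26765 (iv3 F27752) (iv1 F27754) F41888 (iv1 F24834) F21195 F9408 F27158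
theorem F41892 : act 0 n16765 = n18363 := d17_2 (iv1 D16763) D16765 (iv5 D18363) D18362 F41890 (iv0 D26299) F27264 F40605 F40606
def n26300 : Q := act 2 n12500
theorem D26300 : act 2 n12500 = n26300 := rfl
theorem F41893 : act 3 n26300 = n15333 := d0_2 D12500 D26300 (iv2 D15333) (iv3 D7253) (iv2 F27223)
theorem F41894 : act 4 n26300 = n25566 := d1_2 F27853 D26300 F40446
theorem F41895 : act 7 n26300 = n15352 := d4_2 (iv7 F27228) D26300 (iv2 D15352)
theorem F41896 : act 1 n26300 = n15350 := d15_0 (iv0 D15350) (iv7 F27228) D26300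
theorem F41897 : act 1 n15278 = n26300 := d15_1 (iv0 F26820) F41895 (iv2 D15352)
def n26301 : Q := act 6 n12500
theorem D26301 : act 6 n12500 = n26301 := rfl
theorem F41898 : act 3 n26301 = n12502 := d7_1 D26301 (iv6 D12502) D12500
def n26302 : Q := act 0 n12502
theorem D26302 : act 0 n12502 = n26302 := rfl
def n26304 : Q := act 7 n12502
theorem D26304 : act 7 n12502 = n26304 := rfl
theorem F41901 : act 2 n26304 = n15348 := d4_1 D26304 (iv7 D15348) (iv2 F27231)
theorem F41903 : act 6 n26304 = n15363 := d14_1 D26304 (iv7 D15363) (iv6 D7261) F27227 D12502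
theorem F41904 : act 1 n15348 = n26302 := d15_0 (iv0 D26302) D26304 F41901
theorem F41905 : act 1 n15346 = n26304 := d15_1 D15346 (iv7 D26304) F27231
def n26305 : Q := act 4 n12503
theorem D26305 : act 4 n12503 = n26305 := rfl
theorem F41909 : act 2 n26305 = n12507 := d1_1 D26305 (iv4 D12507) (iv2 F20824)
theorem F41910 : act 7 n26305 = n15364 := d11_2 (iv7 F20826) D26305 (iv4 D15364)
theorem F41911 : act 5 n26305 = n22641 := d16_1 D26305 (iv4 F35175) (iv5 D15379) (iv4 D7266) (iv5 D3339) F2589 D3339 (iv7 F9229) (iv2 F20824)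
theorem F41912 : act 0 n26305 = n15378 := d17_0 F30604 F30603 (iv5 D15688) (iv4 D7377) (iv5 D3384) D3382 (iv5 F24947) F20827 D26305
theorem F41913 : act 1 n26305 = n15377 := d18_6 (iv1 D15338) (iv4 D7254) (iv1 F9225) F9223 D12503 D26305 (iv4 F25153) (iv0 F26846) (iv5 F26845)
def n26306 : Q := act 6 n12503
theorem D26306 : act 6 n12503 = n26306 := rfl
theorem F41914 : act 2 n26306 = n12508 := d3_1 D26306 (iv6 D12508) (iv2 F20824)
theorem F41915 : act 3 n26306 = n12515 := d7_1 D26306 F20843 (iv3 F26468)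
theorem F41916 : act 5 n26306 = n12508 := d12_1 D26306 (iv6 D12508) (iv5 D5947) F26467 D12503
def n26307 : Q := act 3 n12505
theorem D26307 : act 3 n12505 = n26307 := rfl
theorem F41917 : act 5 n26307 = n12548 := d6_2 (iv5 F27194) D26307 (iv3 D12548)
theorem F41918 : act 7 n26307 = n15371 := d8_2 (iv7 F27195) D26307 (iv3 D15371)
def n26308 : Q := act 6 n12505
theorem D26308 : act 6 n12505 = n26308 := rfl
theorem F41919 : act 2 n26308 = n15376 := d3_1 D26308 (iv6 D15376) (iv2 F27193)
def n26309 : Q := act 3 n12506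
theorem D26309 : act 3 n12506 = n26309 := rfl
theorem F41920 : act 5 n26309 = n12552 := d6_2 (iv5 F27197) D26309 (iv3 D12552)
theorem F41921 : act 7 n26309 = n15374 := d8_2 (iv7 F27198) D26309 (iv3 D15374)
theorem F41922 : act 1 n18362 = n26309 := d17_6 F37261 (iv5 F20207) (iv1 F40611) F40612 (iv4 F41888) (iv5 F41890) F41920 F25469 (iv4 F37263)
def n26310 : Q := act 6 n12506
theorem D26310 : act 6 n12506 = n26310 := rfl
theorem F41923 : act 2 n26310 = n15372 := d3_1 D26310 (iv6 D15372) (iv2 F27196)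
def n26311 : Q := act 0 n12507
theorem D26311 : act 0 n12507 = n26311 := rfl
theorem F41924 : act 4 n26311 = n16184 := d18_3 (iv1 D12506) D12507 D26311 (iv5 D16184) F11782 (iv0 D5965) F3997 D5966 (iv5 F27197)
theorem F41925 : act 2 n15378 = n26311 := d15_3 (iv0 D26311) (iv0 F30820) F30817
theorem F41926 : act 1 n15364 = n26311 := d15_0 (iv0 D26311) F20835 (iv2 F24936)
theorem F41927 : act 7 n26311 = n15377 := d15_2 F30818 F41926 (iv2 F30815)
def n26312 : Q := act 6 n12507
theorem D26312 : act 6 n12507 = n26312 := rfl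
theorem F41928 : act 3 n26312 = n13208 := d7_1 D26312 (iv6 D13208) (iv3 F20834)
theorem F41929 : act 4 n26312 = n12508 := d10_1 D26312 (iv6 D12508) D12507
def n26313 : Q := act 0 n12508
theorem D26313 : act 0 n12508 = n26313 := rfl
def n26314 : Q := act 1 n12508
theorem D26314 : act 1 n12508 = n26314 := rfl
def n26315 : Q := act 7 n12508
theorem D26315 : act 7 n12508 = n26315 := rfl
theorem F41930 : act 3 n26315 = n12516 := d8_1 D26315 (iv7 D12516) (iv3 F20836)
theorem F41931 : act 6 n26315 = n15384 := d14_1 D26315 (iv7 D15384) (iv6 D7267) (iv7 F9229) D12508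
def n26316 : Q := act 0 n12515
theorem D26316 : act 0 n12515 = n26316 := rfl
def n26317 : Q := act 1 n12515
theorem D26317 : act 1 n12515 = n26317 := rfl
theorem F41932 : act 1 n26317 = n15576 := d15_1 D26317 (iv7 D15576) (iv2 F26470)
theorem F41933 : act 5 n17813 = n26317 := d21_6 (iv5 D1312) (iv1 F2140) D2517 D5964 F41802 D17813 (iv1 D26317) (iv5 D12515) (iv6 D5949) F3978
theorem F41934 : act 2 n26317 = n15574 := d2_1 F41933 F26498 (iv2 F30525)
def n26318 : Q := act 4 n12515
theorem D26318 : act 4 n12515 = n26318 := rfl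
theorem F41935 : act 2 n26318 = n15572 := d1_1 D26318 F25105 (iv2 F26470)
theorem F41936 : act 6 n26318 = n12519 := d10_2 (iv6 F20843) D26318 (iv4 D12519)
def n26319 : Q := act 7 n12515
theorem D26319 : act 7 n12515 = n26319 := rfl
theorem F41937 : act 2 n26319 = n15576 := d4_1 D26319 (iv7 D15576) (iv2 F26470)
theorem F41938 : act 5 n26319 = n12516 := d13_1 D26319 (iv7 D12516) D12515
theorem F41939 : act 1 n15576 = n26316 := d15_0 (iv0 D26316) D26319 F41937
theorem F41940 : act 1 n15574 = n26319 := d15_1 D15574 (iv7 D26319) F26470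
theorem E4843 : n15593 = n6110 := (c17_10 (iv1 F9493) (iv5 F12881) (iv1 F21397) (iv5 F21718) (iv4 F30462) (iv5 F26498) F41940 F41938 F20849 D15593)
theorem E4844 : n12887 = n7347 := ((D12887).symm.trans (sb E4843 (iv4 D15593)))
theorem E4845 : n15591 = n8099 := ((D15591).symm.trans (sb E4844 F28804))
theorem F41941 : act 4 n7347 = n6110 := (sb E4844 (iv4 D12887))
theorem E4846 : n17731 = n15595 := (((D15595).symm.trans (sb E4844 (iv6 F28837)))).symm
theorem E4847 : n15596 = n8104 := ((D15596).symm.trans (sb E4844 F28805))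
theorem F41942 : act 2 n8099 = n7347 := (sb E4845 (iv2 D15591))
theorem E4848 : n12891 = n7348 := (((iv7 F28816)).symm.trans (sb E4845 (iv7 F25113)))
theorem F41943 : act 0 n15595 = n8811 := (sb E4846 F41736)
theorem F41944 : act 1 n15595 = n18772 := (sb E4846 F41737)
theorem F41945 : act 2 n15595 = n17285 := (sb E4846 F28836)
theorem F41946 : act 4 n15595 = n8340 := (sb E4846 (iv4 D17731))
theorem F41947 : act 7 n8104 = n7347 := (sb E4847 (iv7 D15596))
theorem F41948 : act 2 n7348 = n8104 := (sb E4848 F28815)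
theorem E4849 : n15598 = n6111 := ((D15598).symm.trans (sb E4848 (iv4 D12891)))
theorem F41949 : act 7 n7348 = n8099 := (sb E4848 F28816)
theorem F41950 : act 4 n6111 = n7348 := (sb E4849 (iv4 D15598))
theorem F41951 : act 4 n15600 = n12893 := d10_3 (iv6 D12893) F41950 D15600
theorem F41952 : act 4 n18555 = n12895 := d18_7 (iv1 F9488) F41950 (iv1 D7348) F5371 D3900 D8710 D18555 F21397 F12881
theorem F41953 : act 2 n17317 = n18555 := d1_3 F41952 F30496 D17317
theorem F41954 : act 7 n17313 = n18555 := d11_0 F41952 F30497 D17313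
theorem F41955 : act 2 n17313 = n18554 := d15_3 (iv0 D18554) D18555 (iv7 F41954)
theorem F41956 : act 4 n18554 = n12894 := d1_2 D17313 F41955 F30498
theorem F41957 : act 7 n18554 = n17317 := d4_2 (iv7 F41954) F41955 F41953
theorem F41958 : act 1 n17313 = n13224 := d15_0 F41762 (iv7 F41957) (iv2 F41955)
theorem F41959 : act 2 n17304 = n15600 := d1_3 F41951 F28819 (iv4 F28246)
theorem F41960 : act 7 n17283 = n15597 := d8_2 F41949 D17283 (iv3 D15597)
theorem F41961 : act 7 n17284 = n15599 := d13_2 F41949 D17284 (iv5 D15599)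
theorem F41962 : act 2 n17303 = n15599 := d2_3 (iv5 D15599) F41948 D17303
theorem F41963 : act 7 n15592 = n17302 := d8_2 F41947 D15592 (iv3 D17302)
theorem F41964 : act 7 n15594 = n17303 := d13_2 F41947 D15594 (iv5 D17303)
theorem F41965 : act 2 n17284 = n15594 := d4_3 F41964 F41962 (iv7 F41961)
theorem F41966 : act 7 n26316 = n15574 := d15_2 F41932 F41939 (iv2 F41934)
theorem F41967 : act 2 n26316 = n15573 := d15_3 (iv0 D15573) D15574 (iv7 F41966)
theorem F41968 : act 7 n15573 = n26317 := d4_2 (iv7 F41966) F41967 F41934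
theorem F41969 : act 1 n26319 = n15573 := d15_1 F41940 F41968 F41934
def n26320 : Q := act 3 n12519
theorem D26320 : act 3 n12519 = n26320 := rfl
theorem F41970 : act 2 n26320 = n18476 := d0_1 D26320 (iv3 D18476) F13610 (iv3 F11659) (iv2 F26469)
def n26321 : Q := act 6 n12522
theorem D26321 : act 6 n12522 = n26321 := rfl
theorem F41971 : act 2 n26321 = n15636 := d3_1 D26321 (iv6 D15636) (iv2 F20864)
theorem F41972 : act 3 n26321 = n17411 := d7_1 D26321 (iv6 D17411) F26758
theorem F41973 : act 5 n26321 = n14083 := d12_1 D26321 (iv6 D14083) (iv5 D6695) (iv6 F9245) D12522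
def n26322 : Q := act 6 n12524
theorem D26322 : act 6 n12524 = n26322 := rfl
theorem F41974 : act 2 n26322 = n15645 := d3_1 D26322 (iv6 D15645) (iv2 F20869)
theorem F41975 : act 5 n26322 = n14857 := d12_1 D26322 (iv6 D14857) (iv5 D7075) (iv6 F9250) D12524
def n26323 : Q := act 6 n12540
theorem D26323 : act 6 n12540 = n26323 := rfl
theorem F41976 : act 2 n26323 = n12543 := d3_1 D26323 (iv6 D12543) (iv2 F20888)
theorem F41977 : act 3 n26323 = n15675 := d7_1 D26323 (iv6 D15675) (iv3 F20889)
theorem F41978 : act 5 n26323 = n16579 := d12_1 D26323 (iv6 D16579) (iv5 D7703) F26438 D12540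
def n26324 : Q := act 0 n12543
theorem D26324 : act 0 n12543 = n26324 := rfl
theorem F41979 : act 6 n26324 = n17303 := d21_5 F26445 (iv1 D5961) D5963 D12543 D26324 (iv5 D17303) F41760 D12515 F20843 (iv1 F26417)
def n26325 : Q := act 1 n12543
theorem D26325 : act 1 n12543 = n26325 := rfl
def n26326 : Q := act 7 n12543
theorem D26326 : act 7 n12543 = n26326 := rfl
theorem F41980 : act 3 n26326 = n12546 := d8_1 D26326 (iv7 D12546) (iv3 F20895)
theorem F41981 : act 6 n26326 = n15819 := d14_1 D26326 (iv7 D15819) (iv6 D7421) (iv7 F9264) D12543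
def n26327 : Q := act 6 n12552
theorem D26327 : act 6 n12552 = n26327 := rfl
theorem F41982 : act 3 n26327 = n12554 := d7_1 D26327 (iv6 D12554) D12552
def n26328 : Q := act 5 n12554
theorem D26328 : act 5 n12554 = n26328 := rfl
theorem F41983 : act 2 n26328 = n15661 := d2_1 D26328 (iv5 D15661) (iv2 F25564)
def n26329 : Q := act 4 n12555
theorem D26329 : act 4 n12555 = n26329 := rfl
theorem F41984 : act 2 n26329 = n12559 := d1_1 D26329 (iv4 D12559) (iv2 F20906)
theorem F41985 : act 7 n26329 = n15674 := d11_2 (iv7 F20908) D26329 (iv4 D15674)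
theorem F41986 : act 0 n26329 = n15687 := d17_0 (iv5 F27837) D19273 F30929 (iv4 D12507) (iv5 D5947) D5945 (iv5 F27225) F20909 D26329
theorem F41987 : act 1 n26329 = n15686 := d18_6 (iv1 F11812) (iv4 D7366) (iv1 F9271) F9269 D12555 D26329 (iv4 F41874) F41877 (iv5 D16107)
def n26330 : Q := act 6 n12555
theorem D26330 : act 6 n12555 = n26330 := rfl
theorem F41988 : act 2 n26330 = n12560 := d3_1 D26330 (iv6 D12560) (iv2 F20906)
theorem F41989 : act 3 n26330 = n15797 := d7_1 D26330 (iv6 D15797) (iv3 F20907)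
def n26331 : Q := act 5 n12556
theorem D26331 : act 5 n12556 = n26331 := rfl
theorem F41990 : act 2 n26331 = n12563 := d2_1 D26331 (iv5 D12563) (iv2 F20911)
theorem F41991 : act 3 n26331 = n12758 := d6_1 D26331 (iv5 D12758) (iv3 F26507)
theorem F41992 : act 7 n26331 = n16452 := d13_2 (iv7 F26508) D26331 (iv5 D16452)
def n26332 : Q := act 0 n12559
theorem D26332 : act 0 n12559 = n26332 := rfl
theorem F41993 : act 5 n26332 = n19275 := d17_1 D26332 (iv1 F35173) (iv5 F41911) (iv4 D26305) (iv5 D12503) F9225 D7255 F20919 D12559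
theorem F41994 : act 4 n26332 = n15340 := d18_3 F24909 D12559 D26332 (iv5 D15340) (iv4 D7254) (iv0 D3336) F2589 D3337 D7260
theorem F41995 : act 2 n15687 = n26332 := d15_3 (iv0 D26332) (iv0 F35182) F35179
theorem F41996 : act 1 n15674 = n26332 := d15_0 (iv0 D26332) F20917 (iv2 F25165)
theorem F41997 : act 7 n26332 = n15686 := d15_2 F35181 F41996 (iv2 F35177)
def n26333 : Q := act 6 n12559
theorem D26333 : act 6 n12559 = n26333 := rfl
theorem F41998 : act 3 n26333 = n13059 := d7_1 D26333 (iv6 D13059) (iv3 F20916)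
theorem F41999 : act 4 n26333 = n12560 := d10_1 D26333 (iv6 D12560) D12559
def n26334 : Q := act 0 n12560
theorem D26334 : act 0 n12560 = n26334 := rfl
def n26335 : Q := act 1 n12560
theorem D26335 : act 1 n12560 = n26335 := rfl
def n26336 : Q := act 5 n12560
theorem D26336 : act 5 n12560 = n26336 := rfl
theorem F42000 : act 3 n26336 = n12567 := d6_1 D26336 (iv5 D12567) (iv3 F20920)
theorem F42001 : act 6 n26336 = n12563 := d12_2 D12560 D26336 (iv5 D12563) (iv6 D5969) D5968
def n26337 : Q := act 7 n12560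
theorem D26337 : act 7 n12560 = n26337 := rfl
theorem F42002 : act 3 n26337 = n12568 := d8_1 D26337 (iv7 D12568) (iv3 F20920)
theorem F42003 : act 6 n26337 = n15692 := d14_1 D26337 (iv7 D15692) (iv6 D7378) (iv7 F9275) D12560
def n26338 : Q := act 3 n12562
theorem D26338 : act 3 n12562 = n26338 := rfl
theorem F42004 : act 6 n26338 = n14978 := d7_2 (iv6 F41364) D26338 (iv3 D14978)
theorem F42005 : act 7 n26338 = n15653 := d8_2 (iv7 F27202) D26338 F25149
def n26339 : Q := act 4 n12562
theorem D26339 : act 4 n12562 = n26339 := rfl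
theorem F42006 : act 6 n26339 = n14979 := d10_2 (iv6 F41364) D26339 (iv4 D14979)
theorem F42007 : act 7 n26339 = n15657 := d11_2 (iv7 F27202) D26339 F25154
def n26340 : Q := act 5 n12562
theorem D26340 : act 5 n12562 = n26340 := rfl
theorem F42008 : act 7 n26340 = n15661 := d13_2 (iv7 F27202) D26340 (iv5 D15661)
def n26341 : Q := act 0 n12563
theorem D26341 : act 0 n12563 = n26341 := rfl
def n26342 : Q := act 1 n12563
theorem D26342 : act 1 n12563 = n26342 := rfl
theorem F42009 : act 1 n26342 = n16452 := d15_1 D26342 (iv7 F41992) F41990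
def n26343 : Q := act 4 n12563
theorem D26343 : act 4 n12563 = n26343 := rfl
def n26344 : Q := act 7 n12563
theorem D26344 : act 7 n12563 = n26344 := rfl
theorem F42010 : act 2 n26344 = n16452 := d4_1 D26344 (iv7 F41992) F41990
theorem F42011 : act 3 n26344 = n12576 := d8_1 D26344 (iv7 D12576) (iv3 F20921)
theorem F42012 : act 5 n26344 = n12564 := d13_1 D26344 (iv7 D12564) D12563
theorem F42013 : act 1 n16452 = n26341 := d15_0 (iv0 D26341) D26344 F42010
def n26345 : Q := act 0 n12567
theorem D26345 : act 0 n12567 = n26345 := rfl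
theorem F42014 : act 5 n26345 = n17717 := d17_3 (iv1 F41732) D12567 D26345 (iv4 D17717) (iv5 D8335) (iv0 D3742) F2820 D3743 D8339
theorem F42015 : act 7 n15845 = n26345 := d13_0 F42014 (iv7 F28826) (iv5 F41739)
theorem F42016 : act 1 n15847 = n26345 := d17_6 D8813 F13688 (iv1 F9686) F5789 (iv4 F11711) (iv5 F25325) F42014 F41734 F13686
theorem F42017 : act 2 n26345 = n15844 := d15_3 (iv0 D15844) D15845 F42015
def n26346 : Q := act 1 n12567
theorem D26346 : act 1 n12567 = n26346 := rfl
theorem F42018 : act 1 n26346 = n15847 := d15_1 D26346 (iv7 D15847) (iv2 F20926)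
theorem F42019 : act 7 n26346 = n15844 := d15_2 (iv0 D26345) D26346 (iv2 F42017)
theorem F42020 : act 5 n26346 = n15595 := d17_7 F13672 F13619 (iv1 D6218) F4205 (iv4 F9279) D12567 D26346 F41944 F30026
theorem F42021 : act 2 n15845 = n26346 := d2_3 F42020 F41945 (iv5 F41739)
def n26347 : Q := act 4 n12567
theorem D26347 : act 4 n12567 = n26347 := rfl
theorem F42022 : act 2 n26347 = n15846 := d1_1 D26347 (iv4 D15846) (iv2 F20926)
theorem F42023 : act 6 n26347 = n12575 := d10_2 (iv6 F20927) D26347 (iv4 D12575)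
def n26348 : Q := act 7 n12567
theorem D26348 : act 7 n12567 = n26348 := rfl
theorem F42024 : act 2 n26348 = n15847 := d4_1 D26348 (iv7 D15847) (iv2 F20926)
theorem F42025 : act 5 n26348 = n12568 := d13_1 D26348 (iv7 D12568) D12567
theorem F42026 : act 1 n15845 = n26348 := d15_1 D15845 (iv7 D26348) F20926
theorem F42027 : act 1 n26348 = n15844 := d15_1 F42026 (iv7 F42019) (iv2 F42021)
def n26349 : Q := act 0 n12569
theorem D26349 : act 0 n12569 = n26349 := rfl
theorem F42028 : act 1 n15858 = n26349 := d15_0 (iv0 D26349) F20935 D15858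
def n26350 : Q := act 1 n12569
theorem D26350 : act 1 n12569 = n26350 := rfl
def n26351 : Q := act 2 n12569
theorem D26351 : act 2 n12569 = n26351 := rfl
theorem F42029 : act 3 n26351 = n15850 := d0_2 D12569 D26351 (iv2 D15850) (iv3 D7431) (iv2 F12652)
theorem F42030 : act 4 n26351 = n15876 := d1_2 (iv4 F20934) D26351 (iv2 D15876)
theorem F42031 : act 6 n26351 = n13601 := d3_2 (iv6 F26512) D26351 F25408
theorem F42032 : act 7 n26351 = n15858 := d4_2 (iv7 F20935) D26351 (iv2 D15858)
theorem F42033 : act 1 n26351 = n15856 := d15_0 (iv0 D15856) (iv7 F20935) D26351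
theorem F42034 : act 1 n26350 = n15858 := d15_1 D26350 (iv7 F42032) (iv2 D26351)
theorem F42035 : act 1 n15857 = n26351 := d15_1 D15857 F42032 (iv2 D15858)
def n26352 : Q := act 5 n12569
theorem D26352 : act 5 n12569 = n26352 := rfl
theorem F42036 : act 3 n26352 = n12570 := d6_1 D26352 (iv5 D12570) D12569
theorem F42037 : act 7 n26352 = n15859 := d13_2 (iv7 F20935) D26352 (iv5 D15859)
def n26353 : Q := act 4 n12570
theorem D26353 : act 4 n12570 = n26353 := rfl
theorem F42038 : act 2 n26353 = n15854 := d1_1 D26353 (iv4 D15854) (iv2 F20936)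
theorem F42039 : act 7 n26353 = n15860 := d11_2 (iv7 F20937) D26353 (iv4 D15860)
theorem F42040 : act 5 n26353 = n16101 := d16_1 D26353 F25609 F20949 F12686 F5632 (iv4 F12656) D12572 F20941 (iv2 F20936)
def n26354 : Q := act 6 n12570
theorem D26354 : act 6 n12570 = n26354 := rfl
theorem F42041 : act 2 n26354 = n15855 := d3_1 D26354 (iv6 D15855) (iv2 F20936)
theorem F42042 : act 5 n26354 = n15568 := d12_1 D26354 (iv6 D15568) (iv5 F25799) (iv6 F26424) D12570
def n26355 : Q := act 0 n12571
theorem D26355 : act 0 n12571 = n26355 := rfl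
theorem F42043 : act 1 n15850 = n26355 := d15_0 (iv0 D26355) F20939 D15850
def n26356 : Q := act 1 n12571
theorem D26356 : act 1 n12571 = n26356 := rfl
def n26357 : Q := act 2 n12571
theorem D26357 : act 2 n12571 = n26357 := rfl
theorem F42044 : act 3 n26357 = n15858 := d0_2 D12571 D26357 (iv2 D15858) (iv3 D7436) (iv2 F12655)
theorem F42045 : act 7 n26357 = n15850 := d4_2 (iv7 F20939) D26357 (iv2 D15850)
theorem F42046 : act 1 n26357 = n15848 := d15_0 (iv0 D15848) (iv7 F20939) D26357
theorem F42047 : act 1 n26356 = n15850 := d15_1 D26356 (iv7 F42045) (iv2 D26357)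
theorem F42048 : act 1 n15849 = n26357 := d15_1 D15849 F42045 (iv2 D15850)
def n26358 : Q := act 5 n12571
theorem D26358 : act 5 n12571 = n26358 := rfl
theorem F42049 : act 3 n26358 = n12572 := d6_1 D26358 (iv5 D12572) D12571
theorem F42050 : act 7 n26358 = n15852 := d13_2 (iv7 F20939) D26358 (iv5 D15852)
def n26359 : Q := act 4 n12572
theorem D26359 : act 4 n12572 = n26359 := rfl
theorem F42051 : act 2 n26359 = n15860 := d1_1 D26359 (iv4 D15860) (iv2 F20940)
theorem F42052 : act 5 n26359 = n16100 := d9_2 D12572 D26359 F25605 F20943 F20521 (iv5 F10500) (iv4 F12653) D12570 D26353 F42040 F25609 F20949 F12686 F5632 (iv4 F12656)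
theorem F42053 : act 7 n26359 = n15854 := d11_2 (iv7 F20941) D26359 (iv4 D15854)
def n26360 : Q := act 6 n12572
theorem D26360 : act 6 n12572 = n26360 := rfl
theorem F42054 : act 2 n26360 = n15861 := d3_1 D26360 (iv6 D15861) (iv2 F20940)
def n26361 : Q := act 3 n12573
theorem D26361 : act 3 n12573 = n26361 := rfl
theorem F42055 : act 5 n26361 = n26061 := d6_2 (iv5 F20943) D26361 (iv3 D26061)
theorem F42056 : act 7 n26361 = n15865 := d8_2 F20945 D26361 (iv3 D15865)
def n26362 : Q := act 6 n12573
theorem D26362 : act 6 n12573 = n26362 := rfl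
theorem F42057 : act 2 n26362 = n15864 := d3_1 D26362 (iv6 D15864) F20944
def n26363 : Q := act 3 n12574
theorem D26363 : act 3 n12574 = n26363 := rfl
theorem F42058 : act 5 n26363 = n17033 := d6_2 (iv5 F20949) D26363 F27915
theorem F42059 : act 7 n26363 = n15862 := d8_2 (iv7 F20948) D26363 (iv3 D15862)
def n26364 : Q := act 6 n12574
theorem D26364 : act 6 n12574 = n26364 := rfl
theorem F42060 : act 2 n26364 = n15867 := d3_1 D26364 (iv6 D15867) F20950
theorem F42061 : act 5 n26364 = n17035 := d12_1 D26364 (iv6 D17035) (iv5 D7958) D7959 (iv5 F20949)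
def n26365 : Q := act 0 n12575
theorem D26365 : act 0 n12575 = n26365 := rfl
theorem F42062 : act 4 n26365 = n12635 := d18_3 (iv1 D12574) D12575 D26365 F21037 (iv4 D12356) F9082 (iv4 F11337) F12689 (iv5 F20949)
theorem F42063 : act 1 n15872 = n26365 := d15_0 (iv0 D26365) (iv7 F25340) (iv2 F25343)
theorem F42064 : act 2 n15868 = n26365 := d1_3 F42062 (iv2 F21038) (iv4 F25337)
theorem F42065 : act 7 n15869 = n26365 := d11_0 F42062 (iv7 F21039) (iv4 F25338)
def n26366 : Q := act 1 n12575
theorem D26366 : act 1 n12575 = n26366 := rfl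
theorem F42066 : act 1 n26366 = n15872 := d15_1 D26366 (iv7 D15872) (iv2 F20951)
theorem F42068 : act 4 n26366 = n12636 := d18_7 (iv1 F12680) (iv4 D5980) (iv1 D2522) (iv4 F4003) D5973 D12575 D26366 F21041 F11757
theorem F42069 : act 2 n15869 = n26366 := d1_3 F42068 (iv2 F21044) (iv4 F25338)
def n26368 : Q := act 6 n12576
theorem D26368 : act 6 n12576 = n26368 := rfl
theorem F42070 : act 2 n26368 = n15873 := d3_1 D26368 (iv6 D15873) (iv2 F20952)
theorem F42071 : act 5 n26368 = n13922 := d12_1 D26368 (iv6 D13922) F10711 (iv6 F9284) (iv5 F20953)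
def n26369 : Q := act 0 n12577
theorem D26369 : act 0 n12577 = n26369 := rfl
theorem F42072 : act 2 n12683 = n26369 := d15_3 (iv0 D26369) F26890 D12683
theorem F42073 : act 1 n12681 = n26369 := d15_0 (iv0 D26369) F20956 (iv2 F26891)
theorem F42074 : act 7 n26369 = n12668 := d15_2 D12681 F42073 F21077
theorem F42075 : act 6 n12667 = n26369 := d14_5 F42074 (iv6 D12668) (iv7 D6006) D6005 D12667
theorem F42076 : act 3 n26369 = n15909 := d7_1 F42075 (iv6 F38069) F38068
def n26370 : Q := act 5 n12577
theorem D26370 : act 5 n12577 = n26370 := rfl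
theorem F42077 : act 2 n26370 = n16024 := d2_1 D26370 (iv5 D16024) (iv2 F26801)
theorem F42078 : act 3 n26370 = n12578 := d6_1 D26370 (iv5 D12578) D12577
theorem F42079 : act 7 n26370 = n15887 := d13_2 (iv7 F20956) D26370 (iv5 D15887)
def n26371 : Q := act 4 n12578
theorem D26371 : act 4 n12578 = n26371 := rfl
theorem F42080 : act 2 n26371 = n15880 := d1_1 D26371 (iv4 D15880) (iv2 F20957)
theorem F42081 : act 7 n26371 = n15888 := d11_2 (iv7 F20958) D26371 (iv4 D15888)
theorem F42082 : act 5 n26371 = n26366 := d16_1 D26371 F42068 F21043 (iv4 D12355) F9079 D5980 D12580 F20962 (iv2 F20957)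
def n26372 : Q := act 6 n12578
theorem D26372 : act 6 n12578 = n26372 := rfl
theorem F42084 : act 2 n26372 = n15881 := d3_1 D26372 (iv6 D15881) (iv2 F20957)
theorem F42085 : act 5 n26372 = n17418 := d12_1 D26372 (iv6 D17418) F20820 F20816 D12578
def n26373 : Q := act 2 n12579
theorem D26373 : act 2 n12579 = n26373 := rfl
theorem F42086 : act 3 n26373 = n12681 := d0_2 D12579 D26373 F26891 (iv3 D7453) F11378
theorem F42087 : act 4 n26373 = n15858 := d1_2 (iv4 F20959) D26373 (iv2 D15858)
theorem F42088 : act 6 n26373 = n15101 := d3_2 F26808 D26373 F26979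
theorem F42089 : act 7 n26373 = n15876 := d4_2 (iv7 F20960) D26373 (iv2 D15876)
theorem F42090 : act 1 n26373 = n15874 := d15_0 (iv0 D15874) (iv7 F20960) D26373
theorem F42091 : act 1 n16298 = n15876 := d15_1 (iv0 F27009) (iv7 F42089) (iv2 D26373)
theorem F42092 : act 1 n15875 = n26373 := d15_1 D15875 F42089 (iv2 D15876)
theorem F42093 : act 4 n13662 = n26349 := d20_0 (iv1 F42028) (iv4 F42087) F42086 (iv1 D12681) F26572 F12417 (iv1 D2893) (iv4 F4491) (iv3 F10561) D13662
def n26374 : Q := act 5 n12579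
theorem D26374 : act 5 n12579 = n26374 := rfl
theorem F42094 : act 3 n26374 = n12580 := d6_1 D26374 (iv5 D12580) D12579
theorem F42095 : act 7 n26374 = n15877 := d13_2 (iv7 F20960) D26374 (iv5 D15877)
def n26375 : Q := act 4 n12580
theorem D26375 : act 4 n12580 = n26375 := rfl
theorem F42096 : act 2 n26375 = n15888 := d1_1 D26375 (iv4 D15888) (iv2 F20961)
theorem F42097 : act 5 n26375 = n26365 := d9_2 D12580 D26375 F42062 F21037 (iv4 D12356) (iv5 F9083) D5977 D12578 D26371 F42082 F42068 F21043 (iv4 D12355) F9079 D5980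
theorem F42098 : act 7 n26375 = n15880 := d11_2 (iv7 F20962) D26375 (iv4 D15880)
theorem F42099 : act 0 n26375 = n14896 := d17_0 (iv5 F41213) F41214 F25354 F25338 F11756 (iv0 F11593) D13537 F22691 D26375
def n26376 : Q := act 6 n12580
theorem D26376 : act 6 n12580 = n26376 := rfl
theorem F42100 : act 2 n26376 = n15889 := d3_1 D26376 (iv6 D15889) (iv2 F20961)
def n26377 : Q := act 5 n12583
theorem D26377 : act 5 n12583 = n26377 := rfl
theorem F42101 : act 2 n26377 = n16018 := d2_1 D26377 (iv5 D16018) F25461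
theorem F42102 : act 7 n26377 = n16006 := d13_2 (iv7 F25458) D26377 (iv5 D16006)
def n26378 : Q := act 4 n12584
theorem D26378 : act 4 n12584 = n26378 := rfl
theorem F42103 : act 2 n26378 = n16020 := d1_1 D26378 (iv4 D16020) F25460
theorem F42104 : act 7 n26378 = n16010 := d11_2 (iv7 F25459) D26378 (iv4 D16010)
def n26379 : Q := act 6 n12584
theorem D26379 : act 6 n12584 = n26379 := rfl
theorem F42105 : act 2 n26379 = n16021 := d3_1 D26379 (iv6 D16021) F25460
theorem F42106 : act 3 n26379 = n17418 := d7_1 D26379 (iv6 D17418) (iv3 F26950)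
def n26380 : Q := act 5 n12588
theorem D26380 : act 5 n12588 = n26380 := rfl
theorem F42107 : act 2 n26380 = n16006 := d2_1 D26380 (iv5 D16006) F25455
theorem F42108 : act 7 n26380 = n16018 := d13_2 F25445 D26380 (iv5 D16018)
theorem F42109 : act 1 n25700 = n16018 := d15_1 (iv0 F41870) (iv7 F42108) F42107
def n26381 : Q := act 4 n12589
theorem D26381 : act 4 n12589 = n26381 := rfl
theorem F42110 : act 2 n26381 = n16010 := d1_1 D26381 (iv4 D16010) F25456
theorem F42111 : act 7 n26381 = n16020 := d11_2 F25446 D26381 (iv4 D16020)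
def n26382 : Q := act 6 n12589
theorem D26382 : act 6 n12589 = n26382 := rfl
theorem F42112 : act 2 n26382 = n16011 := d3_1 D26382 (iv6 D16011) F25456
def n26383 : Q := act 4 n12591
theorem D26383 : act 4 n12591 = n26383 := rfl
theorem F42113 : act 2 n26383 = n12595 := d1_1 D26383 (iv4 D12595) (iv2 F20966)
theorem F42114 : act 7 n26383 = n16028 := d11_2 (iv7 F20968) D26383 (iv4 D16028)
theorem F42115 : act 0 n26383 = n16061 := d18_2 (iv1 F20970) D26383 (iv4 F25586) F27214 F20822 F20088 F12915 F9438 F26854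
theorem F42116 : act 1 n26383 = n16060 := d15_0 (iv0 D16060) (iv7 F20976) (iv2 F42113)
def n26384 : Q := act 6 n12591
theorem D26384 : act 6 n12591 = n26384 := rfl
theorem F42117 : act 2 n26384 = n12596 := d3_1 D26384 (iv6 D12596) (iv2 F20966)
theorem F42118 : act 3 n26384 = n15931 := d7_1 D26384 (iv6 D15931) (iv3 F20967)
def n26385 : Q := act 0 n12592
theorem D26385 : act 0 n12592 = n26385 := rfl
theorem F42119 : act 2 n12597 = n26385 := d15_3 (iv0 D26385) F27012 (iv7 F26989)
theorem F42120 : act 6 n26385 = n15117 := d3_2 F41413 F42119 (iv2 F41579)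
theorem F42121 : act 7 n12598 = n26385 := d15_2 (iv0 D12597) D12598 (iv2 F42119)
theorem F42122 : act 2 n14100 = n12598 := d4_3 F42121 (iv2 F42119) F26989
theorem F42123 : act 6 n14098 = n12598 := d14_5 F42121 F42120 (iv7 F41585) F41587 F26679
theorem F42124 : act 1 n12600 = n26385 := d15_1 (iv0 F27011) (iv7 F42121) (iv2 F42122)
def n26386 : Q := act 5 n12592
theorem D26386 : act 5 n12592 = n26386 := rfl
theorem F42125 : act 2 n26386 = n12599 := d2_1 D26386 (iv5 D12599) (iv2 F20971)
theorem F42126 : act 3 n26386 = n15934 := d6_1 D26386 (iv5 D15934) (iv3 F20972)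
theorem F42127 : act 0 n12772 = n26386 := d21_7 D7494 (iv1 F27120) F5431 D3676 (iv1 F26770) (iv6 F9402) D12772 (iv5 D26386) (iv6 D12592) (iv1 F9295)
def n26387 : Q := act 7 n12592
theorem D26387 : act 7 n12592 = n26387 := rfl
theorem F42128 : act 2 n26387 = n12600 := d4_1 D26387 (iv7 D12600) (iv2 F20971)
theorem F42129 : act 3 n26387 = n15935 := d8_1 D26387 (iv7 D15935) (iv3 F20972)
theorem F42130 : act 6 n26387 = n12713 := d14_1 D26387 F26867 (iv6 D7498) (iv7 F9292) D12592
theorem F42131 : act 1 n12598 = n26387 := d15_1 D12598 (iv7 D26387) F20971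
theorem F42132 : act 1 n26387 = n12597 := d15_1 F42131 F26989 F42122
def n26388 : Q := act 0 n12595
theorem D26388 : act 0 n12595 = n26388 := rfl
theorem F42133 : act 2 n16061 = n26388 := d15_3 (iv0 D26388) (iv0 F29484) F29481
theorem F42134 : act 1 n16028 = n26388 := d15_0 (iv0 D26388) F20976 (iv2 F25514)
theorem F42135 : act 7 n26388 = n16060 := d15_2 F29482 F42134 (iv2 F29485)
def n26389 : Q := act 5 n12595
theorem D26389 : act 5 n12595 = n26389 := rfl
theorem F42136 : act 3 n26389 = n13015 := d6_1 D26389 (iv5 D13015) (iv3 F20975)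
theorem F42137 : act 7 n26389 = n16062 := d13_2 (iv7 F20976) D26389 (iv5 D16062)
theorem F42138 : act 0 n16740 = n26389 := d19_0 (iv5 D26389) (iv4 D12595) F9296 F4016 (iv5 D1551) (iv4 D839) (iv3 F1572) F1573 (iv5 D525) (iv4 D272) (iv3 F1083) (iv1 F371) (iv5 F422) (iv4 F854) (iv3 F1658) (iv1 F6433) (iv5 F7218) D7821 D16740
theorem F42139 : act 1 n18159 = n26389 := d15_0 (iv0 F42138) F27479 D18159
def n26390 : Q := act 6 n12595
theorem D26390 : act 6 n12595 = n26390 := rfl
theorem F42140 : act 3 n26390 = n13016 := d7_1 D26390 (iv6 D13016) (iv3 F20975)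
theorem F42141 : act 4 n26390 = n12596 := d10_1 D26390 (iv6 D12596) D12595
def n26391 : Q := act 0 n12596
theorem D26391 : act 0 n12596 = n26391 := rfl
def n26392 : Q := act 1 n12596
theorem D26392 : act 1 n12596 = n26392 := rfl
def n26393 : Q := act 5 n12596
theorem D26393 : act 5 n12596 = n26393 := rfl
theorem F42142 : act 3 n26393 = n12603 := d6_1 D26393 (iv5 D12603) (iv3 F20977)
theorem F42143 : act 6 n26393 = n12599 := d12_2 D12596 D26393 (iv5 D12599) (iv6 D5985) D5984
def n26394 : Q := act 7 n12596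
theorem D26394 : act 7 n12596 = n26394 := rfl
theorem F42144 : act 3 n26394 = n12604 := d8_1 D26394 (iv7 D12604) (iv3 F20977)
theorem F42145 : act 6 n26394 = n16067 := d14_1 D26394 (iv7 D16067) (iv6 D7506) (iv7 F9297) D12596
def n26395 : Q := act 4 n12597
theorem D26395 : act 4 n12597 = n26395 := rfl
theorem F42146 : act 3 n26395 = n14067 := d5_1 D26395 (iv4 D14067) F10891 D6696 (iv3 F26988)
def n26396 : Q := act 5 n12597
theorem D26396 : act 5 n12597 = n26396 := rfl
theorem F42147 : act 3 n26396 = n14085 := d6_1 D26396 (iv5 D14085) (iv3 F26988)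
def n26397 : Q := act 3 n12598
theorem D26397 : act 3 n12598 = n26397 := rfl
theorem F42148 : act 2 n26397 = n13875 := d0_1 D26397 F23142 (iv2 F10926) (iv3 F23566) F42122
theorem F42149 : act 6 n26397 = n13873 := d7_2 F42123 D26397 (iv3 F23559)
def n26398 : Q := act 4 n12598
theorem D26398 : act 4 n12598 = n26398 := rfl
def n26399 : Q := act 5 n12598
theorem D26399 : act 5 n12598 = n26399 := rfl
def n26400 : Q := act 0 n12599
theorem D26400 : act 0 n12599 = n26400 := rfl
theorem F42150 : act 3 n26400 = n12776 := d20_5 (iv4 F22997) F22998 (iv4 D12605) (iv3 F20978) D26400 F21213 D16562 F26221 F26545 (iv1 F10964)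
theorem F42151 : act 5 n26400 = n12773 := d21_8 (iv5 F24822) F41431 (iv5 D26141) F26957 (iv1 D5982) D5985 D12599 D26400 (iv6 F24857) (iv1 F26895)
theorem F42152 : act 7 n12772 = n26400 := d13_0 F42151 (iv7 D12773) D12772
def n26401 : Q := act 1 n12599
theorem D26401 : act 1 n12599 = n26401 := rfl
theorem F42153 : act 5 n12771 = n26401 := d21_6 D12584 F26948 F11831 F26653 (iv1 F11547) (iv6 F21204) (iv1 D26401) (iv5 D12599) (iv6 D5985) D5981
theorem F42154 : act 2 n26401 = n12772 := d2_1 F42153 (iv5 D12772) D12771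
theorem F42155 : act 3 n26401 = n16618 := d6_1 F42153 (iv5 D16618) (iv3 F21203)
def n26402 : Q := act 4 n12599
theorem D26402 : act 4 n12599 = n26402 := rfl
def n26403 : Q := act 7 n12599
theorem D26403 : act 7 n12599 = n26403 := rfl
theorem F42156 : act 3 n26403 = n12606 := d8_1 D26403 (iv7 D12606) (iv3 F20978)
theorem F42157 : act 5 n26403 = n12600 := d13_1 D26403 (iv7 D12600) D12599
theorem F42158 : act 1 n12772 = n26403 := d15_1 (iv0 F42127) (iv7 D26403) (iv2 F42125)
def n26404 : Q := act 2 n12601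
theorem D26404 : act 2 n12601 = n26404 := rfl
theorem F42159 : act 7 n12602 = n26404 := d15_2 (iv0 D12601) D12602 (iv2 D26404)
def n26405 : Q := act 3 n12601
theorem D26405 : act 3 n12601 = n26405 := rfl
def n26406 : Q := act 4 n12601
theorem D26406 : act 4 n12601 = n26406 := rfl
def n26407 : Q := act 5 n12601
theorem D26407 : act 5 n12601 = n26407 := rfl
def n26408 : Q := act 6 n12601
theorem D26408 : act 6 n12601 = n26408 := rfl
def n26409 : Q := act 7 n12601
theorem D26409 : act 7 n12601 = n26409 := rfl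
theorem F42160 : act 2 n26409 = n12602 := d4_1 D26409 F42159 (iv2 D26404)
def n26410 : Q := act 3 n12602
theorem D26410 : act 3 n12602 = n26410 := rfl
def n26411 : Q := act 4 n12602
theorem D26411 : act 4 n12602 = n26411 := rfl
def n26412 : Q := act 5 n12602
theorem D26412 : act 5 n12602 = n26412 := rfl
def n26413 : Q := act 6 n12602
theorem D26413 : act 6 n12602 = n26413 := rfl
def n26414 : Q := act 0 n12603
theorem D26414 : act 0 n12603 = n26414 := rfl
def n26415 : Q := act 1 n12603
theorem D26415 : act 1 n12603 = n26415 := rfl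
theorem F42161 : act 1 n26415 = n15996 := d15_1 D26415 (iv7 D15996) (iv2 F20982)
theorem F42162 : act 5 n16333 = n26415 := d21_6 (iv5 D1551) (iv1 F1616) (iv5 F2625) D3451 D7591 D16333 (iv1 D26415) (iv5 D12603) (iv6 D5986) F4016
def n26416 : Q := act 4 n12603
theorem D26416 : act 4 n12603 = n26416 := rfl
theorem F42163 : act 2 n26416 = n15995 := d1_1 D26416 (iv4 D15995) (iv2 F20982)
theorem F42164 : act 6 n26416 = n12605 := d10_2 (iv6 F20983) D26416 (iv4 D12605)
def n26417 : Q := act 7 n12603
theorem D26417 : act 7 n12603 = n26417 := rfl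
theorem F42165 : act 2 n26417 = n15996 := d4_1 D26417 (iv7 D15996) (iv2 F20982)
theorem F42166 : act 5 n26417 = n12604 := d13_1 D26417 (iv7 D12604) D12603
theorem F42167 : act 1 n15996 = n26414 := d15_0 (iv0 D26414) D26417 F42165
theorem F42168 : act 1 n15994 = n26417 := d15_1 D15994 (iv7 D26417) F20982
theorem F42169 : act 5 n16417 = n26414 := d21_0 (iv1 F42167) F25494 (iv6 F21033) (iv1 F21035) D16091 (iv5 F25890) (iv1 F25894) (iv5 D7612) D7613 D16417
theorem F42170 : act 6 n16417 = n18763 := d21_9 F27563 (iv1 D16806) (iv5 D7844) (iv6 D3558) (iv1 F4017) D5986 D12603 D26414 (iv5 F42169) F29997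
theorem F42171 : act 4 n18764 = n16417 := d10_3 F42170 (iv4 D18763) D18764
theorem E4850 : n26411 = n6221 := (c17_10 (iv1 D6221) D6222 D13081 (iv5 F29999) F42171 F42169 (iv0 D26414) (iv5 D12603) D12602 D26411)
theorem E4851 : n13078 = n12602 := ((D13078).symm.trans (sb E4850 (iv4 D26411)))
theorem E4852 : n26409 = n7481 := (((iv2 F42160)).symm.trans (sb E4851 F29942))
theorem F42172 : act 4 n12602 = n6221 := (sb E4851 (iv4 D13078))
theorem E4853 : n26404 = n7480 := ((F42159).symm.trans (sb E4851 F29943))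
theorem F42173 : act 2 n7481 = n12602 := (sb E4852 F42160)
theorem E4854 : n13073 = n12601 := (((iv7 F29939)).symm.trans (sb E4852 (iv7 D26409)))
theorem F42174 : act 7 n7480 = n12602 := (sb E4853 (iv7 F42159))
theorem F42175 : act 2 n12601 = n7480 := (sb E4854 F29938)
theorem E4855 : n26406 = n6220 := ((D26406).symm.trans (sb E4854 (iv4 D13073)))
theorem F42176 : act 7 n12601 = n7481 := (sb E4854 F29939)
theorem F42177 : act 4 n6220 = n12601 := (sb E4855 (iv4 D26406))
theorem F42178 : act 4 n26408 = n13075 := d10_3 (iv6 D13075) F42177 D26408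
theorem E4856 : n18600 = n16333 := ((c17_4 (iv1 F20987) (iv5 F25494) (iv1 F42161) (iv5 F42162) F29829 F21797 F21796 F13294 F9694 F42177)).symm
theorem F42179 : act 4 n16333 = n8736 := (sb E4856 F29829)
theorem E4857 : n8734 = n7591 := ((((iv6 D16333)).symm.trans (sb E4856 (iv6 D18600)))).symm
theorem E4858 : n18596 = n12724 := ((((iv1 F21126)).symm.trans (sb E4857 D18596))).symm
theorem E4860 : n16329 = n13236 := ((D16329).symm.trans (sb E4857 (iv2 F29769)))
theorem E4862 : n16331 = n3907 := ((D16331).symm.trans (sb E4857 (iv4 D8734)))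
theorem E4864 : n16334 = n13241 := ((D16334).symm.trans (sb E4857 (iv7 F29767)))
theorem E4865 : n8739 = n7592 := ((((iv1 F21125)).symm.trans (sb E4858 (iv1 F29827)))).symm
theorem F42180 : act 2 n13236 = n7591 := (sb E4860 (iv2 D16329))
theorem F42181 : act 4 n3907 = n7591 := (sb E4862 (iv4 D16331))
theorem F42182 : act 7 n13241 = n7591 := (sb E4864 (iv7 D16334))
theorem F42183 : act 2 n7592 = n13241 := (sb E4865 (iv2 F29789))
theorem E4867 : n16336 = n3908 := ((D16336).symm.trans (sb E4865 (iv4 D8739)))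
theorem E4869 : n18615 = n16338 := (((D16338).symm.trans (sb E4865 D18615))).symm
theorem F42184 : act 7 n7592 = n13236 := (sb E4865 F29788)
theorem F42185 : act 4 n3908 = n7592 := (sb E4867 (iv4 D16336))
theorem F42186 : act 1 n16338 = n8765 := (sb E4869 F30009)
theorem F42187 : act 2 n16338 = n18766 := (sb E4869 (iv2 F30006))
theorem F42188 : act 4 n16338 = n8741 := (sb E4869 F29838)
theorem F42189 : act 7 n16338 = n18763 := (sb E4869 (iv7 F29996))
theorem E4870 : n18623 = n17576 := ((c18_7 (iv1 F9793) F42185 (iv1 D7592) F5430 D3712 D8254 D17576 (iv4 D18623) F22050 F22048)).symm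
theorem F42190 : act 4 n17576 = n8743 := (sb E4870 (iv4 D18623))
theorem F42191 : act 2 n15987 = n26408 := d1_3 F42178 F29752 (iv4 F29941)
theorem F42192 : act 7 n15989 = n26405 := d8_2 F42176 D15989 (iv3 D26405)
theorem F42193 : act 7 n15991 = n26407 := d13_2 F42176 D15991 (iv5 D26407)
theorem F42194 : act 2 n15986 = n26407 := d2_3 (iv5 D26407) F42175 D15986
theorem F42195 : act 7 n26410 = n15984 := d8_2 F42174 D26410 (iv3 D15984)
theorem F42196 : act 7 n26412 = n15986 := d13_2 F42174 D26412 (iv5 D15986)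
theorem F42197 : act 2 n15991 = n26412 := d4_3 F42196 F42194 (iv7 F42193)
theorem F42198 : act 1 n15991 = n16419 := d15_0 (iv0 F25901) (iv7 F42196) (iv2 F42197)
theorem E4871 : n16418 = n16333 := (c17_9 (iv1 F30002) (iv5 F29265) (iv1 F29269) (iv5 D8536) F29944 D15991 F42198 (iv5 D16419) D16418 F42179)
theorem F42199 : act 0 n16333 = n7613 := (sb E4871 (iv1 D16418))
theorem F42200 : act 2 n26413 = n15992 := d3_3 (iv6 D15992) F42173 D26413
theorem F42201 : act 4 n13080 = n26413 := d1_0 F42200 F29945 (iv2 F29737)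
theorem F42202 : act 0 n26413 = n18704 := d17_0 (iv5 D18704) (iv1 F22069) F22066 F9807 (iv5 F9426) F9429 D7849 (iv0 F29710) F42201
theorem F42203 : act 1 n26417 = n15993 := d15_0 (iv0 D15993) D15996 (iv2 F42165)
def n26418 : Q := act 3 n12605
theorem D26418 : act 3 n12605 = n26418 := rfl
theorem F42204 : act 5 n26418 = n14200 := d6_2 (iv5 F20991) D26418 F23706
theorem F42205 : act 7 n26418 = n14199 := d8_2 F20992 D26418 F23705
def n26419 : Q := act 6 n12606
theorem D26419 : act 6 n12606 = n26419 := rfl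
theorem F42206 : act 2 n26419 = n15998 := d3_1 D26419 (iv6 D15998) (iv2 F20993)
theorem F42207 : act 4 n26419 = n14201 := d10_1 D26419 (iv6 D14201) (iv4 F20994)
theorem F42208 : act 5 n26419 = n16105 := d12_1 D26419 (iv6 D16105) F11757 (iv6 F9304) (iv5 F20995)
def n26420 : Q := act 5 n12608
theorem D26420 : act 5 n12608 = n26420 := rfl
theorem F42209 : act 2 n26420 = n15919 := d2_1 D26420 (iv5 D15919) (iv2 F25533)
theorem F42210 : act 7 n26420 = n15901 := d13_2 (iv7 F25534) D26420 (iv5 D15901)
def n26421 : Q := act 4 n12609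
theorem D26421 : act 4 n12609 = n26421 := rfl
theorem F42211 : act 2 n26421 = n15921 := d1_1 D26421 (iv4 D15921) (iv2 F25536)
theorem F42212 : act 3 n26421 = n22690 := d5_1 D26421 F35265 F30606 F27273 F25162
theorem F42213 : act 7 n26421 = n15906 := d11_2 (iv7 F25537) D26421 (iv4 D15906)
def n26422 : Q := act 6 n12609
theorem D26422 : act 6 n12609 = n26422 := rfl
theorem F42214 : act 2 n26422 = n15922 := d3_1 D26422 (iv6 D15922) (iv2 F25536)
def n26423 : Q := act 0 n12612
theorem D26423 : act 0 n12612 = n26423 := rfl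
theorem F42215 : act 3 n26423 = n12671 := d20_5 (iv4 F37275) F37277 (iv4 D12613) D12612 D26423 F26457 (iv1 F12458) F26420 D7407 (iv1 F37254)
theorem F42216 : act 4 n26423 = n16865 := d20_0 (iv1 F27603) F18078 F7640 F37245 D13591 (iv4 F37275) F37277 (iv4 D12613) D12612 D26423
theorem F42217 : act 2 n12652 = n26423 := d15_3 (iv0 D26423) F25572 D12652
theorem F42218 : act 1 n12647 = n26423 := d15_0 (iv0 D26423) F25544 F25374
theorem F42219 : act 7 n26423 = n12648 := d15_2 D12647 F42218 (iv2 D12648)
theorem F42220 : act 6 n12746 = n26423 := d14_5 F42219 (iv6 F26668) F18799 F18695 (iv7 F21152)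
def n26424 : Q := act 5 n12612
theorem D26424 : act 5 n12612 = n26424 := rfl
theorem F42221 : act 2 n26424 = n18632 := d2_1 D26424 (iv5 F29902) F25151
theorem F42222 : act 3 n26424 = n12614 := d6_1 D26424 (iv5 D12614) D12612
theorem F42223 : act 7 n26424 = n15917 := d13_2 (iv7 F25544) D26424 (iv5 D15917)
theorem F42224 : act 0 n26424 = n12938 := d17_2 (iv1 F25572) D26424 (iv5 D12938) (iv4 F21476) (iv5 F40641) (iv0 D25725) F20212 (iv0 F21060) (iv4 D12649)
theorem F42225 : act 1 n26424 = n12697 := d15_1 (iv0 F42224) (iv7 F27029) F26658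
def n26425 : Q := act 6 n12612
theorem D26425 : act 6 n12612 = n26425 := rfl
theorem F42226 : act 2 n26425 = n12627 := d3_1 D26425 (iv6 F27211) F25151
theorem F42227 : act 3 n26425 = n12615 := d7_1 D26425 (iv6 D12615) D12612
theorem F42228 : act 0 n12618 = n26425 := d21_4 F35185 (iv1 F21009) (iv5 D12617) D12618 (iv6 D26425) D26424 F42224 (iv5 D12938) (iv6 D6131) D6128
theorem F42229 : act 7 n12628 = n26425 := d15_2 (iv0 D12627) D12628 F42226
theorem F42230 : act 3 n26157 = n12628 := d8_3 F42229 F42227 (iv7 F41478)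
theorem F42231 : act 6 n26154 = n12628 := d14_5 F42229 (iv6 D26425) F25544 (iv6 F41339) (iv7 F41470)
def n26426 : Q := act 5 n12613
theorem D26426 : act 5 n12613 = n26426 := rfl
theorem F42232 : act 2 n26426 = n15901 := d2_1 D26426 (iv5 D15901) (iv2 F25545)
theorem F42233 : act 7 n26426 = n15919 := d13_2 (iv7 F25546) D26426 (iv5 D15919)
def n26427 : Q := act 6 n12613
theorem D26427 : act 6 n12613 = n26427 := rfl
theorem F42234 : act 2 n26427 = n15902 := d3_1 D26427 (iv6 D15902) (iv2 F25545)
theorem F42235 : act 4 n26427 = n12615 := d10_1 D26427 (iv6 D12615) D12613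
def n26428 : Q := act 4 n12614
theorem D26428 : act 4 n12614 = n26428 := rfl
theorem F42236 : act 2 n26428 = n15906 := d1_1 D26428 (iv4 D15906) (iv2 F25547)
theorem F42237 : act 7 n26428 = n15921 := d11_2 (iv7 F25548) D26428 (iv4 D15921)
def n26429 : Q := act 6 n12614
theorem D26429 : act 6 n12614 = n26429 := rfl
theorem F42238 : act 2 n26429 = n15907 := d3_1 D26429 (iv6 D15907) (iv2 F25547)
def n26430 : Q := act 0 n12615
theorem D26430 : act 0 n12615 = n26430 := rfl
theorem F42239 : act 1 n15063 = n26430 := d15_0 (iv0 D26430) (iv7 F41478) F41477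
def n26431 : Q := act 1 n12615
theorem D26431 : act 1 n12615 = n26431 := rfl
theorem F42240 : act 1 n26431 = n15063 := d15_1 D26431 F41344 (iv2 F25549)
def n26432 : Q := act 5 n12615
theorem D26432 : act 5 n12615 = n26432 := rfl
theorem F42241 : act 2 n26432 = n15911 := d2_1 D26432 (iv5 D15911) (iv2 F25549)
def n26433 : Q := act 5 n12616
theorem D26433 : act 5 n12616 = n26433 := rfl
theorem F42242 : act 2 n26433 = n12621 := d2_1 D26433 (iv5 D12621) (iv2 F21000)
theorem F42243 : act 3 n26433 = n25640 := d6_1 D26433 (iv5 D25640) (iv3 F21001)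
theorem F42244 : act 7 n26433 = n15928 := d13_2 (iv7 F21002) D26433 (iv5 D15928)
theorem F42245 : act 1 n26433 = n15943 := d17_6 D6128 F35185 (iv1 F21009) (iv5 D12617) D12616 D26433 F35196 (iv0 D12916) F9522
theorem F42246 : act 1 n15944 = n26433 := d15_0 F42245 F35197 F35192
def n26434 : Q := act 6 n12616
theorem D26434 : act 6 n12616 = n26434 := rfl
theorem F42247 : act 2 n26434 = n12622 := d3_1 D26434 (iv6 D12622) (iv2 F21000)
theorem F42248 : act 3 n26434 = n25641 := d7_1 D26434 (iv6 D25641) (iv3 F21001)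
theorem F42249 : act 4 n26434 = n12618 := d10_1 D26434 (iv6 D12618) D12616
theorem F42250 : act 0 n26434 = n16867 := d21_4 (iv5 F35196) (iv1 F42245) (iv5 D26433) D26434 (iv6 D16867) (iv5 F20212) D25725 F40641 (iv6 D12920) D12916
def n26435 : Q := act 4 n12617
theorem D26435 : act 4 n12617 = n26435 := rfl
theorem F42251 : act 2 n26435 = n12625 := d1_1 D26435 (iv4 D12625) (iv2 F21005)
theorem F42252 : act 7 n26435 = n15930 := d11_2 (iv7 F21007) D26435 (iv4 D15930)
theorem F42253 : act 0 n26435 = n15962 := d18_2 (iv1 F21009) D26435 (iv4 F25479) (iv5 F26882) F26415 (iv0 F21468) F12507 F9532 F35185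
theorem F42254 : act 1 n26435 = n15961 := d15_0 (iv0 D15961) (iv7 F21023) (iv2 F42251)
def n26436 : Q := act 6 n12617
theorem D26436 : act 6 n12617 = n26436 := rfl
theorem F42255 : act 2 n26436 = n12626 := d3_1 D26436 (iv6 D12626) (iv2 F21005)
theorem F42256 : act 3 n26436 = n16029 := d7_1 D26436 (iv6 D16029) (iv3 F21006)
def n26437 : Q := act 1 n12618
theorem D26437 : act 1 n12618 = n26437 := rfl
theorem F42257 : act 1 n26437 = n12630 := d15_1 D26437 (iv7 D12630) (iv2 F21010)
theorem F42258 : act 7 n26437 = n12627 := d15_2 (iv0 F42228) D26437 (iv2 F42226)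
theorem F42259 : act 3 n26339 = n26437 := d20_9 (iv4 F42249) F42250 F27611 F12438 F11990 D7629 F11842 (iv1 F26940) D26339 (iv1 D26437)
theorem F42260 : act 6 n26437 = n15080 := d7_2 (iv6 F42006) F42259 F26819
theorem F42261 : act 2 n12628 = n26437 := d3_3 F42260 (iv2 F41469) F42231
theorem F42262 : act 1 n12630 = n26425 := d15_1 F42257 (iv7 F42229) F42261
def n26438 : Q := act 5 n12618
theorem D26438 : act 5 n12618 = n26438 := rfl
theorem F42263 : act 2 n26438 = n12629 := d2_1 D26438 (iv5 D12629) (iv2 F21010)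
theorem F42264 : act 3 n26438 = n16032 := d6_1 D26438 (iv5 D16032) (iv3 F21011)
def n26439 : Q := act 7 n12618
theorem D26439 : act 7 n12618 = n26439 := rfl
theorem F42265 : act 2 n26439 = n12630 := d4_1 D26439 (iv7 D12630) (iv2 F21010)
theorem F42266 : act 3 n26439 = n12713 := d8_1 D26439 F26867 (iv3 F21011)
theorem F42267 : act 6 n26439 = n15935 := d14_1 D26439 (iv7 D15935) (iv6 D7467) (iv7 F9309) D12618
theorem F42268 : act 1 n12628 = n26439 := d15_1 D12628 (iv7 D26439) F21010
theorem F42269 : act 1 n26439 = n12627 := d15_1 F42268 (iv7 F42258) (iv2 F42261)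
def n26440 : Q := act 5 n12619
theorem D26440 : act 5 n12619 = n26440 := rfl
theorem F42270 : act 2 n26440 = n15941 := d2_1 D26440 (iv5 D15941) F25448
theorem F42271 : act 3 n26440 = n26380 := d6_1 D26440 (iv5 D26380) (iv3 F21012)
theorem F42272 : act 7 n26440 = n15938 := d13_2 (iv7 F25447) D26440 (iv5 D15938)
theorem F42273 : act 0 n26440 = n16929 := d17_2 D12619 D26440 (iv5 D16929) F12507 (iv5 F11826) (iv0 F27274) (iv5 D12609) (iv0 D5989) D5992
theorem F42274 : act 1 n26440 = n12919 := d15_1 (iv0 F42273) F21474 (iv2 F27762)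
def n26441 : Q := act 3 n12620
theorem D26441 : act 3 n12620 = n26441 := rfl
theorem F42275 : act 2 n26441 = n25562 := d0_1 D26441 F40436 (iv2 F25461) (iv3 F11741) (iv2 F25424)
theorem F42276 : act 4 n26441 = n12858 := d5_2 F21015 D26441 F21328 F26431 D12531
theorem F42277 : act 6 n26441 = n13585 := d7_2 F26994 D26441 (iv3 F25326)
theorem F42278 : act 7 n26441 = n15940 := d8_2 (iv7 F25425) D26441 (iv3 D15940)
theorem F42279 : act 0 n26441 = n25750 := d20_10 F40669 (iv1 F25001) F22296 (iv3 F18265) (iv1 F37440) F37438 (iv4 F40580) F40581 F21015 D26441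
theorem F42280 : act 0 n23770 = n26441 := d20_4 (iv4 D15916) (iv1 F26665) F26666 D23770 (iv3 D26441) (iv4 F21015) F25452 D13620 (iv3 F27632) F27633
def n26442 : Q := act 5 n12620
theorem D26442 : act 5 n12620 = n26442 := rfl
theorem F42281 : act 2 n26442 = n15938 := d2_1 D26442 (iv5 D15938) (iv2 F25424)
theorem F42282 : act 7 n26442 = n15941 := d13_2 (iv7 F25425) D26442 (iv5 D15941)
theorem F42283 : act 0 n26442 = n12919 := d17_2 (iv1 F21014) D26442 (iv5 D12919) F9522 (iv5 F9352) (iv0 F27276) (iv5 D12614) F9311 D7465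
theorem E4872 : n16931 = n15938 := ((c15_4 (iv0 D16931) (iv0 F30294) (iv7 F42282) F42281)).symm
theorem F42284 : act 1 n15938 = n7900 := (sb E4872 (iv0 D16931))
theorem F42285 : act 1 n26442 = n16929 := d15_0 (iv0 F42273) F42272 (iv2 F42281)
def n26443 : Q := act 4 n12621
theorem D26443 : act 4 n12621 = n26443 := rfl
theorem F42286 : act 7 n26443 = n15945 := d11_2 (iv7 F21017) D26443 (iv4 D15945)
def n26444 : Q := act 6 n12621
theorem D26444 : act 6 n12621 = n26444 := rfl
theorem F42287 : act 3 n26444 = n16684 := d7_1 D26444 (iv6 D16684) (iv3 F21016)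
def n26445 : Q := act 0 n12622
theorem D26445 : act 0 n12622 = n26445 := rfl
theorem F42288 : act 3 n26445 = n25659 := d20_5 (iv4 F22745) (iv1 D7765) (iv4 F12069) (iv3 F21018) D26445 F40558 F27016 (iv4 F25583) F25582 (iv1 F22755)
theorem F42289 : act 6 n26445 = n16866 := d21_5 D16927 (iv1 F27842) (iv5 D12621) D12622 D26445 (iv5 F40650) (iv1 F40653) (iv5 F37309) F26660 (iv1 F21472)
theorem F42290 : act 2 n16867 = n26445 := d3_3 F42289 (iv2 D16866) D16867
theorem F42291 : act 4 n16882 = n26445 := d10_3 F42289 F27606 D16882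
def n26446 : Q := act 1 n12622
theorem D26446 : act 1 n12622 = n26446 := rfl
theorem F42292 : act 7 n26446 = n16867 := d15_2 (iv0 D26445) D26446 F42290
theorem F42293 : act 3 n16871 = n26446 := d20_3 (iv4 D12224) (iv1 F12430) (iv4 F27623) (iv1 D26446) F21018 F12069 (iv1 F12681) (iv4 F20175) F27055 F20221
theorem F42294 : act 4 n16886 = n26446 := d20_6 (iv4 D5977) (iv1 F4009) (iv4 F5401) F26452 (iv1 F12444) (iv3 F27651) (iv1 D26446) F21019 F9317 (iv1 F12678)
theorem F42295 : act 6 n26446 = n23749 := d10_2 (iv6 F27652) F42294 F36983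
def n26447 : Q := act 5 n12622
theorem D26447 : act 5 n12622 = n26447 := rfl
theorem F42296 : act 3 n26447 = n16685 := d6_1 D26447 (iv5 D16685) (iv3 F21018)
def n26448 : Q := act 7 n12622
theorem D26448 : act 7 n12622 = n26448 := rfl
theorem F42297 : act 3 n26448 = n16686 := d8_1 D26448 (iv7 D16686) (iv3 F21018)
theorem F42298 : act 4 n26448 = n12630 := d11_1 D26448 (iv7 D12630) (iv4 F21019)
theorem F42299 : act 6 n26448 = n15950 := d14_1 D26448 (iv7 D15950) (iv6 D7471) (iv7 F9314) D12622
theorem F42300 : act 0 n16867 = n26448 := d20_7 (iv4 D3409) (iv1 D1501) (iv4 F2616) (iv3 F5399) (iv1 F26425) (iv3 F12438) (iv4 F27611) F42298 F21026 (iv1 F11595)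
def n26449 : Q := act 0 n12625
theorem D26449 : act 0 n12625 = n26449 := rfl
theorem F42301 : act 1 n15930 = n26449 := d15_0 (iv0 D26449) F21023 (iv2 F25395)
def n26450 : Q := act 1 n12625
theorem D26450 : act 1 n12625 = n26450 := rfl
theorem F42302 : act 1 n26450 = n15930 := d15_1 D26450 (iv7 F42252) F42251
theorem F42303 : act 4 n15521 = n26450 := d20_6 (iv4 D1567) (iv1 F2290) (iv4 F3996) (iv3 F9263) F26532 (iv3 F25074) (iv1 D26450) (iv4 D12625) F9315 F4024
theorem F42304 : act 7 n26450 = n15962 := d11_2 F26879 F42303 (iv4 F25479)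
theorem F42305 : act 2 n15962 = n26449 := d15_3 (iv0 D26449) D26450 F42304
theorem F42306 : act 2 n26450 = n15961 := d15_3 (iv0 D15961) D15962 (iv7 F42304)
theorem F42307 : act 7 n15961 = n26449 := d4_2 (iv7 F42304) F42306 (iv2 F42305)
def n26451 : Q := act 5 n12625
theorem D26451 : act 5 n12625 = n26451 := rfl
theorem F42308 : act 3 n26451 = n12994 := d6_1 D26451 (iv5 D12994) (iv3 F21022)
theorem F42309 : act 7 n26451 = n15963 := d13_2 (iv7 F21023) D26451 (iv5 D15963)
def n26452 : Q := act 6 n12625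
theorem D26452 : act 6 n12625 = n26452 := rfl
theorem F42310 : act 3 n26452 = n12995 := d7_1 D26452 (iv6 D12995) (iv3 F21022)
theorem F42311 : act 4 n26452 = n12626 := d10_1 D26452 (iv6 D12626) D12625
def n26453 : Q := act 0 n12626
theorem D26453 : act 0 n12626 = n26453 := rfl
def n26454 : Q := act 1 n12626
theorem D26454 : act 1 n12626 = n26454 := rfl
def n26455 : Q := act 5 n12626
theorem D26455 : act 5 n12626 = n26455 := rfl
theorem F42312 : act 3 n26455 = n12633 := d6_1 D26455 (iv5 D12633) (iv3 F21024)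
theorem F42313 : act 6 n26455 = n12629 := d12_2 D12626 D26455 (iv5 D12629) (iv6 D5994) D5993
def n26456 : Q := act 7 n12626
theorem D26456 : act 7 n12626 = n26456 := rfl
theorem F42314 : act 3 n26456 = n12634 := d8_1 D26456 (iv7 D12634) (iv3 F21024)
theorem F42315 : act 6 n26456 = n15968 := d14_1 D26456 (iv7 D15968) (iv6 D7475) (iv7 F9316) D12626
def n26457 : Q := act 4 n12627
theorem D26457 : act 4 n12627 = n26457 := rfl
theorem F42316 : act 3 n26457 = n16041 := d5_1 D26457 F25579 F25149 (iv4 F25154) (iv3 F27210)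
theorem F42317 : act 6 n26457 = n16039 := d10_2 F27211 D26457 F25577
def n26458 : Q := act 5 n12627
theorem D26458 : act 5 n12627 = n26458 := rfl
def n26459 : Q := act 4 n12628
theorem D26459 : act 4 n12628 = n26459 := rfl
def n26460 : Q := act 5 n12628
theorem D26460 : act 5 n12628 = n26460 := rfl
def n26461 : Q := act 0 n12629
theorem D26461 : act 0 n12629 = n26461 := rfl
def n26462 : Q := act 1 n12629
theorem D26462 : act 1 n12629 = n26462 := rfl
def n26463 : Q := act 4 n12629
theorem D26463 : act 4 n12629 = n26463 := rfl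
def n26464 : Q := act 7 n12629
theorem D26464 : act 7 n12629 = n26464 := rfl
theorem F42318 : act 3 n26464 = n12638 := d8_1 D26464 (iv7 D12638) (iv3 F21025)
theorem F42319 : act 5 n26464 = n12630 := d13_1 D26464 (iv7 D12630) D12629
def n26465 : Q := act 3 n12631
theorem D26465 : act 3 n12631 = n26465 := rfl
theorem F42320 : act 7 n26465 = n16088 := d8_2 (iv7 F30385) D26465 (iv3 D16088)
def n26466 : Q := act 5 n12631
theorem D26466 : act 5 n12631 = n26466 := rfl
theorem F42321 : act 2 n26466 = n16085 := d2_1 D26466 (iv5 D16085) (iv2 F30383)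
theorem F42322 : act 7 n26466 = n16090 := d13_2 (iv7 F30385) D26466 (iv5 D16090)
def n26467 : Q := act 6 n12631
theorem D26467 : act 6 n12631 = n26467 := rfl
theorem F42323 : act 2 n26467 = n16086 := d3_1 D26467 (iv6 D16086) (iv2 F30383)
theorem F42324 : act 4 n26467 = n13066 := d10_1 D26467 (iv6 D13066) (iv4 F30384)
def n26468 : Q := act 3 n12632
theorem D26468 : act 3 n12632 = n26468 := rfl
theorem F42325 : act 7 n26468 = n16083 := d8_2 (iv7 F30388) D26468 (iv3 D16083)
def n26469 : Q := act 5 n12632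
theorem D26469 : act 5 n12632 = n26469 := rfl
theorem F42326 : act 2 n26469 = n16090 := d2_1 D26469 (iv5 D16090) (iv2 F30386)
theorem F42327 : act 7 n26469 = n16085 := d13_2 (iv7 F30388) D26469 (iv5 D16085)
def n26470 : Q := act 6 n12632
theorem D26470 : act 6 n12632 = n26470 := rfl
theorem F42328 : act 2 n26470 = n16091 := d3_1 D26470 (iv6 D16091) (iv2 F30386)
theorem F42329 : act 4 n26470 = n13070 := d10_1 D26470 (iv6 D13070) (iv4 F30387)
def n26471 : Q := act 0 n12633
theorem D26471 : act 0 n12633 = n26471 := rfl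
theorem F42330 : act 5 n26471 = n18697 := d17_3 (iv1 D12632) D12633 D26471 F30363 F13688 (iv0 D6217) F4205 D6218 (iv4 F30387)
theorem F42331 : act 2 n16092 = n26471 := d2_3 F42330 F30362 (iv5 F29130)
theorem F42332 : act 7 n16093 = n26471 := d13_0 F42330 F30364 (iv5 F30352)
theorem F42333 : act 1 n16095 = n26471 := d17_6 F30380 (iv5 D13002) (iv1 F9623) F5745 (iv4 F11754) (iv5 F25601) F42330 (iv0 D18697) (iv4 F28978)
def n26472 : Q := act 1 n12633
theorem D26472 : act 1 n12633 = n26472 := rfl
theorem F42334 : act 1 n26472 = n16095 := d15_1 D26472 (iv7 D16095) (iv2 F21029)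
theorem F42335 : act 7 n26472 = n16092 := d15_2 (iv0 D26471) D26472 F42331
theorem F42336 : act 5 n16367 = n26472 := d21_6 F2723 F2581 (iv5 F2629) D3453 D7600 D16367 (iv1 D26472) (iv5 D12633) (iv6 D5995) F4024
theorem E4873 : n18524 = n16367 := (c13_1 (iv7 F29894) F42336 F42335 F29130)
theorem F42337 : act 0 n16367 = n8770 := (sb E4873 F30360)
theorem F42338 : act 2 n16367 = n17980 := (sb E4873 F29885)
theorem F42339 : act 4 n16367 = n8702 := (sb E4873 F29702)
theorem E4874 : n8700 = n7600 := ((((iv6 D16367)).symm.trans (sb E4873 (iv6 D18524)))).symm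
theorem F42340 : act 7 n16367 = n17968 := (sb E4873 F29894)
theorem E4875 : n18520 = n12733 := ((((iv1 F21145)).symm.trans (sb E4874 D18520))).symm
theorem E4877 : n16363 = n12730 := ((D16363).symm.trans (sb E4874 (iv2 F30353)))
theorem E4879 : n16365 = n3898 := ((D16365).symm.trans (sb E4874 (iv4 D8700)))
theorem E4881 : n16368 = n12731 := ((D16368).symm.trans (sb E4874 (iv7 F30359)))
theorem E4882 : n8705 = n7601 := ((((iv1 F21144)).symm.trans (sb E4875 (iv1 F29705)))).symm
theorem F42341 : act 2 n12730 = n7600 := (sb E4877 (iv2 D16363))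
theorem F42342 : act 4 n3898 = n7600 := (sb E4879 (iv4 D16365))
theorem F42343 : act 7 n12731 = n7600 := (sb E4881 (iv7 D16368))
theorem F42344 : act 2 n7601 = n12731 := (sb E4882 (iv2 F30357))
theorem E4884 : n16370 = n3899 := ((D16370).symm.trans (sb E4882 (iv4 D8705)))
theorem E4886 : n18540 = n16372 := (((D16372).symm.trans (sb E4882 D18540))).symm
theorem F42345 : act 7 n7601 = n12730 := (sb E4882 (iv7 F30356))
theorem F42346 : act 4 n3899 = n7601 := (sb E4884 (iv4 D16370))
theorem F42347 : act 4 n16372 = n8707 := (sb E4886 F29721)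
theorem F42348 : act 2 n16093 = n26472 := d2_3 (iv5 F42336) F42338 (iv5 F30352)
theorem E4887 : n18552 = n17320 := ((c18_7 (iv1 F9778) F42346 (iv1 D7601) F5432 D3652 D8109 D17320 (iv4 D18552) F22022 F22020)).symm
theorem F42349 : act 4 n17320 = n8709 := (sb E4887 (iv4 D18552))
def n26473 : Q := act 4 n12633
theorem D26473 : act 4 n12633 = n26473 := rfl
theorem F42350 : act 2 n26473 = n16094 := d1_1 D26473 (iv4 D16094) (iv2 F21029)
theorem F42351 : act 6 n26473 = n12637 := d10_2 (iv6 F21030) D26473 (iv4 D12637)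
def n26474 : Q := act 7 n12633
theorem D26474 : act 7 n12633 = n26474 := rfl
theorem F42352 : act 2 n26474 = n16095 := d4_1 D26474 (iv7 D16095) (iv2 F21029)
theorem F42353 : act 5 n26474 = n12634 := d13_1 D26474 (iv7 D12634) D12633
theorem F42354 : act 1 n16093 = n26474 := d15_1 D16093 (iv7 D26474) F21029
theorem F42355 : act 1 n26474 = n16092 := d15_1 F42354 (iv7 F42335) (iv2 F42348)
def n26475 : Q := act 3 n12635
theorem D26475 : act 3 n12635 = n26475 := rfl
theorem F42356 : act 5 n26475 = n26064 := d6_2 (iv5 F21037) D26475 (iv3 D26064)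
theorem F42357 : act 7 n26475 = n16098 := d8_2 F21039 D26475 (iv3 D16098)
def n26476 : Q := act 6 n12635
theorem D26476 : act 6 n12635 = n26476 := rfl
theorem F42358 : act 2 n26476 = n16097 := d3_1 D26476 (iv6 D16097) F21038
def n26477 : Q := act 3 n12636
theorem D26477 : act 3 n12636 = n26477 := rfl
theorem F42359 : act 5 n26477 = n26063 := d6_2 (iv5 F21043) D26477 (iv3 D26063)
theorem F42360 : act 7 n26477 = n16096 := d8_2 (iv7 F21042) D26477 (iv3 D16096)
def n26478 : Q := act 6 n12636
theorem D26478 : act 6 n12636 = n26478 := rfl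
theorem F42361 : act 2 n26478 = n16099 := d3_1 D26478 (iv6 D16099) F21044
theorem F42362 : act 5 n26478 = n26286 := d12_1 D26478 (iv6 D26286) (iv5 D12488) (iv6 F20529) (iv5 F21043)
def n26480 : Q := act 6 n12638
theorem D26480 : act 6 n12638 = n26480 := rfl
theorem F42363 : act 2 n26480 = n16105 := d3_1 D26480 (iv6 D16105) (iv2 F21046)
theorem F42364 : act 5 n26480 = n15998 := d12_1 D26480 (iv6 D15998) F11736 (iv6 F9324) (iv5 F21047)
def n26481 : Q := act 5 n12639
theorem D26481 : act 5 n12639 = n26481 := rfl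
theorem F42365 : act 2 n26481 = n12715 := d2_1 D26481 (iv5 D12715) (iv2 F21050)
theorem F42366 : act 3 n26481 = n16106 := d6_1 D26481 (iv5 D16106) (iv3 F21051)
theorem F42367 : act 6 n26481 = n18651 := d12_2 D12639 D26481 (iv5 D18651) (iv6 D8756) (iv5 F9330)
theorem F42368 : act 7 n26481 = n16076 := d13_2 (iv7 F26869) D26481 (iv5 D16076)
def n26482 : Q := act 5 n12643
theorem D26482 : act 5 n12643 = n26482 := rfl
theorem F42369 : act 2 n26482 = n12656 := d2_1 D26482 (iv5 D12656) (iv2 F21055)
theorem F42370 : act 3 n26482 = n23932 := d6_1 D26482 (iv5 D23932) (iv3 F26617)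
theorem F42371 : act 7 n26482 = n12676 := d13_2 (iv7 F21056) D26482 (iv5 D12676)
def n26483 : Q := act 4 n12644
theorem D26483 : act 4 n12644 = n26483 := rfl
theorem F42372 : act 2 n26483 = n12661 := d1_1 D26483 (iv4 D12661) (iv2 F21057)
theorem F42373 : act 7 n26483 = n12678 := d11_2 (iv7 F21058) D26483 (iv4 D12678)
def n26484 : Q := act 6 n12644
theorem D26484 : act 6 n12644 = n26484 := rfl
theorem F42374 : act 2 n26484 = n12662 := d3_1 D26484 (iv6 D12662) (iv2 F21057)
def n26485 : Q := act 5 n12647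
theorem D26485 : act 5 n12647 = n26485 := rfl
theorem F42375 : act 2 n26485 = n15917 := d2_1 D26485 (iv5 D15917) F25374
theorem F42376 : act 3 n26485 = n16184 := d6_1 D26485 (iv5 D16184) F21062
theorem F42377 : act 7 n26485 = n18632 := d13_2 (iv7 F25571) D26485 (iv5 F29902)
theorem F42378 : act 0 n26485 = n12697 := d17_2 (iv1 F42218) D26485 F27028 F27726 (iv5 F40644) F40648 (iv5 D23776) F27603 (iv4 F42216)
theorem F42379 : act 0 n12938 = n26485 := d20_4 D15566 F26493 (iv4 D12942) (iv3 F21492) F42376 (iv4 F41924) (iv1 F41926) (iv4 D15364) (iv3 F20762) (iv1 F20764)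
def n26486 : Q := act 5 n12648
theorem D26486 : act 5 n12648 = n26486 := rfl
theorem F42380 : act 2 n26486 = n12650 := d2_1 D26486 (iv5 D12650) D12648
theorem F42381 : act 3 n26486 = n24384 := d6_1 D26486 (iv5 D24384) (iv3 F26667)
def n26487 : Q := act 3 n12649
theorem D26487 : act 3 n12649 = n26487 := rfl
theorem F42382 : act 4 n26487 = n12655 := d5_2 D12649 D26487 (iv3 D12655) (iv4 D6003) D6002
theorem F42383 : act 7 n26487 = n23773 := d8_2 F26662 D26487 (iv3 D23773)
theorem F42384 : act 0 n25631 = n26487 := d20_1 (iv4 F40535) F42382 (iv3 D12655) D12653 (iv3 F21067) (iv4 D7457) (iv1 F9310) D12616 F21001 (iv1 F37038)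
def n26488 : Q := act 5 n12649
theorem D26488 : act 5 n12649 = n26488 := rfl
theorem F42385 : act 2 n26488 = n23771 := d2_1 D26488 (iv5 D23771) (iv2 F26663)
theorem F42386 : act 7 n26488 = n23774 := d13_2 F26662 D26488 (iv5 D23774)
def n26489 : Q := act 6 n12649
theorem D26489 : act 6 n12649 = n26489 := rfl
theorem F42387 : act 2 n26489 = n23772 := d3_1 D26489 (iv6 D23772) (iv2 F26663)
theorem F42388 : act 4 n26489 = n12651 := d10_1 D26489 (iv6 D12651) D12649
theorem F42389 : act 0 n26489 = n14106 := d20_7 F4649 (iv1 F2473) D3017 D6702 (iv1 F26674) (iv3 F21064) (iv4 F42388) (iv4 D14106) (iv3 D6705) (iv1 F4741)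
def n26490 : Q := act 0 n12650
theorem D26490 : act 0 n12650 = n26490 := rfl
def n26491 : Q := act 1 n12650
theorem D26491 : act 1 n12650 = n26491 := rfl
def n26492 : Q := act 4 n12650
theorem D26492 : act 4 n12650 = n26492 := rfl
theorem F42390 : act 0 n26492 = n15320 := d20_7 F4000 F2287 D1567 D3557 (iv1 F26966) (iv3 F21063) D26492 (iv4 D15320) F11565 F5325
theorem F42391 : act 5 n26491 = n15339 := d18_9 (iv1 F26649) F26651 (iv1 D15316) (iv4 D7249) D7250 D15320 (iv0 F42390) (iv4 D26492) D26491
theorem F42392 : act 2 n15957 = n26491 := d2_3 F42391 F24917 (iv5 F35190)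
theorem F42393 : act 3 n15340 = n26491 := d6_3 F42391 (iv3 D15339) D15340
def n26493 : Q := act 6 n12650
theorem D26493 : act 6 n12650 = n26493 := rfl
theorem F42394 : act 3 n26493 = n12662 := d7_1 D26493 (iv6 D12662) (iv3 F21063)
def n26494 : Q := act 7 n12650
theorem D26494 : act 7 n12650 = n26494 := rfl
theorem F42395 : act 3 n26494 = n12663 := d8_1 D26494 (iv7 D12663) (iv3 F21063)
theorem F42396 : act 5 n26494 = n12652 := d13_1 D26494 (iv7 D12652) D12650
def n26495 : Q := act 5 n12651
theorem D26495 : act 5 n12651 = n26495 := rfl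
theorem F42397 : act 2 n26495 = n16625 := d2_1 D26495 F27117 (iv2 F26669)
theorem F42398 : act 3 n26495 = n12666 := d6_1 D26495 (iv5 D12666) (iv3 F21064)
def n26496 : Q := act 6 n12652
theorem D26496 : act 6 n12652 = n26496 := rfl
theorem F42399 : act 2 n26496 = n12746 := d3_1 D26496 F42220 (iv2 F42217)
theorem F42400 : act 3 n26496 = n12668 := d7_1 D26496 (iv6 D12668) (iv3 F21065)
theorem F42401 : act 4 n26496 = n23775 := d10_1 D26496 (iv6 D23775) (iv4 F26647)
theorem F42402 : act 7 n26496 = n15909 := d14_2 D12652 D26496 (iv6 F38069) F38070 (iv6 D12651)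
theorem F42404 : act 0 n23775 = n15851 := d20_7 F9283 (iv1 F4010) D3409 D7453 (iv1 F26795) (iv3 F42400) F42401 (iv4 D15851) (iv3 D7431) (iv1 F9287)
theorem F42405 : act 1 n26496 = n16421 := d15_0 (iv0 D16421) (iv7 F21152) (iv2 F42399)
def n26497 : Q := act 5 n12653
theorem D26497 : act 5 n12653 = n26497 := rfl
theorem F42406 : act 3 n26497 = n15901 := d6_1 D26497 (iv5 D15901) F21067
theorem F42407 : act 0 n26497 = n17396 := d17_2 D12653 D26497 (iv5 D17396) F12918 (iv5 F27018) F9343 (iv5 F9330) (iv0 D6000) D6003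
def n26498 : Q := act 6 n12653
theorem D26498 : act 6 n12653 = n26498 := rfl
theorem F42408 : act 3 n26498 = n15902 := d7_1 D26498 (iv6 D15902) F21067
theorem F42409 : act 4 n26498 = n26327 := d10_1 D26498 (iv6 D26327) (iv4 F21066)
theorem F42410 : act 0 n16027 = n26498 := d21_4 D17386 F28345 (iv5 D16026) D16027 (iv6 D26498) D26497 F42407 (iv5 D17396) (iv6 D8148) D8144
theorem F42411 : act 0 n26498 = n16049 := d20_7 (iv4 D5980) (iv1 D2522) (iv4 F4003) (iv3 F9276) (iv1 F27201) (iv3 F41982) (iv4 F42409) F25583 F11752 (iv1 F12680)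
def n26499 : Q := act 5 n12654
theorem D26499 : act 5 n12654 = n26499 := rfl
def n26500 : Q := act 6 n12654
theorem D26500 : act 6 n12654 = n26500 := rfl
def n26501 : Q := act 2 n12655
theorem D26501 : act 2 n12655 = n26501 := rfl
theorem F42412 : act 3 n26501 = n16890 := d0_2 D12655 D26501 F27663 (iv3 F26617) F21055
theorem F42413 : act 7 n23933 = n26501 := d15_2 (iv0 F40495) F40496 (iv2 D26501)
theorem F42414 : act 6 n24228 = n26501 := d7_0 F42412 F27664 D24228
theorem F42415 : act 0 n16035 = n26501 := d20_4 (iv4 D23886) F37229 (iv4 D16036) D16035 F42412 (iv4 F27662) F20102 D25562 F40436 F37293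
def n26502 : Q := act 5 n12655
theorem D26502 : act 5 n12655 = n26502 := rfl
theorem F42416 : act 3 n26502 = n12656 := d6_1 D26502 (iv5 D12656) D12655
def n26503 : Q := act 6 n12655
theorem D26503 : act 6 n12655 = n26503 := rfl
theorem F42417 : act 2 n26503 = n24228 := d3_1 D26503 F42414 (iv2 D26501)
theorem F42418 : act 3 n26503 = n12657 := d7_1 D26503 (iv6 D12657) D12655
def n26504 : Q := act 7 n12655
theorem D26504 : act 7 n12655 = n26504 := rfl
theorem F42419 : act 2 n26504 = n23933 := d4_1 D26504 F42413 (iv2 D26501)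
theorem F42420 : act 3 n26504 = n12658 := d8_1 D26504 (iv7 D12658) D12655
theorem F42421 : act 4 n26504 = n23773 := d11_1 D26504 (iv7 F42383) F42382
theorem F42422 : act 1 n16035 = n26504 := d15_1 (iv0 F42415) (iv7 D26504) D26501
theorem F42423 : act 0 n25637 = n23773 := d20_1 D25637 (iv4 F42421) F42420 F26648 F25158 (iv4 D12608) (iv1 F9307) D7465 D15927 (iv1 F25390)
theorem E4888 : n25663 = n25636 := (c20_5 (iv4 D15666) F20198 (iv4 D12196) D12195 D25663 (iv3 D25636) D25637 F42423 (iv4 F42421) F42420 F26648)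
theorem F42424 : act 1 n25636 = n12195 := (sb E4888 (iv0 D25663))
def n26505 : Q := act 0 n12656
theorem D26505 : act 0 n12656 = n26505 := rfl
def n26506 : Q := act 1 n12656
theorem D26506 : act 1 n12656 = n26506 := rfl
theorem F42425 : act 1 n26506 = n12676 := d15_1 D26506 (iv7 F42371) F42369
theorem F42426 : act 5 n26506 = n25566 := d17_7 (iv1 D7227) (iv5 F5581) (iv1 F26966) (iv5 D6004) D6003 D12656 D26506 (iv0 F40449) (iv4 D15259)
theorem F42427 : act 3 n25567 = n26506 := d6_3 F42426 (iv3 D25566) D25567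
def n26507 : Q := act 4 n12656
theorem D26507 : act 4 n12656 = n26507 := rfl
def n26508 : Q := act 6 n12656
theorem D26508 : act 6 n12656 = n26508 := rfl
def n26509 : Q := act 7 n12656
theorem D26509 : act 7 n12656 = n26509 := rfl
theorem F42428 : act 2 n26509 = n12676 := d4_1 D26509 (iv7 F42371) F42369
theorem F42429 : act 5 n26509 = n12658 := d13_1 D26509 (iv7 D12658) D12656
theorem F42430 : act 1 n12676 = n26505 := d15_0 (iv0 D26505) D26509 F42428
theorem F42431 : act 5 n26505 = n15353 := d17_7 (iv1 F11547) (iv5 F26964) (iv1 F21076) (iv5 D6009) D6008 D12676 F42430 (iv0 F24929) (iv4 D15254)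
theorem F42432 : act 0 n12677 = n25586 := d21_4 (iv5 F42431) (iv1 F42430) (iv5 D12676) D12677 (iv6 D25586) (iv5 F40404) (iv1 F40403) (iv5 D17391) (iv6 F26654) F24929
theorem F42433 : act 1 n15354 = n13598 := d17_6 (iv1 D12654) D12656 D26505 F42431 (iv4 D15353) D15354 (iv5 D13598) D13596 (iv4 F25530)
def n26510 : Q := act 0 n12657
theorem D26510 : act 0 n12657 = n26510 := rfl
def n26511 : Q := act 1 n12657
theorem D26511 : act 1 n12657 = n26511 := rfl
theorem F42434 : act 1 n26511 = n24229 := d15_1 D26511 (iv7 F38060) (iv2 F38061)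
def n26512 : Q := act 5 n12657
theorem D26512 : act 5 n12657 = n26512 := rfl
def n26513 : Q := act 7 n12657
theorem D26513 : act 7 n12657 = n26513 := rfl
theorem F42435 : act 2 n26513 = n24229 := d4_1 D26513 (iv7 F38060) (iv2 F38061)
theorem F42436 : act 4 n26513 = n12667 := d11_1 D26513 (iv7 D12667) (iv4 F21070)
theorem F42437 : act 1 n24229 = n26510 := d15_0 (iv0 D26510) D26513 F42435
theorem F42438 : act 3 n15971 = n26510 := d20_3 F11726 D7476 D15971 (iv1 F42437) (iv3 D24229) (iv4 D11391) (iv1 F18620) (iv4 F37531) (iv3 F37533) (iv1 D15948)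
def n26514 : Q := act 6 n12658
theorem D26514 : act 6 n12658 = n26514 := rfl
theorem F42439 : act 2 n26514 = n12677 := d3_1 D26514 (iv6 D12677) (iv2 F21071)
theorem F42440 : act 4 n26514 = n12668 := d10_1 D26514 (iv6 D12668) (iv4 F21072)
theorem F42441 : act 0 n26514 = n16041 := d20_1 (iv4 F42440) F25579 F25149 (iv1 F27207) F20922 F9283 (iv1 F4010) D3409 D7453 (iv1 F26795)
def n26515 : Q := act 4 n12659
theorem D26515 : act 4 n12659 = n26515 := rfl
theorem F42442 : act 2 n26515 = n12790 := d1_1 D26515 (iv4 D12790) (iv2 F26962)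
theorem F42443 : act 7 n26515 = n16764 := d11_2 (iv7 F26965) D26515 F27534
theorem F42444 : act 0 n26515 = n16763 := d18_2 D12659 D26515 (iv4 F40606) (iv5 D25683) (iv4 D12201) F20196 F20194 (iv0 D6000) D6004
theorem F42445 : act 1 n26515 = n16762 := d18_6 D26299 F41888 (iv1 F24834) F21195 (iv5 F26964) D26515 (iv4 F40586) F40585 (iv5 F27264)
def n26516 : Q := act 6 n12659
theorem D26516 : act 6 n12659 = n26516 := rfl
theorem F42446 : act 2 n26516 = n12791 := d3_1 D26516 (iv6 D12791) (iv2 F26962)
theorem F42447 : act 3 n26516 = n16149 := d7_1 D26516 (iv6 D16149) (iv3 F26963)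
def n26517 : Q := act 0 n12661
theorem D26517 : act 0 n12661 = n26517 := rfl
theorem F42448 : act 4 n26517 = n15354 := d18_3 (iv1 F26966) D12661 D26517 (iv5 D15354) D15353 (iv0 F24929) (iv4 D15254) (iv0 D7226) (iv5 F5581)
theorem F42449 : act 1 n12678 = n26517 := d18_6 (iv1 F25469) (iv4 F21066) F21068 (iv4 D6008) D6009 D12678 F42448 F42433 (iv5 D13598)
def n26518 : Q := act 1 n12661
theorem D26518 : act 1 n12661 = n26518 := rfl
theorem F42450 : act 1 n26518 = n12678 := d15_1 D26518 (iv7 F42373) F42372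
def n26519 : Q := act 3 n12661
theorem D26519 : act 3 n12661 = n26519 := rfl
theorem F42451 : act 0 n26519 = n13015 := d19_4 D2530 D6004 D12661 D26519 (iv5 D13015) (iv4 D6194) F4186 (iv1 F2773) (iv5 D1592) (iv4 F1690) F1694 (iv1 F1692) (iv5 D588) (iv4 F1105) F1104 (iv1 D403) D404 D707 D1178
theorem F42452 : act 5 n12958 = n26519 := d17_1 (iv1 F21551) F42451 (iv5 D13015) (iv4 D6194) (iv5 D2604) D2602 (iv5 F13342) F9574 D8050
theorem F42453 : act 2 n26519 = n17191 := d2_1 F42452 (iv5 D17191) F21554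
theorem F42454 : act 7 n26519 = n17194 := d13_2 (iv7 F21552) F42452 (iv5 D17194)
theorem F42455 : act 4 n26519 = n17462 := d16_2 F21553 F42452 (iv5 D17462) (iv4 D8214) (iv5 F13334) D3746 D8343 (iv7 F21589) F21587
theorem F42456 : act 1 n26519 = n17617 := d17_6 (iv1 F27496) F27494 (iv1 F13159) D8355 F21553 F42452 (iv5 D17617) F21653 F21652
theorem F42457 : act 3 n17462 = n26492 := d20_3 (iv4 F28651) (iv1 F42456) F42455 F42390 F24898 (iv4 D8327) (iv1 F7184) D8866 (iv3 F28472) F28474
theorem F42458 : act 5 n26492 = n17461 := d6_2 D17462 F42457 (iv3 D17461)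
def n26520 : Q := act 5 n12661
theorem D26520 : act 5 n12661 = n26520 := rfl
theorem F42459 : act 3 n26520 = n12958 := d6_1 D26520 F42452 (iv3 D26519)
theorem F42460 : act 4 n17886 = n26520 := d5_0 F42459 (iv4 F21553) F13170 D8437 D17886
theorem F42461 : act 7 n17193 = n26520 := d8_0 F42459 F21552 D17193
def n26521 : Q := act 6 n12661
theorem D26521 : act 6 n12661 = n26521 := rfl
theorem F42462 : act 4 n26521 = n12662 := d10_1 D26521 (iv6 D12662) D12661
def n26522 : Q := act 7 n12661
theorem D26522 : act 7 n12661 = n26522 := rfl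
theorem F42463 : act 2 n26522 = n12678 := d4_1 D26522 (iv7 F42373) F42372
theorem F42464 : act 3 n26522 = n17194 := d8_1 D26522 (iv7 F42454) (iv3 D26519)
theorem F42465 : act 4 n26522 = n12663 := d11_1 D26522 (iv7 D12663) D12661
theorem F42466 : act 5 n26522 = n17193 := d13_1 D26522 F42461 (iv5 D26520)
def n26523 : Q := act 0 n12662
theorem D26523 : act 0 n12662 = n26523 := rfl
def n26524 : Q := act 1 n12662
theorem D26524 : act 1 n12662 = n26524 := rfl
def n26525 : Q := act 5 n12662
theorem D26525 : act 5 n12662 = n26525 := rfl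
theorem F42467 : act 6 n26525 = n12666 := d12_2 D12662 D26525 (iv5 D12666) (iv6 D6005) D6004
def n26526 : Q := act 7 n12662
theorem D26526 : act 7 n12662 = n26526 := rfl
def n26527 : Q := act 6 n12663
theorem D26527 : act 6 n12663 = n26527 := rfl
theorem F42468 : act 2 n26527 = n12679 := d3_1 D26527 (iv6 D12679) (iv2 F21074)
def n26528 : Q := act 4 n12664
theorem D26528 : act 4 n12664 = n26528 := rfl
theorem F42469 : act 2 n26528 = n13860 := d1_1 D26528 F23129 (iv2 F26677)
def n26529 : Q := act 5 n12664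
theorem D26529 : act 5 n12664 = n26529 := rfl
theorem F42470 : act 2 n26529 = n13866 := d2_1 D26529 (iv5 D13866) (iv2 F26677)
theorem F42471 : act 0 n26529 = n24291 := d21_1 D26529 (iv5 D24291) F18700 F26913 (iv6 D7229) (iv5 F5581) (iv1 F26966) (iv5 D6004) D6005 D12664
def n26530 : Q := act 0 n12666
theorem D26530 : act 0 n12666 = n26530 := rfl
theorem F42472 : act 5 n26530 = n13838 := d21_8 (iv5 F41535) (iv1 D12431) (iv5 D5911) F3941 D2530 D6005 D12666 D26530 (iv6 F24514) (iv1 F27312)
theorem F42473 : act 2 n13839 = n26530 := d15_3 (iv0 D26530) (iv0 F27036) F23529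
theorem F42474 : act 0 n26530 = n16627 := d21_1 (iv5 F42472) F27118 (iv6 F26613) F26794 (iv6 F26959) D26139 (iv1 F41425) F24822 (iv6 F26828) (iv1 F23522)
def n26531 : Q := act 4 n12666
theorem D26531 : act 4 n12666 = n26531 := rfl
def n26532 : Q := act 7 n12666
theorem D26532 : act 7 n12666 = n26532 := rfl
theorem F42475 : act 2 n26532 = n16627 := d4_1 D26532 (iv7 F38064) F38062
theorem F42476 : act 5 n26532 = n12667 := d13_1 D26532 (iv7 D12667) D12666
theorem F42477 : act 0 n13839 = n26532 := d21_1 D13839 F42476 F42075 (iv1 F42073) F26981 D15103 F28390 F11533 (iv6 F18700) F26718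
def n26533 : Q := act 5 n12668
theorem D26533 : act 5 n12668 = n26533 := rfl
theorem F42478 : act 2 n26533 = n12682 := d2_1 D26533 (iv5 D12682) (iv2 F21077)
theorem F42479 : act 0 n16098 = n26533 := d21_7 D6013 (iv1 F9340) (iv5 F25987) (iv6 F26622) F27053 (iv6 F24542) (iv5 F25603) (iv5 D26533) (iv6 D12668) F26640
def n26534 : Q := act 4 n12673
theorem D26534 : act 4 n12673 = n26534 := rfl
theorem F42480 : act 5 n26534 = n26177 := d16_1 D26534 (iv4 D26177) (iv5 D12414) F9153 (iv5 F8159) (iv4 F18801) D24384 F38233 (iv2 F26463)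
theorem F42481 : act 0 n26534 = n15547 := d18_2 (iv1 F26462) D26534 (iv4 D15547) (iv5 D7335) (iv4 F26356) F4141 (iv4 F5700) (iv0 F10674) D12522
theorem F42482 : act 1 n26534 = n15532 := d18_6 D5960 (iv4 F26431) F12085 F26419 D12673 D26534 (iv4 D15532) (iv0 F26532) (iv5 D5963)
def n26535 : Q := act 6 n12673
theorem D26535 : act 6 n12673 = n26535 := rfl
theorem F42483 : act 3 n26535 = n12679 := d7_1 D26535 (iv6 D12679) (iv3 F21081)
theorem F42484 : act 5 n26535 = n16437 := d12_1 D26535 (iv6 D16437) (iv5 D7622) F26465 D12673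
def n26536 : Q := act 5 n12675
theorem D26536 : act 5 n12675 = n26536 := rfl
theorem F42485 : act 2 n26536 = n23934 := d2_1 D26536 (iv5 D23934) F26998
theorem F42486 : act 3 n26536 = n12676 := d6_1 D26536 (iv5 D12676) D12675
theorem F42487 : act 7 n26536 = n23932 := d13_2 F26786 D26536 (iv5 D23932)
theorem F42488 : act 4 n26536 = n21318 := d16_2 (iv4 F26787) D26536 F33522 F17653 (iv5 F27050) F20045 (iv5 F18626) (iv7 F20227) (iv2 F22843)
theorem F42489 : act 0 n26536 = n25580 := d17_2 F21083 D26536 (iv5 D25580) (iv4 F20117) D12925 F37398 F37396 (iv0 D15461) (iv4 F12460)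
theorem F42490 : act 1 n26536 = n25542 := d17_6 D5766 (iv5 F20047) (iv1 F22721) (iv5 F22845) (iv4 F26787) D26536 (iv5 D25542) F26342 F8880
def n26537 : Q := act 4 n12676
theorem D26537 : act 4 n12676 = n26537 := rfl
theorem F42491 : act 3 n26537 = n17887 := d5_1 D26537 F29063 D21318 (iv4 F42488) F42486
theorem F42492 : act 5 n26537 = n17886 := d16_1 D26537 F42460 (iv5 D26520) (iv4 D12661) (iv5 D6004) D6003 D12656 D26509 F42428
def n26538 : Q := act 6 n12676
theorem D26538 : act 6 n12676 = n26538 := rfl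
def n26539 : Q := act 1 n12677
theorem D26539 : act 1 n12677 = n26539 := rfl
theorem F42493 : act 7 n26539 = n16041 := d15_2 (iv0 F42432) D26539 (iv2 F40486)
theorem F42494 : act 4 n26338 = n26539 := d20_6 F2631 D1518 D3460 D7629 (iv1 F26940) D26338 (iv1 D26539) F21085 F26572 (iv1 D3458)
theorem F42495 : act 6 n26539 = n15109 := d10_2 (iv6 F42004) F42494 (iv4 F24723)
def n26540 : Q := act 5 n12677
theorem D26540 : act 5 n12677 = n26540 := rfl
def n26541 : Q := act 3 n12678
theorem D26541 : act 3 n12678 = n26541 := rfl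
theorem F42496 : act 0 n18155 = n26541 := d20_4 F12375 (iv1 F14279) F14280 D18155 (iv3 D26541) (iv4 D12678) (iv1 F26961) (iv4 F12381) (iv3 D7828) D7826
def n26542 : Q := act 5 n12678
theorem D26542 : act 5 n12678 = n26542 := rfl
theorem F42497 : act 2 n26542 = n17193 := d2_1 D26542 (iv5 F42466) F42463
def n26543 : Q := act 6 n12678
theorem D26543 : act 6 n12678 = n26543 := rfl
theorem F42498 : act 4 n26543 = n12679 := d10_1 D26543 (iv6 D12679) D12678
def n26544 : Q := act 0 n12679
theorem D26544 : act 0 n12679 = n26544 := rfl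
def n26545 : Q := act 1 n12679
theorem D26545 : act 1 n12679 = n26545 := rfl
def n26546 : Q := act 5 n12679
theorem D26546 : act 5 n12679 = n26546 := rfl
theorem F42499 : act 3 n26546 = n16437 := d6_1 D26546 (iv5 F42484) F42483
theorem F42500 : act 6 n26546 = n12682 := d12_2 D12679 D26546 (iv5 D12682) (iv6 D6010) D6009
def n26547 : Q := act 7 n12679
theorem D26547 : act 7 n12679 = n26547 := rfl
def n26548 : Q := act 4 n12681
theorem D26548 : act 4 n12681 = n26548 := rfl
theorem F42501 : act 2 n26548 = n15882 := d1_1 D26548 F25355 (iv2 F26891)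
theorem F42502 : act 6 n26548 = n15102 := d10_2 (iv6 F26981) D26548 (iv4 D15102)
theorem F42503 : act 7 n26548 = n16019 := d11_2 (iv7 F26892) D26548 F25510
def n26549 : Q := act 5 n12681
theorem D26549 : act 5 n12681 = n26549 := rfl
theorem F42504 : act 2 n26549 = n15887 := d2_1 D26549 (iv5 D15887) (iv2 F26891)
theorem F42505 : act 7 n26549 = n16024 := d13_2 (iv7 F26892) D26549 (iv5 D16024)
def n26550 : Q := act 0 n12682
theorem D26550 : act 0 n12682 = n26550 := rfl
def n26551 : Q := act 1 n12682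
theorem D26551 : act 1 n12682 = n26551 := rfl
def n26552 : Q := act 4 n12682
theorem D26552 : act 4 n12682 = n26552 := rfl
def n26553 : Q := act 7 n12682
theorem D26553 : act 7 n12682 = n26553 := rfl
theorem F42506 : act 3 n26553 = n12745 := d8_1 D26553 F21151 (iv3 F26611)
theorem F42507 : act 5 n26553 = n12683 := d13_1 D26553 (iv7 D12683) D12682
theorem F42508 : act 1 n16098 = n26553 := d15_1 (iv0 F42479) (iv7 D26553) (iv2 F42478)
def n26554 : Q := act 3 n12694
theorem D26554 : act 3 n12694 = n26554 := rfl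
theorem F42509 : act 2 n26554 = n18122 := d0_1 D26554 (iv3 D18122) F13297 (iv3 F9344) (iv2 F21090)
theorem F42510 : act 4 n26554 = n16221 := d5_2 D12694 D26554 (iv3 D16221) (iv4 D7564) (iv3 F9338)
theorem F42511 : act 7 n26554 = n18254 := d8_2 (iv7 F21091) D26554 F29448
theorem F42512 : act 1 n18253 = n26554 := d15_1 D18253 F42511 (iv2 D18254)
theorem F42513 : act 5 n22728 = n26554 := d2_0 F42509 F29285 D22728
theorem F42514 : act 1 n26554 = n18252 := d15_0 (iv0 D18252) (iv7 F29286) (iv2 F42509)
def n26555 : Q := act 5 n12694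
theorem D26555 : act 5 n12694 = n26555 := rfl
theorem F42515 : act 2 n26555 = n12708 := d2_1 D26555 (iv5 D12708) (iv2 F21090)
theorem F42516 : act 3 n26555 = n22728 := d6_1 D26555 F42513 (iv3 D26554)
theorem F42517 : act 7 n26555 = n18369 := d13_2 (iv7 F21091) D26555 (iv5 D18369)
theorem F42518 : act 1 n18372 = n26555 := d15_1 D18372 F42517 F29545
theorem F42519 : act 1 n26555 = n18371 := d15_0 (iv0 D18371) (iv7 F21101) (iv2 F42515)
def n26556 : Q := act 6 n12694
theorem D26556 : act 6 n12694 = n26556 := rfl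
theorem F42520 : act 2 n26556 = n12709 := d3_1 D26556 (iv6 D12709) (iv2 F21090)
theorem F42521 : act 4 n26556 = n12695 := d10_1 D26556 (iv6 D12695) D12694
def n26557 : Q := act 0 n12695
theorem D26557 : act 0 n12695 = n26557 := rfl
def n26558 : Q := act 1 n12695
theorem D26558 : act 1 n12695 = n26558 := rfl
theorem F42522 : act 1 n26558 = n12712 := d15_1 D26558 (iv7 D12712) (iv2 F21094)
def n26559 : Q := act 7 n12695
theorem D26559 : act 7 n12695 = n26559 := rfl
theorem F42523 : act 2 n26559 = n12712 := d4_1 D26559 (iv7 D12712) (iv2 F21094)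
theorem F42524 : act 3 n26559 = n16226 := d8_1 D26559 (iv7 D16226) (iv3 F21095)
theorem F42525 : act 6 n26559 = n18652 := d14_1 D26559 (iv7 D18652) (iv6 D8756) (iv7 F9339) D12695
theorem F42526 : act 1 n12712 = n26557 := d15_0 (iv0 D26557) D26559 F42523
theorem F42527 : act 1 n12711 = n26559 := d15_1 D12711 (iv7 D26559) F21094
theorem F42528 : act 1 n26559 = n12710 := d15_0 (iv0 D12710) D12712 (iv2 F42523)
def n26560 : Q := act 2 n12697
theorem D26560 : act 2 n12697 = n26560 := rfl
theorem F42529 : act 3 n26560 = n12943 := d0_2 D12697 D26560 F21504 F26584 (iv2 F27025)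
theorem F42530 : act 4 n26560 = n23908 := d1_2 (iv4 F30271) D26560 (iv2 F37316)
theorem F42531 : act 5 n26560 = n12939 := d2_2 (iv5 F27028) D26560 (iv2 F26782)
theorem F42532 : act 7 n26560 = n12938 := d4_2 F27029 D26560 (iv2 F26658)
theorem F42533 : act 1 n26560 = n15917 := d15_0 F41472 F27029 D26560
theorem F42534 : act 1 n18632 = n26560 := d15_0 F42533 (iv7 F42223) F42221
def n26561 : Q := act 6 n12697
theorem D26561 : act 6 n12697 = n26561 := rfl
theorem F42535 : act 3 n26561 = n12700 := d7_1 D26561 (iv6 D12700) D12697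
def n26562 : Q := act 0 n12698
theorem D26562 : act 0 n12698 = n26562 := rfl
theorem F42536 : act 4 n26562 = n26309 := d18_3 D6014 D12698 D26562 F41920 (iv4 F21066) (iv0 D12653) (iv4 D6003) (iv0 D2530) D2533
theorem F42537 : act 1 n12703 = n26562 := d15_0 (iv0 D26562) (iv7 F27030) F27034
theorem F42538 : act 1 n26309 = n13644 := d18_8 F26876 (iv4 F27853) F27855 F12918 (iv5 F27018) D12703 F42537 F42536 (iv5 F25981)
theorem F42539 : act 7 n18635 = n26562 := d11_0 F42536 F41921 (iv4 F29909)
theorem F42540 : act 2 n26562 = n18636 := d15_3 F29911 F29910 F42539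
def n26563 : Q := act 1 n12698
theorem D26563 : act 1 n12698 = n26563 := rfl
theorem F42541 : act 1 n26563 = n12703 := d15_1 D26563 F27033 F27031
theorem F42542 : act 7 n26563 = n18636 := d15_2 (iv0 D26562) D26563 (iv2 F42540)
theorem F42543 : act 2 n18635 = n26563 := d4_3 F42542 (iv2 F42540) (iv7 F42539)
def n26564 : Q := act 6 n12698
theorem D26564 : act 6 n12698 = n26564 := rfl
theorem F42544 : act 2 n26564 = n18644 := d3_1 D26564 (iv6 D18644) F27031
theorem F42545 : act 4 n26564 = n12700 := d10_1 D26564 (iv6 D12700) D12698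
def n26565 : Q := act 0 n12700
theorem D26565 : act 0 n12700 = n26565 := rfl
def n26566 : Q := act 1 n12700
theorem D26566 : act 1 n12700 = n26566 := rfl
theorem F42546 : act 1 n26566 = n18648 := d15_1 D26566 (iv7 D18648) F27032
def n26567 : Q := act 5 n12700
theorem D26567 : act 5 n12700 = n26567 := rfl
theorem F42547 : act 2 n26567 = n18647 := d2_1 D26567 (iv5 D18647) F27032
def n26568 : Q := act 7 n12700
theorem D26568 : act 7 n12700 = n26568 := rfl
theorem F42548 : act 2 n26568 = n18648 := d4_1 D26568 (iv7 D18648) F27032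
theorem F42549 : act 6 n26568 = n18641 := d14_1 D26568 (iv7 D18641) (iv6 D8750) (iv7 F27026) D12700
theorem F42550 : act 1 n18648 = n26565 := d15_0 (iv0 D26565) D26568 F42548
theorem F42551 : act 1 n18646 = n26568 := d15_1 D18646 (iv7 D26568) (iv2 F27032)
theorem F42552 : act 1 n26568 = n18645 := d15_0 (iv0 D18645) D18648 (iv2 F42548)
def n26569 : Q := act 3 n12703
theorem D26569 : act 3 n12703 = n26569 := rfl
theorem F42553 : act 4 n26569 = n17421 := d5_2 D12703 D26569 (iv3 D17421) (iv4 D8173) F27020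
theorem F42554 : act 7 n26569 = n18642 := d8_2 (iv7 F27033) D26569 (iv3 D18642)
theorem F42555 : act 0 n18282 = n26569 := d20_4 (iv4 F14310) (iv1 F15483) F15484 D18282 (iv3 D26569) (iv4 D12703) (iv1 D6015) D6016 F9344 (iv1 F13521)
def n26570 : Q := act 5 n12703
theorem D26570 : act 5 n12703 = n26570 := rfl
theorem F42556 : act 2 n26570 = n18637 := d2_1 D26570 (iv5 D18637) F27034
theorem F42557 : act 7 n26570 = n18643 := d13_2 (iv7 F27033) D26570 (iv5 D18643)
def n26571 : Q := act 6 n12703
theorem D26571 : act 6 n12703 = n26571 := rfl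
theorem F42558 : act 2 n26571 = n18638 := d3_1 D26571 (iv6 D18638) F27034
theorem F42559 : act 4 n26571 = n12705 := d10_1 D26571 (iv6 D12705) D12703
def n26572 : Q := act 0 n12705
theorem D26572 : act 0 n12705 = n26572 := rfl
def n26573 : Q := act 1 n12705
theorem D26573 : act 1 n12705 = n26573 := rfl
theorem F42560 : act 1 n26573 = n18641 := d15_1 D26573 (iv7 D18641) (iv2 F27021)
def n26574 : Q := act 7 n12705
theorem D26574 : act 7 n12705 = n26574 := rfl
theorem F42561 : act 2 n26574 = n18641 := d4_1 D26574 (iv7 D18641) (iv2 F27021)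
theorem F42562 : act 3 n26574 = n16376 := d8_1 D26574 (iv7 D16376) (iv3 F27022)
theorem F42563 : act 5 n26574 = n16362 := d13_1 D26574 (iv7 D16362) (iv5 F27023)
theorem F42564 : act 6 n26574 = n18648 := d14_1 D26574 (iv7 D18648) (iv6 D8755) F27024 D12705
theorem F42565 : act 1 n18641 = n26572 := d15_0 (iv0 D26572) D26574 F42561
theorem F42566 : act 1 n18640 = n26574 := d15_1 D18640 (iv7 D26574) F27021
theorem F42567 : act 1 n26574 = n18639 := d15_0 (iv0 D18639) D18641 (iv2 F42561)
def n26575 : Q := act 2 n12706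
theorem D26575 : act 2 n12706 = n26575 := rfl
theorem F42568 : act 7 n12707 = n26575 := d15_2 (iv0 D12706) D12707 (iv2 D26575)
def n26576 : Q := act 3 n12706
theorem D26576 : act 3 n12706 = n26576 := rfl
def n26577 : Q := act 4 n12706
theorem D26577 : act 4 n12706 = n26577 := rfl
theorem F42569 : act 5 n26577 = n15350 := d18_4 (iv1 D6015) D6016 D12706 D26577 F24927 (iv0 D12761) F9391 F26770 (iv5 F27018)
theorem F42570 : act 1 n26577 = n15374 := d18_8 F20198 (iv4 D12196) D12193 F20194 F9330 (iv4 F13556) F21098 D26577 F24951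
def n26578 : Q := act 5 n12706
theorem D26578 : act 5 n12706 = n26578 := rfl
def n26579 : Q := act 6 n12706
theorem D26579 : act 6 n12706 = n26579 := rfl
def n26580 : Q := act 7 n12706
theorem D26580 : act 7 n12706 = n26580 := rfl
theorem F42571 : act 2 n26580 = n12707 := d4_1 D26580 F42568 (iv2 D26575)
def n26581 : Q := act 3 n12707
theorem D26581 : act 3 n12707 = n26581 := rfl
def n26582 : Q := act 4 n12707
theorem D26582 : act 4 n12707 = n26582 := rfl
theorem F42572 : act 5 n26582 = n15278 := d18_4 (iv1 F9342) (iv4 F13556) (iv1 F21099) D26582 F24871 F24839 F24835 F11549 F27027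
theorem F42573 : act 3 n26582 = n13640 := d20_3 (iv4 F13556) (iv1 F21099) D26582 (iv1 D13640) (iv3 F18156) D23898 F37302 (iv4 F30271) (iv3 D12697) (iv1 F9342)
theorem F42574 : act 1 n15374 = n26582 := d18_8 F26820 D15353 F24930 (iv4 D15259) F25987 D8753 F29910 F29909 F42572
def n26583 : Q := act 5 n12707
theorem D26583 : act 5 n12707 = n26583 := rfl
def n26584 : Q := act 6 n12707
theorem D26584 : act 6 n12707 = n26584 := rfl
def n26585 : Q := act 0 n12708
theorem D26585 : act 0 n12708 = n26585 := rfl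
theorem F42575 : act 5 n26585 = n16762 := d17_3 (iv1 D12707) D12708 D26585 (iv4 F40586) (iv5 D25669) (iv0 F20198) (iv5 F24951) F42574 (iv4 D26582)
theorem F42576 : act 1 n18369 = n26585 := d15_0 (iv0 D26585) F21101 (iv2 F29545)
def n26586 : Q := act 1 n12708
theorem D26586 : act 1 n12708 = n26586 := rfl
theorem F42577 : act 1 n26586 = n18369 := d15_1 D26586 (iv7 F42517) F42515
theorem F42578 : act 5 n26586 = n16763 := d17_7 (iv1 F21076) (iv5 D6009) (iv1 D2531) D2533 D6016 D12708 D26586 (iv0 F42444) (iv4 D26515)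
theorem F42579 : act 3 n26378 = n26586 := d19_19 (iv1 D26586) (iv5 D12708) (iv4 D6016) F4029 D2535 F4033 (iv4 D1197) (iv3 F2082) F2753 F2752 F2645 (iv3 D1524) (iv1 D828) D829 (iv4 F2147) D2524 D5981 D12584 D26378
theorem F42580 : act 7 n26586 = n18372 := d8_2 (iv7 F42104) F42579 (iv3 F29548)
theorem F42581 : act 2 n18372 = n26585 := d15_3 (iv0 D26585) D26586 F42580
theorem F42582 : act 2 n26586 = n18371 := d15_3 (iv0 D18371) D18372 (iv7 F42580)
theorem F42583 : act 7 n18371 = n26585 := d4_2 (iv7 F42580) F42582 (iv2 F42581)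
def n26587 : Q := act 4 n12708
theorem D26587 : act 4 n12708 = n26587 := rfl
theorem F42584 : act 3 n26587 = n22313 := d5_1 D26587 (iv4 D22313) F17167 (iv4 F13574) (iv3 F21100)
theorem F42585 : act 7 n26587 = n18373 := d11_2 (iv7 F21101) D26587 (iv4 D18373)
theorem F42586 : act 0 n26587 = n17886 := d18_2 (iv1 D26586) D26587 F42460 (iv5 D26520) (iv4 D12661) F26966 (iv4 F12381) D16763 (iv5 F42578)
def n26588 : Q := act 6 n12708
theorem D26588 : act 6 n12708 = n26588 := rfl
theorem F42587 : act 3 n26588 = n18388 := d7_1 D26588 (iv6 D18388) (iv3 F21100)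
def n26589 : Q := act 0 n12709
theorem D26589 : act 0 n12709 = n26589 := rfl
def n26590 : Q := act 1 n12709
theorem D26590 : act 1 n12709 = n26590 := rfl
def n26591 : Q := act 5 n12709
theorem D26591 : act 5 n12709 = n26591 := rfl
theorem F42588 : act 3 n26591 = n18406 := d6_1 D26591 (iv5 D18406) (iv3 F21102)
def n26592 : Q := act 7 n12709
theorem D26592 : act 7 n12709 = n26592 := rfl
theorem F42589 : act 3 n26592 = n18403 := d8_1 D26592 F29569 (iv3 F21102)
theorem F42590 : act 4 n26592 = n12712 := d11_1 D26592 (iv7 D12712) (iv4 F21103)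
theorem F42591 : act 6 n26592 = n18378 := d14_1 D26592 (iv7 D18378) (iv6 D8654) (iv7 F9345) D12709
def n26593 : Q := act 2 n12710
theorem D26593 : act 2 n12710 = n26593 := rfl
theorem F42592 : act 7 n12711 = n26593 := d15_2 (iv0 D12710) D12711 (iv2 D26593)
def n26594 : Q := act 3 n12710
theorem D26594 : act 3 n12710 = n26594 := rfl
def n26595 : Q := act 4 n12710
theorem D26595 : act 4 n12710 = n26595 := rfl
def n26596 : Q := act 5 n12710
theorem D26596 : act 5 n12710 = n26596 := rfl
def n26597 : Q := act 6 n12710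
theorem D26597 : act 6 n12710 = n26597 := rfl
def n26598 : Q := act 7 n12710
theorem D26598 : act 7 n12710 = n26598 := rfl
theorem F42593 : act 2 n26598 = n12711 := d4_1 D26598 F42592 (iv2 D26593)
def n26599 : Q := act 3 n12711
theorem D26599 : act 3 n12711 = n26599 := rfl
def n26600 : Q := act 4 n12711
theorem D26600 : act 4 n12711 = n26600 := rfl
def n26601 : Q := act 5 n12711
theorem D26601 : act 5 n12711 = n26601 := rfl
def n26602 : Q := act 6 n12711
theorem D26602 : act 6 n12711 = n26602 := rfl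
def n26603 : Q := act 4 n12713
theorem D26603 : act 4 n12713 = n26603 := rfl
theorem F42594 : act 2 n26603 = n16049 := d1_1 D26603 F25583 (iv2 F26866)
theorem F42595 : act 7 n26603 = n16027 := d11_2 (iv7 F26867) D26603 F25513
theorem F42596 : act 1 n16047 = n26603 := d15_1 D16047 F42595 F25512
theorem F42597 : act 1 n26603 = n16046 := d15_0 (iv0 D16046) D16049 (iv2 F42594)
def n26604 : Q := act 5 n12713
theorem D26604 : act 5 n12713 = n26604 := rfl
theorem F42598 : act 2 n26604 = n16081 := d2_1 D26604 F25597 (iv2 F26866)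
theorem F42599 : act 7 n26604 = n16032 := d13_2 (iv7 F26867) D26604 (iv5 D16032)
theorem F42600 : act 1 n16079 = n26604 := d15_1 D16079 F42599 F25517
theorem F42601 : act 1 n26604 = n16078 := d15_0 (iv0 D16078) D16081 (iv2 F42598)
def n26605 : Q := act 0 n12715
theorem D26605 : act 0 n12715 = n26605 := rfl
theorem F42602 : act 1 n16076 = n26605 := d15_0 (iv0 D26605) (iv7 F41613) F41611
def n26606 : Q := act 1 n12715
theorem D26606 : act 1 n12715 = n26606 := rfl
theorem F42603 : act 1 n26606 = n16076 := d15_1 D26606 (iv7 F42368) F42365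
theorem F42604 : act 5 n23832 = n26606 := d21_6 (iv5 F21075) F27125 F12395 D15262 (iv1 F26918) D23832 (iv1 D26606) (iv5 D12715) (iv6 D6018) (iv1 F26641)
theorem F42605 : act 3 n26606 = n15879 := d6_1 F42604 F25352 (iv3 F37160)
def n26607 : Q := act 4 n12715
theorem D26607 : act 4 n12715 = n26607 := rfl
theorem F42606 : act 6 n26607 = n18665 := d10_2 (iv6 F21107) D26607 (iv4 D18665)
def n26608 : Q := act 4 n12718
theorem D26608 : act 4 n12718 = n26608 := rfl
theorem F42607 : act 2 n26608 = n12719 := d1_1 D26608 (iv4 D12719) D12718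
theorem F42608 : act 7 n26608 = n16353 := d11_2 (iv7 F21111) D26608 (iv4 D16353)
theorem F42609 : act 0 n26608 = n16356 := d17_0 F25861 F25588 (iv5 D16062) (iv4 D7505) (iv5 D3424) D3421 D7494 (iv0 F27121) D26608
theorem F42610 : act 1 n26608 = n16355 := d15_0 (iv0 D16355) (iv7 F21116) (iv2 F42607)
def n26609 : Q := act 6 n12718
theorem D26609 : act 6 n12718 = n26609 := rfl
theorem F42611 : act 2 n26609 = n12720 := d3_1 D26609 (iv6 D12720) D12718
theorem F42612 : act 3 n26609 = n16320 := d7_1 D26609 (iv6 D16320) (iv3 F21109)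
def n26610 : Q := act 0 n12719
theorem D26610 : act 0 n12719 = n26610 := rfl
theorem F42613 : act 1 n16353 = n26610 := d15_0 (iv0 D26610) F21116 (iv2 F25857)
def n26611 : Q := act 1 n12719
theorem D26611 : act 1 n12719 = n26611 := rfl
theorem F42614 : act 1 n26611 = n16353 := d15_1 D26611 (iv7 F42608) F42607
theorem F42615 : act 3 n16741 = n26611 := d20_3 F13574 (iv1 F14411) (iv4 F27482) (iv1 D26611) F21115 (iv4 D6155) D6153 D12952 (iv3 F27527) F27530
theorem F42616 : act 4 n26307 = n26611 := d20_6 (iv4 D1232) D1230 (iv4 F3976) (iv3 F9228) D12505 D26307 (iv1 D26611) (iv4 D12719) (iv3 D6019) (iv1 F4035)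
theorem F42617 : act 7 n26611 = n16356 := d11_2 (iv7 F41918) F42616 (iv4 F25860)
theorem F42618 : act 5 n16740 = n26611 := d13_3 F42617 F25861 (iv7 F27479)
theorem F42619 : act 2 n16356 = n26610 := d15_3 (iv0 D26610) D26611 F42617
theorem F42620 : act 2 n26611 = n16355 := d15_3 (iv0 D16355) D16356 (iv7 F42617)
theorem F42621 : act 7 n16355 = n26610 := d4_2 (iv7 F42617) F42620 (iv2 F42619)
theorem F42622 : act 5 n26610 = n18159 := d2_2 (iv5 F25861) F42619 (iv2 D18159)
def n26612 : Q := act 5 n12719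
theorem D26612 : act 5 n12719 = n26612 := rfl
theorem F42623 : act 3 n26612 = n12959 := d6_1 D26612 (iv5 D12959) (iv3 F21115)
theorem F42624 : act 7 n26612 = n16357 := d13_2 (iv7 F21116) D26612 (iv5 D16357)
theorem F42625 : act 1 n26612 = n18241 := d17_6 (iv1 F20969) (iv5 F26863) (iv1 D6071) (iv5 F9348) D12719 D26612 F29429 (iv0 F42115) (iv4 D26383)
theorem F42626 : act 1 n18285 = n26612 := d15_0 F42625 F29422 D18285
def n26613 : Q := act 6 n12719
theorem D26613 : act 6 n12719 = n26613 := rfl
theorem F42627 : act 3 n26613 = n12960 := d7_1 D26613 (iv6 D12960) (iv3 F21115)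
theorem F42628 : act 4 n26613 = n12720 := d10_1 D26613 (iv6 D12720) D12719
def n26614 : Q := act 0 n12720
theorem D26614 : act 0 n12720 = n26614 := rfl
def n26615 : Q := act 1 n12720
theorem D26615 : act 1 n12720 = n26615 := rfl
def n26616 : Q := act 5 n12720
theorem D26616 : act 5 n12720 = n26616 := rfl
theorem F42629 : act 3 n26616 = n12723 := d6_1 D26616 (iv5 D12723) (iv3 F21117)
theorem F42630 : act 6 n26616 = n12850 := d12_2 D12720 D26616 (iv5 D12850) (iv6 D6073) (iv5 F9348)
def n26617 : Q := act 7 n12720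
theorem D26617 : act 7 n12720 = n26617 := rfl
theorem F42631 : act 3 n26617 = n12724 := d8_1 D26617 (iv7 D12724) (iv3 F21117)
theorem F42632 : act 6 n26617 = n16362 := d14_1 D26617 (iv7 D16362) (iv6 D7599) (iv7 F9349) D12720
def n26618 : Q := act 2 n12721
theorem D26618 : act 2 n12721 = n26618 := rfl
theorem F42633 : act 7 n12722 = n26618 := d15_2 (iv0 D12721) D12722 (iv2 D26618)
def n26619 : Q := act 3 n12721
theorem D26619 : act 3 n12721 = n26619 := rfl
def n26620 : Q := act 4 n12721
theorem D26620 : act 4 n12721 = n26620 := rfl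
def n26621 : Q := act 5 n12721
theorem D26621 : act 5 n12721 = n26621 := rfl
def n26622 : Q := act 6 n12721
theorem D26622 : act 6 n12721 = n26622 := rfl
theorem F42634 : act 5 n26622 = n15994 := d21_6 (iv5 D2554) (iv1 F2213) (iv5 F4033) D6020 D12721 D26622 (iv1 D15994) (iv5 D7482) (iv6 D3417) (iv1 F4064)
theorem F42635 : act 4 n13238 = n26622 := d17_4 (iv1 F9696) (iv5 F21801) (iv1 F21804) (iv5 F22040) F42634 F42168 F42166 F20989 (iv4 F29940)
theorem F42636 : act 2 n26622 = n16333 := d1_1 F42635 F42179 (iv2 F29771)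
theorem E4889 : n26620 = n6288 := (c10_4 D13238 F42635 (iv6 D26622) D26620)
theorem E4890 : n13236 = n12721 := ((D13236).symm.trans (sb E4889 (iv4 D26620)))
theorem E4891 : n26618 = n7591 := ((D26618).symm.trans (sb E4890 F42180))
theorem F42637 : act 4 n12721 = n6288 := (sb E4890 (iv4 D13236))
theorem F42638 : act 7 n12721 = n7592 := (sb E4890 (iv7 F42184))
theorem F42639 : act 2 n7591 = n12721 := (sb E4891 (iv2 D26618))
theorem E4892 : n13241 = n12722 := (((iv7 F42182)).symm.trans (sb E4891 (iv7 F42633)))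
theorem F42640 : act 2 n12722 = n7592 := (sb E4892 (iv2 F42183))
theorem F42641 : act 4 n12722 = n6289 := (sb E4892 (iv4 D13241))
theorem F42642 : act 6 n12722 = n18766 := (sb E4892 (iv6 F30007))
theorem F42643 : act 7 n12722 = n7591 := (sb E4892 F42182)
theorem F42644 : act 7 n26622 = n16417 := d11_2 F30000 F42635 (iv4 F42171)
theorem F42645 : act 7 n26414 = n15994 := d13_2 F42644 F42169 (iv5 F42634)
theorem F42646 : act 2 n15994 = n26415 := d15_3 F42161 F42167 F42645
theorem F42647 : act 2 n26414 = n15993 := d15_3 (iv0 D15993) D15994 (iv7 F42645)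
theorem F42648 : act 7 n15993 = n26415 := d4_2 (iv7 F42645) F42647 (iv2 F42646)
theorem F42649 : act 2 n26621 = n16332 := d2_3 (iv5 D16332) F42639 D26621
theorem F42650 : act 7 n16335 = n26619 := d8_2 F42638 D16335 (iv3 D26619)
theorem F42651 : act 7 n16337 = n26621 := d13_2 F42638 D16337 (iv5 D26621)
def n26623 : Q := act 3 n12722
theorem D26623 : act 3 n12722 = n26623 := rfl
theorem F42652 : act 7 n26623 = n16330 := d8_2 (iv7 F42643) D26623 (iv3 D16330)
def n26624 : Q := act 5 n12722
theorem D26624 : act 5 n12722 = n26624 := rfl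
theorem F42653 : act 2 n26624 = n16337 := d2_1 D26624 (iv5 D16337) (iv2 F42640)
theorem F42654 : act 7 n26624 = n16332 := d13_2 (iv7 F42643) D26624 (iv5 D16332)
def n26625 : Q := act 0 n12723
theorem D26625 : act 0 n12723 = n26625 := rfl
def n26626 : Q := act 1 n12723
theorem D26626 : act 1 n12723 = n26626 := rfl
theorem F42655 : act 1 n26626 = n16342 := d15_1 D26626 (iv7 D16342) (iv2 F21119)
theorem F42656 : act 5 n26467 = n26626 := d21_6 F2308 (iv1 F2151) D2528 D5995 D12631 D26467 (iv1 D26626) (iv5 D12723) (iv6 D6020) (iv1 F4035)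
theorem F42657 : act 2 n26626 = n16340 := d2_1 F42656 (iv5 F25852) (iv2 F42323)
def n26627 : Q := act 4 n12723
theorem D26627 : act 4 n12723 = n26627 := rfl
theorem F42658 : act 2 n26627 = n16341 := d1_1 D26627 (iv4 D16341) (iv2 F21119)
theorem F42659 : act 6 n26627 = n12854 := d10_2 (iv6 F21120) D26627 (iv4 D12854)
def n26628 : Q := act 7 n12723
theorem D26628 : act 7 n12723 = n26628 := rfl
theorem F42660 : act 2 n26628 = n16342 := d4_1 D26628 (iv7 D16342) (iv2 F21119)
theorem F42661 : act 5 n26628 = n12724 := d13_1 D26628 (iv7 D12724) D12723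
theorem F42662 : act 1 n16342 = n26625 := d15_0 (iv0 D26625) D26628 F42660
theorem F42663 : act 1 n16340 = n26628 := d15_1 D16340 (iv7 D26628) F21119
theorem F42664 : act 7 n26625 = n16340 := d15_2 F42655 F42662 (iv2 F42657)
theorem F42665 : act 2 n26625 = n16339 := d15_3 (iv0 D16339) D16340 (iv7 F42664)
theorem F42666 : act 7 n16339 = n26626 := d4_2 (iv7 F42664) F42665 F42657
theorem F42667 : act 1 n26628 = n16339 := d15_1 F42663 F42666 F42657
def n26629 : Q := act 4 n12727
theorem D26629 : act 4 n12727 = n26629 := rfl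
theorem F42668 : act 2 n26629 = n12728 := d1_1 D26629 (iv4 D12728) D12727
theorem F42669 : act 7 n26629 = n16319 := d11_2 (iv7 F21130) D26629 (iv4 D16319)
theorem F42670 : act 0 n26629 = n16322 := d18_2 (iv1 F30290) D26629 (iv4 F25843) F25793 F11723 (iv0 F21003) (iv4 D12616) F9310 D7458
theorem F42671 : act 1 n26629 = n16321 := d15_0 (iv0 D16321) (iv7 F21135) (iv2 F42668)
def n26630 : Q := act 6 n12727
theorem D26630 : act 6 n12727 = n26630 := rfl
theorem F42672 : act 2 n26630 = n12729 := d3_1 D26630 (iv6 D12729) D12727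
theorem F42673 : act 3 n26630 = n16354 := d7_1 D26630 (iv6 D16354) (iv3 F21128)
theorem F42674 : act 5 n26630 = n18634 := d12_1 D26630 (iv6 D18634) (iv5 F26652) (iv6 D12935) (iv5 F21129)
def n26631 : Q := act 0 n12728
theorem D26631 : act 0 n12728 = n26631 := rfl
theorem F42675 : act 1 n16319 = n26631 := d15_0 (iv0 D26631) F21135 (iv2 F25841)
def n26632 : Q := act 1 n12728
theorem D26632 : act 1 n12728 = n26632 := rfl
theorem F42676 : act 1 n26632 = n16319 := d15_1 D26632 (iv7 F42669) F42668
theorem F42677 : act 4 n26258 = n26632 := d20_6 F2156 (iv1 F2303) (iv4 F3961) (iv3 F9200) D12471 D26258 (iv1 D26632) (iv4 D12728) (iv3 D6021) (iv1 D2536)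
theorem F42678 : act 7 n26632 = n16322 := d11_2 (iv7 F41698) F42677 (iv4 F25843)
theorem F42679 : act 2 n16322 = n26631 := d15_3 (iv0 D26631) D26632 F42678
theorem F42680 : act 2 n26632 = n16321 := d15_3 (iv0 D16321) D16322 (iv7 F42678)
theorem F42681 : act 7 n16321 = n26631 := d4_2 (iv7 F42678) F42680 (iv2 F42679)
def n26633 : Q := act 5 n12728
theorem D26633 : act 5 n12728 = n26633 := rfl
theorem F42682 : act 3 n26633 = n12873 := d6_1 D26633 (iv5 D12873) (iv3 F21134)
theorem F42683 : act 7 n26633 = n16323 := d13_2 (iv7 F21135) D26633 (iv5 D16323)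
def n26634 : Q := act 6 n12728
theorem D26634 : act 6 n12728 = n26634 := rfl
theorem F42684 : act 3 n26634 = n12874 := d7_1 D26634 (iv6 D12874) (iv3 F21134)
theorem F42685 : act 4 n26634 = n12729 := d10_1 D26634 (iv6 D12729) D12728
def n26635 : Q := act 0 n12729
theorem D26635 : act 0 n12729 = n26635 := rfl
def n26636 : Q := act 1 n12729
theorem D26636 : act 1 n12729 = n26636 := rfl
def n26637 : Q := act 5 n12729
theorem D26637 : act 5 n12729 = n26637 := rfl
theorem F42686 : act 2 n26637 = n18634 := d2_1 D26637 (iv5 F42674) F42672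
theorem F42687 : act 3 n26637 = n12732 := d6_1 D26637 (iv5 D12732) (iv3 F21136)
theorem F42688 : act 6 n26637 = n12938 := d12_2 D12729 D26637 (iv5 D12938) (iv6 D6131) (iv5 F9352)
def n26638 : Q := act 7 n12729
theorem D26638 : act 7 n12729 = n26638 := rfl
theorem F42689 : act 3 n26638 = n12733 := d8_1 D26638 (iv7 D12733) (iv3 F21136)
theorem F42690 : act 6 n26638 = n16328 := d14_1 D26638 (iv7 D16328) (iv6 D7590) (iv7 F9353) D12729
def n26639 : Q := act 3 n12730
theorem D26639 : act 3 n12730 = n26639 := rfl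
theorem F42691 : act 7 n26639 = n16369 := d8_2 F42345 D26639 (iv3 D16369)
def n26640 : Q := act 5 n12730
theorem D26640 : act 5 n12730 = n26640 := rfl
theorem F42692 : act 2 n26640 = n16366 := d2_1 D26640 (iv5 D16366) (iv2 F42341)
theorem F42693 : act 7 n26640 = n16371 := d13_2 F42345 D26640 (iv5 D16371)
def n26641 : Q := act 3 n12731
theorem D26641 : act 3 n12731 = n26641 := rfl
theorem F42694 : act 7 n26641 = n16364 := d8_2 (iv7 F42343) D26641 (iv3 D16364)
def n26642 : Q := act 5 n12731
theorem D26642 : act 5 n12731 = n26642 := rfl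
theorem F42695 : act 2 n26642 = n16371 := d2_1 D26642 (iv5 D16371) F42344
theorem F42696 : act 7 n26642 = n16366 := d13_2 (iv7 F42343) D26642 (iv5 D16366)
def n26643 : Q := act 6 n12731
theorem D26643 : act 6 n12731 = n26643 := rfl
theorem F42697 : act 2 n26643 = n16372 := d3_1 D26643 (iv6 D16372) F42344
theorem F42698 : act 4 n26643 = n13221 := d10_1 D26643 (iv6 D13221) (iv4 F30358)
theorem F42699 : act 7 n26643 = n16402 := d14_2 (iv7 F42343) D26643 (iv6 F29129) (iv7 F42340) (iv6 D16367)
theorem E4893 : n16401 = n16372 := ((c15_4 (iv0 D16401) D16402 (iv7 F42699) F42697)).symm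
theorem F42700 : act 1 n16372 = n7608 := (sb E4893 (iv0 D16401))
def n26644 : Q := act 0 n12732
theorem D26644 : act 0 n12732 = n26644 := rfl
def n26645 : Q := act 1 n12732
theorem D26645 : act 1 n12732 = n26645 := rfl
theorem F42701 : act 1 n26645 = n16376 := d15_1 D26645 (iv7 D16376) (iv2 F21138)
theorem F42702 : act 5 n26408 = n26645 := d21_6 (iv5 D1179) D1176 D2525 D5986 D12601 D26408 (iv1 D26645) (iv5 D12732) (iv6 D6022) (iv1 D2536)
theorem F42703 : act 2 n26645 = n16374 := d2_1 F42702 (iv5 F25871) F42191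
def n26646 : Q := act 4 n12732
theorem D26646 : act 4 n12732 = n26646 := rfl
theorem F42704 : act 2 n26646 = n16375 := d1_1 D26646 (iv4 D16375) (iv2 F21138)
theorem F42705 : act 6 n26646 = n12942 := d10_2 (iv6 F21139) D26646 (iv4 D12942)
def n26647 : Q := act 7 n12732
theorem D26647 : act 7 n12732 = n26647 := rfl
theorem F42706 : act 2 n26647 = n16376 := d4_1 D26647 (iv7 D16376) (iv2 F21138)
theorem F42707 : act 5 n26647 = n12733 := d13_1 D26647 (iv7 D12733) D12732
theorem F42708 : act 1 n16376 = n26644 := d15_0 (iv0 D26644) D26647 F42706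
theorem F42709 : act 1 n16374 = n26647 := d15_1 D16374 (iv7 D26647) F21138
theorem F42710 : act 7 n26644 = n16374 := d15_2 F42701 F42708 (iv2 F42703)
theorem F42711 : act 2 n26644 = n16373 := d15_3 (iv0 D16373) D16374 (iv7 F42710)
theorem F42712 : act 7 n16373 = n26645 := d4_2 (iv7 F42710) F42711 F42703
theorem F42713 : act 1 n26647 = n16373 := d15_1 F42709 F42712 F42703
def n26650 : Q := act 3 n12734
theorem D26650 : act 3 n12734 = n26650 := rfl
theorem F42716 : act 7 n26650 = n12740 := d8_2 F21146 D26650 (iv3 D12740)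
def n26651 : Q := act 5 n12734
theorem D26651 : act 5 n12734 = n26651 := rfl
theorem F42717 : act 2 n26651 = n12737 := d2_1 D26651 (iv5 D12737) D12734
theorem F42718 : act 7 n26651 = n12742 := d13_2 F21146 D26651 (iv5 D12742)
def n26652 : Q := act 6 n12734
theorem D26652 : act 6 n12734 = n26652 := rfl
theorem F42719 : act 2 n26652 = n12738 := d3_1 D26652 (iv6 D12738) D12734
def n26653 : Q := act 0 n12735
theorem D26653 : act 0 n12735 = n26653 := rfl
def n26654 : Q := act 1 n12735
theorem D26654 : act 1 n12735 = n26654 := rfl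
def n26655 : Q := act 2 n12735
theorem D26655 : act 2 n12735 = n26655 := rfl
def n26656 : Q := act 4 n12735
theorem D26656 : act 4 n12735 = n26656 := rfl
def n26657 : Q := act 5 n12735
theorem D26657 : act 5 n12735 = n26657 := rfl
theorem F42720 : act 3 n26657 = n12737 := d6_1 D26657 (iv5 D12737) D12735
def n26658 : Q := act 6 n12735
theorem D26658 : act 6 n12735 = n26658 := rfl
theorem F42721 : act 3 n26658 = n12738 := d7_1 D26658 (iv6 D12738) D12735
def n26659 : Q := act 7 n12735
theorem D26659 : act 7 n12735 = n26659 := rfl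
def n26660 : Q := act 0 n12737
theorem D26660 : act 0 n12737 = n26660 := rfl
theorem F42723 : act 5 n26660 = n26470 := d17_3 D6023 D12737 D26660 F42329 (iv5 F29707) (iv0 F29713) (iv5 D8820) (iv0 D3930) (iv4 F4044)
theorem F42724 : act 2 n16396 = n26660 := d2_3 F42723 F42328 (iv5 F25890)
theorem F42725 : act 7 n16397 = n26660 := d15_2 (iv0 D16396) D16397 (iv2 F42724)
def n26661 : Q := act 1 n12737
theorem D26661 : act 1 n12737 = n26661 := rfl
theorem F42726 : act 1 n26661 = n12742 := d15_1 D26661 (iv7 F42718) F42717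
theorem F42727 : act 7 n26661 = n16396 := d15_2 (iv0 D26660) D26661 F42724
theorem F42728 : act 2 n16397 = n26661 := d4_3 F42727 F42724 (iv7 F42725)
theorem F42729 : act 1 n12742 = n26660 := d15_1 F42726 (iv7 F42725) F42728
theorem F42730 : act 1 n26470 = n15233 := d17_8 F28593 (iv5 F28235) F30549 (iv5 D19044) (iv4 F41672) D12742 F42729 F42723 F28963
def n26662 : Q := act 4 n12737
theorem D26662 : act 4 n12737 = n26662 := rfl
def n26663 : Q := act 6 n12737
theorem D26663 : act 6 n12737 = n26663 := rfl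
def n26664 : Q := act 7 n12737
theorem D26664 : act 7 n12737 = n26664 := rfl
def n26665 : Q := act 0 n12738
theorem D26665 : act 0 n12738 = n26665 := rfl
def n26666 : Q := act 1 n12738
theorem D26666 : act 1 n12738 = n26666 := rfl
theorem F42733 : act 4 n26666 = n18546 := d17_9 F29726 F28005 (iv1 D17071) (iv5 D7985) F5649 (iv5 F12032) D16632 (iv5 F27132) D26666
theorem F42734 : act 6 n18697 = n26666 := d21_3 D12633 D26471 F42330 (iv1 D26666) (iv6 D12738) D12737 D26660 F42723 (iv6 D26470) (iv1 D12632)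
theorem F42735 : act 2 n26666 = n16402 := d3_1 F42734 (iv6 F29129) (iv2 F30362)
theorem F42736 : act 7 n26666 = n16372 := d14_2 (iv7 F30364) F42734 (iv6 D16372) F42345 F30355
theorem E4894 : n26665 = n26643 := ((c15_4 (iv0 D26665) D26666 F42736 (iv2 F42697))).symm
theorem F42737 : act 1 n26643 = n12738 := (sb E4894 (iv0 D26665))
def n26667 : Q := act 7 n12738
theorem D26667 : act 7 n12738 = n26667 := rfl
def n26669 : Q := act 0 n12740
theorem D26669 : act 0 n12740 = n26669 := rfl
def n26670 : Q := act 1 n12740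
theorem D26670 : act 1 n12740 = n26670 := rfl
def n26671 : Q := act 2 n12740
theorem D26671 : act 2 n12740 = n26671 := rfl
def n26672 : Q := act 4 n12740
theorem D26672 : act 4 n12740 = n26672 := rfl
def n26673 : Q := act 5 n12740
theorem D26673 : act 5 n12740 = n26673 := rfl
theorem F42739 : act 3 n26673 = n12742 := d6_1 D26673 (iv5 D12742) D12740
def n26674 : Q := act 6 n12740
theorem D26674 : act 6 n12740 = n26674 := rfl
theorem F42740 : act 3 n26674 = n12743 := d7_1 D26674 (iv6 D12743) D12740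
def n26675 : Q := act 4 n12742
theorem D26675 : act 4 n12742 = n26675 := rfl
def n26676 : Q := act 6 n12742
theorem D26676 : act 6 n12742 = n26676 := rfl
theorem F42741 : act 0 n15087 = n26676 := d21_4 F9158 (iv1 F9061) (iv5 F11507) D15087 (iv6 D26676) (iv5 D12742) (iv1 D6024) (iv5 F9170) (iv6 D5916) D5913
def n26677 : Q := act 0 n12743
theorem D26677 : act 0 n12743 = n26677 := rfl
theorem F42742 : act 5 n26677 = n15993 := d17_1 D26677 (iv1 F42203) F42166 F20985 (iv5 F21727) (iv0 F21731) (iv5 F30471) (iv0 F30551) F41673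
theorem F42743 : act 2 n16417 = n26677 := d2_3 F42742 (iv2 F42647) (iv5 F42169)
theorem F42744 : act 7 n16333 = n26677 := d13_0 F42742 F42648 (iv5 F42162)
theorem F42745 : act 4 n18109 = n26677 := d17_4 (iv1 D3810) D3811 D8538 D18109 F42742 (iv0 D15993) (iv5 D7482) D7481 (iv4 F29944)
theorem F42746 : act 6 n26677 = n18685 := d21_3 D7482 D15993 (iv5 F42742) (iv1 D18685) (iv6 D8765) D8764 D18679 (iv5 F29946) (iv6 D15992) (iv1 D7481)
theorem F42747 : act 1 n12743 = n26622 := d15_1 (iv0 D26677) F42644 F42743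
def n26678 : Q := act 5 n12743
theorem D26678 : act 5 n12743 = n26678 := rfl
theorem F42748 : act 0 n26678 = n26412 := d17_2 (iv1 F42747) D26678 (iv5 D26412) F42172 D13079 (iv0 F30097) (iv5 D18849) F30004 F42635
theorem F42749 : act 0 n26407 = n26678 := d21_1 D26407 (iv5 D26678) (iv6 D12743) (iv1 D6024) (iv6 D2537) (iv5 D1179) D1176 D2525 D5986 D12601
def n26679 : Q := act 7 n12743
theorem D26679 : act 7 n12743 = n26679 := rfl
def n26680 : Q := act 1 n12745
theorem D26680 : act 1 n12745 = n26680 := rfl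
theorem F42750 : act 1 n26680 = n12747 := d15_1 D26680 F21154 (iv2 F21150)
theorem F42751 : act 7 n26680 = n16426 := d15_2 F24999 D26680 (iv2 F25906)
theorem F42752 : act 5 n26680 = n16458 := d17_7 F21338 (iv5 D12860) F12448 (iv5 D7871) F12025 D12745 D26680 (iv0 F25943) (iv4 D13683)
theorem F42753 : act 2 n16427 = n26680 := d2_3 F42752 F25939 (iv5 F25909)
def n26681 : Q := act 4 n12745
theorem D26681 : act 4 n12745 = n26681 := rfl
theorem F42754 : act 2 n26681 = n16428 := d1_1 D26681 (iv4 D16428) (iv2 F21150)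
theorem F42755 : act 7 n26681 = n16436 := d11_2 (iv7 F21151) D26681 (iv4 D16436)
def n26682 : Q := act 6 n12745
theorem D26682 : act 6 n12745 = n26682 := rfl
theorem F42756 : act 2 n26682 = n16429 := d3_1 D26682 (iv6 D16429) (iv2 F21150)
theorem F42757 : act 5 n26682 = n16628 := d12_1 D26682 (iv6 D16628) F12022 (iv6 F12023) D12745
def n26683 : Q := act 4 n12746
theorem D26683 : act 4 n12746 = n26683 := rfl
theorem F42758 : act 2 n26683 = n23775 := d1_1 D26683 (iv4 F42401) F42399
theorem F42759 : act 3 n26683 = n16869 := d5_1 D26683 (iv4 F27619) (iv3 D7872) F12027 D12746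
theorem F42760 : act 6 n26683 = n16865 := d10_2 (iv6 F42220) D26683 (iv4 F42216)
theorem F42761 : act 7 n26683 = n16424 := d11_2 (iv7 F21152) D26683 (iv4 D16424)
theorem F42762 : act 0 n25622 = n26683 := d20_10 (iv4 D26683) F27203 (iv4 F25376) (iv3 F42408) F42411 F25582 F22753 (iv1 F10545) D12181 D25622
theorem F42763 : act 1 n15939 = n26683 := d15_0 (iv0 F42762) F40524 (iv2 F26995)
def n26684 : Q := act 5 n12746
theorem D26684 : act 5 n12746 = n26684 := rfl
theorem F42764 : act 3 n26684 = n12747 := d6_1 D26684 (iv5 D12747) D12746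
theorem F42765 : act 7 n26684 = n16425 := d13_2 (iv7 F21152) D26684 (iv5 D16425)
def n26685 : Q := act 4 n12747
theorem D26685 : act 4 n12747 = n26685 := rfl
theorem F42766 : act 2 n26685 = n16436 := d1_1 D26685 (iv4 D16436) (iv2 F21153)
theorem F42767 : act 7 n26685 = n16428 := d11_2 (iv7 F21154) D26685 (iv4 D16428)
def n26686 : Q := act 6 n12747
theorem D26686 : act 6 n12747 = n26686 := rfl
theorem F42768 : act 2 n26686 = n16437 := d3_1 D26686 (iv6 D16437) (iv2 F21153)
def n26687 : Q := act 3 n12749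
theorem D26687 : act 3 n12749 = n26687 := rfl
theorem F42769 : act 7 n26687 = n16442 := d8_2 (iv7 F23109) D26687 (iv3 D16442)
def n26688 : Q := act 4 n12749
theorem D26688 : act 4 n12749 = n26688 := rfl
theorem F42770 : act 2 n26688 = n16440 := d1_1 D26688 (iv4 D16440) (iv2 F23108)
theorem F42771 : act 7 n26688 = n16443 := d11_2 (iv7 F23109) D26688 (iv4 D16443)
theorem F42772 : act 5 n26688 = n26685 := d16_1 D26688 (iv4 D26685) (iv5 D12747) (iv4 F12027) D7873 (iv4 F27304) F27307 (iv7 F23111) (iv2 F23108)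
theorem F42773 : act 1 n26688 = n16887 := d18_6 (iv1 F21182) F11588 F12448 (iv4 F23104) F23106 D26688 (iv4 D16887) (iv0 F25975) (iv5 D16475)
theorem F42774 : act 0 n26687 = n15887 := d20_4 D16887 (iv1 F42773) (iv4 D26688) D26687 F25356 D15888 (iv1 F41215) (iv4 D26062) (iv3 F26697) F25975
theorem F42775 : act 1 n26687 = n16024 := d15_1 (iv0 F42774) (iv7 F42505) F42504
def n26689 : Q := act 6 n12749
theorem D26689 : act 6 n12749 = n26689 := rfl
theorem F42776 : act 2 n26689 = n16441 := d3_1 D26689 (iv6 D16441) (iv2 F23108)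
def n26690 : Q := act 3 n12750
theorem D26690 : act 3 n12750 = n26690 := rfl
theorem F42777 : act 7 n26690 = n16439 := d8_2 F23111 D26690 (iv3 D16439)
def n26691 : Q := act 4 n12750
theorem D26691 : act 4 n12750 = n26691 := rfl
theorem F42778 : act 2 n26691 = n16443 := d1_1 D26691 (iv4 D16443) F23110
theorem F42779 : act 5 n26691 = n26681 := d9_2 F27307 D26691 (iv4 D26681) (iv5 D12745) (iv4 F12025) D7871 (iv4 F23104) F23106 D26688 F42772 (iv4 D26685) (iv5 D12747) (iv4 F12027) D7873 (iv4 F27304)
theorem F42780 : act 7 n26691 = n16440 := d11_2 F23111 D26691 (iv4 D16440)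
theorem F42781 : act 0 n26691 = n16887 := d18_2 (iv1 F21161) D26691 (iv4 D16887) (iv5 D7869) F5594 D3569 F12027 F9364 D7219
def n26692 : Q := act 6 n12750
theorem D26692 : act 6 n12750 = n26692 := rfl
theorem F42782 : act 2 n26692 = n16444 := d3_1 D26692 (iv6 D16444) F23110
def n26693 : Q := act 0 n12751
theorem D26693 : act 0 n12751 = n26693 := rfl
theorem F42783 : act 4 n26693 = n13679 := d18_3 (iv1 D12750) D12751 D26693 F22828 (iv4 D12756) (iv0 F9376) (iv4 F20814) (iv0 F27306) F27307
theorem F42784 : act 1 n15239 = n26693 := d15_0 (iv0 D26693) (iv7 F25922) F25921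
theorem F42785 : act 2 n16445 = n26693 := d1_3 F42783 (iv2 F25951) F25955
theorem F42786 : act 7 n16446 = n26693 := d11_0 F42783 (iv7 F25974) F25977
def n26694 : Q := act 1 n12751
theorem D26694 : act 1 n12751 = n26694 := rfl
theorem F42787 : act 1 n26694 = n15239 := d15_1 D26694 F24832 (iv2 F21162)
theorem F42788 : act 7 n26694 = n16445 := d15_2 (iv0 D26693) D26694 F42785
theorem F42789 : act 4 n26694 = n13680 := d18_7 (iv1 F12443) (iv4 D6032) (iv1 D2540) (iv4 F4046) D6028 D12751 D26694 F27656 F27655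
theorem F42790 : act 2 n16446 = n26694 := d1_3 F42789 (iv2 F25973) F25977
def n26695 : Q := act 3 n12751
theorem D26695 : act 3 n12751 = n26695 := rfl
theorem F42791 : act 6 n26695 = n18712 := d7_2 (iv6 F21163) D26695 (iv3 D18712)
def n26696 : Q := act 1 n12755
theorem D26696 : act 1 n12755 = n26696 := rfl
theorem F42792 : act 1 n26696 = n12758 := d15_1 D26696 F21186 (iv2 F21176)
theorem F42793 : act 7 n26696 = n15831 := d15_2 F24977 D26696 F26519
theorem F42794 : act 5 n26696 = n16459 := d17_7 D7631 F11843 F9376 (iv5 D6031) D6030 D12755 D26696 (iv0 D16459) (iv4 D7632)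
theorem F42795 : act 2 n15830 = n26696 := d2_3 F42794 (iv2 F25946) (iv5 F26516)
def n26697 : Q := act 4 n12755
theorem D26697 : act 4 n12755 = n26697 := rfl
theorem F42796 : act 2 n26697 = n16455 := d1_1 D26697 (iv4 D16455) (iv2 F21176)
theorem F42797 : act 7 n26697 = n15832 := d11_2 (iv7 F26523) D26697 (iv4 D15832)
theorem F42798 : act 5 n26697 = n26694 := d16_1 D26697 F42789 (iv5 F22829) (iv4 D12760) (iv5 D6033) D6032 D12758 F21186 (iv2 F21176)
def n26698 : Q := act 6 n12755
theorem D26698 : act 6 n12755 = n26698 := rfl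
theorem F42799 : act 2 n26698 = n16456 := d3_1 D26698 (iv6 D16456) (iv2 F21176)
theorem F42800 : act 3 n26698 = n15873 := d7_1 D26698 (iv6 D15873) (iv3 F26522)
theorem F42801 : act 5 n26698 = n16590 := d12_1 D26698 (iv6 D16590) (iv5 D7711) (iv6 F9371) D12755
def n26699 : Q := act 4 n12758
theorem D26699 : act 4 n12758 = n26699 := rfl
theorem F42802 : act 2 n26699 = n15832 := d1_1 D26699 (iv4 D15832) (iv2 F26509)
theorem F42803 : act 5 n26699 = n26693 := d9_2 D12758 D26699 F42783 F22828 (iv4 D12756) (iv5 D6031) D6030 D12755 D26697 F42798 F42789 (iv5 F22829) (iv4 D12760) (iv5 D6033) D6032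
theorem F42804 : act 7 n26699 = n16455 := d11_2 (iv7 F21186) D26699 (iv4 D16455)
def n26700 : Q := act 6 n12758
theorem D26700 : act 6 n12758 = n26700 := rfl
theorem F42805 : act 2 n26700 = n15818 := d3_1 D26700 F25315 (iv2 F26509)
theorem F42806 : act 5 n26700 = n15797 := d12_1 D26700 (iv6 D15797) (iv5 D7416) (iv6 F26422) D12758
def n26701 : Q := act 2 n12761
theorem D26701 : act 2 n12761 = n26701 := rfl
theorem F42807 : act 5 n26701 = n25695 := d2_2 F40556 D26701 (iv2 D25695)
theorem F42808 : act 7 n12762 = n26701 := d15_2 (iv0 D12761) D12762 (iv2 D26701)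
def n26702 : Q := act 3 n12761
theorem D26702 : act 3 n12761 = n26702 := rfl
theorem F42809 : act 4 n26702 = n25536 := d5_2 F24927 D26702 (iv3 F40364) (iv4 F28421) (iv3 F28420)
theorem F42810 : act 5 n26702 = n25696 := d6_2 F40556 D26702 (iv3 D25696)
def n26703 : Q := act 6 n12761
theorem D26703 : act 6 n12761 = n26703 := rfl
def n26704 : Q := act 7 n12761
theorem D26704 : act 7 n12761 = n26704 := rfl
theorem F42811 : act 2 n26704 = n12762 := d4_1 D26704 F42808 (iv2 D26701)
theorem F42812 : act 5 n26704 = n25699 := d13_1 D26704 (iv7 D25699) F40556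
def n26705 : Q := act 6 n12762
theorem D26705 : act 6 n12762 = n26705 := rfl
def n26706 : Q := act 4 n12764
theorem D26706 : act 4 n12764 = n26706 := rfl
def n26707 : Q := act 6 n12764
theorem D26707 : act 6 n12764 = n26707 := rfl
theorem F42813 : act 3 n26707 = n12765 := d7_1 D26707 (iv6 D12765) (iv3 F21196)
def n26708 : Q := act 0 n12765
theorem D26708 : act 0 n12765 = n26708 := rfl
def n26709 : Q := act 1 n12765
theorem D26709 : act 1 n12765 = n26709 := rfl
def n26710 : Q := act 7 n12765
theorem D26710 : act 7 n12765 = n26710 := rfl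
def n26711 : Q := act 0 n12769
theorem D26711 : act 0 n12769 = n26711 := rfl
theorem F42814 : act 6 n26711 = n13545 := d21_5 (iv5 F20699) (iv1 F41595) (iv5 F41597) F27314 D26711 F41446 (iv1 D26143) (iv5 D12402) D12403 F26924
theorem F42815 : act 2 n12773 = n26711 := d15_3 (iv0 D26711) (iv0 D12769) D12773
theorem F42816 : act 3 n26711 = n16608 := d0_2 (iv3 F21206) F42815 (iv2 F27097) F12020 (iv2 F9404)
theorem F42817 : act 7 n26711 = n12771 := d4_2 D12773 F42815 (iv2 D12771)
theorem F42818 : act 1 n12770 = n26711 := d15_1 D12770 F42817 (iv2 D12771)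
theorem F42819 : act 0 n13445 = n24388 := d20_10 (iv4 D24388) D24385 F38238 (iv3 F42816) (iv1 F42818) F26822 F10642 F8163 D6392 D13445
def n26712 : Q := act 3 n12769
theorem D26712 : act 3 n12769 = n26712 := rfl
theorem F42820 : act 2 n26712 = n13834 := d0_1 D26712 (iv3 D13834) F10871 D14047 F26829
def n26713 : Q := act 4 n12769
theorem D26713 : act 4 n12769 = n26713 := rfl
def n26714 : Q := act 5 n12769
theorem D26714 : act 5 n12769 = n26714 := rfl
theorem F42821 : act 0 n26714 = n26399 := d21_1 D26714 (iv5 D26399) (iv6 F42123) (iv1 F26987) F26671 D12644 F27127 (iv5 D6047) (iv6 F9402) D12769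
theorem F42822 : act 0 n26396 = n26714 := d21_1 D26396 (iv5 D26714) (iv6 F27314) (iv1 F26729) (iv6 D8165) D8164 F26760 (iv5 D5984) D5985 D12597
def n26715 : Q := act 7 n12769
theorem D26715 : act 7 n12769 = n26715 := rfl
theorem F42823 : act 2 n26715 = n12770 := d4_1 D26715 F26823 F26829
theorem F42824 : act 1 n12771 = n26715 := d15_1 (iv0 F41537) (iv7 D26715) (iv2 F26829)
theorem F42825 : act 1 n26715 = n12773 := d15_1 F42824 (iv7 D12773) D12771
def n26716 : Q := act 4 n12770
theorem D26716 : act 4 n12770 = n26716 := rfl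
theorem F42826 : act 3 n26716 = n13805 := d5_1 D26716 (iv4 D13805) (iv3 F10625) (iv4 F10642) (iv3 F26822)
def n26717 : Q := act 5 n12770
theorem D26717 : act 5 n12770 = n26717 := rfl
theorem F42827 : act 3 n26717 = n13832 := d6_1 D26717 (iv5 D13832) (iv3 F26822)
theorem F42828 : act 0 n26717 = n26396 := d21_1 D26717 (iv5 D26396) (iv6 F41413) (iv1 F41416) (iv6 D15107) D15106 (iv1 F41443) (iv5 F41446) (iv6 F42814) (iv1 F42818)
def n26718 : Q := act 6 n12770
theorem D26718 : act 6 n12770 = n26718 := rfl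
theorem F42829 : act 3 n26718 = n13833 := d7_1 D26718 (iv6 D13833) (iv3 F26822)
theorem F42830 : act 5 n26718 = n26687 := d21_6 D15106 (iv1 F41443) (iv5 F41446) (iv6 F42814) (iv1 F42818) D26718 F42774 (iv5 D15887) (iv6 F26959) (iv1 F20651)
theorem F42831 : act 0 n26718 = n26064 := d20_4 F11588 F12448 (iv4 F23104) (iv3 F42829) (iv3 D26064) (iv4 D12356) (iv1 D5877) (iv4 F9078) F26626 (iv1 F21182)
def n26719 : Q := act 4 n12772
theorem D26719 : act 4 n12772 = n26719 := rfl
def n26720 : Q := act 6 n12772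
theorem D26720 : act 6 n12772 = n26720 := rfl
theorem F42832 : act 3 n26720 = n12775 := d7_1 D26720 (iv6 D12775) (iv3 F21205)
theorem F42833 : act 5 n26720 = n12791 := d12_1 D26720 (iv6 D12791) (iv5 D6047) (iv6 F9402) D12772
def n26721 : Q := act 3 n12774
theorem D26721 : act 3 n12774 = n26721 := rfl
theorem F42834 : act 5 n26721 = n16561 := d6_2 (iv5 F21208) D26721 F26219
theorem F42835 : act 7 n26721 = n16560 := d8_2 F21209 D26721 F26218
def n26722 : Q := act 6 n12774
theorem D26722 : act 6 n12774 = n26722 := rfl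
theorem F42836 : act 2 n26722 = n16630 := d3_1 D26722 (iv6 D16630) (iv2 F21207)
theorem F42837 : act 4 n26722 = n12775 := d10_1 D26722 (iv6 D12775) D12774
def n26723 : Q := act 0 n12775
theorem D26723 : act 0 n12775 = n26723 := rfl
def n26724 : Q := act 7 n12775
theorem D26724 : act 7 n12775 = n26724 := rfl
theorem F42838 : act 2 n26724 = n16633 := d4_1 D26724 (iv7 D16633) (iv2 F21210)
theorem F42839 : act 5 n26724 = n12794 := d13_1 D26724 (iv7 D12794) (iv5 F21211)
theorem F42840 : act 1 n16633 = n26723 := d15_0 (iv0 D26723) D26724 F42838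
theorem F42841 : act 1 n16632 = n26724 := d15_1 D16632 (iv7 D26724) F21210
theorem F42842 : act 1 n26724 = n16631 := d15_0 (iv0 D16631) D16633 (iv2 F42838)
def n26725 : Q := act 6 n12776
theorem D26725 : act 6 n12776 = n26725 := rfl
theorem F42843 : act 2 n26725 = n16634 := d3_1 D26725 (iv6 D16634) (iv2 F21212)
theorem F42844 : act 4 n26725 = n16564 := d10_1 D26725 (iv6 D16564) (iv4 F21213)
def n26726 : Q := act 5 n12779
theorem D26726 : act 5 n12779 = n26726 := rfl
theorem F42845 : act 0 n26726 = n26497 := d17_2 (iv1 F28364) D26726 (iv5 D26497) F21066 (iv5 F41920) F42538 (iv5 F25981) (iv0 F28343) (iv4 F28362)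
theorem F42846 : act 1 n26726 = n26499 := d17_6 (iv1 D2531) D2533 D6014 (iv5 F27027) D12779 D26726 (iv5 D26499) F21069 (iv4 D6008)
theorem F42847 : act 4 n26726 = n25703 := d18_5 (iv1 D12762) F9391 D6044 D12779 D26726 (iv0 D25703) (iv4 D12209) D12208 (iv5 F27035)
theorem E4895 : n26500 = n26185 := ((c21_5 F40421 (iv1 F32579) F41583 (iv6 D26194) (iv1 F41564) (iv6 D26500) D26499 (iv1 F42846) (iv5 D26726) F31854 (iv1 F40419))).symm
theorem F42848 : act 6 n26185 = n12654 := (sb E4895 (iv6 D26500))
def n26727 : Q := act 5 n12781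
theorem D26727 : act 5 n12781 = n26727 := rfl
theorem F42849 : act 6 n26727 = n26567 := d12_2 D12781 D26727 (iv5 D26567) (iv6 D12700) (iv5 F27027)
def n26728 : Q := act 0 n12790
theorem D26728 : act 0 n12790 = n26728 := rfl
theorem F42850 : act 5 n26728 = n18371 := d17_1 D26728 (iv1 F42519) (iv5 D26555) (iv4 D12694) (iv5 D6013) (iv0 F26640) (iv5 F21075) F27126 D12790
theorem F42851 : act 1 n16764 = n26728 := d15_0 (iv0 D26728) F21227 D16764
theorem F42852 : act 2 n16763 = n26728 := d2_3 F42850 (iv2 F42582) F42578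
theorem F42853 : act 7 n16762 = n26728 := d13_0 F42850 F42583 F42575
def n26729 : Q := act 1 n12790
theorem D26729 : act 1 n12790 = n26729 := rfl
theorem F42854 : act 1 n26729 = n16764 := d15_1 D26729 (iv7 F42443) F42442
theorem F42855 : act 7 n26729 = n16763 := d15_2 (iv0 D26728) D26729 F42852
theorem F42856 : act 5 n26729 = n18372 := d18_9 (iv1 D18372) D18373 F33892 F33890 (iv5 F42466) F42465 F27126 D12790 D26729
theorem F42857 : act 4 n13598 = n26729 := d20_6 F2621 D1636 (iv4 F5320) (iv3 F11558) F25733 (iv3 F22781) (iv1 D26729) (iv4 D12790) F9409 F4063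
theorem F42858 : act 2 n26729 = n16762 := d1_1 F42857 (iv4 F40586) F40584
def n26730 : Q := act 5 n12790
theorem D26730 : act 5 n12790 = n26730 := rfl
theorem F42859 : act 3 n26730 = n16768 := d6_1 D26730 F27540 (iv3 F21226)
theorem F42860 : act 7 n26730 = n16765 := d13_2 (iv7 F21227) D26730 (iv5 D16765)
theorem F42861 : act 0 n26730 = n26578 := d17_2 (iv1 D26729) D26730 (iv5 D26578) D26577 F42569 (iv0 D15350) D15354 F42433 F42857
theorem F42862 : act 1 n26730 = n26583 := d17_6 (iv1 F9343) F27018 (iv1 F26770) D6047 D12790 D26730 (iv5 D26583) F21099 F13556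
theorem F42863 : act 3 n16052 = n26583 := d19_19 (iv1 F42862) (iv5 D26730) (iv4 D12790) F9409 F4063 (iv5 D1507) (iv4 F1610) D1309 F2422 (iv5 D1034) F1219 F1218 (iv1 F1085) D718 D1197 D2562 D6070 F26854 D16052
theorem F42864 : act 5 n26581 = n16052 := d6_0 F42863 (iv5 D26583) D26581
theorem F42865 : act 7 n26583 = n18367 := d8_2 F28379 F42863 (iv3 F29543)
theorem E4896 : n18360 = n12707 := (c13_3 F42865 (iv5 D18367) F29540 D26583)
theorem E4897 : n26580 = n8650 := (((iv2 F42571)).symm.trans (sb E4896 (iv2 D18360)))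
theorem E4898 : n26575 = n8651 := ((F42568).symm.trans (sb E4896 (iv7 F29540)))
theorem F42866 : act 2 n8650 = n12707 := (sb E4897 F42571)
theorem E4899 : n18365 = n12706 := ((D18365).symm.trans (sb E4897 (iv7 D26580)))
theorem F42867 : act 7 n8651 = n12707 := (sb E4898 (iv7 F42568))
theorem F42868 : act 2 n12706 = n8651 := (sb E4899 F29541)
theorem F42869 : act 7 n12706 = n8650 := (sb E4899 (iv7 D18365))
theorem F42870 : act 2 n18367 = n26578 := d15_3 (iv0 F42861) F42862 F42865
theorem F42871 : act 2 n26583 = n18363 := d15_3 (iv0 F41892) (iv0 F29542) (iv7 F42865)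
theorem F42872 : act 7 n18363 = n26578 := d4_2 (iv7 F42865) F42871 (iv2 F42870)
theorem F42873 : act 7 n18361 = n26576 := d8_2 F42869 D18361 (iv3 D26576)
theorem F42874 : act 7 n18362 = n26577 := d11_2 F42869 D18362 (iv4 D26577)
theorem F42875 : act 7 n15350 = n26299 := d13_2 F42874 F42569 (iv5 F41890)
theorem F42876 : act 7 n15519 = n17428 := d8_2 F42875 (iv3 F41891) (iv3 F28420)
theorem E4900 : n26704 = n15240 := ((c11_2 F42875 F41888 (iv7 D26704) (iv4 F24927))).symm
theorem F42877 : act 2 n15240 = n12762 := (sb E4900 F42811)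
theorem E4901 : n25699 = n25692 := ((((iv5 F40612)).symm.trans (sb E4900 F42812))).symm
theorem F42878 : act 7 n15240 = n12761 := (sb E4900 (iv7 D26704))
theorem F42879 : act 2 n25692 = n12208 := (sb E4901 F40617)
theorem F42880 : act 7 n25692 = n12207 := (sb E4901 (iv7 D25699))
theorem F42881 : act 2 n26299 = n15278 := d15_3 F41897 F41896 F42875
theorem F42882 : act 2 n15350 = n16477 := d15_3 (iv0 F28343) F41889 (iv7 F42875)
theorem E4902 : n26701 = n15241 := ((c1_3 (iv4 F24927) F42882 F25982 (iv2 D26701))).symm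
theorem F42883 : act 2 n15241 = n12761 := (sb E4902 (iv2 D26701))
theorem E4903 : n25695 = n25691 := ((((iv5 F40610)).symm.trans (sb E4902 F42807))).symm
theorem F42884 : act 7 n15241 = n12762 := (sb E4902 (iv7 F42808))
theorem F42885 : act 2 n25691 = n12207 := (sb E4903 (iv2 D25695))
theorem F42886 : act 7 n25691 = n12208 := (sb E4903 (iv7 F40616))
theorem F42887 : act 2 n13644 = n26577 := d2_3 F42569 F42882 F25981
theorem F42888 : act 7 n16477 = n15278 := d4_2 (iv7 F42875) F42882 (iv2 F42881)
theorem E4904 : n15282 = n7640 := (c8_3 F42888 (iv3 D15278) D15282 D16477)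
theorem E4905 : n16476 = n7237 := ((D16476).symm.trans (sb E4904 F24872))
theorem E4906 : n16480 = n7236 := ((D16480).symm.trans (sb E4904 (iv7 D15282)))
theorem F42889 : act 2 n7237 = n7640 := (sb E4905 (iv2 D16476))
theorem E4907 : n13643 = n13639 := ((((iv5 F25820)).symm.trans (sb E4905 F25979))).symm
theorem E4908 : n15277 = n7641 := ((F24870).symm.trans (sb E4905 (iv7 F25980)))
theorem E4909 : n13648 = n13640 := ((((iv5 F25825)).symm.trans (sb E4906 F25992))).symm
theorem F42890 : act 7 n7236 = n7640 := (sb E4906 (iv7 D16480))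
theorem F42891 : act 2 n13639 = n6488 := (sb E4907 (iv2 D13643))
theorem F42892 : act 7 n13639 = n6489 := (sb E4907 (iv7 F22807))
theorem F42893 : act 2 n7641 = n7236 := (sb E4908 (iv2 D15277))
theorem F42894 : act 7 n7641 = n7237 := (sb E4908 (iv7 F24870))
theorem F42895 : act 2 n13640 = n6489 := (sb E4909 F22809)
theorem F42896 : act 7 n13640 = n6488 := (sb E4909 (iv7 D13648))
theorem F42897 : act 7 n26582 = n13644 := d13_2 F42888 (iv5 F42572) (iv5 F25981)
theorem F42898 : act 2 n18362 = n26582 := d4_3 F42897 F42887 (iv7 F42874)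
theorem F42899 : act 7 n15283 = n16481 := d8_2 F42894 D15283 (iv3 D16481)
theorem F42900 : act 7 n15284 = n16482 := d11_2 F42894 D15284 (iv4 D16482)
theorem E4910 : n16964 = n7246 := (c8_3 F42900 F25995 D16964 (iv3 F24873))
theorem E4911 : n15304 = n7921 := ((D15304).symm.trans (sb E4910 F27822))
theorem E4912 : n18993 = n11194 := ((((iv5 F30279)).symm.trans (sb E4910 (iv5 F30325)))).symm
theorem E4913 : n15308 = n7920 := ((D15308).symm.trans (sb E4910 (iv7 D16964)))
theorem F42901 : act 2 n7921 = n7246 := (sb E4911 (iv2 D15304))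
theorem E4914 : n23900 = n8898 := ((((iv5 F30276)).symm.trans (sb E4911 (iv5 F37306)))).symm
theorem E4915 : n16961 = n7247 := ((F27821).symm.trans (sb E4911 (iv7 F24891)))
theorem E4916 : n23904 = n8897 := ((D23904).symm.trans (sb E4912 (iv7 D18993)))
theorem F42902 : act 7 n7920 = n7246 := (sb E4913 (iv7 D15308))
theorem F42903 : act 2 n8898 = n11194 := (sb E4914 (iv2 D23900))
theorem E4917 : n18990 = n11195 := ((F30323).symm.trans (sb E4914 (iv7 F37307)))
theorem F42904 : act 2 n7247 = n7920 := (sb E4915 (iv2 D16961))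
theorem F42905 : act 7 n7247 = n7921 := (sb E4915 (iv7 F27821))
theorem F42906 : act 7 n8897 = n11194 := (sb E4916 (iv7 D23904))
theorem F42907 : act 2 n11195 = n8897 := (sb E4917 (iv2 D18990))
theorem F42908 : act 7 n11195 = n8898 := (sb E4917 (iv7 F30323))
theorem F42909 : act 7 n16275 = n23901 := d13_2 F42900 F25994 F37310
theorem F42910 : act 2 n16482 = n15279 := d15_3 (iv0 F25083) (iv0 F26703) F42900
theorem F42911 : act 2 n15284 = n16478 := d15_3 F26769 (iv0 F27734) (iv7 F42900)
theorem F42912 : act 2 n15332 = n16965 := d0_3 (iv3 F24873) F42911 F25990 (iv3 D16965) F42901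
theorem F42913 : act 2 n16270 = n23901 := d2_3 F37310 F42911 F25989
theorem F42914 : act 7 n16478 = n15279 := d4_2 (iv7 F42900) F42911 (iv2 F42910)
theorem F42915 : act 7 n26292 = n15332 := d8_2 F42914 F41866 (iv3 F25990)
theorem F42916 : act 2 n26292 = n15309 := d15_3 F40395 D15332 (iv7 F42915)
theorem F42917 : act 7 n15309 = n16965 := d4_2 (iv7 F42915) F42916 (iv2 F42912)
theorem F42918 : act 7 n18994 = n23905 := d13_2 F42917 (iv5 F30326) F37315
theorem E4918 : n16268 = n13168 := ((c1_3 D16270 F42913 F37311 (iv2 D16268))).symm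
theorem F42919 : act 2 n13168 = n7576 := (sb E4918 (iv2 D16268))
theorem F42920 : act 7 n13168 = n7577 := (sb E4918 (iv7 F25829))
theorem F42921 : act 1 n26260 = n16275 := d15_1 (iv0 F41703) F42909 (iv2 F42913)
theorem E4919 : n16273 = n13167 := (c15_4 (iv0 D13167) D13168 F42920 (iv2 F25830))
theorem F42922 : act 2 n13167 = n7577 := (sb E4919 F25830)
theorem F42923 : act 7 n13167 = n7576 := (sb E4919 (iv7 D16273))
theorem F42924 : act 7 n18995 = n23906 := d11_2 F42908 D18995 (iv4 D23906)
theorem F42925 : act 2 n18991 = n23906 := d1_3 (iv4 D23906) F42907 D18991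
theorem F42926 : act 2 n18992 = n23907 := d3_3 (iv6 D23907) F42907 D18992
theorem F42927 : act 7 n23902 = n18991 := d11_2 F42906 D23902 (iv4 D18991)
theorem F42928 : act 2 n18995 = n23902 := d4_3 F42927 F42925 (iv7 F42924)
theorem F42929 : act 7 n16966 = n15310 := d11_2 F42905 D16966 (iv4 D15310)
theorem F42930 : act 7 n25535 = n16912 := d8_2 F42929 (iv3 F40362) F27823
theorem F42931 : act 2 n15310 = n16962 := d15_3 (iv0 F28350) (iv0 F28348) F42929
theorem F42932 : act 2 n16966 = n15305 := d15_3 (iv0 F40396) (iv0 F40393) (iv7 F42929)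
theorem F42933 : act 7 n15305 = n16962 := d4_2 (iv7 F42929) F42932 (iv2 F42931)
theorem F42934 : act 2 n16912 = n25536 := d15_3 (iv0 F40365) F40363 F42930
theorem F42935 : act 2 n25535 = n16913 := d15_3 F40370 F40369 (iv7 F42930)
theorem F42936 : act 7 n16913 = n25536 := d4_2 (iv7 F42930) F42935 (iv2 F42934)
theorem F42937 : act 2 n16963 = n15312 := d3_3 (iv6 D15312) F42904 D16963
theorem F42938 : act 2 n23903 = n18996 := d3_3 (iv6 D18996) F42903 D23903
theorem F42939 : act 2 n15307 = n16968 := d3_3 (iv6 D16968) F42901 D15307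
theorem F42940 : act 2 n16481 = n15519 := d15_3 F27754 F27756 F42899
theorem F42941 : act 2 n15283 = n17428 := d4_1 (iv7 F42899) (iv7 F42876) (iv2 F42940)
theorem F42942 : act 2 n15281 = n16483 := d3_3 (iv6 D16483) F42893 D15281
theorem F42943 : act 2 n16479 = n15286 := d3_3 (iv6 D15286) F42889 D16479
theorem F42944 : act 2 n18368 = n26579 := d3_3 (iv6 D26579) F42868 D18368
theorem F42945 : act 7 n26581 = n18366 := d8_2 F42867 D26581 (iv3 D18366)
theorem F42946 : act 2 n26584 = n18364 := d3_3 (iv6 D18364) F42866 D26584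
def n26731 : Q := act 6 n12790
theorem D26731 : act 6 n12790 = n26731 := rfl
theorem F42947 : act 3 n26731 = n16773 := d7_1 D26731 (iv6 D16773) (iv3 F21226)
theorem F42948 : act 4 n26731 = n12791 := d10_1 D26731 (iv6 D12791) D12790
def n26732 : Q := act 0 n12791
theorem D26732 : act 0 n12791 = n26732 := rfl
def n26733 : Q := act 1 n12791
theorem D26733 : act 1 n12791 = n26733 := rfl
def n26734 : Q := act 7 n12791
theorem D26734 : act 7 n12791 = n26734 := rfl
theorem F42949 : act 3 n26734 = n12794 := d8_1 D26734 (iv7 D12794) (iv3 F21228)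
theorem F42950 : act 6 n26734 = n16795 := d14_1 D26734 (iv7 D16795) (iv6 D7841) (iv7 F9410) D12791
def n26735 : Q := act 2 n12792
theorem D26735 : act 2 n12792 = n26735 := rfl
theorem F42951 : act 4 n26735 = n17687 := d1_2 (iv4 F28962) D26735 (iv2 D17687)
theorem F42952 : act 7 n12793 = n26735 := d15_2 (iv0 D12792) D12793 (iv2 D26735)
theorem E4920 : n17693 = n12793 := (c11_4 F42952 F42951 (iv7 F28757) D17693)
theorem F42953 : act 4 n12793 = n8330 := (sb E4920 (iv4 D17693))
def n26736 : Q := act 3 n12792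
theorem D26736 : act 3 n12792 = n26736 := rfl
def n26737 : Q := act 5 n12792
theorem D26737 : act 5 n12792 = n26737 := rfl
def n26738 : Q := act 6 n12792
theorem D26738 : act 6 n12792 = n26738 := rfl
theorem F42954 : act 4 n26738 = n17678 := d10_1 D26738 F28746 (iv4 F28962)
theorem F42955 : act 5 n26738 = n13274 := d21_6 F4040 F2255 D2554 D6048 D12792 D26738 (iv1 D13274) (iv5 D6298) (iv6 D2640) (iv1 F4038)
def n26739 : Q := act 7 n12792
theorem D26739 : act 7 n12792 = n26739 := rfl
theorem F42957 : act 4 n26739 = n17691 := d11_1 D26739 (iv7 D17691) (iv4 F28962)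
def n26740 : Q := act 3 n12793
theorem D26740 : act 3 n12793 = n26740 := rfl
def n26741 : Q := act 5 n12793
theorem D26741 : act 5 n12793 = n26741 := rfl
def n26742 : Q := act 6 n12793
theorem D26742 : act 6 n12793 = n26742 := rfl
theorem F42958 : act 4 n26742 = n17695 := d10_1 D26742 (iv6 D17695) (iv4 F42953)
def n26743 : Q := act 6 n12795
theorem D26743 : act 6 n12795 = n26743 := rfl
theorem F42959 : act 2 n26743 = n12945 := d3_1 D26743 (iv6 D12945) F21238
theorem F42960 : act 3 n26743 = n16703 := d7_1 D26743 F27384 (iv3 F21237)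
theorem F42961 : act 4 n26743 = n12945 := d10_1 D26743 (iv6 D12945) (iv4 F21236)
theorem F42962 : act 7 n26743 = n13094 := d14_2 (iv7 F21240) D26743 (iv6 D13094) (iv7 F13106) F16987
theorem F42963 : act 0 n13196 = n26743 := d21_4 (iv5 F21542) (iv1 F27945) (iv5 D17043) (iv6 F21977) (iv6 D26743) (iv5 F28685) (iv1 F28688) (iv5 D13089) F9714 F9725
theorem F42964 : act 1 n13199 = n26743 := d15_0 (iv0 F42963) (iv7 F27985) F27983
def n26744 : Q := act 6 n12796
theorem D26744 : act 6 n12796 = n26744 := rfl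
theorem F42965 : act 3 n26744 = n21429 := d7_1 D26744 (iv6 D21429) (iv3 F21241)
theorem F42966 : act 4 n26744 = n13162 := d10_1 D26744 (iv6 D13162) (iv4 F21243)
def n26745 : Q := act 0 n12797
theorem D26745 : act 0 n12797 = n26745 := rfl
theorem F42967 : act 4 n26745 = n17169 := d20_2 (iv4 F21244) D26745 (iv3 D17169) (iv1 F12859) F5671 F2783 (iv1 F2234) D2578 D6119 (iv1 F17555)
theorem F42968 : act 3 n26745 = n17219 := d20_5 (iv4 F14630) (iv1 F30732) (iv4 F30741) F30740 D26745 F28166 (iv1 F28302) F28299 F28298 (iv1 F27356)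
theorem F42969 : act 2 n17169 = n26745 := d15_3 (iv0 D26745) F28316 (iv7 F28120)
theorem F42970 : act 1 n17228 = n26745 := d15_0 (iv0 D26745) (iv7 F28306) (iv2 F28311)
theorem F42971 : act 7 n26745 = n17229 := d15_2 D17228 F42970 (iv2 D17229)
theorem F42972 : act 6 n26745 = n13114 := d3_2 (iv6 F28119) F42969 F21884
def n26746 : Q := act 5 n12797
theorem D26746 : act 5 n12797 = n26746 := rfl
theorem F42973 : act 3 n26746 = n21167 := d6_1 D26746 F33410 F30740
theorem F42974 : act 1 n26746 = n17236 := d17_6 (iv1 D6274) D6275 F21245 (iv5 D12798) (iv4 F21244) D26746 F28191 (iv0 F27387) (iv4 D13199)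
def n26747 : Q := act 4 n12798
theorem D26747 : act 4 n12798 = n26747 := rfl
def n26748 : Q := act 5 n12799
theorem D26748 : act 5 n12799 = n26748 := rfl
theorem F42975 : act 3 n26748 = n12802 := d6_1 D26748 (iv5 D12802) (iv3 F21246)
def n26749 : Q := act 6 n12800
theorem D26749 : act 6 n12800 = n26749 := rfl
theorem F42976 : act 3 n26749 = n17078 := d7_1 D26749 (iv6 D17078) (iv3 F21247)
theorem F42977 : act 4 n26749 = n13166 := d10_1 D26749 (iv6 D13166) (iv4 F21248)
def n26750 : Q := act 5 n12801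
theorem D26750 : act 5 n12801 = n26750 := rfl
theorem F42978 : act 3 n26750 = n17079 := d6_1 D26750 (iv5 D17079) (iv3 F21249)
theorem F42979 : act 0 n26750 = n17231 := d21_1 D26750 (iv5 D17231) F21701 (iv1 F28316) (iv6 D12797) D12796 (iv1 F21836) (iv5 D13093) D13094 F21840
def n26751 : Q := act 4 n12802
theorem D26751 : act 4 n12802 = n26751 := rfl
def n26752 : Q := act 3 n12803
theorem D26752 : act 3 n12803 = n26752 := rfl
theorem F42980 : act 4 n26752 = n16731 := d5_2 D12803 D26752 (iv3 D16731) (iv4 D7818) (iv3 F9417)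
def n26753 : Q := act 5 n12803
theorem D26753 : act 5 n12803 = n26753 := rfl
theorem F42981 : act 2 n26753 = n12813 := d2_1 D26753 (iv5 D12813) (iv2 F21251)
theorem F42982 : act 4 n26753 = n17051 := d16_2 D12803 D26753 (iv5 D17051) (iv4 D7978) (iv5 D3612) F2761 D3612 F5644 (iv2 F9416)
def n26754 : Q := act 6 n12803
theorem D26754 : act 6 n12803 = n26754 := rfl
theorem F42983 : act 2 n26754 = n12814 := d3_1 D26754 (iv6 D12814) (iv2 F21251)
theorem F42984 : act 4 n26754 = n12804 := d10_1 D26754 (iv6 D12804) D12803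
def n26755 : Q := act 0 n12804
theorem D26755 : act 0 n12804 = n26755 := rfl
def n26756 : Q := act 1 n12804
theorem D26756 : act 1 n12804 = n26756 := rfl
theorem F42985 : act 1 n26756 = n12817 := d15_1 D26756 (iv7 D12817) (iv2 F21252)
def n26757 : Q := act 7 n12804
theorem D26757 : act 7 n12804 = n26757 := rfl
theorem F42986 : act 2 n26757 = n12817 := d4_1 D26757 (iv7 D12817) (iv2 F21252)
theorem F42987 : act 3 n26757 = n16736 := d8_1 D26757 (iv7 D16736) (iv3 F21253)
theorem F42988 : act 5 n26757 = n13137 := d13_1 D26757 (iv7 D13137) (iv5 F21254)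
theorem F42989 : act 1 n12817 = n26755 := d15_0 (iv0 D26755) D26757 F42986
theorem F42990 : act 1 n12816 = n26757 := d15_1 D12816 (iv7 D26757) F21252
theorem F42991 : act 1 n26757 = n12815 := d15_0 (iv0 D12815) D12817 (iv2 F42986)
def n26758 : Q := act 1 n12805
theorem D26758 : act 1 n12805 = n26758 := rfl
theorem F42992 : act 1 n26758 = n12808 := d15_1 D26758 F21264 (iv2 F21255)
theorem F42993 : act 7 n26758 = n13101 := d15_2 F28693 D26758 (iv2 F28690)
theorem F42994 : act 4 n26758 = n13095 := d18_7 D6231 F9723 F9730 F9729 (iv5 F14017) D12805 D26758 (iv0 D13095) (iv5 D6232)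
theorem F42995 : act 2 n13100 = n26758 := d1_3 F42994 (iv2 F21842) (iv4 F21862)
def n26759 : Q := act 3 n12805
theorem D26759 : act 3 n12805 = n26759 := rfl
theorem F42996 : act 4 n26759 = n19214 := d5_2 D12805 D26759 (iv3 D19214) (iv4 D9032) (iv3 F14016)
theorem F42997 : act 7 n26759 = n13102 := d8_2 (iv7 F21256) D26759 (iv3 D13102)
def n26760 : Q := act 5 n12805
theorem D26760 : act 5 n12805 = n26760 := rfl
theorem F42998 : act 2 n26760 = n13117 := d2_1 D26760 (iv5 D13117) (iv2 F21255)
theorem F42999 : act 7 n26760 = n13103 := d13_2 (iv7 F21256) D26760 (iv5 D13103)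
def n26761 : Q := act 6 n12805
theorem D26761 : act 6 n12805 = n26761 := rfl
theorem F43000 : act 2 n26761 = n13118 := d3_1 D26761 (iv6 D13118) (iv2 F21255)
theorem F43001 : act 4 n26761 = n12806 := d10_1 D26761 (iv6 D12806) D12805
def n26762 : Q := act 0 n12806
theorem D26762 : act 0 n12806 = n26762 := rfl
def n26763 : Q := act 1 n12806
theorem D26763 : act 1 n12806 = n26763 := rfl
theorem F43002 : act 1 n26763 = n13122 := d15_1 D26763 (iv7 D13122) (iv2 F21257)
def n26764 : Q := act 5 n12806
theorem D26764 : act 5 n12806 = n26764 := rfl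
theorem F43003 : act 2 n26764 = n13121 := d2_1 D26764 (iv5 D13121) (iv2 F21257)
theorem F43004 : act 3 n26764 = n19218 := d6_1 D26764 (iv5 D19218) (iv3 F21258)
theorem F43005 : act 6 n26764 = n13108 := d12_2 D12806 D26764 (iv5 D13108) (iv6 D6239) (iv5 F14017)
def n26765 : Q := act 7 n12806
theorem D26765 : act 7 n12806 = n26765 := rfl
theorem F43006 : act 2 n26765 = n13122 := d4_1 D26765 (iv7 D13122) (iv2 F21257)
theorem F43007 : act 3 n26765 = n19219 := d8_1 D26765 (iv7 D19219) (iv3 F21258)
theorem F43008 : act 6 n26765 = n13107 := d14_1 D26765 (iv7 D13107) (iv6 D6237) (iv7 F14018) D12806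
theorem F43009 : act 1 n13122 = n26762 := d15_0 (iv0 D26762) D26765 F43006
theorem F43010 : act 1 n13120 = n26765 := d15_1 D13120 (iv7 D26765) F21257
def n26766 : Q := act 6 n12807
theorem D26766 : act 6 n12807 = n26766 := rfl
theorem F43012 : act 2 n26766 = n19160 := d3_1 D26766 (iv6 D19160) (iv2 F21259)
theorem F43013 : act 3 n26766 = n12809 := d7_1 D26766 (iv6 D12809) D12807
def n26767 : Q := act 3 n12808
theorem D26767 : act 3 n12808 = n26767 := rfl
theorem F43015 : act 7 n26767 = n13116 := d8_2 (iv7 F21264) D26767 (iv3 D13116)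
def n26768 : Q := act 5 n12808
theorem D26768 : act 5 n12808 = n26768 := rfl
theorem F43016 : act 2 n26768 = n13103 := d2_1 D26768 (iv5 D13103) (iv2 F21263)
theorem F43017 : act 7 n26768 = n13117 := d13_2 (iv7 F21264) D26768 (iv5 D13117)
def n26769 : Q := act 6 n12808
theorem D26769 : act 6 n12808 = n26769 := rfl
theorem F43018 : act 2 n26769 = n13104 := d3_1 D26769 (iv6 D13104) (iv2 F21263)
theorem F43019 : act 4 n26769 = n12809 := d10_1 D26769 (iv6 D12809) D12808
def n26770 : Q := act 0 n12809
theorem D26770 : act 0 n12809 = n26770 := rfl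
def n26771 : Q := act 1 n12809
theorem D26771 : act 1 n12809 = n26771 := rfl
theorem F43020 : act 1 n26771 = n13107 := d15_1 D26771 (iv7 D13107) (iv2 F21265)
def n26772 : Q := act 7 n12809
theorem D26772 : act 7 n12809 = n26772 := rfl
theorem F43021 : act 2 n26772 = n13107 := d4_1 D26772 (iv7 D13107) (iv2 F21265)
theorem F43022 : act 5 n26772 = n26772 := d13_1 D26772 (iv7 D26772) F21266
theorem F43023 : act 6 n26772 = n13122 := d14_1 D26772 (iv7 D13122) (iv6 D6245) (iv7 F14014) D12809
theorem F43024 : act 1 n13107 = n26770 := d15_0 (iv0 D26770) D26772 F43021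
theorem F43025 : act 1 n13106 = n26772 := d15_1 D13106 (iv7 D26772) F21265
theorem F43026 : act 1 n26772 = n13105 := d15_0 (iv0 D13105) D13107 (iv2 F43021)
def n26773 : Q := act 3 n12810
theorem D26773 : act 3 n12810 = n26773 := rfl
def n26774 : Q := act 5 n12810
theorem D26774 : act 5 n12810 = n26774 := rfl
theorem F43027 : act 2 n26774 = n13173 := d2_1 D26774 F21954 F21877
theorem F43028 : act 7 n26774 = n13172 := d13_2 F21855 D26774 F21952
theorem F43029 : act 4 n26774 = n26768 := d16_2 (iv4 F21854) D26774 (iv5 D26768) (iv4 D12808) F14013 D6228 D13089 F21818 (iv2 F21850)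
theorem F43030 : act 0 n26774 = n13133 := d17_2 D12810 D26774 (iv5 D13133) (iv4 D6251) (iv5 D2628) (iv0 F6461) (iv5 F14017) (iv0 D6059) D6061
theorem F43031 : act 1 n26774 = n13176 := d17_6 F27955 F21542 F9730 (iv5 F21852) (iv4 F21854) D26774 F21963 F21905 (iv4 F27956)
def n26775 : Q := act 6 n12810
theorem D26775 : act 6 n12810 = n26775 := rfl
def n26776 : Q := act 3 n12811
theorem D26776 : act 3 n12811 = n26776 := rfl
def n26777 : Q := act 5 n12811
theorem D26777 : act 5 n12811 = n26777 := rfl
theorem F43032 : act 2 n26777 = n13172 := d2_1 D26777 F21952 F21846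
theorem F43033 : act 4 n26777 = n26760 := d9_1 D26777 (iv5 D26760) (iv4 D12805) F14017 (iv4 F9729) (iv5 F21852) (iv4 F21854) D26774 F43029 (iv5 D26768) (iv4 D12808) F14013 D6228 D13089 F21820
theorem F43034 : act 7 n26777 = n13173 := d13_2 F21878 D26777 F21954
theorem F43035 : act 0 n26777 = n13176 := d17_2 F27966 D26777 F21963 F9759 F4224 (iv0 F6466) (iv5 F14013) F12735 D17048
theorem F43036 : act 1 n26777 = n13133 := d17_6 (iv1 F28141) F28139 (iv1 F13108) D13089 F21820 D26777 (iv5 D13133) D13131 (iv4 F27946)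
def n26778 : Q := act 6 n12811
theorem D26778 : act 6 n12811 = n26778 := rfl
def n26779 : Q := act 0 n12812
theorem D26779 : act 0 n12812 = n26779 := rfl
theorem F43037 : act 4 n26779 = n13604 := d18_3 F25724 (iv4 F21267) D26779 (iv5 D13604) (iv4 D6477) (iv0 D2884) F2425 D1510 D3440
theorem F43038 : act 1 n16147 = n26779 := d15_0 (iv0 D26779) F21268 F25736
theorem F43039 : act 5 n16278 = n26779 := d17_3 (iv1 D7577) D7578 D16278 F43037 (iv5 D13604) (iv0 F25426) (iv5 F41701) F42921 (iv4 D16275)
def n26780 : Q := act 1 n12812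
theorem D26780 : act 1 n12812 = n26780 := rfl
def n26781 : Q := act 2 n12812
theorem D26781 : act 2 n12812 = n26781 := rfl
theorem F43040 : act 4 n26781 = n12820 := d1_2 (iv4 F21267) D26781 (iv2 D12820)
theorem F43041 : act 7 n26781 = n16147 := d4_2 (iv7 F21268) D26781 (iv2 F25736)
theorem F43042 : act 1 n26781 = n16657 := d15_0 (iv0 D16657) (iv7 F21268) D26781
theorem F43043 : act 1 n26780 = n16147 := d15_1 D26780 (iv7 F43041) (iv2 D26781)
theorem F43044 : act 5 n16279 = n26780 := d17_7 (iv1 F11780) (iv5 D3440) (iv1 D1510) D1512 D3447 D7578 D16279 F43043 (iv4 D16147)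
theorem F43045 : act 4 n13623 = n26780 := d18_5 D3431 (iv4 F10550) (iv1 F10552) D6482 D13623 F43043 (iv4 D16147) (iv0 D7538) (iv5 D3435)
theorem E4921 : n16875 = n15318 := ((c20_5 F2619 (iv1 F2816) (iv4 F5324) (iv3 F11565) D15318 F27635 F43045 (iv1 D26780) F21267 (iv3 D6063) F4072)).symm
theorem F43046 : act 2 n15318 = n11191 := (sb E4921 F37270)
theorem F43047 : act 3 n15318 = n13623 := (sb E4921 F27635)
theorem F43048 : act 5 n15318 = n7865 := (sb E4921 (iv5 D16875))
theorem F43049 : act 7 n15318 = n11186 := (sb E4921 (iv7 F37269))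
theorem E4922 : n16880 = n15319 := (c15_4 F25196 F25194 F43049 (iv2 F37237))
theorem F43050 : act 2 n15319 = n11186 := (sb E4922 F37237)
theorem F43051 : act 5 n15319 = n7866 := (sb E4922 (iv5 D16880))
theorem F43052 : act 7 n15319 = n11191 := (sb E4922 F37238)
theorem F43053 : act 0 n26488 = n15317 := d17_2 F21061 D26488 (iv5 D15317) (iv4 D7249) D7250 D15319 F43051 F12436 (iv4 F18078)
theorem F43054 : act 1 n16658 = n26781 := d15_1 D16658 F43041 (iv2 F25736)
theorem F43055 : act 4 n23869 = n16658 := d18_5 F11798 (iv4 F4482) F37245 F37244 D23869 F43054 F43040 F25745 F11779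
theorem F43056 : act 2 n16658 = n26779 := d1_1 F43055 F43037 (iv2 F37267)
theorem F43057 : act 7 n16658 = n26780 := d11_2 F37268 F43055 (iv4 F43045)
theorem F43058 : act 0 n16659 = n16271 := d17_2 (iv1 D16658) D16659 (iv5 D16271) D16270 (iv5 F25989) F26769 F26833 (iv0 F37214) F43055
theorem E4923 : n15701 = n11186 := (c20_5 F4022 (iv1 F2777) (iv4 F5385) D7381 D15701 (iv3 F37213) F43055 (iv1 D16658) (iv4 D7751) F5524 (iv1 F4025))
theorem E4924 : n23877 = n15314 := ((D23877).symm.trans (sb E4923 (iv1 F25190)))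
theorem E4925 : n23878 = n7381 := ((D23878).symm.trans (sb E4923 (iv0 D15701)))
theorem E4926 : n15702 = n11191 := (((iv1 F25195)).symm.trans (sb E4924 (iv1 F37283)))
theorem F43059 : act 1 n15314 = n11186 := (sb E4924 (iv0 D23877))
theorem F43060 : act 0 n7381 = n11186 := (sb E4925 (iv1 D23878))
theorem F43061 : act 0 n11191 = n7381 := (sb E4926 (iv1 D15702))
theorem F43062 : act 1 n11191 = n15314 := (sb E4926 F25195)
theorem F43063 : act 1 n16919 = n23774 := d17_6 (iv1 F12437) D11191 F43061 F11678 (iv4 F12499) D16919 (iv5 D23774) F27609 F27606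
theorem F43064 : act 1 n23771 = n16919 := d15_0 F43063 (iv7 F42386) F42385
theorem F43065 : act 0 n15957 = n26486 := d17_2 (iv1 F27251) (iv5 F35190) (iv5 D26486) F26666 D23771 F43064 (iv5 D16919) D16917 (iv4 F27726)
theorem F43066 : act 1 n15957 = n26494 := d15_1 (iv0 F43065) (iv7 D26494) (iv2 F42380)
theorem F43067 : act 2 n26780 = n16657 := d15_3 (iv0 D16657) D16658 F43057
theorem F43068 : act 7 n26779 = n16657 := d4_2 (iv7 F43057) F43056 (iv2 F43067)
def n26782 : Q := act 5 n12812
theorem D26782 : act 5 n12812 = n26782 := rfl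
theorem F43069 : act 3 n26782 = n12813 := d6_1 D26782 (iv5 D12813) D12812
theorem F43070 : act 7 n26782 = n16659 := d13_2 (iv7 F21268) D26782 (iv5 D16659)
def n26783 : Q := act 6 n12812
theorem D26783 : act 6 n12812 = n26783 := rfl
theorem F43071 : act 3 n26783 = n12814 := d7_1 D26783 (iv6 D12814) D12812
theorem F43072 : act 4 n26783 = n12821 := d10_1 D26783 (iv6 D12821) (iv4 F21267)
def n26784 : Q := act 4 n12813
theorem D26784 : act 4 n12813 = n26784 := rfl
theorem F43073 : act 2 n26784 = n17051 := d1_1 D26784 (iv4 F42982) F42981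
theorem F43074 : act 7 n26784 = n26753 := d11_2 F27976 D26784 F42982
theorem F43075 : act 5 n26784 = n17048 := d16_3 D6061 D12813 D26784 (iv4 D17048) (iv5 D7974) F5638 D7974 F12734 F9416
theorem F43076 : act 0 n26784 = n13165 := d17_0 (iv5 D13165) (iv1 D6264) D6266 D13174 F21956 F21811 D13161 F21938 D26784
theorem F43077 : act 1 n26784 = n13161 := d18_8 (iv1 F21811) (iv4 D13086) (iv1 F9703) D6260 D13153 (iv4 F21937) F21938 D26784 (iv5 D13161)
def n26785 : Q := act 6 n12813
theorem D26785 : act 6 n12813 = n26785 := rfl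
def n26786 : Q := act 0 n12814
theorem D26786 : act 0 n12814 = n26786 := rfl
def n26787 : Q := act 1 n12814
theorem D26787 : act 1 n12814 = n26787 := rfl
def n26788 : Q := act 5 n12814
theorem D26788 : act 5 n12814 = n26788 := rfl
def n26789 : Q := act 7 n12814
theorem D26789 : act 7 n12814 = n26789 := rfl
theorem F43078 : act 4 n26789 = n12817 := d11_1 D26789 (iv7 D12817) (iv4 F21269)
def n26790 : Q := act 2 n12815
theorem D26790 : act 2 n12815 = n26790 := rfl
theorem F43079 : act 7 n12816 = n26790 := d15_2 (iv0 D12815) D12816 (iv2 D26790)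
def n26791 : Q := act 3 n12815
theorem D26791 : act 3 n12815 = n26791 := rfl
def n26792 : Q := act 4 n12815
theorem D26792 : act 4 n12815 = n26792 := rfl
def n26793 : Q := act 5 n12815
theorem D26793 : act 5 n12815 = n26793 := rfl
def n26794 : Q := act 6 n12815
theorem D26794 : act 6 n12815 = n26794 := rfl
def n26795 : Q := act 7 n12815
theorem D26795 : act 7 n12815 = n26795 := rfl
theorem F43080 : act 2 n26795 = n12816 := d4_1 D26795 F43079 (iv2 D26790)
def n26796 : Q := act 3 n12816
theorem D26796 : act 3 n12816 = n26796 := rfl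
def n26797 : Q := act 4 n12816
theorem D26797 : act 4 n12816 = n26797 := rfl
def n26798 : Q := act 5 n12816
theorem D26798 : act 5 n12816 = n26798 := rfl
def n26799 : Q := act 6 n12816
theorem D26799 : act 6 n12816 = n26799 := rfl
def n26800 : Q := act 6 n12820
theorem D26800 : act 6 n12820 = n26800 := rfl
theorem F43081 : act 2 n26800 = n12821 := d3_1 D26800 (iv6 D12821) D12820
theorem F43082 : act 3 n26800 = n16791 := d7_1 D26800 (iv6 D16791) (iv3 F21273)
def n26801 : Q := act 0 n12821
theorem D26801 : act 0 n12821 = n26801 := rfl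
def n26802 : Q := act 1 n12821
theorem D26802 : act 1 n12821 = n26802 := rfl
def n26803 : Q := act 5 n12821
theorem D26803 : act 5 n12821 = n26803 := rfl
theorem F43083 : act 3 n26803 = n12824 := d6_1 D26803 (iv5 D12824) (iv3 F21279)
theorem F43084 : act 6 n26803 = n16666 := d12_2 D12821 D26803 (iv5 D16666) (iv6 D7753) (iv5 F9420)
def n26804 : Q := act 7 n12821
theorem D26804 : act 7 n12821 = n26804 := rfl
theorem F43085 : act 3 n26804 = n12825 := d8_1 D26804 (iv7 D12825) (iv3 F21279)
theorem F43086 : act 6 n26804 = n16663 := d14_1 D26804 (iv7 D16663) (iv6 D7752) (iv7 F9421) D12821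
def n26805 : Q := act 2 n12822
theorem D26805 : act 2 n12822 = n26805 := rfl
theorem F43088 : act 7 n12823 = n26805 := d15_2 (iv0 D12822) D12823 (iv2 D26805)
def n26806 : Q := act 3 n12822
theorem D26806 : act 3 n12822 = n26806 := rfl
def n26807 : Q := act 5 n12822
theorem D26807 : act 5 n12822 = n26807 := rfl
def n26808 : Q := act 7 n12822
theorem D26808 : act 7 n12822 = n26808 := rfl
theorem F43090 : act 4 n26808 = n17675 := d11_1 D26808 (iv7 D17675) (iv4 F29955)
def n26809 : Q := act 3 n12823
theorem D26809 : act 3 n12823 = n26809 := rfl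
def n26810 : Q := act 5 n12823
theorem D26810 : act 5 n12823 = n26810 := rfl
def n26811 : Q := act 6 n12823
theorem D26811 : act 6 n12823 = n26811 := rfl
theorem F43091 : act 4 n26811 = n17679 := d10_1 D26811 (iv6 D17679) (iv4 F29959)
def n26812 : Q := act 0 n12824
theorem D26812 : act 0 n12824 = n26812 := rfl
theorem F43092 : act 2 n16805 = n26812 := d15_3 (iv0 D26812) (iv0 F29952) (iv7 F30427)
theorem F43093 : act 7 n26812 = n16806 := d4_2 (iv7 F30427) F43092 (iv2 F30422)
theorem F43094 : act 1 n16808 = n26812 := d15_1 (iv0 F29954) F43093 (iv2 F30422)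
def n26813 : Q := act 4 n12824
theorem D26813 : act 4 n12824 = n26813 := rfl
theorem F43095 : act 2 n26813 = n16807 := d1_1 D26813 (iv4 D16807) (iv2 F21281)
theorem F43096 : act 6 n26813 = n16682 := d10_2 (iv6 F21282) D26813 (iv4 D16682)
theorem F43097 : act 5 n26813 = n18714 := d16_1 D26813 F29967 F13649 F5859 (iv5 F5583) (iv4 F12398) (iv5 F27565) (iv7 D16808) (iv2 F21281)
theorem F43098 : act 7 n18713 = n26813 := d13_0 F43097 (iv7 D18714) D18713
def n26814 : Q := act 7 n12824
theorem D26814 : act 7 n12824 = n26814 := rfl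
theorem F43099 : act 2 n26814 = n16808 := d4_1 D26814 (iv7 D16808) (iv2 F21281)
theorem F43100 : act 4 n26814 = n18713 := d11_1 D26814 F43098 (iv4 D26813)
theorem F43101 : act 5 n26814 = n12825 := d13_1 D26814 (iv7 D12825) D12824
theorem F43102 : act 1 n16806 = n26814 := d15_1 D16806 (iv7 D26814) F21281
theorem F43103 : act 1 n26814 = n16805 := d15_1 F43102 F30427 F30422
def n26817 : Q := act 3 n12826
theorem D26817 : act 3 n12826 = n26817 := rfl
theorem F43106 : act 7 n26817 = n12832 := d8_2 F21289 D26817 (iv3 D12832)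
def n26818 : Q := act 4 n12826
theorem D26818 : act 4 n12826 = n26818 := rfl
theorem F43107 : act 2 n26818 = n12828 := d1_1 D26818 (iv4 D12828) D12826
theorem F43108 : act 7 n26818 = n12833 := d11_2 F21289 D26818 (iv4 D12833)
def n26819 : Q := act 5 n12826
theorem D26819 : act 5 n12826 = n26819 := rfl
theorem F43109 : act 2 n26819 = n12829 := d2_1 D26819 (iv5 D12829) D12826
theorem F43110 : act 7 n26819 = n12834 := d13_2 F21289 D26819 (iv5 D12834)
def n26820 : Q := act 6 n12826
theorem D26820 : act 6 n12826 = n26820 := rfl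
theorem F43111 : act 2 n26820 = n12830 := d3_1 D26820 (iv6 D12830) D12826
theorem F43112 : act 5 n18855 = n26820 := d2_0 F43111 F21290 (iv2 F30100)
theorem F43113 : act 7 n26820 = n17981 := d13_2 D18855 F43112 F29148
def n26821 : Q := act 0 n12827
theorem D26821 : act 0 n12827 = n26821 := rfl
def n26822 : Q := act 1 n12827
theorem D26822 : act 1 n12827 = n26822 := rfl
def n26823 : Q := act 2 n12827
theorem D26823 : act 2 n12827 = n26823 := rfl
def n26824 : Q := act 4 n12827
theorem D26824 : act 4 n12827 = n26824 := rfl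
def n26825 : Q := act 5 n12827
theorem D26825 : act 5 n12827 = n26825 := rfl
theorem F43114 : act 3 n26825 = n12829 := d6_1 D26825 (iv5 D12829) D12827
def n26826 : Q := act 6 n12827
theorem D26826 : act 6 n12827 = n26826 := rfl
theorem F43115 : act 3 n26826 = n12830 := d7_1 D26826 (iv6 D12830) D12827
theorem F43116 : act 5 n18856 = n26826 := d6_0 F43115 F21290 D18856
def n26827 : Q := act 7 n12827
theorem D26827 : act 7 n12827 = n26827 := rfl
def n26828 : Q := act 3 n12828
theorem D26828 : act 3 n12828 = n26828 := rfl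
def n26829 : Q := act 5 n12828
theorem D26829 : act 5 n12828 = n26829 := rfl
def n26830 : Q := act 6 n12828
theorem D26830 : act 6 n12828 = n26830 := rfl
theorem F43118 : act 4 n26830 = n12830 := d10_1 D26830 (iv6 D12830) D12828
theorem F43119 : act 5 n26830 = n13576 := d21_6 (iv5 D2504) (iv1 F2758) (iv5 F5384) D7382 (iv1 F30449) D26830 (iv1 D13576) F10529 (iv6 D2889) (iv1 F3963)
theorem E4927 : n13667 = n3930 := (c17_10 (iv1 F9818) D13295 F22101 (iv5 F21290) (iv4 F43118) F43119 F37199 F37197 F18171 D13667)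
theorem E4928 : n8819 = n6494 := ((D8819).symm.trans (sb E4927 (iv4 D13667)))
theorem E4929 : n18827 = n11200 := ((((iv1 F18171)).symm.trans (sb E4928 D18827))).symm
theorem E4931 : n18817 = n13665 := (((D13665).symm.trans (sb E4928 (iv2 F30075)))).symm
theorem F43120 : act 4 n6494 = n3930 := (sb E4928 (iv4 D8819))
theorem E4934 : n18831 = n13669 := (((D13669).symm.trans (sb E4928 D18831))).symm
theorem E4935 : n18832 = n13670 := (((D13670).symm.trans (sb E4928 D18832))).symm
theorem E4936 : n8824 = n6495 := ((((iv1 F18170)).symm.trans (sb E4929 (iv1 F30087)))).symm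
theorem F43121 : act 4 n13665 = n8817 := (sb E4931 (iv4 D18817))
theorem F43122 : act 4 n13669 = n8821 := (sb E4934 F30084)
theorem F43123 : act 4 n13670 = n8822 := (sb E4935 F30086)
theorem E4938 : n13672 = n3931 := ((D13672).symm.trans (sb E4936 (iv4 D8824)))
theorem E4940 : n18847 = n13674 := (((D13674).symm.trans (sb E4936 D18847))).symm
theorem F43124 : act 4 n3931 = n6495 := (sb E4938 (iv4 D13672))
theorem F43125 : act 4 n13674 = n8826 := (sb E4940 F30096)
theorem F43126 : act 1 n17266 = n18857 := d18_6 (iv1 F9817) F43124 (iv1 D6495) (iv4 F5673) D8095 D17266 (iv4 D18857) (iv0 F22101) (iv5 D13295)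
theorem F43127 : act 4 n13576 = n26239 := d18_1 (iv1 F37199) (iv1 D26239) F20711 F9170 F4044 D3931 F43124 F18170 (iv5 F37197)
theorem E4941 : n17063 = n15322 := (c17_10 (iv1 F25189) (iv5 F38270) (iv1 F38272) (iv5 F38104) F43122 F28005 F28004 (iv5 D16851) (iv0 F12753) D17063)
theorem F43128 : act 4 n15322 = n7983 := (sb E4941 (iv4 D17063))
theorem F43129 : act 6 n15322 = n16846 := (sb E4941 F27999)
theorem F43130 : act 4 n26238 = n13575 := d18_7 D6494 F43120 (iv1 F9818) F9815 (iv5 F11535) (iv4 F24826) F41658 (iv0 D13575) F10529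
def n26831 : Q := act 7 n12828
theorem D26831 : act 7 n12828 = n26831 := rfl
theorem F43131 : act 2 n26831 = n12833 := d4_1 D26831 (iv7 F43108) F43107
def n26832 : Q := act 4 n12829
theorem D26832 : act 4 n12829 = n26832 := rfl
theorem F43133 : act 5 n26832 = n19011 := d17_5 (iv1 D2642) (iv5 F4075) D6065 D12829 D26832 (iv0 D19011) (iv5 D8903) F30437 (iv4 D6306)
theorem F43134 : act 1 n26832 = n15719 := d18_6 (iv1 D8015) (iv4 F11681) (iv1 F30449) (iv4 D12828) D12829 D26832 F30455 F30482 F28051
def n26833 : Q := act 6 n12829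
theorem D26833 : act 6 n12829 = n26833 := rfl
theorem F43135 : act 5 n26833 = n18858 := d12_1 D26833 (iv6 D18858) (iv5 F21290) (iv6 D12830) D12829
theorem F43136 : act 0 n26833 = n13066 := d21_4 (iv5 F4075) D6065 D12829 D26833 (iv6 D13066) (iv5 F13688) F13689 F13671 (iv6 D6307) (iv1 D2642)
theorem E4942 : n18858 = n18602 := (c21_7 (iv5 F29265) (iv1 F29269) (iv5 D8536) D8537 F29270 D26833 F43135 (iv1 D18602) (iv5 D8735) D8736 (iv1 F30002))
theorem F43137 : act 5 n18602 = n26833 := (sb E4942 (iv5 F43135))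
theorem F43138 : act 6 n18602 = n8828 := (sb E4942 (iv6 D18858))
theorem F43139 : act 0 n17972 = n26833 := d21_1 F29890 (iv5 F43137) F43138 (iv1 D8828) F5865 (iv5 D1699) D1697 D3934 (iv6 F9789) D13244
theorem F43140 : act 2 n16831 = n26833 := d15_3 (iv0 F43139) F29887 F28003
theorem E4943 : n26819 = n7849 := (c3_4 D16831 F43140 (iv6 D26833) (iv2 F43109))
theorem E4944 : n16813 = n12829 := (((iv2 F27571)).symm.trans (sb E4943 F43109))
theorem E4945 : n12826 = n3559 := ((((iv5 D7849)).symm.trans (sb E4943 (iv5 D26819)))).symm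
theorem E4946 : n16832 = n12834 := ((D16832).symm.trans (sb E4943 F43110))
theorem F43141 : act 2 n12829 = n7849 := (sb E4944 F27571)
theorem E4947 : n7846 = n6065 := ((((iv5 D12829)).symm.trans (sb E4944 (iv5 D16813)))).symm
theorem F43142 : act 7 n12829 = n7854 := (sb E4944 F27572)
theorem E4950 : n26817 = n7847 := (((D7847).symm.trans (sb E4945 D26817))).symm
theorem E4951 : n26818 = n7848 := (((D7848).symm.trans (sb E4945 D26818))).symm
theorem E4952 : n26820 = n7850 := (((D7850).symm.trans (sb E4945 D26820))).symm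
theorem E4953 : n7851 = n6066 := ((D7851).symm.trans (sb E4945 (iv7 F21289)))
theorem F43143 : act 2 n12834 = n7854 := (sb E4946 F27585)
theorem E4954 : n17061 = n7857 := (((F21292).symm.trans (sb E4946 (iv6 F27996)))).symm
theorem F43144 : act 7 n12834 = n7849 := (sb E4946 (iv7 D16832))
theorem F43145 : act 2 n6065 = n3559 := (sb E4947 (iv2 D7846))
theorem E4957 : n16811 = n12827 := (((D12827).symm.trans (sb E4947 D16811))).symm
theorem E4958 : n16812 = n12828 := (((D12828).symm.trans (sb E4947 D16812))).symm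
theorem E4959 : n16814 = n12830 := (((D12830).symm.trans (sb E4947 D16814))).symm
theorem E4960 : n12831 = n3560 := ((D12831).symm.trans (sb E4947 (iv7 F12399)))
theorem E4961 : n16821 = n12832 := ((D16821).symm.trans (sb E4950 F43106))
theorem E4962 : n16827 = n12833 := ((D16827).symm.trans (sb E4951 F43108))
theorem E4963 : n18855 = n13307 := (((F22107).symm.trans (sb E4952 (iv5 F43112)))).symm
theorem E4964 : n17981 = n16835 := (((D16835).symm.trans (sb E4952 F43113))).symm
theorem E4965 : n16836 = n12835 := (((D12835).symm.trans (sb E4953 D16836))).symm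
theorem F43146 : act 7 n6066 = n3559 := (sb E4953 (iv7 D7851))
theorem E4966 : n16852 = n7983 := ((D16852).symm.trans (sb E4954 (iv2 D17061)))
theorem E4967 : n16856 = n7984 := ((D16856).symm.trans (sb E4954 (iv7 F27997)))
theorem E4968 : n26827 = n7852 := ((D26827).symm.trans (sb E4957 F27568))
theorem F43147 : act 2 n12828 = n7848 := (sb E4958 F27569)
theorem E4969 : n26831 = n7853 := ((D26831).symm.trans (sb E4958 F27570))
theorem F43148 : act 2 n12830 = n7850 := (sb E4959 F27573)
theorem F43149 : act 2 n3560 = n6066 := (sb E4960 F21291)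
theorem F43150 : act 7 n3560 = n6065 := (sb E4960 (iv7 D12831))
theorem F43151 : act 7 n12832 = n7847 := (sb E4961 (iv7 D16821))
theorem F43152 : act 7 n12833 = n7848 := (sb E4962 (iv7 D16827))
theorem F43153 : act 2 n13307 = n8828 := (sb E4963 F30100)
theorem F43154 : act 7 n13307 = n8827 := (sb E4963 (iv7 D18855))
theorem F43155 : act 1 n16835 = n8475 := (sb E4964 (iv0 D17981))
theorem F43156 : act 5 n16835 = n8827 := (sb E4964 F29148)
theorem F43157 : act 2 n12835 = n7855 := (sb E4965 F27588)
theorem F43158 : act 2 n7983 = n7857 := (sb E4966 (iv2 D16852))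
theorem E4970 : n17065 = n7858 := ((D17065).symm.trans (sb E4966 (iv7 F27596)))
theorem F43159 : act 7 n7984 = n7857 := (sb E4967 (iv7 D16856))
theorem F43160 : act 7 n7852 = n12827 := (sb E4968 (iv7 D26827))
theorem F43161 : act 2 n7853 = n12833 := (sb E4969 F43131)
theorem F43162 : act 7 n7853 = n12828 := (sb E4969 (iv7 D26831))
theorem F43163 : act 2 n7858 = n7984 := (sb E4970 F28002)
theorem E4971 : n17971 = n16860 := (((D16860).symm.trans (sb E4970 (iv6 F29142)))).symm
theorem F43164 : act 7 n7858 = n7983 := (sb E4970 (iv7 D17065))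
theorem F43165 : act 0 n16860 = n18620 := (sb E4971 (iv1 F29845))
theorem F43166 : act 1 n16860 = n8470 := (sb E4971 (iv0 D17971))
theorem F43167 : act 2 n16860 = n17069 := (sb E4971 (iv2 F29141))
theorem F43168 : act 7 n26833 = n16860 := d4_2 F28003 F43140 F43167
theorem F43169 : act 7 n17062 = n16857 := d8_2 F43164 D17062 (iv3 D16857)
theorem F43170 : act 7 n15322 = n16858 := d11_2 F43164 (iv4 F43128) (iv4 D16858)
theorem F43171 : act 7 n17064 = n16859 := d13_2 F43164 D17064 (iv5 D16859)
theorem F43172 : act 2 n16859 = n17068 := d15_3 (iv0 F29892) (iv0 F29724) F43171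
theorem F43173 : act 2 n16858 = n15323 := d15_3 F25188 F25189 F43170
theorem E4972 : n17067 = n15323 := ((c1_2 D16858 F43173 (iv4 D17067) (iv2 F43163))).symm
theorem F43174 : act 4 n15323 = n7984 := (sb E4972 (iv4 D17067))
theorem F43175 : act 7 n15698 = n15323 := d11_0 F43174 F43159 (iv4 F38268)
theorem F43176 : act 2 n15322 = n15698 := d4_3 F43175 (iv2 F43173) (iv7 F43170)
theorem E4973 : n16858 = n15699 := (c15_4 F25183 F25187 F43175 (iv2 F43173))
theorem F43177 : act 2 n15699 = n15323 := (sb E4973 F43173)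
theorem F43178 : act 4 n15699 = n7858 := (sb E4973 (iv4 D16858))
theorem F43179 : act 7 n15699 = n15322 := (sb E4973 (iv7 F43170))
theorem F43180 : act 7 n26828 = n16843 := d8_2 F43162 D26828 (iv3 D16843)
theorem F43181 : act 7 n26829 = n16844 := d13_2 F43162 D26829 (iv5 D16844)
theorem F43182 : act 7 n26823 = n16839 := d4_2 F43160 D26823 (iv2 D16839)
theorem F43183 : act 7 n26824 = n16840 := d11_2 F43160 D26824 (iv4 D16840)
theorem F43184 : act 7 n26825 = n16841 := d13_2 F43160 D26825 (iv5 D16841)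
theorem F43185 : act 1 n26823 = n16837 := d15_0 (iv0 D16837) F43160 D26823
theorem F43186 : act 1 n16839 = n26821 := d15_0 (iv0 D26821) (iv7 F43160) D16839
theorem F43187 : act 1 n16838 = n26823 := d15_1 D16838 F43182 (iv2 D16839)
theorem F43188 : act 1 n26822 = n16839 := d15_1 D26822 (iv7 F43182) (iv2 D26823)
theorem F43189 : act 7 n16853 = n17066 := d8_2 F43159 D16853 (iv3 D17066)
theorem F43190 : act 7 n16855 = n17068 := d13_2 F43159 D16855 (iv5 D17068)
theorem F43191 : act 2 n17064 = n16855 := d4_3 F43190 (iv2 F43172) (iv7 F43171)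
theorem E4974 : n18091 = n16850 := (c15_2 F30019 D18091 (iv7 D16850) (iv2 F43157))
theorem F43192 : act 0 n16850 = n8532 := (sb E4974 (iv1 D18091))
theorem F43193 : act 1 n16850 = n18550 := (sb E4974 F29735)
theorem E4975 : n18851 = n13306 := (c15_4 (iv0 D13306) D13307 F43154 D18851)
theorem F43194 : act 2 n13306 = n8827 := (sb E4975 (iv2 D18851))
theorem F43195 : act 7 n13306 = n8828 := (sb E4975 (iv7 F30099))
theorem F43196 : act 2 n16826 = n26830 := d1_3 F43118 F43148 (iv4 F27578)
theorem F43197 : act 2 n13576 = n23859 := d2_3 (iv5 F37194) F43196 F43119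
theorem F43198 : act 2 n15222 = n26239 := d1_3 (iv4 F43127) F43197 (iv4 F37328)
theorem F43199 : act 7 n23858 = n13576 := d15_2 F37193 F37198 F43197
theorem F43200 : act 7 n13575 = n23859 := d15_2 F37199 F37200 (iv2 F43197)
theorem F43201 : act 2 n23858 = n13575 := d4_3 F43200 (iv2 F43197) (iv7 F43199)
theorem F43202 : act 7 n15222 = n26238 := d11_2 F43200 (iv4 F37328) F43130
theorem F43203 : act 2 n26238 = n15221 := d15_3 (iv0 D15221) D15222 F43202
theorem F43204 : act 7 n26239 = n15221 := d4_2 (iv7 F43202) F43198 (iv2 F43203)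
theorem F43205 : act 2 n16825 = n26829 := d2_3 (iv5 D26829) F43147 D16825
theorem F43206 : act 3 n16817 = n26823 := d0_4 (iv3 D12827) F43145 D7847 D16817 (iv2 D26823)
theorem F43207 : act 7 n16846 = n26832 := d11_2 F43142 D16846 (iv4 D26832)
theorem F43208 : act 2 n16830 = n26832 := d1_3 (iv4 D26832) F43141 D16830
theorem F43209 : act 1 n16830 = n17832 := d15_0 (iv0 F30438) F43207 (iv2 F43208)
theorem E4976 : n17834 = n17678 := (c18_9 (iv1 D8324) (iv4 F11560) F30054 (iv4 D7848) D7849 D16830 F43209 F28996 D17834 (iv5 D17678))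
theorem F43210 : act 0 n17678 = n8405 := (sb E4976 (iv1 D17834))
theorem F43211 : act 1 n15992 = n26738 := d17_8 F43210 F28941 (iv1 F30376) (iv5 D8913) (iv4 F28977) D8769 F29951 (iv5 F29946) F42954
def n26834 : Q := act 1 n12830
theorem D26834 : act 1 n12830 = n26834 := rfl
theorem F43212 : act 1 n26834 = n16835 := d15_1 D26834 (iv7 D16835) (iv2 F43148)
theorem F43213 : act 7 n26834 = n13070 := d15_2 (iv0 F29271) D26834 F29848
theorem F43214 : act 6 n17972 = n26834 := d21_3 D6290 D13244 F29890 (iv1 D26834) (iv6 D12830) D12829 F30014 (iv5 D18767) F29784 (iv1 D6289)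
theorem F43215 : act 2 n26834 = n16834 := d3_1 F43214 (iv6 F29843) F29842
def n26835 : Q := act 7 n12830
theorem D26835 : act 7 n12830 = n26835 := rfl
theorem F43216 : act 2 n26835 = n16835 := d4_1 D26835 (iv7 D16835) (iv2 F43148)
theorem F43217 : act 5 n26835 = n13306 := d13_1 D26835 F43195 (iv5 F21290)
theorem F43218 : act 6 n26835 = n16850 := d14_1 D26835 (iv7 D16850) (iv6 D7855) F43150 D12830
theorem F43219 : act 1 n16834 = n26835 := d15_1 D16834 (iv7 D26835) F43148
theorem F43220 : act 1 n26835 = n13070 := d15_1 F43219 (iv7 F43213) F43215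
theorem F43221 : act 0 n26470 = n15228 := d17_0 (iv5 D15228) (iv1 F20717) F20714 F9358 D8816 F22105 (iv5 F43217) F43220 (iv4 F42329)
def n26836 : Q := act 0 n12832
theorem D26836 : act 0 n12832 = n26836 := rfl
theorem F43222 : act 1 n16817 = n26836 := d15_0 (iv0 D26836) F43151 D16817
def n26837 : Q := act 1 n12832
theorem D26837 : act 1 n12832 = n26837 := rfl
def n26838 : Q := act 2 n12832
theorem D26838 : act 2 n12832 = n26838 := rfl
theorem F43223 : act 3 n26838 = n16839 := d0_2 D12832 D26838 (iv2 D16839) (iv3 D7852) F43149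
theorem F43224 : act 7 n26838 = n16817 := d4_2 (iv7 F43151) D26838 (iv2 D16817)
theorem F43225 : act 1 n26838 = n16815 := d15_0 (iv0 D16815) (iv7 F43151) D26838
theorem F43226 : act 1 n26837 = n16817 := d15_1 D26837 (iv7 F43224) (iv2 D26838)
theorem F43227 : act 1 n16816 = n26838 := d15_1 D16816 F43224 (iv2 D16817)
def n26839 : Q := act 4 n12832
theorem D26839 : act 4 n12832 = n26839 := rfl
theorem F43228 : act 7 n26839 = n16818 := d11_2 (iv7 F43151) D26839 (iv4 D16818)
def n26840 : Q := act 5 n12832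
theorem D26840 : act 5 n12832 = n26840 := rfl
theorem F43229 : act 3 n26840 = n12834 := d6_1 D26840 (iv5 D12834) D12832
theorem F43230 : act 7 n26840 = n16819 := d13_2 (iv7 F43151) D26840 (iv5 D16819)
theorem F43231 : act 6 n16853 = n26840 := d7_0 F43229 F21292 D16853
def n26841 : Q := act 6 n12832
theorem D26841 : act 6 n12832 = n26841 := rfl
theorem F43232 : act 3 n26841 = n12835 := d7_1 D26841 (iv6 D12835) D12832
def n26842 : Q := act 3 n12833
theorem D26842 : act 3 n12833 = n26842 := rfl
theorem F43233 : act 7 n26842 = n16824 := d8_2 (iv7 F43152) D26842 (iv3 D16824)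
def n26843 : Q := act 5 n12833
theorem D26843 : act 5 n12833 = n26843 := rfl
theorem F43234 : act 2 n26843 = n16844 := d2_1 D26843 (iv5 D16844) F43161
theorem F43235 : act 7 n26843 = n16825 := d13_2 (iv7 F43152) D26843 (iv5 D16825)
def n26844 : Q := act 6 n12833
theorem D26844 : act 6 n12833 = n26844 := rfl
theorem F43236 : act 2 n26844 = n16845 := d3_1 D26844 (iv6 D16845) F43161
theorem F43237 : act 4 n26844 = n12835 := d10_1 D26844 (iv6 D12835) D12833
def n26845 : Q := act 4 n12834
theorem D26845 : act 4 n12834 = n26845 := rfl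
theorem F43238 : act 2 n26845 = n16846 := d1_1 D26845 (iv4 D16846) (iv2 F43143)
theorem F43239 : act 6 n26845 = n15698 := d10_2 (iv6 F21292) D26845 F38268
theorem F43240 : act 7 n26845 = n16830 := d11_2 (iv7 F43144) D26845 (iv4 D16830)
theorem F43241 : act 0 n26845 = n15719 := d17_0 (iv5 F30060) (iv1 F29989) (iv5 D8810) (iv4 D3926) D3927 F13675 F13669 (iv0 F30016) D26845
theorem F43242 : act 5 n26845 = n19012 := d21_6 (iv5 D2510) (iv1 F2668) (iv5 F5377) D7380 D15698 (iv6 F43239) (iv1 D19012) (iv5 D8903) (iv6 D3969) (iv1 F3979)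
theorem F43243 : act 0 n19013 = n18703 := d18_2 (iv1 D19012) D19013 (iv4 D18703) D18704 F29965 (iv0 F30456) (iv4 F30455) (iv0 F43241) F43242
def n26846 : Q := act 5 n12835
theorem D26846 : act 5 n12835 = n26846 := rfl
theorem F43244 : act 2 n26846 = n16849 := d2_1 D26846 (iv5 D16849) (iv2 F43157)
theorem F43245 : act 6 n26846 = n16855 := d12_2 D12835 D26846 (iv5 D16855) (iv6 F21292) (iv5 D12834)
theorem F43246 : act 0 n13216 = n26846 := d21_10 (iv5 D26846) F30018 (iv5 D18550) F13638 (iv1 F29833) F43138 (iv5 F21290) F29271 D17983 F29149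
theorem F43247 : act 1 n13220 = n26846 := d15_0 (iv0 F43246) F29871 (iv2 F29877)
theorem F43248 : act 7 n18526 = n26846 := d15_2 (iv0 F27593) D18526 F43244
def n26847 : Q := act 7 n12835
theorem D26847 : act 7 n12835 = n26847 := rfl
theorem F43249 : act 2 n26847 = n16850 := d4_1 D26847 (iv7 D16850) (iv2 F43157)
theorem F43250 : act 5 n26847 = n18526 := d13_1 D26847 F43248 (iv5 D26846)
theorem F43251 : act 6 n26847 = n16835 := d14_1 D26847 (iv7 D16835) (iv6 D7850) (iv7 F43146) D12835
theorem F43252 : act 1 n13075 = n26847 := d15_1 (iv0 F29760) (iv7 D26847) F43157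
theorem F43253 : act 1 n26847 = n16847 := d15_1 F43252 F29759 (iv2 F29752)
def n26848 : Q := act 0 n12839
theorem D26848 : act 0 n12839 = n26848 := rfl
theorem F43254 : act 4 n26848 = n15309 := d20_2 D12839 D26848 (iv3 D15309) (iv1 D7247) (iv3 D3334) F2588 (iv1 D1196) D1197 D2562 D6070
theorem F43255 : act 1 n12844 = n26848 := d15_0 (iv0 D26848) (iv7 F26885) (iv2 F26886)
theorem F43256 : act 2 n17408 = n26848 := d1_3 F43254 (iv2 F42916) F41867
theorem F43257 : act 7 n17407 = n26848 := d11_0 F43254 F42917 (iv4 F28375)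
def n26849 : Q := act 1 n12839
theorem D26849 : act 1 n12839 = n26849 := rfl
theorem F43258 : act 1 n26849 = n12844 := d15_1 D26849 F26713 F26711
theorem F43259 : act 7 n26849 = n17408 := d15_2 (iv0 D26848) D26849 F43256
theorem F43260 : act 4 n15332 = n26849 := d20_0 (iv1 D26849) (iv4 D12839) F26398 F10655 (iv3 F5699) (iv4 F12918) D17395 F28362 F28341 (iv1 F28340)
theorem F43261 : act 3 n15241 = n26849 := d20_3 F28362 F28343 F25982 (iv1 D26849) F26471 (iv4 D7361) F10054 (iv4 F5697) (iv3 F12917) D17395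
theorem F43262 : act 2 n26849 = n17407 := d1_1 F43260 F28375 (iv2 F42912)
def n26850 : Q := act 5 n12839
theorem D26850 : act 5 n12839 = n26850 := rfl
theorem F43263 : act 2 n26850 = n17412 := d2_1 D26850 (iv5 D17412) F26711
theorem F43264 : act 3 n26850 = n15639 := d6_1 D26850 (iv5 D15639) (iv3 F26471)
theorem F43265 : act 7 n26850 = n17409 := d13_2 F26885 D26850 (iv5 D17409)
theorem F43266 : act 1 n26850 = n25681 := d17_6 (iv1 D3421) D3424 D7503 (iv5 F26854) D12839 D26850 (iv5 D25681) F37280 (iv4 D7493)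
def n26851 : Q := act 5 n12844
theorem D26851 : act 5 n12844 = n26851 := rfl
theorem F43267 : act 2 n26851 = n17409 := d2_1 D26851 (iv5 D17409) (iv2 F26886)
theorem F43268 : act 3 n26851 = n15943 := d6_1 D26851 F35196 F21465
theorem F43269 : act 7 n26851 = n17412 := d13_2 (iv7 F26713) D26851 (iv5 D17412)
theorem F43270 : act 1 n25681 = n26851 := d15_1 F43266 F43269 (iv2 F43263)
def n26852 : Q := act 6 n12844
theorem D26852 : act 6 n12844 = n26852 := rfl
theorem F43271 : act 2 n26852 = n14065 := d3_1 D26852 (iv6 F26888) (iv2 F26886)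
theorem F43272 : act 4 n26852 = n12846 := d10_1 D26852 (iv6 D12846) D12844
def n26853 : Q := act 5 n12846
theorem D26853 : act 5 n12846 = n26853 := rfl
theorem F43273 : act 2 n26853 = n14082 := d2_1 D26853 (iv5 D14082) (iv2 F26732)
theorem F43274 : act 7 n26853 = n26530 := d13_2 (iv7 F26734) D26853 F42472
theorem F43275 : act 0 n26853 = n24284 := d21_7 F4032 D3911 (iv5 F25983) (iv6 F26653) (iv1 F9442) D12846 D26853 (iv5 D24284) F26671 (iv1 F26614)
theorem F43276 : act 0 n26532 = n26853 := d21_7 (iv5 F9348) (iv1 F26949) (iv5 D12584) (iv6 F26802) D26369 (iv6 F42075) (iv5 F42476) (iv5 D26853) (iv6 D12846) (iv1 D6071)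
def n26854 : Q := act 5 n12847
theorem D26854 : act 5 n12847 = n26854 := rfl
theorem F43277 : act 2 n26854 = n12850 := d2_1 D26854 (iv5 D12850) (iv2 F21299)
theorem F43278 : act 3 n26854 = n17001 := d6_1 D26854 (iv5 D17001) (iv3 F21300)
theorem F43279 : act 7 n26854 = n26727 := d13_2 (iv7 F26777) D26854 (iv5 D26727)
theorem F43280 : act 0 n17017 = n26854 := d19_0 (iv5 D26854) F32459 F32457 (iv1 F32400) F32402 F15180 (iv3 F16198) (iv1 F16200) (iv5 D4738) (iv4 F5785) (iv3 D3781) (iv1 D1653) D1655 D3787 (iv3 F11705) D15812 (iv5 F26748) F24982 D17017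
def n26855 : Q := act 4 n12849
theorem D26855 : act 4 n12849 = n26855 := rfl
theorem F43281 : act 2 n26855 = n15441 := d1_1 D26855 F24988 (iv2 F27044)
def n26856 : Q := act 5 n12849
theorem D26856 : act 5 n12849 = n26856 := rfl
theorem F43282 : act 2 n26856 = n15447 := d2_1 D26856 (iv5 D15447) (iv2 F27044)
theorem F43283 : act 0 n26856 = n26198 := d17_2 (iv1 F26779) D26856 (iv5 D26198) (iv4 F41581) (iv5 F41583) F32579 (iv5 F40421) F40419 F31853
def n26857 : Q := act 6 n12849
theorem D26857 : act 6 n12849 = n26857 := rfl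
theorem F43284 : act 2 n26857 = n14899 := d3_1 D26857 F24542 (iv2 F27044)
theorem F43285 : act 5 n26857 = n26551 := d21_6 D2533 D6014 (iv5 F27027) D12781 (iv1 F26779) D26857 (iv1 D26551) (iv5 D12682) (iv6 D6010) (iv1 D2531)
theorem F43286 : act 2 n26551 = n16098 := d2_1 F43285 F25603 (iv2 F43284)
def n26858 : Q := act 0 n12850
theorem D26858 : act 0 n12850 = n26858 := rfl
theorem F43287 : act 3 n26858 = n12853 := d20_5 D15433 F24980 (iv4 D12854) (iv3 F21301) D26858 (iv4 F41829) (iv1 D26279) (iv4 D12485) (iv3 F20773) F26337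
theorem F43288 : act 5 n26858 = n13867 := d21_8 (iv5 F42476) F43276 (iv5 D26853) (iv6 D12846) (iv1 D6071) D6073 D12850 D26858 (iv6 D13867) (iv1 F26991)
theorem F43289 : act 7 n17017 = n26858 := d13_0 F43288 (iv7 F41414) F41412
theorem F43290 : act 0 n26858 = n26727 := d21_1 (iv5 F43288) (iv5 D26727) (iv6 D12781) (iv1 F11549) D15262 (iv5 F41437) (iv1 D15113) (iv5 D7183) D7184 (iv1 F26909)
def n26859 : Q := act 1 n12850
theorem D26859 : act 1 n12850 = n26859 := rfl
theorem F43291 : act 1 n26859 = n26727 := d15_1 D26859 (iv7 F43279) F43277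
theorem F43292 : act 5 n15117 = n26859 := d21_0 (iv1 D26859) (iv5 D12850) (iv6 D6073) D6070 (iv6 F26473) (iv5 F24705) (iv1 F41573) F41571 D26192 (iv1 F41577)
theorem F43293 : act 2 n26859 = n17017 := d2_1 F43292 (iv5 F41412) F41579
def n26860 : Q := act 4 n12850
theorem D26860 : act 4 n12850 = n26860 := rfl
def n26861 : Q := act 7 n12850
theorem D26861 : act 7 n12850 = n26861 := rfl
theorem F43294 : act 2 n26861 = n26727 := d4_1 D26861 (iv7 F43279) F43277
theorem F43295 : act 3 n26861 = n12855 := d8_1 D26861 (iv7 D12855) (iv3 F21301)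
theorem F43296 : act 5 n26861 = n12851 := d13_1 D26861 (iv7 D12851) D12850
theorem F43297 : act 1 n17017 = n26861 := d15_1 (iv0 F43280) (iv7 D26861) (iv2 F43277)
theorem F43298 : act 6 n18647 = n26861 := d12_0 F43296 F26622 F25987 D8755 D18647
def n26862 : Q := act 3 n12852
theorem D26862 : act 3 n12852 = n26862 := rfl
theorem F43299 : act 4 n26862 = n25696 := d5_2 F41821 D26862 (iv3 D25696) D25697 F41823
theorem F43300 : act 5 n26862 = n15056 := d6_2 (iv5 F21304) D26862 (iv3 D15056)
theorem F43301 : act 7 n26862 = n17019 := d8_2 F21306 D26862 (iv3 D17019)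
def n26863 : Q := act 6 n12852
theorem D26863 : act 6 n12852 = n26863 := rfl
theorem F43302 : act 2 n26863 = n17018 := d3_1 D26863 (iv6 D17018) F21305
def n26864 : Q := act 6 n12853
theorem D26864 : act 6 n12853 = n26864 := rfl
theorem F43303 : act 2 n26864 = n17020 := d3_1 D26864 (iv6 D17020) F21311
theorem F43304 : act 5 n26864 = n13870 := d12_1 D26864 (iv6 D13870) (iv5 D6595) D6596 (iv5 F21310)
def n26865 : Q := act 3 n12854
theorem D26865 : act 3 n12854 = n26865 := rfl
def n26866 : Q := act 5 n12854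
theorem D26866 : act 5 n12854 = n26866 := rfl
theorem F43305 : act 2 n26866 = n17024 := d2_1 D26866 (iv5 D17024) (iv2 F21312)
theorem F43306 : act 4 n26866 = n12943 := d9_1 D26866 F21505 F9542 F4143 (iv4 F5630) (iv5 F12577) (iv4 F27890) F27891 (iv4 D8173) (iv5 D3679) F2801 (iv5 F2215) (iv4 F4081) D6076 D12854
theorem F43307 : act 7 n26866 = n12942 := d16_8 (iv4 D8173) (iv5 D3679) F2801 (iv5 F2215) (iv4 F4081) D6076 D12854 D26866 F21503
theorem F43308 : act 0 n26866 = n17420 := d17_2 F24980 D26866 (iv5 F28398) (iv4 D15418) (iv5 D7278) (iv0 D3342) D3344 D7284 D15433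
theorem F43309 : act 1 n26866 = n17419 := d17_6 (iv1 F20812) (iv5 D12491) F10657 D6076 D12854 D26866 F28391 (iv0 F41529) (iv4 D26177)
def n26867 : Q := act 7 n12854
theorem D26867 : act 7 n12854 = n26867 := rfl
theorem F43310 : act 2 n26867 = n17025 := d4_1 D26867 (iv7 D17025) (iv2 F21312)
theorem F43311 : act 4 n26867 = n12855 := d11_1 D26867 (iv7 D12855) D12854
theorem F43312 : act 5 n26867 = n12942 := d13_1 D26867 (iv7 F43307) (iv5 D26866)
theorem F43313 : act 1 n17022 = n26867 := d15_1 D17022 (iv7 D26867) F21312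
theorem F43314 : act 1 n26867 = n17021 := d15_1 F43313 (iv7 F27880) F27884
def n26868 : Q := act 6 n12855
theorem D26868 : act 6 n12855 = n26868 := rfl
theorem F43315 : act 2 n26868 = n17026 := d3_1 D26868 (iv6 D17026) (iv2 F21313)
theorem F43316 : act 3 n26868 = n18647 := d7_1 D26868 F43298 F43295
theorem F43317 : act 5 n26868 = n17422 := d12_1 D26868 (iv6 D17422) F12930 (iv6 F9449) (iv5 F21314)
def n26869 : Q := act 6 n12857
theorem D26869 : act 6 n12857 = n26869 := rfl
theorem F43318 : act 2 n26869 = n16947 := d3_1 D26869 (iv6 D16947) (iv2 F21323)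
theorem F43319 : act 4 n26869 = n12859 := d10_1 D26869 (iv6 D12859) D12857
def n26870 : Q := act 3 n12862
theorem D26870 : act 3 n12862 = n26870 := rfl
theorem F43320 : act 4 n26870 = n17162 := d5_2 D12862 D26870 (iv3 D17162) (iv4 D8050) (iv3 F9473)
theorem F43321 : act 7 n26870 = n17451 := d8_2 (iv7 F21342) D26870 (iv3 D17451)
def n26871 : Q := act 5 n12862
theorem D26871 : act 5 n12862 = n26871 := rfl
theorem F43322 : act 2 n26871 = n12873 := d2_1 D26871 (iv5 D12873) (iv2 F21341)
theorem F43323 : act 4 n26871 = n12959 := d9_1 D26871 (iv5 D12959) (iv4 D6155) (iv5 D2591) F2258 D1624 D3704 D8224 (iv4 F28109) (iv5 D17163) (iv4 D8050) (iv5 D3638) (iv4 F4094) D6100 D12862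
theorem F43325 : act 0 n26871 = n17482 := d17_2 (iv1 F21344) D26871 F28476 F21617 F13466 (iv0 F13893) D19047 F30560 F21631
theorem F43326 : act 1 n26871 = n17481 := d17_6 (iv1 F13416) (iv5 D3693) (iv1 F4096) D6100 D12862 D26871 F28475 (iv0 D12992) (iv4 D6175)
def n26872 : Q := act 6 n12862
theorem D26872 : act 6 n12862 = n26872 := rfl
theorem F43327 : act 2 n26872 = n12874 := d3_1 D26872 (iv6 D12874) (iv2 F21341)
theorem F43328 : act 4 n26872 = n12863 := d10_1 D26872 (iv6 D12863) D12862
def n26873 : Q := act 0 n12863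
theorem D26873 : act 0 n12863 = n26873 := rfl
def n26874 : Q := act 1 n12863
theorem D26874 : act 1 n12863 = n26874 := rfl
theorem F43329 : act 1 n26874 = n12878 := d15_1 D26874 (iv7 D12878) (iv2 F21345)
def n26875 : Q := act 5 n12863
theorem D26875 : act 5 n12863 = n26875 := rfl
theorem F43330 : act 2 n26875 = n12877 := d2_1 D26875 (iv5 D12877) (iv2 F21345)
theorem F43331 : act 3 n26875 = n17167 := d6_1 D26875 (iv5 D17167) (iv3 F21346)
theorem F43332 : act 6 n26875 = n12865 := d12_2 D12863 D26875 (iv5 D12865) (iv6 D6101) D6100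
def n26876 : Q := act 7 n12863
theorem D26876 : act 7 n12863 = n26876 := rfl
theorem F43333 : act 2 n26876 = n12878 := d4_1 D26876 (iv7 D12878) (iv2 F21345)
theorem F43334 : act 3 n26876 = n17168 := d8_1 D26876 (iv7 D17168) (iv3 F21346)
theorem F43335 : act 6 n26876 = n17456 := d14_1 D26876 (iv7 D17456) (iv6 D8207) (iv7 F9474) D12863
theorem F43336 : act 1 n12878 = n26873 := d15_0 (iv0 D26873) D26876 F43333
theorem F43337 : act 1 n12876 = n26876 := d15_1 D12876 (iv7 D26876) F21345
theorem F43338 : act 1 n26876 = n12875 := d15_0 (iv0 D12875) D12878 (iv2 F43333)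
def n26877 : Q := act 4 n12864
theorem D26877 : act 4 n12864 = n26877 := rfl
theorem F43339 : act 2 n26877 = n12881 := d1_1 D26877 (iv4 D12881) F21349
theorem F43340 : act 3 n26877 = n19123 := d5_1 D26877 (iv4 D19123) (iv3 D8972) D8973 F21350
theorem F43341 : act 6 n26877 = n26877 := d10_2 F21351 D26877 (iv4 D26877)
theorem F43342 : act 7 n26877 = n12879 := d11_2 (iv7 F21348) D26877 (iv4 D12879)
theorem F43343 : act 0 n26877 = n17431 := d20_1 D26877 F28432 F27951 F21439 (iv3 D3662) (iv4 D1609) F2243 (iv4 F4116) (iv3 F9485) (iv1 F21347)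
theorem F43344 : act 0 n17374 = n26877 := d20_10 (iv4 D26877) (iv1 D12864) F9479 (iv3 F9478) F16911 (iv3 F17595) (iv4 F27424) (iv1 F27432) F17543 D17374
def n26878 : Q := act 4 n12865
theorem D26878 : act 4 n12865 = n26878 := rfl
theorem F43345 : act 2 n26878 = n12883 := d1_1 D26878 (iv4 D12883) (iv2 F21354)
def n26879 : Q := act 1 n12867
theorem D26879 : act 1 n12867 = n26879 := rfl
theorem F43346 : act 1 n26879 = n12869 := d15_1 D26879 F21368 (iv2 F21363)
theorem F43347 : act 7 n26879 = n17460 := d15_2 F21932 D26879 (iv2 F28462)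
theorem F43348 : act 4 n26879 = n19047 := d18_7 F9630 (iv4 F6430) F9598 (iv4 D6167) (iv5 F13446) D12867 D26879 F30560 (iv5 D13008)
theorem F43349 : act 2 n17459 = n26879 := d1_3 F43348 F30556 (iv4 F28457)
def n26880 : Q := act 3 n12867
theorem D26880 : act 3 n12867 = n26880 := rfl
theorem F43350 : act 4 n26880 = n21470 := d5_2 D12867 D26880 (iv3 D21470) (iv4 D10248) (iv3 F13445)
theorem F43351 : act 7 n26880 = n17461 := d8_2 (iv7 F21364) D26880 (iv3 D17461)
theorem F43352 : act 0 n26880 = n23909 := d19_4 D2596 (iv5 F13446) D12867 D26880 (iv5 D23909) (iv4 D11196) F7641 F3438 (iv5 D1476) (iv4 D803) F1115 D802 F1513 F1362 F699 F1035 (iv5 F1074) D725 D1216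
def n26881 : Q := act 5 n12867
theorem D26881 : act 5 n12867 = n26881 := rfl
theorem F43353 : act 2 n26881 = n17469 := d2_1 D26881 (iv5 D17469) (iv2 F21363)
theorem F43354 : act 7 n26881 = n17462 := d13_2 (iv7 F21364) D26881 (iv5 D17462)
theorem F43355 : act 4 n26881 = n17194 := d16_2 D12867 D26881 (iv5 D17194) F16296 (iv5 D10285) F6755 (iv5 F13450) F13451 (iv2 F13444)
def n26882 : Q := act 6 n12867
theorem D26882 : act 6 n12867 = n26882 := rfl
theorem F43356 : act 2 n26882 = n17470 := d3_1 D26882 (iv6 D17470) (iv2 F21363)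
theorem F43357 : act 4 n26882 = n12868 := d10_1 D26882 (iv6 D12868) D12867
def n26883 : Q := act 0 n12868
theorem D26883 : act 0 n12868 = n26883 := rfl
def n26884 : Q := act 1 n12868
theorem D26884 : act 1 n12868 = n26884 := rfl
def n26885 : Q := act 5 n12868
theorem D26885 : act 5 n12868 = n26885 := rfl
theorem F43359 : act 2 n26885 = n17473 := d2_1 D26885 (iv5 D17473) (iv2 F21365)
theorem F43360 : act 3 n26885 = n21474 := d6_1 D26885 (iv5 D21474) (iv3 F21366)
theorem F43361 : act 6 n26885 = n12989 := d12_2 D12868 D26885 (iv5 D12989) (iv6 D6169) (iv5 F13446)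
def n26886 : Q := act 7 n12868
theorem D26886 : act 7 n12868 = n26886 := rfl
theorem F43362 : act 2 n26886 = n17474 := d4_1 D26886 (iv7 D17474) (iv2 F21365)
theorem F43363 : act 3 n26886 = n21475 := d8_1 D26886 (iv7 D21475) (iv3 F21366)
theorem F43364 : act 6 n26886 = n17466 := d14_1 D26886 (iv7 D17466) (iv6 D8216) (iv7 F13447) D12868
theorem F43365 : act 1 n17474 = n26883 := d15_0 (iv0 D26883) D26886 F43362
theorem F43366 : act 1 n17472 = n26886 := d15_1 D17472 (iv7 D26886) F21365
theorem F43367 : act 1 n26886 = n17471 := d15_0 (iv0 D17471) D17474 (iv2 F43362)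
def n26887 : Q := act 3 n12869
theorem D26887 : act 3 n12869 = n26887 := rfl
theorem F43368 : act 4 n26887 = n21925 := d5_2 D12869 D26887 (iv3 D21925) (iv4 D10460) (iv3 F13449)
theorem F43369 : act 7 n26887 = n17468 := d8_2 (iv7 F21368) D26887 (iv3 D17468)
def n26888 : Q := act 5 n12869
theorem D26888 : act 5 n12869 = n26888 := rfl
theorem F43370 : act 2 n26888 = n17462 := d2_1 D26888 (iv5 D17462) (iv2 F21367)
theorem F43371 : act 4 n26888 = n17191 := d9_1 D26888 (iv5 D17191) (iv4 F21591) (iv5 D12987) (iv4 D6167) (iv5 F13446) D12867 D26881 F43355 (iv5 D17194) F16296 (iv5 D10285) F6755 (iv5 F13450) D12869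
theorem F43372 : act 7 n26888 = n17469 := d13_2 (iv7 F21368) D26888 (iv5 D17469)
def n26889 : Q := act 6 n12869
theorem D26889 : act 6 n12869 = n26889 := rfl
theorem F43373 : act 2 n26889 = n17463 := d3_1 D26889 (iv6 D17463) (iv2 F21367)
theorem F43374 : act 4 n26889 = n12870 := d10_1 D26889 (iv6 D12870) D12869
def n26890 : Q := act 0 n12870
theorem D26890 : act 0 n12870 = n26890 := rfl
def n26891 : Q := act 1 n12870
theorem D26891 : act 1 n12870 = n26891 := rfl
theorem F43375 : act 1 n26891 = n17466 := d15_1 D26891 (iv7 D17466) (iv2 F21369)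
def n26892 : Q := act 7 n12870
theorem D26892 : act 7 n12870 = n26892 := rfl
theorem F43376 : act 2 n26892 = n17466 := d4_1 D26892 (iv7 D17466) (iv2 F21369)
theorem F43377 : act 3 n26892 = n21930 := d8_1 D26892 (iv7 D21930) (iv3 F21370)
theorem F43378 : act 5 n26892 = n17760 := d13_1 D26892 (iv7 D17760) (iv5 F21371)
theorem F43380 : act 1 n17466 = n26890 := d15_0 (iv0 D26890) D26892 F43376
theorem F43381 : act 1 n17465 = n26892 := d15_1 D17465 (iv7 D26892) F21369
theorem F43382 : act 1 n26892 = n17464 := d15_0 (iv0 D17464) D17466 (iv2 F43376)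
def n26893 : Q := act 3 n12871
theorem D26893 : act 3 n12871 = n26893 := rfl
theorem F43383 : act 7 n26893 = n17475 := d8_2 F21633 D26893 (iv3 D17475)
def n26894 : Q := act 5 n12871
theorem D26894 : act 5 n12871 = n26894 := rfl
theorem F43384 : act 2 n26894 = n17479 := d2_1 D26894 (iv5 D17479) (iv2 F21634)
theorem F43385 : act 4 n26894 = n17185 := d9_1 D26894 (iv5 D17185) (iv4 D8063) (iv5 F13439) D3730 D8291 F21375 (iv5 F34559) F34558 F16732 (iv4 D8058) (iv5 F13443) D3725 D8278 (iv4 F21372)
theorem F43387 : act 0 n26894 = n17646 := d17_2 D12871 D26894 F28724 (iv4 D8363) (iv5 D3754) F4167 (iv5 F13446) (iv0 D6102) D6104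
theorem F43388 : act 1 n26894 = n12994 := d17_6 (iv1 F21262) F21260 (iv1 F9711) D8278 (iv4 F21372) D26894 (iv5 D12994) D12993 F21617
def n26895 : Q := act 6 n12871
theorem D26895 : act 6 n12871 = n26895 := rfl
theorem F43389 : act 2 n26895 = n17480 := d3_1 D26895 (iv6 D17480) (iv2 F21634)
theorem F43390 : act 4 n26895 = n17612 := d10_1 D26895 (iv6 D17612) (iv4 F21372)
def n26896 : Q := act 6 n12872
theorem D26896 : act 6 n12872 = n26896 := rfl
theorem F43391 : act 2 n26896 = n17477 := d3_1 D26896 (iv6 D17477) F21632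
theorem F43392 : act 4 n26896 = n17615 := d10_1 D26896 (iv6 D17615) F21375
def n26897 : Q := act 4 n12873
theorem D26897 : act 4 n12873 = n26897 := rfl
theorem F43393 : act 2 n26897 = n12959 := d1_1 D26897 (iv4 F43323) F43322
theorem F43394 : act 5 n26897 = n12948 := d9_2 D12873 D26897 (iv4 D12948) (iv5 D6151) F4150 D3700 D8206 (iv5 F28159) (iv4 D17198) (iv5 D8068) (iv4 D3642) (iv5 D1599) (iv4 F2225) D2571 D6104
theorem F43395 : act 7 n26897 = n17163 := d11_2 (iv7 F21376) D26897 F28109
theorem F43396 : act 0 n26897 = n17197 := d18_2 F28904 D26897 (iv4 F28870) (iv5 D17749) (iv4 D8368) (iv0 D3756) D3758 D8377 D17765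
theorem F43397 : act 1 n26897 = n17196 := d18_8 (iv1 F21653) (iv4 D8299) (iv1 F13329) D8044 D17157 (iv4 F28896) F28898 D26897 F28155
def n26898 : Q := act 6 n12873
theorem D26898 : act 6 n12873 = n26898 := rfl
def n26899 : Q := act 0 n12874
theorem D26899 : act 0 n12874 = n26899 := rfl
def n26900 : Q := act 1 n12874
theorem D26900 : act 1 n12874 = n26900 := rfl
def n26901 : Q := act 5 n12874
theorem D26901 : act 5 n12874 = n26901 := rfl
def n26902 : Q := act 7 n12874
theorem D26902 : act 7 n12874 = n26902 := rfl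
theorem F43398 : act 4 n26902 = n12878 := d11_1 D26902 (iv7 D12878) (iv4 F21377)
theorem F43399 : act 6 n26902 = n17487 := d14_1 D26902 (iv7 D17487) (iv6 D8225) (iv7 F9482) D12874
def n26903 : Q := act 2 n12875
theorem D26903 : act 2 n12875 = n26903 := rfl
theorem F43400 : act 7 n12876 = n26903 := d15_2 (iv0 D12875) D12876 (iv2 D26903)
def n26904 : Q := act 3 n12875
theorem D26904 : act 3 n12875 = n26904 := rfl
def n26905 : Q := act 4 n12875
theorem D26905 : act 4 n12875 = n26905 := rfl
def n26906 : Q := act 5 n12875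
theorem D26906 : act 5 n12875 = n26906 := rfl
def n26907 : Q := act 6 n12875
theorem D26907 : act 6 n12875 = n26907 := rfl
def n26908 : Q := act 7 n12875
theorem D26908 : act 7 n12875 = n26908 := rfl
theorem F43401 : act 2 n26908 = n12876 := d4_1 D26908 F43400 (iv2 D26903)
def n26909 : Q := act 3 n12876
theorem D26909 : act 3 n12876 = n26909 := rfl
def n26910 : Q := act 4 n12876
theorem D26910 : act 4 n12876 = n26910 := rfl
def n26911 : Q := act 5 n12876
theorem D26911 : act 5 n12876 = n26911 := rfl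
def n26912 : Q := act 6 n12876
theorem D26912 : act 6 n12876 = n26912 := rfl
def n26913 : Q := act 0 n12877
theorem D26913 : act 0 n12877 = n26913 := rfl
def n26914 : Q := act 1 n12877
theorem D26914 : act 1 n12877 = n26914 := rfl
def n26915 : Q := act 4 n12877
theorem D26915 : act 4 n12877 = n26915 := rfl
theorem F43402 : act 6 n26915 = n12883 := d10_2 (iv6 F21379) D26915 (iv4 D12883)
def n26916 : Q := act 7 n12877
theorem D26916 : act 7 n12877 = n26916 := rfl
theorem F43403 : act 3 n26916 = n12897 := d8_1 D26916 (iv7 D12897) (iv3 F21378)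
theorem F43404 : act 5 n26916 = n12878 := d13_1 D26916 (iv7 D12878) D12877
def n26917 : Q := act 0 n12879
theorem D26917 : act 0 n12879 = n26917 := rfl
theorem F43405 : act 3 n26917 = n17326 := d20_5 F14272 D9156 (iv4 F30574) F30575 D26917 (iv4 D17326) (iv1 F21416) F21413 F21412 (iv1 F17518)
theorem F43407 : act 1 n12881 = n26917 := d15_0 (iv0 D26917) (iv7 F43342) F43339
theorem F43408 : act 7 n26917 = n17431 := d15_2 F27431 F43407 F28430
theorem F43409 : act 6 n17503 = n26917 := d14_5 F43408 (iv6 D17431) F12967 D16726 (iv7 F28489)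
def n26918 : Q := act 5 n12879
theorem D26918 : act 5 n12879 = n26918 := rfl
theorem F43410 : act 1 n26918 = n18465 := d17_6 F12983 (iv5 F13020) F21386 (iv5 D12880) D12879 D26918 (iv5 D18465) (iv0 F16952) F12982
def n26919 : Q := act 4 n12880
theorem D26919 : act 4 n12880 = n26919 := rfl
theorem F43411 : act 2 n26919 = n17516 := d1_1 D26919 (iv4 D17516) (iv2 F21383)
theorem F43412 : act 7 n26919 = n17513 := d11_2 (iv7 F21384) D26919 (iv4 D17513)
def n26920 : Q := act 6 n12880
theorem D26920 : act 6 n12880 = n26920 := rfl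
theorem F43413 : act 2 n26920 = n17517 := d3_1 D26920 (iv6 D17517) (iv2 F21383)
theorem F43414 : act 5 n26920 = n17788 := d12_1 D26920 (iv6 D17788) (iv5 D8386) (iv6 F16906) D12880
def n26921 : Q := act 5 n12881
theorem D26921 : act 5 n12881 = n26921 := rfl
theorem F43415 : act 3 n26921 = n18863 := d6_1 D26921 F30102 (iv3 F27348)
def n26922 : Q := act 4 n12882
theorem D26922 : act 4 n12882 = n26922 := rfl
theorem F43416 : act 2 n26922 = n17513 := d1_1 D26922 (iv4 D17513) (iv2 F21388)
theorem F43417 : act 7 n26922 = n17516 := d11_2 (iv7 F21389) D26922 (iv4 D17516)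
def n26923 : Q := act 6 n12882
theorem D26923 : act 6 n12882 = n26923 := rfl
theorem F43418 : act 2 n26923 = n17514 := d3_1 D26923 (iv6 D17514) (iv2 F21388)
theorem F43419 : act 5 n26923 = n26923 := d12_1 D26923 (iv6 D26923) (iv5 D12882) F16913 D12882
def n26924 : Q := act 0 n12883
theorem D26924 : act 0 n12883 = n26924 := rfl
theorem F43420 : act 4 n26924 = n17144 := d18_3 F16805 D12883 D26924 (iv5 D17144) F12840 (iv0 F13347) F4158 D3707 D8236
def n26925 : Q := act 1 n12883
theorem D26925 : act 1 n12883 = n26925 := rfl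
def n26926 : Q := act 3 n12883
theorem D26926 : act 3 n12883 = n26926 := rfl
theorem F43421 : act 4 n26926 = n12906 := d5_2 D12883 D26926 (iv3 D12906) (iv4 D6117) (iv3 F9484)
def n26927 : Q := act 5 n12883
theorem D26927 : act 5 n12883 = n26927 := rfl
def n26928 : Q := act 7 n12883
theorem D26928 : act 7 n12883 = n26928 := rfl
theorem F43422 : act 4 n26928 = n12884 := d11_1 D26928 (iv7 D12884) D12883
def n26929 : Q := act 6 n12884
theorem D26929 : act 6 n12884 = n26929 := rfl
theorem F43423 : act 3 n26929 = n12908 := d7_1 D26929 (iv6 D12908) (iv3 F21392)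
theorem F43424 : act 5 n26929 = n17523 := d12_1 D26929 (iv6 D17523) F13020 (iv6 F9487) (iv5 F21393)
def n26930 : Q := act 0 n12886
theorem D26930 : act 0 n12886 = n26930 := rfl
theorem F43425 : act 1 n17298 = n26930 := d15_0 (iv0 D26930) F28803 D17298
def n26931 : Q := act 1 n12886
theorem D26931 : act 1 n12886 = n26931 := rfl
def n26932 : Q := act 2 n12886
theorem D26932 : act 2 n12886 = n26932 := rfl
theorem F43426 : act 3 n26932 = n17276 := d0_2 D12886 D26932 (iv2 D17276) (iv3 D8098) F28802
theorem F43427 : act 7 n26932 = n17298 := d4_2 (iv7 F28803) D26932 (iv2 D17298)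
theorem F43428 : act 1 n26932 = n17296 := d15_0 (iv0 D17296) (iv7 F28803) D26932
theorem F43429 : act 1 n26931 = n17298 := d15_1 D26931 (iv7 F43427) (iv2 D26932)
theorem F43430 : act 1 n17297 = n26932 := d15_1 D17297 F43427 (iv2 D17298)
def n26933 : Q := act 4 n12886
theorem D26933 : act 4 n12886 = n26933 := rfl
theorem F43431 : act 7 n26933 = n17299 := d11_2 (iv7 F28803) D26933 (iv4 D17299)
def n26934 : Q := act 5 n12886
theorem D26934 : act 5 n12886 = n26934 := rfl
theorem F43432 : act 3 n26934 = n12888 := d6_1 D26934 (iv5 D12888) D12886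
theorem F43433 : act 7 n26934 = n17300 := d13_2 (iv7 F28803) D26934 (iv5 D17300)
def n26935 : Q := act 0 n12888
theorem D26935 : act 0 n12888 = n26935 := rfl
theorem F43434 : act 5 n26935 = n17679 := d21_2 D12888 D26935 (iv6 D17679) (iv1 D8324) (iv6 D3739) F2812 (iv1 D1200) D1202 D2573 D6110
theorem F43435 : act 6 n26935 = n17690 := d21_5 (iv5 F28744) F30417 D17734 F28840 D26935 (iv5 D17690) (iv1 F13149) (iv5 F28054) (iv6 F28211) (iv1 F28286)
theorem F43436 : act 1 n12892 = n26935 := d15_0 (iv0 D26935) F28807 (iv2 F28817)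
def n26936 : Q := act 1 n12888
theorem D26936 : act 1 n12888 = n26936 := rfl
theorem F43437 : act 1 n26936 = n12892 := d15_1 D26936 F28818 (iv2 F28806)
theorem F43438 : act 5 n17821 = n26936 := d21_0 (iv1 D26936) (iv5 D12888) F13155 (iv1 F28781) F30399 (iv5 F13873) F30419 D17564 F28552 (iv1 F28988)
theorem F43439 : act 6 n26936 = n17345 := d21_3 D17314 (iv1 F28988) F43438 (iv1 D17345) (iv6 D8122) (iv5 D3657) (iv1 D1604) D1605 (iv6 F5674) D8107
def n26937 : Q := act 4 n12888
theorem D26937 : act 4 n12888 = n26937 := rfl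
theorem F43440 : act 2 n26937 = n17289 := d1_1 D26937 (iv4 D17289) (iv2 F28806)
theorem F43441 : act 7 n26937 = n17305 := d11_2 (iv7 F28807) D26937 (iv4 D17305)
def n26938 : Q := act 0 n12890
theorem D26938 : act 0 n12890 = n26938 := rfl
theorem F43442 : act 1 n17276 = n26938 := d15_0 (iv0 D26938) F28814 D17276
def n26939 : Q := act 1 n12890
theorem D26939 : act 1 n12890 = n26939 := rfl
def n26940 : Q := act 2 n12890
theorem D26940 : act 2 n12890 = n26940 := rfl
theorem F43443 : act 3 n26940 = n17298 := d0_2 D12890 D26940 (iv2 D17298) (iv3 D8103) (iv2 F28812)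
theorem F43444 : act 7 n26940 = n17276 := d4_2 (iv7 F28814) D26940 (iv2 D17276)
theorem F43445 : act 1 n26940 = n17274 := d15_0 (iv0 D17274) (iv7 F28814) D26940
theorem F43446 : act 1 n26939 = n17276 := d15_1 D26939 (iv7 F43444) (iv2 D26940)
theorem F43447 : act 1 n17275 = n26940 := d15_1 D17275 F43444 (iv2 D17276)
def n26941 : Q := act 4 n12890
theorem D26941 : act 4 n12890 = n26941 := rfl
theorem F43448 : act 7 n26941 = n17277 := d11_2 (iv7 F28814) D26941 (iv4 D17277)
def n26942 : Q := act 5 n12890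
theorem D26942 : act 5 n12890 = n26942 := rfl
theorem F43449 : act 3 n26942 = n12892 := d6_1 D26942 (iv5 D12892) D12890
theorem F43450 : act 7 n26942 = n17278 := d13_2 (iv7 F28814) D26942 (iv5 D17278)
def n26943 : Q := act 6 n12890
theorem D26943 : act 6 n12890 = n26943 := rfl
theorem F43451 : act 3 n26943 = n12893 := d7_1 D26943 (iv6 D12893) D12890
def n26944 : Q := act 4 n12892
theorem D26944 : act 4 n12892 = n26944 := rfl
theorem F43452 : act 2 n26944 = n17305 := d1_1 D26944 (iv4 D17305) (iv2 F28817)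
theorem F43453 : act 7 n26944 = n17289 := d11_2 (iv7 F28818) D26944 (iv4 D17289)
def n26945 : Q := act 6 n12892
theorem D26945 : act 6 n12892 = n26945 := rfl
theorem F43454 : act 2 n26945 = n17306 := d3_1 D26945 (iv6 D17306) (iv2 F28817)
theorem F43455 : act 0 n26945 = n17580 := d21_4 F12881 (iv1 F9488) D12892 D26945 (iv6 D17580) F13025 (iv1 F9581) D12979 (iv6 F21576) (iv1 F21402)
theorem F43456 : act 0 n12986 = n26945 := d21_4 (iv5 D3715) (iv1 F4165) (iv5 F9591) D12986 (iv6 D26945) (iv5 D12892) (iv1 D6111) D6112 F9490 (iv1 F5719)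
theorem F43457 : act 7 n17601 = n26945 := d15_2 (iv0 F28247) D17601 F43454
def n26946 : Q := act 0 n12893
theorem D26946 : act 0 n12893 = n26946 := rfl
theorem F43458 : act 5 n26946 = n17113 := d21_0 (iv1 F28594) F28588 F13148 (iv1 F13133) D17679 (iv5 F43434) (iv1 F43436) (iv5 D12892) D12893 D26946
theorem F43459 : act 1 n17310 = n26946 := d15_0 (iv0 D26946) (iv7 F28820) (iv2 F28786)
theorem F43460 : act 6 n26946 = n17549 := d21_3 D8005 D17113 (iv5 F43458) (iv1 D17549) (iv6 D8246) D8245 D17543 F28538 (iv6 D17112) (iv1 D8004)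
theorem F43461 : act 5 n17816 = n17549 := d21_2 D8404 (iv1 F28982) (iv6 F43460) (iv1 F43459) F28249 (iv5 D13002) (iv1 F9623) F5745 (iv6 F9658) (iv1 F9660)
theorem E4977 : n17820 = n17679 := (c21_11 (iv5 F43434) (iv1 F43436) (iv5 D12892) D12893 D26946 F43460 (iv5 F43461) (iv1 D17816) (iv5 D8399) D8400 D17820)
theorem F43462 : act 0 n17679 = n17314 := (sb E4977 (iv1 F28991))
theorem F43463 : act 1 n17679 = n8400 := (sb E4977 (iv0 D17820))
theorem F43464 : act 6 n17544 = n17353 := d21_5 F43434 F43462 (iv5 D17314) F13023 (iv1 F28539) (iv5 F28744) F30417 D17734 F28840 D26935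
def n26947 : Q := act 5 n12893
theorem D26947 : act 5 n12893 = n26947 := rfl
theorem F43465 : act 2 n26947 = n17309 := d2_1 D26947 (iv5 D17309) (iv2 F28819)
theorem F43466 : act 7 n26947 = n17574 := d13_2 F28820 D26947 (iv5 F28782)
theorem F43467 : act 0 n17690 = n26947 := d21_1 D17690 (iv5 D26947) (iv6 D12893) (iv1 D6111) (iv6 D2573) (iv5 D1202) D1199 (iv5 F2818) D3741 D8329
def n26948 : Q := act 3 n12894
theorem D26948 : act 3 n12894 = n26948 := rfl
theorem F43468 : act 7 n26948 = n17316 := d8_2 (iv7 F30500) D26948 (iv3 D17316)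
def n26949 : Q := act 3 n12895
theorem D26949 : act 3 n12895 = n26949 := rfl
theorem F43469 : act 7 n26949 = n17312 := d8_2 (iv7 F30497) D26949 (iv3 D17312)
def n26950 : Q := act 6 n12895
theorem D26950 : act 6 n12895 = n26950 := rfl
theorem F43470 : act 2 n26950 = n17318 := d3_1 D26950 (iv6 D17318) (iv2 F30496)
def n26951 : Q := act 0 n12896
theorem D26951 : act 0 n12896 = n26951 := rfl
def n26952 : Q := act 1 n12896
theorem D26952 : act 1 n12896 = n26952 := rfl
theorem F43471 : act 1 n26952 = n17323 := d15_1 D26952 (iv7 D17323) (iv2 F21398)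
theorem F43472 : act 4 n26952 = n13223 := d18_7 (iv1 F9772) (iv4 F30358) (iv1 D12731) F9355 D6112 D12896 D26952 F22015 F13623
theorem F43473 : act 2 n17320 = n26952 := d1_3 F43472 F29755 (iv4 F42349)
theorem F43474 : act 7 n18549 = n26952 := d11_0 F43472 (iv7 F29754) D18549
theorem F43475 : act 2 n18549 = n26951 := d15_3 (iv0 D26951) D26952 (iv7 F43474)
theorem F43476 : act 4 n26951 = n13222 := d1_2 D18549 F43475 F29756
theorem F43477 : act 7 n26951 = n17320 := d4_2 (iv7 F43474) F43475 F43473
theorem E4978 : n18549 = n17319 := (c15_4 (iv0 D17319) D17320 (iv7 F43477) (iv2 F43475))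
theorem F43478 : act 2 n17319 = n26951 := (sb E4978 F43475)
theorem F43479 : act 4 n17319 = n8708 := (sb E4978 (iv4 D18549))
theorem F43480 : act 6 n17319 = n18616 := (sb E4978 (iv6 F29839))
theorem F43481 : act 7 n17319 = n26952 := (sb E4978 F43474)
theorem F43482 : act 1 n17323 = n26951 := d15_1 F43471 F43477 F43473
def n26953 : Q := act 3 n12896
theorem D26953 : act 3 n12896 = n26953 := rfl
theorem F43483 : act 6 n26953 = n12906 := d7_2 (iv6 F21399) D26953 (iv3 D12906)
def n26954 : Q := act 5 n12896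
theorem D26954 : act 5 n12896 = n26954 := rfl
theorem F43484 : act 2 n26954 = n17322 := d2_1 D26954 (iv5 D17322) (iv2 F21398)
def n26955 : Q := act 7 n12896
theorem D26955 : act 7 n12896 = n26955 := rfl
theorem F43485 : act 2 n26955 = n17323 := d4_1 D26955 (iv7 D17323) (iv2 F21398)
theorem F43486 : act 4 n26955 = n12897 := d11_1 D26955 (iv7 D12897) D12896
theorem F43487 : act 1 n17320 = n26955 := d15_1 D17320 (iv7 D26955) F21398
theorem F43488 : act 1 n26955 = n17319 := d15_1 F43487 F43481 (iv2 F43473)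
def n26956 : Q := act 6 n12897
theorem D26956 : act 6 n12897 = n26956 := rfl
theorem F43489 : act 2 n26956 = n17324 := d3_1 D26956 (iv6 D17324) (iv2 F21400)
theorem F43490 : act 5 n26956 = n17580 := d12_1 D26956 (iv6 D17580) F13025 (iv6 F9492) (iv5 F21401)
theorem F43491 : act 7 n26956 = n12908 := d14_2 D12897 D26956 (iv6 D12908) (iv7 D6118) (iv6 F9490)
theorem F43492 : act 1 n17363 = n26956 := d15_1 D17363 F43491 F21434
theorem F43493 : act 1 n26956 = n17362 := d15_0 (iv0 D17362) (iv7 F28254) (iv2 F43489)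
def n26957 : Q := act 3 n12898
theorem D26957 : act 3 n12898 = n26957 := rfl
theorem F43494 : act 5 n26957 = n17331 := d6_2 (iv5 F21407) D26957 (iv3 D17331)
theorem F43495 : act 7 n26957 = n17342 := d8_2 (iv7 F21406) D26957 (iv3 D17342)
def n26958 : Q := act 6 n12898
theorem D26958 : act 6 n12898 = n26958 := rfl
theorem F43496 : act 2 n26958 = n17332 := d3_1 D26958 (iv6 D17332) (iv2 F21405)
theorem F43497 : act 4 n26958 = n12899 := d10_1 D26958 (iv6 D12899) D12898
def n26959 : Q := act 0 n12899
theorem D26959 : act 0 n12899 = n26959 := rfl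
theorem F43498 : act 6 n26959 = n16413 := d21_5 (iv5 D2576) D2574 D6114 D12899 D26959 (iv5 D16413) F28954 D8095 F12875 F5725
def n26960 : Q := act 1 n12899
theorem D26960 : act 1 n12899 = n26960 := rfl
theorem F43499 : act 1 n26960 = n17335 := d15_1 D26960 (iv7 D17335) (iv2 F21409)
def n26961 : Q := act 7 n12899
theorem D26961 : act 7 n12899 = n26961 := rfl
theorem F43500 : act 2 n26961 = n17335 := d4_1 D26961 (iv7 D17335) (iv2 F21409)
theorem F43501 : act 5 n26961 = n17855 := d13_1 D26961 (iv7 D17855) (iv5 F21410)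
theorem F43502 : act 6 n26961 = n17346 := d14_1 D26961 (iv7 D17346) (iv6 D8122) (iv7 F9497) D12899
theorem F43503 : act 1 n17335 = n26959 := d15_0 (iv0 D26959) D26961 F43500
theorem F43504 : act 1 n17334 = n26961 := d15_1 D17334 (iv7 D26961) F21409
def n26962 : Q := act 5 n12902
theorem D26962 : act 5 n12902 = n26962 := rfl
theorem F43506 : act 2 n26962 = n12903 := d2_1 D26962 (iv5 D12903) D12902
theorem F43507 : act 3 n26962 = n17338 := d6_1 D26962 (iv5 D17338) (iv3 F21412)
theorem F43508 : act 7 n26962 = n17327 := d13_2 (iv7 F21415) D26962 (iv5 D17327)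
theorem F43509 : act 0 n26962 = n17328 := d21_1 D26962 (iv5 F28268) (iv6 F27421) (iv1 D12901) F9501 D12903 (iv1 F28266) (iv5 D17099) F21420 (iv1 F21416)
theorem F43510 : act 0 n17079 = n26962 := d21_1 D17079 (iv5 D26962) F21414 (iv1 F21418) (iv6 D7993) D7992 F13757 F5672 (iv6 F5721) (iv1 F13770)
def n26963 : Q := act 4 n12903
theorem D26963 : act 4 n12903 = n26963 := rfl
theorem F43511 : act 7 n26963 = n17329 := d11_2 (iv7 F21422) D26963 (iv4 D17329)
def n26964 : Q := act 6 n12903
theorem D26964 : act 6 n12903 = n26964 := rfl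
theorem F43512 : act 3 n26964 = n12905 := d7_1 D26964 (iv6 D12905) (iv3 F21421)
theorem F43513 : act 5 n26964 = n26964 := d12_1 D26964 (iv6 D26964) (iv5 D12903) F9501 D12903
def n26965 : Q := act 3 n12904
theorem D26965 : act 3 n12904 = n26965 := rfl
theorem F43514 : act 5 n26965 = n17342 := d6_2 (iv5 F21424) D26965 (iv3 D17342)
theorem F43515 : act 7 n26965 = n17331 := d8_2 (iv7 F21425) D26965 (iv3 D17331)
def n26966 : Q := act 6 n12904
theorem D26966 : act 6 n12904 = n26966 := rfl
theorem F43516 : act 2 n26966 = n17343 := d3_1 D26966 (iv6 D17343) (iv2 F21423)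
theorem F43517 : act 4 n26966 = n12905 := d10_1 D26966 (iv6 D12905) D12904
def n26967 : Q := act 0 n12905
theorem D26967 : act 0 n12905 = n26967 := rfl
theorem F43518 : act 6 n26967 = n17694 := d21_5 F5681 (iv1 F4109) D6116 D12905 D26967 (iv5 D17694) (iv1 D8330) (iv5 F13036) (iv6 D8260) F5718
def n26968 : Q := act 1 n12905
theorem D26968 : act 1 n12905 = n26968 := rfl
theorem F43519 : act 1 n26968 = n17346 := d15_1 D26968 (iv7 D17346) (iv2 F21427)
def n26969 : Q := act 7 n12905
theorem D26969 : act 7 n12905 = n26969 := rfl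
theorem F43520 : act 2 n26969 = n17346 := d4_1 D26969 (iv7 D17346) (iv2 F21427)
theorem F43522 : act 6 n26969 = n17335 := d14_1 D26969 (iv7 D17335) (iv6 D8116) (iv7 F9504) D12905
theorem F43523 : act 1 n17346 = n26967 := d15_0 (iv0 D26967) D26969 F43520
theorem F43524 : act 1 n17345 = n26969 := d15_1 D17345 (iv7 D26969) F21427
theorem F43525 : act 1 n26969 = n17344 := d15_0 (iv0 D17344) D17346 (iv2 F43520)
def n26970 : Q := act 0 n12906
theorem D26970 : act 0 n12906 = n26970 := rfl
def n26971 : Q := act 1 n12906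
theorem D26971 : act 1 n12906 = n26971 := rfl
def n26972 : Q := act 2 n12906
theorem D26972 : act 2 n12906 = n26972 := rfl
theorem F43526 : act 3 n26972 = n17357 := d0_2 D12906 D26972 (iv2 D17357) (iv3 D8126) (iv2 F9507)
def n26973 : Q := act 5 n12906
theorem D26973 : act 5 n12906 = n26973 := rfl
theorem F43527 : act 3 n26973 = n12907 := d6_1 D26973 (iv5 D12907) D12906
theorem F43528 : act 7 n26973 = n12985 := d13_2 F30127 D26973 (iv5 F30126)
def n26974 : Q := act 6 n12907
theorem D26974 : act 6 n12907 = n26974 := rfl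
theorem F43529 : act 2 n26974 = n17360 := d3_1 D26974 (iv6 D17360) (iv2 F21429)
theorem F43530 : act 4 n26974 = n12986 := d10_1 D26974 (iv6 D12986) (iv4 F21430)
def n26975 : Q := act 0 n12908
theorem D26975 : act 0 n12908 = n26975 := rfl
theorem F43531 : act 1 n17324 = n26975 := d15_0 (iv0 D26975) (iv7 F43491) F43489
def n26976 : Q := act 1 n12908
theorem D26976 : act 1 n12908 = n26976 := rfl
theorem F43532 : act 1 n26976 = n17324 := d15_1 D26976 F28254 (iv2 F21434)
def n26977 : Q := act 3 n12909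
theorem D26977 : act 3 n12909 = n26977 := rfl
theorem F43533 : act 2 n26977 = n17221 := d0_1 D26977 (iv3 F28170) F17537 (iv3 F14945) F21437
theorem F43534 : act 4 n26977 = n26917 := d5_2 F28313 D26977 F43405 (iv4 D17326) (iv3 F28312)
theorem F43535 : act 6 n26977 = n13198 := d7_2 F21438 D26977 (iv3 D13198)
theorem F43536 : act 7 n26977 = n17044 := d8_2 (iv7 F21436) D26977 F27951
theorem F43537 : act 0 n26977 = n17172 := d20_4 (iv4 F42967) (iv1 F42970) F28313 D26977 F28131 (iv4 F30160) (iv1 F30163) F27415 (iv3 F27958) (iv1 F30568)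
theorem F43538 : act 0 n17170 = n26977 := d20_4 (iv4 F31167) (iv1 F31170) F28166 F28124 (iv3 D26977) (iv4 F28313) (iv1 D17228) (iv4 F30571) F31200 (iv1 D19490)
def n26978 : Q := act 5 n12910
theorem D26978 : act 5 n12910 = n26978 := rfl
theorem F43539 : act 2 n26978 = n12911 := d2_1 D26978 (iv5 D12911) D12910
theorem F43540 : act 3 n26978 = n17375 := d6_1 D26978 (iv5 D17375) (iv3 F21441)
theorem F43541 : act 7 n26978 = n17366 := d13_2 (iv7 F21444) D26978 (iv5 D17366)
theorem F43542 : act 0 n26978 = n13200 := d21_1 D26978 (iv5 D13200) F21438 (iv1 D12909) F9513 D12911 (iv1 F27990) (iv5 D17058) F17535 (iv1 F21445)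
theorem F43543 : act 0 n13197 = n26978 := d21_1 D13197 (iv5 D26978) F21443 (iv1 F21446) (iv6 D7973) (iv5 F14010) (iv1 F9748) F4224 D2634 D6273
def n26979 : Q := act 4 n12911
theorem D26979 : act 4 n12911 = n26979 := rfl
theorem F43544 : act 7 n26979 = n17367 := d11_2 (iv7 F21448) D26979 (iv4 D17367)
def n26980 : Q := act 6 n12911
theorem D26980 : act 6 n12911 = n26980 := rfl
theorem F43545 : act 3 n26980 = n12913 := d7_1 D26980 (iv6 D12913) (iv3 F21447)
theorem F43546 : act 5 n26980 = n26980 := d12_1 D26980 (iv6 D26980) (iv5 D12911) F9513 D12911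
def n26981 : Q := act 3 n12912
theorem D26981 : act 3 n12912 = n26981 := rfl
theorem F43547 : act 5 n26981 = n17378 := d6_2 (iv5 F21451) D26981 (iv3 D17378)
theorem F43548 : act 7 n26981 = n17369 := d8_2 (iv7 F21452) D26981 (iv3 D17369)
def n26982 : Q := act 6 n12912
theorem D26982 : act 6 n12912 = n26982 := rfl
theorem F43549 : act 2 n26982 = n17379 := d3_1 D26982 (iv6 D17379) (iv2 F21450)
theorem F43550 : act 4 n26982 = n12913 := d10_1 D26982 (iv6 D12913) D12912
def n26983 : Q := act 0 n12913
theorem D26983 : act 0 n12913 = n26983 := rfl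
theorem F43551 : act 6 n26983 = n16859 := d21_5 F9829 (iv1 F5559) D6120 D12913 D26983 (iv5 D16859) (iv1 D7858) D7859 F12402 (iv1 F9827)
theorem F43552 : act 2 n17380 = n26983 := d3_3 F43551 F43172 (iv6 F28334)
theorem F43553 : act 7 n17381 = n26983 := d15_2 (iv0 D17380) D17381 (iv2 F43552)
def n26984 : Q := act 1 n12913
theorem D26984 : act 1 n12913 = n26984 := rfl
theorem F43554 : act 1 n26984 = n17382 := d15_1 D26984 (iv7 D17382) (iv2 F21455)
theorem F43555 : act 7 n26984 = n17380 := d15_2 (iv0 D26983) D26984 F43552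
theorem F43556 : act 6 n18526 = n26984 := d21_3 (iv5 F27592) (iv1 F43253) F43250 (iv1 D26984) (iv6 D12913) (iv5 D6120) F4123 D3948 (iv6 F9774) D13222
theorem F43557 : act 5 n18854 = n26984 := d21_6 (iv5 D3936) (iv1 D1698) D1699 (iv6 F5865) D8827 D18854 (iv1 D26984) F21456 (iv6 D12913) F9517
theorem F43558 : act 0 n26983 = n17382 := d21_10 F28335 (iv1 F43554) (iv5 F43557) (iv6 D18854) (iv1 F22102) (iv6 F28010) F28009 (iv1 F12760) D16859 (iv6 F43551)
theorem F43559 : act 2 n17381 = n26984 := d15_3 F43554 (iv0 F43558) (iv7 F43553)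
def n26985 : Q := act 7 n12913
theorem D26985 : act 7 n12913 = n26985 := rfl
theorem F43560 : act 2 n26985 = n17382 := d4_1 D26985 (iv7 D17382) (iv2 F21455)
theorem F43561 : act 5 n26985 = n26985 := d13_1 D26985 (iv7 D26985) F21456
theorem F43562 : act 6 n26985 = n17373 := d14_1 D26985 (iv7 D17373) (iv6 D8136) (iv7 F9516) D12913
theorem F43563 : act 1 n17381 = n26985 := d15_1 D17381 (iv7 D26985) F21455
theorem F43564 : act 1 n26985 = n17380 := d15_1 F43563 (iv7 F43555) (iv2 F43559)
def n26986 : Q := act 6 n12916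
theorem D26986 : act 6 n12916 = n26986 := rfl
theorem F43565 : act 2 n26986 = n16928 := d3_1 D26986 (iv6 D16928) F26709
theorem F43566 : act 3 n26986 = n26852 := d7_1 D26986 (iv6 D26852) (iv3 F21465)
theorem F43567 : act 0 n24015 = n26986 := d20_4 F18445 (iv1 F7776) D11268 D24015 F43566 F43272 F26730 (iv4 F37550) (iv3 D24018) (iv1 F18447)
def n26987 : Q := act 5 n12918
theorem D26987 : act 5 n12918 = n26987 := rfl
theorem F43568 : act 2 n26987 = n12919 := d2_1 D26987 (iv5 D12919) D12918
theorem F43569 : act 3 n26987 = n25718 := d6_1 D26987 F40634 F37422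
theorem F43570 : act 7 n26987 = n16929 := d13_2 (iv7 F21470) D26987 (iv5 D16929)
theorem F43571 : act 1 n26987 = n15938 := d17_6 D3411 D7458 (iv1 F30290) F21129 (iv4 F21469) D26987 (iv5 D15938) (iv0 D7468) (iv4 D3414)
theorem F43572 : act 0 n24233 = n15949 := d21_7 D15938 (iv1 F43571) (iv5 D26987) (iv6 F26660) (iv1 D15316) (iv6 F18634) D24233 (iv5 D15949) (iv6 D7471) D7468
theorem F43573 : act 1 n15941 = n26987 := d15_0 F43571 (iv7 F42272) F42270
def n26988 : Q := act 4 n12919
theorem D26988 : act 4 n12919 = n26988 := rfl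
theorem F43574 : act 7 n26988 = n16933 := d11_2 (iv7 F21474) D26988 (iv4 D16933)
def n26989 : Q := act 6 n12919
theorem D26989 : act 6 n12919 = n26989 := rfl
theorem F43575 : act 3 n26989 = n12921 := d7_1 D26989 (iv6 D12921) (iv3 F21473)
def n26990 : Q := act 0 n12921
theorem D26990 : act 0 n12921 = n26990 := rfl
def n26991 : Q := act 1 n12921
theorem D26991 : act 1 n12921 = n26991 := rfl
theorem F43576 : act 1 n26991 = n25724 := d15_1 D26991 (iv7 D25724) (iv2 F21477)
def n26992 : Q := act 5 n12921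
theorem D26992 : act 5 n12921 = n26992 := rfl
theorem F43577 : act 2 n26992 = n25723 := d2_1 D26992 (iv5 D25723) (iv2 F21477)
theorem F43578 : act 6 n26992 = n12922 := d12_2 D12921 D26992 (iv5 D12922) (iv6 D6124) D6123
def n26993 : Q := act 7 n12921
theorem D26993 : act 7 n12921 = n26993 := rfl
theorem F43579 : act 2 n26993 = n25724 := d4_1 D26993 (iv7 D25724) (iv2 F21477)
theorem F43580 : act 6 n26993 = n16942 := d14_1 D26993 (iv7 D16942) (iv6 D7902) (iv7 F9525) D12921
theorem F43581 : act 1 n25724 = n26990 := d15_0 (iv0 D26990) D26993 F43579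
theorem F43582 : act 1 n25722 = n26993 := d15_1 D25722 (iv7 D26993) F21477
theorem F43583 : act 1 n26993 = n25721 := d15_0 (iv0 D25721) D25724 (iv2 F43579)
def n26994 : Q := act 0 n12922
theorem D26994 : act 0 n12922 = n26994 := rfl
theorem F43584 : act 5 n26994 = n15940 := d17_3 F11667 D12922 D26994 (iv4 F26506) (iv5 D7955) F10687 F3797 (iv0 F10054) D7361
theorem F43585 : act 3 n15941 = n26994 := d6_3 F43584 (iv3 D15940) D15941
def n26995 : Q := act 1 n12922
theorem D26995 : act 1 n12922 = n26995 := rfl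
theorem F43586 : act 5 n26995 = n25562 := d17_7 F18339 (iv5 D7915) (iv1 D3583) (iv5 F4137) (iv4 F9528) D12922 D26995 F40439 F37537
theorem F43587 : act 3 n26377 = n26995 := d6_3 F43586 F40436 D26377
def n26996 : Q := act 7 n12922
theorem D26996 : act 7 n12922 = n26996 := rfl
theorem F43588 : act 3 n26996 = n23777 := d8_1 D26996 F40647 F40639
theorem F43589 : act 4 n26996 = n21249 := d11_1 D26996 (iv7 F34023) F34024
theorem F43590 : act 5 n26996 = n12923 := d13_1 D26996 (iv7 D12923) D12922
def n26997 : Q := act 0 n12927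
theorem D26997 : act 0 n12927 = n26997 := rfl
theorem F43591 : act 4 n26997 = n15283 := d20_2 D12927 D26997 (iv3 D15283) (iv1 D7237) (iv3 D3331) F2585 (iv1 F2202) D1210 D2583 D6128
theorem F43592 : act 3 n26997 = n15305 := d20_5 (iv4 F24871) F26820 D15353 F24928 D26997 (iv4 D15305) (iv1 F12539) (iv4 F27730) F27729 (iv1 F24839)
theorem F43593 : act 1 n12932 = n26997 := d15_0 (iv0 D26997) (iv7 F27252) (iv2 F27255)
theorem F43594 : act 2 n16978 = n26997 := d0_5 F43592 (iv2 F42932) (iv3 F27823) F42934 (iv3 F40364)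
theorem F43595 : act 7 n16977 = n26997 := d8_0 F43592 F42933 F27851
def n26998 : Q := act 1 n12927
theorem D26998 : act 1 n12927 = n26998 := rfl
theorem F43596 : act 1 n26998 = n12932 := d15_1 D26998 F27241 (iv2 F27246)
theorem F43597 : act 7 n26998 = n16978 := d15_2 (iv0 D26997) D26998 F43594
theorem F43598 : act 4 n15519 = n26998 := d20_0 (iv1 D26998) (iv4 D12927) F11569 (iv1 F24916) (iv3 F27155) (iv4 F27159) F26842 F26765 (iv3 F27752) (iv1 F27754)
theorem F43599 : act 2 n26998 = n16977 := d1_1 F43598 F27849 F42940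
theorem F43600 : act 3 n26998 = n16913 := d20_3 D16924 (iv1 F27754) F43598 (iv1 D16913) (iv3 D7892) (iv4 D3577) (iv1 D1577) D1578 D3579 D7897
def n26999 : Q := act 5 n12927
theorem D26999 : act 5 n12927 = n26999 := rfl
theorem F43601 : act 2 n26999 = n16991 := d2_1 D26999 (iv5 D16991) (iv2 F27246)
theorem F43602 : act 3 n26999 = n26505 := d6_1 D26999 F42431 F24928
theorem F43603 : act 7 n26999 = n16980 := d13_2 F27252 D26999 (iv5 D16980)
def n27000 : Q := act 6 n12927
theorem D27000 : act 6 n12927 = n27000 := rfl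
theorem F43604 : act 2 n27000 = n16992 := d3_1 D27000 (iv6 D16992) (iv2 F27246)
theorem F43605 : act 4 n27000 = n12929 := d10_1 D27000 (iv6 D12929) D12927
def n27001 : Q := act 0 n12929
theorem D27001 : act 0 n12929 = n27001 := rfl
def n27002 : Q := act 1 n12929
theorem D27002 : act 1 n12929 = n27002 := rfl
theorem F43606 : act 1 n27002 = n16998 := d15_1 D27002 (iv7 D16998) (iv2 F27248)
def n27003 : Q := act 5 n12929
theorem D27003 : act 5 n12929 = n27003 := rfl
theorem F43607 : act 2 n27003 = n16997 := d2_1 D27003 (iv5 D16997) (iv2 F27248)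
theorem F43608 : act 0 n27003 = n26495 := d21_7 D26424 F42224 (iv5 D12938) (iv6 D6131) D6128 D12929 D27003 (iv5 D26495) (iv6 D12651) (iv1 F25572)
theorem F43609 : act 1 n27003 = n24289 := d15_1 (iv0 F43608) F38073 (iv2 F42397)
theorem E4979 : n26430 = n7615 := (c21_5 (iv5 F11826) (iv1 F27277) (iv5 D12614) D12615 D26430 (iv6 F18695) D24289 (iv1 F43609) (iv5 D27003) (iv6 D12929) (iv1 F9532))
theorem E4980 : n16421 = n15063 := ((D16421).symm.trans (sb E4979 (iv1 F42239)))
theorem E4981 : n16422 = n12615 := ((D16422).symm.trans (sb E4979 (iv0 D26430)))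
theorem E4982 : n26496 = n26431 := ((((iv1 F42240)).symm.trans (sb E4980 (iv1 F42405)))).symm
theorem F43610 : act 1 n15063 = n7615 := (sb E4980 (iv0 D16421))
theorem F43611 : act 0 n12615 = n7615 := (sb E4981 (iv1 D16422))
theorem F43612 : act 2 n26431 = n12746 := (sb E4982 F42399)
theorem F43613 : act 3 n26431 = n12668 := (sb E4982 F42400)
theorem F43614 : act 4 n26431 = n23775 := (sb E4982 F42401)
theorem F43615 : act 6 n26431 = n12652 := (sb E4982 (iv6 D26496))
theorem F43616 : act 7 n26431 = n15909 := (sb E4982 F42402)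
def n27004 : Q := act 7 n12929
theorem D27004 : act 7 n12929 = n27004 := rfl
theorem F43617 : act 2 n27004 = n16998 := d4_1 D27004 (iv7 D16998) (iv2 F27248)
theorem F43618 : act 6 n27004 = n16987 := d14_1 D27004 (iv7 D16987) (iv6 D7933) (iv7 F27237) D12929
theorem F43619 : act 1 n16998 = n27001 := d15_0 (iv0 D27001) D27004 F43617
theorem F43620 : act 1 n16996 = n27004 := d15_1 D16996 (iv7 D27004) F27248
def n27005 : Q := act 4 n12931
theorem D27005 : act 4 n12931 = n27005 := rfl
theorem F43622 : act 2 n27005 = n17388 := d1_1 D27005 F28347 F24917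
theorem F43623 : act 7 n27005 = n16988 := d11_2 (iv7 F27240) D27005 (iv4 D16988)
theorem F43624 : act 0 n27005 = n15310 := d20_1 D27005 (iv4 D15310) D15309 F40394 (iv3 F28341) (iv4 F28362) (iv1 F28364) (iv4 D12779) D12778 (iv1 F27251)
theorem F43625 : act 0 n15305 = n27005 := d20_10 (iv4 D27005) F27250 (iv4 F21476) F21475 F12921 (iv3 F26479) (iv4 F12506) (iv1 F26706) (iv4 F43591) F43592
def n27006 : Q := act 6 n12931
theorem D27006 : act 6 n12931 = n27006 := rfl
theorem F43626 : act 3 n27006 = n12934 := d7_1 D27006 (iv6 D12934) D12931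
theorem F43627 : act 5 n26166 = n27006 := d21_2 D15070 (iv1 F41513) (iv6 D27006) F27250 (iv6 D6131) (iv5 F9352) (iv1 F27275) (iv5 D12609) (iv6 F41357) (iv1 F20668)
def n27007 : Q := act 5 n12932
theorem D27007 : act 5 n12932 = n27007 := rfl
theorem F43628 : act 2 n27007 = n16980 := d2_1 D27007 (iv5 D16980) (iv2 F27255)
theorem F43629 : act 7 n27007 = n16991 := d13_2 (iv7 F27241) D27007 (iv5 D16991)
def n27008 : Q := act 6 n12932
theorem D27008 : act 6 n12932 = n27008 := rfl
theorem F43630 : act 2 n27008 = n16981 := d3_1 D27008 (iv6 D16981) (iv2 F27255)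
theorem F43631 : act 4 n27008 = n12934 := d10_1 D27008 (iv6 D12934) D12932
def n27009 : Q := act 0 n12934
theorem D27009 : act 0 n12934 = n27009 := rfl
def n27010 : Q := act 1 n12934
theorem D27010 : act 1 n12934 = n27010 := rfl
theorem F43632 : act 1 n27010 = n16987 := d15_1 D27010 (iv7 D16987) F27256
def n27011 : Q := act 5 n12934
theorem D27011 : act 5 n12934 = n27011 := rfl
theorem F43633 : act 2 n27011 = n16986 := d2_1 D27011 (iv5 D16986) F27256
theorem F43634 : act 3 n27011 = n26166 := d6_1 D27011 F43627 F43626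
theorem F43635 : act 0 n26182 = n27011 := d21_1 D26182 (iv5 D27011) (iv6 D12934) (iv1 D6129) D6131 D12938 F42379 (iv5 D26485) F41543 (iv1 D26180)
def n27012 : Q := act 7 n12934
theorem D27012 : act 7 n12934 = n27012 := rfl
theorem F43636 : act 2 n27012 = n16987 := d4_1 D27012 (iv7 D16987) F27256
theorem F43637 : act 6 n27012 = n16998 := d14_1 D27012 (iv7 D16998) (iv6 D7938) F27239 D12934
theorem F43638 : act 1 n16987 = n27009 := d15_0 (iv0 D27009) D27012 F43636
theorem F43639 : act 1 n16985 = n27012 := d15_1 D16985 (iv7 D27012) (iv2 F27256)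
theorem F43640 : act 1 n27012 = n16984 := d15_0 (iv0 D16984) D16987 (iv2 F43636)
def n27013 : Q := act 5 n12936
theorem D27013 : act 5 n12936 = n27013 := rfl
theorem F43641 : act 2 n27013 = n16989 := d2_1 D27013 (iv5 D16989) (iv2 F27245)
theorem F43642 : act 3 n27013 = n26294 := d6_1 D27013 (iv5 D26294) (iv3 F27037)
theorem F43643 : act 7 n27013 = n26491 := d13_2 F27249 D27013 F42391
theorem F43644 : act 0 n27013 = n26494 := d21_1 D27013 F42396 (iv6 F43615) (iv1 D26431) (iv6 D12615) D12614 F27276 F9352 D6131 D12936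
theorem E4983 : n26490 = n16989 := ((c15_4 (iv0 D26490) D26491 (iv7 F43643) F43641)).symm
theorem F43645 : act 1 n16989 = n12650 := (sb E4983 (iv0 D26490))
theorem F43646 : act 1 n27013 = n26486 := d15_0 (iv0 F43065) (iv7 F35199) (iv2 F43641)
def n27014 : Q := act 6 n12936
theorem D27014 : act 6 n12936 = n27014 := rfl
theorem F43647 : act 2 n27014 = n16990 := d3_1 D27014 (iv6 D16990) (iv2 F27245)
theorem F43648 : act 3 n27014 = n26295 := d7_1 D27014 (iv6 D26295) (iv3 F27037)
def n27015 : Q := act 6 n12940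
theorem D27015 : act 6 n12940 = n27015 := rfl
theorem F43649 : act 2 n27015 = n17417 := d3_1 D27015 (iv6 D17417) F21496
theorem F43650 : act 3 n27015 = n16011 := d7_1 D27015 (iv6 D16011) (iv3 F26435)
def n27016 : Q := act 6 n12941
theorem D27016 : act 6 n12941 = n27016 := rfl
theorem F43651 : act 2 n27016 = n17418 := d3_1 D27016 (iv6 D17418) F21502
theorem F43652 : act 5 n27016 = n15881 := d12_1 D27016 (iv6 D15881) (iv5 D7448) (iv6 F11602) (iv5 F21501)
def n27017 : Q := act 3 n12942
theorem D27017 : act 3 n12942 = n27017 := rfl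
theorem F43653 : act 0 n27017 = n21551 := d20_4 F41706 (iv1 D12941) D12942 D27017 (iv3 D21551) (iv4 D10295) (iv1 F7268) D6286 (iv3 F20770) D26262
def n27018 : Q := act 6 n12943
theorem D27018 : act 6 n12943 = n27018 := rfl
theorem F43654 : act 2 n27018 = n17422 := d3_1 D27018 (iv6 D17422) (iv2 F21504)
theorem F43655 : act 5 n27018 = n17026 := d12_1 D27018 (iv6 D17026) F12577 (iv6 F9543) (iv5 F21505)
def n27019 : Q := act 6 n12944
theorem D27019 : act 6 n12944 = n27019 := rfl
theorem F43656 : act 2 n27019 = n17155 := d3_1 D27019 (iv6 D17155) (iv2 F21508)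
def n27020 : Q := act 5 n12945
theorem D27020 : act 5 n12945 = n27020 := rfl
theorem F43657 : act 3 n27020 = n12947 := d6_1 D27020 (iv5 D12947) (iv3 F21512)
theorem F43658 : act 7 n27020 = n17236 := d13_2 F21562 D27020 F28191
def n27021 : Q := act 5 n12946
theorem D27021 : act 5 n12946 = n27021 := rfl
theorem F43659 : act 2 n27021 = n17144 := d2_1 D27021 (iv5 D17144) (iv2 F21513)
theorem F43660 : act 3 n27021 = n16704 := d6_1 D27021 (iv5 D16704) (iv3 F21514)
def n27022 : Q := act 4 n12947
theorem D27022 : act 4 n12947 = n27022 := rfl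
theorem F43661 : act 2 n27022 = n17153 := d1_1 D27022 (iv4 D17153) (iv2 F21516)
theorem F43662 : act 7 n27022 = n17237 := d11_2 (iv7 F21517) D27022 (iv4 D17237)
def n27023 : Q := act 3 n12948
theorem D27023 : act 3 n12948 = n27023 := rfl
theorem F43663 : act 4 n27023 = n17451 := d5_2 D12948 D27023 (iv3 D17451) (iv4 D8206) (iv3 F9566)
theorem F43664 : act 7 n27023 = n17162 := d8_2 (iv7 F21521) D27023 (iv3 D17162)
def n27024 : Q := act 6 n12948
theorem D27024 : act 6 n12948 = n27024 := rfl
theorem F43665 : act 2 n27024 = n12960 := d3_1 D27024 (iv6 D12960) (iv2 F21520)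
theorem F43666 : act 4 n27024 = n12949 := d10_1 D27024 (iv6 D12949) D12948
def n27025 : Q := act 0 n12949
theorem D27025 : act 0 n12949 = n27025 := rfl
def n27026 : Q := act 1 n12949
theorem D27026 : act 1 n12949 = n27026 := rfl
theorem F43667 : act 1 n27026 = n12964 := d15_1 D27026 (iv7 D12964) (iv2 F21524)
def n27027 : Q := act 5 n12949
theorem D27027 : act 5 n12949 = n27027 := rfl
theorem F43668 : act 2 n27027 = n12963 := d2_1 D27027 (iv5 D12963) (iv2 F21524)
theorem F43669 : act 3 n27027 = n17455 := d6_1 D27027 (iv5 D17455) (iv3 F21525)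
theorem F43670 : act 6 n27027 = n12950 := d12_2 D12949 D27027 (iv5 D12950) (iv6 D6152) D6151
def n27028 : Q := act 7 n12949
theorem D27028 : act 7 n12949 = n27028 := rfl
theorem F43671 : act 2 n27028 = n12964 := d4_1 D27028 (iv7 D12964) (iv2 F21524)
theorem F43672 : act 3 n27028 = n17456 := d8_1 D27028 (iv7 D17456) (iv3 F21525)
theorem F43673 : act 6 n27028 = n17168 := d14_1 D27028 (iv7 D17168) (iv6 D8051) (iv7 F9567) D12949
theorem F43674 : act 1 n12964 = n27025 := d15_0 (iv0 D27025) D27028 F43671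
theorem F43675 : act 1 n12962 = n27028 := d15_1 D12962 (iv7 D27028) F21524
theorem F43676 : act 1 n27028 = n12961 := d15_0 (iv0 D12961) D12964 (iv2 F43671)
def n27029 : Q := act 4 n12950
theorem D27029 : act 4 n12950 = n27029 := rfl
theorem F43677 : act 2 n27029 = n12969 := d1_1 D27029 (iv4 D12969) (iv2 F21526)
def n27030 : Q := act 6 n12951
theorem D27030 : act 6 n12951 = n27030 := rfl
theorem F43678 : act 2 n27030 = n17985 := d3_1 D27030 (iv6 D17985) F21536
theorem F43679 : act 3 n27030 = n12953 := d7_1 D27030 (iv6 D12953) D12951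
theorem F43680 : act 5 n27030 = n17622 := d12_1 D27030 (iv6 D17622) (iv5 F13459) (iv6 F16986) (iv5 F21534)
def n27031 : Q := act 6 n12952
theorem D27031 : act 6 n12952 = n27031 := rfl
theorem F43681 : act 2 n27031 = n17186 := d3_1 D27031 (iv6 D17186) (iv2 F21538)
theorem F43682 : act 4 n27031 = n12953 := d10_1 D27031 (iv6 D12953) D12952
def n27032 : Q := act 0 n12953
theorem D27032 : act 0 n12953 = n27032 := rfl
def n27033 : Q := act 1 n12953
theorem D27033 : act 1 n12953 = n27033 := rfl
def n27034 : Q := act 7 n12953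
theorem D27034 : act 7 n12953 = n27034 := rfl
theorem F43684 : act 2 n27034 = n17189 := d4_1 D27034 (iv7 D17189) (iv2 F21540)
theorem F43685 : act 5 n27034 = n17629 := d13_1 D27034 (iv7 D17629) (iv5 F21541)
theorem F43686 : act 6 n27034 = n17180 := d14_1 D27034 (iv7 D17180) (iv6 D8060) (iv7 F13437) D12953
theorem F43687 : act 1 n17189 = n27032 := d15_0 (iv0 D27032) D27034 F43684
theorem F43688 : act 1 n17188 = n27034 := d15_1 D17188 (iv7 D27034) F21540
theorem F43689 : act 1 n27034 = n17187 := d15_0 (iv0 D17187) D17189 (iv2 F43684)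
def n27035 : Q := act 6 n12954
theorem D27035 : act 6 n12954 = n27035 := rfl
theorem F43690 : act 3 n27035 = n12956 := d7_1 D27035 (iv6 D12956) D12954
def n27036 : Q := act 3 n12955
theorem D27036 : act 3 n12955 = n27036 := rfl
theorem F43691 : act 7 n27036 = n17184 := d8_2 (iv7 F21545) D27036 (iv3 D17184)
def n27037 : Q := act 6 n12955
theorem D27037 : act 6 n12955 = n27037 := rfl
theorem F43692 : act 2 n27037 = n17176 := d3_1 D27037 (iv6 D17176) (iv2 F21544)
theorem F43693 : act 4 n27037 = n12956 := d10_1 D27037 (iv6 D12956) D12955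
def n27038 : Q := act 0 n12956
theorem D27038 : act 0 n12956 = n27038 := rfl
def n27039 : Q := act 1 n12956
theorem D27039 : act 1 n12956 = n27039 := rfl
theorem F43694 : act 1 n27039 = n17180 := d15_1 D27039 (iv7 D17180) (iv2 F21546)
def n27040 : Q := act 7 n12956
theorem D27040 : act 7 n12956 = n27040 := rfl
theorem F43695 : act 2 n27040 = n17180 := d4_1 D27040 (iv7 D17180) (iv2 F21546)
theorem F43696 : act 6 n27040 = n17189 := d14_1 D27040 (iv7 D17189) (iv6 D8065) (iv7 F13441) D12956
theorem F43697 : act 1 n17180 = n27038 := d15_0 (iv0 D27038) D27040 F43695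
theorem F43698 : act 1 n17178 = n27040 := d15_1 D17178 (iv7 D27040) F21546
theorem F43699 : act 1 n27040 = n17177 := d15_0 (iv0 D17177) D17180 (iv2 F43695)
def n27041 : Q := act 3 n12957
theorem D27041 : act 3 n12957 = n27041 := rfl
theorem F43700 : act 7 n27041 = n17190 := d8_2 F21550 D27041 (iv3 D17190)
def n27042 : Q := act 5 n12957
theorem D27042 : act 5 n12957 = n27042 := rfl
theorem F43701 : act 2 n27042 = n17194 := d2_1 D27042 (iv5 D17194) F21549
theorem F43702 : act 4 n27042 = n17469 := d9_1 D27042 (iv5 D17469) (iv4 D8219) (iv5 F13340) D3751 D8355 F21553 F42452 F42455 (iv5 D17462) (iv4 D8214) (iv5 F13334) D3746 D8343 (iv4 F21547)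
theorem F43703 : act 7 n27042 = n17191 := d13_2 F21550 D27042 (iv5 D17191)
theorem F43704 : act 0 n27042 = n17617 := d17_2 D12957 D27042 (iv5 D17617) (iv4 D8299) (iv5 D3733) F4179 (iv5 F13345) (iv0 D6153) D6155
theorem F43705 : act 1 n27042 = n13015 := d17_6 (iv1 F13481) (iv5 D3847) F5823 D8343 (iv4 F21547) D27042 (iv5 D13015) D13014 (iv4 F21658)
def n27043 : Q := act 6 n12957
theorem D27043 : act 6 n12957 = n27043 := rfl
theorem F43706 : act 2 n27043 = n17195 := d3_1 D27043 (iv6 D17195) F21549
theorem F43707 : act 4 n27043 = n17736 := d10_1 D27043 (iv6 D17736) (iv4 F21547)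
def n27044 : Q := act 6 n12958
theorem D27044 : act 6 n12958 = n27044 := rfl
theorem F43708 : act 2 n27044 = n17192 := d3_1 D27044 (iv6 D17192) F21554
theorem F43709 : act 4 n27044 = n17737 := d10_1 D27044 (iv6 D17737) F21553
def n27045 : Q := act 6 n12959
theorem D27045 : act 6 n12959 = n27045 := rfl
def n27046 : Q := act 0 n12960
theorem D27046 : act 0 n12960 = n27046 := rfl
def n27047 : Q := act 1 n12960
theorem D27047 : act 1 n12960 = n27047 := rfl
def n27048 : Q := act 5 n12960
theorem D27048 : act 5 n12960 = n27048 := rfl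
def n27049 : Q := act 7 n12960
theorem D27049 : act 7 n12960 = n27049 := rfl
theorem F43710 : act 4 n27049 = n12964 := d11_1 D27049 (iv7 D12964) (iv4 F21556)
theorem F43711 : act 6 n27049 = n17203 := d14_1 D27049 (iv7 D17203) (iv6 D8069) (iv7 F9575) D12960
def n27050 : Q := act 2 n12961
theorem D27050 : act 2 n12961 = n27050 := rfl
theorem F43712 : act 7 n12962 = n27050 := d15_2 (iv0 D12961) D12962 (iv2 D27050)
def n27051 : Q := act 3 n12961
theorem D27051 : act 3 n12961 = n27051 := rfl
def n27052 : Q := act 4 n12961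
theorem D27052 : act 4 n12961 = n27052 := rfl
def n27053 : Q := act 5 n12961
theorem D27053 : act 5 n12961 = n27053 := rfl
def n27054 : Q := act 6 n12961
theorem D27054 : act 6 n12961 = n27054 := rfl
def n27055 : Q := act 7 n12961
theorem D27055 : act 7 n12961 = n27055 := rfl
theorem F43713 : act 2 n27055 = n12962 := d4_1 D27055 F43712 (iv2 D27050)
def n27056 : Q := act 3 n12962
theorem D27056 : act 3 n12962 = n27056 := rfl
def n27057 : Q := act 4 n12962
theorem D27057 : act 4 n12962 = n27057 := rfl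
def n27058 : Q := act 5 n12962
theorem D27058 : act 5 n12962 = n27058 := rfl
def n27059 : Q := act 6 n12962
theorem D27059 : act 6 n12962 = n27059 := rfl
def n27060 : Q := act 0 n12963
theorem D27060 : act 0 n12963 = n27060 := rfl
def n27061 : Q := act 1 n12963
theorem D27061 : act 1 n12963 = n27061 := rfl
def n27062 : Q := act 4 n12963
theorem D27062 : act 4 n12963 = n27062 := rfl
theorem F43714 : act 6 n27062 = n12969 := d10_2 (iv6 F21558) D27062 (iv4 D12969)
def n27063 : Q := act 7 n12963
theorem D27063 : act 7 n12963 = n27063 := rfl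
theorem F43715 : act 3 n27063 = n12984 := d8_1 D27063 (iv7 D12984) (iv3 F21557)
theorem F43716 : act 5 n27063 = n12964 := d13_1 D27063 (iv7 D12964) D12963
def n27064 : Q := act 5 n12966
theorem D27064 : act 5 n12966 = n27064 := rfl
theorem F43717 : act 2 n27064 = n17613 := d2_1 D27064 (iv5 D17613) (iv2 F21563)
theorem F43718 : act 3 n27064 = n13046 := d6_1 D27064 (iv5 D13046) (iv3 F21566)
theorem F43719 : act 7 n27064 = n27021 := d13_2 (iv7 F21565) D27064 (iv5 D27021)
theorem F43720 : act 4 n27064 = n26925 := d20_6 D8259 (iv1 F13743) (iv4 D8840) D8839 F21744 (iv3 F43718) (iv1 D26925) (iv4 D12883) F9484 (iv1 F5719)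
def n27065 : Q := act 3 n12967
theorem D27065 : act 3 n12967 = n27065 := rfl
theorem F43721 : act 5 n27065 = n17171 := d6_2 F21677 D27065 (iv3 D17171)
theorem F43722 : act 7 n27065 = n17220 := d8_2 F21673 D27065 F28168
theorem F43723 : act 0 n22946 = n27065 := d17_2 (iv1 F27386) D22946 F43721 F28127 F30110 F30108 (iv5 D16702) (iv0 F16995) (iv4 F21738)
def n27066 : Q := act 4 n12967
theorem D27066 : act 4 n12967 = n27066 := rfl
theorem F43724 : act 2 n27066 = n17234 := d1_1 D27066 (iv4 D17234) F21672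
def n27067 : Q := act 6 n12967
theorem D27067 : act 6 n12967 = n27067 := rfl
theorem F43726 : act 2 n27067 = n17235 := d3_1 D27067 (iv6 D17235) F21672
theorem F43727 : act 5 n27067 = n27067 := d12_1 D27067 (iv6 D27067) (iv5 F21677) F21678 F21677
def n27068 : Q := act 3 n12968
theorem D27068 : act 3 n12968 = n27068 := rfl
theorem F43728 : act 5 n27068 = n17169 := d6_2 (iv5 F21567) D27068 (iv3 D17169)
theorem F43729 : act 7 n27068 = n17231 := d8_2 F21699 D27068 F28182
def n27069 : Q := act 4 n12968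
theorem D27069 : act 4 n12968 = n27069 := rfl
theorem F43730 : act 2 n27069 = n17225 := d1_1 D27069 (iv4 D17225) (iv2 F21700)
theorem F43731 : act 7 n27069 = n17234 := d11_2 F21699 D27069 (iv4 D17234)
def n27070 : Q := act 6 n12968
theorem D27070 : act 6 n12968 = n27070 := rfl
theorem F43732 : act 2 n27070 = n17226 := d3_1 D27070 (iv6 D17226) (iv2 F21700)
def n27071 : Q := act 0 n12969
theorem D27071 : act 0 n12969 = n27071 := rfl
def n27072 : Q := act 1 n12969
theorem D27072 : act 1 n12969 = n27072 := rfl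
def n27073 : Q := act 3 n12969
theorem D27073 : act 3 n12969 = n27073 := rfl
theorem F43733 : act 4 n27073 = n12985 := d5_2 D12969 D27073 (iv3 D12985) (iv4 D6165) (iv3 F9577)
def n27074 : Q := act 5 n12969
theorem D27074 : act 5 n12969 = n27074 := rfl
def n27075 : Q := act 7 n12969
theorem D27075 : act 7 n12969 = n27075 := rfl
theorem F43734 : act 4 n27075 = n12970 := d11_1 D27075 (iv7 D12970) D12969
def n27076 : Q := act 6 n12970
theorem D27076 : act 6 n12970 = n27076 := rfl
theorem F43735 : act 3 n27076 = n12986 := d7_1 D27076 (iv6 D12986) (iv3 F21569)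
theorem F43736 : act 5 n27076 = n17244 := d12_1 D27076 (iv6 D17244) F12871 (iv6 F9580) (iv5 F21570)
def n27077 : Q := act 0 n12972
theorem D27077 : act 0 n12972 = n27077 := rfl
theorem F43737 : act 1 n17554 = n27077 := d15_0 (iv0 D27077) F30516 D17554
def n27078 : Q := act 1 n12972
theorem D27078 : act 1 n12972 = n27078 := rfl
def n27079 : Q := act 2 n12972
theorem D27079 : act 2 n12972 = n27079 := rfl
theorem F43738 : act 3 n27079 = n17532 := d0_2 D12972 D27079 (iv2 D17532) (iv3 D8243) (iv2 F30514)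
theorem F43739 : act 7 n27079 = n17554 := d4_2 (iv7 F30516) D27079 (iv2 D17554)
theorem F43740 : act 1 n27079 = n17552 := d15_0 (iv0 D17552) (iv7 F30516) D27079
theorem F43742 : act 1 n17553 = n27079 := d15_1 D17553 F43739 (iv2 D17554)
def n27080 : Q := act 4 n12972
theorem D27080 : act 4 n12972 = n27080 := rfl
theorem F43743 : act 7 n27080 = n17555 := d11_2 (iv7 F30516) D27080 (iv4 D17555)
def n27081 : Q := act 5 n12972
theorem D27081 : act 5 n12972 = n27081 := rfl
theorem F43744 : act 3 n27081 = n12974 := d6_1 D27081 (iv5 D12974) D12972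
theorem F43745 : act 7 n27081 = n17556 := d13_2 (iv7 F30516) D27081 (iv5 D17556)
def n27082 : Q := act 6 n12972
theorem D27082 : act 6 n12972 = n27082 := rfl
theorem F43746 : act 3 n27082 = n12975 := d7_1 D27082 (iv6 D12975) D12972
theorem F43747 : act 5 n17840 = n27082 := d6_0 F43746 F21574 D17840
def n27083 : Q := act 0 n12974
theorem D27083 : act 0 n12974 = n27083 := rfl
theorem F43748 : act 5 n27083 = n17695 := d21_2 D12974 D27083 (iv6 D17695) (iv1 D8330) (iv6 D3741) F2818 (iv1 F2217) D1213 D2593 D6161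
theorem F43749 : act 1 n12979 = n27083 := d15_0 (iv0 D27083) F30520 (iv2 F30501)
theorem E4984 : n17719 = n17695 := (c21_11 (iv5 F43748) (iv1 F43749) (iv5 D12979) D12980 F30508 F28239 (iv5 F30398) (iv1 D17716) (iv5 D8335) D8336 D17719)
theorem F43750 : act 0 n17695 = n17569 := (sb E4984 (iv1 F28831))
theorem F43751 : act 1 n17695 = n8336 := (sb E4984 (iv0 D17719))
theorem F43752 : act 0 n26947 = n17694 := d21_7 (iv5 D17569) (iv1 F21584) F21581 F9585 (iv1 F9488) D12893 D26947 (iv5 D17694) D17695 F43750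
def n27084 : Q := act 1 n12974
theorem D27084 : act 1 n12974 = n27084 := rfl
theorem F43753 : act 1 n27084 = n12979 := d15_1 D27084 F30502 (iv2 F30519)
theorem F43754 : act 5 n27084 = n17720 := d21_2 D12979 (iv1 F43753) (iv6 F28828) F28553 F28552 (iv5 D17314) (iv1 F21404) F21401 F9492 (iv1 F9581)
theorem F43755 : act 6 n27084 = n17265 := d21_5 F28231 F30523 (iv5 F30499) F21576 (iv1 F43753) (iv5 F28208) F28593 (iv5 F28235) (iv6 D17290) D17287
def n27085 : Q := act 4 n12974
theorem D27085 : act 4 n12974 = n27085 := rfl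
theorem F43756 : act 2 n27085 = n17545 := d1_1 D27085 (iv4 D17545) (iv2 F30519)
theorem F43757 : act 7 n27085 = n17561 := d11_2 (iv7 F30520) D27085 (iv4 D17561)
def n27086 : Q := act 6 n12974
theorem D27086 : act 6 n12974 = n27086 := rfl
theorem F43758 : act 2 n27086 = n17546 := d3_1 D27086 (iv6 D17546) (iv2 F30519)
theorem F43759 : act 5 n27086 = n17842 := d12_1 D27086 (iv6 D17842) (iv5 F21574) (iv6 D12975) D12974
def n27087 : Q := act 0 n12975
theorem D27087 : act 0 n12975 = n27087 := rfl
def n27088 : Q := act 1 n12975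
theorem D27088 : act 1 n12975 = n27088 := rfl
theorem F43761 : act 1 n27088 = n17550 := d15_1 D27088 (iv7 D17550) (iv2 F30521)
theorem F43762 : act 6 n17307 = n27088 := d21_3 (iv5 F13036) D17590 (iv5 F28592) (iv1 D27088) (iv6 D12975) D12974 D27083 F43748 (iv6 D17695) (iv1 D8330)
def n27089 : Q := act 7 n12975
theorem D27089 : act 7 n12975 = n27089 := rfl
theorem F43763 : act 2 n27089 = n17550 := d4_1 D27089 (iv7 D17550) (iv2 F30521)
theorem F43764 : act 5 n27089 = n13037 := d13_1 D27089 F30477 (iv5 F21574)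
theorem F43765 : act 6 n27089 = n17565 := d14_1 D27089 (iv7 D17565) (iv6 D8251) (iv7 F30515) D12975
theorem E4985 : n27087 = n19045 := ((c15_1 (iv0 F30551) (iv0 D27087) D27089 F43763)).symm
theorem F43766 : act 1 n19045 = n12975 := (sb E4985 (iv0 D27087))
theorem F43767 : act 1 n17549 = n27089 := d15_1 D17549 (iv7 D27089) F30521
theorem F43768 : act 6 n17816 = n17854 := d21_3 (iv5 F43764) (iv1 F43767) (iv5 F43461) (iv1 D17854) (iv6 D8415) (iv5 D3768) (iv1 F2824) D2607 (iv6 F9656) D13037
theorem E4986 : n18108 = n17843 := ((c18_3 (iv1 D8407) D8408 D17843 (iv4 D18108) D18109 F42745 (iv0 D26677) (iv4 F41673) F43766 F21574)).symm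
theorem F43769 : act 4 n17843 = n8538 := (sb E4986 (iv4 D18108))
theorem F43770 : act 0 n16414 = n27089 := d21_4 D17734 (iv1 F28961) (iv5 D16413) D16414 F43765 (iv5 F28941) F28987 (iv5 D17673) D17674 F30417
theorem E4987 : n17548 = n16414 := ((c15_1 (iv0 F43770) (iv0 D17548) D17550 (iv2 F43763))).symm
theorem F43771 : act 1 n16414 = n8246 := (sb E4987 (iv0 D17548))
def n27090 : Q := act 0 n12977
theorem D27090 : act 0 n12977 = n27090 := rfl
theorem F43772 : act 1 n17532 = n27090 := d15_0 (iv0 D27090) F30504 D17532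
def n27091 : Q := act 1 n12977
theorem D27091 : act 1 n12977 = n27091 := rfl
def n27092 : Q := act 2 n12977
theorem D27092 : act 2 n12977 = n27092 := rfl
theorem F43773 : act 3 n27092 = n17554 := d0_2 D12977 D27092 (iv2 D17554) (iv3 D8248) F30503
theorem F43774 : act 7 n27092 = n17532 := d4_2 (iv7 F30504) D27092 (iv2 D17532)
theorem F43776 : act 1 n27091 = n17532 := d15_1 D27091 (iv7 F43774) (iv2 D27092)
def n27093 : Q := act 4 n12977
theorem D27093 : act 4 n12977 = n27093 := rfl
theorem F43778 : act 7 n27093 = n17533 := d11_2 (iv7 F30504) D27093 (iv4 D17533)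
def n27094 : Q := act 5 n12977
theorem D27094 : act 5 n12977 = n27094 := rfl
theorem F43779 : act 3 n27094 = n12979 := d6_1 D27094 (iv5 D12979) D12977
theorem F43780 : act 7 n27094 = n17534 := d13_2 (iv7 F30504) D27094 (iv5 D17534)
theorem F43781 : act 6 n26948 = n27094 := d7_0 F43779 (iv6 F21576) D26948
def n27095 : Q := act 6 n12977
theorem D27095 : act 6 n12977 = n27095 := rfl
theorem F43782 : act 3 n27095 = n12980 := d7_1 D27095 (iv6 D12980) D12977
def n27096 : Q := act 4 n12979
theorem D27096 : act 4 n12979 = n27096 := rfl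
theorem F43783 : act 2 n27096 = n17561 := d1_1 D27096 (iv4 D17561) (iv2 F30501)
theorem F43784 : act 6 n27096 = n18554 := d10_2 F21576 D27096 F41956
theorem F43785 : act 7 n27096 = n17545 := d11_2 (iv7 F30502) D27096 (iv4 D17545)
def n27097 : Q := act 5 n12980
theorem D27097 : act 5 n12980 = n27097 := rfl
theorem F43786 : act 2 n27097 = n17564 := d2_1 D27097 (iv5 D17564) (iv2 F30510)
theorem F43788 : act 7 n27097 = n13036 := d13_2 (iv7 F30512) D27097 F30454
theorem F43789 : act 0 n27097 = n17678 := d18_0 (iv4 F42954) (iv1 F43211) F29945 (iv5 F13669) D18763 (iv0 F30423) F30425 (iv0 F30508) D27097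
theorem F43790 : act 0 n17673 = n27097 := d21_1 D17673 (iv5 D27097) (iv6 D12980) (iv1 D6162) (iv6 D2593) (iv5 D1213) (iv1 F2220) (iv5 F2812) D3739 D8323
def n27098 : Q := act 3 n12981
theorem D27098 : act 3 n12981 = n27098 := rfl
theorem F43791 : act 7 n27098 = n17572 := d8_2 (iv7 F28824) D27098 (iv3 D17572)
def n27099 : Q := act 6 n12981
theorem D27099 : act 6 n12981 = n27099 := rfl
theorem F43792 : act 2 n27099 = n17570 := d3_1 D27099 (iv6 D17570) (iv2 F28823)
theorem F43793 : act 5 n27099 = n17601 := d21_6 F5680 F2939 D2594 (iv6 F9583) D12981 D27099 (iv1 D17601) (iv5 F21435) (iv6 D12908) (iv1 F9510)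
def n27100 : Q := act 3 n12982
theorem D27100 : act 3 n12982 = n27100 := rfl
theorem F43794 : act 7 n27100 = n17567 := d8_2 (iv7 F28801) D27100 (iv3 D17567)
def n27101 : Q := act 6 n12982
theorem D27101 : act 6 n12982 = n27101 := rfl
theorem F43796 : act 5 n27101 = n17310 := d12_1 D27101 F28249 (iv5 D13002) D13003 F21625
theorem F43797 : act 7 n17309 = n27101 := d13_0 F43796 (iv7 D17310) D17309
theorem F43798 : act 0 n17694 = n27101 := d21_1 D17694 F43796 F28249 (iv1 F28238) (iv6 F28239) (iv5 D8908) (iv1 F13782) F13778 F13135 (iv1 F13146)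
theorem F43799 : act 0 n27101 = n17690 := d21_1 (iv5 F43796) (iv5 D17690) (iv6 F28746) F43210 (iv6 D8405) D8404 (iv1 F28982) F43461 (iv6 F43460) (iv1 F43459)
def n27102 : Q := act 0 n12983
theorem D27102 : act 0 n12983 = n27102 := rfl
def n27103 : Q := act 1 n12983
theorem D27103 : act 1 n12983 = n27103 := rfl
theorem F43800 : act 1 n27103 = n17579 := d15_1 D27103 (iv7 D17579) (iv2 F21578)
theorem F43801 : act 4 n27103 = n13245 := d18_7 (iv1 F9787) (iv4 F42641) (iv1 D12722) F9351 D6163 D12983 D27103 F22043 F13641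
theorem F43802 : act 2 n17576 = n27103 := d1_3 F43801 F29888 (iv4 F42190)
theorem F43803 : act 7 n18619 = n27103 := d11_0 F43801 (iv7 F29886) D18619
theorem F43804 : act 2 n18619 = n27102 := d15_3 (iv0 D27102) D27103 (iv7 F43803)
theorem F43805 : act 4 n27102 = n13244 := d1_2 D18619 F43804 F29889
theorem F43806 : act 7 n27102 = n17576 := d4_2 (iv7 F43803) F43804 F43802
theorem E4988 : n18619 = n17575 := (c15_4 (iv0 D17575) D17576 (iv7 F43806) (iv2 F43804))
theorem F43807 : act 2 n17575 = n27102 := (sb E4988 F43804)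
theorem F43808 : act 4 n17575 = n8742 := (sb E4988 (iv4 D18619))
theorem F43809 : act 7 n17575 = n27103 := (sb E4988 F43803)
theorem F43810 : act 1 n17579 = n27102 := d15_1 F43800 F43806 F43802
def n27104 : Q := act 3 n12983
theorem D27104 : act 3 n12983 = n27104 := rfl
theorem F43811 : act 6 n27104 = n12985 := d7_2 (iv6 F21579) D27104 (iv3 D12985)
def n27105 : Q := act 5 n12983
theorem D27105 : act 5 n12983 = n27105 := rfl
theorem F43812 : act 2 n27105 = n17578 := d2_1 D27105 (iv5 D17578) (iv2 F21578)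
def n27106 : Q := act 7 n12983
theorem D27106 : act 7 n12983 = n27106 := rfl
theorem F43813 : act 2 n27106 = n17579 := d4_1 D27106 (iv7 D17579) (iv2 F21578)
theorem F43814 : act 4 n27106 = n12984 := d11_1 D27106 (iv7 D12984) D12983
theorem F43815 : act 1 n17576 = n27106 := d15_1 D17576 (iv7 D27106) F21578
theorem F43816 : act 1 n27106 = n17575 := d15_1 F43815 F43809 (iv2 F43802)
def n27107 : Q := act 6 n12984
theorem D27107 : act 6 n12984 = n27107 := rfl
theorem F43817 : act 2 n27107 = n17580 := d3_1 D27107 (iv6 D17580) (iv2 F21580)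
theorem F43818 : act 5 n27107 = n17324 := d12_1 D27107 (iv6 D17324) F12881 (iv6 F9585) (iv5 F21581)
theorem F43819 : act 7 n27107 = n12986 := d14_2 D12984 D27107 (iv6 D12986) (iv7 D6166) (iv6 F9583)
theorem F43820 : act 0 n17306 = n27107 := d21_4 F21401 (iv1 F9494) D8105 D17306 (iv6 D27107) F21581 (iv1 F9587) D8250 (iv6 F13023) (iv1 F21404)
theorem F43821 : act 1 n17601 = n27107 := d15_1 D17601 F43819 F21585
def n27108 : Q := act 0 n12985
theorem D27108 : act 0 n12985 = n27108 := rfl
def n27109 : Q := act 1 n12985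
theorem D27109 : act 1 n12985 = n27109 := rfl
def n27110 : Q := act 2 n12985
theorem D27110 : act 2 n12985 = n27110 := rfl
theorem F43822 : act 3 n27110 = n17600 := d0_2 D12985 D27110 (iv2 D17600) (iv3 D8266) (iv2 F9589)
def n27111 : Q := act 1 n12986
theorem D27111 : act 1 n12986 = n27111 := rfl
theorem F43823 : act 1 n27111 = n17580 := d15_1 D27111 F28559 (iv2 F21585)
theorem F43824 : act 7 n27111 = n17306 := d15_2 (iv0 F43456) D27111 (iv2 F43454)
theorem F43825 : act 5 n17570 = n27111 := d21_6 (iv5 D3717) (iv1 D1628) D1629 (iv6 F5713) D8252 D17570 (iv1 D27111) F21586 (iv6 D8129) (iv1 F5726)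
theorem F43826 : act 2 n27111 = n17601 := d2_1 F43825 (iv5 F43793) F43792
def n27112 : Q := act 6 n12987
theorem D27112 : act 6 n12987 = n27112 := rfl
theorem F43827 : act 2 n27112 = n17737 := d3_1 D27112 (iv6 D17737) (iv2 F21587)
theorem F43828 : act 3 n27112 = n19158 := d7_1 D27112 (iv6 D19158) (iv3 F21588)
theorem F43829 : act 4 n27112 = n17192 := d10_1 D27112 (iv6 D17192) (iv4 F21591)
def n27113 : Q := act 5 n12988
theorem D27113 : act 5 n12988 = n27113 := rfl
theorem F43830 : act 2 n27113 = n17510 := d2_1 D27113 (iv5 D17510) (iv2 F21594)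
theorem F43831 : act 3 n27113 = n19159 := d6_1 D27113 (iv5 D19159) (iv3 F21595)
theorem F43832 : act 7 n27113 = n17505 := d13_2 (iv7 F21597) D27113 (iv5 D17505)
theorem F43833 : act 1 n27113 = n18469 := d17_6 (iv1 F21353) (iv5 F21393) F21603 (iv5 D12989) (iv4 F21596) D27113 F29652 (iv0 F30729) F27360
def n27114 : Q := act 4 n12989
theorem D27114 : act 4 n12989 = n27114 := rfl
theorem F43834 : act 2 n27114 = n17511 := d1_1 D27114 (iv4 D17511) (iv2 F21599)
theorem F43835 : act 7 n27114 = n17507 := d11_2 (iv7 F21601) D27114 (iv4 D17507)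
def n27115 : Q := act 3 n12990
theorem D27115 : act 3 n12990 = n27115 := rfl
theorem F43836 : act 4 n27115 = n17616 := d5_2 D12990 D27115 (iv3 D17616) (iv4 D8299) (iv3 F9610)
theorem F43837 : act 7 n27115 = n17738 := d8_2 (iv7 F21605) D27115 (iv3 D17738)
def n27116 : Q := act 5 n12990
theorem D27116 : act 5 n12990 = n27116 := rfl
theorem F43838 : act 2 n27116 = n12994 := d2_1 D27116 (iv5 D12994) (iv2 F21604)
theorem F43839 : act 4 n27116 = n13015 := d9_1 D27116 (iv5 D13015) (iv4 D6194) (iv5 D2604) F2275 D1642 D3758 D8378 (iv4 F28651) (iv5 D17617) (iv4 D8299) (iv5 D3733) (iv4 F4169) D6172 D12990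
theorem F43841 : act 0 n27116 = n17479 := d17_2 (iv1 F21607) D27116 (iv5 D17479) (iv4 F21640) (iv5 D13009) (iv0 F9635) D9005 F14044 (iv4 F13318)
theorem F43842 : act 1 n27116 = n17476 := d17_6 D3702 (iv5 F13334) (iv1 F4172) D6172 D12990 D27116 (iv5 D17476) (iv0 D8222) (iv4 D3704)
def n27117 : Q := act 6 n12990
theorem D27117 : act 6 n12990 = n27117 := rfl
theorem F43843 : act 2 n27117 = n12995 := d3_1 D27117 (iv6 D12995) (iv2 F21604)
theorem F43844 : act 4 n27117 = n12991 := d10_1 D27117 (iv6 D12991) D12990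
def n27118 : Q := act 0 n12991
theorem D27118 : act 0 n12991 = n27118 := rfl
def n27119 : Q := act 1 n12991
theorem D27119 : act 1 n12991 = n27119 := rfl
theorem F43846 : act 5 n26907 = n27119 := d21_6 (iv5 F13320) (iv1 D2569) D2571 D6105 D12875 D26907 (iv1 D27119) F21610 (iv6 D12991) (iv1 F9612)
def n27120 : Q := act 7 n12991
theorem D27120 : act 7 n12991 = n27120 := rfl
theorem F43847 : act 2 n27120 = n12998 := d4_1 D27120 (iv7 D12998) (iv2 F21608)
theorem F43848 : act 3 n27120 = n17621 := d8_1 D27120 (iv7 D17621) (iv3 F21609)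
theorem F43849 : act 5 n27120 = n27120 := d13_1 D27120 (iv7 D27120) F21610
theorem F43850 : act 6 n27120 = n17743 := d14_1 D27120 (iv7 D17743) (iv6 D8364) (iv7 F9611) D12991
theorem F43851 : act 1 n12998 = n27118 := d15_0 (iv0 D27118) D27120 F43847
theorem F43852 : act 1 n12997 = n27120 := d15_1 D12997 (iv7 D27120) F21608
theorem F43853 : act 1 n27120 = n12996 := d15_0 (iv0 D12996) D12998 (iv2 F43847)
def n27121 : Q := act 3 n12992
theorem D27121 : act 3 n12992 = n27121 := rfl
theorem F43854 : act 7 n27121 = n17761 := d8_2 F21614 D27121 (iv3 D17761)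
def n27122 : Q := act 6 n12992
theorem D27122 : act 6 n12992 = n27122 := rfl
theorem F43855 : act 2 n27122 = n17766 := d3_1 D27122 (iv6 D17766) F21613
theorem F43856 : act 4 n27122 = n27019 := d10_1 D27122 (iv6 D27019) (iv4 F21611)
def n27123 : Q := act 6 n12993
theorem D27123 : act 6 n12993 = n27123 := rfl
theorem F43857 : act 2 n27123 = n17763 := d3_1 D27123 (iv6 D17763) F21618
theorem F43858 : act 4 n27123 = n18013 := d10_1 D27123 (iv6 D18013) (iv4 F21617)
def n27124 : Q := act 4 n12994
theorem D27124 : act 4 n12994 = n27124 := rfl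
theorem F43859 : act 2 n27124 = n13015 := d1_1 D27124 (iv4 F43839) F43838
theorem F43860 : act 5 n27124 = n13010 := d9_2 D12994 D27124 (iv4 D13010) (iv5 D6190) F4181 D3754 D8363 (iv5 F28724) (iv4 D17646) (iv5 D8313) (iv4 D3736) (iv5 D1635) (iv4 F2270) D2599 D6175
theorem F43861 : act 7 n27124 = n17617 := d11_2 (iv7 F21619) D27124 F28651
theorem F43862 : act 0 n27124 = n17194 := d17_0 (iv5 D17194) (iv1 D8067) D8068 D17198 F28159 F21373 D26894 F43388 D27124
theorem F43863 : act 1 n27124 = n17191 := d18_8 (iv1 F21523) (iv4 D12948) (iv1 F9568) D8063 D17185 (iv4 F43385) F43388 D27124 (iv5 D17191)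
def n27125 : Q := act 6 n12994
theorem D27125 : act 6 n12994 = n27125 := rfl
def n27126 : Q := act 0 n12995
theorem D27126 : act 0 n12995 = n27126 := rfl
def n27127 : Q := act 1 n12995
theorem D27127 : act 1 n12995 = n27127 := rfl
def n27129 : Q := act 7 n12995
theorem D27129 : act 7 n12995 = n27129 := rfl
theorem F43864 : act 4 n27129 = n12998 := d11_1 D27129 (iv7 D12998) (iv4 F21620)
theorem F43865 : act 6 n27129 = n17771 := d14_1 D27129 (iv7 D17771) (iv6 D8379) (iv7 F9616) D12995
def n27130 : Q := act 2 n12996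
theorem D27130 : act 2 n12996 = n27130 := rfl
theorem F43866 : act 7 n12997 = n27130 := d15_2 (iv0 D12996) D12997 (iv2 D27130)
def n27131 : Q := act 3 n12996
theorem D27131 : act 3 n12996 = n27131 := rfl
def n27132 : Q := act 4 n12996
theorem D27132 : act 4 n12996 = n27132 := rfl
def n27133 : Q := act 5 n12996
theorem D27133 : act 5 n12996 = n27133 := rfl
def n27134 : Q := act 6 n12996
theorem D27134 : act 6 n12996 = n27134 := rfl
def n27135 : Q := act 7 n12996
theorem D27135 : act 7 n12996 = n27135 := rfl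
theorem F43867 : act 2 n27135 = n12997 := d4_1 D27135 F43866 (iv2 D27130)
def n27136 : Q := act 3 n12997
theorem D27136 : act 3 n12997 = n27136 := rfl
def n27137 : Q := act 4 n12997
theorem D27137 : act 4 n12997 = n27137 := rfl
def n27138 : Q := act 5 n12997
theorem D27138 : act 5 n12997 = n27138 := rfl
theorem F43868 : act 6 n26873 = n27138 := d21_5 (iv5 D3693) (iv1 F4096) D6100 D12863 D26873 (iv5 D27138) (iv1 D12997) F9618 (iv6 D6176) (iv1 F13416)
def n27139 : Q := act 6 n12997
theorem D27139 : act 6 n12997 = n27139 := rfl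
def n27140 : Q := act 0 n13000
theorem D27140 : act 0 n13000 = n27140 := rfl
theorem F43869 : act 1 n17724 = n27140 := d15_0 (iv0 D27140) F28792 D17724
def n27141 : Q := act 1 n13000
theorem D27141 : act 1 n13000 = n27141 := rfl
def n27142 : Q := act 2 n13000
theorem D27142 : act 2 n13000 = n27142 := rfl
theorem F43870 : act 3 n27142 = n17704 := d0_2 D13000 D27142 (iv2 D17704) (iv3 D8333) F28791
theorem F43871 : act 7 n27142 = n17724 := d4_2 (iv7 F28792) D27142 (iv2 D17724)
theorem F43872 : act 1 n27142 = n17722 := d15_0 (iv0 D17722) (iv7 F28792) D27142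
theorem F43873 : act 1 n27141 = n17724 := d15_1 D27141 (iv7 F43871) (iv2 D27142)
theorem F43874 : act 1 n17723 = n27142 := d15_1 D17723 F43871 (iv2 D17724)
def n27143 : Q := act 4 n13000
theorem D27143 : act 4 n13000 = n27143 := rfl
theorem F43875 : act 7 n27143 = n17725 := d11_2 (iv7 F28792) D27143 (iv4 D17725)
def n27144 : Q := act 5 n13000
theorem D27144 : act 5 n13000 = n27144 := rfl
theorem F43876 : act 3 n27144 = n13002 := d6_1 D27144 (iv5 D13002) D13000
theorem F43877 : act 7 n27144 = n17726 := d13_2 (iv7 F28792) D27144 (iv5 D17726)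
def n27145 : Q := act 6 n13000
theorem D27145 : act 6 n13000 = n27145 := rfl
theorem F43878 : act 3 n27145 = n13003 := d7_1 D27145 (iv6 D13003) D13000
theorem F43879 : act 5 n27100 = n27145 := d6_0 F43878 F21625 D27100
def n27146 : Q := act 4 n13002
theorem D27146 : act 4 n13002 = n27146 := rfl
theorem F43880 : act 2 n27146 = n17717 := d1_1 D27146 (iv4 D17717) F28787
theorem F43881 : act 7 n27146 = n15595 := d11_2 F28790 D27146 F41946
theorem F43882 : act 5 n27146 = n15844 := d17_5 (iv1 D6178) F4178 D6177 D13002 D27146 (iv0 D15844) (iv5 D7428) D7427 F41740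
theorem F43883 : act 0 n27146 = n18808 := d18_2 F30380 D27146 F30062 (iv5 D8815) (iv4 F13686) (iv0 F41943) F41946 (iv0 F28780) F28778
theorem F43884 : act 1 n27146 = n13294 := d18_6 (iv1 D3790) (iv4 F5400) D7426 (iv4 F41745) D13002 D27146 F22098 F13696 (iv5 D8474)
def n27147 : Q := act 1 n13003
theorem D27147 : act 1 n13003 = n27147 := rfl
theorem F43885 : act 1 n27147 = n17721 := d15_1 D27147 (iv7 D17721) (iv2 F28795)
theorem F43886 : act 5 n17544 = n27147 := d21_0 (iv1 D27147) F21625 D27101 F43799 (iv6 F43435) F43434 F43462 (iv5 D17314) F13023 (iv1 F28539)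
theorem F43887 : act 6 n17673 = n27147 := d21_3 F5886 D8323 D17673 (iv1 D27147) (iv6 D13003) D13002 (iv1 F28238) (iv5 F30398) F30399 (iv1 D8851)
def n27148 : Q := act 0 n13005
theorem D27148 : act 0 n13005 = n27148 := rfl
theorem F43888 : act 1 n17704 = n27148 := d15_0 (iv0 D27148) F28809 D17704
def n27149 : Q := act 1 n13005
theorem D27149 : act 1 n13005 = n27149 := rfl
def n27150 : Q := act 2 n13005
theorem D27150 : act 2 n13005 = n27150 := rfl
theorem F43889 : act 3 n27150 = n17724 := d0_2 D13005 D27150 (iv2 D17724) (iv3 D8338) (iv2 F28798)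
theorem F43890 : act 7 n27150 = n17704 := d4_2 (iv7 F28809) D27150 (iv2 D17704)
theorem F43891 : act 1 n27150 = n17702 := d15_0 (iv0 D17702) (iv7 F28809) D27150
theorem F43892 : act 1 n27149 = n17704 := d15_1 D27149 (iv7 F43890) (iv2 D27150)
theorem F43893 : act 1 n17703 = n27150 := d15_1 D17703 F43890 (iv2 D17704)
def n27151 : Q := act 4 n13005
theorem D27151 : act 4 n13005 = n27151 := rfl
theorem F43894 : act 7 n27151 = n17705 := d11_2 (iv7 F28809) D27151 (iv4 D17705)
def n27152 : Q := act 6 n13005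
theorem D27152 : act 6 n13005 = n27152 := rfl
theorem F43895 : act 3 n27152 = n13007 := d7_1 D27152 (iv6 D13007) D13005
def n27153 : Q := act 0 n13007
theorem D27153 : act 0 n13007 = n27153 := rfl
theorem F43896 : act 6 n27153 = n17821 := d21_5 F30398 (iv1 D17293) F12878 D13007 D27153 F43438 (iv1 D26936) (iv5 D12888) F13155 (iv1 F28781)
theorem F43897 : act 5 n27153 = n17264 := d21_0 (iv1 F28291) F28288 (iv6 D8915) (iv1 F13776) (iv6 F30399) F30398 (iv1 D17293) F12878 D13007 D27153
theorem F43898 : act 4 n15228 = n27153 := d17_4 (iv1 D3455) (iv5 F5308) D7215 D15228 F43897 (iv0 D17264) (iv5 D8095) (iv0 F28954) (iv4 D7611)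
theorem F43899 : act 0 n27153 = n17735 := d21_4 D12892 (iv1 F43437) (iv5 F43438) (iv6 F43896) F28843 (iv5 D17569) (iv1 F21584) F21581 F9585 (iv1 F9488)
def n27154 : Q := act 7 n13007
theorem D27154 : act 7 n13007 = n27154 := rfl
theorem F43900 : act 2 n27154 = n17735 := d4_1 D27154 (iv7 D17735) F28825
theorem F43901 : act 6 n27154 = n17721 := d14_1 D27154 (iv7 D17721) (iv6 D8336) (iv7 F28799) D13007
theorem F43902 : act 1 n17674 = n27154 := d15_1 (iv0 F30417) (iv7 D27154) (iv2 F28825)
theorem F43903 : act 1 n27154 = n17732 := d15_0 (iv0 D17732) D17735 (iv2 F43900)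
def n27155 : Q := act 6 n13008
theorem D27155 : act 6 n13008 = n27155 := rfl
theorem F43904 : act 2 n27155 = n17615 := d3_1 D27155 (iv6 D17615) (iv2 F21627)
theorem F43905 : act 3 n27155 = n18130 := d7_1 D27155 (iv6 D18130) (iv3 F21628)
theorem F43906 : act 4 n27155 = n17477 := d10_1 D27155 (iv6 D17477) (iv4 F21631)
theorem F43907 : act 5 n27155 = n27019 := d12_1 D27155 (iv6 D27019) (iv5 D12944) (iv6 F17003) D13008
def n27156 : Q := act 6 n13009
theorem D27156 : act 6 n13009 = n27156 := rfl
theorem F43908 : act 2 n27156 = n17612 := d3_1 D27156 (iv6 D17612) (iv2 F21636)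
theorem F43909 : act 3 n27156 = n13045 := d7_1 D27156 (iv6 D13045) (iv3 F21637)
theorem F43910 : act 4 n27156 = n17480 := d10_1 D27156 (iv6 D17480) (iv4 F21640)
def n27157 : Q := act 3 n13010
theorem D27157 : act 3 n13010 = n27157 := rfl
theorem F43911 : act 4 n27157 = n17738 := d5_2 D13010 D27157 (iv3 D17738) (iv4 D8363) (iv3 F9638)
theorem F43912 : act 7 n27157 = n17616 := d8_2 (iv7 F21644) D27157 (iv3 D17616)
def n27158 : Q := act 6 n13010
theorem D27158 : act 6 n13010 = n27158 := rfl
theorem F43913 : act 2 n27158 = n13016 := d3_1 D27158 (iv6 D13016) (iv2 F21643)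
theorem F43914 : act 4 n27158 = n13011 := d10_1 D27158 (iv6 D13011) D13010
def n27159 : Q := act 0 n13011
theorem D27159 : act 0 n13011 = n27159 := rfl
def n27160 : Q := act 1 n13011
theorem D27160 : act 1 n13011 = n27160 := rfl
theorem F43915 : act 1 n27160 = n13020 := d15_1 D27160 (iv7 D13020) (iv2 F21647)
def n27161 : Q := act 5 n13011
theorem D27161 : act 5 n13011 = n27161 := rfl
theorem F43916 : act 2 n27161 = n13019 := d2_1 D27161 (iv5 D13019) (iv2 F21647)
theorem F43917 : act 3 n27161 = n17742 := d6_1 D27161 (iv5 D17742) (iv3 F21648)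
theorem F43918 : act 6 n27161 = n13012 := d12_2 D13011 D27161 (iv5 D13012) (iv6 D6191) D6190
def n27162 : Q := act 7 n13011
theorem D27162 : act 7 n13011 = n27162 := rfl
theorem F43919 : act 2 n27162 = n13020 := d4_1 D27162 (iv7 D13020) (iv2 F21647)
theorem F43920 : act 3 n27162 = n17743 := d8_1 D27162 (iv7 D17743) (iv3 F21648)
theorem F43921 : act 6 n27162 = n17621 := d14_1 D27162 (iv7 D17621) (iv6 D8300) (iv7 F9639) D13011
theorem F43922 : act 1 n13020 = n27159 := d15_0 (iv0 D27159) D27162 F43919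
theorem F43923 : act 1 n13018 = n27162 := d15_1 D13018 (iv7 D27162) F21647
theorem F43924 : act 1 n27162 = n13017 := d15_0 (iv0 D13017) D13020 (iv2 F43919)
def n27164 : Q := act 3 n13013
theorem D27164 : act 3 n13013 = n27164 := rfl
theorem F43927 : act 7 n27164 = n17640 := d8_2 F21655 D27164 (iv3 D17640)
def n27165 : Q := act 6 n13013
theorem D27165 : act 6 n13013 = n27165 := rfl
theorem F43928 : act 2 n27165 = n17645 := d3_1 D27165 (iv6 D17645) F21654
theorem F43929 : act 4 n27165 = n18183 := d10_1 D27165 (iv6 D18183) (iv4 F21652)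
def n27166 : Q := act 6 n13014
theorem D27166 : act 6 n13014 = n27166 := rfl
theorem F43930 : act 2 n27166 = n17642 := d3_1 D27166 (iv6 D17642) (iv2 F21659)
theorem F43931 : act 4 n27166 = n17908 := d10_1 D27166 (iv6 D17908) F21658
def n27167 : Q := act 6 n13015
theorem D27167 : act 6 n13015 = n27167 := rfl
def n27168 : Q := act 0 n13016
theorem D27168 : act 0 n13016 = n27168 := rfl
def n27169 : Q := act 1 n13016
theorem D27169 : act 1 n13016 = n27169 := rfl
def n27170 : Q := act 5 n13016
theorem D27170 : act 5 n13016 = n27170 := rfl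
def n27171 : Q := act 7 n13016
theorem D27171 : act 7 n13016 = n27171 := rfl
theorem F43932 : act 4 n27171 = n13020 := d11_1 D27171 (iv7 D13020) (iv4 F21661)
theorem F43933 : act 6 n27171 = n17651 := d14_1 D27171 (iv7 D17651) (iv6 D8314) (iv7 F9648) D13016
def n27172 : Q := act 2 n13017
theorem D27172 : act 2 n13017 = n27172 := rfl
theorem F43934 : act 7 n13018 = n27172 := d15_2 (iv0 D13017) D13018 (iv2 D27172)
def n27173 : Q := act 3 n13017
theorem D27173 : act 3 n13017 = n27173 := rfl
def n27174 : Q := act 4 n13017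
theorem D27174 : act 4 n13017 = n27174 := rfl
def n27175 : Q := act 5 n13017
theorem D27175 : act 5 n13017 = n27175 := rfl
def n27176 : Q := act 6 n13017
theorem D27176 : act 6 n13017 = n27176 := rfl
def n27177 : Q := act 7 n13017
theorem D27177 : act 7 n13017 = n27177 := rfl
theorem F43935 : act 2 n27177 = n13018 := d4_1 D27177 F43934 (iv2 D27172)
def n27178 : Q := act 3 n13018
theorem D27178 : act 3 n13018 = n27178 := rfl
def n27179 : Q := act 4 n13018
theorem D27179 : act 4 n13018 = n27179 := rfl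
def n27180 : Q := act 5 n13018
theorem D27180 : act 5 n13018 = n27180 := rfl
def n27181 : Q := act 6 n13018
theorem D27181 : act 6 n13018 = n27181 := rfl
def n27182 : Q := act 0 n13019
theorem D27182 : act 0 n13019 = n27182 := rfl
def n27183 : Q := act 1 n13019
theorem D27183 : act 1 n13019 = n27183 := rfl
def n27184 : Q := act 4 n13019
theorem D27184 : act 4 n13019 = n27184 := rfl
def n27185 : Q := act 7 n13019
theorem D27185 : act 7 n13019 = n27185 := rfl
theorem F43938 : act 5 n27185 = n13020 := d13_1 D27185 (iv7 D13020) D13019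
theorem F43939 : act 6 n27185 = n27185 := d14_1 D27185 (iv7 D27185) F21663 F9653 (iv6 F21663)
def n27186 : Q := act 5 n13022
theorem D27186 : act 5 n13022 = n27186 := rfl
theorem F43940 : act 2 n27186 = n18052 := d2_1 D27186 (iv5 D18052) (iv2 F21703)
theorem F43941 : act 7 n27186 = n27186 := d13_2 F21705 D27186 (iv5 D27186)
theorem F43942 : act 0 n27186 = n18182 := d17_2 F21707 D27186 (iv5 D18182) F13476 D8580 (iv0 F28920) (iv5 D17789) F17605 F13471
theorem F43943 : act 1 n27186 = n13111 := d17_6 (iv1 D6197) D6198 (iv1 F21710) (iv5 D13023) D13022 D27186 (iv5 D13111) F17612 F13285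
theorem F43944 : act 4 n27186 = n17792 := d18_5 (iv1 D3761) (iv4 F4189) D6196 D13022 D27186 (iv0 D17792) (iv4 D8395) (iv0 F16909) (iv5 D8391)
def n27187 : Q := act 4 n13023
theorem D27187 : act 4 n13023 = n27187 := rfl
theorem F43946 : act 0 n27187 = n18191 := d18_2 (iv1 F21710) D27187 (iv4 D18191) (iv5 D8580) (iv4 F13476) (iv0 F21706) (iv4 D13022) (iv0 D6196) D6198
def n27188 : Q := act 6 n13023
theorem D27188 : act 6 n13023 = n27188 := rfl
theorem F43947 : act 5 n27188 = n17226 := d12_1 D27188 (iv6 D17226) (iv5 D8077) (iv6 F21529) D13023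
def n27189 : Q := act 5 n13024
theorem D27189 : act 5 n13024 = n27189 := rfl
theorem F43948 : act 3 n27189 = n13025 := d6_1 D27189 (iv5 D13025) D13024
def n27190 : Q := act 4 n13025
theorem D27190 : act 4 n13025 = n27190 := rfl
theorem F43950 : act 2 n27190 = n27187 := d1_1 D27190 (iv4 D27187) (iv2 F21712)
theorem F43952 : act 1 n27190 = n18191 := d18_6 F17604 (iv4 F13476) F17610 F13285 D13025 D27190 (iv4 D18191) (iv0 F28920) (iv5 D17789)
def n27191 : Q := act 6 n13025
theorem D27191 : act 6 n13025 = n27191 := rfl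
theorem F43953 : act 2 n27191 = n27188 := d3_1 D27191 (iv6 D27188) (iv2 F21712)
theorem F43954 : act 5 n27191 = n27070 := d12_1 D27191 (iv6 D27070) F21567 (iv6 F21568) D13025
def n27192 : Q := act 0 n13026
theorem D27192 : act 0 n13026 = n27192 := rfl
theorem F43955 : act 4 n27192 = n17786 := d18_3 F21714 D13026 D27192 (iv5 D17786) (iv4 D8385) (iv0 D3760) (iv4 F4189) D6197 D13025
def n27194 : Q := act 3 n13026
theorem D27194 : act 3 n13026 = n27194 := rfl
theorem F43962 : act 4 n27194 = n13041 := d5_2 D13026 D27194 (iv3 D13041) (iv4 D6203) (iv3 F9652)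
theorem F43963 : act 7 n27194 = n27194 := d8_2 F21716 D27194 (iv3 D27194)
def n27196 : Q := act 0 n13028
theorem D27196 : act 0 n13028 = n27196 := rfl
theorem F43965 : act 1 n17826 = n27196 := d15_0 (iv0 D27196) F30489 D17826
def n27197 : Q := act 1 n13028
theorem D27197 : act 1 n13028 = n27197 := rfl
def n27198 : Q := act 2 n13028
theorem D27198 : act 2 n13028 = n27198 := rfl
theorem F43966 : act 3 n27198 = n17804 := d0_2 D13028 D27198 (iv2 D17804) (iv3 D8397) (iv2 F30485)
theorem F43967 : act 7 n27198 = n17826 := d4_2 (iv7 F30489) D27198 (iv2 D17826)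
theorem F43968 : act 1 n27198 = n17824 := d15_0 (iv0 D17824) (iv7 F30489) D27198
theorem F43969 : act 1 n27197 = n17826 := d15_1 D27197 (iv7 F43967) (iv2 D27198)
theorem F43970 : act 1 n17825 = n27198 := d15_1 D17825 F43967 (iv2 D17826)
def n27199 : Q := act 4 n13028
theorem D27199 : act 4 n13028 = n27199 := rfl
theorem F43971 : act 7 n27199 = n17827 := d11_2 (iv7 F30489) D27199 (iv4 D17827)
def n27200 : Q := act 5 n13028
theorem D27200 : act 5 n13028 = n27200 := rfl
theorem F43973 : act 7 n27200 = n17828 := d13_2 (iv7 F30489) D27200 (iv5 D17828)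
def n27201 : Q := act 6 n13028
theorem D27201 : act 6 n13028 = n27201 := rfl
theorem F43974 : act 3 n27201 = n13031 := d7_1 D27201 (iv6 D13031) D13028
theorem F43975 : act 5 n26949 = n27201 := d6_0 F43974 F21718 D26949
def n27202 : Q := act 0 n13030
theorem D27202 : act 0 n13030 = n27202 := rfl
theorem F43976 : act 5 n27202 = n19045 := d17_3 D6199 D13030 D27202 F41673 D26678 (iv0 F42749) (iv5 D26407) (iv0 D12601) F9300
theorem F43977 : act 1 n13035 = n27202 := d15_0 (iv0 D27202) F30493 (iv2 F30478)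
def n27203 : Q := act 1 n13030
theorem D27203 : act 1 n13030 = n27203 := rfl
theorem F43979 : act 5 n27088 = n27203 := d21_0 (iv1 D27203) (iv5 D13030) D13031 (iv1 F30524) (iv6 D17137) (iv5 F28051) (iv1 F30482) F30454 (iv6 F30472) (iv1 F43761)
theorem F43980 : act 6 n27203 = n17863 := d21_3 (iv5 F30471) (iv1 F43761) F43979 (iv1 D17863) (iv6 D8421) (iv5 D3770) (iv1 D1646) D1647 (iv6 F5757) D8406
def n27204 : Q := act 4 n13030
theorem D27204 : act 4 n13030 = n27204 := rfl
theorem F43981 : act 2 n27204 = n17817 := d1_1 D27204 (iv4 D17817) (iv2 F30492)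
theorem F43982 : act 7 n27204 = n17833 := d11_2 (iv7 F30493) D27204 (iv4 D17833)
def n27205 : Q := act 6 n13030
theorem D27205 : act 6 n13030 = n27205 := rfl
theorem F43984 : act 5 n27205 = n26950 := d12_1 D27205 (iv6 D26950) (iv5 F21718) (iv6 D13031) D13030
def n27206 : Q := act 1 n13031
theorem D27206 : act 1 n13031 = n27206 := rfl
theorem F43986 : act 1 n27206 = n17822 := d15_1 D27206 (iv7 D17822) (iv2 F30494)
theorem F43987 : act 6 n17732 = n27206 := d21_3 (iv5 F12891) D17352 (iv5 F28838) (iv1 D27206) (iv6 D13031) D13030 D27202 F43976 (iv6 D19045) (iv1 D8917)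
theorem F43988 : act 5 n27206 = n17288 := d21_6 (iv5 F28778) F28780 (iv5 D8340) D8341 D17732 F43987 (iv1 D17288) (iv5 D8100) D8101 (iv1 F30381)
theorem F43989 : act 6 n17288 = n26968 := d21_3 F30499 (iv1 F43986) F43988 (iv1 D26968) (iv6 D12905) (iv5 D6116) (iv1 D2575) D2576 (iv6 F9490) D12894
def n27207 : Q := act 0 n13033
theorem D27207 : act 0 n13033 = n27207 := rfl
theorem F43990 : act 1 n17804 = n27207 := d15_0 (iv0 D27207) F30481 D17804
def n27208 : Q := act 1 n13033
theorem D27208 : act 1 n13033 = n27208 := rfl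
def n27209 : Q := act 2 n13033
theorem D27209 : act 2 n13033 = n27209 := rfl
theorem F43991 : act 3 n27209 = n17826 := d0_2 D13033 D27209 (iv2 D17826) (iv3 D8402) F30480
theorem F43992 : act 7 n27209 = n17804 := d4_2 (iv7 F30481) D27209 (iv2 D17804)
theorem F43993 : act 1 n27209 = n17802 := d15_0 (iv0 D17802) (iv7 F30481) D27209
theorem F43994 : act 1 n27208 = n17804 := d15_1 D27208 (iv7 F43992) (iv2 D27209)
theorem F43995 : act 1 n17803 = n27209 := d15_1 D17803 F43992 (iv2 D17804)
def n27210 : Q := act 4 n13033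
theorem D27210 : act 4 n13033 = n27210 := rfl
theorem F43996 : act 7 n27210 = n17805 := d11_2 (iv7 F30481) D27210 (iv4 D17805)
def n27211 : Q := act 5 n13033
theorem D27211 : act 5 n13033 = n27211 := rfl
theorem F43997 : act 3 n27211 = n13035 := d6_1 D27211 (iv5 D13035) D13033
theorem F43998 : act 7 n27211 = n17806 := d13_2 (iv7 F30481) D27211 (iv5 D17806)
theorem F43999 : act 6 n17836 = n27211 := d7_0 F43997 (iv6 F21720) D17836
def n27212 : Q := act 6 n13033
theorem D27212 : act 6 n13033 = n27212 := rfl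
theorem F44000 : act 3 n27212 = n13036 := d7_1 D27212 (iv6 D13036) D13033
def n27213 : Q := act 4 n13035
theorem D27213 : act 4 n13035 = n27213 := rfl
theorem F44001 : act 2 n27213 = n17833 := d1_1 D27213 (iv4 D17833) (iv2 F30478)
theorem F44003 : act 7 n27213 = n17817 := d11_2 (iv7 F30479) D27213 (iv4 D17817)
def n27214 : Q := act 3 n13037
theorem D27214 : act 3 n13037 = n27214 := rfl
theorem F44004 : act 6 n27214 = n17828 := d7_2 (iv6 F21721) D27214 F28994
theorem F44005 : act 7 n27214 = n17840 := d8_2 (iv7 F30477) D27214 (iv3 D17840)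
def n27215 : Q := act 3 n13038
theorem D27215 : act 3 n13038 = n27215 := rfl
theorem F44006 : act 5 n27215 = n17535 := d6_2 F21723 D27215 F28531
theorem F44007 : act 7 n27215 = n17836 := d8_2 (iv7 F30474) D27215 (iv3 D17836)
def n27216 : Q := act 6 n13038
theorem D27216 : act 6 n13038 = n27216 := rfl
theorem F44009 : act 5 n27216 = n17546 := d12_1 D27216 (iv6 D17546) (iv5 D8245) D8246 F21723
def n27217 : Q := act 0 n13039
theorem D27217 : act 0 n13039 = n27217 := rfl
theorem F44011 : act 4 n27217 = n13081 := d18_3 (iv1 D13038) D13039 D27217 (iv5 F29999) F42171 (iv0 D16417) (iv4 F25899) F43771 F21723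
theorem F44012 : act 2 n17843 = n27217 := d1_3 F44011 F29775 (iv4 F43769)
theorem F44014 : act 7 n17844 = n27217 := d11_0 F44011 F29776 (iv4 F29947)
def n27218 : Q := act 1 n13039
theorem D27218 : act 1 n13039 = n27218 := rfl
theorem F44016 : act 1 n27218 = n17847 := d15_1 D27218 (iv7 D17847) (iv2 F21724)
theorem F44017 : act 7 n27218 = n17843 := d15_2 (iv0 D27217) D27218 F44012
theorem F44018 : act 4 n27218 = n13082 := d18_7 (iv1 F9689) (iv4 F42172) (iv1 D12602) F9300 D6201 D13039 D27218 F21796 F13294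
theorem F44019 : act 2 n17844 = n27218 := d1_3 F44018 F29772 (iv4 F29947)
def n27220 : Q := act 5 n13039
theorem D27220 : act 5 n13039 = n27220 := rfl
theorem F44021 : act 2 n27220 = n17846 := d2_1 D27220 (iv5 D17846) (iv2 F21724)
theorem F44022 : act 6 n27220 = n17846 := d12_2 (iv6 F21725) D27220 (iv5 D17846) F13192 (iv5 F9664)
def n27221 : Q := act 7 n13039
theorem D27221 : act 7 n13039 = n27221 := rfl
theorem F44024 : act 4 n27221 = n13040 := d11_1 D27221 (iv7 D13040) D13039
theorem F44026 : act 1 n17844 = n27221 := d15_1 D17844 (iv7 D27221) F21724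
theorem F44027 : act 1 n27221 = n17843 := d15_1 F44026 (iv7 F44017) (iv2 F44019)
def n27222 : Q := act 0 n13041
theorem D27222 : act 0 n13041 = n27222 := rfl
def n27223 : Q := act 1 n13041
theorem D27223 : act 1 n13041 = n27223 := rfl
def n27224 : Q := act 2 n13041
theorem D27224 : act 2 n13041 = n27224 := rfl
theorem F44028 : act 3 n27224 = n17871 := d0_2 D13041 D27224 (iv2 D17871) (iv3 D8424) (iv2 F9662)
theorem F44029 : act 5 n27224 = n17871 := d2_2 (iv5 F21732) D27224 (iv2 D17871)
theorem F44030 : act 7 n27224 = n27224 := d4_2 F21733 D27224 (iv2 D27224)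
theorem F44032 : act 1 n27223 = n27224 := d15_1 D27223 F44030 (iv2 D27224)
def n27225 : Q := act 6 n13042
theorem D27225 : act 6 n13042 = n27225 := rfl
theorem F44033 : act 2 n27225 = n17174 := d3_1 D27225 (iv6 D17174) (iv2 F21734)
def n27226 : Q := act 5 n13043
theorem D27226 : act 5 n13043 = n27226 := rfl
theorem F44034 : act 2 n27226 = n17609 := d2_1 D27226 (iv5 D17609) (iv2 F21737)
theorem F44035 : act 0 n27226 = n19491 := d21_7 D8025 (iv1 F16665) (iv5 D10441) F7155 F9667 D13043 D27226 (iv5 D19491) (iv6 D9164) F6043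
def n27227 : Q := act 6 n13044
theorem D27227 : act 6 n13044 = n27227 := rfl
theorem F44036 : act 2 n27227 = n17997 := d3_1 D27227 (iv6 D17997) (iv2 F21739)
theorem F44037 : act 3 n27227 = n19352 := d7_1 D27227 (iv6 D19352) (iv3 F21741)
theorem F44038 : act 4 n27227 = n13045 := d10_1 D27227 (iv6 D13045) D13044
def n27228 : Q := act 0 n13045
theorem D27228 : act 0 n13045 = n27228 := rfl
def n27229 : Q := act 1 n13045
theorem D27229 : act 1 n13045 = n27229 := rfl
def n27230 : Q := act 5 n13045
theorem D27230 : act 5 n13045 = n27230 := rfl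
theorem F44040 : act 2 n27230 = n18000 := d2_1 D27230 (iv5 D18000) (iv2 F21742)
theorem F44041 : act 6 n27230 = n13046 := d12_2 D13045 D27230 (iv5 D13046) (iv6 D6207) D6206
def n27231 : Q := act 7 n13045
theorem D27231 : act 7 n13045 = n27231 := rfl
theorem F44042 : act 2 n27231 = n18001 := d4_1 D27231 (iv7 D18001) (iv2 F21742)
theorem F44043 : act 6 n27231 = n17991 := d14_1 D27231 (iv7 D17991) (iv6 D8481) (iv7 F13091) D13045
theorem F44044 : act 1 n18001 = n27228 := d15_0 (iv0 D27228) D27231 F44042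
theorem F44045 : act 1 n17999 = n27231 := d15_1 D17999 (iv7 D27231) F21742
theorem F44046 : act 1 n27231 = n17998 := d15_0 (iv0 D17998) D18001 (iv2 F44042)
def n27232 : Q := act 4 n13046
theorem D27232 : act 4 n13046 = n27232 := rfl
theorem F44047 : act 2 n27232 = n18004 := d1_1 D27232 (iv4 D18004) (iv2 F21743)
def n27233 : Q := act 4 n13047
theorem D27233 : act 4 n13047 = n27233 := rfl
theorem F44048 : act 2 n27233 = n18129 := d1_1 D27233 (iv4 D18129) (iv2 F21745)
theorem F44049 : act 7 n27233 = n17992 := d11_2 (iv7 F21747) D27233 (iv4 D17992)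
theorem F44050 : act 0 n27233 = n17081 := d18_2 (iv1 F21749) D27233 (iv4 D17081) (iv5 D7992) (iv4 F5653) D7804 (iv4 F13786) F13790 (iv5 F13515)
theorem F44051 : act 1 n27233 = n17077 := d18_6 D3720 D8268 F13053 (iv4 F9669) D13047 D27233 (iv4 D17077) F13768 F5672
def n27234 : Q := act 6 n13047
theorem D27234 : act 6 n13047 = n27234 := rfl
theorem F44052 : act 2 n27234 = n18130 := d3_1 D27234 (iv6 D18130) (iv2 F21745)
theorem F44053 : act 3 n27234 = n13049 := d7_1 D27234 (iv6 D13049) (iv3 F21746)
theorem F44054 : act 5 n27234 = n18022 := d12_1 D27234 (iv6 D18022) (iv5 F13787) (iv6 F16998) D13047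
def n27235 : Q := act 3 n13048
theorem D27235 : act 3 n13048 = n27235 := rfl
theorem F44055 : act 2 n27235 = n19350 := d0_1 D27235 (iv3 D19350) (iv2 F16638) F16639 (iv2 F21750)
theorem F44056 : act 7 n27235 = n17995 := d8_2 (iv7 F21751) D27235 (iv3 D17995)
def n27236 : Q := act 6 n13048
theorem D27236 : act 6 n13048 = n27236 := rfl
theorem F44057 : act 2 n27236 = n17988 := d3_1 D27236 (iv6 D17988) (iv2 F21750)
theorem F44058 : act 4 n27236 = n13049 := d10_1 D27236 (iv6 D13049) D13048
def n27237 : Q := act 0 n13049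
theorem D27237 : act 0 n13049 = n27237 := rfl
def n27238 : Q := act 1 n13049
theorem D27238 : act 1 n13049 = n27238 := rfl
theorem F44059 : act 1 n27238 = n17991 := d15_1 D27238 (iv7 D17991) (iv2 F21752)
def n27239 : Q := act 7 n13049
theorem D27239 : act 7 n13049 = n27239 := rfl
theorem F44060 : act 2 n27239 = n17991 := d4_1 D27239 (iv7 D17991) (iv2 F21752)
theorem F44061 : act 5 n27239 = n18028 := d13_1 D27239 (iv7 D18028) (iv5 F21753)
theorem F44062 : act 6 n27239 = n18001 := d14_1 D27239 (iv7 D18001) (iv6 D8489) F13088 D13049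
theorem F44063 : act 1 n17991 = n27237 := d15_0 (iv0 D27237) D27239 F44060
theorem F44064 : act 1 n17990 = n27239 := d15_1 D17990 (iv7 D27239) F21752
theorem F44065 : act 1 n27239 = n17989 := d15_0 (iv0 D17989) D17991 (iv2 F44060)
def n27240 : Q := act 3 n13050
theorem D27240 : act 3 n13050 = n27240 := rfl
theorem F44066 : act 4 n27240 = n17903 := d5_2 D13050 D27240 (iv3 D17903) (iv4 D8451) (iv3 F9673)
theorem F44067 : act 5 n27240 = n21993 := d6_2 (iv5 F21756) D27240 (iv3 D21993)
theorem F44068 : act 7 n27240 = n18005 := d8_2 (iv7 F21755) D27240 (iv3 D18005)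
def n27241 : Q := act 6 n13050
theorem D27241 : act 6 n13050 = n27241 := rfl
theorem F44069 : act 2 n27241 = n13059 := d3_1 D27241 (iv6 D13059) (iv2 F21754)
theorem F44070 : act 4 n27241 = n13051 := d10_1 D27241 (iv6 D13051) D13050
def n27242 : Q := act 0 n13051
theorem D27242 : act 0 n13051 = n27242 := rfl
def n27243 : Q := act 1 n13051
theorem D27243 : act 1 n13051 = n27243 := rfl
theorem F44071 : act 1 n27243 = n13062 := d15_1 D27243 (iv7 D13062) (iv2 F21759)
def n27244 : Q := act 7 n13051
theorem D27244 : act 7 n13051 = n27244 := rfl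
theorem F44072 : act 2 n27244 = n13062 := d4_1 D27244 (iv7 D13062) (iv2 F21759)
theorem F44073 : act 3 n27244 = n17907 := d8_1 D27244 (iv7 D17907) (iv3 F21760)
theorem F44074 : act 5 n27244 = n27244 := d13_1 D27244 (iv7 D27244) F21761
theorem F44075 : act 6 n27244 = n18011 := d14_1 D27244 (iv7 D18011) (iv6 D8495) (iv7 F9674) D13051
theorem F44076 : act 1 n13062 = n27242 := d15_0 (iv0 D27242) D27244 F44072
theorem F44077 : act 1 n13061 = n27244 := d15_1 D13061 (iv7 D27244) F21759
theorem F44078 : act 1 n27244 = n13060 := d15_0 (iv0 D13060) D13062 (iv2 F44072)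
def n27245 : Q := act 6 n13052
theorem D27245 : act 6 n13052 = n27245 := rfl
theorem F44079 : act 2 n27245 = n18025 := d3_1 D27245 (iv6 D18025) (iv2 F21762)
theorem F44080 : act 3 n27245 = n22358 := d7_1 D27245 (iv6 D22358) (iv3 F21766)
theorem F44081 : act 4 n27245 = n13053 := d10_1 D27245 (iv6 D13053) D13052
def n27246 : Q := act 0 n13053
theorem D27246 : act 0 n13053 = n27246 := rfl
def n27247 : Q := act 1 n13053
theorem D27247 : act 1 n13053 = n27247 := rfl
theorem F44082 : act 1 n27247 = n18028 := d15_1 D27247 (iv7 D18028) (iv2 F21767)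
def n27248 : Q := act 7 n13053
theorem D27248 : act 7 n13053 = n27248 := rfl
theorem F44083 : act 2 n27248 = n18028 := d4_1 D27248 (iv7 D18028) (iv2 F21767)
theorem F44084 : act 5 n27248 = n17991 := d13_1 D27248 (iv7 D17991) (iv5 F21768)
theorem F44085 : act 6 n27248 = n18020 := d14_1 D27248 (iv7 D18020) (iv6 D8501) (iv7 F14049) D13053
theorem F44086 : act 1 n18028 = n27246 := d15_0 (iv0 D27246) D27248 F44083
theorem F44087 : act 1 n18027 = n27248 := d15_1 D18027 (iv7 D27248) F21767
theorem F44088 : act 1 n27248 = n18026 := d15_0 (iv0 D18026) D18028 (iv2 F44083)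
def n27249 : Q := act 4 n13054
theorem D27249 : act 4 n13054 = n27249 := rfl
theorem F44089 : act 2 n27249 = n18132 := d1_1 D27249 (iv4 D18132) (iv2 F21769)
theorem F44090 : act 7 n27249 = n18021 := d11_2 (iv7 F21771) D27249 (iv4 D18021)
theorem F44091 : act 0 n27249 = n17606 := d18_2 (iv1 F21773) D27249 (iv4 D17606) (iv5 D8271) (iv4 F5729) D3823 (iv4 F9669) (iv0 F9671) (iv5 F12364)
theorem F44092 : act 1 n27249 = n17603 := d18_6 D6088 F12344 (iv1 F12839) F12811 (iv5 F21770) D27249 (iv4 D17603) F13316 F5739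
def n27250 : Q := act 6 n13054
theorem D27250 : act 6 n13054 = n27250 := rfl
theorem F44093 : act 2 n27250 = n18133 := d3_1 D27250 (iv6 D18133) (iv2 F21769)
theorem F44094 : act 3 n27250 = n13056 := d7_1 D27250 (iv6 D13056) D13054
def n27251 : Q := act 3 n13055
theorem D27251 : act 3 n13055 = n27251 := rfl
theorem F44095 : act 2 n27251 = n22675 := d0_1 D27251 F35235 F17259 (iv3 F14158) (iv2 F21774)
theorem F44096 : act 5 n27251 = n22674 := d6_2 F30984 D27251 F35229
theorem F44097 : act 7 n27251 = n18023 := d8_2 (iv7 F21775) D27251 (iv3 D18023)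
def n27252 : Q := act 6 n13055
theorem D27252 : act 6 n13055 = n27252 := rfl
theorem F44098 : act 2 n27252 = n18016 := d3_1 D27252 (iv6 D18016) (iv2 F21774)
theorem F44099 : act 4 n27252 = n13056 := d10_1 D27252 (iv6 D13056) D13055
def n27253 : Q := act 0 n13056
theorem D27253 : act 0 n13056 = n27253 := rfl
def n27254 : Q := act 1 n13056
theorem D27254 : act 1 n13056 = n27254 := rfl
theorem F44100 : act 1 n27254 = n18020 := d15_1 D27254 (iv7 D18020) (iv2 F21777)
def n27255 : Q := act 5 n13056
theorem D27255 : act 5 n13056 = n27255 := rfl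
theorem F44101 : act 2 n27255 = n18019 := d2_1 D27255 (iv5 D18019) (iv2 F21777)
theorem F44102 : act 6 n27255 = n16701 := d12_2 D13056 D27255 (iv5 D16701) (iv6 D7790) (iv5 F14051)
def n27256 : Q := act 7 n13056
theorem D27256 : act 7 n13056 = n27256 := rfl
theorem F44103 : act 2 n27256 = n18020 := d4_1 D27256 (iv7 D18020) (iv2 F21777)
theorem F44104 : act 6 n27256 = n18028 := d14_1 D27256 (iv7 D18028) (iv6 D8506) (iv7 F14052) D13056
theorem F44105 : act 1 n18020 = n27253 := d15_0 (iv0 D27253) D27256 F44103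
theorem F44106 : act 1 n18018 = n27256 := d15_1 D18018 (iv7 D27256) F21777
theorem F44107 : act 1 n27256 = n18017 := d15_0 (iv0 D18017) D18020 (iv2 F44103)
def n27257 : Q := act 6 n13057
theorem D27257 : act 6 n13057 = n27257 := rfl
theorem F44108 : act 2 n27257 = n18031 := d3_1 D27257 (iv6 D18031) F21778
def n27258 : Q := act 6 n13058
theorem D27258 : act 6 n13058 = n27258 := rfl
theorem F44109 : act 2 n27258 = n21994 := d3_1 D27258 (iv6 D21994) (iv2 F21781)
def n27259 : Q := act 0 n13059
theorem D27259 : act 0 n13059 = n27259 := rfl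
def n27260 : Q := act 1 n13059
theorem D27260 : act 1 n13059 = n27260 := rfl
def n27261 : Q := act 5 n13059
theorem D27261 : act 5 n13059 = n27261 := rfl
def n27262 : Q := act 7 n13059
theorem D27262 : act 7 n13059 = n27262 := rfl
theorem F44110 : act 4 n27262 = n13062 := d11_1 D27262 (iv7 D13062) (iv4 F21785)
theorem F44111 : act 6 n27262 = n18037 := d14_1 D27262 (iv7 D18037) (iv6 D8510) (iv7 F9679) D13059
def n27263 : Q := act 2 n13060
theorem D27263 : act 2 n13060 = n27263 := rfl
theorem F44112 : act 7 n13061 = n27263 := d15_2 (iv0 D13060) D13061 (iv2 D27263)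
def n27264 : Q := act 3 n13060
theorem D27264 : act 3 n13060 = n27264 := rfl
def n27265 : Q := act 4 n13060
theorem D27265 : act 4 n13060 = n27265 := rfl
def n27266 : Q := act 5 n13060
theorem D27266 : act 5 n13060 = n27266 := rfl
def n27267 : Q := act 6 n13060
theorem D27267 : act 6 n13060 = n27267 := rfl
def n27268 : Q := act 7 n13060
theorem D27268 : act 7 n13060 = n27268 := rfl
theorem F44113 : act 2 n27268 = n13061 := d4_1 D27268 F44112 (iv2 D27263)
def n27269 : Q := act 3 n13061
theorem D27269 : act 3 n13061 = n27269 := rfl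
def n27270 : Q := act 4 n13061
theorem D27270 : act 4 n13061 = n27270 := rfl
def n27271 : Q := act 5 n13061
theorem D27271 : act 5 n13061 = n27271 := rfl
def n27272 : Q := act 6 n13061
theorem D27272 : act 6 n13061 = n27272 := rfl
def n27273 : Q := act 0 n13064
theorem D27273 : act 0 n13064 = n27273 := rfl
theorem F44114 : act 1 n17976 = n27273 := d15_0 (iv0 D27273) F29858 D17976
def n27275 : Q := act 2 n13064
theorem D27275 : act 2 n13064 = n27275 := rfl
theorem F44115 : act 3 n27275 = n17957 := d0_2 D13064 D27275 (iv2 D17957) (iv3 D8467) (iv2 F29854)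
theorem F44116 : act 7 n27275 = n17976 := d4_2 (iv7 F29858) D27275 (iv2 D17976)
theorem F44117 : act 1 n27275 = n17974 := d15_0 (iv0 D17974) (iv7 F29858) D27275
theorem F44119 : act 1 n17975 = n27275 := d15_1 D17975 F44116 (iv2 D17976)
def n27276 : Q := act 4 n13064
theorem D27276 : act 4 n13064 = n27276 := rfl
theorem F44120 : act 7 n27276 = n17977 := d11_2 (iv7 F29858) D27276 (iv4 D17977)
def n27277 : Q := act 6 n13064
theorem D27277 : act 6 n13064 = n27277 := rfl
theorem F44121 : act 3 n27277 = n13066 := d7_1 D27277 (iv6 D13066) D13064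
def n27278 : Q := act 0 n13068
theorem D27278 : act 0 n13068 = n27278 := rfl
def n27279 : Q := act 1 n13068
theorem D27279 : act 1 n13068 = n27279 := rfl
def n27280 : Q := act 2 n13068
theorem D27280 : act 2 n13068 = n27280 := rfl
theorem F44123 : act 3 n27280 = n17976 := d0_2 D13068 D27280 (iv2 D17976) (iv3 D8472) F29849
theorem F44124 : act 7 n27280 = n17957 := d4_2 (iv7 F29850) D27280 (iv2 D17957)
theorem F44125 : act 1 n27280 = n17955 := d15_0 (iv0 D17955) (iv7 F29850) D27280
theorem F44126 : act 1 n27279 = n17957 := d15_1 D27279 (iv7 F44124) (iv2 D27280)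
theorem F44127 : act 1 n17956 = n27280 := d15_1 D17956 F44124 (iv2 D17957)
def n27281 : Q := act 4 n13068
theorem D27281 : act 4 n13068 = n27281 := rfl
theorem F44128 : act 7 n27281 = n17958 := d11_2 (iv7 F29850) D27281 (iv4 D17958)
def n27282 : Q := act 6 n13068
theorem D27282 : act 6 n13068 = n27282 := rfl
theorem F44129 : act 3 n27282 = n13070 := d7_1 D27282 (iv6 D13070) D13068
def n27283 : Q := act 0 n13072
theorem D27283 : act 0 n13072 = n27283 := rfl
theorem F44130 : act 1 n18096 = n27283 := d15_0 (iv0 D27283) F29747 D18096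
def n27284 : Q := act 1 n13072
theorem D27284 : act 1 n13072 = n27284 := rfl
def n27285 : Q := act 2 n13072
theorem D27285 : act 2 n13072 = n27285 := rfl
theorem F44131 : act 3 n27285 = n18074 := d0_2 D13072 D27285 (iv2 D18074) (iv3 D8529) (iv2 F29745)
theorem F44132 : act 7 n27285 = n18096 := d4_2 (iv7 F29747) D27285 (iv2 D18096)
theorem F44133 : act 1 n27285 = n18094 := d15_0 (iv0 D18094) (iv7 F29747) D27285
theorem F44134 : act 1 n27284 = n18096 := d15_1 D27284 (iv7 F44132) (iv2 D27285)
theorem F44135 : act 1 n18095 = n27285 := d15_1 D18095 F44132 (iv2 D18096)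
def n27286 : Q := act 4 n13072
theorem D27286 : act 4 n13072 = n27286 := rfl
theorem F44136 : act 7 n27286 = n18097 := d11_2 (iv7 F29747) D27286 (iv4 D18097)
def n27287 : Q := act 5 n13072
theorem D27287 : act 5 n13072 = n27287 := rfl
theorem F44137 : act 3 n27287 = n13074 := d6_1 D27287 (iv5 D13074) D13072
theorem F44138 : act 7 n27287 = n18098 := d13_2 (iv7 F29747) D27287 (iv5 D18098)
def n27288 : Q := act 6 n13072
theorem D27288 : act 6 n13072 = n27288 := rfl
theorem F44139 : act 3 n27288 = n13075 := d7_1 D27288 (iv6 D13075) D13072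
def n27289 : Q := act 1 n13074
theorem D27289 : act 1 n13074 = n27289 := rfl
theorem F44140 : act 1 n27289 = n13079 := d15_1 D27289 F29743 (iv2 F29750)
def n27290 : Q := act 4 n13074
theorem D27290 : act 4 n13074 = n27290 := rfl
theorem F44141 : act 2 n27290 = n18087 := d1_1 D27290 (iv4 D18087) (iv2 F29750)
def n27291 : Q := act 6 n13074
theorem D27291 : act 6 n13074 = n27291 := rfl
def n27292 : Q := act 0 n13077
theorem D27292 : act 0 n13077 = n27292 := rfl
theorem F44145 : act 1 n18074 = n27292 := d15_0 (iv0 D27292) F29739 D18074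
def n27293 : Q := act 1 n13077
theorem D27293 : act 1 n13077 = n27293 := rfl
def n27294 : Q := act 2 n13077
theorem D27294 : act 2 n13077 = n27294 := rfl
theorem F44147 : act 7 n27294 = n18074 := d4_2 (iv7 F29739) D27294 (iv2 D18074)
theorem F44149 : act 1 n27293 = n18074 := d15_1 D27293 (iv7 F44147) (iv2 D27294)
def n27295 : Q := act 4 n13077
theorem D27295 : act 4 n13077 = n27295 := rfl
theorem F44151 : act 7 n27295 = n18075 := d11_2 (iv7 F29739) D27295 (iv4 D18075)
def n27296 : Q := act 5 n13077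
theorem D27296 : act 5 n13077 = n27296 := rfl
theorem F44152 : act 3 n27296 = n13079 := d6_1 D27296 (iv5 D13079) D13077
theorem F44153 : act 7 n27296 = n18076 := d13_2 (iv7 F29739) D27296 (iv5 D18076)
theorem F44154 : act 6 n18107 = n27296 := d7_0 F44152 (iv6 F21793) D18107
def n27297 : Q := act 6 n13077
theorem D27297 : act 6 n13077 = n27297 := rfl
theorem F44155 : act 3 n27297 = n13080 := d7_1 D27297 (iv6 D13080) D13077
theorem F44156 : act 5 n18773 = n27297 := d6_0 F44155 F21794 D18773
def n27298 : Q := act 4 n13079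
theorem D27298 : act 4 n13079 = n27298 := rfl
theorem F44157 : act 2 n27298 = n18103 := d1_1 D27298 (iv4 D18103) (iv2 F29742)
def n27299 : Q := act 3 n13081
theorem D27299 : act 3 n13081 = n27299 := rfl
theorem F44160 : act 6 n27299 = n18098 := d7_2 (iv6 F21795) D27299 F29273
theorem F44161 : act 7 n27299 = n18111 := d8_2 (iv7 F29776) D27299 (iv3 D18111)
def n27300 : Q := act 3 n13082
theorem D27300 : act 3 n13082 = n27300 := rfl
theorem F44162 : act 5 n27300 = n18595 := d6_2 F21797 D27300 F29826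
theorem F44163 : act 7 n27300 = n18107 := d8_2 (iv7 F29773) D27300 (iv3 D18107)
def n27301 : Q := act 6 n13082
theorem D27301 : act 6 n13082 = n27301 := rfl
theorem F44164 : act 2 n27301 = n18113 := d3_1 D27301 (iv6 D18113) (iv2 F29772)
theorem F44165 : act 5 n27301 = n18604 := d12_1 D27301 (iv6 D18604) (iv5 D8735) D8736 F21797
theorem F44166 : act 7 n27301 = n18088 := d14_2 (iv7 F29773) D27301 (iv6 D18088) (iv7 F29743) (iv6 F21793)
def n27303 : Q := act 5 n13083
theorem D27303 : act 5 n13083 = n27303 := rfl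
theorem F44168 : act 2 n27303 = n18117 := d2_1 D27303 (iv5 D18117) (iv2 F21798)
theorem F44169 : act 6 n27303 = n18117 := d12_2 (iv6 F21799) D27303 (iv5 D18117) F13293 (iv5 F9699)
def n27304 : Q := act 7 n13083
theorem D27304 : act 7 n13083 = n27304 := rfl
theorem F44171 : act 4 n27304 = n13084 := d11_1 D27304 (iv7 D13084) D13083
theorem F44173 : act 1 n18115 = n27304 := d15_1 D18115 (iv7 D27304) F21798
def n27305 : Q := act 0 n13085
theorem D27305 : act 0 n13085 = n27305 := rfl
def n27306 : Q := act 1 n13085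
theorem D27306 : act 1 n13085 = n27306 := rfl
def n27307 : Q := act 2 n13085
theorem D27307 : act 2 n13085 = n27307 := rfl
theorem F44175 : act 3 n27307 = n18121 := d0_2 D13085 D27307 (iv2 D18121) (iv3 D8542) (iv2 F9697)
theorem F44176 : act 5 n27307 = n18121 := d2_2 (iv5 F21806) D27307 (iv2 D18121)
theorem F44177 : act 7 n27307 = n27307 := d4_2 F21807 D27307 (iv2 D27307)
theorem F44178 : act 1 n27307 = n27305 := d15_0 (iv0 D27305) F21807 D27307
theorem F44179 : act 1 n27306 = n27307 := d15_1 D27306 F44177 (iv2 D27307)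
def n27308 : Q := act 3 n13086
theorem D27308 : act 3 n13086 = n27308 := rfl
theorem F44180 : act 2 n27308 = n16221 := d0_1 D27308 (iv3 D16221) F11819 (iv3 F9758) (iv2 F21808)
theorem F44181 : act 4 n27308 = n18122 := d5_2 D13086 D27308 (iv3 D18122) (iv4 D8543) (iv3 F9701)
theorem F44182 : act 7 n27308 = n13132 := d8_2 (iv7 F21809) D27308 (iv3 D13132)
def n27309 : Q := act 6 n13086
theorem D27309 : act 6 n13086 = n27309 := rfl
theorem F44183 : act 2 n27309 = n13181 := d3_1 D27309 (iv6 D13181) (iv2 F21808)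
theorem F44184 : act 4 n27309 = n13087 := d10_1 D27309 (iv6 D13087) D13086
def n27310 : Q := act 0 n13087
theorem D27310 : act 0 n13087 = n27310 := rfl
def n27311 : Q := act 1 n13087
theorem D27311 : act 1 n13087 = n27311 := rfl
theorem F44185 : act 1 n27311 = n13192 := d15_1 D27311 F21972 (iv2 F21812)
def n27312 : Q := act 5 n13087
theorem D27312 : act 5 n13087 = n27312 := rfl
theorem F44186 : act 2 n27312 = n13195 := d2_1 D27312 (iv5 D13195) (iv2 F21812)
theorem F44187 : act 3 n27312 = n18126 := d6_1 D27312 (iv5 D18126) (iv3 F21813)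
theorem F44188 : act 6 n27312 = n13088 := d12_2 D13087 D27312 (iv5 D13088) (iv6 D6226) D6225
def n27313 : Q := act 7 n13087
theorem D27313 : act 7 n13087 = n27313 := rfl
theorem F44189 : act 2 n27313 = n13192 := d4_1 D27313 F21972 (iv2 F21812)
theorem F44190 : act 3 n27313 = n18127 := d8_1 D27313 (iv7 D18127) (iv3 F21813)
theorem F44191 : act 6 n27313 = n13137 := d14_1 D27313 (iv7 D13137) (iv6 D6252) (iv7 F9702) D13087
theorem F44192 : act 1 n13192 = n27310 := d15_0 (iv0 D27310) D27313 F44189
theorem F44193 : act 1 n13194 = n27313 := d15_1 D13194 (iv7 D27313) F21812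
theorem F44194 : act 1 n27313 = n13193 := d15_0 (iv0 D13193) (iv7 F21972) (iv2 F44189)
def n27314 : Q := act 4 n13088
theorem D27314 : act 4 n13088 = n27314 := rfl
theorem F44195 : act 2 n27314 = n13202 := d1_1 D27314 (iv4 D13202) (iv2 F21814)
def n27315 : Q := act 6 n13089
theorem D27315 : act 6 n13089 = n27315 := rfl
theorem F44196 : act 2 n27315 = n13097 := d3_1 D27315 (iv6 D13097) (iv2 F21816)
theorem F44197 : act 3 n27315 = n17088 := d7_1 D27315 (iv6 D17088) (iv3 F21817)
theorem F44198 : act 4 n27315 = n26778 := d10_1 D27315 (iv6 D26778) (iv4 F21820)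
theorem F44199 : act 5 n27315 = n27315 := d12_1 D27315 (iv6 D27315) (iv5 D13089) F9714 D13089
def n27316 : Q := act 6 n13090
theorem D27316 : act 6 n13090 = n27316 := rfl
theorem F44200 : act 2 n27316 = n17918 := d3_1 D27316 (iv6 D17918) F21824
theorem F44201 : act 3 n27316 = n18183 := d7_1 D27316 (iv6 D18183) F21825
def n27317 : Q := act 3 n13091
theorem D27317 : act 3 n13091 = n27317 := rfl
theorem F44202 : act 4 n27317 = n13102 := d5_2 D13091 D27317 (iv3 D13102) (iv4 D6236) (iv3 F9721)
theorem F44203 : act 5 n27317 = n26421 := d6_2 F35264 D27317 F42212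
theorem F44204 : act 7 n27317 = n19214 := d8_2 (iv7 F21827) D27317 (iv3 D19214)
def n27318 : Q := act 6 n13091
theorem D27318 : act 6 n13091 = n27318 := rfl
theorem F44205 : act 2 n27318 = n19164 := d3_1 D27318 (iv6 D19164) (iv2 F21826)
theorem F44206 : act 4 n27318 = n13092 := d10_1 D27318 (iv6 D13092) D13091
def n27319 : Q := act 0 n13092
theorem D27319 : act 0 n13092 = n27319 := rfl
def n27320 : Q := act 1 n13092
theorem D27320 : act 1 n13092 = n27320 := rfl
theorem F44207 : act 1 n27320 = n19167 := d15_1 D27320 (iv7 D19167) (iv2 F21829)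
def n27321 : Q := act 7 n13092
theorem D27321 : act 7 n13092 = n27321 := rfl
theorem F44208 : act 2 n27321 = n19167 := d4_1 D27321 (iv7 D19167) (iv2 F21829)
theorem F44209 : act 3 n27321 = n13107 := d8_1 D27321 (iv7 D13107) (iv3 F21830)
theorem F44210 : act 5 n27321 = n27321 := d13_1 D27321 (iv7 D27321) F21831
theorem F44211 : act 6 n27321 = n19219 := d14_1 D27321 (iv7 D19219) (iv6 D9033) (iv7 F9722) D13092
theorem F44212 : act 1 n19167 = n27319 := d15_0 (iv0 D27319) D27321 F44208
theorem F44213 : act 1 n19166 = n27321 := d15_1 D19166 (iv7 D27321) F21829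
theorem F44214 : act 1 n27321 = n19165 := d15_0 (iv0 D19165) D19167 (iv2 F44208)
def n27322 : Q := act 4 n13093
theorem D27322 : act 4 n13093 = n27322 := rfl
theorem F44215 : act 2 n27322 = n13140 := d1_1 D27322 F21922 (iv2 F21832)
theorem F44216 : act 7 n27322 = n13141 := d11_2 F28140 D27322 F28143
theorem F44217 : act 0 n27322 = n13128 := d18_2 (iv1 F21836) D27322 (iv4 D13128) F14007 D7967 F12847 (iv4 F21236) (iv0 D12795) D12796
theorem F44218 : act 1 n27322 = n13126 := d18_6 (iv1 F6467) D6228 F9725 (iv4 F9723) D13093 D27322 (iv4 D13126) (iv0 D6249) (iv5 D2628)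
def n27323 : Q := act 6 n13093
theorem D27323 : act 6 n13093 = n27323 := rfl
theorem F44219 : act 2 n27323 = n27035 := d3_1 D27323 (iv6 D27035) (iv2 F21832)
theorem F44220 : act 3 n27323 = n27225 := d7_1 D27323 (iv6 D27225) (iv3 F21833)
def n27324 : Q := act 5 n13094
theorem D27324 : act 5 n13094 = n27324 := rfl
theorem F44221 : act 2 n27324 = n17236 := d2_1 D27324 F28191 (iv2 F21837)
theorem F44222 : act 3 n27324 = n27226 := d6_1 D27324 (iv5 D27226) (iv3 F21838)
def n27325 : Q := act 6 n13095
theorem D27325 : act 6 n13095 = n27325 := rfl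
theorem F44223 : act 2 n27325 = n17154 := d3_1 D27325 (iv6 D17154) F21842
def n27326 : Q := act 3 n13096
theorem D27326 : act 3 n13096 = n27326 := rfl
theorem F44224 : act 7 n27326 = n26773 := d8_2 (iv7 F21855) D27326 (iv3 D26773)
def n27327 : Q := act 6 n13096
theorem D27327 : act 6 n13096 = n27327 := rfl
theorem F44225 : act 2 n27327 = n26778 := d3_1 D27327 (iv6 D26778) (iv2 F21846)
theorem F44226 : act 4 n27327 = n13097 := d10_1 D27327 (iv6 D13097) D13096
def n27328 : Q := act 0 n13097
theorem D27328 : act 0 n13097 = n27328 := rfl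
def n27329 : Q := act 1 n13097
theorem D27329 : act 1 n13097 = n27329 := rfl
def n27330 : Q := act 7 n13097
theorem D27330 : act 7 n13097 = n27330 := rfl
theorem F44227 : act 5 n27330 = n27330 := d13_1 D27330 (iv7 D27330) F21849
def n27331 : Q := act 6 n13098
theorem D27331 : act 6 n13098 = n27331 := rfl
theorem F44228 : act 2 n27331 = n13113 := d3_1 D27331 (iv6 D13113) (iv2 F21850)
theorem F44229 : act 3 n27331 = n19202 := d7_1 D27331 (iv6 D19202) (iv3 F21851)
theorem F44230 : act 4 n27331 = n26775 := d10_1 D27331 (iv6 D26775) F21854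
def n27332 : Q := act 5 n13099
theorem D27332 : act 5 n13099 = n27332 := rfl
theorem F44231 : act 2 n27332 = n13115 := d2_1 D27332 (iv5 D13115) (iv2 F21856)
theorem F44232 : act 3 n27332 = n19203 := d6_1 D27332 (iv5 D19203) (iv3 F21857)
theorem F44233 : act 7 n27332 = n27332 := d13_2 F21859 D27332 (iv5 D27332)
theorem F44234 : act 1 n27332 = n27189 := d17_6 F17510 D8433 F21870 (iv5 D13108) (iv4 F21858) D27332 (iv5 D27189) F21861 F9743
theorem F44235 : act 1 n27189 = n13115 := d15_1 F44234 F21886 (iv2 F44231)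
def n27333 : Q := act 3 n13100
theorem D27333 : act 3 n13100 = n27333 := rfl
theorem F44236 : act 4 n27333 = n17156 := d5_2 (iv4 F21862) D27333 (iv3 D17156) (iv4 D8044) (iv3 F12849)
def n27334 : Q := act 5 n13100
theorem D27334 : act 5 n13100 = n27334 := rfl
def n27335 : Q := act 6 n13100
theorem D27335 : act 6 n13100 = n27335 := rfl
theorem F44237 : act 4 n27335 = n17154 := d10_1 D27335 (iv6 D17154) (iv4 F21862)
def n27336 : Q := act 3 n13101
theorem D27336 : act 3 n13101 = n27336 := rfl
theorem F44238 : act 4 n27336 = n18029 := d5_2 (iv4 F28689) D27336 (iv3 D18029) (iv4 F16666) (iv3 F28684)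
theorem F44239 : act 0 n27336 = n16200 := d20_4 F21854 (iv1 F28687) (iv4 F28689) D27336 (iv3 D16200) (iv4 D7556) F25724 (iv4 F21267) (iv3 D12812) D12810
def n27337 : Q := act 5 n13101
theorem D27337 : act 5 n13101 = n27337 := rfl
def n27338 : Q := act 6 n13101
theorem D27338 : act 6 n13101 = n27338 := rfl
def n27339 : Q := act 0 n13102
theorem D27339 : act 0 n13102 = n27339 := rfl
theorem F44240 : act 5 n27339 = n26443 := d19_1 D27339 (iv4 D26443) F21016 (iv1 F12503) (iv5 D7895) F5614 (iv3 D1580) (iv1 F1615) (iv5 D545) (iv4 D277) F995 (iv1 D231) D232 D425 D730 D1225 D2619 D6236 D13102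
def n27340 : Q := act 1 n13102
theorem D27340 : act 1 n13102 = n27340 := rfl
theorem F44241 : act 4 n26451 = n27340 := d20_6 (iv4 D8012) (iv1 F7022) D10531 D22093 F34561 (iv3 F42308) (iv1 D27340) (iv4 F44202) (iv3 D27317) F21828
def n27341 : Q := act 2 n13102
theorem D27341 : act 2 n13102 = n27341 := rfl
def n27342 : Q := act 5 n13102
theorem D27342 : act 5 n13102 = n27342 := rfl
theorem F44242 : act 3 n27342 = n13103 := d6_1 D27342 (iv5 D13103) D13102
theorem F44243 : act 4 n27342 = n26426 := d16_4 D26421 (iv5 F44203) F44202 D27342 (iv5 D26426) (iv4 D12613) D12614 F25548 (iv2 F25536)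
def n27343 : Q := act 6 n13102
theorem D27343 : act 6 n13102 = n27343 := rfl
theorem F44244 : act 3 n27343 = n13104 := d7_1 D27343 (iv6 D13104) D13102
def n27344 : Q := act 0 n13103
theorem D27344 : act 0 n13103 = n27344 := rfl
theorem F44245 : act 5 n27344 = n13140 := d17_1 D27344 (iv1 F21923) D13153 (iv4 F21937) (iv5 D13161) (iv0 D6263) D6266 D13173 (iv4 F21955)
theorem F44246 : act 1 n13117 = n27344 := d15_0 (iv0 D27344) (iv7 F42999) F42998
def n27345 : Q := act 1 n13103
theorem D27345 : act 1 n13103 = n27345 := rfl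
theorem F44247 : act 1 n27345 = n13117 := d15_1 D27345 (iv7 F43017) F43016
theorem F44248 : act 5 n27345 = n13141 := d17_7 (iv1 D2630) (iv5 D1228) D1225 D2619 D6236 D13103 D27345 F21924 (iv4 D6260)
def n27346 : Q := act 6 n13103
theorem D27346 : act 6 n13103 = n27346 := rfl
def n27347 : Q := act 0 n13104
theorem D27347 : act 0 n13104 = n27347 := rfl
def n27348 : Q := act 1 n13104
theorem D27348 : act 1 n13104 = n27348 := rfl
def n27349 : Q := act 5 n13104
theorem D27349 : act 5 n13104 = n27349 := rfl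
def n27350 : Q := act 7 n13104
theorem D27350 : act 7 n13104 = n27350 := rfl
theorem F44249 : act 4 n27350 = n13107 := d11_1 D27350 (iv7 D13107) (iv4 F21865)
def n27351 : Q := act 2 n13105
theorem D27351 : act 2 n13105 = n27351 := rfl
theorem F44250 : act 7 n13106 = n27351 := d15_2 (iv0 D13105) D13106 (iv2 D27351)
def n27352 : Q := act 3 n13105
theorem D27352 : act 3 n13105 = n27352 := rfl
def n27353 : Q := act 4 n13105
theorem D27353 : act 4 n13105 = n27353 := rfl
def n27354 : Q := act 5 n13105
theorem D27354 : act 5 n13105 = n27354 := rfl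
def n27355 : Q := act 6 n13105
theorem D27355 : act 6 n13105 = n27355 := rfl
def n27356 : Q := act 7 n13105
theorem D27356 : act 7 n13105 = n27356 := rfl
theorem F44251 : act 2 n27356 = n13106 := d4_1 D27356 F44250 (iv2 D27351)
def n27359 : Q := act 5 n13106
theorem D27359 : act 5 n13106 = n27359 := rfl
def n27360 : Q := act 6 n13106
theorem D27360 : act 6 n13106 = n27360 := rfl
def n27361 : Q := act 4 n13108
theorem D27361 : act 4 n13108 = n27361 := rfl
def n27362 : Q := act 3 n13109
theorem D27362 : act 3 n13109 = n27362 := rfl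
theorem F44254 : act 4 n27362 = n13116 := d5_2 D13109 D27362 (iv3 D13116) (iv4 D6244) (iv3 F9740)
def n27363 : Q := act 5 n13109
theorem D27363 : act 5 n13109 = n27363 := rfl
theorem F44255 : act 0 n27363 = n26888 := d17_2 (iv1 F21873) D27363 (iv5 D26888) (iv4 D12869) F13450 F4173 D3754 (iv0 F13415) D8192
theorem F44256 : act 1 n27363 = n26881 := d17_6 F30559 (iv5 D13009) (iv1 F9636) D6240 D13109 D27363 (iv5 D26881) D26879 F43348
def n27364 : Q := act 6 n13109
theorem D27364 : act 6 n13109 = n27364 := rfl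
theorem F44257 : act 4 n27364 = n13110 := d10_1 D27364 (iv6 D13110) D13109
def n27365 : Q := act 0 n13110
theorem D27365 : act 0 n13110 = n27365 := rfl
def n27366 : Q := act 1 n13110
theorem D27366 : act 1 n13110 = n27366 := rfl
def n27367 : Q := act 5 n13110
theorem D27367 : act 5 n13110 = n27367 := rfl
theorem F44258 : act 3 n27367 = n13121 := d6_1 D27367 (iv5 D13121) (iv3 F21874)
theorem F44259 : act 6 n27367 = n13111 := d12_2 D13110 D27367 (iv5 D13111) (iv6 D6241) D6240
def n27368 : Q := act 7 n13110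
theorem D27368 : act 7 n13110 = n27368 := rfl
theorem F44260 : act 3 n27368 = n13122 := d8_1 D27368 (iv7 D13122) (iv3 F21874)
def n27370 : Q := act 3 n13112
theorem D27370 : act 3 n13112 = n27370 := rfl
theorem F44264 : act 7 n27370 = n26776 := d8_2 (iv7 F21878) D27370 (iv3 D26776)
def n27371 : Q := act 6 n13112
theorem D27371 : act 6 n13112 = n27371 := rfl
theorem F44265 : act 2 n27371 = n26775 := d3_1 D27371 (iv6 D26775) (iv2 F21877)
theorem F44266 : act 4 n27371 = n13113 := d10_1 D27371 (iv6 D13113) D13112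
def n27372 : Q := act 0 n13113
theorem D27372 : act 0 n13113 = n27372 := rfl
def n27373 : Q := act 1 n13113
theorem D27373 : act 1 n13113 = n27373 := rfl
def n27374 : Q := act 5 n13113
theorem D27374 : act 5 n13113 = n27374 := rfl
theorem F44267 : act 6 n27374 = n13115 := d12_2 D13113 D27374 (iv5 D13115) (iv6 D6243) D6242
def n27375 : Q := act 7 n13113
theorem D27375 : act 7 n13113 = n27375 := rfl
def n27376 : Q := act 5 n13114
theorem D27376 : act 5 n13114 = n27376 := rfl
theorem F44268 : act 2 n27376 = n27189 := d2_1 D27376 (iv5 D27189) (iv2 F21884)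
theorem F44269 : act 3 n27376 = n18053 := d6_1 D27376 (iv5 D18053) F21883
theorem F44271 : act 0 n27376 = n13115 := d17_2 (iv1 F21881) D27376 (iv5 D13115) F9743 D6248 (iv0 F21892) (iv5 D13123) F9746 (iv4 F21858)
theorem F44272 : act 1 n27376 = n27332 := d17_6 (iv1 D13114) D13115 (iv1 F44235) (iv5 D27189) F21882 D27376 (iv5 D27332) (iv0 F21860) F21882
def n27377 : Q := act 4 n13115
theorem D27377 : act 4 n13115 = n27377 := rfl
def n27378 : Q := act 0 n13116
theorem D27378 : act 0 n13116 = n27378 := rfl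
def n27379 : Q := act 1 n13116
theorem D27379 : act 1 n13116 = n27379 := rfl
def n27380 : Q := act 2 n13116
theorem D27380 : act 2 n13116 = n27380 := rfl
def n27381 : Q := act 5 n13116
theorem D27381 : act 5 n13116 = n27381 := rfl
theorem F44275 : act 3 n27381 = n13117 := d6_1 D27381 (iv5 D13117) D13116
def n27382 : Q := act 6 n13116
theorem D27382 : act 6 n13116 = n27382 := rfl
theorem F44276 : act 3 n27382 = n13118 := d7_1 D27382 (iv6 D13118) D13116
def n27383 : Q := act 6 n13117
theorem D27383 : act 6 n13117 = n27383 := rfl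
def n27384 : Q := act 0 n13118
theorem D27384 : act 0 n13118 = n27384 := rfl
def n27385 : Q := act 1 n13118
theorem D27385 : act 1 n13118 = n27385 := rfl
def n27386 : Q := act 5 n13118
theorem D27386 : act 5 n13118 = n27386 := rfl
def n27387 : Q := act 7 n13118
theorem D27387 : act 7 n13118 = n27387 := rfl
theorem F44277 : act 4 n27387 = n13122 := d11_1 D27387 (iv7 D13122) (iv4 F21887)
def n27388 : Q := act 2 n13119
theorem D27388 : act 2 n13119 = n27388 := rfl
theorem F44278 : act 7 n13120 = n27388 := d15_2 (iv0 D13119) D13120 (iv2 D27388)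
def n27389 : Q := act 3 n13119
theorem D27389 : act 3 n13119 = n27389 := rfl
def n27390 : Q := act 4 n13119
theorem D27390 : act 4 n13119 = n27390 := rfl
def n27391 : Q := act 5 n13119
theorem D27391 : act 5 n13119 = n27391 := rfl
def n27392 : Q := act 6 n13119
theorem D27392 : act 6 n13119 = n27392 := rfl
def n27393 : Q := act 7 n13119
theorem D27393 : act 7 n13119 = n27393 := rfl
theorem F44279 : act 2 n27393 = n13120 := d4_1 D27393 F44278 (iv2 D27388)
def n27394 : Q := act 3 n13120
theorem D27394 : act 3 n13120 = n27394 := rfl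
def n27395 : Q := act 4 n13120
theorem D27395 : act 4 n13120 = n27395 := rfl
def n27396 : Q := act 5 n13120
theorem D27396 : act 5 n13120 = n27396 := rfl
def n27397 : Q := act 6 n13120
theorem D27397 : act 6 n13120 = n27397 := rfl
def n27398 : Q := act 0 n13121
theorem D27398 : act 0 n13121 = n27398 := rfl
def n27399 : Q := act 1 n13121
theorem D27399 : act 1 n13121 = n27399 := rfl
def n27400 : Q := act 4 n13121
theorem D27400 : act 4 n13121 = n27400 := rfl
def n27401 : Q := act 7 n13121
theorem D27401 : act 7 n13121 = n27401 := rfl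
theorem F44281 : act 5 n27401 = n13122 := d13_1 D27401 (iv7 D13122) D13121
theorem F44282 : act 6 n27401 = n27401 := d14_1 D27401 (iv7 D27401) F21888 F9747 (iv6 F21888)
def n27402 : Q := act 4 n13123
theorem D27402 : act 4 n13123 = n27402 := rfl
theorem F44283 : act 2 n27402 = n17877 := d1_1 D27402 (iv4 D17877) (iv2 F21889)
def n27403 : Q := act 6 n13123
theorem D27403 : act 6 n13123 = n27403 := rfl
theorem F44286 : act 2 n27403 = n17878 := d3_1 D27403 (iv6 D17878) (iv2 F21889)
theorem F44287 : act 3 n27403 = n18225 := d7_1 D27403 (iv6 D18225) (iv3 F21890)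
def n27404 : Q := act 0 n13124
theorem D27404 : act 0 n13124 = n27404 := rfl
theorem F44288 : act 4 n27404 = n27376 := d18_3 F21892 D13124 D27404 (iv5 D27376) (iv4 F21882) F21861 F9743 D6247 D13123
def n27405 : Q := act 1 n13124
theorem D27405 : act 1 n13124 = n27405 := rfl
theorem F44292 : act 4 n27405 = n27189 := d18_7 (iv1 F21861) F21882 (iv1 D13114) F9743 D6248 D13124 D27405 F44235 (iv5 D13115)
theorem F44293 : act 2 n27404 = n27405 := d1_3 F44292 (iv2 F44268) (iv4 F44288)
def n27407 : Q := act 5 n13124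
theorem D27407 : act 5 n13124 = n27407 := rfl
def n27408 : Q := act 6 n13125
theorem D27408 : act 6 n13125 = n27408 := rfl
theorem F44297 : act 3 n27408 = n13127 := d7_1 D27408 (iv6 D13127) D13125
def n27409 : Q := act 3 n13126
theorem D27409 : act 3 n13126 = n27409 := rfl
theorem F44298 : act 7 n27409 = n13152 := d8_2 (iv7 F21900) D27409 (iv3 D13152)
def n27410 : Q := act 5 n13126
theorem D27410 : act 5 n13126 = n27410 := rfl
theorem F44299 : act 2 n27410 = n13143 := d2_1 D27410 (iv5 D13143) (iv2 F21899)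
theorem F44300 : act 7 n27410 = n13153 := d13_2 (iv7 F21900) D27410 (iv5 D13153)
theorem F44301 : act 0 n27410 = n27337 := d17_2 F28146 D27410 (iv5 D27337) F28689 F28685 (iv0 D12795) D12796 F21242 D17182
theorem F44302 : act 1 n27410 = n27334 := d17_6 F14020 (iv5 D6058) (iv1 F5641) (iv5 F14010) D13126 D27410 (iv5 D27334) (iv0 D13100) (iv4 D6236)
def n27411 : Q := act 6 n13126
theorem D27411 : act 6 n13126 = n27411 := rfl
theorem F44303 : act 2 n27411 = n13144 := d3_1 D27411 (iv6 D13144) (iv2 F21899)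
theorem F44304 : act 4 n27411 = n13127 := d10_1 D27411 (iv6 D13127) D13126
def n27412 : Q := act 0 n13127
theorem D27412 : act 0 n13127 = n27412 := rfl
theorem F44305 : act 6 n27412 = n27359 := d21_5 (iv5 D6058) (iv1 F5641) (iv5 F14010) D13127 D27412 (iv5 D27359) (iv1 D13106) F9732 (iv6 D6237) F14020
def n27413 : Q := act 1 n13127
theorem D27413 : act 1 n13127 = n27413 := rfl
theorem F44306 : act 1 n27413 = n13148 := d15_1 D27413 (iv7 D13148) (iv2 F21901)
def n27414 : Q := act 5 n13127
theorem D27414 : act 5 n13127 = n27414 := rfl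
theorem F44307 : act 2 n27414 = n13147 := d2_1 D27414 (iv5 D13147) (iv2 F21901)
theorem F44308 : act 6 n27414 = n17047 := d12_2 D13127 D27414 (iv5 D17047) (iv6 D7973) (iv5 F14010)
def n27415 : Q := act 7 n13127
theorem D27415 : act 7 n13127 = n27415 := rfl
theorem F44309 : act 2 n27415 = n13148 := d4_1 D27415 (iv7 D13148) (iv2 F21901)
theorem F44310 : act 6 n27415 = n13158 := d14_1 D27415 (iv7 D13158) (iv6 D6262) F14029 D13127
theorem F44311 : act 1 n13148 = n27412 := d15_0 (iv0 D27412) D27415 F44309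
theorem F44312 : act 1 n13146 = n27415 := d15_1 D13146 (iv7 D27415) F21901
theorem F44313 : act 1 n27415 = n13145 := d15_0 (iv0 D13145) D13148 (iv2 F44309)
def n27416 : Q := act 3 n13128
theorem D27416 : act 3 n13128 = n27416 := rfl
theorem F44314 : act 4 n27416 = n18958 := d5_2 D13128 D27416 (iv3 D18958) (iv4 F14004) (iv3 F14006)
theorem F44315 : act 7 n27416 = n13142 := d8_2 (iv7 F21903) D27416 (iv3 D13142)
def n27417 : Q := act 5 n13128
theorem D27417 : act 5 n13128 = n27417 := rfl
theorem F44316 : act 2 n27417 = n13153 := d2_1 D27417 (iv5 D13153) (iv2 F21902)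
theorem F44317 : act 7 n27417 = n13143 := d13_2 (iv7 F21903) D27417 (iv5 D13143)
theorem F44318 : act 0 n27417 = n27334 := d17_2 F44217 D27417 (iv5 D27334) F21862 (iv5 D8040) F12728 D12800 (iv0 F21834) D27322
theorem F44319 : act 1 n27417 = n27337 := d17_6 (iv1 F14022) (iv5 D3612) D3609 (iv5 F14007) D13128 D27417 (iv5 D27337) F21864 (iv4 D6244)
def n27418 : Q := act 6 n13128
theorem D27418 : act 6 n13128 = n27418 := rfl
theorem F44320 : act 2 n27418 = n13154 := d3_1 D27418 (iv6 D13154) (iv2 F21902)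
theorem F44321 : act 4 n27418 = n13129 := d10_1 D27418 (iv6 D13129) D13128
def n27419 : Q := act 0 n13129
theorem D27419 : act 0 n13129 = n27419 := rfl
def n27420 : Q := act 1 n13129
theorem D27420 : act 1 n13129 = n27420 := rfl
theorem F44322 : act 1 n27420 = n13158 := d15_1 D27420 (iv7 D13158) (iv2 F21904)
def n27421 : Q := act 5 n13129
theorem D27421 : act 5 n13129 = n27421 := rfl
theorem F44323 : act 2 n27421 = n13157 := d2_1 D27421 (iv5 D13157) (iv2 F21904)
theorem F44324 : act 6 n27421 = n13197 := d12_2 D13129 D27421 (iv5 D13197) F13906 (iv5 F14007)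
def n27422 : Q := act 7 n13129
theorem D27422 : act 7 n13129 = n27422 := rfl
theorem F44325 : act 2 n27422 = n13158 := d4_1 D27422 (iv7 D13158) (iv2 F21904)
theorem F44326 : act 6 n27422 = n13148 := d14_1 D27422 (iv7 D13148) (iv6 D6257) (iv7 F14027) D13129
theorem F44327 : act 1 n13158 = n27419 := d15_0 (iv0 D27419) D27422 F44325
theorem F44328 : act 1 n13156 = n27422 := d15_1 D13156 (iv7 D27422) F21904
theorem F44329 : act 1 n27422 = n13155 := d15_0 (iv0 D13155) D13158 (iv2 F44325)
def n27423 : Q := act 3 n13130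
theorem D27423 : act 3 n13130 = n27423 := rfl
theorem F44330 : act 7 n27423 = n13164 := d8_2 (iv7 F27950) D27423 (iv3 D13164)
def n27424 : Q := act 5 n13130
theorem D27424 : act 5 n13130 = n27424 := rfl
theorem F44331 : act 2 n27424 = n13161 := d2_1 D27424 (iv5 D13161) (iv2 F27949)
theorem F44332 : act 7 n27424 = n13165 := d13_2 (iv7 F27950) D27424 (iv5 D13165)
theorem F44333 : act 4 n27424 = n27417 := d16_2 F27956 D27424 (iv5 D27417) (iv4 D13128) F14007 D7967 D17043 F27944 (iv2 F27952)
theorem F44334 : act 0 n27424 = n17051 := d17_2 D13130 D27424 (iv5 D17051) (iv4 D7978) (iv5 D3612) D3610 (iv5 F14010) (iv0 D6249) D6251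
theorem F44335 : act 1 n27424 = n26753 := d17_6 D13095 F21843 F12845 D17045 F27956 D27424 (iv5 D26753) (iv0 F21847) (iv4 D13096)
def n27425 : Q := act 6 n13130
theorem D27425 : act 6 n13130 = n27425 := rfl
theorem F44336 : act 2 n27425 = n13162 := d3_1 D27425 (iv6 D13162) (iv2 F27949)
def n27426 : Q := act 3 n13131
theorem D27426 : act 3 n13131 = n27426 := rfl
theorem F44337 : act 7 n27426 = n13160 := d8_2 (iv7 F27948) D27426 (iv3 D13160)
def n27427 : Q := act 5 n13131
theorem D27427 : act 5 n13131 = n27427 := rfl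
theorem F44338 : act 2 n27427 = n13165 := d2_1 D27427 (iv5 D13165) (iv2 F27947)
theorem F44339 : act 4 n27427 = n27410 := d9_1 D27427 (iv5 D27410) (iv4 D13126) F14010 D7971 D17045 F27956 D27424 F44333 (iv5 D27417) (iv4 D13128) F14007 D7967 D17043 F27946
theorem F44340 : act 7 n27427 = n13161 := d13_2 (iv7 F27948) D27427 (iv5 D13161)
theorem F44341 : act 0 n27427 = n26753 := d17_2 (iv1 F21906) D27427 (iv5 D26753) (iv4 D12803) (iv5 D6058) F5636 (iv5 F14007) F9749 (iv4 F9759)
theorem F44342 : act 1 n27427 = n17051 := d17_6 (iv1 F21819) F13428 (iv1 F12847) D17043 F27946 D27427 (iv5 D17051) (iv0 F21879) (iv4 D13112)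
def n27428 : Q := act 6 n13131
theorem D27428 : act 6 n13131 = n27428 := rfl
theorem F44343 : act 2 n27428 = n13166 := d3_1 D27428 (iv6 D13166) (iv2 F27947)
def n27429 : Q := act 0 n13132
theorem D27429 : act 0 n13132 = n27429 := rfl
theorem F44344 : act 1 n16221 = n27429 := d15_0 (iv0 D27429) (iv7 F44182) F44180
def n27430 : Q := act 1 n13132
theorem D27430 : act 1 n13132 = n27430 := rfl
def n27431 : Q := act 2 n13132
theorem D27431 : act 2 n13132 = n27431 := rfl
theorem F44345 : act 3 n27431 = n13169 := d0_2 D13132 D27431 (iv2 D13169) (iv3 D6265) (iv2 F9750)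
theorem F44346 : act 4 n27431 = n18254 := d1_2 (iv4 F21907) D27431 (iv2 D18254)
theorem F44347 : act 7 n27431 = n16221 := d4_2 F44182 D27431 (iv2 F44180)
theorem F44348 : act 1 n27430 = n16221 := d15_1 D27430 (iv7 F44347) (iv2 D27431)
def n27432 : Q := act 5 n13132
theorem D27432 : act 5 n13132 = n27432 := rfl
theorem F44349 : act 3 n27432 = n13133 := d6_1 D27432 (iv5 D13133) D13132
def n27433 : Q := act 6 n13132
theorem D27433 : act 6 n13132 = n27433 := rfl
theorem F44350 : act 3 n27433 = n13134 := d7_1 D27433 (iv6 D13134) D13132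
theorem F44351 : act 4 n27433 = n18256 := d10_1 D27433 (iv6 D18256) (iv4 F21907)
def n27434 : Q := act 6 n13133
theorem D27434 : act 6 n13133 = n27434 := rfl
theorem F44352 : act 2 n27434 = n13175 := d3_1 D27434 (iv6 D13175) (iv2 F21908)
def n27435 : Q := act 0 n13134
theorem D27435 : act 0 n13134 = n27435 := rfl
def n27436 : Q := act 1 n13134
theorem D27436 : act 1 n13134 = n27436 := rfl
theorem F44353 : act 1 n27436 = n13180 := d15_1 D27436 (iv7 D13180) (iv2 F21909)
def n27437 : Q := act 5 n13134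
theorem D27437 : act 5 n13134 = n27437 := rfl
theorem F44354 : act 2 n27437 = n13179 := d2_1 D27437 (iv5 D13179) (iv2 F21909)
def n27438 : Q := act 7 n13134
theorem D27438 : act 7 n13134 = n27438 := rfl
theorem F44355 : act 2 n27438 = n13180 := d4_1 D27438 (iv7 D13180) (iv2 F21909)
theorem F44356 : act 4 n27438 = n13137 := d11_1 D27438 (iv7 D13137) (iv4 F21910)
theorem F44357 : act 1 n13180 = n27435 := d15_0 (iv0 D27435) D27438 F44355
theorem F44358 : act 1 n13178 = n27438 := d15_1 D13178 (iv7 D27438) F21909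
theorem F44359 : act 1 n27438 = n13177 := d15_0 (iv0 D13177) D13180 (iv2 F44355)
def n27439 : Q := act 2 n13135
theorem D27439 : act 2 n13135 = n27439 := rfl
theorem F44360 : act 7 n13136 = n27439 := d15_2 (iv0 D13135) D13136 (iv2 D27439)
def n27440 : Q := act 3 n13135
theorem D27440 : act 3 n13135 = n27440 := rfl
def n27441 : Q := act 4 n13135
theorem D27441 : act 4 n13135 = n27441 := rfl
def n27442 : Q := act 5 n13135
theorem D27442 : act 5 n13135 = n27442 := rfl
def n27443 : Q := act 7 n13135
theorem D27443 : act 7 n13135 = n27443 := rfl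
theorem F44361 : act 2 n27443 = n13136 := d4_1 D27443 F44360 (iv2 D27439)
def n27444 : Q := act 3 n13136
theorem D27444 : act 3 n13136 = n27444 := rfl
theorem F44362 : act 4 n27444 = n18971 := d20_6 (iv4 F28967) (iv1 F9811) F9807 (iv3 F9760) (iv1 F21911) D27444 (iv1 D18971) F13856 F5916 D3970
def n27445 : Q := act 4 n13136
theorem D27445 : act 4 n13136 = n27445 := rfl
def n27446 : Q := act 6 n13136
theorem D27446 : act 6 n13136 = n27446 := rfl
def n27447 : Q := act 3 n13138
theorem D27447 : act 3 n13138 = n27447 := rfl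
theorem F44363 : act 4 n27447 = n13142 := d5_2 D13138 D27447 (iv3 D13142) (iv4 D6255) D6254
theorem F44364 : act 5 n27447 = n15953 := d6_2 F36435 D27447 (iv3 F36433)
theorem F44365 : act 7 n27447 = n18958 := d8_2 (iv7 F21918) D27447 (iv3 D18958)
def n27448 : Q := act 6 n13138
theorem D27448 : act 6 n13138 = n27448 := rfl
theorem F44366 : act 2 n27448 = n18957 := d3_1 D27448 (iv6 D18957) (iv2 F21917)
theorem F44367 : act 4 n27448 = n13139 := d10_1 D27448 (iv6 D13139) D13138
def n27449 : Q := act 0 n13139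
theorem D27449 : act 0 n13139 = n27449 := rfl
def n27450 : Q := act 1 n13139
theorem D27450 : act 1 n13139 = n27450 := rfl
def n27451 : Q := act 5 n13139
theorem D27451 : act 5 n13139 = n27451 := rfl
theorem F44368 : act 3 n27451 = n13147 := d6_1 D27451 (iv5 D13147) (iv3 F21921)
theorem F44369 : act 6 n27451 = n19833 := d12_2 D13139 D27451 (iv5 D19833) (iv6 D9330) F14037
def n27452 : Q := act 7 n13139
theorem D27452 : act 7 n13139 = n27452 := rfl
theorem F44370 : act 3 n27452 = n13148 := d8_1 D27452 (iv7 D13148) (iv3 F21921)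
def n27453 : Q := act 3 n13140
theorem D27453 : act 3 n13140 = n27453 := rfl
theorem F44371 : act 4 n27453 = n27036 := d5_2 (iv4 F21922) D27453 (iv3 D27036) (iv4 D12955) D12954
def n27454 : Q := act 6 n13140
theorem D27454 : act 6 n13140 = n27454 := rfl
theorem F44372 : act 4 n27454 = n27035 := d10_1 D27454 (iv6 D27035) (iv4 F21922)
def n27455 : Q := act 3 n13141
theorem D27455 : act 3 n13141 = n27455 := rfl
theorem F44373 : act 4 n27455 = n18567 := d5_2 (iv4 F28143) D27455 (iv3 D18567) (iv4 F14296) (iv3 F28138)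
theorem F44374 : act 0 n27455 = n16261 := d20_4 (iv4 F27946) (iv1 F28141) (iv4 F28143) D27455 (iv3 D16261) (iv4 D7573) (iv1 D3446) D3447 (iv3 F9758) (iv1 F21906)
theorem F44375 : act 2 n22133 = n27455 := d1_3 F44373 F29809 D22133
def n27456 : Q := act 6 n13141
theorem D27456 : act 6 n13141 = n27456 := rfl
def n27457 : Q := act 0 n13142
theorem D27457 : act 0 n13142 = n27457 := rfl
theorem F44376 : act 5 n27457 = n26988 := d19_1 D27457 (iv4 D26988) F21473 F9526 (iv5 D5091) (iv4 D2086) F1926 (iv1 F1562) (iv5 D829) F782 F399 (iv1 F1052) D411 D717 D1193 D2555 F14026 D6255 D13142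
def n27458 : Q := act 1 n13142
theorem D27458 : act 1 n13142 = n27458 := rfl
theorem F44377 : act 4 n26633 = n27458 := d20_6 F13857 (iv1 F13838) D18928 F30217 F28904 (iv3 F42682) (iv1 D27458) (iv4 F44363) (iv3 D27447) F21919
def n27459 : Q := act 2 n13142
theorem D27459 : act 2 n13142 = n27459 := rfl
def n27460 : Q := act 5 n13142
theorem D27460 : act 5 n13142 = n27460 := rfl
theorem F44378 : act 3 n27460 = n13143 := d6_1 D27460 (iv5 D13143) D13142
theorem F44379 : act 4 n27460 = n27007 := d16_4 D15953 (iv5 F44364) F44363 D27460 (iv5 D27007) (iv4 D12932) F35189 F35188 F35184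
def n27461 : Q := act 6 n13142
theorem D27461 : act 6 n13142 = n27461 := rfl
theorem F44380 : act 3 n27461 = n13144 := d7_1 D27461 (iv6 D13144) D13142
def n27462 : Q := act 0 n13143
theorem D27462 : act 0 n13143 = n27462 := rfl
theorem F44381 : act 5 n27462 = n17631 := d17_1 D27462 F28692 D26768 (iv4 F43029) (iv5 D26774) (iv0 D12810) D12813 (iv0 F21941) F21940
theorem F44382 : act 4 n27462 = n27334 := d18_1 D27462 (iv1 F44302) (iv4 F44339) (iv5 D27427) (iv4 F27946) F27945 (iv4 F21922) (iv0 D13140) D13143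
theorem F44383 : act 1 n13153 = n27462 := d15_0 (iv0 D27462) (iv7 F44317) F44316
theorem F44384 : act 2 n27337 = n27462 := d2_3 F44381 F28690 D27337
theorem F44385 : act 7 n27334 = n27462 := d13_0 F44381 F28691 D27334
def n27463 : Q := act 1 n13143
theorem D27463 : act 1 n13143 = n27463 := rfl
theorem F44386 : act 1 n27463 = n13153 := d15_1 D27463 (iv7 F44300) F44299
theorem F44387 : act 7 n27463 = n27337 := d15_2 (iv0 D27462) D27463 F44384
theorem F44388 : act 5 n27463 = n26758 := d17_7 (iv1 D6060) (iv5 D2558) D2555 F14026 D6255 D13143 D27463 F42992 (iv4 D12808)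
theorem F44389 : act 4 n27463 = n27337 := d18_7 (iv1 F44218) (iv4 D27322) F21834 F21248 D13165 F21940 D27463 (iv0 F44301) (iv5 D27410)
theorem F44390 : act 2 n27334 = n27463 := d1_3 F44389 F44384 F44382
def n27464 : Q := act 6 n13143
theorem D27464 : act 6 n13143 = n27464 := rfl
def n27465 : Q := act 0 n13144
theorem D27465 : act 0 n13144 = n27465 := rfl
def n27466 : Q := act 1 n13144
theorem D27466 : act 1 n13144 = n27466 := rfl
def n27467 : Q := act 5 n13144
theorem D27467 : act 5 n13144 = n27467 := rfl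
def n27468 : Q := act 7 n13144
theorem D27468 : act 7 n13144 = n27468 := rfl
theorem F44391 : act 4 n27468 = n13148 := d11_1 D27468 (iv7 D13148) (iv4 F21925)
def n27469 : Q := act 2 n13145
theorem D27469 : act 2 n13145 = n27469 := rfl
theorem F44392 : act 7 n13146 = n27469 := d15_2 (iv0 D13145) D13146 (iv2 D27469)
def n27470 : Q := act 3 n13145
theorem D27470 : act 3 n13145 = n27470 := rfl
def n27471 : Q := act 4 n13145
theorem D27471 : act 4 n13145 = n27471 := rfl
def n27472 : Q := act 5 n13145
theorem D27472 : act 5 n13145 = n27472 := rfl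
def n27473 : Q := act 6 n13145
theorem D27473 : act 6 n13145 = n27473 := rfl
theorem F44393 : act 5 n27473 = n26771 := d21_6 (iv5 D2558) D2555 F14026 D6257 D13145 D27473 (iv1 D26771) F21266 (iv6 D12809) (iv1 D6060)
def n27474 : Q := act 7 n13145
theorem D27474 : act 7 n13145 = n27474 := rfl
theorem F44394 : act 2 n27474 = n13146 := d4_1 D27474 F44392 (iv2 D27469)
def n27475 : Q := act 3 n13146
theorem D27475 : act 3 n13146 = n27475 := rfl
def n27476 : Q := act 4 n13146
theorem D27476 : act 4 n13146 = n27476 := rfl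
def n27477 : Q := act 5 n13146
theorem D27477 : act 5 n13146 = n27477 := rfl
def n27478 : Q := act 6 n13146
theorem D27478 : act 6 n13146 = n27478 := rfl
def n27479 : Q := act 0 n13147
theorem D27479 : act 0 n13147 = n27479 := rfl
def n27480 : Q := act 1 n13147
theorem D27480 : act 1 n13147 = n27480 := rfl
theorem F44395 : act 5 n27392 = n27480 := d21_6 (iv5 D6225) (iv1 F4213) D2624 D6245 D13119 D27392 (iv1 D27480) (iv5 D13147) (iv6 D6257) (iv1 F9704)
def n27481 : Q := act 4 n13147
theorem D27481 : act 4 n13147 = n27481 := rfl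
theorem F44396 : act 6 n27481 = n26747 := d10_2 (iv6 F21926) D27481 (iv4 D26747)
def n27482 : Q := act 7 n13147
theorem D27482 : act 7 n13147 = n27482 := rfl
theorem F44397 : act 5 n27482 = n13148 := d13_1 D27482 (iv7 D13148) D13147
def n27483 : Q := act 6 n13149
theorem D27483 : act 6 n13149 = n27483 := rfl
theorem F44398 : act 2 n27483 = n13151 := d3_1 D27483 (iv6 D13151) D13149
theorem F44399 : act 3 n27483 = n19831 := d7_1 D27483 (iv6 D19831) (iv3 F21927)
def n27484 : Q := act 3 n13150
theorem D27484 : act 3 n13150 = n27484 := rfl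
theorem F44400 : act 4 n27484 = n13152 := d5_2 D13150 D27484 (iv3 D13152) (iv4 D6260) D6259
def n27485 : Q := act 5 n13150
theorem D27485 : act 5 n13150 = n27485 := rfl
theorem F44401 : act 0 n27485 = n17756 := d17_2 (iv1 F21932) D27485 (iv5 D17756) (iv4 D8373) (iv5 F13320) F4097 D3700 F9480 D12867
theorem F44402 : act 1 n27485 = n17749 := d17_6 F13474 F13466 F12770 (iv5 F14035) D13150 D27485 (iv5 D17749) D17747 F28865
def n27486 : Q := act 6 n13150
theorem D27486 : act 6 n13150 = n27486 := rfl
theorem F44403 : act 4 n27486 = n13151 := d10_1 D27486 (iv6 D13151) D13150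
def n27487 : Q := act 0 n13151
theorem D27487 : act 0 n13151 = n27487 := rfl
def n27488 : Q := act 1 n13151
theorem D27488 : act 1 n13151 = n27488 := rfl
def n27489 : Q := act 5 n13151
theorem D27489 : act 5 n13151 = n27489 := rfl
theorem F44404 : act 3 n27489 = n13157 := d6_1 D27489 (iv5 D13157) (iv3 F21933)
theorem F44405 : act 6 n27489 = n26748 := d12_2 D13151 D27489 (iv5 D26748) (iv6 D12799) (iv5 F14035)
def n27490 : Q := act 7 n13151
theorem D27490 : act 7 n13151 = n27490 := rfl
theorem F44406 : act 3 n27490 = n13158 := d8_1 D27490 (iv7 D13158) (iv3 F21933)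
def n27491 : Q := act 0 n13152
theorem D27491 : act 0 n13152 = n27491 := rfl
def n27492 : Q := act 1 n13152
theorem D27492 : act 1 n13152 = n27492 := rfl
def n27493 : Q := act 2 n13152
theorem D27493 : act 2 n13152 = n27493 := rfl
def n27494 : Q := act 5 n13152
theorem D27494 : act 5 n13152 = n27494 := rfl
theorem F44407 : act 3 n27494 = n13153 := d6_1 D27494 (iv5 D13153) D13152
def n27495 : Q := act 6 n13152
theorem D27495 : act 6 n13152 = n27495 := rfl
theorem F44408 : act 3 n27495 = n13154 := d7_1 D27495 (iv6 D13154) D13152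
def n27496 : Q := act 6 n13153
theorem D27496 : act 6 n13153 = n27496 := rfl
def n27497 : Q := act 0 n13154
theorem D27497 : act 0 n13154 = n27497 := rfl
def n27498 : Q := act 1 n13154
theorem D27498 : act 1 n13154 = n27498 := rfl
def n27499 : Q := act 5 n13154
theorem D27499 : act 5 n13154 = n27499 := rfl
def n27500 : Q := act 7 n13154
theorem D27500 : act 7 n13154 = n27500 := rfl
theorem F44409 : act 4 n27500 = n13158 := d11_1 D27500 (iv7 D13158) (iv4 F21934)
def n27501 : Q := act 2 n13155
theorem D27501 : act 2 n13155 = n27501 := rfl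
theorem F44410 : act 7 n13156 = n27501 := d15_2 (iv0 D13155) D13156 (iv2 D27501)
def n27502 : Q := act 3 n13155
theorem D27502 : act 3 n13155 = n27502 := rfl
def n27503 : Q := act 4 n13155
theorem D27503 : act 4 n13155 = n27503 := rfl
def n27504 : Q := act 5 n13155
theorem D27504 : act 5 n13155 = n27504 := rfl
def n27505 : Q := act 6 n13155
theorem D27505 : act 6 n13155 = n27505 := rfl
def n27506 : Q := act 7 n13155
theorem D27506 : act 7 n13155 = n27506 := rfl
theorem F44411 : act 2 n27506 = n13156 := d4_1 D27506 F44410 (iv2 D27501)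
def n27507 : Q := act 3 n13156
theorem D27507 : act 3 n13156 = n27507 := rfl
def n27508 : Q := act 4 n13156
theorem D27508 : act 4 n13156 = n27508 := rfl
def n27509 : Q := act 5 n13156
theorem D27509 : act 5 n13156 = n27509 := rfl
theorem F44412 : act 6 n27479 = n27509 := d21_5 (iv5 D12911) (iv1 F17555) D12798 (iv6 F21926) D27479 (iv5 D27509) (iv1 D13156) D13157 F21935 F21449
def n27510 : Q := act 6 n13156
theorem D27510 : act 6 n13156 = n27510 := rfl
def n27511 : Q := act 0 n13157
theorem D27511 : act 0 n13157 = n27511 := rfl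
def n27512 : Q := act 1 n13157
theorem D27512 : act 1 n13157 = n27512 := rfl
theorem F44413 : act 5 n27355 = n27512 := d21_6 (iv5 D1228) D1225 D2619 D6237 D13105 D27355 (iv1 D27512) (iv5 D13157) (iv6 D6262) (iv1 D2630)
def n27513 : Q := act 4 n13157
theorem D27513 : act 4 n13157 = n27513 := rfl
theorem F44414 : act 6 n27513 = n26751 := d10_2 (iv6 F21935) D27513 (iv4 D26751)
def n27514 : Q := act 7 n13157
theorem D27514 : act 7 n13157 = n27514 := rfl
theorem F44415 : act 5 n27514 = n13158 := d13_1 D27514 (iv7 D13158) D13157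
def n27515 : Q := act 0 n13160
theorem D27515 : act 0 n13160 = n27515 := rfl
def n27516 : Q := act 1 n13160
theorem D27516 : act 1 n13160 = n27516 := rfl
def n27517 : Q := act 2 n13160
theorem D27517 : act 2 n13160 = n27517 := rfl
def n27518 : Q := act 4 n13160
theorem D27518 : act 4 n13160 = n27518 := rfl
theorem F44416 : act 3 n27518 = n17885 := d5_1 D27518 F29062 (iv3 F21241) F21243 D13160
def n27519 : Q := act 5 n13160
theorem D27519 : act 5 n13160 = n27519 := rfl
theorem F44417 : act 3 n27519 = n13161 := d6_1 D27519 (iv5 D13161) D13160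
def n27520 : Q := act 6 n13160
theorem D27520 : act 6 n13160 = n27520 := rfl
theorem F44418 : act 3 n27520 = n13162 := d7_1 D27520 (iv6 D13162) D13160
def n27521 : Q := act 6 n13161
theorem D27521 : act 6 n13161 = n27521 := rfl
theorem F44419 : act 4 n27521 = n27496 := d10_1 D27521 (iv6 D27496) (iv4 F21937)
def n27522 : Q := act 0 n13162
theorem D27522 : act 0 n13162 = n27522 := rfl
def n27523 : Q := act 1 n13162
theorem D27523 : act 1 n13162 = n27523 := rfl
def n27524 : Q := act 5 n13162
theorem D27524 : act 5 n13162 = n27524 := rfl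
def n27525 : Q := act 7 n13162
theorem D27525 : act 7 n13162 = n27525 := rfl
def n27526 : Q := act 0 n13164
theorem D27526 : act 0 n13164 = n27526 := rfl
def n27527 : Q := act 1 n13164
theorem D27527 : act 1 n13164 = n27527 := rfl
def n27528 : Q := act 2 n13164
theorem D27528 : act 2 n13164 = n27528 := rfl
def n27529 : Q := act 4 n13164
theorem D27529 : act 4 n13164 = n27529 := rfl
theorem F44420 : act 3 n27529 = n17077 := d5_1 D27529 (iv4 D17077) (iv3 F21247) F21248 D13164
def n27530 : Q := act 5 n13164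
theorem D27530 : act 5 n13164 = n27530 := rfl
theorem F44421 : act 3 n27530 = n13165 := d6_1 D27530 (iv5 D13165) D13164
def n27531 : Q := act 6 n13164
theorem D27531 : act 6 n13164 = n27531 := rfl
theorem F44422 : act 3 n27531 = n13166 := d7_1 D27531 (iv6 D13166) D13164
def n27532 : Q := act 6 n13165
theorem D27532 : act 6 n13165 = n27532 := rfl
theorem F44423 : act 4 n27532 = n27464 := d10_1 D27532 (iv6 D27464) (iv4 F21940)
def n27533 : Q := act 0 n13166
theorem D27533 : act 0 n13166 = n27533 := rfl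
def n27534 : Q := act 1 n13166
theorem D27534 : act 1 n13166 = n27534 := rfl
def n27535 : Q := act 5 n13166
theorem D27535 : act 5 n13166 = n27535 := rfl
def n27536 : Q := act 7 n13166
theorem D27536 : act 7 n13166 = n27536 := rfl
def n27537 : Q := act 3 n13167
theorem D27537 : act 3 n13167 = n27537 := rfl
theorem F44424 : act 7 n27537 = n16269 := d8_2 (iv7 F42923) D27537 (iv3 D16269)
def n27538 : Q := act 4 n13167
theorem D27538 : act 4 n13167 = n27538 := rfl
theorem F44425 : act 2 n27538 = n16275 := d1_1 D27538 (iv4 D16275) (iv2 F42922)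
theorem F44426 : act 7 n27538 = n16270 := d11_2 (iv7 F42923) D27538 (iv4 D16270)
theorem F44427 : act 5 n27538 = n15279 := d18_4 (iv1 D6293) (iv4 F9755) D13167 D27538 (iv4 D15279) (iv0 D7236) (iv4 F5526) F27157 (iv5 F27160)
theorem F44428 : act 1 n27538 = n15565 := d18_8 (iv1 F37241) F22789 (iv1 F37246) F4482 D3444 D7564 F21942 D27538 F25798
def n27539 : Q := act 5 n13167
theorem D27539 : act 5 n13167 = n27539 := rfl
theorem F44429 : act 2 n27539 = n16276 := d2_1 D27539 (iv5 D16276) (iv2 F42922)
theorem F44430 : act 7 n27539 = n16271 := d13_2 (iv7 F42923) D27539 (iv5 D16271)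
theorem F44431 : act 1 n27539 = n26782 := d17_6 F25750 (iv5 D15543) F25083 (iv5 F44427) (iv4 D27538) D27539 (iv5 D26782) D26780 (iv4 F43045)
def n27540 : Q := act 6 n13167
theorem D27540 : act 6 n13167 = n27540 := rfl
theorem F44432 : act 2 n27540 = n16277 := d3_1 D27540 (iv6 D16277) (iv2 F42922)
def n27541 : Q := act 3 n13168
theorem D27541 : act 3 n13168 = n27541 := rfl
theorem F44433 : act 7 n27541 = n16274 := d8_2 (iv7 F42920) D27541 (iv3 D16274)
def n27542 : Q := act 5 n13168
theorem D27542 : act 5 n13168 = n27542 := rfl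
theorem F44434 : act 2 n27542 = n16271 := d2_1 D27542 (iv5 D16271) (iv2 F42919)
theorem F44435 : act 7 n27542 = n16276 := d13_2 (iv7 F42920) D27542 (iv5 D16276)
theorem F44436 : act 0 n27542 = n26782 := d17_2 (iv1 F21946) D27542 (iv5 D26782) F21267 F9420 F27157 (iv5 F27160) F9800 D7564
def n27543 : Q := act 6 n13168
theorem D27543 : act 6 n13168 = n27543 := rfl
theorem F44437 : act 2 n27543 = n16272 := d3_1 D27543 (iv6 D16272) (iv2 F42919)
def n27544 : Q := act 5 n13169
theorem D27544 : act 5 n13169 = n27544 := rfl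
theorem F44438 : act 2 n27544 = n13170 := d2_1 D27544 (iv5 D13170) D13169
theorem F44439 : act 7 n27544 = n16222 := d13_2 (iv7 F21944) D27544 (iv5 D16222)
theorem F44440 : act 4 n27544 = n13655 := d16_2 (iv4 F21943) D27544 (iv5 D13655) (iv4 D6490) (iv5 D2887) F2425 D1512 (iv7 F4234) D6294
theorem F44441 : act 1 n27544 = n16278 := d17_6 (iv1 F25723) (iv5 D3435) D3431 (iv5 F9797) (iv4 F21943) D27544 F43039 (iv0 D26779) F21267
theorem F44442 : act 1 n16279 = n27544 := d15_1 D16279 F44439 F25767
def n27545 : Q := act 6 n13169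
theorem D27545 : act 6 n13169 = n27545 := rfl
theorem F44443 : act 2 n27545 = n13171 := d3_1 D27545 (iv6 D13171) D13169
theorem F44444 : act 4 n27545 = n13258 := d10_1 D27545 (iv6 D13258) (iv4 F21943)
def n27546 : Q := act 0 n13170
theorem D27546 : act 0 n13170 = n27546 := rfl
theorem F44445 : act 1 n16222 = n27546 := d15_0 (iv0 D27546) F21949 (iv2 F25767)
theorem F44446 : act 5 n27546 = n16657 := d17_7 F25746 F11779 F11798 D3444 D7564 D16222 F44445 (iv0 D16657) (iv4 D7751)
theorem F44447 : act 2 n16279 = n27546 := d2_3 F44446 (iv2 F43067) (iv5 F43044)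
theorem F44448 : act 7 n16278 = n27546 := d13_0 F44446 (iv7 F43068) (iv5 F43039)
def n27547 : Q := act 1 n13170
theorem D27547 : act 1 n13170 = n27547 := rfl
theorem F44449 : act 1 n27547 = n16222 := d15_1 D27547 (iv7 F44439) F44438
theorem F44450 : act 7 n27547 = n16279 := d15_2 (iv0 D27546) D27547 F44447
theorem F44451 : act 5 n27547 = n16658 := d17_7 (iv1 F25748) (iv5 D7524) (iv1 F11795) (iv5 F4233) (iv4 F9755) D13170 D27547 F43054 F43040
theorem F44452 : act 2 n16278 = n27547 := d2_3 F44451 F43056 (iv5 F43039)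
def n27548 : Q := act 4 n13170
theorem D27548 : act 4 n13170 = n27548 := rfl
theorem F44453 : act 2 n27548 = n13655 := d1_1 D27548 (iv4 F44440) F44438
theorem F44454 : act 7 n27548 = n16280 := d11_2 (iv7 F21949) D27548 (iv4 D16280)
theorem F44455 : act 5 n27548 = n13641 := d16_1 D27548 (iv4 D13641) (iv5 D6487) F4482 D3444 D7564 D16222 (iv7 F44439) F44438
def n27549 : Q := act 6 n13170
theorem D27549 : act 6 n13170 = n27549 := rfl
theorem F44456 : act 3 n27549 = n13175 := d7_1 D27549 (iv6 D13175) (iv3 F21948)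
def n27550 : Q := act 0 n13171
theorem D27550 : act 0 n13171 = n27550 := rfl
def n27551 : Q := act 1 n13171
theorem D27551 : act 1 n13171 = n27551 := rfl
def n27552 : Q := act 5 n13171
theorem D27552 : act 5 n13171 = n27552 := rfl
theorem F44457 : act 3 n27552 = n13179 := d6_1 D27552 (iv5 D13179) (iv3 F21950)
def n27553 : Q := act 7 n13171
theorem D27553 : act 7 n13171 = n27553 := rfl
theorem F44458 : act 3 n27553 = n13180 := d8_1 D27553 (iv7 D13180) (iv3 F21950)
theorem F44459 : act 4 n27553 = n13262 := d11_1 D27553 (iv7 D13262) (iv4 F21951)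
theorem F44460 : act 6 n27553 = n16285 := d14_1 D27553 (iv7 D16285) (iv6 D7579) F9756 D13171
def n27554 : Q := act 3 n13172
theorem D27554 : act 3 n13172 = n27554 := rfl
theorem F44461 : act 5 n27554 = n27326 := d6_2 (iv5 F21952) D27554 (iv3 D27326)
def n27555 : Q := act 6 n13172
theorem D27555 : act 6 n13172 = n27555 := rfl
theorem F44462 : act 4 n27555 = n27383 := d10_1 D27555 (iv6 D27383) F21953
def n27556 : Q := act 3 n13173
theorem D27556 : act 3 n13173 = n27556 := rfl
theorem F44463 : act 5 n27556 = n27370 := d6_2 (iv5 F21954) D27556 (iv3 D27370)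
def n27557 : Q := act 6 n13173
theorem D27557 : act 6 n13173 = n27557 := rfl
theorem F44464 : act 4 n27557 = n27346 := d10_1 D27557 (iv6 D27346) F21955
def n27558 : Q := act 3 n13174
theorem D27558 : act 3 n13174 = n27558 := rfl
theorem F44465 : act 5 n27558 = n27308 := d6_2 (iv5 F21956) D27558 (iv3 D27308)
theorem F44466 : act 7 n27558 = n27432 := d8_2 (iv7 F21959) D27558 F44349
def n27559 : Q := act 6 n13174
theorem D27559 : act 6 n13174 = n27559 := rfl
theorem F44467 : act 4 n27559 = n13175 := d10_1 D27559 (iv6 D13175) D13174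
def n27560 : Q := act 0 n13175
theorem D27560 : act 0 n13175 = n27560 := rfl
def n27561 : Q := act 1 n13175
theorem D27561 : act 1 n13175 = n27561 := rfl
def n27562 : Q := act 5 n13175
theorem D27562 : act 5 n13175 = n27562 := rfl
theorem F44468 : act 6 n27562 = n13179 := d12_2 D13175 D27562 (iv5 D13179) (iv6 D6267) D6266
def n27563 : Q := act 7 n13175
theorem D27563 : act 7 n13175 = n27563 := rfl
def n27564 : Q := act 6 n13176
theorem D27564 : act 6 n13176 = n27564 := rfl
theorem F44469 : act 2 n27564 = n27559 := d3_1 D27564 (iv6 D27559) (iv2 F21960)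
theorem F44470 : act 3 n27564 = n16281 := d7_1 D27564 (iv6 D16281) (iv3 F21961)
theorem F44471 : act 4 n27564 = n27434 := d10_1 D27564 (iv6 D27434) (iv4 F21962)
def n27565 : Q := act 2 n13177
theorem D27565 : act 2 n13177 = n27565 := rfl
theorem F44472 : act 7 n13178 = n27565 := d15_2 (iv0 D13177) D13178 (iv2 D27565)
def n27566 : Q := act 3 n13177
theorem D27566 : act 3 n13177 = n27566 := rfl
def n27567 : Q := act 4 n13177
theorem D27567 : act 4 n13177 = n27567 := rfl
def n27568 : Q := act 5 n13177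
theorem D27568 : act 5 n13177 = n27568 := rfl
def n27569 : Q := act 6 n13177
theorem D27569 : act 6 n13177 = n27569 := rfl
def n27570 : Q := act 7 n13177
theorem D27570 : act 7 n13177 = n27570 := rfl
def n27571 : Q := act 3 n13178
theorem D27571 : act 3 n13178 = n27571 := rfl
def n27572 : Q := act 4 n13178
theorem D27572 : act 4 n13178 = n27572 := rfl
def n27573 : Q := act 5 n13178
theorem D27573 : act 5 n13178 = n27573 := rfl
def n27574 : Q := act 6 n13178
theorem D27574 : act 6 n13178 = n27574 := rfl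
def n27575 : Q := act 0 n13179
theorem D27575 : act 0 n13179 = n27575 := rfl
def n27576 : Q := act 1 n13179
theorem D27576 : act 1 n13179 = n27576 := rfl
def n27577 : Q := act 4 n13179
theorem D27577 : act 4 n13179 = n27577 := rfl
def n27578 : Q := act 7 n13179
theorem D27578 : act 7 n13179 = n27578 := rfl
theorem F44474 : act 5 n27578 = n13180 := d13_1 D27578 (iv7 D13180) D13179
def n27579 : Q := act 6 n13180
theorem D27579 : act 6 n13180 = n27579 := rfl
theorem F44475 : act 3 n27579 = n16285 := d7_1 D27579 (iv6 F44460) F44458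
theorem F44476 : act 4 n27579 = n13192 := d10_1 D27579 (iv6 D13192) (iv4 F21964)
theorem F44477 : act 7 n27579 = n13181 := d14_2 D13180 D27579 (iv6 D13181) (iv7 D6268) D6267
def n27580 : Q := act 0 n13181
theorem D27580 : act 0 n13181 = n27580 := rfl
def n27581 : Q := act 1 n13181
theorem D27581 : act 1 n13181 = n27581 := rfl
def n27582 : Q := act 5 n13181
theorem D27582 : act 5 n13181 = n27582 := rfl
theorem F44478 : act 3 n27582 = n16284 := d6_1 D27582 (iv5 D16284) (iv3 F21965)
def n27584 : Q := act 1 n13182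
theorem D27584 : act 1 n13182 = n27584 := rfl
theorem F44480 : act 1 n27584 = n13187 := d15_1 D27584 (iv7 D13187) D13182
def n27585 : Q := act 3 n13182
theorem D27585 : act 3 n13182 = n27585 := rfl
theorem F44481 : act 7 n27585 = n13188 := d8_2 F21967 D27585 (iv3 D13188)
def n27586 : Q := act 4 n13182
theorem D27586 : act 4 n13182 = n27586 := rfl
theorem F44482 : act 2 n27586 = n13184 := d1_1 D27586 (iv4 D13184) D13182
theorem F44483 : act 7 n27586 = n13189 := d11_2 F21967 D27586 (iv4 D13189)
def n27587 : Q := act 5 n13182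
theorem D27587 : act 5 n13182 = n27587 := rfl
theorem F44484 : act 2 n27587 = n13185 := d2_1 D27587 (iv5 D13185) D13182
theorem F44485 : act 7 n27587 = n13190 := d13_2 F21967 D27587 (iv5 D13190)
def n27588 : Q := act 6 n13182
theorem D27588 : act 6 n13182 = n27588 := rfl
theorem F44486 : act 2 n27588 = n13186 := d3_1 D27588 (iv6 D13186) D13182
theorem F44487 : act 5 n27443 = n27588 := d2_0 F44486 F21968 (iv2 F44361)
theorem F44488 : act 7 n27588 = n27442 := d13_2 D27443 F44487 (iv5 D27442)
def n27589 : Q := act 0 n13183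
theorem D27589 : act 0 n13183 = n27589 := rfl
def n27590 : Q := act 1 n13183
theorem D27590 : act 1 n13183 = n27590 := rfl
def n27591 : Q := act 2 n13183
theorem D27591 : act 2 n13183 = n27591 := rfl
def n27592 : Q := act 4 n13183
theorem D27592 : act 4 n13183 = n27592 := rfl
theorem F44489 : act 0 n27592 = n18973 := d20_7 F29958 (iv1 D6297) F4236 (iv3 F4222) D6269 D13183 D27592 F30301 F13858 (iv1 F13776)
theorem F44490 : act 0 n18932 = n27592 := d20_1 (iv4 F30228) (iv4 D27592) (iv3 D13183) (iv1 F21916) F21913 (iv4 F29457) (iv1 F29459) D18396 (iv3 F30230) (iv1 D18934)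
def n27593 : Q := act 5 n13183
theorem D27593 : act 5 n13183 = n27593 := rfl
theorem F44491 : act 3 n27593 = n13185 := d6_1 D27593 (iv5 D13185) D13183
def n27594 : Q := act 6 n13183
theorem D27594 : act 6 n13183 = n27594 := rfl
theorem F44492 : act 3 n27594 = n13186 := d7_1 D27594 (iv6 D13186) D13183
theorem F44493 : act 5 n27444 = n27594 := d6_0 F44492 F21968 D27444
def n27595 : Q := act 7 n13183
theorem D27595 : act 7 n13183 = n27595 := rfl
theorem F44494 : act 3 n27595 = n13187 := d8_1 D27595 (iv7 D13187) D13183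
def n27596 : Q := act 0 n13184
theorem D27596 : act 0 n13184 = n27596 := rfl
def n27597 : Q := act 1 n13184
theorem D27597 : act 1 n13184 = n27597 := rfl
theorem F44495 : act 1 n27597 = n13189 := d15_1 D27597 (iv7 F44483) F44482
def n27598 : Q := act 3 n13184
theorem D27598 : act 3 n13184 = n27598 := rfl
def n27599 : Q := act 5 n13184
theorem D27599 : act 5 n13184 = n27599 := rfl
def n27600 : Q := act 6 n13184
theorem D27600 : act 6 n13184 = n27600 := rfl
theorem F44496 : act 4 n27600 = n13186 := d10_1 D27600 (iv6 D13186) D13184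
def n27601 : Q := act 7 n13184
theorem D27601 : act 7 n13184 = n27601 := rfl
theorem F44497 : act 2 n27601 = n13189 := d4_1 D27601 (iv7 F44483) F44482
theorem F44498 : act 4 n27601 = n13187 := d11_1 D27601 (iv7 D13187) D13184
theorem F44499 : act 1 n13189 = n27596 := d15_0 (iv0 D27596) D27601 F44497
def n27602 : Q := act 0 n13185
theorem D27602 : act 0 n13185 = n27602 := rfl
theorem F44500 : act 5 n27602 = n27397 := d21_2 D13185 D27602 (iv6 D27397) (iv1 D13120) (iv6 D6245) (iv5 D2624) (iv1 D1226) D1228 D2632 D6269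
def n27603 : Q := act 1 n13185
theorem D27603 : act 1 n13185 = n27603 := rfl
theorem F44501 : act 1 n27603 = n13190 := d15_1 D27603 (iv7 F44485) F44484
def n27604 : Q := act 4 n13185
theorem D27604 : act 4 n13185 = n27604 := rfl
def n27605 : Q := act 6 n13185
theorem D27605 : act 6 n13185 = n27605 := rfl
theorem F44502 : act 5 n27605 = n27446 := d12_1 D27605 (iv6 D27446) (iv5 F21968) (iv6 D13186) D13185
theorem F44503 : act 0 n27605 = n27473 := d21_10 F44393 (iv1 D26771) F21266 (iv6 D12809) (iv1 D6060) D6062 F9419 D6269 D13185 D27605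
def n27606 : Q := act 7 n13185
theorem D27606 : act 7 n13185 = n27606 := rfl
theorem F44504 : act 2 n27606 = n13190 := d4_1 D27606 (iv7 F44485) F44484
theorem F44505 : act 5 n27606 = n13187 := d13_1 D27606 (iv7 D13187) D13185
theorem F44506 : act 1 n13190 = n27602 := d15_0 (iv0 D27602) D27606 F44504
theorem F44507 : act 6 n27439 = n27606 := d3_0 F44504 (iv6 F21970) D27439
theorem F44508 : act 7 n27605 = n27446 := d14_4 F44360 F44507 (iv7 D27606) D27605 (iv6 D27446)
def n27607 : Q := act 0 n13186
theorem D27607 : act 0 n13186 = n27607 := rfl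
def n27608 : Q := act 1 n13186
theorem D27608 : act 1 n13186 = n27608 := rfl
theorem F44509 : act 1 n27608 = n27442 := d15_1 D27608 (iv7 F44488) F44486
def n27609 : Q := act 7 n13186
theorem D27609 : act 7 n13186 = n27609 := rfl
theorem F44510 : act 2 n27609 = n27442 := d4_1 D27609 (iv7 F44488) F44486
theorem F44512 : act 1 n27442 = n27607 := d15_0 (iv0 D27607) D27609 F44510
def n27610 : Q := act 6 n13187
theorem D27610 : act 6 n13187 = n27610 := rfl
theorem F44513 : act 2 n27610 = n13191 := d3_1 D27610 (iv6 D13191) (iv2 F21969)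
def n27611 : Q := act 0 n13188
theorem D27611 : act 0 n13188 = n27611 := rfl
def n27612 : Q := act 1 n13188
theorem D27612 : act 1 n13188 = n27612 := rfl
def n27613 : Q := act 2 n13188
theorem D27613 : act 2 n13188 = n27613 := rfl
def n27614 : Q := act 4 n13188
theorem D27614 : act 4 n13188 = n27614 := rfl
def n27615 : Q := act 5 n13188
theorem D27615 : act 5 n13188 = n27615 := rfl
theorem F44514 : act 3 n27615 = n13190 := d6_1 D27615 (iv5 D13190) D13188
theorem F44515 : act 6 n27440 = n27615 := d7_0 F44514 (iv6 F21970) D27440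
def n27616 : Q := act 6 n13188
theorem D27616 : act 6 n13188 = n27616 := rfl
def n27617 : Q := act 3 n13189
theorem D27617 : act 3 n13189 = n27617 := rfl
def n27618 : Q := act 5 n13189
theorem D27618 : act 5 n13189 = n27618 := rfl
def n27619 : Q := act 6 n13189
theorem D27619 : act 6 n13189 = n27619 := rfl
theorem F44517 : act 4 n27619 = n13191 := d10_1 D27619 (iv6 D13191) D13189
def n27620 : Q := act 4 n13190
theorem D27620 : act 4 n13190 = n27620 := rfl
theorem F44518 : act 6 n27620 = n27441 := d10_2 F21970 D27620 (iv4 D27441)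
def n27621 : Q := act 0 n13191
theorem D27621 : act 0 n13191 = n27621 := rfl
theorem F44519 : act 5 n27621 = n26770 := d21_0 (iv1 F43024) F21866 (iv6 F43008) (iv1 F43010) D27397 (iv5 F44500) (iv1 F44506) (iv5 D13190) D13191 D27621
theorem F44520 : act 0 n27621 = n27605 := d21_1 (iv5 F44519) F44502 (iv6 D27446) (iv1 D13136) (iv6 D6252) (iv5 D2628) (iv1 F6467) (iv5 F14013) D12809 D26770
def n27622 : Q := act 1 n13191
theorem D27622 : act 1 n13191 = n27622 := rfl
def n27623 : Q := act 5 n13191
theorem D27623 : act 5 n13191 = n27623 := rfl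
theorem F44521 : act 6 n27623 = n27442 := d12_2 D13191 D27623 (iv5 D27442) F21970 (iv5 D13190)
theorem F44522 : act 0 n27354 = n27623 := d21_1 D27354 (iv5 D27623) (iv6 D13191) (iv1 D6270) (iv6 D2632) (iv5 D1228) D1225 D2619 D6237 D13105
theorem F44523 : act 7 n13191 = n27623 := d14_0 F44521 (iv7 F44488) (iv6 D27588) (iv7 F21967) D13191
theorem F44524 : act 0 n27623 = n27359 := d21_10 (iv5 D27359) (iv1 D13106) F9732 (iv6 D6237) F14020 D12804 F21254 D13135 D27442 (iv6 F44521)
theorem F44525 : act 1 n27610 = n27359 := d15_0 (iv0 F44524) (iv7 F44523) (iv2 F44513)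
theorem F44526 : act 2 n27623 = n27605 := d15_3 (iv0 F44520) (iv0 D27621) F44523
theorem E4989 : n27610 = n27446 := (c4_2 (iv7 F44523) (iv2 F44513) (iv7 F44508) (iv2 F44526))
theorem F44527 : act 1 n27446 = n27359 := (sb E4989 F44525)
theorem F44528 : act 2 n27446 = n13191 := (sb E4989 F44513)
theorem E4990 : n13187 = n13136 := ((((iv6 D27446)).symm.trans (sb E4989 (iv6 D27610)))).symm
theorem E4991 : n27584 = n6252 := ((((iv1 D13136)).symm.trans (sb E4990 (iv1 F44480)))).symm
theorem E4993 : n27443 = n6270 := (((iv2 F44361)).symm.trans (sb E4990 F21969))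
theorem E4994 : n27595 = n27444 := (((D27444).symm.trans (sb E4990 (iv3 F44494)))).symm
theorem E4995 : n27601 = n27445 := (((D27445).symm.trans (sb E4990 (iv4 F44498)))).symm
theorem E4996 : n27606 = n13186 := ((((iv5 F21968)).symm.trans (sb E4990 (iv5 F44505)))).symm
theorem E4997 : n27439 = n6269 := ((F44360).symm.trans (sb E4990 (iv7 D13187)))
theorem E4998 : n13182 = n13135 := (((D13135).symm.trans (sb E4991 (iv1 D27584)))).symm
theorem F44529 : act 2 n6270 = n13136 := (sb E4993 F44361)
theorem F44530 : act 7 n27444 = n13183 := (sb E4994 (iv7 D27595))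
theorem F44531 : act 2 n27445 = n13189 := (sb E4995 F44497)
theorem F44532 : act 7 n27445 = n13184 := (sb E4995 (iv7 D27601))
theorem E5000 : n27609 = n13185 := ((D27609).symm.trans (sb E4996 (iv7 D27606)))
theorem F44533 : act 7 n6269 = n13136 := (sb E4997 (iv7 F44360))
theorem F44534 : act 2 n13135 = n6269 := (sb E4998 (iv2 D13182))
theorem E5001 : n27585 = n27440 := (((D27440).symm.trans (sb E4998 D27585))).symm
theorem E5002 : n27586 = n27441 := (((D27441).symm.trans (sb E4998 D27586))).symm
theorem E5003 : n27587 = n27442 := (((D27442).symm.trans (sb E4998 D27587))).symm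
theorem F44537 : act 7 n13185 = n13186 := (sb E5000 (iv7 D27609))
theorem F44538 : act 7 n27440 = n13188 := (sb E5001 F44481)
theorem F44539 : act 2 n27441 = n13184 := (sb E5002 F44482)
theorem F44540 : act 7 n27441 = n13189 := (sb E5002 F44483)
theorem F44541 : act 2 n27442 = n13185 := (sb E5003 F44484)
theorem F44542 : act 7 n27442 = n13190 := (sb E5003 F44485)
theorem F44543 : act 2 n27600 = n27620 := d3_3 F44518 F44539 D27600
theorem F44544 : act 7 n27594 = n27593 := d8_2 F44537 (iv3 F44492) F44491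
theorem F44545 : act 7 n27600 = n27604 := d11_2 F44537 (iv4 F44496) (iv4 D27604)
theorem F44546 : act 7 n27592 = n18971 := d11_2 F44530 D27592 (iv4 F44362)
theorem F44547 : act 2 n27592 = n18970 := d15_3 (iv0 D18970) D18971 (iv7 F44546)
theorem F44548 : act 4 n18970 = n27591 := d1_2 D27592 F44547 (iv2 D27591)
theorem E5004 : n27622 = n27473 := (c15_1 D27622 (iv0 F44503) F44508 F44528)
theorem F44549 : act 0 n27473 = n13191 := (sb E5004 (iv1 D27622))
theorem F44550 : act 1 n27354 = n27446 := d15_1 (iv0 F44522) (iv7 F44508) (iv2 F44526)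
def n27624 : Q := act 5 n13192
theorem D27624 : act 5 n13192 = n27624 := rfl
theorem F44551 : act 3 n27624 = n13295 := d6_1 D27624 (iv5 D13295) (iv3 F21971)
theorem F44552 : act 7 n27624 = n13195 := d13_2 (iv7 F21972) D27624 (iv5 D13195)
def n27625 : Q := act 2 n13193
theorem D27625 : act 2 n13193 = n27625 := rfl
theorem F44553 : act 7 n13194 = n27625 := d15_2 (iv0 D13193) D13194 (iv2 D27625)
def n27626 : Q := act 3 n13193
theorem D27626 : act 3 n13193 = n27626 := rfl
def n27627 : Q := act 4 n13193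
theorem D27627 : act 4 n13193 = n27627 := rfl
def n27628 : Q := act 5 n13193
theorem D27628 : act 5 n13193 = n27628 := rfl
def n27629 : Q := act 6 n13193
theorem D27629 : act 6 n13193 = n27629 := rfl
def n27630 : Q := act 7 n13193
theorem D27630 : act 7 n13193 = n27630 := rfl
theorem F44554 : act 2 n27630 = n13194 := d4_1 D27630 F44553 (iv2 D27625)
def n27631 : Q := act 3 n13194
theorem D27631 : act 3 n13194 = n27631 := rfl
def n27632 : Q := act 4 n13194
theorem D27632 : act 4 n13194 = n27632 := rfl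
def n27633 : Q := act 5 n13194
theorem D27633 : act 5 n13194 = n27633 := rfl
def n27634 : Q := act 6 n13194
theorem D27634 : act 6 n13194 = n27634 := rfl
def n27635 : Q := act 0 n13195
theorem D27635 : act 0 n13195 = n27635 := rfl
def n27636 : Q := act 1 n13195
theorem D27636 : act 1 n13195 = n27636 := rfl
def n27637 : Q := act 4 n13195
theorem D27637 : act 4 n13195 = n27637 := rfl
theorem F44555 : act 6 n27637 = n13202 := d10_2 (iv6 F21974) D27637 (iv4 D13202)
def n27638 : Q := act 5 n13196
theorem D27638 : act 5 n13196 = n27638 := rfl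
theorem F44556 : act 2 n27638 = n26750 := d2_1 D27638 (iv5 D26750) (iv2 F21975)
theorem F44557 : act 3 n27638 = n21164 := d6_1 D27638 (iv5 D21164) (iv3 F21976)
theorem F44558 : act 1 n27638 = n27068 := d17_6 F21439 D8134 F21979 (iv5 D13197) D13196 D27638 F43728 F30568 F27959
def n27639 : Q := act 4 n13197
theorem D27639 : act 4 n13197 = n27639 := rfl
theorem F44559 : act 2 n27639 = n26751 := d1_1 D27639 (iv4 D26751) (iv2 F21978)
def n27640 : Q := act 5 n13198
theorem D27640 : act 5 n13198 = n27640 := rfl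
theorem F44560 : act 3 n27640 = n13200 := d6_1 D27640 (iv5 D13200) D13198
theorem F44561 : act 7 n27640 = n26748 := d13_2 (iv7 F21980) D27640 (iv5 D26748)
theorem F44562 : act 0 n27640 = n17224 := d17_2 (iv1 F27456) D27640 (iv5 D17224) (iv4 D8076) D8077 F21571 F21570 (iv0 F13432) (iv4 F21515)
def n27641 : Q := act 5 n13199
theorem D27641 : act 5 n13199 = n27641 := rfl
theorem F44563 : act 3 n27641 = n17099 := d6_1 D27641 (iv5 D17099) (iv3 F21982)
theorem F44564 : act 7 n27641 = n26750 := d13_2 (iv7 F21981) D27641 (iv5 D26750)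
theorem F44565 : act 0 n27641 = n27068 := d21_1 D27641 F43728 F28119 F21860 (iv6 D13099) (iv5 F21852) (iv1 F28687) F28685 D26743 (iv1 F42964)
def n27642 : Q := act 4 n13200
theorem D27642 : act 4 n13200 = n27642 := rfl
theorem F44566 : act 7 n27642 = n26751 := d11_2 (iv7 F21983) D27642 (iv4 D26751)
def n27643 : Q := act 6 n13200
theorem D27643 : act 6 n13200 = n27643 := rfl
def n27644 : Q := act 3 n13201
theorem D27644 : act 3 n13201 = n27644 := rfl
theorem F44567 : act 5 n27644 = n26977 := d6_2 F21985 D27644 (iv3 D26977)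
theorem F44568 : act 1 n17613 = n27644 := d17_6 (iv1 F12859) (iv5 F12871) (iv1 F13431) (iv5 D8286) (iv4 F13102) D17613 F44567 (iv0 F43538) (iv4 D17170)
theorem F44569 : act 0 n27021 = n27644 := d21_1 D27021 F44567 F43535 (iv1 F27455) (iv6 D8279) D8278 (iv1 F21929) F21928 D16727 F27453
def n27645 : Q := act 4 n13201
theorem D27645 : act 4 n13201 = n27645 := rfl
def n27646 : Q := act 6 n13201
theorem D27646 : act 6 n13201 = n27646 := rfl
theorem F44570 : act 5 n27646 = n27643 := d12_1 D27646 (iv6 D27643) (iv5 D13200) F21438 F21985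
def n27647 : Q := act 0 n13202
theorem D27647 : act 0 n13202 = n27647 := rfl
theorem F44571 : act 4 n27647 = n26746 := d18_3 (iv1 D13201) D13202 D27647 (iv5 D26746) F21244 F17555 F9512 D12909 F21985
def n27648 : Q := act 1 n13202
theorem D27648 : act 1 n13202 = n27648 := rfl
def n27649 : Q := act 3 n13202
theorem D27649 : act 3 n13202 = n27649 := rfl
theorem F44572 : act 4 n27649 = n13314 := d5_2 D13202 D27649 (iv3 D13314) (iv4 D6314) (iv3 F9762)
def n27650 : Q := act 5 n13202
theorem D27650 : act 5 n13202 = n27650 := rfl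
def n27651 : Q := act 3 n13203
theorem D27651 : act 3 n13203 = n27651 := rfl
theorem F44573 : act 4 n27651 = n18476 := d5_2 D13203 D27651 (iv3 D18476) (iv4 D8688) (iv3 F9764)
theorem F44574 : act 5 n27651 = n22392 := d6_2 (iv5 F21988) D27651 (iv3 D22392)
theorem F44575 : act 7 n27651 = n18560 := d8_2 (iv7 F21987) D27651 (iv3 D18560)
def n27652 : Q := act 6 n13203
theorem D27652 : act 6 n13203 = n27652 := rfl
theorem F44576 : act 2 n27652 = n13208 := d3_1 D27652 (iv6 D13208) (iv2 F21986)
theorem F44577 : act 4 n27652 = n13204 := d10_1 D27652 (iv6 D13204) D13203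
def n27653 : Q := act 0 n13204
theorem D27653 : act 0 n13204 = n27653 := rfl
theorem F44578 : act 6 n27653 = n27271 := d21_5 F14048 (iv1 F5891) (iv5 F9765) D13204 D27653 (iv5 D27271) (iv1 D13061) F9681 (iv6 D6216) D6213
def n27654 : Q := act 1 n13204
theorem D27654 : act 1 n13204 = n27654 := rfl
theorem F44579 : act 1 n27654 = n13212 := d15_1 D27654 (iv7 D13212) (iv2 F21991)
def n27655 : Q := act 5 n13204
theorem D27655 : act 5 n13204 = n27655 := rfl
theorem F44580 : act 2 n27655 = n13211 := d2_1 D27655 (iv5 D13211) (iv2 F21991)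
theorem F44581 : act 3 n27655 = n18480 := d6_1 D27655 (iv5 D18480) (iv3 F21992)
theorem F44582 : act 6 n27655 = n18900 := d12_2 D13204 D27655 (iv5 D18900) (iv6 D8856) (iv5 F9765)
def n27656 : Q := act 7 n13204
theorem D27656 : act 7 n13204 = n27656 := rfl
theorem F44583 : act 2 n27656 = n13212 := d4_1 D27656 (iv7 D13212) (iv2 F21991)
theorem F44584 : act 3 n27656 = n18481 := d8_1 D27656 (iv7 D18481) (iv3 F21992)
theorem F44585 : act 6 n27656 = n18566 := d14_1 D27656 (iv7 D18566) (iv6 D8723) (iv7 F9766) D13204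
theorem F44586 : act 1 n13212 = n27653 := d15_0 (iv0 D27653) D27656 F44583
theorem F44587 : act 1 n13210 = n27656 := d15_1 D13210 (iv7 D27656) F21991
theorem F44588 : act 1 n27656 = n13209 := d15_0 (iv0 D13209) D13212 (iv2 F44583)
def n27657 : Q := act 3 n13205
theorem D27657 : act 3 n13205 = n27657 := rfl
theorem F44589 : act 2 n27657 = n19584 := d0_1 D27657 F31359 F14392 (iv3 F13629) F21995
theorem F44590 : act 5 n27657 = n19583 := d6_2 F21997 D27657 F31355
theorem F44591 : act 7 n27657 = n18567 := d8_2 F21996 D27657 (iv3 D18567)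
theorem F44592 : act 0 n27657 = n22506 := d19_4 F9667 D13042 (iv4 F21993) D27657 (iv5 D22506) (iv4 F17230) (iv3 D9737) (iv1 F6335) D9398 F14615 F6337 D9440 F14663 (iv4 F6916) F6915 (iv1 D4746) (iv5 D1965) D1964 D4742
theorem E5005 : n22506 = n22132 := ((c15_1 D22132 (iv0 F44592) F44591 F29809)).symm
theorem F44593 : act 1 n22132 = n27657 := (sb E5005 (iv0 F44592))
theorem F44594 : act 3 n22132 = n19181 := (sb E5005 F35058)
theorem F44595 : act 5 n22132 = n10687 := (sb E5005 (iv5 D22506))
theorem F44596 : act 1 n27657 = n22131 := d15_0 (iv0 D22131) (iv7 F31360) (iv2 F44589)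
def n27658 : Q := act 6 n13205
theorem D27658 : act 6 n13205 = n27658 := rfl
theorem F44597 : act 2 n27658 = n18569 := d3_1 D27658 (iv6 D18569) F21995
theorem F44598 : act 4 n27658 = n27225 := d10_1 D27658 (iv6 D27225) (iv4 F21993)
def n27659 : Q := act 6 n13206
theorem D27659 : act 6 n13206 = n27659 := rfl
theorem F44599 : act 2 n27659 = n18568 := d3_1 D27659 (iv6 D18568) (iv2 F22001)
theorem F44600 : act 3 n27659 = n19555 := d7_1 D27659 (iv6 D19555) F22002
theorem F44601 : act 4 n27659 = n27030 := d10_1 D27659 (iv6 D27030) F22000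
def n27660 : Q := act 6 n13207
theorem D27660 : act 6 n13207 = n27660 := rfl
theorem F44602 : act 2 n27660 = n22393 := d3_1 D27660 (iv6 D22393) (iv2 F22004)
def n27661 : Q := act 0 n13208
theorem D27661 : act 0 n13208 = n27661 := rfl
def n27662 : Q := act 1 n13208
theorem D27662 : act 1 n13208 = n27662 := rfl
def n27663 : Q := act 5 n13208
theorem D27663 : act 5 n13208 = n27663 := rfl
def n27664 : Q := act 7 n13208
theorem D27664 : act 7 n13208 = n27664 := rfl
theorem F44603 : act 4 n27664 = n13212 := d11_1 D27664 (iv7 D13212) (iv4 F22008)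
theorem F44604 : act 6 n27664 = n18575 := d14_1 D27664 (iv7 D18575) (iv6 D8727) (iv7 F9770) D13208
def n27665 : Q := act 2 n13209
theorem D27665 : act 2 n13209 = n27665 := rfl
theorem F44605 : act 7 n13210 = n27665 := d15_2 (iv0 D13209) D13210 (iv2 D27665)
def n27666 : Q := act 3 n13209
theorem D27666 : act 3 n13209 = n27666 := rfl
def n27667 : Q := act 4 n13209
theorem D27667 : act 4 n13209 = n27667 := rfl
def n27668 : Q := act 5 n13209
theorem D27668 : act 5 n13209 = n27668 := rfl
def n27669 : Q := act 6 n13209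
theorem D27669 : act 6 n13209 = n27669 := rfl
theorem F44606 : act 5 n27669 = n27243 := d21_6 (iv5 F13460) (iv1 D3945) (iv5 F4227) D6280 D13209 D27669 (iv1 D27243) F21761 (iv6 D13051) (iv1 F9675)
def n27670 : Q := act 7 n13209
theorem D27670 : act 7 n13209 = n27670 := rfl
theorem F44607 : act 2 n27670 = n13210 := d4_1 D27670 F44605 (iv2 D27665)
def n27671 : Q := act 3 n13210
theorem D27671 : act 3 n13210 = n27671 := rfl
def n27672 : Q := act 4 n13210
theorem D27672 : act 4 n13210 = n27672 := rfl
def n27673 : Q := act 5 n13210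
theorem D27673 : act 5 n13210 = n27673 := rfl
def n27674 : Q := act 6 n13210
theorem D27674 : act 6 n13210 = n27674 := rfl
def n27675 : Q := act 0 n13211
theorem D27675 : act 0 n13211 = n27675 := rfl
def n27676 : Q := act 1 n13211
theorem D27676 : act 1 n13211 = n27676 := rfl
def n27677 : Q := act 4 n13211
theorem D27677 : act 4 n13211 = n27677 := rfl
theorem F44608 : act 6 n27677 = n18902 := d10_2 (iv6 F22010) D27677 (iv4 D18902)
def n27678 : Q := act 7 n13211
theorem D27678 : act 7 n13211 = n27678 := rfl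
theorem F44609 : act 3 n27678 = n13225 := d8_1 D27678 (iv7 D13225) (iv3 F22009)
theorem F44610 : act 5 n27678 = n13212 := d13_1 D27678 (iv7 D13212) D13211
def n27679 : Q := act 0 n13214
theorem D27679 : act 0 n13214 = n27679 := rfl
theorem F44611 : act 1 n18534 = n27679 := d15_0 (iv0 D27679) F29867 D18534
def n27680 : Q := act 1 n13214
theorem D27680 : act 1 n13214 = n27680 := rfl
def n27681 : Q := act 2 n13214
theorem D27681 : act 2 n13214 = n27681 := rfl
theorem F44612 : act 3 n27681 = n18515 := d0_2 D13214 D27681 (iv2 D18515) (iv3 D8699) (iv2 F29865)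
theorem F44613 : act 7 n27681 = n18534 := d4_2 (iv7 F29867) D27681 (iv2 D18534)
theorem F44615 : act 1 n27680 = n18534 := d15_1 D27680 (iv7 F44613) (iv2 D27681)
theorem F44616 : act 1 n18533 = n27681 := d15_1 D18533 F44613 (iv2 D18534)
def n27682 : Q := act 4 n13214
theorem D27682 : act 4 n13214 = n27682 := rfl
theorem F44617 : act 7 n27682 = n18535 := d11_2 (iv7 F29867) D27682 (iv4 D18535)
def n27683 : Q := act 5 n13214
theorem D27683 : act 5 n13214 = n27683 := rfl
theorem F44618 : act 3 n27683 = n13216 := d6_1 D27683 (iv5 D13216) D13214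
theorem F44619 : act 7 n27683 = n18536 := d13_2 (iv7 F29867) D27683 (iv5 D18536)
def n27684 : Q := act 1 n13216
theorem D27684 : act 1 n13216 = n27684 := rfl
theorem F44620 : act 1 n27684 = n13220 := d15_1 D27684 F29878 (iv2 F29870)
theorem F44621 : act 7 n27684 = n16849 := d15_2 (iv0 F43246) D27684 (iv2 F43244)
theorem F44622 : act 5 n16850 = n27684 := d21_0 (iv1 D27684) (iv5 D13216) F13265 (iv1 F13696) (iv6 D6307) (iv5 F5861) (iv1 F29780) (iv5 F27582) (iv6 F29731) (iv1 F43193)
theorem F44623 : act 2 n27684 = n18526 := d2_1 F44622 (iv5 F43250) F43249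
theorem F44624 : act 6 n27684 = n17381 := d21_3 D18550 (iv1 F43193) F44622 (iv1 D17381) (iv6 D8142) (iv5 D3665) F2873 D3530 (iv6 F5854) D8708
def n27685 : Q := act 4 n13216
theorem D27685 : act 4 n13216 = n27685 := rfl
theorem F44625 : act 2 n27685 = n18527 := d1_1 D27685 (iv4 D18527) (iv2 F29870)
theorem F44626 : act 7 n27685 = n18541 := d11_2 (iv7 F29871) D27685 (iv4 D18541)
def n27686 : Q := act 0 n13218
theorem D27686 : act 0 n13218 = n27686 := rfl
def n27687 : Q := act 1 n13218
theorem D27687 : act 1 n13218 = n27687 := rfl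
def n27688 : Q := act 2 n13218
theorem D27688 : act 2 n13218 = n27688 := rfl
theorem F44628 : act 3 n27688 = n18534 := d0_2 D13218 D27688 (iv2 D18534) (iv3 D8704) F29872
theorem F44629 : act 7 n27688 = n18515 := d4_2 (iv7 F29874) D27688 (iv2 D18515)
theorem F44630 : act 1 n27688 = n18513 := d15_0 (iv0 D18513) (iv7 F29874) D27688
theorem F44631 : act 1 n27687 = n18515 := d15_1 D27687 (iv7 F44629) (iv2 D27688)
theorem F44632 : act 1 n18514 = n27688 := d15_1 D18514 F44629 (iv2 D18515)
def n27689 : Q := act 4 n13218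
theorem D27689 : act 4 n13218 = n27689 := rfl
theorem F44633 : act 7 n27689 = n18516 := d11_2 (iv7 F29874) D27689 (iv4 D18516)
def n27690 : Q := act 5 n13218
theorem D27690 : act 5 n13218 = n27690 := rfl
theorem F44634 : act 3 n27690 = n13220 := d6_1 D27690 (iv5 D13220) D13218
theorem F44635 : act 7 n27690 = n18517 := d13_2 (iv7 F29874) D27690 (iv5 D18517)
def n27691 : Q := act 6 n13218
theorem D27691 : act 6 n13218 = n27691 := rfl
theorem F44636 : act 3 n27691 = n13221 := d7_1 D27691 (iv6 D13221) D13218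
def n27692 : Q := act 4 n13220
theorem D27692 : act 4 n13220 = n27692 := rfl
theorem F44637 : act 2 n27692 = n18541 := d1_1 D27692 (iv4 D18541) (iv2 F29877)
theorem F44638 : act 7 n27692 = n18527 := d11_2 (iv7 F29878) D27692 (iv4 D18527)
def n27693 : Q := act 6 n13220
theorem D27693 : act 6 n13220 = n27693 := rfl
theorem F44639 : act 2 n27693 = n18542 := d3_1 D27693 (iv6 D18542) (iv2 F29877)
theorem F44640 : act 0 n27693 = n18630 := d21_4 F13623 (iv1 F9772) D13220 D27693 (iv6 D18630) F13641 (iv1 F9787) D13242 (iv6 F22042) (iv1 F22021)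
theorem F44641 : act 0 n13310 = n27693 := d21_4 (iv5 D3563) (iv1 F4244) D6312 D13310 (iv6 D27693) (iv5 D13220) (iv1 D6282) D6283 F9774 F5898
theorem F44642 : act 7 n18872 = n27693 := d15_2 (iv0 F29722) D18872 F44639
def n27694 : Q := act 0 n13221
theorem D27694 : act 0 n13221 = n27694 := rfl
theorem F44643 : act 6 n27694 = n18606 := d21_5 D26846 (iv1 F43247) (iv5 D13220) D13221 D27694 F30020 (iv1 D18086) (iv5 D8531) D8532 (iv1 F30019)
theorem F44644 : act 5 n27694 = n17070 := d21_0 (iv1 F28011) (iv5 D16851) (iv6 D7856) (iv1 F9424) D12835 D26846 (iv1 F43247) (iv5 D13220) D13221 D27694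
theorem F44645 : act 2 n18837 = n27694 := d15_3 (iv0 D27694) F29879 D18837
theorem F44646 : act 1 n18546 = n27694 := d15_0 (iv0 D27694) (iv7 F29140) (iv2 F29881)
theorem F44647 : act 7 n27694 = n18819 := d15_2 (iv0 F29726) F44646 F30079
theorem E5006 : n18850 = n18606 := (c14_5 F44647 (iv6 D18819) (iv7 F13718) D8826 D18850 (iv6 F44643))
theorem F44648 : act 7 n18606 = n8826 := (sb E5006 (iv7 D18850))
theorem F44649 : act 7 n18849 = n18086 := d13_2 F44648 D18849 (iv5 F30020)
theorem E5007 : n18838 = n13305 := (c15_4 F30002 D18606 F44648 (iv2 F30093))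
theorem F44650 : act 2 n13305 = n8826 := (sb E5007 F30093)
theorem E5008 : n8822 = n6310 := ((((iv6 D13305)).symm.trans (sb E5007 (iv6 D18838)))).symm
theorem E5009 : n18815 = n2644 := ((((iv1 D6310)).symm.trans (sb E5008 (iv1 F30073)))).symm
theorem E5011 : n13301 = n3931 := (((iv2 F22104)).symm.trans (sb E5008 F13719))
theorem E5012 : n18826 = n13302 := (((D13302).symm.trans (sb E5008 (iv3 F30082)))).symm
theorem E5013 : n13670 = n11199 := ((((iv4 F37327)).symm.trans (sb E5008 (iv4 F43123)))).symm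
theorem E5014 : n18836 = n13304 := (((D13304).symm.trans (sb E5008 (iv5 F30092)))).symm
theorem E5015 : n13296 = n3930 := ((F22103).symm.trans (sb E5008 (iv7 D8822)))
theorem E5016 : n8817 = n6309 := (((D6309).symm.trans (sb E5009 (iv1 D18815)))).symm
theorem F44651 : act 2 n3931 = n6310 := (sb E5011 F22104)
theorem E5017 : n23918 = n6495 := (((F43124).symm.trans (sb E5011 (iv4 F37331)))).symm
theorem F44652 : act 7 n13302 = n8818 := (sb E5012 (iv7 D18826))
theorem E5018 : n23914 = n6494 := ((F37326).symm.trans (sb E5013 (iv7 D13670)))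
theorem F44653 : act 2 n13304 = n8825 := (sb E5014 F30091)
theorem F44654 : act 7 n13304 = n8820 := (sb E5014 (iv7 D18836))
theorem F44655 : act 7 n3930 = n6310 := (sb E5015 (iv7 F22103))
theorem F44656 : act 2 n6309 = n3930 := (sb E5016 (iv2 D8817))
theorem E5019 : n18816 = n13297 := (((D13297).symm.trans (sb E5016 D18816))).symm
theorem E5020 : n13665 = n11198 := ((((iv4 F37195)).symm.trans (sb E5016 (iv4 F43121)))).symm
theorem E5021 : n18818 = n13299 := (((D13299).symm.trans (sb E5016 D18818))).symm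
theorem E5022 : n18819 = n13300 := (((D13300).symm.trans (sb E5016 D18819))).symm
theorem F44657 : act 7 n6309 = n3931 := (sb E5016 (iv7 F13718))
theorem F44658 : act 2 n6495 = n11199 := (sb E5017 F37330)
theorem F44659 : act 7 n6494 = n11199 := (sb E5018 (iv7 F37326))
theorem F44660 : act 7 n13297 = n8823 := (sb E5019 F30074)
theorem F44661 : act 2 n11198 = n6494 := (sb E5020 (iv2 D13665))
theorem F44662 : act 7 n11198 = n6495 := (sb E5020 (iv7 F22817))
theorem F44663 : act 2 n13299 = n8820 := (sb E5021 F30077)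
theorem F44664 : act 7 n13299 = n8825 := (sb E5021 F30078)
theorem F44665 : act 2 n13300 = n8821 := (sb E5022 F30079)
theorem F44666 : act 7 n13300 = n27694 := (sb E5022 (iv7 F44647))
theorem F44667 : act 7 n17070 = n16862 := d13_2 F44666 F44644 (iv5 F27598)
theorem E5023 : n18837 = n18543 := (c15_4 (iv0 D18543) (iv0 F29882) F44666 (iv2 F44645))
theorem F44668 : act 2 n18543 = n27694 := (sb E5023 F44645)
theorem F44669 : act 7 n18543 = n8821 := (sb E5023 (iv7 D18837))
theorem F44670 : act 7 n17071 = n16861 := d13_2 F44669 F28005 (iv5 F29723)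
theorem F44671 : act 2 n16861 = n17070 := d15_3 (iv0 D17070) D17071 F44670
theorem F44672 : act 2 n17071 = n16862 := d4_1 (iv7 F44670) (iv7 F44667) (iv2 F44671)
theorem F44673 : act 2 n13669 = n23917 := d1_3 F37329 F44665 (iv4 F43122)
theorem F44674 : act 2 n24409 = n24320 := d2_3 (iv5 F38104) F44673 F38267
theorem F44675 : act 7 n24319 = n24409 := d15_2 F38272 F38273 F44674
theorem F44676 : act 7 n24408 = n24320 := d15_2 F38266 F38271 (iv2 F44674)
theorem F44677 : act 2 n24319 = n24408 := d4_3 F44676 (iv2 F44674) (iv7 F44675)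
theorem F44678 : act 7 n13671 = n23915 := d8_2 F44662 D13671 (iv3 D23915)
theorem F44679 : act 7 n13673 = n23916 := d13_2 F44662 D13673 (iv5 D23916)
theorem F44680 : act 2 n13668 = n23916 := d2_3 (iv5 D23916) F44661 D13668
theorem F44681 : act 7 n23919 = n13666 := d8_2 F44659 D23919 (iv3 D13666)
theorem F44682 : act 7 n23920 = n13668 := d13_2 F44659 D23920 (iv5 D13668)
theorem F44683 : act 2 n13673 = n23920 := d4_3 F44682 F44680 (iv7 F44679)
theorem F44684 : act 2 n23921 = n13674 := d3_3 (iv6 D13674) F44658 D23921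
theorem F44685 : act 2 n17371 = n20339 := d3_3 F32275 F44653 (iv6 F28323)
theorem F44686 : act 7 n20340 = n17371 := d15_2 (iv0 D20339) D20340 F44685
theorem F44687 : act 7 n17372 = n20339 := d15_2 (iv0 D17371) D17372 (iv2 F44685)
theorem F44688 : act 2 n20340 = n17372 := d4_3 F44687 (iv2 F44685) (iv7 F44686)
theorem F44689 : act 2 n18849 = n18085 := d2_3 F29265 F44650 D18849
theorem F44690 : act 7 n27289 = n18085 := d15_2 (iv0 F30098) D27289 (iv2 F44689)
theorem F44691 : act 2 n18086 = n27289 := d4_3 F44690 (iv2 F44689) F44649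
def n27695 : Q := act 5 n13221
theorem D27695 : act 5 n13221 = n27695 := rfl
theorem F44692 : act 2 n27695 = n18545 := d2_1 D27695 (iv5 D18545) (iv2 F29880)
theorem F44693 : act 7 n27695 = n18624 := d13_2 F29140 D27695 F29896
theorem F44694 : act 0 n27695 = n16859 := d21_1 D27695 (iv5 D16859) D16860 F43165 F29843 F30090 (iv1 D18833) (iv5 D8820) D8821 (iv1 F29879)
theorem F44695 : act 0 n16855 = n27695 := d21_1 D16855 (iv5 D27695) (iv6 D13221) (iv1 D6282) (iv6 D2636) F2299 F1697 (iv5 F2725) D3562 D7857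
def n27696 : Q := act 3 n13222
theorem D27696 : act 3 n13222 = n27696 := rfl
theorem F44696 : act 7 n27696 = n18551 := d8_2 (iv7 F29757) D27696 (iv3 D18551)
def n27697 : Q := act 3 n13223
theorem D27697 : act 3 n13223 = n27697 := rfl
theorem F44697 : act 5 n27697 = n27288 := d6_2 F22016 D27697 F44139
theorem F44698 : act 7 n27697 = n18548 := d8_2 F29754 D27697 (iv3 D18548)
def n27698 : Q := act 6 n13223
theorem D27698 : act 6 n13223 = n27698 := rfl
theorem F44700 : act 5 n27698 = n27291 := d12_1 D27698 (iv6 D27291) (iv5 D13074) D13075 F22016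
def n27699 : Q := act 3 n13224
theorem D27699 : act 3 n13224 = n27699 := rfl
theorem F44701 : act 6 n27699 = n18903 := d7_2 (iv6 F22018) D27699 (iv3 D18903)
def n27700 : Q := act 5 n13224
theorem D27700 : act 5 n13224 = n27700 := rfl
theorem F44702 : act 2 n27700 = n18557 := d2_1 D27700 (iv5 D18557) (iv2 F22017)
def n27701 : Q := act 7 n13224
theorem D27701 : act 7 n13224 = n27701 := rfl
theorem F44703 : act 2 n27701 = n18558 := d4_1 D27701 (iv7 D18558) (iv2 F22017)
theorem F44704 : act 4 n27701 = n13225 := d11_1 D27701 (iv7 D13225) D13224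
theorem F44705 : act 1 n18555 = n27701 := d15_1 D18555 (iv7 D27701) F22017
theorem F44706 : act 1 n27701 = n18554 := d15_1 F44705 F41957 F41953
def n27702 : Q := act 3 n13226
theorem D27702 : act 3 n13226 = n27702 := rfl
theorem F44707 : act 4 n27702 = n18560 := d5_2 D13226 D27702 (iv3 D18560) (iv4 D8722) (iv3 F9780)
theorem F44708 : act 5 n27702 = n23010 := d6_2 (iv5 F22025) D27702 (iv3 D23010)
theorem F44709 : act 7 n27702 = n18476 := d8_2 (iv7 F22026) D27702 (iv3 D18476)
def n27703 : Q := act 6 n13226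
theorem D27703 : act 6 n13226 = n27703 := rfl
theorem F44710 : act 2 n27703 = n13229 := d3_1 D27703 (iv6 D13229) (iv2 F22024)
theorem F44711 : act 4 n27703 = n13227 := d10_1 D27703 (iv6 D13227) D13226
def n27704 : Q := act 0 n13227
theorem D27704 : act 0 n13227 = n27704 := rfl
def n27705 : Q := act 1 n13227
theorem D27705 : act 1 n13227 = n27705 := rfl
theorem F44712 : act 1 n27705 = n13233 := d15_1 D27705 (iv7 D13233) (iv2 F22029)
def n27706 : Q := act 5 n13227
theorem D27706 : act 5 n13227 = n27706 := rfl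
theorem F44713 : act 2 n27706 = n13232 := d2_1 D27706 (iv5 D13232) (iv2 F22029)
theorem F44714 : act 3 n27706 = n18565 := d6_1 D27706 (iv5 D18565) (iv3 F22030)
theorem F44715 : act 6 n27706 = n17893 := d12_2 D13227 D27706 (iv5 D17893) F16812 (iv5 F9781)
def n27707 : Q := act 7 n13227
theorem D27707 : act 7 n13227 = n27707 := rfl
theorem F44716 : act 2 n27707 = n13233 := d4_1 D27707 (iv7 D13233) (iv2 F22029)
theorem F44717 : act 3 n27707 = n18566 := d8_1 D27707 (iv7 D18566) (iv3 F22030)
theorem F44718 : act 6 n27707 = n18481 := d14_1 D27707 (iv7 D18481) (iv6 D8689) (iv7 F9782) D13227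
theorem F44719 : act 1 n13233 = n27704 := d15_0 (iv0 D27704) D27707 F44716
theorem F44720 : act 1 n13231 = n27707 := d15_1 D13231 (iv7 D27707) F22029
theorem F44721 : act 1 n27707 = n13230 := d15_0 (iv0 D13230) D13233 (iv2 F44716)
def n27708 : Q := act 6 n13228
theorem D27708 : act 6 n13228 = n27708 := rfl
theorem F44722 : act 2 n27708 = n23011 := d3_1 D27708 (iv6 D23011) (iv2 F22031)
theorem F44723 : act 3 n27708 = n15411 := d7_1 D27708 F24966 (iv3 F26944)
theorem F44724 : act 4 n27708 = n22982 := d10_1 D27708 (iv6 D22982) (iv4 F22032)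
def n27709 : Q := act 0 n13229
theorem D27709 : act 0 n13229 = n27709 := rfl
def n27710 : Q := act 1 n13229
theorem D27710 : act 1 n13229 = n27710 := rfl
def n27711 : Q := act 5 n13229
theorem D27711 : act 5 n13229 = n27711 := rfl
def n27712 : Q := act 7 n13229
theorem D27712 : act 7 n13229 = n27712 := rfl
theorem F44725 : act 4 n27712 = n13233 := d11_1 D27712 (iv7 D13233) (iv4 F22034)
theorem F44726 : act 6 n27712 = n18492 := d14_1 D27712 (iv7 D18492) (iv6 D8693) (iv7 F9785) D13229
def n27713 : Q := act 2 n13230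
theorem D27713 : act 2 n13230 = n27713 := rfl
theorem F44727 : act 7 n13231 = n27713 := d15_2 (iv0 D13230) D13231 (iv2 D27713)
def n27714 : Q := act 3 n13230
theorem D27714 : act 3 n13230 = n27714 := rfl
def n27715 : Q := act 4 n13230
theorem D27715 : act 4 n13230 = n27715 := rfl
def n27716 : Q := act 5 n13230
theorem D27716 : act 5 n13230 = n27716 := rfl
def n27717 : Q := act 6 n13230
theorem D27717 : act 6 n13230 = n27717 := rfl
def n27718 : Q := act 7 n13230
theorem D27718 : act 7 n13230 = n27718 := rfl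
theorem F44728 : act 2 n27718 = n13231 := d4_1 D27718 F44727 (iv2 D27713)
def n27719 : Q := act 3 n13231
theorem D27719 : act 3 n13231 = n27719 := rfl
def n27720 : Q := act 4 n13231
theorem D27720 : act 4 n13231 = n27720 := rfl
def n27721 : Q := act 5 n13231
theorem D27721 : act 5 n13231 = n27721 := rfl
def n27722 : Q := act 6 n13231
theorem D27722 : act 6 n13231 = n27722 := rfl
def n27723 : Q := act 0 n13232
theorem D27723 : act 0 n13232 = n27723 := rfl
def n27724 : Q := act 1 n13232
theorem D27724 : act 1 n13232 = n27724 := rfl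
def n27725 : Q := act 4 n13232
theorem D27725 : act 4 n13232 = n27725 := rfl
theorem F44729 : act 6 n27725 = n18865 := d10_2 (iv6 F22036) D27725 (iv4 D18865)
def n27726 : Q := act 7 n13232
theorem D27726 : act 7 n13232 = n27726 := rfl
theorem F44730 : act 3 n27726 = n13247 := d8_1 D27726 (iv7 D13247) (iv3 F22035)
theorem F44731 : act 5 n27726 = n13233 := d13_1 D27726 (iv7 D13233) D13232
def n27727 : Q := act 0 n13235
theorem D27727 : act 0 n13235 = n27727 := rfl
theorem F44732 : act 1 n18609 = n27727 := d15_0 (iv0 D27727) (iv7 F29787) D18609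
def n27728 : Q := act 1 n13235
theorem D27728 : act 1 n13235 = n27728 := rfl
def n27729 : Q := act 2 n13235
theorem D27729 : act 2 n13235 = n27729 := rfl
theorem F44733 : act 3 n27729 = n18592 := d0_2 D13235 D27729 (iv2 D18592) (iv3 D8733) F29764
theorem F44734 : act 7 n27729 = n18609 := d4_2 F29787 D27729 (iv2 D18609)
theorem F44735 : act 1 n27729 = n18607 := d15_0 (iv0 D18607) F29787 D27729
theorem F44736 : act 1 n27728 = n18609 := d15_1 D27728 (iv7 F44734) (iv2 D27729)
theorem F44737 : act 1 n18608 = n27729 := d15_1 D18608 F44734 (iv2 D18609)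
def n27730 : Q := act 4 n13235
theorem D27730 : act 4 n13235 = n27730 := rfl
theorem F44738 : act 7 n27730 = n18610 := d11_2 F29787 D27730 (iv4 D18610)
def n27731 : Q := act 5 n13235
theorem D27731 : act 5 n13235 = n27731 := rfl
theorem F44739 : act 3 n27731 = n13237 := d6_1 D27731 (iv5 D13237) D13235
theorem F44740 : act 7 n27731 = n18611 := d13_2 F29787 D27731 (iv5 D18611)
def n27732 : Q := act 6 n13235
theorem D27732 : act 6 n13235 = n27732 := rfl
theorem F44741 : act 3 n27732 = n13238 := d7_1 D27732 (iv6 D13238) D13235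
theorem F44742 : act 5 n18111 = n27732 := d6_0 F44741 F22040 D18111
def n27733 : Q := act 0 n13237
theorem D27733 : act 0 n13237 = n27733 := rfl
theorem F44743 : act 5 n27733 = n16860 := d21_2 D13237 D27733 (iv6 D16860) (iv1 D7858) (iv6 D3562) F2725 (iv1 F1703) (iv5 F2305) D2638 D6288
theorem F44744 : act 1 n13242 = n27733 := d15_0 (iv0 D27733) (iv7 F29786) F29761
theorem F44745 : act 2 n18601 = n27733 := d2_3 F44743 F43167 (iv5 F29830)
theorem F44746 : act 7 n18602 = n27733 := d13_0 F44743 (iv7 F43168) (iv5 F43137)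
def n27734 : Q := act 1 n13237
theorem D27734 : act 1 n13237 = n27734 := rfl
theorem F44747 : act 1 n27734 = n13242 := d15_1 D27734 F29768 (iv2 F29770)
theorem F44748 : act 7 n27734 = n18601 := d15_2 (iv0 D27733) D27734 F44745
theorem F44749 : act 5 n16831 = n27734 := d21_0 (iv1 D27734) (iv5 D13237) D13238 (iv1 F30004) (iv6 D8826) D8825 (iv1 F30088) (iv5 F30090) (iv6 F29843) (iv1 F29847)
theorem F44750 : act 2 n27734 = n18602 := d2_1 F44749 F43137 (iv2 F43140)
theorem F44751 : act 6 n27734 = n13307 := d12_2 D16831 F44749 (iv5 F22107) (iv6 D7850) D7849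
def n27735 : Q := act 4 n13237
theorem D27735 : act 4 n13237 = n27735 := rfl
theorem F44752 : act 2 n27735 = n18603 := d1_1 D27735 (iv4 D18603) (iv2 F29770)
theorem F44753 : act 7 n27735 = n18616 := d11_2 F29786 D27735 (iv4 D18616)
def n27736 : Q := act 6 n13237
theorem D27736 : act 6 n13237 = n27736 := rfl
theorem F44755 : act 5 n27736 = n18113 := d12_1 D27736 (iv6 D18113) (iv5 F22040) (iv6 D13238) D13237
def n27737 : Q := act 1 n13238
theorem D27737 : act 1 n13238 = n27737 := rfl
theorem F44757 : act 1 n27737 = n18109 := d15_1 D27737 F29774 (iv2 F29771)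
theorem F44758 : act 7 n27737 = n13305 := d15_2 F30004 D27737 F44650
theorem F44759 : act 6 n18543 = n27737 := d21_3 D7859 D16861 (iv5 F29723) (iv1 D27737) (iv6 D13238) D13237 D27733 F44743 (iv6 D16860) (iv1 D7858)
theorem F44761 : act 5 n27737 = n27289 := d21_6 D16849 F28001 (iv5 D8706) D8707 D18543 F44759 (iv1 D27289) (iv5 D13074) D13075 F29760
theorem F44762 : act 6 n27289 = n17880 := d21_3 D18109 (iv1 F44757) F44761 (iv1 D17880) (iv6 D8434) (iv5 D3775) F3100 D1666 (iv6 F5801) D8538
theorem F44763 : act 2 n17880 = n17875 := d3_1 F44762 (iv6 F30021) F44691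
theorem F44764 : act 7 n17874 = n17880 := d15_2 F29054 F29055 F44763
theorem F44765 : act 7 n17879 = n17875 := d15_2 F29049 F29053 (iv2 F44763)
theorem F44766 : act 2 n17874 = n17879 := d4_3 F44765 (iv2 F44763) (iv7 F44764)
def n27738 : Q := act 0 n13240
theorem D27738 : act 0 n13240 = n27738 := rfl
def n27739 : Q := act 1 n13240
theorem D27739 : act 1 n13240 = n27739 := rfl
def n27740 : Q := act 2 n13240
theorem D27740 : act 2 n13240 = n27740 := rfl
theorem F44768 : act 3 n27740 = n18609 := d0_2 D13240 D27740 (iv2 D18609) (iv3 D8738) (iv2 F29762)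
theorem F44769 : act 7 n27740 = n18592 := d4_2 (iv7 F29766) D27740 (iv2 D18592)
theorem F44770 : act 1 n27740 = n18590 := d15_0 (iv0 D18590) (iv7 F29766) D27740
theorem F44771 : act 1 n27739 = n18592 := d15_1 D27739 (iv7 F44769) (iv2 D27740)
def n27741 : Q := act 4 n13240
theorem D27741 : act 4 n13240 = n27741 := rfl
theorem F44773 : act 7 n27741 = n18593 := d11_2 (iv7 F29766) D27741 (iv4 D18593)
def n27742 : Q := act 5 n13240
theorem D27742 : act 5 n13240 = n27742 := rfl
theorem F44774 : act 3 n27742 = n13242 := d6_1 D27742 (iv5 D13242) D13240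
theorem F44775 : act 7 n27742 = n18594 := d13_2 (iv7 F29766) D27742 (iv5 D18594)
theorem F44776 : act 6 n27696 = n27742 := d7_0 F44774 (iv6 F22042) D27696
def n27743 : Q := act 4 n13242
theorem D27743 : act 4 n13242 = n27743 := rfl
theorem F44777 : act 2 n27743 = n18616 := d1_1 D27743 (iv4 D18616) F29761
theorem F44778 : act 6 n27743 = n26951 := d10_2 F22042 D27743 F43476
theorem F44779 : act 7 n27743 = n18603 := d11_2 (iv7 F29768) D27743 (iv4 D18603)
def n27744 : Q := act 3 n13244
theorem D27744 : act 3 n13244 = n27744 := rfl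
theorem F44780 : act 7 n27744 = n18622 := d8_2 (iv7 F29891) D27744 (iv3 D18622)
def n27745 : Q := act 6 n13244
theorem D27745 : act 6 n13244 = n27745 := rfl
theorem F44781 : act 2 n27745 = n18621 := d3_1 D27745 (iv6 D18621) (iv2 F29889)
theorem F44782 : act 5 n27745 = n18872 := d21_6 (iv5 D1699) D1697 D3934 (iv6 F9789) D13244 D27745 (iv1 D18872) (iv5 F13744) (iv6 D8841) (iv1 D3937)
theorem F44783 : act 0 n18835 = n27745 := d21_4 (iv5 D3932) D3930 D8820 D18835 (iv6 D27745) F29890 F43139 (iv5 F43137) F43138 (iv1 D8828)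
def n27746 : Q := act 3 n13245
theorem D27746 : act 3 n13245 = n27746 := rfl
theorem F44784 : act 5 n27746 = n27277 := d6_2 F22044 D27746 F44121
theorem F44785 : act 7 n27746 = n18618 := d8_2 F29886 D27746 (iv3 D18618)
def n27747 : Q := act 6 n13245
theorem D27747 : act 6 n13245 = n27747 := rfl
theorem F44786 : act 2 n27747 = n18624 := d3_1 D27747 (iv6 D18624) (iv2 F29888)
theorem F44787 : act 5 n27747 = n18546 := d12_1 D27747 F29725 F13688 D13066 F22044
theorem F44788 : act 0 n27747 = n16855 := d21_4 F43137 F43136 F22044 D27747 (iv6 F43245) (iv5 D26846) F30018 (iv5 D18550) F13638 (iv1 F29833)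
theorem F44789 : act 1 n27747 = n16859 := d15_1 (iv0 F44788) (iv7 F43171) F43191
theorem F44790 : act 7 n27747 = n18545 := d15_2 (iv0 F44695) (iv0 F44788) (iv2 F44692)
def n27748 : Q := act 3 n13246
theorem D27748 : act 3 n13246 = n27748 := rfl
theorem F44791 : act 6 n27748 = n18866 := d7_2 (iv6 F22046) D27748 (iv3 D18866)
def n27749 : Q := act 5 n13246
theorem D27749 : act 5 n13246 = n27749 := rfl
theorem F44792 : act 2 n27749 = n18628 := d2_1 D27749 (iv5 D18628) (iv2 F22045)
def n27750 : Q := act 7 n13246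
theorem D27750 : act 7 n13246 = n27750 := rfl
theorem F44793 : act 2 n27750 = n18629 := d4_1 D27750 (iv7 D18629) (iv2 F22045)
theorem F44794 : act 4 n27750 = n13247 := d11_1 D27750 (iv7 D13247) D13246
theorem F44795 : act 1 n18626 = n27750 := d15_1 D18626 (iv7 D27750) F22045
theorem F44796 : act 1 n27750 = n18625 := d15_1 F44795 F41787 F41783
def n27751 : Q := act 6 n13247
theorem D27751 : act 6 n13247 = n27751 := rfl
theorem F44797 : act 2 n27751 = n18630 := d3_1 D27751 (iv6 D18630) (iv2 F22047)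
theorem F44798 : act 5 n27751 = n18559 := d12_1 D27751 (iv6 D18559) F13623 (iv6 F9791) (iv5 F22048)
theorem F44799 : act 7 n27751 = n13310 := d14_2 D13247 D27751 (iv6 D13310) F9824 (iv6 F9789)
theorem F44800 : act 0 n18542 = n27751 := d21_4 F22020 (iv1 F9778) D8706 D18542 (iv6 D27751) F22048 (iv1 F9793) D8740 (iv6 F13638) (iv1 F22023)
theorem F44801 : act 1 n18872 = n27751 := d15_1 D18872 F44799 F22115
def n27752 : Q := act 2 n13249
theorem D27752 : act 2 n13249 = n27752 := rfl
theorem F44802 : act 3 n27752 = n16258 := d0_2 D13249 D27752 (iv2 D16258) (iv3 D7572) (iv2 F27175)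
theorem F44803 : act 5 n27752 = n15630 := d2_2 (iv5 F25823) D27752 (iv2 F27167)
theorem F44804 : act 7 n27752 = n16235 := d4_2 (iv7 F27178) D27752 (iv2 D16235)
theorem F44805 : act 1 n27752 = n16016 := d15_0 F25785 (iv7 F27178) D27752
theorem F44806 : act 1 n16117 = n27752 := d15_0 F44805 (iv7 F25664) F25662
def n27753 : Q := act 6 n13249
theorem D27753 : act 6 n13249 = n27753 := rfl
theorem F44807 : act 3 n27753 = n13252 := d7_1 D27753 (iv6 D13252) D13249
def n27754 : Q := act 0 n13250
theorem D27754 : act 0 n13250 = n27754 := rfl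
theorem F44808 : act 4 n27754 = n26260 := d18_3 D6292 D13250 D27754 F41701 F20886 F11817 F11775 F11799 (iv5 F4233)
theorem F44809 : act 1 n13255 = n27754 := d15_0 (iv0 D27754) F27180 (iv2 F27171)
theorem F44810 : act 7 n16240 = n27754 := d11_0 F44808 F41702 F25797
theorem F44811 : act 2 n27754 = n16241 := d15_3 F25801 F25805 F44810
def n27755 : Q := act 1 n13250
theorem D27755 : act 1 n13250 = n27755 := rfl
theorem F44812 : act 1 n27755 = n13255 := d15_1 D27755 F27172 (iv2 F27179)
theorem F44813 : act 7 n27755 = n16241 := d15_2 (iv0 D27754) D27755 (iv2 F44811)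
theorem F44814 : act 2 n16240 = n27755 := d4_3 F44813 (iv2 F44811) (iv7 F44810)
def n27756 : Q := act 3 n13250
theorem D27756 : act 3 n13250 = n27756 := rfl
theorem F44815 : act 7 n27756 = n16242 := d8_2 (iv7 F27180) D27756 (iv3 D16242)
def n27757 : Q := act 5 n13250
theorem D27757 : act 5 n13250 = n27757 := rfl
theorem F44816 : act 2 n27757 = n16262 := d2_1 D27757 (iv5 D16262) (iv2 F27179)
theorem F44817 : act 7 n27757 = n16243 := d13_2 (iv7 F27180) D27757 (iv5 D16243)
def n27758 : Q := act 6 n13250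
theorem D27758 : act 6 n13250 = n27758 := rfl
theorem F44818 : act 2 n27758 = n16263 := d3_1 D27758 (iv6 D16263) (iv2 F27179)
theorem F44819 : act 4 n27758 = n13252 := d10_1 D27758 (iv6 D13252) D13250
def n27759 : Q := act 0 n13252
theorem D27759 : act 0 n13252 = n27759 := rfl
def n27760 : Q := act 1 n13252
theorem D27760 : act 1 n13252 = n27760 := rfl
theorem F44820 : act 1 n27760 = n16267 := d15_1 D27760 (iv7 D16267) (iv2 F27181)
def n27761 : Q := act 5 n13252
theorem D27761 : act 5 n13252 = n27761 := rfl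
theorem F44821 : act 2 n27761 = n16266 := d2_1 D27761 (iv5 D16266) (iv2 F27181)
def n27762 : Q := act 7 n13252
theorem D27762 : act 7 n13252 = n27762 := rfl
theorem F44822 : act 2 n27762 = n16267 := d4_1 D27762 (iv7 D16267) (iv2 F27181)
theorem F44823 : act 6 n27762 = n16254 := d14_1 D27762 (iv7 D16254) (iv6 D7570) (iv7 F27177) D13252
theorem F44824 : act 1 n16267 = n27759 := d15_0 (iv0 D27759) D27762 F44822
theorem F44825 : act 1 n16265 = n27762 := d15_1 D16265 (iv7 D27762) F27181
theorem F44826 : act 1 n27762 = n16264 := d15_0 (iv0 D16264) D16267 (iv2 F44822)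
def n27763 : Q := act 2 n13254
theorem D27763 : act 2 n13254 = n27763 := rfl
theorem F44827 : act 3 n27763 = n16235 := d0_2 D13254 D27763 (iv2 D16235) (iv3 D7567) F27170
theorem F44828 : act 5 n27763 = n16644 := d2_2 F26845 D27763 F27278
theorem F44829 : act 7 n27763 = n16258 := d4_2 (iv7 F27156) D27763 (iv2 D16258)
theorem F44830 : act 1 n27763 = n16184 := d15_0 F27192 (iv7 F27156) D27763
theorem F44831 : act 1 n15897 = n27763 := d15_0 F44830 F25712 (iv2 F25574)
theorem F44832 : act 4 n22637 = n27763 := d18_5 F35171 (iv4 D22639) (iv1 F34766) (iv4 F34768) D22637 F44830 (iv4 F41924) (iv0 D26311) (iv5 F30929)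
def n27764 : Q := act 4 n13254
theorem D27764 : act 4 n13254 = n27764 := rfl
theorem F44833 : act 2 n27764 = n22637 := d1_1 D27764 F44832 (iv2 D27763)
theorem F44834 : act 7 n27764 = n16259 := d11_2 (iv7 F27156) D27764 (iv4 D16259)
theorem F44835 : act 5 n27764 = n22280 := d16_1 D27764 F34759 F25811 (iv4 D16259) F25813 (iv4 F24915) F27153 (iv7 F44829) (iv2 D27763)
theorem F44836 : act 0 n27764 = n22720 := d18_2 (iv1 F26847) D27764 F35290 F27197 (iv4 F11718) (iv0 F11772) (iv4 F11794) F11814 D15668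
theorem F44837 : act 1 n27764 = n19613 := d18_6 D5944 D12496 (iv1 F27282) F27279 F26845 D27764 F31384 (iv0 D12505) (iv5 D5947)
theorem E5024 : n22635 = n22280 := ((c2_1 F44835 F35162 D22637 (iv2 F44833))).symm
theorem F44838 : act 2 n22280 = n10724 := (sb E5024 F35162)
theorem F44839 : act 7 n22280 = n10723 := (sb E5024 (iv7 D22635))
theorem E5025 : n22632 = n22281 := (c16_10 (iv4 F34768) D22637 F44832 F44828 F27279 F26845 D27764 F44835 F44839 D22632)
theorem F44840 : act 2 n22281 = n10723 := (sb E5025 (iv2 D22632))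
theorem F44841 : act 7 n22281 = n10724 := (sb E5025 (iv7 F35161))
theorem F44842 : act 7 n22636 = n19329 := d8_2 F44841 D22636 F34769
theorem F44843 : act 2 n19329 = n22673 := d15_3 F35233 F35164 F44842
theorem F44844 : act 2 n22636 = n19330 := d15_3 F35234 F35232 (iv7 F44842)
theorem F44845 : act 7 n19330 = n22673 := d4_2 (iv7 F44842) F44844 (iv2 F44843)
def n27765 : Q := act 6 n13254
theorem D27765 : act 6 n13254 = n27765 := rfl
theorem F44846 : act 3 n27765 = n13257 := d7_1 D27765 (iv6 D13257) D13254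
def n27766 : Q := act 3 n13255
theorem D27766 : act 3 n13255 = n27766 := rfl
theorem F44847 : act 7 n27766 = n16261 := d8_2 (iv7 F27172) D27766 (iv3 D16261)
def n27767 : Q := act 5 n13255
theorem D27767 : act 5 n13255 = n27767 := rfl
theorem F44848 : act 2 n27767 = n16243 := d2_1 D27767 (iv5 D16243) (iv2 F27171)
theorem F44849 : act 7 n27767 = n16262 := d13_2 (iv7 F27172) D27767 (iv5 D16262)
def n27768 : Q := act 6 n13255
theorem D27768 : act 6 n13255 = n27768 := rfl
theorem F44850 : act 2 n27768 = n16244 := d3_1 D27768 (iv6 D16244) (iv2 F27171)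
theorem F44851 : act 4 n27768 = n13257 := d10_1 D27768 (iv6 D13257) D13255
def n27769 : Q := act 0 n13257
theorem D27769 : act 0 n13257 = n27769 := rfl
def n27770 : Q := act 1 n13257
theorem D27770 : act 1 n13257 = n27770 := rfl
theorem F44852 : act 1 n27770 = n16254 := d15_1 D27770 (iv7 D16254) (iv2 F27173)
def n27771 : Q := act 5 n13257
theorem D27771 : act 5 n13257 = n27771 := rfl
theorem F44853 : act 2 n27771 = n16253 := d2_1 D27771 (iv5 D16253) (iv2 F27173)
def n27772 : Q := act 7 n13257
theorem D27772 : act 7 n13257 = n27772 := rfl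
theorem F44854 : act 2 n27772 = n16254 := d4_1 D27772 (iv7 D16254) (iv2 F27173)
theorem F44855 : act 6 n27772 = n16267 := d14_1 D27772 (iv7 D16267) (iv6 D7575) F27174 D13257
theorem F44856 : act 1 n16254 = n27769 := d15_0 (iv0 D27769) D27772 F44854
theorem F44857 : act 1 n16252 = n27772 := d15_1 D16252 (iv7 D27772) F27173
theorem F44858 : act 1 n27772 = n16251 := d15_0 (iv0 D16251) D16254 (iv2 F44854)
def n27773 : Q := act 0 n13258
theorem D27773 : act 0 n13258 = n27773 := rfl
def n27774 : Q := act 1 n13258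
theorem D27774 : act 1 n13258 = n27774 := rfl
theorem F44859 : act 1 n27774 = n13262 := d15_1 D27774 (iv7 D13262) (iv2 F22054)
def n27775 : Q := act 5 n13258
theorem D27775 : act 5 n13258 = n27775 := rfl
theorem F44860 : act 2 n27775 = n13261 := d2_1 D27775 (iv5 D13261) (iv2 F22054)
theorem F44861 : act 3 n27775 = n18651 := d6_1 D27775 (iv5 D18651) (iv3 F22055)
theorem F44862 : act 6 n27775 = n16106 := d12_2 D13258 D27775 (iv5 D16106) (iv6 D7519) (iv5 F9797)
def n27776 : Q := act 7 n13258
theorem D27776 : act 7 n13258 = n27776 := rfl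
theorem F44863 : act 2 n27776 = n13262 := d4_1 D27776 (iv7 D13262) (iv2 F22054)
theorem F44864 : act 3 n27776 = n18652 := d8_1 D27776 (iv7 D18652) (iv3 F22055)
theorem F44865 : act 6 n27776 = n16226 := d14_1 D27776 (iv7 D16226) (iv6 D7565) (iv7 F9798) D13258
theorem F44866 : act 1 n13262 = n27773 := d15_0 (iv0 D27773) D27776 F44863
theorem F44867 : act 1 n13260 = n27776 := d15_1 D13260 (iv7 D27776) F22054
theorem F44868 : act 1 n27776 = n13259 := d15_0 (iv0 D13259) D13262 (iv2 F44863)
def n27777 : Q := act 2 n13259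
theorem D27777 : act 2 n13259 = n27777 := rfl
theorem F44869 : act 7 n13260 = n27777 := d15_2 (iv0 D13259) D13260 (iv2 D27777)
def n27778 : Q := act 3 n13259
theorem D27778 : act 3 n13259 = n27778 := rfl
def n27779 : Q := act 4 n13259
theorem D27779 : act 4 n13259 = n27779 := rfl
def n27780 : Q := act 5 n13259
theorem D27780 : act 5 n13259 = n27780 := rfl
def n27781 : Q := act 6 n13259
theorem D27781 : act 6 n13259 = n27781 := rfl
def n27782 : Q := act 7 n13259
theorem D27782 : act 7 n13259 = n27782 := rfl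
theorem F44870 : act 2 n27782 = n13260 := d4_1 D27782 F44869 (iv2 D27777)
def n27783 : Q := act 3 n13260
theorem D27783 : act 3 n13260 = n27783 := rfl
def n27784 : Q := act 4 n13260
theorem D27784 : act 4 n13260 = n27784 := rfl
def n27785 : Q := act 5 n13260
theorem D27785 : act 5 n13260 = n27785 := rfl
def n27786 : Q := act 6 n13260
theorem D27786 : act 6 n13260 = n27786 := rfl
def n27787 : Q := act 0 n13261
theorem D27787 : act 0 n13261 = n27787 := rfl
def n27788 : Q := act 1 n13261
theorem D27788 : act 1 n13261 = n27788 := rfl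
def n27789 : Q := act 4 n13261
theorem D27789 : act 4 n13261 = n27789 := rfl
theorem F44871 : act 6 n27789 = n16308 := d10_2 (iv6 F22057) D27789 (iv4 D16308)
def n27790 : Q := act 7 n13261
theorem D27790 : act 7 n13261 = n27790 := rfl
theorem F44872 : act 3 n27790 = n13276 := d8_1 D27790 (iv7 D13276) (iv3 F22056)
theorem F44873 : act 5 n27790 = n13262 := d13_1 D27790 (iv7 D13262) D13261
def n27791 : Q := act 0 n13264
theorem D27791 : act 0 n13264 = n27791 := rfl
theorem F44874 : act 1 n18691 = n27791 := d15_0 (iv0 D27791) F30414 D18691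
def n27792 : Q := act 1 n13264
theorem D27792 : act 1 n13264 = n27792 := rfl
def n27793 : Q := act 2 n13264
theorem D27793 : act 2 n13264 = n27793 := rfl
theorem F44875 : act 3 n27793 = n18674 := d0_2 D13264 D27793 (iv2 D18674) (iv3 D8762) F30412
theorem F44876 : act 7 n27793 = n18691 := d4_2 (iv7 F30414) D27793 (iv2 D18691)
theorem F44878 : act 1 n27792 = n18691 := d15_1 D27792 (iv7 F44876) (iv2 D27793)
theorem F44879 : act 1 n18690 = n27793 := d15_1 D18690 F44876 (iv2 D18691)
def n27794 : Q := act 4 n13264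
theorem D27794 : act 4 n13264 = n27794 := rfl
theorem F44880 : act 7 n27794 = n18692 := d11_2 (iv7 F30414) D27794 (iv4 D18692)
def n27795 : Q := act 5 n13264
theorem D27795 : act 5 n13264 = n27795 := rfl
theorem F44881 : act 3 n27795 = n13266 := d6_1 D27795 (iv5 D13266) D13264
theorem F44882 : act 7 n27795 = n18693 := d13_2 (iv7 F30414) D27795 (iv5 D18693)
def n27796 : Q := act 6 n13264
theorem D27796 : act 6 n13264 = n27796 := rfl
theorem F44883 : act 3 n27796 = n13267 := d7_1 D27796 (iv6 D13267) D13264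
def n27797 : Q := act 0 n13266
theorem D27797 : act 0 n13266 = n27797 := rfl
theorem F44884 : act 5 n27797 = n26413 := d17_3 D6296 D13266 D27797 (iv4 F42201) F21794 F13678 (iv5 D6303) (iv0 D2641) (iv4 F4236)
theorem F44885 : act 1 n13271 = n27797 := d15_0 (iv0 D27797) F30416 (iv2 F30406)
theorem F44886 : act 1 n26413 = n16671 := d17_8 (iv1 F30482) F30454 (iv1 D19029) F13873 F29958 D13271 F44885 F44884 (iv4 F28971)
theorem F44887 : act 2 n18679 = n27797 := d2_3 F44884 F42200 F29946
theorem F44888 : act 7 n18680 = n27797 := d15_2 (iv0 D18679) D18680 (iv2 F44887)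
def n27798 : Q := act 1 n13266
theorem D27798 : act 1 n13266 = n27798 := rfl
theorem F44889 : act 1 n27798 = n13271 := d15_1 D27798 F30407 (iv2 F30415)
theorem F44890 : act 7 n27798 = n18679 := d15_2 (iv0 D27797) D27798 F44887
theorem F44891 : act 2 n18680 = n27798 := d4_3 F44890 F44887 (iv7 F44888)
def n27799 : Q := act 4 n13266
theorem D27799 : act 4 n13266 = n27799 := rfl
theorem F44892 : act 2 n27799 = n18681 := d1_1 D27799 (iv4 D18681) (iv2 F30415)
theorem F44893 : act 7 n27799 = n18695 := d11_2 (iv7 F30416) D27799 (iv4 D18695)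
def n27800 : Q := act 6 n13266
theorem D27800 : act 6 n13266 = n27800 := rfl
theorem F44894 : act 2 n27800 = n18682 := d3_1 D27800 (iv6 D18682) (iv2 F30415)
def n27801 : Q := act 7 n13267
theorem D27801 : act 7 n13267 = n27801 := rfl
theorem F44896 : act 4 n27801 = n17562 := d11_1 D27801 F30396 (iv4 F29957)
theorem F44897 : act 5 n27801 = n26812 := d13_1 D27801 F43093 (iv5 F27563)
theorem F44898 : act 6 n27801 = n18700 := d14_1 D27801 (iv7 D18700) (iv6 D8770) F30403 D13267
theorem F44899 : act 1 n18685 = n27801 := d15_1 D18685 (iv7 D27801) F30392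
theorem F44900 : act 1 n27801 = n16338 := d15_1 F44899 F42189 F29995
def n27802 : Q := act 0 n13269
theorem D27802 : act 0 n13269 = n27802 := rfl
theorem F44901 : act 1 n18674 = n27802 := d15_0 (iv0 D27802) F30405 D18674
def n27803 : Q := act 1 n13269
theorem D27803 : act 1 n13269 = n27803 := rfl
def n27804 : Q := act 2 n13269
theorem D27804 : act 2 n13269 = n27804 := rfl
theorem F44902 : act 3 n27804 = n18691 := d0_2 D13269 D27804 (iv2 D18691) (iv3 D8767) F30402
theorem F44903 : act 7 n27804 = n18674 := d4_2 (iv7 F30405) D27804 (iv2 D18674)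
theorem F44904 : act 1 n27804 = n18672 := d15_0 (iv0 D18672) (iv7 F30405) D27804
theorem F44905 : act 1 n27803 = n18674 := d15_1 D27803 (iv7 F44903) (iv2 D27804)
theorem F44906 : act 1 n18673 = n27804 := d15_1 D18673 F44903 (iv2 D18674)
def n27805 : Q := act 4 n13269
theorem D27805 : act 4 n13269 = n27805 := rfl
theorem F44907 : act 7 n27805 = n18675 := d11_2 (iv7 F30405) D27805 (iv4 D18675)
def n27806 : Q := act 5 n13269
theorem D27806 : act 5 n13269 = n27806 := rfl
theorem F44908 : act 3 n27806 = n13271 := d6_1 D27806 (iv5 D13271) D13269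
theorem F44909 : act 7 n27806 = n18676 := d13_2 (iv7 F30405) D27806 (iv5 D18676)
def n27807 : Q := act 6 n13269
theorem D27807 : act 6 n13269 = n27807 := rfl
theorem F44910 : act 3 n27807 = n13272 := d7_1 D27807 (iv6 D13272) D13269
def n27808 : Q := act 4 n13271
theorem D27808 : act 4 n13271 = n27808 := rfl
theorem F44911 : act 2 n27808 = n18695 := d1_1 D27808 (iv4 D18695) (iv2 F30406)
theorem F44912 : act 7 n27808 = n18681 := d11_2 (iv7 F30407) D27808 (iv4 D18681)
def n27809 : Q := act 6 n13271
theorem D27809 : act 6 n13271 = n27809 := rfl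
theorem F44913 : act 2 n27809 = n18696 := d3_1 D27809 (iv6 D18696) (iv2 F30406)
def n27810 : Q := act 5 n13272
theorem D27810 : act 5 n13272 = n27810 := rfl
theorem F44914 : act 2 n27810 = n18699 := d2_1 D27810 (iv5 D18699) (iv2 F30410)
theorem F44915 : act 0 n27810 = n26469 := d17_2 (iv1 F30409) D27810 (iv5 D26469) F30387 (iv5 F13619) (iv0 F13672) F13671 F13696 D17980
theorem F44916 : act 1 n27810 = n26466 := d17_6 D6177 D13002 (iv1 F28238) (iv5 F30398) (iv4 F30411) D27810 (iv5 D26466) (iv0 D12631) F9319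
def n27811 : Q := act 7 n13272
theorem D27811 : act 7 n13272 = n27811 := rfl
theorem F44917 : act 2 n27811 = n18700 := d4_1 D27811 (iv7 D18700) (iv2 F30410)
theorem F44918 : act 4 n27811 = n17293 := d11_1 D27811 F30382 (iv4 F30411)
theorem F44919 : act 6 n27811 = n18687 := d14_1 D27811 (iv7 D18687) (iv6 D8765) F30413 D13272
theorem F44920 : act 1 n16367 = n27811 := d15_1 (iv0 F42337) (iv7 D27811) F30410
theorem F44921 : act 1 n27811 = n18697 := d15_1 F44920 F30364 (iv2 F42338)
def n27812 : Q := act 2 n13273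
theorem D27812 : act 2 n13273 = n27812 := rfl
theorem F44922 : act 7 n13274 = n27812 := d15_2 (iv0 D13273) D13274 (iv2 D27812)
def n27813 : Q := act 3 n13273
theorem D27813 : act 3 n13273 = n27813 := rfl
def n27814 : Q := act 4 n13273
theorem D27814 : act 4 n13273 = n27814 := rfl
def n27815 : Q := act 5 n13273
theorem D27815 : act 5 n13273 = n27815 := rfl
theorem F44923 : act 4 n27815 = n17673 := d17_4 (iv1 D6297) D6298 D13273 D27815 (iv5 D17673) (iv0 D8323) (iv5 F5886) D8851 F29958
theorem F44924 : act 1 n27815 = n15992 := d17_8 F29270 (iv5 D12829) (iv1 F9427) F5583 (iv4 F5859) (iv5 F13649) F22067 D27815 F29945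
def n27816 : Q := act 6 n13273
theorem D27816 : act 6 n13273 = n27816 := rfl
def n27817 : Q := act 7 n13273
theorem D27817 : act 7 n13273 = n27817 := rfl
theorem F44925 : act 2 n27817 = n13274 := d4_1 D27817 F44922 (iv2 D27812)
def n27818 : Q := act 3 n13274
theorem D27818 : act 3 n13274 = n27818 := rfl
def n27819 : Q := act 4 n13274
theorem D27819 : act 4 n13274 = n27819 := rfl
def n27820 : Q := act 6 n13274
theorem D27820 : act 6 n13274 = n27820 := rfl
def n27821 : Q := act 0 n13275
theorem D27821 : act 0 n13275 = n27821 := rfl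
theorem F44926 : act 4 n27821 = n19011 := d18_3 (iv1 D13274) D13275 D27821 (iv5 F43133) (iv4 D26832) (iv0 F29270) (iv4 F29945) F43211 F42955
theorem F44927 : act 1 n18714 = n27821 := d18_6 F30436 (iv4 D6302) (iv1 F4239) (iv4 F5859) (iv5 F13649) (iv4 F29967) F44926 (iv0 D19011) (iv5 D8903)
def n27822 : Q := act 1 n13275
theorem D27822 : act 1 n13275 = n27822 := rfl
theorem F44928 : act 1 n27822 = n18714 := d15_1 D27822 (iv7 D18714) (iv2 F22063)
def n27823 : Q := act 3 n13275
theorem D27823 : act 3 n13275 = n27823 := rfl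
theorem F44929 : act 6 n27823 = n16447 := d7_2 (iv6 F22064) D27823 (iv3 D16447)
def n27824 : Q := act 5 n13275
theorem D27824 : act 5 n13275 = n27824 := rfl
theorem F44930 : act 2 n27824 = n18713 := d2_1 D27824 (iv5 D18713) (iv2 F22063)
theorem F44931 : act 4 n27824 = n16808 := d9_1 D27824 F27565 F12398 F5583 (iv4 F5859) (iv5 F13649) (iv4 F29967) (iv5 F43097) (iv4 D26813) (iv5 D12824) F9423 F4075 (iv4 F4236) D6298 D13275
theorem F44932 : act 7 n27824 = n16807 := d16_8 (iv4 D26813) (iv5 D12824) F9423 F4075 (iv4 F4236) D6298 D13275 D27824 (iv2 F43095)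
def n27825 : Q := act 7 n13275
theorem D27825 : act 7 n13275 = n27825 := rfl
theorem F44933 : act 2 n27825 = n18714 := d4_1 D27825 (iv7 D18714) (iv2 F22063)
theorem F44934 : act 4 n27825 = n13276 := d11_1 D27825 (iv7 D13276) D13275
theorem F44935 : act 5 n27825 = n16807 := d13_1 D27825 (iv7 F44932) (iv5 D27824)
theorem F44936 : act 1 n18711 = n27825 := d15_1 D18711 (iv7 D27825) F22063
theorem F44937 : act 1 n27825 = n18710 := d15_0 (iv0 D18710) D18714 (iv2 F44933)
def n27826 : Q := act 6 n13276
theorem D27826 : act 6 n13276 = n27826 := rfl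
theorem F44938 : act 2 n27826 = n18715 := d3_1 D27826 (iv6 D18715) (iv2 F22065)
theorem F44939 : act 5 n27826 = n15235 := d12_1 D27826 (iv6 D15235) F11535 (iv6 F9808) (iv5 F22066)
theorem F44940 : act 7 n27826 = n15238 := d14_2 D13276 D27826 F24831 F11536 (iv6 F9805)
def n27827 : Q := act 2 n13277
theorem D27827 : act 2 n13277 = n27827 := rfl
def n27828 : Q := act 3 n13277
theorem D27828 : act 3 n13277 = n27828 := rfl
def n27829 : Q := act 4 n13277
theorem D27829 : act 4 n13277 = n27829 := rfl
def n27830 : Q := act 5 n13277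
theorem D27830 : act 5 n13277 = n27830 := rfl
def n27831 : Q := act 6 n13277
theorem D27831 : act 6 n13277 = n27831 := rfl
def n27832 : Q := act 7 n13277
theorem D27832 : act 7 n13277 = n27832 := rfl
def n27833 : Q := act 3 n13278
theorem D27833 : act 3 n13278 = n27833 := rfl
def n27834 : Q := act 4 n13278
theorem D27834 : act 4 n13278 = n27834 := rfl
def n27835 : Q := act 5 n13278
theorem D27835 : act 5 n13278 = n27835 := rfl
def n27837 : Q := act 4 n13279
theorem D27837 : act 4 n13279 = n27837 := rfl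
theorem F44943 : act 2 n27837 = n13280 := d1_1 D27837 (iv4 D13280) D13279
theorem F44944 : act 7 n27837 = n18784 := d11_2 (iv7 F22072) D27837 (iv4 D18784)
theorem F44945 : act 1 n18788 = n27837 := d15_1 D18788 F44944 F30031
theorem F44946 : act 1 n27837 = n18787 := d15_0 (iv0 D18787) (iv7 F22076) (iv2 F44943)
def n27838 : Q := act 5 n13279
theorem D27838 : act 5 n13279 = n27838 := rfl
theorem F44947 : act 2 n27838 = n13281 := d2_1 D27838 (iv5 D13281) D13279
theorem F44948 : act 3 n27838 = n18727 := d6_1 D27838 (iv5 D18727) (iv3 F22071)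
theorem F44949 : act 7 n27838 = n18785 := d13_2 (iv7 F22072) D27838 (iv5 D18785)
theorem F44950 : act 1 n18793 = n27838 := d15_1 D18793 F44949 F30032
theorem F44951 : act 1 n27838 = n18792 := d15_0 (iv0 D18792) (iv7 F22078) (iv2 F44947)
def n27839 : Q := act 0 n13280
theorem D27839 : act 0 n13280 = n27839 := rfl
theorem F44952 : act 1 n18784 = n27839 := d15_0 (iv0 D27839) F22076 (iv2 F30031)
def n27840 : Q := act 1 n13280
theorem D27840 : act 1 n13280 = n27840 := rfl
theorem F44953 : act 1 n27840 = n18784 := d15_1 D27840 (iv7 F44944) F44943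
def n27841 : Q := act 3 n13280
theorem D27841 : act 3 n13280 = n27841 := rfl
theorem F44954 : act 4 n27841 = n13284 := d5_2 D13280 D27841 (iv3 D13284) (iv4 D6302) D6301
theorem F44955 : act 7 n27841 = n18789 := d8_2 (iv7 F22076) D27841 (iv3 D18789)
def n27842 : Q := act 5 n13280
theorem D27842 : act 5 n13280 = n27842 := rfl
theorem F44956 : act 7 n27842 = n18790 := d13_2 (iv7 F22076) D27842 (iv5 D18790)
def n27843 : Q := act 0 n13281
theorem D27843 : act 0 n13281 = n27843 := rfl
theorem F44957 : act 1 n18785 = n27843 := d15_0 (iv0 D27843) F22078 (iv2 F30032)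
def n27844 : Q := act 1 n13281
theorem D27844 : act 1 n13281 = n27844 := rfl
theorem F44958 : act 1 n27844 = n18785 := d15_1 D27844 (iv7 F44949) F44947
def n27845 : Q := act 4 n13281
theorem D27845 : act 4 n13281 = n27845 := rfl
theorem F44959 : act 7 n27845 = n18794 := d11_2 (iv7 F22078) D27845 (iv4 D18794)
def n27846 : Q := act 3 n13282
theorem D27846 : act 3 n13282 = n27846 := rfl
theorem F44960 : act 6 n27846 = n13660 := d7_2 (iv6 F30434) D27846 F22814
theorem F44961 : act 7 n27846 = n13661 := d8_2 (iv7 F30435) D27846 F22815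
def n27847 : Q := act 5 n13282
theorem D27847 : act 5 n13282 = n27847 := rfl
theorem F44962 : act 2 n27847 = n18743 := d2_1 D27847 (iv5 D18743) (iv2 F30432)
theorem F44963 : act 7 n27847 = n13678 := d13_2 (iv7 F30435) D27847 (iv5 D13678)
theorem F44964 : act 0 n27847 = n19012 := d17_2 D13282 D27847 (iv5 F43242) (iv4 D26845) (iv5 D12834) F9424 F5583 F4239 D6302
theorem F44965 : act 1 n27847 = n19011 := d17_6 F30456 (iv5 D17132) (iv1 F13138) (iv5 F13778) (iv4 F30433) D27847 (iv5 F43133) F43134 F30455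
theorem F44966 : act 4 n19012 = n27822 := d18_1 F44964 (iv1 D27822) (iv4 D13275) (iv5 D6298) F4236 D2642 D6306 F22079 D27847
def n27848 : Q := act 0 n13284
theorem D27848 : act 0 n13284 = n27848 := rfl
theorem F44967 : act 1 n18800 = n27848 := d15_0 (iv0 D27848) F22081 D18800
def n27849 : Q := act 1 n13284
theorem D27849 : act 1 n13284 = n27849 := rfl
def n27850 : Q := act 2 n13284
theorem D27850 : act 2 n13284 = n27850 := rfl
theorem F44968 : act 3 n27850 = n18752 := d0_2 D13284 D27850 (iv2 D18752) (iv3 D8790) (iv2 F13708)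
theorem F44969 : act 7 n27850 = n18800 := d4_2 (iv7 F22081) D27850 (iv2 D18800)
theorem F44970 : act 1 n27850 = n18798 := d15_0 (iv0 D18798) (iv7 F22081) D27850
theorem F44971 : act 1 n27849 = n18800 := d15_1 D27849 (iv7 F44969) (iv2 D27850)
theorem F44972 : act 1 n18799 = n27850 := d15_1 D18799 F44969 (iv2 D18800)
def n27851 : Q := act 5 n13284
theorem D27851 : act 5 n13284 = n27851 := rfl
theorem F44973 : act 3 n27851 = n13285 := d6_1 D27851 (iv5 D13285) D13284
theorem F44974 : act 7 n27851 = n18801 := d13_2 (iv7 F22081) D27851 (iv5 D18801)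
def n27852 : Q := act 0 n13285
theorem D27852 : act 0 n13285 = n27852 := rfl

end Cfsg.Agent.Helper17.ONTC
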